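import Mathlib
import Cfsg.Prelude.Def_KGroupFacts

set_option autoImplicit false

namespace Cfsg.Agent.Lib.Helper66

open scoped commutatorElement

universe u v w

/-- If a group is generated by `S` and all commutators of elements of `S` lie in the normal subgroup `N`,
then the commutator subgroup lies in `N`. -/
theorem commutator_le_of_closure {Γ : Type u} [Group Γ] (S : Set Γ) (hS : Subgroup.closure S = ⊤)
    (N : Subgroup Γ) [N.Normal] (h : ∀ s ∈ S, ∀ t ∈ S, ⁅s, t⁆ ∈ N) : commutator Γ ≤ N := by
  -- the centralizer of the image of S in the quotient is everything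
  have key : ∀ x y : Γ, ⁅x, y⁆ ∈ N := by
    have h1 : ∀ t ∈ S, ∀ x : Γ, ⁅x, t⁆ ∈ N := by
      intro t ht x
      have hx : x ∈ Subgroup.closure S := by rw [hS]; trivial
      induction hx using Subgroup.closure_induction with
      | mem s hs => exact h s hs t ht
      | one => simp
      | mul a b _ _ ha hb =>
        rw [commutatorElement_mul_left_eq_conj_mul]
        exact N.mul_mem (‹N.Normal›.conj_mem _ hb a) ha
      | inv a _ ha =>
        rw [commutatorElement_inv_left]
        have h2 : ⁅t, a⁆ ∈ N := by rw [← commutatorElement_inv]; exact N.inv_mem ha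
        simpa using ‹N.Normal›.conj_mem _ h2 a⁻¹
    intro x y
    have hy : y ∈ Subgroup.closure S := by rw [hS]; trivial
    induction hy using Subgroup.closure_induction with
    | mem s hs => exact h1 s hs x
    | one => simp
    | mul a b _ _ ha hb =>
      rw [commutatorElement_mul_right_eq_mul_conj, mul_assoc, mul_assoc, ← mul_assoc a]
      exact N.mul_mem ha (‹N.Normal›.conj_mem _ hb a)
    | inv a _ ha =>
      rw [commutatorElement_inv_right]
      have h2 : ⁅a, x⁆ ∈ N := by rw [← commutatorElement_inv]; exact N.inv_mem ha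
      simpa using ‹N.Normal›.conj_mem _ h2 a⁻¹
  rw [commutator_eq_closure, Subgroup.closure_le]
  rintro _ ⟨x, y, rfl⟩
  exact key x y

/-- In a stem extension a subgroup that maps onto the quotient is everything. -/
theorem IsStemExtension.eq_top_of_map_eq_top {Γ : Type u} {G : Type v} [Group Γ] [Group G] {σ : Γ →* G}
    (hσ : Cfsg.IsStemExtension σ) (H : Subgroup Γ) (hH : H.map σ = ⊤) : H = ⊤ := by
  obtain ⟨-, h2, h3⟩ := hσ
  have hsup : H ⊔ σ.ker = ⊤ := by
    rw [← Subgroup.comap_map_eq, hH, Subgroup.comap_top]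
  have hnorm : H.Normal := by
    have : Subgroup.normalizer (H : Set Γ) = ⊤ := by
      rw [eq_top_iff, ← hsup, sup_le_iff]
      refine ⟨Subgroup.le_normalizer, ?_⟩
      exact h2.trans (Subgroup.center_le_normalizer _)
    exact Subgroup.normalizer_eq_top_iff.mp this
  have hcl : Subgroup.closure ((H : Set Γ) ∪ (σ.ker : Set Γ)) = ⊤ := by
    rw [Subgroup.closure_union, Subgroup.closure_eq, Subgroup.closure_eq, hsup]
  have hcomm : commutator Γ ≤ H := by
    apply commutator_le_of_closure _ hcl
    rintro s (hs | hs) t (ht | ht)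
    · rw [commutatorElement_def]
      exact H.mul_mem (H.mul_mem (H.mul_mem hs ht) (H.inv_mem hs)) (H.inv_mem ht)
    · have : ⁅s, t⁆ = 1 := by
        rw [commutatorElement_eq_one_iff_mul_comm]
        exact (Subgroup.mem_center_iff.mp (h2 ht)) s
      rw [this]; exact H.one_mem
    · have : ⁅s, t⁆ = 1 := by
        rw [commutatorElement_eq_one_iff_mul_comm]
        exact ((Subgroup.mem_center_iff.mp (h2 hs)) t).symm
      rw [this]; exact H.one_mem
    · have : ⁅s, t⁆ = 1 := by
        rw [commutatorElement_eq_one_iff_mul_comm]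
        exact ((Subgroup.mem_center_iff.mp (h2 hs)) t).symm
      rw [this]; exact H.one_mem
  rw [eq_top_iff, ← hsup, sup_le_iff]
  exact ⟨le_rfl, h3.trans hcomm⟩

/-- In a stem extension, lifts of generators generate. -/
theorem IsStemExtension.closure_eq_top {Γ : Type u} {G : Type v} [Group Γ] [Group G] {σ : Γ →* G}
    (hσ : Cfsg.IsStemExtension σ) (S : Set Γ) (hS : Subgroup.closure (σ '' S) = ⊤) :
    Subgroup.closure S = ⊤ := by
  apply IsStemExtension.eq_top_of_map_eq_top hσ
  rw [MonoidHom.map_closure, hS]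

theorem commutatorElement_pow_right_of_central {Γ : Type u} [Group Γ] (a b : Γ)
    (h : ⁅a, b⁆ ∈ Subgroup.center Γ) (k : ℕ) : ⁅a, b ^ k⁆ = ⁅a, b⁆ ^ k := by
  induction k with
  | zero => simp
  | succ k ih =>
    rw [pow_succ, commutatorElement_mul_right_eq_mul_conj, ih, pow_succ, mul_assoc, mul_assoc,
      ← mul_assoc (b ^ k), (Subgroup.mem_center_iff.mp h) (b ^ k)]
    group

theorem commutatorElement_pow_left_of_central {Γ : Type u} [Group Γ] (a b : Γ)
    (h : ⁅a, b⁆ ∈ Subgroup.center Γ) (k : ℕ) : ⁅a ^ k, b⁆ = ⁅a, b⁆ ^ k := by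
  have h' : ⁅b, a⁆ ∈ Subgroup.center Γ := by
    rw [← commutatorElement_inv]; exact inv_mem h
  rw [← commutatorElement_inv, commutatorElement_pow_right_of_central b a h', ← inv_pow,
    commutatorElement_inv]

/-- A group all of whose elements are powers of `c` with `c ^ n = 1` is an image of `ZMod n`. -/
theorem exists_surj_zmod_of_zpowers {H : Type u} [Group H] (c : H) (n : ℕ) (hc : c ^ n = 1)
    (htop : ∀ x : H, x ∈ Subgroup.zpowers c) :
    ∃ π : Multiplicative (ZMod n) →* H, Function.Surjective π := by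
  let f0 : ℤ →+ Additive H := zmultiplesHom (Additive H) (Additive.ofMul c)
  have hf0 : f0 n = 0 := by
    simp only [f0, zmultiplesHom_apply, natCast_zsmul]
    rw [← ofMul_pow, hc]; rfl
  let f1 : ZMod n →+ Additive H := ZMod.lift n ⟨f0, hf0⟩
  refine ⟨AddMonoidHom.toMultiplicativeLeft f1, ?_⟩
  intro x
  obtain ⟨k, hk⟩ := Subgroup.mem_zpowers_iff.mp (htop x)
  refine ⟨Multiplicative.ofAdd (k : ZMod n), ?_⟩
  change (f1 (k : ZMod n)).toMul = x
  simp only [f1, ZMod.lift_coe, f0, zmultiplesHom_apply]
  rw [← hk]; rfl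

end Cfsg.Agent.Lib.Helper66
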