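import Mathlib
import Cfsg.Prelude.Def_KGroupFacts
import Cfsg.Agent.Lib.Helper66.StemLemmas

set_option autoImplicit false

namespace Cfsg.Agent.Lib.Helper66

open scoped commutatorElement

universe u v w

theorem zpowers_normal_of_closure {Γ : Type u} [Group Γ] (S : Set Γ) (hS : Subgroup.closure S = ⊤) (c : Γ)
    (h : ∀ s ∈ S, s * c * s⁻¹ = c ∨ s * c * s⁻¹ = c⁻¹) : (Subgroup.zpowers c).Normal := by
  rw [← Subgroup.normalizer_eq_top_iff, eq_top_iff, ← hS, Subgroup.closure_le]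
  intro s hs
  rw [SetLike.mem_coe, Subgroup.mem_normalizer_iff_map_conj_eq, MonoidHom.map_zpowers]
  rcases h s hs with h1 | h1
  · simp [MulAut.conj_apply, h1]
  · simp [MulAut.conj_apply, h1]

/-- Stem extensions of groups generated by `x, y` with `y x y⁻¹ = x⁻¹`. -/
theorem inv_cyclic_stem {Γ : Type u} {G : Type v} [Group Γ] [Group G] {σ : Γ →* G}
    (hσ : Cfsg.IsStemExtension σ) (α ξ : Γ) (hgen : Subgroup.closure ({σ α, σ ξ} : Set G) = ⊤)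
    (hinv : σ ξ * σ α * (σ ξ)⁻¹ = (σ α)⁻¹) :
    ∃ z : Γ, z ∈ Subgroup.center Γ ∧ (∀ k : ℕ, ξ * α ^ k * ξ⁻¹ = z ^ k * (α ^ k)⁻¹) ∧
      (∀ k : ℕ, ⁅ξ, α⁆ ^ k = z ^ k * (α ^ (2 * k))⁻¹) ∧ σ.ker ≤ Subgroup.zpowers ⁅ξ, α⁆ := by
  have hcl : Subgroup.closure ({α, ξ} : Set Γ) = ⊤ := by
    apply IsStemExtension.closure_eq_top hσ
    rw [Set.image_pair, hgen]
  have hzker : ξ * α * ξ⁻¹ * α ∈ σ.ker := by
    rw [MonoidHom.mem_ker]
    simp only [map_mul, map_inv, hinv]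
    simp
  have hz : ξ * α * ξ⁻¹ * α ∈ Subgroup.center Γ := hσ.2.1 hzker
  set z := ξ * α * ξ⁻¹ * α with hzdef
  have hzc : ∀ g : Γ, Commute z g := fun g => ((Subgroup.mem_center_iff.mp hz) g).symm
  have h1 : ξ * α * ξ⁻¹ = z * α⁻¹ := by rw [hzdef]; group
  have h2 : ∀ k : ℕ, ξ * α ^ k * ξ⁻¹ = z ^ k * (α ^ k)⁻¹ := by
    intro k
    rw [← conj_pow, h1, (hzc α⁻¹).mul_pow, inv_pow]
  have hc : ⁅ξ, α⁆ = z * (α ^ 2)⁻¹ := by
    rw [commutatorElement_def, h1]; group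
  have h3 : ∀ k : ℕ, ⁅ξ, α⁆ ^ k = z ^ k * (α ^ (2 * k))⁻¹ := by
    intro k
    rw [hc, (hzc _).mul_pow, inv_pow, ← pow_mul]
  refine ⟨z, hz, h2, h3, ?_⟩
  have hnormal : (Subgroup.zpowers ⁅ξ, α⁆).Normal := by
    apply zpowers_normal_of_closure _ hcl
    intro s hs
    simp only [Set.mem_insert_iff, Set.mem_singleton_iff] at hs
    rcases hs with hs | hs <;> rw [hs]
    · left
      rw [hc, ← mul_assoc, ← (hzc α).eq]
      group
    · right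
      have h4 := h2 2
      calc ξ * ⁅ξ, α⁆ * ξ⁻¹ = ξ * z * ξ⁻¹ * (ξ * α ^ 2 * ξ⁻¹)⁻¹ := by rw [hc]; group
        _ = z * (z ^ 2 * (α ^ 2)⁻¹)⁻¹ := by rw [h4, ← (hzc ξ).eq]; group
        _ = z * (α ^ 2 * (z ^ 2)⁻¹) := by group
        _ = z * ((z ^ 2)⁻¹ * α ^ 2) := by
            rw [(((hzc (α ^ 2)).pow_left 2).inv_left).eq]
        _ = ⁅ξ, α⁆⁻¹ := by
            rw [hc, mul_inv_rev, inv_inv, ((hzc (α ^ 2)).inv_left).eq.symm]; group
  have hle : commutator Γ ≤ Subgroup.zpowers ⁅ξ, α⁆ := by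
    apply commutator_le_of_closure _ hcl
    intro s hs t ht
    simp only [Set.mem_insert_iff, Set.mem_singleton_iff] at hs ht
    rcases hs with hs | hs <;> rcases ht with ht | ht <;> rw [hs, ht]
    · simp
    · rw [← commutatorElement_inv ξ α]; exact (Subgroup.zpowers _).inv_mem (Subgroup.mem_zpowers _)
    · exact Subgroup.mem_zpowers _
    · simp
  exact hσ.2.2.trans hle

end Cfsg.Agent.Lib.Helper66
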