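import Mathlib
import Cfsg.Prelude.Def_KGroupFacts
import Cfsg.Agent.Lib.Helper66.InvCyclic

set_option autoImplicit false

namespace Cfsg.Agent.Lib.Helper66

open scoped commutatorElement
open DihedralGroup in
theorem dihedral_closure (n : ℕ) : Subgroup.closure ({r 1, sr 0} : Set (DihedralGroup n)) = ⊤ := by
  rw [eq_top_iff]
  intro x _
  have hr : ∀ i : ZMod n, r i ∈ Subgroup.closure ({r 1, sr 0} : Set (DihedralGroup n)) := by
    intro i
    obtain ⟨k, rfl⟩ := ZMod.intCast_surjective i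
    rw [← r_one_zpow]
    exact zpow_mem (Subgroup.subset_closure (by simp)) _
  cases x with
  | r i => exact hr i
  | sr i =>
    have : (sr i : DihedralGroup n) = sr 0 * r i := by simp
    rw [this]
    exact mul_mem (Subgroup.subset_closure (by simp)) (hr i)

open DihedralGroup in
theorem dihedral_stem (n : ℕ) {Γ : Type} [Group Γ] (σ : Γ →* DihedralGroup n)
    (hσ : Cfsg.IsStemExtension σ) :
    ∃ c : Γ, c ^ n = 1 ∧ σ c = r (-2) ∧ σ.ker ≤ Subgroup.zpowers c := by
  obtain ⟨α, hα⟩ := hσ.1 (r 1)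
  obtain ⟨ξ, hξ⟩ := hσ.1 (sr 0)
  obtain ⟨z, hz, h2, h3, h4⟩ := inv_cyclic_stem hσ α ξ (by rw [hα, hξ]; exact dihedral_closure n)
    (by rw [hα, hξ]; simp)
  refine ⟨⁅ξ, α⁆, ?_, ?_, h4⟩
  · have h5 : α ^ n ∈ Subgroup.center Γ := by
      apply hσ.2.1
      rw [MonoidHom.mem_ker, map_pow, hα, r_one_pow_n]
    have h6 := h2 n
    rw [(Subgroup.mem_center_iff.mp h5) ξ, mul_inv_cancel_right] at h6
    rw [h3, two_mul, pow_add]
    have h7 : z ^ n = α ^ n * α ^ n := by
      rw [eq_mul_inv_iff_mul_eq] at h6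
      exact h6.symm
    rw [h7, mul_inv_cancel]
  · rw [map_commutatorElement, hα, hξ, commutatorElement_def]
    simp only [sr_mul_r, inv_sr, sr_mul_sr, inv_r, r_mul_r]
    congr 1
    ring

open QuaternionGroup in
theorem quaternion_closure (n : ℕ) : Subgroup.closure ({a 1, xa 0} : Set (QuaternionGroup n)) = ⊤ := by
  rw [eq_top_iff]
  intro x _
  have hr : ∀ i : ZMod (2 * n), a i ∈ Subgroup.closure ({a 1, xa 0} : Set (QuaternionGroup n)) := by
    intro i
    obtain ⟨k, rfl⟩ := ZMod.intCast_surjective i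
    have : (a (k : ZMod (2 * n)) : QuaternionGroup n) = (a 1) ^ k := by
      induction k using Int.induction_on with
      | zero => simp
      | succ i ih =>
        rw [zpow_add_one, ← ih]; simp
      | pred i ih =>
        rw [zpow_sub_one, ← ih]
        have : (a 1 : QuaternionGroup n)⁻¹ = a (-1) := rfl
        rw [this]
        simp [sub_eq_add_neg]
    rw [this]
    exact zpow_mem (Subgroup.subset_closure (by simp)) _
  cases x with
  | a i => exact hr i
  | xa i =>
    have : (xa i : QuaternionGroup n) = xa 0 * a i := by simp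
    rw [this]
    exact mul_mem (Subgroup.subset_closure (by simp)) (hr i)

open QuaternionGroup in
theorem quaternion_stem (n : ℕ) {Γ : Type} [Group Γ] (σ : Γ →* QuaternionGroup n)
    (hσ : Cfsg.IsStemExtension σ) :
    ∃ c : Γ, c ^ n = 1 ∧ σ c = a (-2) ∧ σ.ker ≤ Subgroup.zpowers c := by
  obtain ⟨α, hα⟩ := hσ.1 (a 1)
  obtain ⟨ξ, hξ⟩ := hσ.1 (xa 0)
  have hinvxa : ∀ i : ZMod (2 * n), (xa i : QuaternionGroup n)⁻¹ = xa ((n : ZMod (2 * n)) + i) := fun i => rfl
  have hinva : ∀ i : ZMod (2 * n), (a i : QuaternionGroup n)⁻¹ = a (-i) := fun i => rfl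
  have h2n : ((n : ZMod (2 * n)) + n) = 0 := by
    have : ((2 * n : ℕ) : ZMod (2 * n)) = 0 := ZMod.natCast_self _
    rw [← this]; push_cast; ring
  obtain ⟨z, hz, h2, h3, h4⟩ := inv_cyclic_stem hσ α ξ (by rw [hα, hξ]; exact quaternion_closure n)
    (by
      rw [hα, hξ, hinvxa, hinva]
      simp only [xa_mul_a, xa_mul_xa]
      congr 1
      linear_combination h2n)
  refine ⟨⁅ξ, α⁆, ?_, ?_, h4⟩
  · have h5 : ξ ^ 2 * (α ^ n)⁻¹ ∈ Subgroup.center Γ := by
      apply hσ.2.1
      rw [MonoidHom.mem_ker, map_mul, map_inv, map_pow, map_pow, hα, hξ, xa_sq, a_one_pow, mul_inv_cancel]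
    set w := ξ ^ 2 * (α ^ n)⁻¹ with hw
    have h6 : ξ ^ 2 = w * α ^ n := by rw [hw]; group
    have h7 : ξ * ξ ^ 2 * ξ⁻¹ = ξ ^ 2 := by group
    have h8 : ξ * (w * α ^ n) * ξ⁻¹ = w * (z ^ n * (α ^ n)⁻¹) := by
      rw [← h2 n, ← mul_assoc, (Subgroup.mem_center_iff.mp h5) ξ]; group
    rw [h6, h8] at h7
    have h9 : z ^ n * (α ^ n)⁻¹ = α ^ n := mul_left_cancel h7
    rw [h3, two_mul, pow_add]
    have h10 : z ^ n = α ^ n * α ^ n := by
      rw [mul_inv_eq_iff_eq_mul] at h9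
      exact h9
    rw [h10, mul_inv_cancel]
  · rw [map_commutatorElement, hα, hξ, commutatorElement_def, hinvxa, hinva]
    simp only [xa_mul_a, xa_mul_xa, a_mul_a]
    congr 1
    linear_combination h2n

end Cfsg.Agent.Lib.Helper66
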