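import Mathlib

set_option autoImplicit false

namespace Cfsg.Agent.Lib.Helper66

universe u

theorem aut_trivial_of_trivial_on_omega {H : Type u} [CommGroup H] {p q : ℕ}
    (hH : IsPGroup p H) (α : MulAut H) (hq : α ^ q = 1) (hqp : Nat.Coprime q p)
    (h : ∀ x : H, x ^ p = 1 → α x = x) : α = 1 := by
  have key : ∀ (k : ℕ) (x : H), x ^ (p ^ k) = 1 → α x = x := by
    intro k
    induction k with
    | zero => intro x hx; rw [pow_zero, pow_one] at hx; rw [hx, map_one]
    | succ k ih =>
      intro x hx
      have h1 : α (x ^ p) = x ^ p := ih _ (by rw [← pow_mul, ← pow_succ']; exact hx)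
      set z := α x * x⁻¹ with hz
      have hzp : z ^ p = 1 := by
        rw [hz, mul_pow, ← map_pow, h1, inv_pow, mul_inv_cancel]
      have hαz : α z = z := h z hzp
      have hαx : α x = x * z := by rw [hz]; simp [mul_comm]
      have hj : ∀ j : ℕ, (α ^ j) x = x * z ^ j := by
        intro j
        induction j with
        | zero => simp
        | succ j ihj =>
          rw [pow_succ', MulAut.mul_apply, ihj, map_mul, map_pow, hαz, hαx, pow_succ', mul_assoc]
      have hzq : z ^ q = 1 := by
        have := hj q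
        rw [hq, MulAut.one_apply] at this
        exact (mul_eq_left.mp this.symm)
      have hz1 : z = 1 := by
        have h2 : orderOf z ∣ Nat.gcd q p := Nat.dvd_gcd (orderOf_dvd_of_pow_eq_one hzq)
          (orderOf_dvd_of_pow_eq_one hzp)
        rw [hqp, Nat.dvd_one] at h2
        exact orderOf_eq_one_iff.mp h2
      rw [hαx, hz1, mul_one]
  ext x
  obtain ⟨k, hk⟩ := hH x
  exact key k x hk

theorem exists_dvd_pow_sub_one {H : Type u} [CommGroup H] [Finite H] {p q : ℕ} [hp : Fact p.Prime]
    [hq : Fact q.Prime] (hH : IsPGroup p H) (α : MulAut H) (hα : orderOf α = q) (hqp : q ≠ p) :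
    ∃ i, 1 ≤ i ∧ i ≤ Group.rank H ∧ q ∣ p ^ i - 1 := by
  classical
  have hαq : α ^ q = 1 := by rw [← hα]; exact pow_orderOf_eq_one α
  have hcop : Nat.Coprime q p := (Nat.coprime_primes hq.out hp.out).mpr hqp
  set Ω : Subgroup H := (powMonoidHom p : H →* H).ker with hΩ
  have memΩ : ∀ x : H, x ∈ Ω ↔ x ^ p = 1 := fun x => Iff.rfl
  set C : Subgroup H := Ω ⊓ α.toMonoidHom.eqLocus (MonoidHom.id H) with hC
  have memC : ∀ x : H, x ∈ C ↔ x ^ p = 1 ∧ α x = x := fun x => Iff.rfl
  have hαΩ : ∀ x : Ω, α x ∈ Ω := by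
    intro x
    rw [memΩ, ← map_pow, (memΩ x).mp x.2, map_one]
  let f : Function.End Ω := fun x => ⟨α x, hαΩ x⟩
  have hfj : ∀ (j : ℕ) (x : Ω), (((f ^ j) x : Ω) : H) = (α ^ j) x := by
    intro j
    induction j with
    | zero => intro x; rfl
    | succ j ih =>
      intro x
      rw [pow_succ', pow_succ', MulAut.mul_apply, ← ih x]
      rfl
  have hfq : f ^ q ^ 1 = 1 := by
    rw [pow_one]
    funext x
    apply Subtype.ext
    rw [hfj, hαq]; rfl
  have : Fintype Ω := Fintype.ofFinite _
  have hmod := Equiv.Perm.card_fixedPoints_modEq (p := q) hfq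
  have hfix : Fintype.card (Function.fixedPoints f) = Nat.card C := by
    rw [← Nat.card_eq_fintype_card]
    apply Nat.card_congr
    refine ⟨fun x => ⟨x.1.1, x.1.2, congrArg Subtype.val x.2⟩,
      fun y => ⟨⟨y.1, y.2.1⟩, Subtype.ext y.2.2⟩, fun x => rfl, fun y => rfl⟩
  rw [hfix, ← Nat.card_eq_fintype_card] at hmod
  obtain ⟨d', hd'⟩ := (hH.to_subgroup Ω).exists_card_eq
  obtain ⟨c, hc⟩ := (hH.to_subgroup C).exists_card_eq
  have hCΩ : C ≤ Ω := inf_le_left
  have hne : C ≠ Ω := by
    intro heq
    have : α = 1 := by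
      apply aut_trivial_of_trivial_on_omega hH α hαq hcop
      intro x hx
      have : x ∈ C := by rw [heq]; exact hx
      exact this.2
    rw [this, orderOf_one] at hα
    exact hq.out.one_lt.ne hα
  have hlt : Nat.card C < Nat.card Ω := by
    apply lt_of_le_of_ne (Subgroup.card_le_of_le hCΩ)
    intro heq
    exact hne (Subgroup.eq_of_le_of_card_ge hCΩ heq.ge)
  rw [hd', hc] at hlt hmod
  have hcd : c < d' := (Nat.pow_lt_pow_iff_right hp.out.one_lt).mp hlt
  -- bound on d'
  have hd'le : d' ≤ Group.rank H := by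
    let V := H ⧸ (powMonoidHom p : H →* H).range
    have h1 : Nat.card V ∣ Monoid.exponent V ^ Group.rank V := card_dvd_exponent_pow_rank V
    have h2 : Monoid.exponent V ∣ p := by
      apply Monoid.exponent_dvd_of_forall_pow_eq_one
      intro v
      induction v using QuotientGroup.induction_on with
      | H x =>
        rw [← QuotientGroup.mk_pow, QuotientGroup.eq_one_iff]
        exact ⟨x, rfl⟩
    have h3 : Group.rank V ≤ Group.rank H :=
      Group.rank_le_of_surjective (QuotientGroup.mk' _) (QuotientGroup.mk'_surjective _)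
    have h4 : Nat.card V = Nat.card Ω := by
      have e1 := Subgroup.card_mul_index (powMonoidHom p : H →* H).range
      have e2 := Subgroup.card_mul_index (powMonoidHom p : H →* H).ker
      rw [Subgroup.index_ker] at e2
      have e3 : Nat.card V = (powMonoidHom p : H →* H).range.index := rfl
      rw [e3]
      have hpos : 0 < Nat.card (powMonoidHom p : H →* H).range := Nat.card_pos
      have : Nat.card (powMonoidHom p : H →* H).range * (powMonoidHom p : H →* H).range.index =
          Nat.card (powMonoidHom p : H →* H).range * Nat.card Ω := by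
        rw [e1, ← e2, mul_comm]
      exact Nat.eq_of_mul_eq_mul_left hpos this
    rw [h4, hd'] at h1
    have h5 : p ^ d' ∣ p ^ Group.rank V := h1.trans (pow_dvd_pow_of_dvd h2 _)
    exact ((Nat.pow_dvd_pow_iff_le_right hp.out.one_lt).mp h5).trans h3
  refine ⟨d' - c, by omega, by omega, ?_⟩
  have h6 : q ∣ p ^ d' - p ^ c := (Nat.modEq_iff_dvd' (Nat.pow_le_pow_right hp.out.pos hcd.le)).mp hmod.symm
  have h7 : p ^ d' - p ^ c = p ^ c * (p ^ (d' - c) - 1) := by
    rw [Nat.mul_sub, mul_one, ← pow_add]
    congr 2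
    omega
  rw [h7] at h6
  exact (Nat.Coprime.pow_right c hcop).dvd_of_dvd_mul_left h6

end Cfsg.Agent.Lib.Helper66
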