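import Mathlib
import Cfsg.Agent.S1475
import Cfsg.Agent.Lib.Lead.Cores
import Cfsg.Agent.Lib.Helper1.MinimalNormal
import Cfsg.Agent.Lib.Helper25.NormTrick

/-!
Groups all of whose elements have prime power order (CP groups).
-/

set_option autoImplicit false

namespace Cfsg.Agent.Lib.Helper66

open Cfsg Cfsg.Agent.Lib.Lead Cfsg.Agent.Lib.Helper1 Cfsg.Agent.Lib.Helper25

/-- every element has prime power order. -/
def CP (G : Type*) [Group G] : Prop := ∀ g : G, IsPrimePow (orderOf g) ∨ g = 1

theorem CP.of_dvd {G H : Type*} [Group G] [Group H] (h : CP G) (f : H → G)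
    (hf : ∀ x, orderOf x ∣ orderOf (f x)) (hf1 : ∀ x, f x = 1 → x = 1) : CP H := by
  intro x
  rcases h (f x) with hpp | h1
  · obtain ⟨t, k, ht, hk0, hk⟩ := hpp
    have hd := hf x
    rw [← hk] at hd
    obtain ⟨j, hj1, hj2⟩ := (Nat.dvd_prime_pow ht.nat_prime).mp hd
    rcases Nat.eq_zero_or_pos j with rfl | hj
    · right
      rw [pow_zero] at hj2
      exact orderOf_eq_one_iff.mp hj2
    · left
      exact ⟨t, j, ht, hj, hj2.symm⟩
  · right; exact hf1 x h1

theorem CP.subgroup {G : Type*} [Group G] (h : CP G) (H : Subgroup G) : CP H :=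
  h.of_dvd (fun x => (x : G)) (fun x => by rw [Subgroup.orderOf_coe]) (fun x hx => by
    ext; simpa using hx)

theorem CP.quotient {G : Type*} [Group G] (h : CP G) (N : Subgroup G) [N.Normal] : CP (G ⧸ N) := by
  apply h.of_dvd (fun x => x.out)
  · intro x
    have := orderOf_map_dvd (QuotientGroup.mk' N) x.out
    simpa using this
  · intro x hx
    have : (QuotientGroup.mk' N) x.out = x := by simp
    rw [← this, hx, map_one]

theorem CP.false_of_commute {G : Type*} [Group G] [Finite G] (h : CP G) {x y : G} (hc : Commute x y)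
    (hcop : (orderOf x).Coprime (orderOf y)) (hx : x ≠ 1) (hy : y ≠ 1) : False := by
  rcases Cfsg.Agent.S1475.eppo_commute h hc hcop with h1 | h1
  · exact hx h1
  · exact hy h1

/-- in a CP group the centralizer of an element of prime order `q` consists of `q`-elements. -/
theorem CP.orderOf_of_commute {G : Type*} [Group G] [Finite G] (h : CP G) {a c : G} {q : ℕ}
    (hq : q.Prime) (ha : orderOf a = q) (hc : Commute c a) : ∃ k, orderOf c = q ^ k := by
  rcases h c with hpp | h1
  · obtain ⟨t, k, ht, hk0, hk⟩ := hpp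
    by_cases htq : t = q
    · exact ⟨k, by rw [← hk, htq]⟩
    · exfalso
      apply h.false_of_commute hc
      · rw [← hk, ha]
        exact Nat.Coprime.pow_left _ ((Nat.coprime_primes ht.nat_prime hq).mpr htq)
      · intro h1
        rw [h1, orderOf_one] at hk
        exact (Nat.one_lt_pow hk0.ne' ht.nat_prime.one_lt).ne' hk
      · intro h1
        rw [h1, orderOf_one] at ha
        exact hq.one_lt.ne ha
  · exact ⟨0, by rw [h1, orderOf_one, pow_zero]⟩

theorem exists_prime_ne_of_not_isPGroup {H : Type*} [Group H] [Finite H] (t : ℕ)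
    (h : ¬ IsPGroup t H) : ∃ r : ℕ, r.Prime ∧ r ≠ t ∧ r ∣ Nat.card H := by
  by_contra hcon
  push Not at hcon
  apply h
  have : Nat.card H = t ^ (Nat.card H).primeFactorsList.length := by
    apply Nat.eq_prime_pow_of_unique_prime_dvd Nat.card_pos.ne'
    intro r hr hrd
    by_contra hne
    exact hcon r hr hne hrd
  exact IsPGroup.of_card this

theorem isSolvable_of_isPGroup {H : Type*} [Group H] [Finite H] {t : ℕ} [Fact t.Prime]
    (h : IsPGroup t H) : Group.IsSolvable H := by
  have := h.isNilpotent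
  infer_instance

/-- two commuting subgroups of a CP group, one nontrivial: the other is a `t`-group. -/
theorem CP.isPGroup_of_commuting {G : Type*} [Group G] [Finite G] (h : CP G) (A B : Subgroup G)
    (hc : ∀ a ∈ A, ∀ b ∈ B, Commute a b) (hB : B ≠ ⊥) : ∃ t : ℕ, t.Prime ∧ IsPGroup t A := by
  have hB1 : Nat.card B ≠ 1 := fun h1 => hB (Subgroup.card_eq_one.mp h1)
  obtain ⟨t, ht, htd⟩ := Nat.exists_prime_and_dvd hB1
  have : Fact t.Prime := ⟨ht⟩
  obtain ⟨y, hy⟩ := exists_prime_orderOf_dvd_card' t htd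
  refine ⟨t, ht, ?_⟩
  by_contra hAt
  obtain ⟨r, hr, hrt, hrd⟩ := exists_prime_ne_of_not_isPGroup t hAt
  have : Fact r.Prime := ⟨hr⟩
  obtain ⟨x, hx⟩ := exists_prime_orderOf_dvd_card' r hrd
  rw [← Subgroup.orderOf_coe] at hx hy
  apply h.false_of_commute (hc x x.2 y y.2)
  · rw [hx, hy]; exact (Nat.coprime_primes hr ht).mpr hrt
  · intro h1; rw [h1, orderOf_one] at hx; exact hr.one_lt.ne hx
  · intro h1; rw [h1, orderOf_one] at hy; exact ht.one_lt.ne hy

/-- two commuting subgroups of a CP group, one nontrivial, the other not solvable: impossible. -/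
theorem CP.false_of_commuting {G : Type*} [Group G] [Finite G] (h : CP G) (A B : Subgroup G)
    (hc : ∀ a ∈ A, ∀ b ∈ B, Commute a b) (hA : ¬ Group.IsSolvable A) (hB : B ≠ ⊥) : False := by
  obtain ⟨t, ht, hp⟩ := h.isPGroup_of_commuting A B hc hB
  have : Fact t.Prime := ⟨ht⟩
  exact hA (isSolvable_of_isPGroup hp)

/-- A nontrivial CP group without nontrivial solvable normal subgroups has a unique minimal normal
subgroup, and it is non-abelian simple. -/
theorem CP.exists_simple_min_normal {Q : Type*} [Group Q] [Finite Q] [Nontrivial Q] (hcp : CP Q)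
    (hrad : ∀ N : Subgroup Q, N.Normal → Group.IsSolvable N → N = ⊥) :
    ∃ M : Subgroup Q, M.Normal ∧ IsSimpleGroup M ∧ ¬ IsMulCommutative M ∧
      ∀ N : Subgroup Q, N.Normal → N ≠ ⊥ → M ≤ N := by
  obtain ⟨M, hMn, hM0, hMmin⟩ := exists_minimal_normal (G := Q)
  have hMns : ¬ Group.IsSolvable M := fun hs => hM0 (hrad M hMn hs)
  refine ⟨M, hMn, ?_, ?_, ?_⟩
  · have : Nontrivial M := (Subgroup.nontrivial_iff_ne_bot M).mpr hM0
    refine ⟨fun T₀ hT₀ => ?_⟩
    by_contra hcon
    push Not at hcon
    obtain ⟨hT₀b, hT₀t⟩ := hcon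
    obtain ⟨T, hTn, hT0, hTle, hTmin⟩ := exists_minimal_normal_le hT₀ hT₀b
    have hTtop : T ≠ ⊤ := fun h => hT₀t (top_le_iff.mp (h ▸ hTle))
    let cj : Q → Subgroup M := fun g => T.map (MulAut.conjNormal g : MulAut M).toMonoidHom
    by_cases hall : ∀ g, cj g = T
    · have hn : (T.map M.subtype).Normal := by
        constructor
        rintro _ ⟨x, hx, rfl⟩ g
        have hmem : (MulAut.conjNormal g : MulAut M) x ∈ cj g := ⟨x, hx, rfl⟩
        rw [hall g] at hmem
        exact ⟨_, hmem, by simp [MulAut.conjNormal_apply]⟩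
      rcases hMmin _ hn (Subgroup.map_subtype_le T) with h | h
      · apply hT0; exact (Subgroup.map_eq_bot_iff_of_injective _ M.subtype_injective).mp h
      · apply hTtop
        rw [eq_top_iff]
        intro x _
        have hx : (x : Q) ∈ T.map M.subtype := by rw [h]; exact x.2
        obtain ⟨y, hy, hyx⟩ := hx
        have : y = x := Subtype.ext hyx
        rwa [← this]
    · push Not at hall
      obtain ⟨g, hg⟩ := hall
      have hcn : (cj g).Normal := hTn.map _ (MulEquiv.surjective _)
      have hinf : T ⊓ cj g = ⊥ := by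
        rcases hTmin (T ⊓ cj g) inferInstance inf_le_left with h | h
        · exact h
        · exfalso; apply hg
          have hle : T ≤ cj g := inf_eq_left.mp h
          refine (Subgroup.eq_of_le_of_card_ge hle ?_).symm
          rw [Subgroup.card_map_of_injective (MulEquiv.injective _)]
      have hcomm := Subgroup.commute_of_normal_of_disjoint T (cj g) hTn hcn (disjoint_iff.mpr hinf)
      have hcj0 : cj g ≠ ⊥ := by
        intro h0
        apply hT0
        exact (Subgroup.map_eq_bot_iff_of_injective _ (MulEquiv.injective _)).mp h0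
      obtain ⟨t, ht, hTp⟩ := (hcp.subgroup M).isPGroup_of_commuting T (cj g)
        (fun a ha b hb => hcomm a b ha hb) hcj0
      have : Fact t.Prime := ⟨ht⟩
      have h1 : T ≤ pCore t M := le_pCore hTn hTp
      have h2 : (pCore t M).map M.subtype ≤ pCore t Q := pCore_normal_subgroup_le M
      have h3 : pCore t Q = ⊥ :=
        hrad _ (pCore_normal' t Q) (isSolvable_of_isPGroup (pCore_isPGroup t Q))
      rw [h3, le_bot_iff, Subgroup.map_eq_bot_iff_of_injective _ M.subtype_injective] at h2
      rw [h2, le_bot_iff] at h1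
      exact hT0 h1
  · intro hc
    apply hMns
    exact Group.isSolvable_of_comm (fun a b => mul_comm' a b)
  · intro N hN hN0
    rcases hMmin (M ⊓ N) inferInstance inf_le_left with h | h
    · exfalso
      exact hcp.false_of_commuting M N
        (fun a ha b hb => Subgroup.commute_of_normal_of_disjoint M N hMn hN (disjoint_iff.mpr h)
          a b ha hb) hMns hN0
    · exact inf_eq_left.mp h

theorem isSolvable_of_le {G : Type*} [Group G] {A B : Subgroup G} (h : A ≤ B)
    (hB : Group.IsSolvable B) : Group.IsSolvable A :=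
  Group.isSolvable_of_isSolvable_injective (f := Subgroup.inclusion h) (Subgroup.inclusion_injective h)

theorem isSolvable_map {G H : Type*} [Group G] [Group H] (f : G →* H) (A : Subgroup G)
    (hA : Group.IsSolvable A) : Group.IsSolvable (A.map f) :=
  Group.isSolvable_of_surjective (f := f.subgroupMap A) (f.subgroupMap_surjective A)

open scoped IsMulCommutative in
/-- A solvable normal subgroup of a non-solvable CP group is a `p`-group. -/
theorem CP.radical_isPGroup {G : Type*} [Group G] [Finite G] (hcp : CP G)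
    (hns : ¬ Group.IsSolvable G) (R : Subgroup G) [hRn : R.Normal] (hRs : Group.IsSolvable R) :
    ∃ p : ℕ, p.Prime ∧ IsPGroup p R := by
  by_cases hR0 : R = ⊥
  · exact ⟨2, Nat.prime_two, hR0 ▸ IsPGroup.of_bot⟩
  obtain ⟨N, hNn, hN0, hNle, hNmin⟩ := exists_minimal_normal_le hRn hR0
  have hNs : Group.IsSolvable N := isSolvable_of_le hNle hRs
  obtain ⟨hNc, p, hp, hNp⟩ := minimal_normal_elementary_abelian N hNs hN0 hNmin
  have : Fact p.Prime := ⟨hp⟩
  refine ⟨p, hp, ?_⟩
  set P := pCore p G with hPdef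
  have hPn : P.Normal := pCore_normal' p G
  have hPp : IsPGroup p P := pCore_isPGroup p G
  have hNP : N ≤ P := le_pCore hNn (isPGroup_of_forall_pow_eq_one hNp)
  have hP0 : P ≠ ⊥ := fun h => hN0 (le_bot_iff.mp (h ▸ hNP))
  have hPs : Group.IsSolvable P := isSolvable_of_isPGroup hPp
  by_contra hRp
  have hRP : ¬ R ≤ P := fun hle => hRp (hPp.to_le hle)
  set Rb := R.map (QuotientGroup.mk' P) with hRb
  have hRbn : Rb.Normal := Subgroup.Normal.map hRn _ (QuotientGroup.mk'_surjective P)
  have hRb0 : Rb ≠ ⊥ := by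
    intro h
    apply hRP
    rw [hRb, Subgroup.map_eq_bot_iff, QuotientGroup.ker_mk'] at h
    exact h
  obtain ⟨Mb, hMn, hM0, hMle, hMmin⟩ := exists_minimal_normal_le hRbn hRb0
  have hMs : Group.IsSolvable Mb := isSolvable_of_le hMle (isSolvable_map _ R hRs)
  obtain ⟨hMc, q, hq, hMq⟩ := minimal_normal_elementary_abelian Mb hMs hM0 hMmin
  have : Fact q.Prime := ⟨hq⟩
  have hqp : q ≠ p := by
    rintro rfl
    have hle : Mb ≤ pCore q (G ⧸ P) := le_pCore hMn (isPGroup_of_forall_pow_eq_one hMq)
    have hbot : pCore q (G ⧸ P) = ⊥ := pCore_quotient_pCore q G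
    rw [hbot] at hle
    exact hM0 (le_bot_iff.mp hle)
  have hcpb : CP (G ⧸ P) := hcp.quotient P
  -- the module
  set V := (Subgroup.center P).map P.subtype with hV
  have hVn : V.Normal := normal_map_subtype_of_characteristic P (Subgroup.center P)
  have hVP : V ≤ P := Subgroup.map_subtype_le _
  have hVcent : ∀ v ∈ V, ∀ x ∈ P, x * v = v * x := by
    rintro _ ⟨z, hz, rfl⟩ x hx
    have := Subgroup.mem_center_iff.mp hz ⟨x, hx⟩
    exact congrArg Subtype.val this
  have hVc : IsMulCommutative V :=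
    ⟨⟨fun a b => Subtype.ext (hVcent b b.2 a (hVP a.2))⟩⟩
  have hV0 : ∃ v : V, v ≠ 1 := by
    have : Nontrivial P := (Subgroup.nontrivial_iff_ne_bot P).mpr hP0
    have hnt := hPp.center_nontrivial
    obtain ⟨z, hz⟩ := exists_ne (1 : Subgroup.center P)
    refine ⟨⟨(z : P), ⟨z, z.2, rfl⟩⟩, ?_⟩
    intro h
    apply hz
    have h1 : ((z : P) : G) = 1 := congrArg Subtype.val h
    ext
    simpa using h1
  let ρ : G ⧸ P →* MulAut V := QuotientGroup.lift P (MulAut.conjNormal : G →* MulAut V) (by
    intro x hx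
    ext v
    rw [MulAut.conjNormal_apply, MulAut.one_apply, hVcent v v.2 x hx]
    group)
  have hfpf : ∀ g : G ⧸ P, g ≠ 1 → g ^ q = 1 → ∀ v : V, ρ g v = v → v = 1 := by
    intro gb hg1 hgq v hv
    obtain ⟨g, rfl⟩ := QuotientGroup.mk'_surjective P gb
    have h1 : g * (v : G) * g⁻¹ = v := by
      have : ρ (QuotientGroup.mk' P g) v = (MulAut.conjNormal g : MulAut V) v := rfl
      rw [this] at hv
      rw [← MulAut.conjNormal_apply, hv]
    have hc : Commute g (v : G) := by
      have h2 : g * (v : G) = (g * (v : G) * g⁻¹) * g := by group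
      rw [h1] at h2
      exact h2
    have hord : orderOf (QuotientGroup.mk' P g) = q := orderOf_eq_prime hgq hg1
    have hqd : q ∣ orderOf g := hord ▸ orderOf_map_dvd (QuotientGroup.mk' P) g
    have hg1' : g ≠ 1 := by
      rintro rfl
      exact hg1 (map_one _)
    by_contra hv1
    obtain ⟨j, hj⟩ := (IsPGroup.iff_orderOf.mp hPp) ⟨v, hVP v.2⟩
    rw [Subgroup.orderOf_mk] at hj
    rcases hcp g with hpp | h1
    · obtain ⟨t, k, ht, hk0, hk⟩ := hpp
      have htq : q = t := by
        rw [← hk] at hqd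
        exact (Nat.prime_dvd_prime_iff_eq hq ht.nat_prime).mp (hq.dvd_of_dvd_pow hqd)
      apply hcp.false_of_commute hc _ hg1' (fun h => hv1 (Subtype.ext h))
      rw [← hk, hj, ← htq]
      exact Nat.Coprime.pow _ _ ((Nat.coprime_primes hq hp).mpr hqp)
    · exact hg1' h1
  have hMcomm : ∀ x ∈ Mb, ∀ y ∈ Mb, x * y = y * x := fun x hx y hy =>
    congrArg Subtype.val (mul_comm' (⟨x, hx⟩ : Mb) ⟨y, hy⟩)
  obtain ⟨⟨a, haM⟩, ha1⟩ := (Subgroup.ne_bot_iff_exists_ne_one).mp hM0
  have ha1' : a ≠ 1 := fun h => ha1 (Subtype.ext h)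
  have haq : orderOf a = q := orderOf_eq_prime (hMq a haM) ha1'
  have hzle : Subgroup.zpowers a ≤ Mb := Subgroup.zpowers_le.mpr haM
  have hMa : Mb = Subgroup.zpowers a := by
    apply le_antisymm _ hzle
    intro b hb
    by_contra hbz
    obtain ⟨v, hv⟩ := hV0
    have h1 := norm_trick ρ (Subgroup.zpowers a) b q hq
      (fun x hx => by rw [hMcomm b hb x (hzle hx)]; simpa using hx)
      (fun x hx => by
        have hcx : Commute x b := hMcomm x (hzle hx) b hb
        rw [hcx.mul_pow, hMq x (hzle hx), hMq b hb, one_mul])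
      (fun x hx => hfpf (x * b) (fun h => hbz (by
          have : b = x⁻¹ := (inv_eq_of_mul_eq_one_right h).symm
          rw [this]; exact inv_mem hx)) (by
        have hcx : Commute x b := hMcomm x (hzle hx) b hb
        rw [hcx.mul_pow, hMq x (hzle hx), hMq b hb, one_mul]))
      a (Subgroup.mem_zpowers a) (hfpf a ha1' (hMq a haM)) v
    rw [Nat.card_zpowers, haq] at h1
    obtain ⟨j, hj⟩ := (IsPGroup.iff_orderOf.mp (hPp.to_le hVP)) v
    have h2 : orderOf v ∣ q := orderOf_dvd_of_pow_eq_one h1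
    have h3 : orderOf v ∣ p ^ j := by rw [hj]
    have h4 : Nat.Coprime q (p ^ j) := Nat.Coprime.pow_right _ ((Nat.coprime_primes hq hp).mpr hqp)
    exact hv (orderOf_eq_one_iff.mp (Nat.eq_one_of_dvd_coprimes h4 h2 h3))
  have hMcyc : IsCyclic Mb := by
    rw [hMa]
    infer_instance
  let φ : G ⧸ P →* MulAut Mb := MulAut.conjNormal
  have hAutS : Group.IsSolvable (MulAut Mb) := by
    apply Group.isSolvable_of_comm
    intro α β
    apply (IsCyclic.mulAutMulEquiv Mb).injective
    rw [map_mul, map_mul, mul_comm]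
  have hkerp : IsPGroup q φ.ker := by
    rw [IsPGroup.iff_orderOf]
    intro c
    have hc1 : φ (c : G ⧸ P) = 1 := c.2
    have hc2 : (c : G ⧸ P) * a * (c : G ⧸ P)⁻¹ = a := by
      have := congrArg (fun f : MulAut Mb => ((f ⟨a, haM⟩ : Mb) : G ⧸ P)) hc1
      simpa [φ, MulAut.conjNormal_apply] using this
    have hc3 : Commute (c : G ⧸ P) a := by
      have h2 : (c : G ⧸ P) * a = ((c : G ⧸ P) * a * (c : G ⧸ P)⁻¹) * c := by group
      rw [hc2] at h2
      exact h2
    obtain ⟨k, hk⟩ := hcpb.orderOf_of_commute hq haq hc3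
    exact ⟨k, by rw [← hk, Subgroup.orderOf_coe]⟩
  have hkers : Group.IsSolvable φ.ker := isSolvable_of_isPGroup hkerp
  have hQs : Group.IsSolvable (G ⧸ P) :=
    Group.isSolvable_of_ker_le_range φ.ker.subtype φ (by simp)
  exact hns ((Group.isSolvable_iff_subgroup_quotient P).mpr ⟨hPs, hQs⟩)

end Cfsg.Agent.Lib.Helper66
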