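import Mathlib
import Cfsg.Agent.S3993

/-!
The numbers of elements of each order in a finite group.
-/

set_option autoImplicit false

namespace Cfsg.Agent.Lib.Helper66

/-- number of elements of order `m`. -/
noncomputable def nOrd (G : Type*) [Group G] (m : ℕ) : ℕ := Nat.card {g : G // orderOf g = m}

variable {G : Type*} [Group G]

theorem nOrd_one : nOrd G 1 = 1 := by
  unfold nOrd
  rw [Nat.card_eq_one_iff_unique]
  refine ⟨⟨fun a b => ?_⟩, ⟨⟨1, orderOf_one⟩⟩⟩
  apply Subtype.ext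
  rw [orderOf_eq_one_iff.mp a.2, orderOf_eq_one_iff.mp b.2]

theorem nOrd_ne_zero_iff [Finite G] {m : ℕ} : nOrd G m ≠ 0 ↔ ∃ g : G, orderOf g = m := by
  unfold nOrd
  constructor
  · intro h
    by_contra hcon
    push Not at hcon
    apply h
    have : IsEmpty {g : G // orderOf g = m} := ⟨fun g => hcon g.1 g.2⟩
    exact Nat.card_of_isEmpty
  · rintro ⟨g, hg⟩
    have : Nonempty {g : G // orderOf g = m} := ⟨⟨g, hg⟩⟩
    exact Nat.card_pos.ne'

theorem nOrd_ne_zero_of_dvd [Finite G] {g : G} {m : ℕ} (h : m ∣ orderOf g) : nOrd G m ≠ 0 :=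
  nOrd_ne_zero_iff.mpr ⟨g ^ (orderOf g / m), orderOf_pow_orderOf_div (orderOf_pos g).ne' h⟩

theorem totient_dvd_nOrd [Finite G] (m : ℕ) : Nat.totient m ∣ nOrd G m := by
  classical
  have := Fintype.ofFinite G
  have h := Cfsg.Agent.S3993.totient_dvd_card_orderOf (H := G) m
  unfold nOrd
  rwa [Nat.card_eq_fintype_card, Fintype.card_subtype]

theorem even_nOrd [Finite G] {m : ℕ} (hm : 2 < m) : Even (nOrd G m) :=
  (Nat.totient_even hm).trans_dvd (totient_dvd_nOrd m)

theorem card_pow_eq_one_eq_sum [Finite G] {d : ℕ} (hd : 0 < d) :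
    Nat.card {g : G // g ^ d = 1} = ∑ m ∈ d.divisors, nOrd G m := by
  classical
  have := Fintype.ofFinite G
  rw [Nat.card_eq_fintype_card, Fintype.card_subtype]
  rw [Finset.card_eq_sum_card_fiberwise (f := fun g : G => orderOf g) (t := d.divisors)]
  · apply Finset.sum_congr rfl
    intro m hm
    unfold nOrd
    rw [Nat.card_eq_fintype_card, Fintype.card_subtype]
    congr 1
    ext g
    simp only [Finset.mem_filter, Finset.mem_univ, true_and]
    constructor
    · exact fun h => h.2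
    · intro h
      refine ⟨?_, h⟩
      rw [← orderOf_dvd_iff_pow_eq_one, h]
      exact Nat.dvd_of_mem_divisors hm
  · intro g hg
    have hg' : g ^ d = 1 := by simpa using hg
    simp only [Finset.mem_coe, Nat.mem_divisors]
    exact ⟨orderOf_dvd_of_pow_eq_one hg', hd.ne'⟩

theorem dvd_sum_nOrd [Finite G] {d : ℕ} (hd : d ∣ Nat.card G) :
    d ∣ ∑ m ∈ d.divisors, nOrd G m := by
  have hpos : 0 < d := Nat.pos_of_dvd_of_pos hd Nat.card_pos
  rw [← card_pow_eq_one_eq_sum hpos]
  exact Cfsg.Agent.S3993.result d hd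

theorem sum_nOrd_le [Finite G] {d : ℕ} (hd : 0 < d) :
    ∑ m ∈ d.divisors, nOrd G m ≤ Nat.card G := by
  rw [← card_pow_eq_one_eq_sum hd]
  exact Finite.card_subtype_le _

theorem sum_divisors_mul_coprime {m n : ℕ} (hmn : m.Coprime n) (F : ℕ → ℕ) :
    ∑ d ∈ (m * n).divisors, F d = ∑ a ∈ m.divisors, ∑ b ∈ n.divisors, F (a * b) := by
  rw [Nat.divisors_mul, Finset.mul_def, Finset.sum_image hmn.mul_injOn_divisors, Finset.sum_product]

theorem arith_false {p n a b : ℕ} (hp : 3 ≤ p) (h1 : p ∣ n + 1) (h2 : p ∣ a * n + b)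
    (hab : a = b + 1 ∨ a = b + 2 ∨ b = a + 1) : False := by
  have h3 : (p : ℤ) ∣ (a : ℤ) * ((n : ℤ) + 1) - ((a : ℤ) * n + b) := by
    apply dvd_sub
    · exact Dvd.dvd.mul_left (by exact_mod_cast h1) _
    · exact_mod_cast h2
  have h4 : (a : ℤ) * ((n : ℤ) + 1) - ((a : ℤ) * n + b) = a - b := by ring
  rw [h4] at h3
  rcases hab with rfl | rfl | rfl
  · have h5 : ((b + 1 : ℕ) : ℤ) - b = 1 := by push_cast; ring
    rw [h5] at h3
    have := Int.le_of_dvd one_pos h3
    omega
  · have h5 : ((b + 2 : ℕ) : ℤ) - b = 2 := by push_cast; ring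
    rw [h5] at h3
    have := Int.le_of_dvd two_pos h3
    omega
  · have h5 : (a : ℤ) - ((a + 1 : ℕ) : ℤ) = -1 := by push_cast; ring
    rw [h5, dvd_neg] at h3
    have := Int.le_of_dvd one_pos h3
    omega

end Cfsg.Agent.Lib.Helper66
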