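import Mathlib
import Cfsg.Agent.S2910
import Cfsg.Agent.S0144
import Cfsg.Agent.Lib.Helper66.OrderType
import Cfsg.Agent.Lib.Helper66.CPGroups

/-!
Groups with a unique subgroup of order `p` for every prime `p ≥ 5` are solvable.
-/

set_option autoImplicit false

namespace Cfsg.Agent.Lib.Helper66

universe u

/-- for every prime `p ≥ 5` all elements of order `p` lie in one cyclic subgroup. -/
def UP (Y : Type*) [Group Y] : Prop :=
  ∀ p : ℕ, p.Prime → 5 ≤ p → ∀ x y : Y, orderOf x = p → orderOf y = p → y ∈ Subgroup.zpowers x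

theorem UP.of_injective {Y Z : Type*} [Group Y] [Group Z] (h : UP Y) (f : Z →* Y)
    (hf : Function.Injective f) : UP Z := by
  intro p hp hp5 x y hx hy
  have h1 := h p hp hp5 (f x) (f y) (by rw [orderOf_injective f hf, hx])
    (by rw [orderOf_injective f hf, hy])
  obtain ⟨k, hk⟩ := Subgroup.mem_zpowers_iff.mp h1
  rw [Subgroup.mem_zpowers_iff]
  exact ⟨k, hf (by rw [map_zpow, hk])⟩

theorem setOf_orderOf_eq {Y : Type*} [Group Y] {p : ℕ} (hp : p.Prime) {x : Y} (hx : orderOf x = p) :
    ((Subgroup.zpowers x : Subgroup Y) : Set Y) \ {1} ⊆ {y : Y | orderOf y = p} := by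
  rintro y ⟨hy, hy1⟩
  have h1 : orderOf y ∣ p := by
    have := orderOf_dvd_natCard (⟨y, hy⟩ : Subgroup.zpowers x)
    rwa [Subgroup.orderOf_mk, Nat.card_zpowers, hx] at this
  rcases (Nat.dvd_prime hp).mp h1 with h | h
  · exact absurd (orderOf_eq_one_iff.mp h) hy1
  · exact h

theorem ncard_zpowers_diff {Y : Type*} [Group Y] [Finite Y] {p : ℕ} {x : Y} (hx : orderOf x = p) :
    (((Subgroup.zpowers x : Subgroup Y) : Set Y) \ {1}).ncard = p - 1 := by
  rw [Set.ncard_sdiff_singleton_of_mem (one_mem _)]
  have : ((Subgroup.zpowers x : Subgroup Y) : Set Y).ncard = Nat.card (Subgroup.zpowers x) := rfl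
  rw [this, Nat.card_zpowers, hx]

/-- numerical form of `UP`. -/
theorem up_iff {Y : Type*} [Group Y] [Finite Y] :
    UP Y ↔ ∀ p : ℕ, p.Prime → 5 ≤ p → p ∣ Nat.card Y → nOrd Y p = p - 1 := by
  have hn : ∀ p, nOrd Y p = {y : Y | orderOf y = p}.ncard := fun p => rfl
  constructor
  · intro h p hp hp5 hpd
    have : Fact p.Prime := ⟨hp⟩
    obtain ⟨x, hx⟩ := exists_prime_orderOf_dvd_card' p hpd
    rw [hn, ← ncard_zpowers_diff hx]
    congr 1
    apply Set.Subset.antisymm _ (setOf_orderOf_eq hp hx)
    intro y hy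
    refine ⟨h p hp hp5 x y hx hy, ?_⟩
    rintro rfl
    rw [Set.mem_ofPred_eq, orderOf_one] at hy
    exact hp.one_lt.ne hy
  · intro h p hp hp5 x y hx hy
    have hpd : p ∣ Nat.card Y := hx ▸ orderOf_dvd_natCard x
    have h1 := h p hp hp5 hpd
    have h2 : ((Subgroup.zpowers x : Subgroup Y) : Set Y) \ {1} = {y : Y | orderOf y = p} := by
      apply Set.eq_of_subset_of_ncard_le (setOf_orderOf_eq hp hx) _ (Set.toFinite _)
      rw [ncard_zpowers_diff hx, ← hn, h1]
    have h3 : y ∈ ((Subgroup.zpowers x : Subgroup Y) : Set Y) \ {1} := by rw [h2]; exact hy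
    exact h3.1

theorem isSolvable_of_up_aux (n : ℕ) : ∀ (Y : Type u) [Group Y] [Finite Y], Nat.card Y = n →
    UP Y → Group.IsSolvable Y := by
  induction n using Nat.strong_induction_on with
  | _ n ih =>
  intro Y _ _ hn hY
  by_cases hex : ∃ p : ℕ, p.Prime ∧ 5 ≤ p ∧ p ∣ Nat.card Y
  · obtain ⟨p, hp, hp5, hpd⟩ := hex
    have : Fact p.Prime := ⟨hp⟩
    obtain ⟨x, hx⟩ := exists_prime_orderOf_dvd_card' p hpd
    have hconj : ∀ g : Y, g * x * g⁻¹ ∈ Subgroup.zpowers x := by
      intro g
      apply hY p hp hp5 x _ hx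
      have := (MulAut.conj g).orderOf_eq x
      rw [← hx]
      simpa using this
    have hZn : (Subgroup.zpowers x).Normal := by
      constructor
      intro u hu g
      obtain ⟨k, rfl⟩ := Subgroup.mem_zpowers_iff.mp hu
      have : g * x ^ k * g⁻¹ = (g * x * g⁻¹) ^ k := by
        rw [conj_zpow]
      rw [this]
      exact zpow_mem (hconj g) k
    let φ : Y →* MulAut (Subgroup.zpowers x) := MulAut.conjNormal
    have hAutS : Group.IsSolvable (MulAut (Subgroup.zpowers x)) := by
      apply Group.isSolvable_of_comm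
      intro α β
      apply (IsCyclic.mulAutMulEquiv (Subgroup.zpowers x)).injective
      rw [map_mul, map_mul, mul_comm]
    have hcomm : ∀ c ∈ φ.ker, c * x = x * c := by
      intro c hc
      have hc1 : φ c = 1 := hc
      have hc2 : c * x * c⁻¹ = x := by
        have := congrArg (fun f : MulAut (Subgroup.zpowers x) =>
          ((f ⟨x, Subgroup.mem_zpowers x⟩ : Subgroup.zpowers x) : Y)) hc1
        simpa [φ, MulAut.conjNormal_apply] using this
      calc c * x = (c * x * c⁻¹) * c := by group
        _ = x * c := by rw [hc2]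
    have hxker : x ∈ φ.ker := by
      rw [MonoidHom.mem_ker]
      ext u
      obtain ⟨k, hk⟩ := Subgroup.mem_zpowers_iff.mp u.2
      simp only [φ, MulAut.conjNormal_apply, MulAut.one_apply]
      rw [← hk]
      group
    have hD : UP φ.ker := hY.of_injective φ.ker.subtype φ.ker.subtype_injective
    have hpdD : p ∣ Nat.card φ.ker := by
      have := orderOf_dvd_natCard (⟨x, hxker⟩ : φ.ker)
      rwa [Subgroup.orderOf_mk, hx] at this
    let P : Sylow p φ.ker := default
    have hom : Cfsg.omegaOne p (P : Subgroup φ.ker) ≤ Subgroup.center φ.ker := by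
      unfold Cfsg.omegaOne
      rw [Subgroup.closure_le]
      rintro u ⟨-, hup⟩
      by_cases hu1 : u = 1
      · rw [hu1]; exact one_mem _
      have huo : orderOf u = p := orderOf_eq_prime hup hu1
      have hmem := hD p hp hp5 (⟨x, hxker⟩ : φ.ker) u (by rw [Subgroup.orderOf_mk, hx]) huo
      obtain ⟨k, hk⟩ := Subgroup.mem_zpowers_iff.mp hmem
      rw [SetLike.mem_coe, Subgroup.mem_center_iff]
      intro c
      rw [← hk]
      have hc : Commute c (⟨x, hxker⟩ : φ.ker) := Subtype.ext (hcomm c c.2)
      exact (hc.zpow_right k).eq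
    obtain ⟨P', T, hTn, hTc⟩ := (Cfsg.Agent.S2910.result (by omega) hpdD P hom).1
    have hcardT : Nat.card T * Nat.card (P' : Subgroup φ.ker) = Nat.card φ.ker := hTc.card_mul_card
    have hP'gt : 1 < Nat.card (P' : Subgroup φ.ker) := by
      rw [P'.card_eq_multiplicity]
      exact Nat.one_lt_pow (hp.factorization_pos_of_dvd Nat.card_pos.ne' hpdD).ne' hp.one_lt
    have hTlt : Nat.card T < n := by
      have h1 : Nat.card φ.ker ≤ n := hn ▸ Subgroup.card_le_card_group _
      have h2 : 0 < Nat.card T := Nat.card_pos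
      nlinarith
    have hTs : Group.IsSolvable T := ih _ hTlt T rfl (hD.of_injective T.subtype T.subtype_injective)
    have hQs : Group.IsSolvable (φ.ker ⧸ T) := by
      have hpg : IsPGroup p (φ.ker ⧸ T) := by
        apply IsPGroup.of_card (n := (Nat.card φ.ker).factorization p)
        rw [← P'.card_eq_multiplicity]
        have h1 := T.card_eq_card_quotient_mul_card_subgroup
        have h2 : 0 < Nat.card T := Nat.card_pos
        nlinarith
      exact isSolvable_of_isPGroup hpg
    have hkers : Group.IsSolvable φ.ker := (Group.isSolvable_iff_subgroup_quotient T).mpr ⟨hTs, hQs⟩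
    exact Group.isSolvable_of_ker_le_range φ.ker.subtype φ (by simp)
  · push Not at hex
    -- a {2,3}-group
    have hcard : Nat.card Y = 2 ^ (Nat.card Y).factorization 2 * 3 ^ (Nat.card Y).factorization 3 := by
      have hpos : Nat.card Y ≠ 0 := Nat.card_pos.ne'
      apply Nat.eq_of_factorization_eq hpos (by positivity)
      intro q
      rw [Nat.factorization_mul (by positivity) (by positivity), Nat.Prime.factorization_pow Nat.prime_two,
        Nat.Prime.factorization_pow Nat.prime_three]
      simp only [Finsupp.coe_add, Pi.add_apply, Finsupp.single_apply]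
      by_cases hq2 : q = 2
      · subst hq2; simp
      by_cases hq3 : q = 3
      · subst hq3; simp
      rw [if_neg (Ne.symm hq2), if_neg (Ne.symm hq3)]
      by_cases hq : q.Prime
      · apply Nat.factorization_eq_zero_of_not_dvd
        intro hqd
        have h5 : ¬ 5 ≤ q := fun h5 => hex q hq h5 hqd
        have h2 := hq.two_le
        have : q = 4 := by omega
        subst this
        exact absurd hq (by norm_num)
      · exact Nat.factorization_eq_zero_of_not_prime _ hq
    exact Cfsg.Agent.S0144.result 2 3 _ _ Nat.prime_two Nat.prime_three hcard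

theorem isSolvable_of_up {Y : Type*} [Group Y] [Finite Y] (h : UP Y) : Group.IsSolvable Y :=
  isSolvable_of_up_aux _ Y rfl h

end Cfsg.Agent.Lib.Helper66
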