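import Mathlib
import Cfsg.Agent.S0016
import Cfsg.Agent.S0044
import Cfsg.Agent.S0721
import Cfsg.Agent.S3971
import Cfsg.Agent.Lib.Helper1.Fitting
import Cfsg.Agent.Lib.Helper9.Supersolvable5
import Cfsg.Agent.Lib.Lead.Cores
import Cfsg.Agent.Lib.Helper66.AbelianAut
import Cfsg.Agent.Lib.Helper66.UniquePrime

/-!
Solvable groups in which every subgroup of order `p q` is cyclic (e.g. solvable Frobenius
complements) have a unique subgroup of order `p` for each prime `p ≥ 5`.
-/

set_option autoImplicit false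

namespace Cfsg.Agent.Lib.Helper66

/-- every subgroup whose order is a product of two primes is cyclic. -/
def FC (Y : Type*) [Group Y] : Prop :=
  ∀ A : Subgroup Y, ∀ p q : ℕ, p.Prime → q.Prime → Nat.card A = p * q → IsCyclic A

theorem FC.commute_mem {Y : Type*} [Group Y] [Finite Y] (h : FC Y) {p : ℕ} (hp : p.Prime) {x y : Y}
    (hx : orderOf x = p) (hy : orderOf y = p) (hc : Commute x y) : y ∈ Subgroup.zpowers x := by
  by_contra hyx
  have hcx : Nat.card (Subgroup.zpowers x) = p := by rw [Nat.card_zpowers, hx]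
  have hcy : Nat.card (Subgroup.zpowers y) = p := by rw [Nat.card_zpowers, hy]
  have hd : Subgroup.zpowers x ⊓ Subgroup.zpowers y = ⊥ := by
    have h1 : Nat.card (Subgroup.zpowers x ⊓ Subgroup.zpowers y : Subgroup Y) ∣ p := by
      rw [← hcy]; exact Subgroup.card_dvd_of_le inf_le_right
    rcases (Nat.dvd_prime hp).mp h1 with h2 | h2
    · exact Subgroup.card_eq_one.mp h2
    · exfalso
      have h3 : Subgroup.zpowers x ⊓ Subgroup.zpowers y = Subgroup.zpowers y :=
        Subgroup.eq_of_le_of_card_ge inf_le_right (by rw [h2, hcy])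
      apply hyx
      have : y ∈ Subgroup.zpowers x ⊓ Subgroup.zpowers y := by rw [h3]; exact Subgroup.mem_zpowers y
      exact this.1
  have hcc : ∀ m ∈ Subgroup.zpowers x, ∀ u ∈ Subgroup.zpowers y, m * u = u * m := by
    intro m hm u hu
    obtain ⟨i, rfl⟩ := Subgroup.mem_zpowers_iff.mp hm
    obtain ⟨j, rfl⟩ := Subgroup.mem_zpowers_iff.mp hu
    exact (hc.zpow_zpow i j).eq
  obtain ⟨e⟩ := Cfsg.Agent.S0721.nonempty_prod_equiv_sup _ _ hcc hd
  have hcard : Nat.card (Subgroup.zpowers x ⊔ Subgroup.zpowers y : Subgroup Y) = p * p := by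
    rw [← Nat.card_congr e.toEquiv, Nat.card_prod, hcx, hcy]
  have hcyc := h _ p p hp hp hcard
  obtain ⟨g, hg⟩ := hcyc.exists_generator
  have hord : orderOf g = p * p := by
    rw [orderOf_eq_card_of_forall_mem_zpowers hg, hcard]
  have hgp : g ^ p = 1 := by
    obtain ⟨⟨a, b⟩, rfl⟩ := e.surjective g
    rw [← map_pow, Prod.pow_mk]
    have ha : a ^ p = 1 := by rw [← hcx]; exact pow_card_eq_one'
    have hb : b ^ p = 1 := by rw [← hcy]; exact pow_card_eq_one'
    rw [ha, hb]
    exact map_one e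
  have h5 := orderOf_dvd_of_pow_eq_one hgp
  rw [hord] at h5
  have h6 := Nat.le_of_dvd hp.pos h5
  have := hp.one_lt
  nlinarith

theorem FC.mem_of_pgroup {Y : Type*} [Group Y] [Finite Y] (h : FC Y) {p : ℕ} [hp : Fact p.Prime]
    (S : Subgroup Y) (hS : IsPGroup p S) {x y : Y} (hxS : x ∈ S) (hyS : y ∈ S)
    (hx : orderOf x = p) (hy : orderOf y = p) : y ∈ Subgroup.zpowers x := by
  have hnt : Nontrivial S := by
    refine ⟨⟨⟨x, hxS⟩, 1, ?_⟩⟩
    intro h1
    have : x = 1 := congrArg Subtype.val h1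
    rw [this, orderOf_one] at hx
    exact hp.out.one_lt.ne hx
  have hcn := hS.center_nontrivial
  have hcp : IsPGroup p (Subgroup.center S) := hS.to_subgroup _
  have hpd : p ∣ Nat.card (Subgroup.center S) := by
    obtain ⟨k, hk⟩ := IsPGroup.iff_card.mp hcp
    rw [hk]
    apply dvd_pow_self
    rintro rfl
    rw [pow_zero] at hk
    have := Finite.one_lt_card_iff_nontrivial.mpr hcn
    omega
  obtain ⟨z, hz⟩ := exists_prime_orderOf_dvd_card' p hpd
  have hz' : orderOf ((z : S) : Y) = p := by
    rw [Subgroup.orderOf_coe, Subgroup.orderOf_coe, hz]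
  have hzc : ∀ u : Y, u ∈ S → Commute ((z : S) : Y) u := by
    intro u hu
    have := Subgroup.mem_center_iff.mp z.2 ⟨u, hu⟩
    exact (congrArg Subtype.val this).symm
  have h1 := h.commute_mem hp.out hz' hx (hzc x hxS)
  have h2 := h.commute_mem hp.out hz' hy (hzc y hyS)
  have h3 : Subgroup.zpowers x = Subgroup.zpowers ((z : S) : Y) :=
    Subgroup.eq_of_le_of_card_ge (Subgroup.zpowers_le.mpr h1)
      (by rw [Nat.card_zpowers, Nat.card_zpowers, hx, hz'])
  rw [h3]; exact h2

theorem FC.cyclic_or_quaternion {Y : Type*} [Group Y] [Finite Y] (h : FC Y) {r : ℕ}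
    [hr : Fact r.Prime] (S : Subgroup Y) (hS : IsPGroup r S) :
    IsCyclic S ∨ (r = 2 ∧ ∃ n : ℕ, Nonempty (S ≃* QuaternionGroup (2 ^ n))) := by
  apply Cfsg.Agent.S0016.result r hS
  have key : ∀ A : Subgroup S, Nat.card A = r →
      ∃ a : S, orderOf a = r ∧ A = Subgroup.zpowers a := by
    intro A hA
    obtain ⟨a, ha⟩ := exists_prime_orderOf_dvd_card' (G := A) r (by rw [hA])
    rw [← Subgroup.orderOf_coe] at ha
    refine ⟨a, ha, ?_⟩
    refine (Subgroup.eq_of_le_of_card_ge (Subgroup.zpowers_le.mpr a.2) ?_).symm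
    rw [Nat.card_zpowers, ha, hA]
  intro A B hA hB
  obtain ⟨a, ha, rfl⟩ := key A hA
  obtain ⟨b, hb, rfl⟩ := key B hB
  have h1 := h.mem_of_pgroup S hS b.2 a.2 (by rw [Subgroup.orderOf_coe, hb])
    (by rw [Subgroup.orderOf_coe, ha])
  apply Subgroup.eq_of_le_of_card_ge
  · rw [Subgroup.zpowers_le]
    obtain ⟨k, hk⟩ := Subgroup.mem_zpowers_iff.mp h1
    rw [Subgroup.mem_zpowers_iff]
    exact ⟨k, Subtype.ext (by simpa using hk)⟩
  · rw [Nat.card_zpowers, Nat.card_zpowers, ha, hb]

theorem commute_of_isCyclic {Y : Type*} [Group Y] (S : Subgroup Y) (hS : IsCyclic S) {x y : Y}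
    (hx : x ∈ S) (hy : y ∈ S) : Commute x y := by
  obtain ⟨g, hg⟩ := hS.exists_generator
  obtain ⟨i, hi⟩ := Subgroup.mem_zpowers_iff.mp (hg ⟨x, hx⟩)
  obtain ⟨j, hj⟩ := Subgroup.mem_zpowers_iff.mp (hg ⟨y, hy⟩)
  have h1 : (⟨x, hx⟩ : S) * ⟨y, hy⟩ = ⟨y, hy⟩ * ⟨x, hx⟩ := by
    rw [← hi, ← hj, ← zpow_add, ← zpow_add, add_comm]
  exact congrArg Subtype.val h1

theorem FC.centralizes {Y : Type*} [Group Y] [Finite Y] (h : FC Y) {p r : ℕ} [hp : Fact p.Prime]
    [hr : Fact r.Prime] (hp5 : 5 ≤ p) {x : Y} (hx : orderOf x = p) (R : Subgroup Y) [hRn : R.Normal]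
    (hR : IsPGroup r R) : ∀ u ∈ R, Commute x u := by
  by_cases hrp : r = p
  · subst hrp
    have hzp : IsPGroup r (Subgroup.zpowers x) :=
      IsPGroup.of_card (n := 1) (by rw [Nat.card_zpowers, hx, pow_one])
    have hS : IsPGroup r (Subgroup.zpowers x ⊔ R : Subgroup Y) := hzp.to_sup_of_normal_right hR
    rcases h.cyclic_or_quaternion _ hS with hc | ⟨h2, -⟩
    · intro u hu
      exact commute_of_isCyclic _ hc
        (le_sup_left (b := R) (Subgroup.mem_zpowers x)) (le_sup_right (a := Subgroup.zpowers x) hu)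
    · omega
  · rcases h.cyclic_or_quaternion R hR with hc | ⟨h2, n, ⟨e⟩⟩
    · letI : CommGroup R :=
        { (inferInstance : Group R) with
          mul_comm := fun a b => Subtype.ext (commute_of_isCyclic R hc a.2 b.2).eq }
      let α : MulAut R := MulAut.conjNormal x
      have hαp : α ^ p = 1 := by
        change (MulAut.conjNormal x : MulAut R) ^ p = 1
        rw [← map_pow, ← hx, pow_orderOf_eq_one, map_one]
      have hα : α = 1 := by
        apply aut_trivial_of_trivial_on_omega hR α hαp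
          ((Nat.coprime_primes hp.out hr.out).mpr (Ne.symm hrp))
        intro w hw
        by_cases hw1 : w = 1
        · rw [hw1, map_one]
        have hwo : orderOf (w : Y) = r := by
          rw [Subgroup.orderOf_coe]; exact orderOf_eq_prime hw hw1
        have hWn : (Subgroup.zpowers (w : Y)).Normal :=
          Cfsg.Agent.Lib.Helper9.normal_of_le_cyclic_normal hRn (Subgroup.zpowers_le.mpr w.2)
        have hdvd := Cfsg.Agent.Lib.Lead.card_sup_dvd (Subgroup.zpowers x) (Subgroup.zpowers (w : Y))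
        rw [Nat.card_zpowers, Nat.card_zpowers, hx, hwo] at hdvd
        have h1 : p ∣ Nat.card (Subgroup.zpowers x ⊔ Subgroup.zpowers (w : Y) : Subgroup Y) := by
          have := Subgroup.card_dvd_of_le
            (le_sup_left : Subgroup.zpowers x ≤ Subgroup.zpowers x ⊔ Subgroup.zpowers (w : Y))
          rwa [Nat.card_zpowers, hx] at this
        have h2 : r ∣ Nat.card (Subgroup.zpowers x ⊔ Subgroup.zpowers (w : Y) : Subgroup Y) := by
          have := Subgroup.card_dvd_of_le
            (le_sup_right : Subgroup.zpowers (w : Y) ≤ Subgroup.zpowers x ⊔ Subgroup.zpowers (w : Y))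
          rwa [Nat.card_zpowers, hwo] at this
        have hcard : Nat.card (Subgroup.zpowers x ⊔ Subgroup.zpowers (w : Y) : Subgroup Y) = p * r :=
          Nat.dvd_antisymm hdvd (Nat.Coprime.mul_dvd_of_dvd_of_dvd
            ((Nat.coprime_primes hp.out hr.out).mpr (Ne.symm hrp)) h1 h2)
        have hA := h _ p r hp.out hr.out hcard
        have hcomm := commute_of_isCyclic _ hA
          (le_sup_left (b := Subgroup.zpowers (w : Y)) (Subgroup.mem_zpowers x))
          (le_sup_right (a := Subgroup.zpowers x) (Subgroup.mem_zpowers (w : Y)))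
        apply Subtype.ext
        change ((MulAut.conjNormal x : MulAut R) w : Y) = w
        rw [MulAut.conjNormal_apply, hcomm.eq]
        group
      intro u hu
      have h1 : ((MulAut.conjNormal x : MulAut R) ⟨u, hu⟩ : Y) = u := by
        change ((α ⟨u, hu⟩ : R) : Y) = u
        rw [hα]; rfl
      rw [MulAut.conjNormal_apply] at h1
      calc x * u = (x * u * x⁻¹) * x := by group
        _ = u * x := by rw [h1]
    · subst h2
      set y : Y := ((e.symm (QuaternionGroup.a 1) : R) : Y) with hy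
      have hyR : y ∈ R := (e.symm (QuaternionGroup.a 1)).2
      have hyo : orderOf y = 2 * 2 ^ n := by
        rw [hy, Subgroup.orderOf_coe, MulEquiv.orderOf_eq, QuaternionGroup.orderOf_a_one]
      have hcardR : Nat.card R = 4 * 2 ^ n := by
        rw [Nat.card_congr e.toEquiv, Nat.card_eq_fintype_card, QuaternionGroup.card]
      have hidx : (Subgroup.zpowers y).relIndex R = 2 := by
        have h1 := Cfsg.Agent.Lib.Helper9.relIndex_mul_card (Subgroup.zpowers_le.mpr hyR)
        rw [Nat.card_zpowers, hyo, hcardR] at h1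
        have h2 : 0 < 2 ^ n := by positivity
        nlinarith
      have hxN : x ∈ Subgroup.normalizer (R : Set Y) := by
        rw [Subgroup.normalizer_eq_top_iff.mpr hRn]; trivial
      have hodd : Odd (orderOf x) := by rw [hx]; exact hp.out.odd_of_ne_two (by omega)
      have h3 : ¬ 3 ∣ orderOf x := by
        rw [hx]
        intro h3
        have := (Nat.prime_dvd_prime_iff_eq Nat.prime_three hp.out).mp h3
        omega
      have hn1 := Cfsg.Agent.S3971.normalizes R y hidx hyR x hxN hodd h3
      have hc1 := Cfsg.Agent.S3971.cent_of_cyclic (Subgroup.zpowers y)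
        (hR.to_le (Subgroup.zpowers_le.mpr hyR)) inferInstance x hn1 hodd
      have hc2 := Cfsg.Agent.S3971.cent_of_index_two R (Subgroup.zpowers y) hR hidx x hxN hc1 hodd
      intro u hu
      exact (Subgroup.mem_centralizer_iff.mp hc2 u hu).symm

/-- A solvable group in which all subgroups of order `p q` are cyclic has a unique subgroup of order
`p` for each prime `p ≥ 5`. -/
theorem FC.up {Y : Type*} [Group Y] [Finite Y] (h : FC Y) (hs : Group.IsSolvable Y) : UP Y := by
  intro p hp hp5 x y hx hy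
  have : Fact p.Prime := ⟨hp⟩
  have key : ∀ z : Y, orderOf z = p → z ∈ Subgroup.centralizer (Cfsg.fittingSubgroup Y : Set Y) := by
    intro z hz
    have hle : Cfsg.fittingSubgroup Y ≤ Subgroup.centralizer {z} := by
      rw [Cfsg.Agent.Lib.Helper1.fittingSubgroup_eq_iSup_pCore]
      apply iSup_le
      intro r
      have : Fact (r : ℕ).Prime := ⟨r.2⟩
      intro u hu
      rw [Subgroup.mem_centralizer_singleton_iff]
      have hn : (Cfsg.pCore (r : ℕ) Y).Normal := Cfsg.Agent.Lib.Lead.pCore_normal' _ _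
      exact (h.centralizes hp5 hz (Cfsg.pCore (r : ℕ) Y)
        (Cfsg.Agent.Lib.Lead.pCore_isPGroup _ _) u hu).eq.symm
    rw [Subgroup.mem_centralizer_iff]
    intro u hu
    exact Subgroup.mem_centralizer_singleton_iff.mp (hle hu)
  have hyF : y ∈ Cfsg.fittingSubgroup Y := Cfsg.Agent.S0044.result (key y hy)
  have hc : Commute x y := ((Subgroup.mem_centralizer_iff.mp (key x hx)) y hyF).symm
  exact h.commute_mem hp hx hy hc

end Cfsg.Agent.Lib.Helper66
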