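import Mathlib
import Cfsg.Agent.S0035
import Cfsg.Agent.S0039
import Cfsg.Agent.S0041
import Cfsg.Agent.S0042
import Cfsg.Agent.Lib.Helper1.Frob
import Cfsg.Agent.Lib.Helper66.FrobCompl
import Cfsg.Agent.Lib.Helper66.OrderType

/-!
Basic facts on Frobenius groups, packaged.
-/

set_option autoImplicit false

namespace Cfsg.Agent.Lib.Helper66

/-- a Frobenius complement `C` together with the Frobenius kernel `N` as a subgroup. -/
structure FrobData {X : Type*} [Group X] (C N : Subgroup X) : Prop where
  compl : Cfsg.IsFrobeniusComplement C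
  set_eq : (N : Set X) = Cfsg.frobeniusKernel C
  normal : N.Normal
  isCompl : Subgroup.IsComplement' N C
  nilp : Group.IsNilpotent N

theorem exists_frobData {X : Type*} [Group X] [Finite X] (C : Subgroup X)
    (hC : Cfsg.IsFrobeniusComplement C) : ∃ N : Subgroup X, FrobData C N := by
  obtain ⟨N, h1, h2, h3⟩ := Cfsg.Agent.S0035.result C hC
  obtain ⟨N', h1', -, h3'⟩ := Cfsg.Agent.S0042.result C hC
  have : N' = N := SetLike.coe_injective (h1'.trans h1.symm)
  subst this
  exact ⟨N', hC, h1, h2, h3, h3'⟩

namespace FrobData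

variable {X : Type*} [Group X] {C N : Subgroup X}

theorem card_mul (D : FrobData C N) : Nat.card N * Nat.card C = Nat.card X := D.isCompl.card_mul_card

theorem coprime [Finite X] (D : FrobData C N) : (Nat.card N).Coprime (Nat.card C) := by
  have := Cfsg.Agent.Lib.Helper1.Frob.coprime_card_index D.compl
  rw [D.isCompl.index_eq_card] at this
  exact this.symm

theorem inf_eq_bot (D : FrobData C N) : N ⊓ C = ⊥ := D.isCompl.disjoint.eq_bot

theorem fpf (D : FrobData C N) {c x : X} (hc : c ∈ C) (hc1 : c ≠ 1) (hx : x ∈ N)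
    (hcomm : Commute x c) : x = 1 := by
  have h1 : x ∈ C := Cfsg.Agent.Lib.Helper1.Frob.mem_of_commute D.compl hc hc1 hcomm.eq
  have h2 : x ∈ N ⊓ C := ⟨hx, h1⟩
  rw [D.inf_eq_bot] at h2
  exact h2

theorem cover (D : FrobData C N) {x : X} (hx : x ∉ N) : ∃ g : X, ∃ c ∈ C, x = g * c * g⁻¹ := by
  have h1 : x ∉ Cfsg.frobeniusKernel C := by rw [← D.set_eq]; exact hx
  unfold Cfsg.frobeniusKernel at h1
  simp only [Set.mem_ofPred_eq, not_or, not_forall, not_not] at h1
  obtain ⟨-, g, hg⟩ := h1
  obtain ⟨c, hc, hcx⟩ := (Subgroup.mem_smul_pointwise_iff_exists _ _ _).mp hg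
  exact ⟨g, c, hc, by rw [← hcx]; simp [MulAut.smul_def]⟩

theorem ne_bot (D : FrobData C N) : N ≠ ⊥ := by
  intro h
  have h1 := D.isCompl.sup_eq_top
  rw [h, bot_sup_eq] at h1
  exact D.compl.2.1 h1

theorem orderOf_mk (D : FrobData C N) {x : X} (hx : x ∉ N) :
    haveI := D.normal
    orderOf (QuotientGroup.mk' N x) = orderOf x := by
  haveI := D.normal
  obtain ⟨g, c, hc, rfl⟩ := D.cover hx
  have hinj : Function.Injective ((QuotientGroup.mk' N).comp C.subtype) := by
    rw [← MonoidHom.ker_eq_bot_iff, eq_bot_iff]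
    intro u hu
    have h1 : (u : X) ∈ N := (QuotientGroup.eq_one_iff _).mp hu
    have h2 : (u : X) ∈ N ⊓ C := ⟨h1, u.2⟩
    rw [D.inf_eq_bot] at h2
    exact Subtype.ext h2
  have h1 : orderOf (QuotientGroup.mk' N c) = orderOf c := by
    have := orderOf_injective _ hinj ⟨c, hc⟩
    rw [Subgroup.orderOf_mk] at this
    exact this
  have h2 : orderOf (g * c * g⁻¹) = orderOf c := by
    have := (MulAut.conj g).orderOf_eq c
    simpa using this
  have h3 : orderOf (QuotientGroup.mk' N (g * c * g⁻¹)) = orderOf (QuotientGroup.mk' N c) := by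
    rw [map_mul, map_mul, map_inv]
    have := (MulAut.conj (QuotientGroup.mk' N g)).orderOf_eq (QuotientGroup.mk' N c)
    simpa using this
  rw [h3, h1, h2]

theorem orderOf_dvd [Finite X] (D : FrobData C N) (x : X) :
    orderOf x ∣ Nat.card N ∨ orderOf x ∣ Nat.card C := by
  by_cases hx : x ∈ N
  · left
    have := orderOf_dvd_natCard (⟨x, hx⟩ : N)
    rwa [Subgroup.orderOf_mk] at this
  · right
    obtain ⟨g, c, hc, rfl⟩ := D.cover hx
    have h2 : orderOf (g * c * g⁻¹) = orderOf c := by
      have := (MulAut.conj g).orderOf_eq c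
      simpa using this
    rw [h2]
    have := orderOf_dvd_natCard (⟨c, hc⟩ : C)
    rwa [Subgroup.orderOf_mk] at this

theorem nOrd_eq [Finite X] (D : FrobData C N) {m : ℕ} (hm : 1 < m) (hcop : m.Coprime (Nat.card N)) :
    nOrd X m = Nat.card N * nOrd C m := by
  haveI := D.normal
  have h1 : {x : X | orderOf x = m} =
      (QuotientGroup.mk : X → X ⧸ N) ⁻¹' {y : X ⧸ N | orderOf y = m} := by
    ext x
    constructor
    · intro hx
      have hxN : x ∉ N := by
        intro hxN
        have h2 := orderOf_dvd_natCard (⟨x, hxN⟩ : N)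
        rw [Subgroup.orderOf_mk] at h2
        have hx' : orderOf x = m := hx
        rw [hx'] at h2
        have := Nat.Coprime.eq_one_of_dvd hcop h2
        omega
      have := D.orderOf_mk hxN
      exact this.trans hx
    · intro hx
      have hx' : orderOf (QuotientGroup.mk' N x) = m := hx
      have hxN : x ∉ N := by
        intro hxN
        have : QuotientGroup.mk' N x = 1 := (QuotientGroup.eq_one_iff x).mpr hxN
        rw [this, orderOf_one] at hx'
        omega
      exact (D.orderOf_mk hxN).symm.trans hx'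
  have h2 : nOrd X m = Nat.card N * nOrd (X ⧸ N) m := by
    change Nat.card {x : X | orderOf x = m} = _
    rw [h1, Nat.card_congr (QuotientGroup.preimageMkEquivSubgroupProdSet N _), Nat.card_prod]
    rfl
  rw [h2]
  congr 1
  let e : X ⧸ N ≃* C := D.isCompl.symm.QuotientMulEquiv
  apply Nat.card_congr
  refine e.toEquiv.subtypeEquiv ?_
  intro y
  change orderOf y = m ↔ orderOf (e y) = m
  rw [MulEquiv.orderOf_eq]

theorem isSolvable_iff [Finite X] (D : FrobData C N) : Group.IsSolvable X ↔ Group.IsSolvable C := by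
  haveI := D.normal
  constructor
  · intro h; infer_instance
  · intro h
    have h1 : Group.IsSolvable N := by
      have := D.nilp
      infer_instance
    have h2 : Group.IsSolvable (X ⧸ N) :=
      Group.isSolvable_of_isSolvable_injective (f := D.isCompl.symm.QuotientMulEquiv.toMonoidHom)
        (MulEquiv.injective _)
    exact (Group.isSolvable_iff_subgroup_quotient N).mpr ⟨h1, h2⟩

/-- for a prime dividing the order of the kernel the Sylow subgroup is normal and inside the kernel. -/
theorem exists_normal_sylow [Finite X] (D : FrobData C N) {r : ℕ} [hr : Fact r.Prime]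
    (hrd : r ∣ Nat.card N) : ∃ P : Sylow r X, (P : Subgroup X).Normal ∧ (P : Subgroup X) ≤ N ∧
      (P : Subgroup X) ≠ ⊥ := by
  haveI := D.normal
  haveI := D.nilp
  let P₀ : Sylow r N := default
  have hn : (P₀ : Subgroup N).Normal := inferInstance
  have hch : (P₀ : Subgroup N).Characteristic := Sylow.characteristic_of_normal P₀ hn
  have hnX : ((P₀ : Subgroup N).map N.subtype).Normal :=
    Cfsg.Agent.Lib.Lead.normal_map_subtype_of_characteristic N (P₀ : Subgroup N)
  have hrC : ¬ r ∣ Nat.card C := by
    intro h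
    have := Nat.dvd_gcd hrd h
    rw [D.coprime] at this
    exact hr.out.one_lt.ne' (Nat.dvd_one.mp this)
  have hfact : (Nat.card X).factorization r = (Nat.card N).factorization r := by
    rw [← D.card_mul, Nat.factorization_mul Nat.card_pos.ne' Nat.card_pos.ne']
    simp [Nat.factorization_eq_zero_of_not_dvd hrC]
  have hcard : Nat.card ((P₀ : Subgroup N).map N.subtype) = r ^ (Nat.card X).factorization r := by
    rw [Subgroup.card_map_of_injective N.subtype_injective, hfact]
    exact P₀.card_eq_multiplicity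
  refine ⟨Sylow.ofCard _ hcard, hnX, Subgroup.map_subtype_le _, ?_⟩
  intro hbot
  have h1 : Nat.card ((P₀ : Subgroup N).map N.subtype) = 1 := by
    have : ((Sylow.ofCard _ hcard : Sylow r X) : Subgroup X) = (P₀ : Subgroup N).map N.subtype := rfl
    rw [← this, hbot]; simp
  rw [hcard, hfact] at h1
  have := Nat.one_lt_pow (hr.out.factorization_pos_of_dvd Nat.card_pos.ne' hrd).ne' hr.out.one_lt
  omega

/-- Subgroups of order `p q` of a Frobenius complement are cyclic. -/
theorem fc [Finite X] (D : FrobData C N) : FC C := by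
  have hN1 : Nat.card N ≠ 1 := fun h => D.ne_bot (Subgroup.card_eq_one.mp h)
  obtain ⟨r, hr, hrd⟩ := Nat.exists_prime_and_dvd hN1
  have : Fact r.Prime := ⟨hr⟩
  obtain ⟨P, hPn, hPN, hP0⟩ := D.exists_normal_sylow hrd
  set V := (Subgroup.center (P : Subgroup X)).map (P : Subgroup X).subtype with hV
  have hVn : V.Normal :=
    Cfsg.Agent.Lib.Lead.normal_map_subtype_of_characteristic (P : Subgroup X) (Subgroup.center _)
  have hVP : V ≤ (P : Subgroup X) := Subgroup.map_subtype_le _
  have hVc : IsMulCommutative V := by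
    refine ⟨⟨fun a b => Subtype.ext ?_⟩⟩
    obtain ⟨z, hz, hza⟩ := a.2
    have := Subgroup.mem_center_iff.mp hz ⟨b, hVP b.2⟩
    have h2 := congrArg Subtype.val this
    simp only [Subgroup.coe_mul] at h2
    change (a : X) * b = b * a
    rw [← hza]
    exact h2.symm
  have hV0 : V ≠ ⊥ := by
    have : Nontrivial (P : Subgroup X) := (Subgroup.nontrivial_iff_ne_bot _).mpr hP0
    have hnt := P.isPGroup'.center_nontrivial
    intro h
    rw [hV, Subgroup.map_eq_bot_iff_of_injective _ (Subgroup.subtype_injective _)] at h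
    exact (Subgroup.nontrivial_iff_ne_bot _).mp hnt h
  intro A p q hp hq hA
  have hcyc : IsCyclic (A.map C.subtype) := by
    apply Cfsg.Agent.S0041.result (A.map C.subtype) V hV0
    · rw [Subgroup.normalizer_eq_top_iff.mpr hVn]; exact le_top
    · rintro _ ⟨a, -, rfl⟩ ha1
      rw [eq_bot_iff]
      rintro x ⟨hxV, hxc⟩
      rw [Subgroup.mem_bot]
      apply D.fpf a.2 ha1 (hPN (hVP hxV))
      exact (Subgroup.mem_centralizer_singleton_iff.mp hxc)
    · right
      exact ⟨p, q, hp, hq, by rw [Subgroup.card_map_of_injective C.subtype_injective, hA]⟩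
  exact isCyclic_of_surjective (A.equivMapOfInjective C.subtype C.subtype_injective).symm
    (MulEquiv.surjective _)

/-- solvability of a Frobenius group read off from its order type. -/
theorem isSolvable_iff_nOrd [Finite X] (D : FrobData C N) :
    Group.IsSolvable X ↔ ∀ p : ℕ, p.Prime → 5 ≤ p → p ∣ Nat.card C →
      nOrd X p = Nat.card N * (p - 1) := by
  have hkey : ∀ p : ℕ, p.Prime → p ∣ Nat.card C → nOrd X p = Nat.card N * nOrd C p := by
    intro p hp hpd
    apply D.nOrd_eq hp.one_lt
    exact Nat.Coprime.coprime_dvd_left hpd D.coprime.symm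
  have hpos : 0 < Nat.card N := Nat.card_pos
  rw [D.isSolvable_iff]
  constructor
  · intro hs p hp hp5 hpd
    rw [hkey p hp hpd, up_iff.mp (D.fc.up hs) p hp hp5 hpd]
  · intro h
    apply isSolvable_of_up
    rw [up_iff]
    intro p hp hp5 hpd
    have := h p hp hp5 hpd
    rw [hkey p hp hpd] at this
    exact Nat.eq_of_mul_eq_mul_left hpos this

end FrobData

end Cfsg.Agent.Lib.Helper66
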