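import Mathlib

set_option autoImplicit false

namespace Cfsg.Agent.Lib.Helper66

universe u v w

/-- A homomorphism from an abelian group to a free abelian group of finite rank has a complement to its kernel. -/
theorem exists_compl_ker_of_free {T : Type u} [CommGroup T] {L : Type v} [AddCommGroup L]
    {ι : Type w} [Finite ι] (b : Module.Basis ι ℤ L) (f : T →* Multiplicative L) :
    ∃ S : Subgroup T, S ⊓ f.ker = ⊥ ∧ S ⊔ f.ker = ⊤ := by
  let f' : Additive T →ₗ[ℤ] L := (MonoidHom.toAdditiveLeft f).toIntLinearMap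
  have hf' : ∀ x : T, f' (Additive.ofMul x) = (f x).toAdd := fun x => rfl
  obtain ⟨n, ⟨bN⟩⟩ := Submodule.nonempty_basis_of_pid b (LinearMap.range f')
  have : Module.Free ℤ (LinearMap.range f') := Module.Free.of_basis bN
  obtain ⟨h, hh⟩ := Module.projective_lifting_property f'.rangeRestrict LinearMap.id
    (LinearMap.surjective_rangeRestrict f')
  have hh' : ∀ y : LinearMap.range f', f' (h y) = y := by
    intro y
    have := congrArg (fun g => (g y : L)) hh
    simpa using this
  let hm : Multiplicative (LinearMap.range f') →* T := AddMonoidHom.toMultiplicativeLeft h.toAddMonoidHom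
  have hhm : ∀ y : LinearMap.range f', hm (Multiplicative.ofAdd y) = (h y).toMul := fun y => rfl
  refine ⟨hm.range, ?_, ?_⟩
  · rw [eq_bot_iff]
    rintro x ⟨⟨y, rfl⟩, hx2⟩
    replace hx2 : f (hm y) = 1 := hx2
    have h1 : f' (h y.toAdd) = 0 := by
      have := hf' (hm y)
      rw [hx2] at this
      exact this
    rw [hh'] at h1
    have h2 : y.toAdd = 0 := Subtype.ext h1
    have h3 : y = 1 := h2
    rw [h3, map_one]
    exact Subgroup.mem_bot.mpr rfl
  · rw [eq_top_iff]
    intro x _
    let y : LinearMap.range f' := ⟨f' (Additive.ofMul x), LinearMap.mem_range_self _ _⟩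
    have hx : x = hm (Multiplicative.ofAdd y) * ((hm (Multiplicative.ofAdd y))⁻¹ * x) := by group
    rw [hx]
    apply Subgroup.mul_mem_sup (MonoidHom.mem_range.mpr ⟨_, rfl⟩)
    rw [MonoidHom.mem_ker, map_mul, map_inv, inv_mul_eq_one]
    have h1 : f' (h y) = f' (Additive.ofMul x) := hh' y
    have h2 := hf' (hm (Multiplicative.ofAdd y))
    have h3 := hf' x
    apply Multiplicative.toAdd.injective
    rw [← h2, ← h3]
    exact h1

/-- Version inside a group: `T` a central subgroup. -/
theorem exists_compl_of_central {E : Type u} [Group E] {L : Type v} [AddCommGroup L]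
    {ι : Type w} [Finite ι] (b : Module.Basis ι ℤ L) (a : E →* Multiplicative L)
    (T : Subgroup E) (hT : T ≤ Subgroup.center E) :
    ∃ S : Subgroup E, S ≤ T ∧ S ⊓ a.ker = ⊥ ∧ S ⊔ (T ⊓ a.ker) = T := by
  letI : CommGroup T :=
    { T.toGroup with
      mul_comm := by
        rintro ⟨x, hx⟩ ⟨y, hy⟩
        apply Subtype.ext
        exact (Subgroup.mem_center_iff.mp (hT hy)) x }
  obtain ⟨S, hS1, hS2⟩ := exists_compl_ker_of_free b (a.comp T.subtype)
  refine ⟨S.map T.subtype, ?_, ?_, ?_⟩
  · rintro _ ⟨x, -, rfl⟩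
    exact x.2
  · rw [eq_bot_iff]
    rintro _ ⟨⟨x, hx, rfl⟩, hx2⟩
    have : x ∈ S ⊓ (a.comp T.subtype).ker := ⟨hx, hx2⟩
    rw [hS1, Subgroup.mem_bot] at this
    rw [this]
    simp
  · apply le_antisymm
    · rw [sup_le_iff]
      refine ⟨?_, inf_le_left⟩
      rintro _ ⟨x, -, rfl⟩
      exact x.2
    · intro x hx
      have : (⟨x, hx⟩ : T) ∈ S ⊔ (a.comp T.subtype).ker := by rw [hS2]; trivial
      obtain ⟨s, hs, k, hk, hsk⟩ := Subgroup.mem_sup.mp this
      have hx' : x = (s : E) * (k : E) := by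
        have := congrArg Subtype.val hsk
        simpa using this.symm
      rw [hx']
      exact Subgroup.mul_mem_sup ⟨s, hs, rfl⟩ ⟨k.2, hk⟩

end Cfsg.Agent.Lib.Helper66
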