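import Mathlib
import Cfsg.Prelude.Def_KGroupFacts

set_option autoImplicit false

namespace Cfsg.Agent.Lib.Helper66

universe u v w

/-- transport of `HasSchurMultiplier` along an isomorphism of the multiplier. -/
theorem HasSchurMultiplier.congr {G : Type u} [Group G] {A : Type v} {B : Type w} [CommGroup A] [CommGroup B]
    (e : A ≃* B) (h : Cfsg.HasSchurMultiplier G A) : Cfsg.HasSchurMultiplier G B := by
  obtain ⟨⟨Γ, i1, i2, σ, hσ, ⟨f⟩⟩, h2⟩ := h
  refine ⟨⟨Γ, i1, i2, σ, hσ, ⟨f.trans e⟩⟩, ?_⟩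
  intro Δ _ _ τ hτ
  obtain ⟨π, hπ⟩ := h2 Δ τ hτ
  exact ⟨π.comp e.symm.toMonoidHom, hπ.comp e.symm.surjective⟩

/-- The identity is a stem extension. -/
theorem isStemExtension_id (G : Type u) [Group G] : Cfsg.IsStemExtension (MonoidHom.id G) := by
  refine ⟨Function.surjective_id, ?_, ?_⟩ <;>
  · intro x hx
    rw [MonoidHom.mem_ker, MonoidHom.id_apply] at hx
    rw [hx]; exact one_mem _

/-- Trivial multiplier: every finite stem extension has trivial kernel. -/
theorem hasCyclicSchurMultiplier_one_iff {G : Type u} [Group G] [Finite G] :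
    Cfsg.HasCyclicSchurMultiplier G 1 ↔
      ∀ (Γ : Type u) [Group Γ] [Finite Γ] (σ : Γ →* G), Cfsg.IsStemExtension σ → σ.ker = ⊥ := by
  constructor
  · rintro ⟨-, h⟩ Γ _ _ σ hσ
    obtain ⟨π, hπ⟩ := h Γ σ hσ
    rw [eq_bot_iff]
    intro x hx
    obtain ⟨a, ha⟩ := hπ ⟨x, hx⟩
    have : a = 1 := Subsingleton.elim _ _
    rw [this, map_one] at ha
    rw [Subgroup.mem_bot]
    exact (congrArg Subtype.val ha).symm
  · intro h
    refine ⟨⟨G, inferInstance, inferInstance, MonoidHom.id G, isStemExtension_id G, ?_⟩, ?_⟩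
    · have : Subsingleton (MonoidHom.id G).ker := by
        constructor
        rintro ⟨a, ha⟩ ⟨b, hb⟩
        rw [MonoidHom.mem_ker, MonoidHom.id_apply] at ha hb
        ext; simp [ha, hb]
      letI : Unique (MonoidHom.id G).ker := ⟨⟨1⟩, fun a => Subsingleton.elim _ _⟩
      exact ⟨MulEquiv.ofUnique⟩
    · intro Γ _ _ σ hσ
      refine ⟨1, ?_⟩
      rintro ⟨x, hx⟩
      refine ⟨1, ?_⟩
      rw [h Γ σ hσ, Subgroup.mem_bot] at hx
      ext; simp [hx]

end Cfsg.Agent.Lib.Helper66
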