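import Mathlib
import Cfsg.Prelude.Def_KGroupFacts
import Cfsg.Agent.Lib.Helper66.StemLemmas
import Cfsg.Agent.Lib.Helper66.FreeCompl
import Cfsg.Agent.Lib.Helper66.SchurBasic

set_option autoImplicit false

namespace Cfsg.Agent.Lib.Helper66

open scoped commutatorElement

universe u v w

section central

variable {X : Type v} {G : Type u} [Group X] [Group G]

theorem commutatorElement_mul_central_left {x z y : X} (hz : z ∈ Subgroup.center X) :
    ⁅x * z, y⁆ = ⁅x, y⁆ := by
  rw [commutatorElement_mul_left_eq_conj_mul]
  have : ⁅z, y⁆ = 1 := by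
    rw [commutatorElement_eq_one_iff_mul_comm]
    exact ((Subgroup.mem_center_iff.mp hz) y).symm
  rw [this]; group

theorem commutatorElement_mul_central_right {x z y : X} (hz : z ∈ Subgroup.center X) :
    ⁅x, y * z⁆ = ⁅x, y⁆ := by
  rw [← commutatorElement_inv, commutatorElement_mul_central_left hz, commutatorElement_inv]

theorem commutatorElement_eq_of_central (ξ : X →* G) (hξ : ξ.ker ≤ Subgroup.center X) {x x' y y' : X}
    (hx : ξ x = ξ x') (hy : ξ y = ξ y') : ⁅x, y⁆ = ⁅x', y'⁆ := by
  have h1 : x⁻¹ * x' ∈ Subgroup.center X := hξ (by rw [MonoidHom.mem_ker, map_mul, map_inv, hx]; simp)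
  have h2 : y⁻¹ * y' ∈ Subgroup.center X := hξ (by rw [MonoidHom.mem_ker, map_mul, map_inv, hy]; simp)
  have h3 : x' = x * (x⁻¹ * x') := by group
  have h4 : y' = y * (y⁻¹ * y') := by group
  rw [h3, h4, commutatorElement_mul_central_left h1, commutatorElement_mul_central_right h2]

theorem finite_commutatorSet_of_central [Finite G] (ξ : X →* G) (hξ : ξ.ker ≤ Subgroup.center X) :
    Finite (commutatorSet X) := by
  classical
  let s : G → X := fun g => if h : ∃ x, ξ x = g then h.choose else 1
  have hs : ∀ x : X, ξ (s (ξ x)) = ξ x := by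
    intro x
    have h : ∃ y, ξ y = ξ x := ⟨x, rfl⟩
    simp only [s, dif_pos h]
    exact h.choose_spec
  apply Set.Finite.subset (Set.finite_range (fun p : G × G => ⁅s p.1, s p.2⁆))
  rintro _ ⟨x, y, rfl⟩
  exact ⟨(ξ x, ξ y), commutatorElement_eq_of_central ξ hξ (hs x) (hs y)⟩

theorem finite_commutator_of_central [Finite G] (ξ : X →* G) (hξ : ξ.ker ≤ Subgroup.center X) :
    Finite (commutator X) := by
  have := finite_commutatorSet_of_central ξ hξ
  infer_instance

theorem normal_of_le_center {S : Subgroup X} (hS : S ≤ Subgroup.center X) : S.Normal := by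
  constructor
  intro x hx g
  rw [(Subgroup.mem_center_iff.mp (hS hx)) g]
  simpa using hx

theorem map_commutator_le {Y : Type w} [Group Y] (f : X →* Y) : (commutator X).map f ≤ commutator Y := by
  rw [commutator_def, Subgroup.map_commutator, commutator_def]
  exact Subgroup.commutator_mono le_top le_top

/-- Two central extensions, one mapping to the other over `G`, the first one onto `G`:
the commutator subgroup is mapped onto the commutator subgroup. -/
theorem map_commutator_eq_of_central {E : Type w} [Group E] (ε : E →* G) (hε : Function.Surjective ε)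
    (ξ : X →* G) (hξ : ξ.ker ≤ Subgroup.center X) (η : E →* X) (hη : ξ.comp η = ε) :
    (commutator E).map η = commutator X := by
  apply le_antisymm (map_commutator_le η)
  rw [commutator_eq_closure, Subgroup.closure_le]
  rintro _ ⟨x, y, rfl⟩
  obtain ⟨e1, he1⟩ := hε (ξ x)
  obtain ⟨e2, he2⟩ := hε (ξ y)
  refine ⟨⁅e1, e2⁆, ?_, ?_⟩
  · rw [commutator_eq_closure]
    exact Subgroup.subset_closure ⟨_, _, rfl⟩
  · rw [map_commutatorElement]
    apply commutatorElement_eq_of_central ξ hξ
    · rw [← he1, ← hη]; rfl
    · rw [← he2, ← hη]; rfl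

/-- restriction of `η` to `ker ⊓ commutator`. -/
theorem exists_surj_ker_inf_commutator {E : Type w} [Group E] (ε : E →* G) (hε : Function.Surjective ε)
    (ξ : X →* G) (hξ : ξ.ker ≤ Subgroup.center X) (η : E →* X) (hη : ξ.comp η = ε) :
    ∃ f : ↥(ε.ker ⊓ commutator E) →* ↥(ξ.ker ⊓ commutator X),
      Function.Surjective f ∧ ∀ m, (f m : X) = η m := by
  have hmem : ∀ m : ↥(ε.ker ⊓ commutator E), η m ∈ ξ.ker ⊓ commutator X := by
    rintro ⟨m, hm1, hm2⟩
    refine ⟨?_, map_commutator_le η ⟨m, hm2, rfl⟩⟩
    change ξ (η m) = 1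
    have : ξ (η m) = ε m := by rw [← hη]; rfl
    rw [this]; exact hm1
  refine ⟨(η.comp (Subgroup.subtype _)).codRestrict _ hmem, ?_, fun m => rfl⟩
  rintro ⟨w, hw1, hw2⟩
  rw [← map_commutator_eq_of_central ε hε ξ hξ η hη] at hw2
  obtain ⟨e, he, rfl⟩ := hw2
  refine ⟨⟨e, ?_, he⟩, rfl⟩
  change ε e = 1
  rw [← hη]; exact hw1

end central

section free

variable (G : Type u) [Group G]

/-- the relation subgroup `R` of the free presentation `FreeGroup G → G`. -/
def relKer : Subgroup (FreeGroup G) := (FreeGroup.lift (id : G → G)).ker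

instance relKer_normal : (relKer G).Normal := MonoidHom.normal_ker _

/-- `[R, F]` -/
def relComm : Subgroup (FreeGroup G) := ⁅relKer G, ⊤⁆

instance relComm_normal : (relComm G).Normal := Subgroup.commutator_normal _ _

theorem relComm_le_relKer : relComm G ≤ relKer G := Subgroup.commutator_le_left _ _

/-- `F / [R, F]` -/
abbrev FreeCentral : Type u := FreeGroup G ⧸ relComm G

/-- the projection `F / [R, F] → G` -/
def fcProj : FreeCentral G →* G :=
  QuotientGroup.lift (relComm G) (FreeGroup.lift (id : G → G)) (fun _ hx => relComm_le_relKer G hx)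

@[simp] theorem fcProj_mk (f : FreeGroup G) :
    fcProj G (QuotientGroup.mk f) = FreeGroup.lift (id : G → G) f := rfl

theorem fcProj_surjective : Function.Surjective (fcProj G) := by
  intro g
  exact ⟨QuotientGroup.mk (FreeGroup.of g), by simp⟩

theorem ker_fcProj_le_center : (fcProj G).ker ≤ Subgroup.center (FreeCentral G) := by
  intro x hx
  induction x using QuotientGroup.induction_on with
  | H f =>
    rw [Subgroup.mem_center_iff]
    intro y
    induction y using QuotientGroup.induction_on with
    | H f' =>
      symm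
      rw [← commutatorElement_eq_one_iff_mul_comm]
      have h1 : f ∈ relKer G := hx
      have h2 : ⁅f, f'⁆ ∈ relComm G := Subgroup.commutator_mem_commutator h1 (Subgroup.mem_top f')
      have h3 : ((⁅f, f'⁆ : FreeGroup G) : FreeCentral G) = 1 := (QuotientGroup.eq_one_iff _).mpr h2
      rw [← h3]
      exact (map_commutatorElement (QuotientGroup.mk' (relComm G)) f f').symm

/-- weak universality of `F / [R, F]` among central extensions. -/
theorem exists_lift_of_central {X : Type v} [Group X] (ξ : X →* G) (hsurj : Function.Surjective ξ)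
    (hξ : ξ.ker ≤ Subgroup.center X) : ∃ η : FreeCentral G →* X, ξ.comp η = fcProj G := by
  let s : G → X := Function.surjInv hsurj
  let φ : FreeGroup G →* X := FreeGroup.lift s
  have hφ : ξ.comp φ = FreeGroup.lift (id : G → G) := by
    apply FreeGroup.ext_hom
    intro g
    simp [φ, s, Function.surjInv_eq hsurj]
  have hker : relComm G ≤ φ.ker := by
    rw [relComm, Subgroup.commutator_le]
    intro r hr f _
    rw [MonoidHom.mem_ker, map_commutatorElement, commutatorElement_eq_one_iff_mul_comm]
    have : φ r ∈ ξ.ker := by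
      rw [MonoidHom.mem_ker]
      have : ξ (φ r) = FreeGroup.lift (id : G → G) r := by rw [← hφ]; rfl
      rw [this]; exact hr
    exact ((Subgroup.mem_center_iff.mp (hξ this)) _).symm
  refine ⟨QuotientGroup.lift (relComm G) φ hker, ?_⟩
  apply QuotientGroup.monoidHom_ext
  exact hφ

/-- abelianization map of the free group, with values in the free abelian group -/
def abF : FreeGroup G →* Multiplicative (FreeAbelianGroup G) where
  toFun f := Multiplicative.ofAdd (Additive.ofMul (Abelianization.of f) : FreeAbelianGroup G)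
  map_one' := rfl
  map_mul' _ _ := rfl

theorem ker_abF : (abF G).ker = commutator (FreeGroup G) := by
  ext f
  rw [MonoidHom.mem_ker]
  constructor
  · intro h
    have h1 : Abelianization.of f = 1 := h
    exact (QuotientGroup.eq_one_iff f).mp h1
  · intro h
    have h1 : Abelianization.of f = 1 := (QuotientGroup.eq_one_iff f).mpr h
    change Multiplicative.ofAdd (Additive.ofMul (Abelianization.of f) : FreeAbelianGroup G) = 1
    rw [h1]; rfl

/-- abelianization map of `F / [R, F]`, with values in the free abelian group -/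
def abE : FreeCentral G →* Multiplicative (FreeAbelianGroup G) :=
  QuotientGroup.lift (relComm G) (abF G) (by
    intro x hx
    have h1 : relComm G ≤ commutator (FreeGroup G) := by
      rw [relComm, commutator_def]
      exact Subgroup.commutator_mono le_top le_rfl
    have h2 := h1 hx
    rw [← ker_abF] at h2
    exact h2)

theorem ker_abE : (abE G).ker = commutator (FreeCentral G) := by
  apply le_antisymm
  · intro x hx
    induction x using QuotientGroup.induction_on with
    | H f =>
      have h1 : f ∈ (abF G).ker := hx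
      rw [ker_abF] at h1
      exact map_commutator_le (QuotientGroup.mk' (relComm G)) ⟨f, h1, rfl⟩
  · exact Abelianization.commutator_subset_ker _

/-- The Schur multiplier by the Hopf formula `(R ∩ F') / [R, F]`, as a subgroup of `F / [R, F]`. -/
def schurM : Subgroup (FreeCentral G) := (fcProj G).ker ⊓ commutator (FreeCentral G)

theorem schurM_le_center : schurM G ≤ Subgroup.center (FreeCentral G) :=
  inf_le_left.trans (ker_fcProj_le_center G)

instance schurMCommGroup : CommGroup (schurM G) :=
  { (schurM G).toGroup with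
    mul_comm := by
      rintro ⟨x, hx⟩ ⟨y, hy⟩
      apply Subtype.ext
      exact (Subgroup.mem_center_iff.mp (schurM_le_center G hy)) x }

instance schurM_finite [Finite G] : Finite (schurM G) := by
  have := finite_commutator_of_central (fcProj G) (ker_fcProj_le_center G)
  exact Finite.of_injective (fun x : schurM G => (⟨x.1, x.2.2⟩ : commutator (FreeCentral G)))
    (fun x y h => Subtype.ext (congrArg (fun z : commutator (FreeCentral G) => (z : FreeCentral G)) h))

/-- For every central extension of `G`, `ker ⊓ commutator` is an image of `schurM G`. -/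
theorem exists_surj_schurM {X : Type v} [Group X] (ξ : X →* G) (hsurj : Function.Surjective ξ)
    (hξ : ξ.ker ≤ Subgroup.center X) :
    ∃ f : schurM G →* ↥(ξ.ker ⊓ commutator X), Function.Surjective f := by
  obtain ⟨η, hη⟩ := exists_lift_of_central G ξ hsurj hξ
  obtain ⟨f, hf, -⟩ := exists_surj_ker_inf_commutator (fcProj G) (fcProj_surjective G) ξ hξ η hη
  exact ⟨f, hf⟩

theorem exists_cover_compl [Finite G] (T : Subgroup (FreeCentral G)) (hT : T ≤ (fcProj G).ker)
    (hTM : T ⊔ schurM G = (fcProj G).ker) :
    ∃ S : Subgroup (FreeCentral G), S ≤ T ∧ S ⊓ commutator (FreeCentral G) = ⊥ ∧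
      S ⊔ schurM G = (fcProj G).ker := by
  obtain ⟨S, hS1, hS2, hS3⟩ := exists_compl_of_central (FreeAbelianGroup.basis G) (abE G) T
    (hT.trans (ker_fcProj_le_center G))
  rw [ker_abE] at hS2 hS3
  refine ⟨S, hS1, hS2, ?_⟩
  apply le_antisymm
  · exact sup_le (hS1.trans hT) inf_le_left
  · rw [← hTM, ← hS3]
    refine sup_le (sup_le le_sup_left ?_) le_sup_right
    exact le_sup_of_le_right (inf_le_inf_right _ hT)

/-- The quotient by a complement is a Schur cover. -/
theorem exists_cover [Finite G] (T : Subgroup (FreeCentral G)) (hT : T ≤ (fcProj G).ker)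
    (hTM : T ⊔ schurM G = (fcProj G).ker) :
    ∃ (S : Subgroup (FreeCentral G)) (_ : S.Normal), S ≤ T ∧ Finite (FreeCentral G ⧸ S) ∧
      ∃ σ : FreeCentral G ⧸ S →* G, (∀ e : FreeCentral G, σ (QuotientGroup.mk e) = fcProj G e) ∧
        Cfsg.IsStemExtension σ ∧ Nonempty (σ.ker ≃* schurM G) := by
  obtain ⟨S, hS1, hS2, hS3⟩ := exists_cover_compl G T hT hTM
  have hSc : S ≤ Subgroup.center (FreeCentral G) := (hS1.trans hT).trans (ker_fcProj_le_center G)
  have hSn : S.Normal := normal_of_le_center hSc
  obtain ⟨σ, hσmk⟩ : ∃ σ : FreeCentral G ⧸ S →* G,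
      ∀ e : FreeCentral G, σ (QuotientGroup.mk e) = fcProj G e :=
    ⟨QuotientGroup.lift S (fcProj G) (fun x hx => hT (hS1 hx)), fun e => rfl⟩
  -- description of the kernel
  have hker : ∀ x : FreeCentral G ⧸ S, x ∈ σ.ker → ∃ m ∈ schurM G, x = QuotientGroup.mk m := by
    intro x hx
    induction x using QuotientGroup.induction_on with
    | H e =>
      have he : e ∈ (fcProj G).ker := by
        rw [MonoidHom.mem_ker, ← hσmk]; exact hx
      rw [← hS3] at he
      obtain ⟨s, hs, m, hm, rfl⟩ := Subgroup.mem_sup_of_normal_left.mp he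
      refine ⟨m, hm, ?_⟩
      rw [QuotientGroup.mk_mul, (QuotientGroup.eq_one_iff s).mpr hs, one_mul]
  have hstem : Cfsg.IsStemExtension σ := by
    refine ⟨?_, ?_, ?_⟩
    · intro g
      obtain ⟨e, he⟩ := fcProj_surjective G g
      exact ⟨QuotientGroup.mk e, by rw [hσmk, he]⟩
    · intro x hx
      obtain ⟨m, hm, rfl⟩ := hker x hx
      rw [Subgroup.mem_center_iff]
      intro y
      induction y using QuotientGroup.induction_on with
      | H e =>
        rw [← QuotientGroup.mk_mul, ← QuotientGroup.mk_mul,
          (Subgroup.mem_center_iff.mp (schurM_le_center G hm)) e]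
    · intro x hx
      obtain ⟨m, hm, rfl⟩ := hker x hx
      exact map_commutator_le (QuotientGroup.mk' S) ⟨m, hm.2, rfl⟩
  let φ : schurM G →* σ.ker :=
    ((QuotientGroup.mk' S).comp (schurM G).subtype).codRestrict σ.ker (fun m => by
      rw [MonoidHom.mem_ker]
      exact (hσmk m).trans m.2.1)
  have hφ : Function.Bijective φ := by
    constructor
    · rw [injective_iff_map_eq_one]
      intro m hm
      have h1 : ((m : FreeCentral G) : FreeCentral G ⧸ S) = 1 := congrArg Subtype.val hm
      rw [QuotientGroup.eq_one_iff] at h1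
      have h2 : (m : FreeCentral G) ∈ S ⊓ commutator (FreeCentral G) := ⟨h1, m.2.2⟩
      rw [hS2, Subgroup.mem_bot] at h2
      exact Subtype.ext h2
    · rintro ⟨x, hx⟩
      obtain ⟨m, hm, rfl⟩ := hker x hx
      exact ⟨⟨m, hm⟩, rfl⟩
  have e : σ.ker ≃* schurM G := (MulEquiv.ofBijective φ hφ).symm
  have hfin : Finite (FreeCentral G ⧸ S) := by
    have h1 : Finite σ.ker := Finite.of_equiv _ e.symm.toEquiv
    have h2 : Finite ((FreeCentral G ⧸ S) ⧸ σ.ker) :=
      Finite.of_equiv _ (QuotientGroup.quotientKerEquivOfSurjective σ hstem.1).symm.toEquiv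
    exact Finite.of_subgroup_quotient σ.ker
  exact ⟨S, hSn, hS1, hfin, σ, hσmk, hstem, ⟨e⟩⟩

end free

end Cfsg.Agent.Lib.Helper66
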