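import Mathlib
import Cfsg.Prelude.Def_KGroupFacts
import Cfsg.Agent.Lib.Helper66.Hopf

set_option autoImplicit false

namespace Cfsg.Agent.Lib.Helper66

open scoped commutatorElement

universe u v w

theorem map_commutator_eq_of_surjective {X : Type u} {Y : Type v} [Group X] [Group Y] (f : X →* Y)
    (hf : Function.Surjective f) : (commutator X).map f = commutator Y := by
  rw [commutator_def, Subgroup.map_commutator, commutator_def,
    Subgroup.map_top_of_surjective f hf]

section fibre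

variable {Γ : Type u} {Δ : Type v} {Q : Type w} [Group Γ] [Group Δ] [Group Q]
  (σ : Γ →* Q) (τ : Δ →* Q)

/-- fibre product of two groups over `Q` -/
def fibre : Subgroup (Γ × Δ) := (σ.comp (MonoidHom.fst Γ Δ)).eqLocus (τ.comp (MonoidHom.snd Γ Δ))

theorem mem_fibre {x : Γ × Δ} : x ∈ fibre σ τ ↔ σ x.1 = τ x.2 := Iff.rfl

/-- first projection -/
def fibreFst : fibre σ τ →* Γ := (MonoidHom.fst Γ Δ).comp (fibre σ τ).subtype
/-- second projection -/
def fibreSnd : fibre σ τ →* Δ := (MonoidHom.snd Γ Δ).comp (fibre σ τ).subtype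

@[simp] theorem fibreFst_apply (x : fibre σ τ) : fibreFst σ τ x = x.1.1 := rfl
@[simp] theorem fibreSnd_apply (x : fibre σ τ) : fibreSnd σ τ x = x.1.2 := rfl

theorem fibre_comm (x : fibre σ τ) : σ (fibreFst σ τ x) = τ (fibreSnd σ τ x) := x.2

theorem fibreFst_surjective (hτ : Function.Surjective τ) : Function.Surjective (fibreFst σ τ) := by
  intro γ
  obtain ⟨δ, hδ⟩ := hτ (σ γ)
  exact ⟨⟨(γ, δ), hδ.symm⟩, rfl⟩

theorem fibreSnd_surjective (hσ : Function.Surjective σ) : Function.Surjective (fibreSnd σ τ) := by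
  intro δ
  obtain ⟨γ, hγ⟩ := hσ (τ δ)
  exact ⟨⟨(γ, δ), hγ⟩, rfl⟩

theorem ker_fibreFst_le_center (hτ : τ.ker ≤ Subgroup.center Δ) :
    (fibreFst σ τ).ker ≤ Subgroup.center (fibre σ τ) := by
  rintro ⟨⟨γ, δ⟩, hx⟩ hk
  rw [MonoidHom.mem_ker, fibreFst_apply] at hk
  simp only at hk
  subst hk
  have hδ : δ ∈ τ.ker := by
    rw [MonoidHom.mem_ker]
    have : σ 1 = τ δ := hx
    rw [← this, map_one]
  rw [Subgroup.mem_center_iff]
  rintro ⟨⟨γ', δ'⟩, hy⟩
  apply Subtype.ext
  apply Prod.ext
  · simp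
  · exact (Subgroup.mem_center_iff.mp (hτ hδ)) δ'

/-- If the commutator subgroup of the fibre product meets the kernel of the first projection trivially,
then the kernel of the first (stem) extension maps onto the kernel of the second. -/
theorem exists_surj_ker_of_fibre (hσ : Cfsg.IsStemExtension σ) (hτ : Cfsg.IsStemExtension τ)
    (h : (fibreFst σ τ).ker ⊓ commutator (fibre σ τ) = ⊥) :
    ∃ π : σ.ker →* τ.ker, Function.Surjective π := by
  let C := commutator (fibre σ τ)
  let θ : C →* Γ := (fibreFst σ τ).comp C.subtype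
  have hinj : Function.Injective θ := by
    rw [injective_iff_map_eq_one]
    intro c hc
    have : (c : fibre σ τ) ∈ (fibreFst σ τ).ker ⊓ commutator (fibre σ τ) := ⟨hc, c.2⟩
    rw [h, Subgroup.mem_bot] at this
    exact Subtype.ext this
  have hrange : θ.range = commutator Γ := by
    rw [← map_commutator_eq_of_surjective _ (fibreFst_surjective σ τ hτ.1)]
    ext x
    constructor
    · rintro ⟨c, rfl⟩; exact ⟨c.1, c.2, rfl⟩
    · rintro ⟨c, hc, rfl⟩; exact ⟨⟨c, hc⟩, rfl⟩
  have hle : σ.ker ≤ θ.range := by rw [hrange]; exact hσ.2.2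
  let ψ : σ.ker →* C := (MonoidHom.ofInjective hinj).symm.toMonoidHom.comp (Subgroup.inclusion hle)
  have hψ : ∀ x : σ.ker, θ (ψ x) = x := by
    intro x
    have := (MonoidHom.ofInjective hinj).apply_symm_apply (Subgroup.inclusion hle x)
    exact congrArg Subtype.val this
  have hmem : ∀ x : σ.ker, fibreSnd σ τ (ψ x : fibre σ τ) ∈ τ.ker := by
    intro x
    rw [MonoidHom.mem_ker, ← fibre_comm]
    have : fibreFst σ τ (ψ x : fibre σ τ) = x := hψ x
    rw [this]; exact x.2
  refine ⟨((fibreSnd σ τ).comp (C.subtype.comp ψ)).codRestrict τ.ker hmem, ?_⟩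
  rintro ⟨k, hk⟩
  have hk' : k ∈ commutator Δ := hτ.2.2 hk
  rw [← map_commutator_eq_of_surjective _ (fibreSnd_surjective σ τ hσ.1)] at hk'
  obtain ⟨c, hc, rfl⟩ := hk'
  have hc1 : fibreFst σ τ c ∈ σ.ker := by
    rw [MonoidHom.mem_ker, fibre_comm]; exact hk
  refine ⟨⟨fibreFst σ τ c, hc1⟩, ?_⟩
  apply Subtype.ext
  have : ψ ⟨fibreFst σ τ c, hc1⟩ = ⟨c, hc⟩ := by
    apply hinj
    rw [hψ]; rfl
  change fibreSnd σ τ (ψ ⟨fibreFst σ τ c, hc1⟩ : fibre σ τ) = fibreSnd σ τ c
  rw [this]

end fibre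

/-- A surjection onto a perfect group whose kernel meets the commutator subgroup trivially splits. -/
theorem exists_section_of_perfect {P : Type u} {G : Type v} [Group P] [Group G]
    (hG : commutator G = ⊤) (p : P →* G) (hp : Function.Surjective p)
    (h : p.ker ⊓ commutator P = ⊥) : ∃ s : G →* P, p.comp s = MonoidHom.id G := by
  let C := commutator P
  let θ : C →* G := p.comp C.subtype
  have hinj : Function.Injective θ := by
    rw [injective_iff_map_eq_one]
    intro c hc
    have : (c : P) ∈ p.ker ⊓ commutator P := ⟨hc, c.2⟩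
    rw [h, Subgroup.mem_bot] at this
    exact Subtype.ext this
  have hsurj : Function.Surjective θ := by
    intro g
    have hg : g ∈ commutator G := by rw [hG]; trivial
    rw [← map_commutator_eq_of_surjective _ hp] at hg
    obtain ⟨c, hc, rfl⟩ := hg
    exact ⟨⟨c, hc⟩, rfl⟩
  let e : C ≃* G := MulEquiv.ofBijective θ ⟨hinj, hsurj⟩
  refine ⟨C.subtype.comp e.symm.toMonoidHom, ?_⟩
  ext g
  exact e.apply_symm_apply g

end Cfsg.Agent.Lib.Helper66
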