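import Mathlib
import Cfsg.Prelude.Def_KGroupFacts
import Cfsg.Agent.Lib.Helper66.Hopf

set_option autoImplicit false

namespace Cfsg.Agent.Lib.Helper66

open scoped commutatorElement

universe u v w

variable {G : Type u} [Group G]

/-- In a stem extension `ker ⊓ commutator = ker`. -/
theorem IsStemExtension.ker_inf_commutator {Γ : Type v} [Group Γ] {σ : Γ →* G}
    (hσ : Cfsg.IsStemExtension σ) : σ.ker ⊓ commutator Γ = σ.ker := inf_eq_left.mpr hσ.2.2

/-- the kernel of a stem extension is an image of `schurM G`. -/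
theorem exists_surj_schurM_ker {Γ : Type v} [Group Γ] (σ : Γ →* G) (hσ : Cfsg.IsStemExtension σ) :
    ∃ f : schurM G →* σ.ker, Function.Surjective f := by
  obtain ⟨f, hf⟩ := exists_surj_schurM G σ hσ.1 hσ.2.1
  refine ⟨(Subgroup.inclusion inf_le_left).comp f, ?_⟩
  rintro ⟨x, hx⟩
  obtain ⟨m, hm⟩ := hf ⟨x, hx, hσ.2.2 hx⟩
  refine ⟨m, ?_⟩
  apply Subtype.ext
  simp [hm]

/-- **Existence of the Schur multiplier and of a Schur cover.** -/
theorem hasSchurMultiplier_schurM (G : Type u) [Group G] [Finite G] :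
    Cfsg.HasSchurMultiplier G (schurM G) := by
  constructor
  · obtain ⟨S, hSn, -, hfin, σ, -, hstem, he⟩ := exists_cover G (fcProj G).ker le_rfl
      (sup_eq_left.mpr inf_le_left)
    exact ⟨FreeCentral G ⧸ S, inferInstance, hfin, σ, hstem, he⟩
  · intro Γ _ _ σ hσ
    exact exists_surj_schurM_ker σ hσ

theorem HasSchurMultiplier.finite_group {A : Type v} [CommGroup A] (hA : Cfsg.HasSchurMultiplier G A) :
    Finite G := by
  obtain ⟨⟨Γ, _, _, σ, hσ, -⟩, -⟩ := hA
  exact Finite.of_surjective σ hσ.1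

theorem HasSchurMultiplier.finite {A : Type v} [CommGroup A] (hA : Cfsg.HasSchurMultiplier G A) :
    Finite A := by
  obtain ⟨⟨Γ, _, _, σ, hσ, ⟨e⟩⟩, -⟩ := hA
  exact Finite.of_equiv _ e.toEquiv

/-- **Uniqueness of the Schur multiplier.** -/
theorem HasSchurMultiplier.nonempty_mulEquiv_schurM {A : Type v} [CommGroup A]
    (hA : Cfsg.HasSchurMultiplier G A) : Nonempty (A ≃* schurM G) := by
  have hG : Finite G := HasSchurMultiplier.finite_group hA
  have hAfin : Finite A := HasSchurMultiplier.finite hA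
  obtain ⟨⟨Γ, _, _, σ, hσ, ⟨e⟩⟩, h2⟩ := hA
  obtain ⟨⟨Γ', _, _, σ', hσ', ⟨e'⟩⟩, -⟩ := hasSchurMultiplier_schurM G
  obtain ⟨f, hf⟩ := exists_surj_schurM_ker σ hσ
  obtain ⟨g, hg⟩ := h2 Γ' σ' hσ'
  -- surjections both ways
  let f' : schurM G →* A := e.toMonoidHom.comp f
  have hf' : Function.Surjective f' := e.surjective.comp hf
  let g' : A →* schurM G := e'.toMonoidHom.comp g
  have hg' : Function.Surjective g' := e'.surjective.comp hg
  have hcard : Nat.card A = Nat.card (schurM G) :=
    le_antisymm (Nat.card_le_card_of_surjective f' hf') (Nat.card_le_card_of_surjective g' hg')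
  have hbij : Function.Bijective g' := by
    rw [Nat.bijective_iff_surjective_and_card]
    exact ⟨hg', hcard⟩
  exact ⟨MulEquiv.ofBijective g' hbij⟩

theorem hasSchurMultiplier_iff [Finite G] {A : Type v} [CommGroup A] :
    Cfsg.HasSchurMultiplier G A ↔ Nonempty (A ≃* schurM G) :=
  ⟨fun h => HasSchurMultiplier.nonempty_mulEquiv_schurM h,
    fun ⟨e⟩ => HasSchurMultiplier.congr e.symm (hasSchurMultiplier_schurM G)⟩

theorem HasSchurMultiplier.unique {A : Type v} {B : Type w} [CommGroup A] [CommGroup B]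
    (hA : Cfsg.HasSchurMultiplier G A) (hB : Cfsg.HasSchurMultiplier G B) : Nonempty (A ≃* B) := by
  obtain ⟨e1⟩ := HasSchurMultiplier.nonempty_mulEquiv_schurM hA
  obtain ⟨e2⟩ := HasSchurMultiplier.nonempty_mulEquiv_schurM hB
  exact ⟨e1.trans e2.symm⟩

/-- **Key tool.** For ANY central extension `ξ : X → G` (no finiteness, any universe), the group
`ker ξ ⊓ X'` is a homomorphic image of the Schur multiplier. -/
theorem HasSchurMultiplier.exists_surj_of_central {A : Type v} [CommGroup A]
    (hA : Cfsg.HasSchurMultiplier G A) {X : Type w} [Group X] (ξ : X →* G)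
    (hsurj : Function.Surjective ξ) (hξ : ξ.ker ≤ Subgroup.center X) :
    ∃ f : A →* ↥(ξ.ker ⊓ commutator X), Function.Surjective f := by
  obtain ⟨e⟩ := HasSchurMultiplier.nonempty_mulEquiv_schurM hA
  obtain ⟨f, hf⟩ := exists_surj_schurM G ξ hsurj hξ
  exact ⟨f.comp e.toMonoidHom, hf.comp e.surjective⟩

/-- Trivial multiplier: in every central extension, `ker ⊓ commutator = ⊥`. -/
theorem ker_inf_commutator_eq_bot_of_trivial (hG : Cfsg.HasCyclicSchurMultiplier G 1)
    {X : Type w} [Group X] (ξ : X →* G)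
    (hsurj : Function.Surjective ξ) (hξ : ξ.ker ≤ Subgroup.center X) : ξ.ker ⊓ commutator X = ⊥ := by
  obtain ⟨f, hf⟩ := HasSchurMultiplier.exists_surj_of_central hG ξ hsurj hξ
  rw [eq_bot_iff]
  intro x hx
  obtain ⟨a, ha⟩ := hf ⟨x, hx⟩
  have : a = 1 := Subsingleton.elim _ _
  rw [this, map_one] at ha
  rw [Subgroup.mem_bot]
  exact (congrArg Subtype.val ha).symm

/-- A finite stem extension whose kernel is at least as large as every other one is a Schur cover. -/
theorem hasSchurMultiplier_of_card_le {A : Type v} [CommGroup A] {Γ : Type u} [Group Γ] [Finite Γ]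
    (σ : Γ →* G) (hσ : Cfsg.IsStemExtension σ) (e : σ.ker ≃* A)
    (h : ∀ (Δ : Type u) [Group Δ] [Finite Δ] (τ : Δ →* G), Cfsg.IsStemExtension τ →
      Nat.card τ.ker ≤ Nat.card A) : Cfsg.HasSchurMultiplier G A := by
  have hG : Finite G := Finite.of_surjective σ hσ.1
  have hAfin : Finite A := Finite.of_equiv _ e.toEquiv
  obtain ⟨⟨Γ', _, _, σ', hσ', ⟨e'⟩⟩, -⟩ := hasSchurMultiplier_schurM G
  obtain ⟨f, hf⟩ := exists_surj_schurM_ker σ hσ
  let f' : schurM G →* A := e.toMonoidHom.comp f
  have hf' : Function.Surjective f' := e.surjective.comp hf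
  have h1 : Nat.card (schurM G) ≤ Nat.card A := by
    rw [← Nat.card_congr e'.toEquiv]; exact h Γ' σ' hσ'
  have hcard : Nat.card (schurM G) = Nat.card A :=
    le_antisymm h1 (Nat.card_le_card_of_surjective f' hf')
  have hbij : Function.Bijective f' := by
    rw [Nat.bijective_iff_surjective_and_card]
    exact ⟨hf', hcard⟩
  exact HasSchurMultiplier.congr (MulEquiv.ofBijective f' hbij) (hasSchurMultiplier_schurM G)

end Cfsg.Agent.Lib.Helper66
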