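import Mathlib

/-!
# A permutation model of the triple cover of `A₇` on 63 points

Five permutations `y 0, …, y 4` of 63 points and a fixed-point-free permutation `ζ` of order 3
commuting with them, which satisfy Carmichael's relations for `A₇` except that
`(y 0 * y 3) ^ 2 = ζ`.  (Found by coset enumeration; everything is checked by `decide`.)
-/

set_option autoImplicit false

namespace Cfsg.Agent.Lib.Helper66.AltTriple

/-- the map of `Fin 63` coded by a list. -/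
def fn (l : List ℕ) (i : Fin 63) : Fin 63 := ⟨(l.getD i.val 0) % 63, Nat.mod_lt _ (by norm_num)⟩

def L0 : List ℕ := [4, 3, 9, 8, 5, 0, 7, 18, 1, 12, 11, 15, 2, 14, 27, 10, 31, 16, 6, 26, 19, 22, 41, 34, 23, 32, 20, 13, 25, 30, 38, 17, 28, 33, 24, 50, 39, 37, 29, 45, 48, 21, 35, 44, 46, 36, 43, 40, 47, 49, 42, 55, 53, 54, 52, 56, 51, 58, 59, 57, 60, 61, 62]

def L1 : List ℕ := [0, 1, 2, 10, 6, 7, 4, 5, 11, 13, 3, 8, 14, 9, 12, 15, 17, 16, 18, 20, 19, 23, 29, 21, 30, 28, 37, 27, 25, 22, 24, 33, 49, 31, 46, 36, 35, 26, 44, 40, 39, 43, 48, 41, 38, 54, 34, 52, 42, 32, 53, 51, 47, 50, 45, 55, 56, 57, 58, 59, 60, 61, 62]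

def L2 : List ℕ := [0, 1, 2, 8, 5, 4, 19, 20, 3, 12, 16, 17, 9, 25, 28, 31, 10, 11, 26, 6, 7, 22, 21, 24, 23, 13, 18, 32, 14, 30, 29, 15, 27, 33, 34, 42, 39, 37, 38, 36, 48, 41, 35, 56, 55, 45, 51, 47, 40, 49, 50, 46, 59, 58, 57, 44, 43, 54, 53, 52, 60, 61, 62]

def L3 : List ℕ := [0, 1, 2, 12, 8, 9, 11, 13, 4, 5, 14, 6, 3, 7, 10, 15, 29, 22, 18, 21, 23, 19, 17, 20, 25, 24, 38, 27, 30, 16, 28, 34, 41, 46, 31, 36, 35, 44, 26, 40, 39, 32, 48, 49, 37, 45, 33, 47, 42, 43, 50, 51, 52, 53, 54, 55, 56, 62, 61, 60, 59, 58, 57]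

def L4 : List ℕ := [0, 1, 2, 8, 5, 4, 7, 6, 3, 12, 11, 10, 9, 14, 13, 15, 17, 16, 18, 20, 19, 39, 36, 40, 48, 28, 26, 27, 25, 35, 42, 31, 32, 33, 47, 29, 22, 37, 50, 21, 23, 45, 30, 54, 53, 41, 52, 34, 24, 49, 38, 59, 46, 44, 43, 58, 57, 56, 55, 51, 60, 61, 62]

def L0i : List ℕ := [5, 8, 12, 1, 0, 4, 18, 6, 3, 2, 15, 10, 9, 27, 13, 11, 17, 31, 7, 20, 26, 41, 21, 24, 34, 28, 19, 14, 32, 38, 29, 16, 25, 33, 23, 42, 45, 37, 30, 36, 47, 22, 50, 46, 43, 39, 44, 48, 40, 49, 35, 56, 54, 52, 53, 51, 55, 59, 57, 58, 60, 61, 62]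

def Lz : List ℕ := [1, 2, 0, 9, 3, 8, 10, 11, 12, 4, 13, 14, 5, 6, 7, 27, 25, 28, 15, 16, 17, 29, 30, 22, 21, 19, 31, 18, 20, 24, 23, 32, 26, 49, 41, 48, 42, 33, 34, 35, 36, 38, 40, 44, 46, 50, 43, 45, 39, 37, 47, 56, 54, 52, 53, 51, 55, 58, 59, 57, 62, 60, 61]

def Lzi : List ℕ := [2, 0, 1, 4, 9, 12, 13, 14, 5, 3, 6, 7, 8, 10, 11, 18, 19, 20, 27, 25, 28, 24, 23, 30, 29, 16, 32, 15, 17, 21, 22, 26, 31, 37, 38, 39, 40, 49, 41, 48, 42, 34, 36, 46, 43, 47, 44, 50, 35, 33, 45, 55, 53, 54, 52, 56, 51, 59, 57, 58, 61, 62, 60]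

set_option maxRecDepth 100000

def y0 : Equiv.Perm (Fin 63) :=
  ⟨fn L0, fn L0i, fun i => by revert i; decide, fun i => by revert i; decide⟩

def y1 : Equiv.Perm (Fin 63) :=
  ⟨fn L1, fn L1, fun i => by revert i; decide, fun i => by revert i; decide⟩

def y2 : Equiv.Perm (Fin 63) :=
  ⟨fn L2, fn L2, fun i => by revert i; decide, fun i => by revert i; decide⟩

def y3 : Equiv.Perm (Fin 63) :=
  ⟨fn L3, fn L3, fun i => by revert i; decide, fun i => by revert i; decide⟩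

def y4 : Equiv.Perm (Fin 63) :=
  ⟨fn L4, fn L4, fun i => by revert i; decide, fun i => by revert i; decide⟩

def ζ : Equiv.Perm (Fin 63) :=
  ⟨fn Lz, fn Lzi, fun i => by revert i; decide, fun i => by revert i; decide⟩

/-- the five generators, indexed by `ℕ`. -/
def Y : ℕ → Equiv.Perm (Fin 63)
  | 0 => y0
  | 1 => y1
  | 2 => y2
  | 3 => y3
  | 4 => y4
  | _ => 1

theorem ζ_ne_one : ζ ≠ 1 := by decide

theorem ζ_pow_three : ζ ^ 3 = 1 := by decide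

theorem Y_comm : ∀ k : Fin 5, Y k.val * ζ = ζ * Y k.val := by decide

theorem Y_r0 : Y 0 ^ 3 = 1 := by decide

theorem Y_r1 : ∀ i : Fin 5, 1 ≤ i.val → Y i.val ^ 2 = 1 := by decide

theorem Y_r2 : ∀ i : Fin 4, (Y i.val * Y (i.val + 1)) ^ 3 = 1 := by decide

theorem Y_r3 : ∀ i j : Fin 5, i.val + 1 < j.val →
    (Y i.val * Y j.val) ^ 2 = if i.val = 0 ∧ j.val = 3 then ζ else 1 := by decide

end Cfsg.Agent.Lib.Helper66.AltTriple
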