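import Cfsg.Agent.Lib.Helper66.ModelHom
import Cfsg.Agent.S2401
import Cfsg.Agent.S2086
import Cfsg.Agent.S0242
import Cfsg.Agent.S0248

/-! # `SL3(3)`: homomorphisms from Steinberg relators, order, trivial multiplier -/

set_option autoImplicit false
set_option maxRecDepth 100000

namespace Cfsg.Agent.Lib.Helper66.G23L

open Cfsg Cfsg.Agent.Lib.Helper66 Cfsg.Agent.Lib.Helper66.TCE

abbrev SL33 := Matrix.SpecialLinearGroup (Fin 3) (ZMod 3)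

/-- instances of the Steinberg relators of `SL3(3)` -/
def SR : List (List ℕ) := [[], [0, 1], [0, 0, 1, 1], [0, 0, 0], [0, 0, 0, 0, 1], [2, 3], [2, 2, 3, 3], [2, 2, 2], [2, 2, 2, 2, 3], [4, 5], [4, 4, 5, 5], [4, 4, 4], [4, 4, 4, 4, 5], [6, 7], [6, 6, 7, 7], [6, 6, 6], [6, 6, 6, 6, 7], [8, 9], [8, 8, 9, 9], [8, 8, 8], [8, 8, 8, 8, 9], [10, 11], [10, 10, 11, 11], [10, 10, 10], [10, 10, 10, 10, 11], [0, 0, 0, 1, 1, 1], [0, 0, 0, 0, 1, 1, 1, 1], [0, 2, 1, 3], [0, 2, 2, 1, 3, 3], [0, 0, 2, 1, 1, 3], [0, 0, 2, 2, 1, 1, 3, 3], [0, 10, 1, 11], [0, 10, 10, 1, 11, 11], [0, 0, 10, 1, 1, 11], [0, 0, 10, 10, 1, 1, 11, 11], [2, 0, 3, 1], [2, 0, 0, 3, 1, 1], [2, 2, 0, 3, 3, 1], [2, 2, 0, 0, 3, 3, 1, 1], [2, 2, 2, 3, 3, 3], [2, 2, 2, 2, 3, 3, 3, 3], [2, 6, 3, 7], [2, 6, 6, 3, 7, 7], [2, 2, 6, 3, 3, 7], [2, 2, 6, 6, 3, 3, 7, 7], [4, 4, 4, 5, 5, 5], [4, 4, 4, 4, 5, 5, 5,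 5], [4, 6, 5, 7], [4, 6, 6, 5, 7, 7], [4, 4, 6, 5, 5, 7], [4, 4, 6, 6, 5, 5, 7, 7], [4, 8, 5, 9], [4, 8, 8, 5, 9, 9], [4, 4, 8, 5, 5, 9], [4, 4, 8, 8, 5, 5, 9, 9], [6, 2, 7, 3], [6, 2, 2, 7, 3, 3], [6, 6, 2, 7, 7, 3], [6, 6, 2, 2, 7, 7, 3, 3], [6, 4, 7, 5], [6, 4, 4, 7, 5, 5], [6, 6, 4, 7, 7, 5], [6, 6, 4, 4, 7, 7, 5, 5], [6, 6, 6, 7, 7, 7], [6, 6, 6, 6, 7, 7, 7, 7], [8, 4, 9, 5], [8, 4, 4, 9, 5, 5], [8, 8, 4, 9, 9, 5], [8, 8, 4, 4, 9, 9, 5, 5], [8, 8, 8, 9, 9, 9], [8, 8, 8, 8, 9, 9, 9, 9], [8, 10, 9, 11], [8, 10, 10, 9, 11, 11], [8, 8, 10, 9, 9, 11], [8, 8, 10, 10, 9, 9, 11, 11], [10, 0, 11, 1], [10, 0, 0, 11, 1, 1], [10, 10, 0, 11, 11, 1], [10, 10, 0, 0, 11, 11, 1, 1], [10, 8, 11, 9], [10, 8, 8, 11, 9, 9], [10, 10, 8, 11, 11, 9], [10, 10, 8, 8, 11, 11, 9, 9], [10, 10, 10, 11, 11, 11], [10, 10, 10, 10, 11, 11, 11, 11], [0, 6, 1, 7, 3], [0, 6, 6, 1, 7, 7,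 3, 3], [0, 0, 6, 1, 1, 7, 3, 3], [0, 0, 6, 6, 1, 1, 7, 7, 3], [2, 10, 3, 11, 1], [2, 10, 10, 3, 11, 11, 1, 1], [2, 2, 10, 3, 3, 11, 1, 1], [2, 2, 10, 10, 3, 3, 11, 11, 1], [4, 2, 5, 3, 7], [4, 2, 2, 5, 3, 3, 7, 7], [4, 4, 2, 5, 5, 3, 7, 7], [4, 4, 2, 2, 5, 5, 3, 3, 7], [6, 8, 7, 9, 5], [6, 8, 8, 7, 9, 9, 5, 5], [6, 6, 8, 7, 7, 9, 5, 5], [6, 6, 8, 8, 7, 7, 9, 9, 5], [8, 0, 9, 1, 11], [8, 0, 0, 9, 1, 1, 11, 11], [8, 8, 0, 9, 9, 1, 11, 11], [8, 8, 0, 0, 9, 9, 1, 1, 11], [10, 4, 11, 5, 9], [10, 4, 4, 11, 5, 5, 9, 9], [10, 10, 4, 11, 11, 5, 9, 9], [10, 10, 4, 4, 11, 11, 5, 5, 9]]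

def cd (i j : ℕ) : ℕ :=
  match i, j with
  | 0, 1 => 0
  | 0, 2 => 1
  | 1, 0 => 2
  | 1, 2 => 3
  | 2, 0 => 4
  | 2, 1 => 5
  | _, _ => 0

def wX (i j t : ℕ) : List ℕ := List.replicate t (2 * cd i j)

def relAdd (i j t u : ℕ) : List ℕ := wX i j t ++ wX i j u ++ invW (wX i j ((t + u) % 3))
def relComm (i j k l t u : ℕ) : List ℕ :=
  wX i j t ++ wX k l u ++ invW (wX i j t) ++ invW (wX k l u)
def relMul (i j l t u : ℕ) : List ℕ :=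
  wX i j t ++ wX j l u ++ invW (wX i j t) ++ invW (wX j l u) ++ invW (wX i l ((t * u) % 3))

def r3 : List ℕ := [0, 1, 2]

theorem mem_r3 {i : ℕ} (h : i < 3) : i ∈ r3 := by
  interval_cases i <;> simp [r3]

theorem relAdd_chk : (r3.all fun i => r3.all fun j => r3.all fun t => r3.all fun u =>
    (i == j || SR.contains (relAdd i j t u))) = true := by
  decide +kernel

theorem relComm_chk : (r3.all fun i => r3.all fun j => r3.all fun k => r3.all fun l =>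
    r3.all fun t => r3.all fun u =>
    (i == j || k == l || i == l || j == k || SR.contains (relComm i j k l t u))) = true := by
  decide +kernel

theorem relMul_chk : (r3.all fun i => r3.all fun j => r3.all fun l =>
    r3.all fun t => r3.all fun u =>
    (i == j || j == l || i == l || SR.contains (relMul i j l t u))) = true := by
  decide +kernel

theorem relAdd_mem' : ∀ i < 3, ∀ j < 3, ∀ t < 3, ∀ u < 3, i = j ∨ relAdd i j t u ∈ SR := by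
  intro i hi j hj t ht u hu
  have h := relAdd_chk
  simp only [List.all_eq_true, Bool.or_eq_true, beq_iff_eq, List.contains_iff_mem] at h
  exact h i (mem_r3 hi) j (mem_r3 hj) t (mem_r3 ht) u (mem_r3 hu)

theorem relComm_mem' : ∀ i < 3, ∀ j < 3, ∀ k < 3, ∀ l < 3, ∀ t < 3, ∀ u < 3,
    i = j ∨ k = l ∨ i = l ∨ j = k ∨ relComm i j k l t u ∈ SR := by
  intro i hi j hj k hk l hl t ht u hu
  have h := relComm_chk
  simp only [List.all_eq_true, Bool.or_eq_true, beq_iff_eq, List.contains_iff_mem] at h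
  have h' := h i (mem_r3 hi) j (mem_r3 hj) k (mem_r3 hk) l (mem_r3 hl) t (mem_r3 ht) u (mem_r3 hu)
  tauto

theorem relMul_mem' : ∀ i < 3, ∀ j < 3, ∀ l < 3, ∀ t < 3, ∀ u < 3,
    i = j ∨ j = l ∨ i = l ∨ relMul i j l t u ∈ SR := by
  intro i hi j hj l hl t ht u hu
  have h := relMul_chk
  simp only [List.all_eq_true, Bool.or_eq_true, beq_iff_eq, List.contains_iff_mem] at h
  have h' := h i (mem_r3 hi) j (mem_r3 hj) l (mem_r3 hl) t (mem_r3 ht) u (mem_r3 hu)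
  tauto

theorem relAdd_mem (i : ℕ) (hi : i < 3) (j : ℕ) (hj : j < 3) (hij : i ≠ j) (t : ℕ) (ht : t < 3)
    (u : ℕ) (hu : u < 3) : relAdd i j t u ∈ SR :=
  (relAdd_mem' i hi j hj t ht u hu).resolve_left hij

theorem relComm_mem (i : ℕ) (hi : i < 3) (j : ℕ) (hj : j < 3) (k : ℕ) (hk : k < 3) (l : ℕ)
    (hl : l < 3) (h1 : i ≠ j) (h2 : k ≠ l) (h3 : i ≠ l) (h4 : j ≠ k) (t : ℕ) (ht : t < 3)
    (u : ℕ) (hu : u < 3) : relComm i j k l t u ∈ SR :=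
  ((((relComm_mem' i hi j hj k hk l hl t ht u hu).resolve_left h1).resolve_left h2).resolve_left
    h3).resolve_left h4

theorem relMul_mem (i : ℕ) (hi : i < 3) (j : ℕ) (hj : j < 3) (l : ℕ)
    (hl : l < 3) (h1 : i ≠ j) (h2 : j ≠ l) (h3 : i ≠ l) (t : ℕ) (ht : t < 3)
    (u : ℕ) (hu : u < 3) : relMul i j l t u ∈ SR :=
  (((relMul_mem' i hi j hj l hl t ht u hu).resolve_left h1).resolve_left h2).resolve_left h3

theorem exists_hom_SL3 {Δ : Type*} [Group Δ] (d : ℕ → Δ) (h : ∀ w ∈ SR, ev d w = 1) :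
    ∃ ψ : SL33 →* Δ, ∀ i < 6, d i ∈ ψ.range := by
  obtain ⟨e, -⟩ : ∃ e : PresentedGroup (Cfsg.Agent.S2401.rels 3 (ZMod 3)) ≃* SL33, True :=
    (Cfsg.Agent.S2401.result (K := ZMod 3) 3 le_rfl).imp fun _ _ => trivial
  obtain ⟨X, hX⟩ : ∃ X : {ij : Fin 3 × Fin 3 // ij.1 ≠ ij.2} × ZMod 3 → Δ,
      X = fun p => ev d (wX p.1.1.1.val p.1.1.2.val p.2.val) := ⟨_, rfl⟩
  have hXa : ∀ a t, X (a, t) = ev d (wX a.1.1.val a.1.2.val t.val) := fun a t => by rw [hX]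
  have hv : ∀ t : ZMod 3, t.val < 3 := fun t => ZMod.val_lt t
  have hne : ∀ {i j : Fin 3}, i ≠ j → i.val ≠ j.val := fun h h' => h (Fin.ext h')
  have hrel : ∀ r ∈ Cfsg.Agent.S2401.rels 3 (ZMod 3), FreeGroup.lift X r = 1 := by
    rintro r ((⟨a, t, u, rfl⟩ | ⟨a, b, t, u, h1, h2, rfl⟩) | ⟨a, b, hh, t, u, h1, rfl⟩)
    · have h3 := h _ (relAdd_mem _ a.1.1.2 _ a.1.2.2 (hne a.2) _ (hv t) _ (hv u))
      rw [relAdd, ev_append, ev_append, ev_invW, ← ZMod.val_add] at h3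
      simp only [map_mul, map_inv, FreeGroup.lift_apply_of, hXa]
      exact h3
    · have h3 := h _ (relComm_mem _ a.1.1.2 _ a.1.2.2 _ b.1.1.2 _ b.1.2.2 (hne a.2) (hne b.2)
        (hne h1) (hne h2) _ (hv t) _ (hv u))
      rw [relComm, ev_append, ev_append, ev_append, ev_invW, ev_invW] at h3
      simp only [map_mul, map_inv, FreeGroup.lift_apply_of, hXa]
      exact h3
    · have hb : a.1.2.val ≠ b.1.2.val := by rw [h1]; exact hne b.2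
      have h3 := h _ (relMul_mem _ a.1.1.2 _ a.1.2.2 _ b.1.2.2 (hne a.2) hb (hne hh)
        _ (hv t) _ (hv u))
      rw [relMul, ev_append, ev_append, ev_append, ev_append, ev_invW, ev_invW, ev_invW,
        ← ZMod.val_mul] at h3
      simp only [map_mul, map_inv, FreeGroup.lift_apply_of, hXa]
      rw [← h1]
      exact h3
  refine ⟨(PresentedGroup.toGroup hrel).comp e.symm.toMonoidHom, ?_⟩
  intro i hi
  have key : ∀ a : {ij : Fin 3 × Fin 3 // ij.1 ≠ ij.2}, d (cd a.1.1.val a.1.2.val) ∈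
      ((PresentedGroup.toGroup hrel).comp e.symm.toMonoidHom).range := by
    intro a
    refine ⟨e (PresentedGroup.of (a, 1)), ?_⟩
    simp only [MonoidHom.comp_apply, MulEquiv.coe_toMonoidHom, MulEquiv.symm_apply_apply,
      PresentedGroup.toGroup.of, hXa]
    have h1 : (1 : ZMod 3).val = 1 := rfl
    rw [h1]
    simp [wX, L]
  interval_cases i
  · exact key ⟨(0, 1), by decide⟩
  · exact key ⟨(0, 2), by decide⟩
  · exact key ⟨(1, 0), by decide⟩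
  · exact key ⟨(1, 2), by decide⟩
  · exact key ⟨(2, 0), by decide⟩
  · exact key ⟨(2, 1), by decide⟩

theorem card_SL33 : Nat.card SL33 = 5616 := by
  have h := Cfsg.Agent.S0242.result (F := ZMod 3) (q := 3) (ZMod.card 3) 3 (by norm_num)
  rw [Fin.prod_univ_three] at h
  have h2 : (3 - 1) * Nat.card SL33 = 11232 := by
    rw [h]; rfl
  omega

instance : Finite SL33 := Nat.finite_of_card_ne_zero (by rw [card_SL33]; norm_num)

theorem commutator_SL33 : commutator SL33 = ⊤ := Cfsg.Agent.S0248.result 3 le_rfl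

open Cfsg.Agent.Lib.Helper6.StSL in
theorem card_schurM_SL33 : Nat.card (schurM SL33) = 1 := by
  obtain ⟨⟨Γ, _, _, σ, hσ, ⟨e⟩⟩, -⟩ := hasSchurMultiplier_schurM SL33
  rw [← Nat.card_congr e.toEquiv]
  have hc := exists_cube_ne (K := ZMod 3) (by rw [ZMod.card]; norm_num) (by rw [ZMod.card]; norm_num)
  obtain ⟨S, hS⟩ := stSys_three hc hσ.1 hσ.2.1 (commL_three hc hσ.1 hσ.2.1)
  rw [ker_eq_bot_of_stSys le_rfl hσ S hS]
  simp

end Cfsg.Agent.Lib.Helper66.G23L
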