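import Cfsg.Agent.Lib.Helper27.G3PGlue
import Cfsg.Agent.Lib.Helper66.G23L

/-! # `G2(3)` as a permutation group on 728 points: generators and relators -/

set_option autoImplicit false
set_option maxRecDepth 100000

namespace Cfsg.Agent.Lib.Helper66.G23G

open Cfsg Cfsg.Agent.Lib.Helper66 Cfsg.Agent.Lib.Helper66.TCE Cfsg.Agent.Lib.Helper66.G23L
open Cfsg.Agent.Lib.Helper28 Cfsg.Agent.Lib.Helper27 Cfsg.Agent.Lib.Helper27.PC

abbrev P : Type := ↥(Sg (val G3P.V) G3P.LP)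

instance : Finite P := Nat.finite_of_card_ne_zero (by
  rw [show Nat.card P = 4245696 from G3P.cardP]; norm_num)

theorem card_P : Nat.card P = 4245696 := G3P.cardP

def EX : List (List ℕ) := [[12, 12, 12], [12, 0, 13, 1], [12, 2, 13, 3], [12, 6, 13, 7], [12, 10, 13, 11], [12, 12, 4, 1, 4, 12, 5, 0, 5, 13, 4, 1, 4, 13, 5, 0, 5, 13, 4, 1, 4, 12, 5, 0, 5, 12, 4, 1, 4, 13, 5, 0, 5, 13], [4, 1, 4, 12, 5, 0, 5, 12, 4, 1, 4, 12, 5, 0, 5, 13, 4, 1, 4, 13, 5, 0, 5, 4, 1, 4, 13, 5, 0, 5, 4, 1, 4, 12, 5, 0, 5, 12, 4, 1, 4, 13, 5, 0, 5, 13], [4, 12, 5, 13, 3, 3, 7, 4, 1, 4, 12, 5, 0, 5, 12, 4, 1, 4, 13, 5, 0, 5, 13, 4, 1, 4, 12, 5, 0, 5, 12, 4, 1, 4, 13, 5, 0, 5, 13, 4, 1, 4, 13, 5, 0, 5]]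

def ltL : List ℕ := [4, 5, 6, 7, 18, 19, 15, 14, 16, 17, 9, 8, 0, 1]

def rootW : List (List ℕ) := [[12], [13], [2, 9, 2, 12, 3, 8, 3, 12, 2, 9, 2, 13, 3, 8, 3, 13], [12, 2, 9, 2, 12, 3, 8, 3, 13, 2, 9, 2, 13, 3, 8, 3], [0], [1], [2], [3], [11], [10], [12, 0, 5, 0, 12, 1, 4, 1, 13, 0, 5, 0, 13, 1, 4, 1], [0, 5, 0, 12, 1, 4, 1, 12, 0, 5, 0, 13, 1, 4, 1, 13], [2, 9, 2, 12, 3, 8, 3], [2, 9, 2, 13, 3, 8, 3], [7], [6], [8], [9], [4], [5], [0, 5, 0, 12, 1, 4, 1], [0, 5, 0, 13, 1, 4, 1], [0, 5, 0, 12, 1, 4, 1, 2, 9, 2, 12, 3, 8, 3, 0, 5, 0, 13, 1, 4, 1, 2, 9, 2, 13, 3, 8, 3], [2, 9, 2, 12, 3, 8, 3, 0, 5, 0, 12, 1, 4, 1, 2, 9, 2, 13, 3, 8, 3, 0, 5, 0, 13, 1, 4, 1]]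

def lt (a : ℕ) : ℕ := ltL.getD a 0

theorem lt_lt (a : ℕ) : lt a < 40 := by
  unfold lt
  by_cases h : a < ltL.length
  · rw [List.getD_eq_getElem _ _ h]
    exact (by decide : ∀ x ∈ ltL, x < 40) _ (List.getElem_mem h)
  · rw [List.getD_eq_default _ _ (by omega)]; norm_num

theorem lt_mem (a : ℕ) : lt a ∈ G3P.LP := by
  have h := lt_lt a
  have : ∀ x < 40, x ∈ G3P.LP := by decide
  exact this _ h

noncomputable def gq (i : ℕ) : Equiv.Perm ℕ := if i < 7 then val G3P.V (lt (2 * i)) else 1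

theorem val_mem (x : ℕ) (hx : x ∈ G3P.LP) : val G3P.V x ∈ Sg (val G3P.V) G3P.LP :=
  Subgroup.subset_closure ⟨x, hx, rfl⟩

theorem gq_mem (i : ℕ) : gq i ∈ Sg (val G3P.V) G3P.LP := by
  unfold gq
  split_ifs
  · exact val_mem _ (lt_mem _)
  · exact one_mem _

noncomputable def gb (i : ℕ) : P := ⟨gq i, gq_mem i⟩

theorem inv_lt : ∀ i < 7, G3P.L.inv (lt (2 * i)) = lt (2 * i + 1) := by decide +kernel

theorem L_gb (a : ℕ) (ha : a < 14) : ((L gb a : P) : Equiv.Perm ℕ) = val G3P.V (lt a) := by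
  have h7 : a / 2 < 7 := by omega
  unfold L
  split_ifs with h
  · have : 2 * (a / 2) = a := by omega
    simp only [gb, gq, if_pos h7, this]
  · have : 2 * (a / 2) + 1 = a := by omega
    rw [Subgroup.coe_inv]
    simp only [gb, gq, if_pos h7]
    rw [← val_inv G3P.V (lt_lt _), inv_lt _ h7, this]

theorem ev_gb (w : List ℕ) (hw : ∀ a ∈ w, a < 14) :
    ((ev gb w : P) : Equiv.Perm ℕ) = evalW (val G3P.V) (w.map lt) := by
  induction w with
  | nil => simp
  | cons a w ih =>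
    rw [ev_cons, Subgroup.coe_mul, L_gb a (hw a List.mem_cons_self),
      ih (fun b hb => hw b (List.mem_cons_of_mem _ hb)), List.map_cons, evalW_cons]

noncomputable def chkW (w : List ℕ) : Bool :=
  w.all (fun a => decide (a < 14)) && Helper28.allBelow (fun c => G3P.L.checkRel (w.map lt) c) G3P.L.n

theorem lt_of_chk {w : List ℕ} (h : chkW w = true) : ∀ a ∈ w, a < 14 := by
  unfold chkW at h
  rw [Bool.and_eq_true] at h
  intro a ha
  exact of_decide_eq_true (List.all_eq_true.mp h.1 a ha)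

theorem ev_gb_of_chk {w : List ℕ} (h : chkW w = true) : ev gb w = 1 := by
  apply Subtype.ext
  rw [ev_gb w (lt_of_chk h)]
  unfold chkW at h
  rw [Bool.and_eq_true] at h
  rw [Subgroup.coe_one]
  apply evalW_one G3P.V
  · intro y hy
    obtain ⟨a, -, rfl⟩ := List.mem_map.mp hy
    exact lt_lt a
  · exact Helper28.allBelow_iff.mp h.2

theorem SR_chk : SR.all chkW = true := by decide +kernel

theorem EX_chk : EX.all chkW = true := by decide +kernel

/-- each root letter is the value of a word in the generators -/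
theorem root_chk : (List.range 24).all (fun x =>
    (rootW.getD x []).all (fun a => decide (a < 14)) &&
    Helper28.allBelow (fun c => G3P.L.checkRel (G3P.L.inv x :: (rootW.getD x []).map lt) c) G3P.L.n) = true := by
  decide +kernel

theorem closure_gb : Subgroup.closure {x | ∃ i < 7, x = gb i} = ⊤ := by
  obtain ⟨K, hK⟩ : ∃ K : Subgroup P, K = Subgroup.closure {x | ∃ i < 7, x = gb i} := ⟨_, rfl⟩
  rw [← hK]
  have hgK : ∀ i, gb i ∈ K := by
    intro i
    by_cases hi : i < 7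
    · rw [hK]; exact Subgroup.subset_closure ⟨i, hi, rfl⟩
    · have : gb i = 1 := by
        apply Subtype.ext
        simp [gb, gq, hi]
      rw [this]; exact one_mem _
  have hle : Sg (val G3P.V) G3P.Ltop ≤ K.map (Sg (val G3P.V) G3P.LP).subtype := by
    unfold Sg
    rw [Subgroup.closure_le]
    rintro _ ⟨x, hx, rfl⟩
    have hx24 : x < 24 := (by decide : ∀ x ∈ G3P.Ltop, x < 24) x hx
    have h := List.all_eq_true.mp root_chk x (List.mem_range.mpr hx24)
    rw [Bool.and_eq_true] at h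
    have h14 : ∀ a ∈ rootW.getD x [], a < 14 := fun a ha =>
      of_decide_eq_true (List.all_eq_true.mp h.1 a ha)
    have h1 : evalW (val G3P.V) (G3P.L.inv x :: (rootW.getD x []).map lt) = 1 := by
      apply evalW_one G3P.V
      · intro y hy
        rcases List.mem_cons.mp hy with rfl | hy
        · exact (by decide +kernel : ∀ x < 24, G3P.L.inv x < G3P.L.K) x hx24
        · obtain ⟨a, -, rfl⟩ := List.mem_map.mp hy
          exact lt_lt a
      · exact Helper28.allBelow_iff.mp h.2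
    rw [evalW_cons, val_inv G3P.V (show x < G3P.L.K from lt_trans hx24 (by decide +kernel)),
      inv_mul_eq_one, ← ev_gb _ h14] at h1
    refine ⟨ev gb (rootW.getD x []), ev_mem K gb (fun a _ => hgK _), ?_⟩
    exact h1.symm
  rw [eq_top_iff]
  intro p _
  have hp : (p : Equiv.Perm ℕ) ∈ Sg (val G3P.V) G3P.Ltop := by
    rw [← G3P.P_eq_top]; exact p.2
  obtain ⟨k, hk, hkp⟩ := hle hp
  have : k = p := Subtype.ext hkp
  rw [← this]; exact hk

end Cfsg.Agent.Lib.Helper66.G23G
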