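import Cfsg.Agent.Lib.Helper66.TCE

set_option autoImplicit false
set_option maxRecDepth 100000
namespace Cfsg.Agent.Lib.Helper66.G23Pres
open Cfsg.Agent.Lib.Helper66.TCE
def dF_0 : BT := .node (.node (.node (.node (.node (.node (.node (.leaf 0) (.leaf 572841476491)) (.leaf 667330702852)) (.node (.node (.leaf 315680171657) (.leaf 1113470537100)) (.leaf 751082525193))) (.node (.node (.node (.leaf 128312188430) (.leaf 1012001778944)) (.leaf 783294847489)) (.node (.leaf 30601736200) (.leaf 496605719307)))) (.node (.node (.node (.node (.leaf 72477590788) (.leaf 952409225093)) (.leaf 604516803206)) (.node (.node (.leaf 14495518081) (.leaf 1150514638221)) (.leaf 423591250569))) (.node (.node (.node (.leaf 59055808643) (.leaf 1060320288261)) (.leaf 846645630211)) (.node (.leaf 558345881733) (.leaf 455266631177))))) (.node (.node (.node (.node (.node (.leaf 38654714886) (.leaf 927713040521)) (.leaf 646929614855)) (.node (.node (.leaf 330712560778) (.leaf 1034013647115)) (.leaf 532576088069))) (.node (.node (.node (.leaf 55834601742)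 (.leaf 1035624236292)) (.leaf 792958523790)) (.node (.leaf 465467191821) (.leaf 565861984780)))) (.node (.node (.node (.node (.leaf 114890402567) (.leaf 984084598413)) (.leaf 747861358848)) (.node (.leaf 346818652551) (.leaf 390305256461))) (.node (.node (.node (.leaf 89657495821) (.leaf 1100048760960)) (.leaf 472983389068)) (.node (.leaf 528817992195) (.leaf 457951096066)))))) (.node (.node (.node (.node (.node (.node (.leaf 24696067843) (.leaf 905164564737)) (.leaf 685047401730)) (.node (.node (.leaf 97710530560) (.leaf 915365173518)) (.leaf 806917129486))) (.node (.node (.node (.leaf 192736703110) (.leaf 1028644912768)) (.leaf 605053630976)) (.node (.leaf 427886219012) (.leaf 442918619009)))) (.node (.node (.node (.node (.leaf 94489303047) (.leaf 778463053578)) (.leaf 426812524802)) (.node (.node (.leaf 151397633157) (.leaf 1158030833281)) (.leaf 448287364993))) (.node (.node (.node (.leaf 236760128780) (.leaf 1079647600137)) (.leaf 406948278797)) (.node (.leaf 431644349830) (.leaf 384399777422))))) (.node (.node (.node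 (.node (.node (.leaf 1610626569) (.leaf 507343234442)) (.leaf 710280386053)) (.node (.node (.leaf 74625141003) (.leaf 1142998444292)) (.leaf 526670551557))) (.node (.node (.node (.leaf 36507235713) (.leaf 1054414722446)) (.leaf 824097046921)) (.node (.leaf 389231534221) (.leaf 849329901451)))) (.node (.node (.node (.node (.leaf 11811194889) (.leaf 998580134532)) (.leaf 580894508931)) (.node (.leaf 386010268299) (.leaf 557272169998))) (.node (.node (.node (.leaf 297963361285) (.leaf 1103269948046)) (.leaf 831076285709)) (.node (.leaf 493921377027) (.leaf 885837103625))))))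
def dF_1 : BT := .node (.node (.node (.node (.node (.node (.node (.leaf 13421776003) (.leaf 887984702725)) (.leaf 425201923458)) (.node (.node (.leaf 99321174158) (.leaf 1116691764098)) (.leaf 540092336005))) (.node (.node (.node (.leaf 183073017483) (.leaf 921807575940)) (.leaf 617401645070)) (.node (.leaf 408558861573) (.leaf 447750482316)))) (.node (.node (.node (.node (.leaf 81604398083) (.leaf 957777935238)) (.leaf 622233547142)) (.node (.node (.leaf 3758098446) (.leaf 1145682801421)) (.leaf 679678697219))) (.node (.node (.node (.leaf 233538902407) (.leaf 1020591861132)) (.leaf 466540982540)) (.node (.leaf 571230786561) (.leaf 445603059851))))) (.node (.node (.node (.node (.node (.leaf 41875941127) (.leaf 915365124225)) (.leaf 704911663238)) (.node (.node (.leaf 337691885319) (.leaf 1138166604809)) (.leaf 468688418050))) (.node (.node (.node (.leaf 41339098510) (.leaf 501437679105)) (.leaf 718333381898)) (.node (.leaf 482647050503) (.leaf 592705596045)))) (.node (.node (.node (.node (.leaf 139049599493) (.leaf 989453311237))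 (.leaf 485331484163)) (.node (.leaf 30601732875) (.leaf 493384534030))) (.node (.node (.node (.leaf 274341101961) (.leaf 1091458787719)) (.leaf 752693116674)) (.node (.leaf 638339666693) (.leaf 408558974345)))))) (.node (.node (.node (.node (.node (.node (.leaf 26843552142) (.leaf 767725621386)) (.leaf 635655298054)) (.node (.node (.leaf 307090238605) (.leaf 1133334730894)) (.leaf 415001314180))) (.node (.node (.node (.leaf 201863510785) (.leaf 1024886814222)) (.leaf 743566405644)) (.node (.leaf 343060619267) (.leaf 691489895048)))) (.node (.node (.node (.node (.leaf 110595434380) (.leaf 674846967945)) (.leaf 744103261569)) (.node (.leaf 9663678724) (.leaf 570157038467))) (.node (.node (.node (.leaf 8053122824) (.leaf 1081795130886)) (.leaf 530428637070)) (.node (.leaf 600758694020) (.leaf 610959243529))))) (.node (.node (.node (.node (.node (.leaf 12884902285) (.leaf 950798497416)) (.leaf 716185909123)) (.node (.node (.leaf 373662243972) (.leaf 1146756541446)) (.leaf 665183174656))) (.node (.node (.node (.leaf 15032398604)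 (.leaf 1056562206852)) (.leaf 834834467332)) (.node (.leaf 537944782209) (.leaf 567472712331)))) (.node (.node (.node (.node (.leaf 127238443533) (.leaf 1006633200128)) (.leaf 770946783239)) (.node (.leaf 389768375302) (.leaf 494995097477))) (.node (.node (.node (.leaf 307627105665) (.leaf 1105954342410)) (.leaf 401579558531)) (.node (.leaf 458487881222) (.leaf 882079120774))))))
def dF_2 : BT := .node dF_0 dF_1
def dF_3 : BT := .node (.node (.node (.node (.node (.node (.node (.leaf 9126807821) (.leaf 896574635529)) (.leaf 532576044423)) (.node (.node (.leaf 77309465358) (.leaf 1112396794891)) (.leaf 667867573902))) (.node (.node (.node (.leaf 177167443459) (.leaf 1014149360141)) (.leaf 380104781070)) (.node (.leaf 396747698570) (.leaf 497679468302)))) (.node (.node (.node (.node (.leaf 89657463686) (.leaf 935766227460)) (.leaf 718870322689)) (.node (.node (.leaf 329638823044) (.leaf 521838801291)) (.leaf 598611247502))) (.node (.node (.node (.leaf 7516244868) (.leaf 1068910240781)) (.leaf 419296376333)) (.node (.leaf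 461172249475) (.leaf 457414143113))))) (.node (.node (.node (.node (.node (.leaf 5368717835) (.leaf 915901974408)) (.leaf 450434828551)) (.node (.node (.leaf 338765625473) (.leaf 1100048769924)) (.leaf 626528460938))) (.node (.node (.node (.leaf 7516223758) (.leaf 826244561286)) (.leaf 804769624832)) (.node (.leaf 469762162573) (.leaf 641560845697)))) (.node (.node (.node (.node (.leaf 133144017927) (.leaf 933618749442)) (.leaf 619012339458)) (.node (.leaf 379030906124) (.leaf 383862822542))) (.node (.node (.node (.leaf 219043386764) (.leaf 385473576462)) (.leaf 675920673922)) (.node (.leaf 627065374853) (.leaf 453656130816)))))) (.node (.node (.node (.node (.node (.node (.leaf 28454165252) (.leaf 894964027008)) (.leaf 547608447875)) (.node (.node (.leaf 88583772170) (.leaf 1128502894084)) (.leaf 715649072014))) (.node (.node (.node (.leaf 197031671819) (.leaf 1005559463556)) (.leaf 667867604494)) (.node (.leaf 431107445249) (.leaf 640487122315)))) (.node (.node (.node (.node (.leaf 107374208007) (.leaf 702227384198))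 (.leaf 422517580556)) (.node (.leaf 304942751758) (.leaf 544387197196))) (.node (.node (.node (.leaf 234612644487) (.leaf 623844254345)) (.leaf 399968987654)) (.node (.leaf 596463725573) (.leaf 865972987651))))) (.node (.node (.node (.node (.node (.leaf 61740169733) (.leaf 938450578053)) (.leaf 614180481926)) (.node (.node (.leaf 350576791048) (.leaf 1144609057157)) (.leaf 729070859520))) (.node (.node (.node (.leaf 16106167054) (.leaf 1038845441677)) (.leaf 486405243661)) (.node (.leaf 526133619340) (.leaf 775241706756)))) (.node (.node (.node (.node (.leaf 151397631497) (.leaf 995895648777)) (.leaf 769873071489)) (.node (.leaf 37044185736) (.leaf 578210093059))) (.node (.node (.node (.leaf 279172946186) (.leaf 1100585632006)) (.leaf 623307272974)) (.node (.leaf 649613958532) (.leaf 531502414853))))))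
def dF_4 : BT := .node (.node (.node (.node (.node (.node (.node (.leaf 4831839363) (.leaf 777389295758)) (.leaf 689879286532)) (.node (.node (.leaf 10200572932) (.leaf 1120986731651)) (.leaf 627602257413))) (.node (.node (.node (.leaf 55297748225) (.leaf 994822042498)) (.leaf 415001384973)) (.node (.leaf 398895182725) (.leaf 766651788299)))) (.node (.node (.node (.node (.leaf 92878690060) (.leaf 964757242631)) (.leaf 726386517255)) (.node (.node (.leaf 86973089550) (.leaf 1155883346692)) (.leaf 543850353673))) (.node (.node (.node (.leaf 224948965763) (.leaf 1073205102602)) (.leaf 612033011086)) (.node (.leaf 587873784837) (.leaf 858993664132))))) (.node (.node (.node (.node (.node (.leaf 19327364494) (.leaf 931471254542)) (.leaf 697932352011)) (.node (.node (.leaf 335544403076) (.leaf 1088774481408)) (.leaf 664109464454))) (.node (.node (.node (.leaf 29527932942) (.leaf 1041529817733)) (.leaf 824096882826)) (.node (.leaf 502511293569) (.leaf 458487881220)))) (.node (.node (.node (.node (.leaf 135291501966) (.leaf 971199716871))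 (.leaf 766651845253)) (.node (.leaf 342523733377) (.leaf 448824213262))) (.node (.node (.node (.leaf 153008275969) (.leaf 849330042122)) (.leaf 724239052673)) (.node (.leaf 583041929218) (.leaf 882615964163)))))) (.node (.node (.node (.node (.node (.node (.leaf 35970359816) (.leaf 917512607489)) (.leaf 592168723458)) (.node (.node (.leaf 323733237637) (.leaf 1129039785226)) (.leaf 620085939202))) (.node (.node (.node (.leaf 201326641541) (.leaf 1020591755275)) (.leaf 819265207168)) (.node (.leaf 451508544772) (.leaf 554050889998)))) (.node (.node (.node (.node (.leaf 123480339207) (.leaf 986768971653)) (.leaf 738734532355)) (.node (.leaf 306553363842) (.leaf 180925614850))) (.node (.node (.node (.leaf 235149520524) (.leaf 854161879819)) (.leaf 746787610881)) (.node (.leaf 149787131655) (.leaf 693637425796))))) (.node (.node (.node (.node (.node (.leaf 69793235338) (.leaf 473520367625)) (.leaf 469762218247)) (.node (.node (.leaf 192736738818) (.leaf 673236397579)) (.leaf 675383756544))) (.node (.node (.node (.leaf 21474841985)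 (.leaf 1062467788289)) (.leaf 479962795406)) (.node (.leaf 501974432389) (.leaf 609885501450)))) (.node (.node (.node (.node (.leaf 166430022407) (.leaf 1005559318026)) (.leaf 513248777474)) (.node (.leaf 388694633993) (.leaf 635655266561))) (.node (.node (.node (.leaf 304942752266) (.leaf 1110786156673)) (.leaf 401042666890)) (.node (.leaf 666256927622) (.leaf 893890165385))))))
def dF_5 : BT := .node dF_3 dF_4
def dF_6 : BT := .node dF_2 dF_5
def dF_7 : BT := .node (.node (.node (.node (.node (.node (.node (.leaf 536871041) (.leaf 434328781451)) (.leaf 667330669699)) (.node (.node (.leaf 306553366533) (.leaf 1115081101441)) (.leaf 723165266830))) (.node (.node (.node (.leaf 176093694340) (.leaf 664109559810)) (.leaf 789737299968)) (.node (.leaf 245886972034) (.leaf 581431316096)))) (.node (.node (.node (.node (.leaf 82141269252) (.leaf 956704192142)) (.leaf 404800812679)) (.node (.node (.leaf 336081199758) (.leaf 1151588380803)) (.leaf 821412617993))) (.node (.node (.node (.leaf 156229477766) (.leaf 565862195467)) (.leaf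 479425911181)) (.node (.leaf 563714592131) (.leaf 571767705221))))) (.node (.node (.node (.node (.node (.leaf 44560296453) (.leaf 925028800909)) (.leaf 692026738306)) (.node (.node (.leaf 335007526923) (.leaf 1136555991690)) (.leaf 804769595022))) (.node (.node (.node (.leaf 99858022148) (.leaf 1003411981198)) (.leaf 812822708109)) (.node (.leaf 474057108237) (.leaf 443992353159)))) (.node (.node (.node (.node (.leaf 126701565573) (.leaf 919123234702)) (.leaf 671625689602)) (.node (.leaf 207769088896) (.leaf 154618929794))) (.node (.node (.node (.leaf 9126869761) (.leaf 1098974979586)) (.leaf 787052916750)) (.node (.leaf 623844145677) (.leaf 874026053251)))))) (.node (.node (.node (.node (.node (.node (.leaf 20401099523) (.leaf 152471555587)) (.leaf 643171514628)) (.node (.node (.leaf 138512756097) (.leaf 1123670977034)) (.leaf 783294761998))) (.node (.node (.node (.leaf 192199832970) (.leaf 448287457930)) (.leaf 799937849740)) (.node (.leaf 430033703041) (.leaf 640487106176)))) (.node (.node (.node (.node (.leaf 103079239809)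 (.leaf 965830929932)) (.leaf 728533988483)) (.node (.leaf 298500298510) (.leaf 433254979461))) (.node (.node (.node (.leaf 238907612807) (.leaf 516470071947)) (.leaf 469225334670)) (.node (.leaf 591095015168) (.leaf 566399015812))))) (.node (.node (.node (.node (.node (.leaf 55834588939) (.leaf 873489196680)) (.leaf 666793843970)) (.node (.node (.leaf 355945499145) (.leaf 1142998279299)) (.leaf 624917842048))) (.node (.node (.node (.leaf 3758103821) (.leaf 1038845465102)) (.leaf 412853928582)) (.node (.leaf 517543682701) (.leaf 453119157769)))) (.node (.node (.node (.node (.leaf 148176405897) (.leaf 351113815949)) (.leaf 760209341702)) (.node (.leaf 383325923461) (.leaf 493921380358))) (.node (.node (.node (.leaf 300110911105) (.leaf 988916482567)) (.leaf 542776602499)) (.node (.leaf 642634618499) (.leaf 888521454733))))))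
def dF_8 : BT := .node (.node (.node (.node (.node (.node (.node (.leaf 9126807683) (.leaf 458487974530)) (.leaf 681289349892)) (.node (.node (.leaf 86973089541) (.leaf 1117228626818)) (.leaf 521301784707))) (.node (.node (.node (.leaf 162135043085) (.leaf 932545016450)) (.leaf 403727022088)) (.node (.leaf 389768380674) (.leaf 498216323329)))) (.node (.node (.node (.node (.leaf 77309429763) (.leaf 625991713159)) (.leaf 619549204099)) (.node (.node (.leaf 21474850440) (.leaf 610959373323)) (.leaf 653908862349))) (.node (.node (.node (.leaf 229243934083) (.leaf 1078573919366)) (.leaf 673236298244)) (.node (.leaf 579283852293) (.leaf 409632709003))))) (.node (.node (.node (.node (.node (.leaf 53150233100) (.leaf 567472776330)) (.leaf 594853137542)) (.node (.node (.leaf 345208078848) (.leaf 1137092863360)) (.leaf 423054369804))) (.node (.node (.node (.leaf 54224000654) (.leaf 1038308558093)) (.leaf 784905417600)) (.node (.leaf 495531970052) (.leaf 597537475340)))) (.node (.node (.node (.node (.leaf 140123341443) (.leaf 925028801545))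 (.leaf 758061908613)) (.node (.leaf 382789051657) (.leaf 506269373312))) (.node (.node (.node (.leaf 271119877125) (.leaf 1088774301452)) (.leaf 722091569410)) (.node (.leaf 443455512707) (.leaf 702764234888)))))) (.node (.node (.node (.node (.node (.node (.leaf 17179877512) (.leaf 909996413446)) (.leaf 549755918598)) (.node (.node (.leaf 323733208576) (.leaf 1131724037640)) (.leaf 627065374855))) (.node (.node (.node (.leaf 204547866368) (.leaf 1024349861128)) (.leaf 792958530951)) (.node (.leaf 341450002946) (.leaf 638876546442)))) (.node (.node (.node (.node (.leaf 119185371020) (.leaf 978179035013)) (.leaf 742492583682)) (.node (.leaf 299037169282) (.leaf 430570588814))) (.node (.node (.node (.leaf 182536169860) (.leaf 460098630155)) (.leaf 619549202062)) (.node (.leaf 609885501572) (.leaf 869730920199))))) (.node (.node (.node (.node (.node (.leaf 68719493262) (.leaf 936303096206)) (.leaf 711354115719)) (.node (.node (.leaf 38654795912) (.leaf 1147830283522)) (.leaf 488015834118))) (.node (.node (.node (.leaf 16106140673)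 (.leaf 1038845467278)) (.leaf 843424403972)) (.node (.leaf 535260381703) (.leaf 457414117258)))) (.node (.node (.node (.node (.leaf 163745667328) (.leaf 420370164745)) (.leaf 779536750212)) (.node (.leaf 382789053700) (.leaf 461172251264))) (.node (.node (.node (.leaf 309237718022) (.leaf 1108101826688)) (.leaf 516470014476)) (.node (.leaf 659814508293) (.leaf 891742797571))))))
def dF_9 : BT := .node dF_7 dF_8
def dF_10 : BT := .node (.node (.node (.node (.node (.node (.node (.leaf 17179873286) (.leaf 395137205379)) (.leaf 678068123649)) (.node (.node (.leaf 80530699278) (.leaf 1102196248458)) (.leaf 419296296580))) (.node (.node (.node (.leaf 180388669065) (.leaf 953482981895)) (.leaf 402116408192)) (.node (.leaf 399968924933) (.leaf 496068877325)))) (.node (.node (.node (.node (.leaf 85899366403) (.leaf 962072903808)) (.leaf 479962743938)) (.node (.node (.leaf 3221304206) (.leaf 1153735864962)) (.leaf 598611217159))) (.node (.node (.node (.leaf 226559579012) (.leaf 1077500177420)) (.leaf 608274939021)) (.node (.leaf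 563177707911) (.leaf 849866856325))))) (.node (.node (.node (.node (.node (.leaf 46170909447) (.leaf 889595320078)) (.leaf 702227320453)) (.node (.node (.leaf 14495595912) (.leaf 1138166604806)) (.leaf 615254177934))) (.node (.node (.node (.leaf 68719507086) (.leaf 953482814211)) (.leaf 180388800781)) (.node (.leaf 486405162380) (.leaf 651224509581)))) (.node (.node (.node (.node (.leaf 128849049607) (.leaf 991063939968)) (.leaf 146565939469)) (.node (.leaf 178778104333) (.leaf 683436825230))) (.node (.node (.node (.leaf 272730488457) (.leaf 1040992958604)) (.leaf 405337712653)) (.node (.leaf 556198415109) (.leaf 498216414990)))))) (.node (.node (.node (.node (.node (.node (.leaf 31675391366) (.leaf 528281194379)) (.leaf 552440320774)) (.node (.node (.leaf 75161983502) (.leaf 1130650410373)) (.leaf 179851916684))) (.node (.node (.node (.leaf 184146770435) (.leaf 1005022592517)) (.leaf 601295612809)) (.node (.leaf 439697381889) (.leaf 585189433860)))) (.node (.node (.node (.node (.leaf 103079239687) (.leaf 970662717704))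 (.leaf 735513324929)) (.node (.leaf 195421054597) (.leaf 490163243019))) (.node (.node (.node (.leaf 245886920715) (.leaf 1078573920642)) (.leaf 469225346950)) (.node (.leaf 397821489036) (.leaf 866509858945))))) (.node (.node (.node (.node (.node (.leaf 69256364169) (.leaf 947040514693)) (.leaf 407485167879)) (.node (.node (.leaf 365609178372) (.leaf 1145682799362)) (.leaf 674846862081))) (.node (.node (.node (.leaf 73551364233) (.leaf 935766247431)) (.leaf 412853928971)) (.node (.leaf 532576071821) (.leaf 461172274313)))) (.node (.node (.node (.node (.leaf 143344570244) (.leaf 933618754574)) (.leaf 774704867586)) (.node (.leaf 389768374273) (.leaf 578210110084))) (.node (.node (.node (.leaf 304405829133) (.leaf 1010928190721)) (.leaf 461709100673)) (.node (.leaf 514859314311) (.leaf 890132015367))))))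
def dF_11 : BT := .node (.node (.node (.node (.node (.node (.node (.leaf 19327357572) (.leaf 775241811331)) (.leaf 499826983555)) (.node (.node (.leaf 37580982670) (.leaf 423054547593)) (.leaf 467614689541))) (.node (.node (.node (.leaf 165893137932) (.leaf 1020054976128)) (.leaf 607738006795)) (.node (.leaf 420370021517) (.leaf 498753209230)))) (.node (.node (.node (.node (.leaf 98784271367) (.leaf 965294129928)) (.leaf 488552704647)) (.node (.node (.leaf 9126894990) (.leaf 1156957091200)) (.leaf 557809000206))) (.node (.node (.node (.leaf 220653997443) (.leaf 1071057624075)) (.leaf 409095681293)) (.node (.leaf 586800046730) (.leaf 470835996040))))) (.node (.node (.node (.node (.node (.leaf 55834575108) (.leaf 931471254403)) (.leaf 650150816514)) (.node (.node (.leaf 344134338309) (.leaf 1142461420556)) (.leaf 472983386371))) (.node (.node (.node (.leaf 39728450702) (.leaf 1050119754373)) (.leaf 312459067526)) (.node (.leaf 207769164173) (.leaf 753230006152)))) (.node (.node (.node (.node (.leaf 108984829569) (.leaf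 994821961096)) (.leaf 767188665219)) (.node (.leaf 384936515213) (.leaf 452045412098))) (.node (.node (.node (.leaf 289373490693) (.leaf 1101122503169)) (.leaf 845034973709)) (.node (.leaf 631897200774) (.leaf 864899250822)))))) (.node (.node (.node (.node (.node (.node (.leaf 38117843972) (.leaf 926102544129)) (.leaf 695247996941)) (.node (.node (.leaf 143881482757) (.leaf 1034013647360)) (.leaf 623844172416))) (.node (.node (.node (.leaf 214748416140) (.leaf 979789642242)) (.leaf 747324504718)) (.node (.leaf 459024739340) (.leaf 456340440069)))) (.node (.node (.node (.node (.leaf 119185370887) (.leaf 984621378696)) (.leaf 735513293955)) (.node (.leaf 343060549510) (.leaf 448824189450))) (.node (.node (.node (.leaf 243739456268) (.leaf 1092532566528)) (.leaf 538481683331)) (.node (.leaf 615791082891) (.leaf 390305360908))))) (.node (.node (.node (.node (.node (.leaf 71403848325) (.leaf 937376747656)) (.leaf 466540992007)) (.node (.node (.leaf 349503048718) (.leaf 1149977591176)) (.leaf 446676725515))) (.node (.node (.node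 (.leaf 7516235274) (.leaf 1064615241349)) (.leaf 845035011586)) (.node (.leaf 551903429253) (.leaf 454192899844)))) (.node (.node (.node (.node (.leaf 171798732928) (.leaf 1010928161286)) (.leaf 206695487490)) (.node (.leaf 393526421766) (.leaf 763967489806))) (.node (.node (.node (.leaf 313532685833) (.leaf 1108101769994)) (.leaf 399968924808)) (.node (.leaf 654982635782) (.leaf 891742797698))))))
def dF_12 : BT := .node dF_10 dF_11
def dF_13 : BT := .node dF_9 dF_12
def dF_14 : BT := .node dF_6 dF_13
def dF_15 : BT := .node (.node (.node (.node (.node (.node (.node (.leaf 1073741836) (.leaf 474057228806)) (.leaf 671625671172)) (.node (.node (.leaf 317290782859) (.leaf 1068373380866)) (.leaf 408558941966))) (.node (.node (.node (.leaf 24696092429) (.leaf 1012001773321)) (.leaf 782757948813)) (.node (.leaf 395137085576) (.leaf 496605711874)))) (.node (.node (.node (.node (.leaf 77846300932) (.leaf 956704193413)) (.leaf 606127370371)) (.node (.node (.leaf 335544398606) (.leaf 1148904026113)) (.leaf 527207421705))) (.node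 (.node (.node (.leaf 15032403214) (.leaf 1034013630597)) (.leaf 479425881486)) (.node (.leaf 551366560653) (.leaf 598074232205))))) (.node (.node (.node (.node (.node (.leaf 37044099073) (.leaf 911070155653)) (.leaf 504658822790)) (.node (.node (.leaf 332860044938) (.leaf 311385399565)) (.leaf 425201876620))) (.node (.node (.node (.leaf 191126055310) (.leaf 1036161107200)) (.leaf 813359625735)) (.node (.leaf 469762160140) (.leaf 508953745925)))) (.node (.node (.node (.node (.leaf 113279789442) (.leaf 973347196558)) (.leaf 534723607430)) (.node (.leaf 204011029507) (.leaf 181999404546))) (.node (.node (.node (.leaf 265751164932) (.leaf 1085553243788)) (.leaf 625454771207)) (.node (.leaf 619549180300) (.leaf 872415435266)))))) (.node (.node (.node (.node (.node (.node (.leaf 22548583683) (.leaf 905164573966)) (.leaf 631897225863)) (.node (.node (.leaf 95026176014) (.leaf 1123671041665)) (.leaf 485331493646))) (.node (.node (.node (.leaf 192736703623) (.leaf 1032939881088)) (.leaf 795642881415)) (.node (.leaf 428959906310)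 (.leaf 583578824320)))) (.node (.node (.node (.node (.leaf 90194329601) (.leaf 969052181771)) (.leaf 676994394246)) (.node (.leaf 249108146702) (.leaf 448824244608))) (.node (.node (.node (.leaf 241055094029) (.leaf 1068910208521)) (.leaf 470835871117)) (.node (.leaf 490163279747) (.leaf 852551129483))))) (.node (.node (.node (.node (.node (.leaf 56371459718) (.leaf 934155609604)) (.leaf 714575354373)) (.node (.node (.leaf 15032470027) (.leaf 437013195015)) (.leaf 411243216900))) (.node (.node (.node (.leaf 143881452942) (.leaf 1053877851530)) (.leaf 386547253762)) (.node (.leaf 454729783942) (.leaf 821412593419)))) (.node (.node (.node (.node (.leaf 147102664709) (.leaf 1002875102852)) (.leaf 761819941891)) (.node (.leaf 208306006021) (.leaf 438086814466))) (.node (.node (.node (.leaf 299037164936) (.leaf 938987488256)) (.leaf 832686985860)) (.node (.leaf 645318990208) (.leaf 887984581127))))))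
def dF_16 : BT := .node (.node (.node (.node (.node (.node (.node (.leaf 10737420806) (.leaf 902480218381)) (.leaf 539018496771)) (.node (.node (.leaf 37580984334) (.leaf 1119912981390)) (.leaf 405874504964))) (.node (.node (.node (.leaf 139586481165) (.leaf 1010928168328)) (.leaf 344671301261)) (.node (.leaf 412853829893) (.leaf 441308008321)))) (.node (.node (.node (.node (.leaf 78920042886) (.leaf 961536032650)) (.leaf 671088812166)) (.node (.node (.leaf 206695379086) (.leaf 937913758603)) (.leaf 515933069321))) (.node (.node (.node (.leaf 231391418246) (.leaf 1034013633805)) (.leaf 672699354506)) (.node (.leaf 574988883973) (.leaf 204011149574))))) (.node (.node (.node (.node (.node (.leaf 48855264775) (.leaf 929860641411)) (.leaf 703837888130)) (.node (.node (.leaf 344134336393) (.leaf 493384639755)) (.leaf 398358345101))) (.node (.node (.node (.leaf 31138536718) (.leaf 1037771531661)) (.leaf 629749729537)) (.node (.leaf 491237001732) (.leaf 512711831434)))) (.node (.node (.node (.node (.leaf 141733954566) (.leaf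 923418204416)) (.leaf 538481704070)) (.node (.leaf 381715265026) (.leaf 451508544650))) (.node (.node (.node (.leaf 275414844170) (.leaf 442381891208)) (.leaf 807454023558)) (.node (.leaf 586263188995) (.leaf 883152860933)))))) (.node (.node (.node (.node (.node (.node (.leaf 25769809922) (.leaf 911606909065)) (.leaf 547071610374)) (.node (.node (.leaf 323196324746) (.leaf 1133871624589)) (.leaf 522375509134))) (.node (.node (.node (.leaf 200252898699) (.leaf 1020054839563)) (.leaf 811212141581)) (.node (.leaf 445602963204) (.leaf 584115691530)))) (.node (.node (.node (.node (.leaf 114890402701) (.leaf 973884066693)) (.leaf 615254242690)) (.node (.leaf 314069557902) (.leaf 207769193484))) (.node (.node (.node (.leaf 249108162059) (.leaf 1084479500807)) (.leaf 521838652803)) (.node (.leaf 605590533252) (.leaf 430570678664))))) (.node (.node (.node (.node (.node (.leaf 8589941901) (.leaf 950261727885)) (.leaf 714575329794)) (.node (.node (.leaf 376346599176) (.leaf 1147293412482)) (.leaf 732292051597))) (.node (.node (.node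 (.leaf 151934514821) (.leaf 1054951594625)) (.leaf 839129435652)) (.node (.leaf 542239750529) (.leaf 513248717962)))) (.node (.node (.node (.node (.leaf 160524430605) (.leaf 937376853120)) (.leaf 508953809540)) (.node (.leaf 347355573381) (.leaf 561567081600))) (.node (.node (.node (.leaf 308163977098) (.leaf 891205977866)) (.leaf 427886217484)) (.node (.leaf 655519539973) (.leaf 849329995264))))))
def dF_17 : BT := .node dF_15 dF_16
def dF_18 : BT := .node (.node (.node (.node (.node (.node (.node (.leaf 13421776140) (.leaf 891205927943)) (.leaf 673773155329)) (.node (.node (.leaf 78920084494) (.leaf 1111859923846)) (.leaf 486405147790))) (.node (.node (.node (.leaf 153545123594) (.leaf 913217639042)) (.leaf 397821441806)) (.node (.leaf 381178442374) (.leaf 496605712135)))) (.node (.node (.node (.node (.leaf 87509979526) (.leaf 957777935491)) (.leaf 723165291009)) (.node (.node (.leaf 30601731214) (.leaf 443992519178)) (.leaf 630286606221))) (.node (.node (.node (.leaf 222264610692) (.leaf 1073205209101)) (.leaf 623307306509))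 (.node (.leaf 564251437070) (.leaf 531502309385))))) (.node (.node (.node (.node (.node (.leaf 6979330184) (.leaf 425738851722)) (.leaf 697932352141)) (.node (.node (.leaf 335544401025) (.leaf 1138703475846)) (.leaf 532039123075))) (.node (.node (.node (.leaf 45634061070) (.leaf 825170819075)) (.leaf 784905356429)) (.node (.leaf 482110194055) (.leaf 512174959104)))) (.node (.node (.node (.node (.leaf 131533404802) (.leaf 921270718721)) (.leaf 753230069253)) (.node (.leaf 379567786637) (.leaf 450971706254))) (.node (.node (.node (.leaf 8589999242) (.leaf 823023368844)) (.leaf 474057214222)) (.node (.leaf 629749729930) (.leaf 446676808462)))))) (.node (.node (.node (.node (.node (.node (.leaf 32749133572) (.leaf 544924192513)) (.leaf 686121156738)) (.node (.node (.leaf 75698818433) (.leaf 1054951611148)) (.leaf 402116505998))) (.node (.node (.node (.leaf 193810446475) (.leaf 1028644912641)) (.leaf 794032160140)) (.node (.leaf 435402413569) (.leaf 444529268097)))) (.node (.node (.node (.node (.leaf 105226723842) (.leaf 598074427402))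 (.leaf 724775904008)) (.node (.leaf 246423807365) (.leaf 461172263815))) (.node (.node (.node (.leaf 243202581260) (.leaf 912680808324)) (.leaf 468688464268)) (.node (.leaf 586800049933) (.leaf 469762255115))))) (.node (.node (.node (.node (.node (.leaf 66035138060) (.leaf 942745546373)) (.leaf 612032997762)) (.node (.node (.leaf 361314210052) (.leaf 1144072186501)) (.leaf 783831657221))) (.node (.node (.node (.leaf 144955189380) (.leaf 988379597070)) (.leaf 572841460614)) (.node (.leaf 341986897036) (.leaf 846645569545)))) (.node (.node (.node (.node (.leaf 150323891723) (.leaf 351113814542)) (.leaf 774168039809)) (.node (.leaf 387620833282) (.leaf 696858599822))) (.node (.node (.node (.leaf 145492089344) (.leaf 1106491179265)) (.leaf 656056354693)) (.node (.leaf 653908926852) (.leaf 359166852231))))))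
def dF_19 : BT := .node (.node (.node (.node (.node (.node (.node (.leaf 2147484166) (.leaf 899258963716)) (.leaf 585189458694)) (.node (.node (.leaf 104153033229) (.leaf 1125281699968)) (.leaf 754840682126))) (.node (.node (.node (.leaf 189515477123) (.leaf 442381874059)) (.leaf 787052915468)) (.node (.leaf 416075056140) (.leaf 441844916481)))) (.node (.node (.node (.node (.leaf 97173658381) (.leaf 541702980353)) (.leaf 730681485580)) (.node (.node (.leaf 11811162254) (.leaf 1156420220160)) (.leaf 556735300878))) (.node (.node (.node (.leaf 222801481606) (.leaf 1024349955598)) (.leaf 470299017862)) (.node (.leaf 146029028098) (.leaf 863288632452))))) (.node (.node (.node (.node (.node (.leaf 53687104003) (.leaf 930397409674)) (.leaf 702764159106)) (.node (.node (.leaf 341449983371) (.leaf 1016296908300)) (.leaf 536334201857))) (.node (.node (.node (.leaf 24159233675) (.leaf 1045824786053)) (.leaf 823023304704)) (.node (.leaf 506806261889) (.leaf 421980657674)))) (.node (.node (.node (.node (.leaf 143344550669) (.leaf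 896037789312)) (.leaf 768799278342)) (.node (.leaf 303869027978) (.leaf 448287342478))) (.node (.node (.node (.leaf 285078522373) (.leaf 1086090053514)) (.leaf 663035733761)) (.node (.leaf 630286583429) (.leaf 886374087169)))))) (.node (.node (.node (.node (.node (.node (.leaf 18253615369) (.leaf 921807575809)) (.leaf 499826951174)) (.node (.node (.leaf 327491334539) (.leaf 1131724119565)) (.leaf 406948263296))) (.node (.node (.node (.leaf 210453447815) (.leaf 1022202436230)) (.leaf 420906991104)) (.node (.leaf 454729771015) (.leaf 508953809550)))) (.node (.node (.node (.node (.leaf 121869726082) (.leaf 927713171456)) (.leaf 737123919238)) (.node (.leaf 311922074113) (.leaf 491237032329))) (.node (.node (.node (.leaf 259308712448) (.leaf 1088237598208)) (.leaf 417685742989)) (.node (.leaf 616327954062) (.leaf 501437639687))))) (.node (.node (.node (.node (.node (.leaf 69793235465) (.leaf 388694764558)) (.leaf 610422384646)) (.node (.node (.leaf 353261144078) (.leaf 1149440896141)) (.leaf 847182501381))) (.node (.node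 (.node (.leaf 7516198542) (.leaf 457951141896)) (.leaf 392989708940)) (.node (.leaf 547608460933) (.leaf 406411377291)))) (.node (.node (.node (.node (.leaf 167503764611) (.leaf 955093593348)) (.leaf 566398997383)) (.node (.leaf 347892444804) (.leaf 729070850058))) (.node (.node (.node (.leaf 312458945033) (.leaf 937376877185)) (.leaf 400505802115)) (.node (.leaf 526133652226) (.leaf 892816423561))))))
def dF_20 : BT := .node dF_18 dF_19
def dF_21 : BT := .node dF_17 dF_20
def dF_22 : BT := .node (.node (.node (.node (.node (.node (.node (.leaf 4831839501) (.leaf 896574618753)) (.leaf 620086062978)) (.node (.node (.leaf 311922076037) (.leaf 1115080961292)) (.leaf 627602270222))) (.node (.node (.node (.leaf 177167442946) (.leaf 1013075508610)) (.leaf 656593311758)) (.node (.leaf 396210827529) (.leaf 439160558087)))) (.node (.node (.node (.node (.leaf 86436237572) (.leaf 936303097733)) (.leaf 609348581891)) (.node (.node (.leaf 350039871622) (.leaf 1064615293195)) (.leaf 460098508173))) (.node (.node (.node (.leaf 71403883142)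 (.leaf 820875878794)) (.leaf 478889010816)) (.node (.leaf 568009560453) (.leaf 535260464651))))) (.node (.node (.node (.node (.node (.leaf 47244651526) (.leaf 484794651656)) (.leaf 694174222466)) (.node (.node (.leaf 336618065156) (.leaf 1116691768067)) (.leaf 354871772430))) (.node (.node (.node (.leaf 5368754190) (.leaf 825707703810)) (.leaf 804232724494)) (.node (.leaf 476741483653) (.leaf 511638111620)))) (.node (.node (.node (.node (.leaf 130996533893) (.leaf 777926183305)) (.leaf 670015076487)) (.node (.leaf 15569346826) (.leaf 491237050126))) (.node (.node (.node (.leaf 263603672845) (.leaf 1098438128256)) (.leaf 754303779213)) (.node (.leaf 416611975559) (.leaf 878321021568)))))) (.node (.node (.node (.node (.node (.node (.leaf 18253615363) (.leaf 908385681801)) (.leaf 434865568775)) (.node (.node (.leaf 107374256011) (.leaf 1120986686085)) (.leaf 425738820096))) (.node (.node (.node (.leaf 181999285770) (.leaf 1032939874053)) (.leaf 671625701773)) (.node (.leaf 429496832001) (.leaf 346281903746)))) (.node (.node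 (.node (.node (.leaf 107374208129) (.leaf 965831000969)) (.leaf 484794562179)) (.node (.leaf 303869008641) (.leaf 600221830022))) (.node (.node (.node (.leaf 237296999683) (.leaf 1067299614852)) (.leaf 526133685902)) (.node (.leaf 588410626178) (.leaf 597000657793))))) (.node (.node (.node (.node (.node (.leaf 31675398028) (.leaf 935229227528)) (.leaf 614717352966)) (.node (.node (.leaf 358092982665) (.leaf 1142998264972)) (.leaf 527744232195))) (.node (.node (.node (.leaf 15032413198) (.leaf 1044214171788)) (.leaf 827318262284)) (.node (.leaf 521838651021) (.leaf 507879995530)))) (.node (.node (.node (.node (.leaf 142807698187) (.leaf 961536042624)) (.leaf 631360373379)) (.node (.leaf 359166732810) (.leaf 630823476110))) (.node (.node (.node (.leaf 299574040579) (.leaf 1102196245001)) (.leaf 542239747203)) (.node (.leaf 503585022467) (.leaf 888521571210))))))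
def dF_23 : BT := .node (.node (.node (.node (.node (.node (.node (.leaf 6442452486) (.leaf 904090725123)) (.leaf 685584318212)) (.node (.node (.leaf 108447976718) (.leaf 1117228590605)) (.leaf 467077803651))) (.node (.node (.node (.leaf 188978606212) (.leaf 676457591562)) (.leaf 392989618701)) (.node (.leaf 398358311688) (.leaf 447213608832)))) (.node (.node (.node (.node (.leaf 74625074566) (.leaf 963683488780)) (.leaf 476741496451)) (.node (.node (.leaf 323733237390) (.leaf 1145145930881)) (.leaf 501974470922))) (.node (.node (.node (.leaf 227096449926) (.leaf 344134510862)) (.leaf 480499659526)) (.node (.leaf 583578820613) (.leaf 854698695812))))) (.node (.node (.node (.node (.node (.leaf 22548590862) (.leaf 929860641159)) (.leaf 508953790988)) (.node (.node (.leaf 343060595456) (.leaf 995895813507)) (.leaf 410169520269))) (.node (.node (.node (.leaf 12884949646) (.leaf 1038308554120)) (.leaf 137976020616)) (.node (.leaf 499826938372) (.leaf 598074351365)))) (.node (.node (.node (.node (.leaf 137438986246) (.leaf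 961536033028)) (.leaf 762356876933)) (.node (.leaf 340376249476) (.leaf 802085245835))) (.node (.node (.node (.leaf 280783554059) (.leaf 1039382344967)) (.leaf 537944846861)) (.node (.leaf 453119191430) (.leaf 544387315332)))))) (.node (.node (.node (.node (.node (.node (.leaf 34896617739) (.leaf 913217639169)) (.leaf 506806248711)) (.node (.node (.leaf 323733237382) (.leaf 1069447126158)) (.leaf 724239020800))) (.node (.node (.node (.leaf 206695350537) (.leaf 1032939878030)) (.leaf 814970238851)) (.node (.leaf 447213576452) (.leaf 443455494538)))) (.node (.node (.node (.node (.leaf 123480339341) (.leaf 982474003333)) (.leaf 740881983495)) (.node (.leaf 154082023048) (.leaf 430570588932))) (.node (.node (.node (.leaf 252329388932) (.leaf 1085016217993)) (.leaf 467077892621)) (.node (.leaf 614180469892) (.leaf 340376365702))))) (.node (.node (.node (.node (.node (.leaf 2147484302) (.leaf 935766120712)) (.leaf 708132889479)) (.node (.node (.leaf 197568580739) (.leaf 1017907522955)) (.leaf 753230069121))) (.node (.node (.node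 (.leaf 38654711808) (.leaf 1039382337294)) (.leaf 466004152973)) (.node (.leaf 421980664974) (.leaf 428423089801)))) (.node (.node (.node (.node (.leaf 166966893442) (.leaf 1005022514441)) (.leaf 653908956934)) (.node (.leaf 359166733705) (.leaf 579820704771))) (.node (.node (.node (.leaf 309237719303) (.leaf 1005559483136)) (.leaf 462782840448)) (.node (.leaf 664109476613) (.leaf 866509865222))))))
def dF_24 : BT := .node dF_22 dF_23
def dF_25 : BT := .node (.node (.node (.node (.node (.node (.node (.leaf 15032389126) (.leaf 898185250049)) (.leaf 427349407618)) (.node (.node (.leaf 82678178702) (.leaf 1118302376461)) (.leaf 466540933638))) (.node (.node (.node (.leaf 180925540736) (.leaf 922344446606)) (.leaf 402116408970)) (.node (.leaf 404263893253) (.leaf 440234266370)))) (.node (.node (.node (.node (.leaf 83215011206) (.leaf 955630452620)) (.leaf 418222554503)) (.node (.node (.leaf 37044099973) (.leaf 480499741450)) (.leaf 543850401677))) (.node (.node (.node (.leaf 230854547332) (.leaf 1081258274566)) (.leaf 419833212173))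 (.node (.leaf 176093795463) (.leaf 850403727369))))) (.node (.node (.node (.node (.node (.leaf 44023425282) (.leaf 920196961422)) (.leaf 387620966797)) (.node (.node (.leaf 341986852229) (.leaf 1137629697282)) (.leaf 810138385283))) (.node (.node (.node (.leaf 41875969294) (.leaf 954019838082)) (.leaf 474057176705)) (.node (.leaf 482110193667) (.leaf 769336202368)))) (.node (.node (.node (.node (.leaf 134754631171) (.leaf 980863392654)) (.leaf 755914393987)) (.node (.leaf 143881495175) (.leaf 450971602819))) (.node (.node (.node (.leaf 8590000136) (.leaf 1093069373069)) (.leaf 820875740167)) (.node (.leaf 634044698373) (.leaf 873489073675)))))) (.node (.node (.node (.node (.node (.node (.leaf 30064778246) (.leaf 910533183883)) (.leaf 440234299779)) (.node (.node (.leaf 318901396100) (.leaf 823560249485)) (.leaf 539555465092))) (.node (.node (.node (.leaf 200789768197) (.leaf 1024886790278)) (.leaf 805843431168)) (.node (.leaf 443992350209) (.leaf 768262458500)))) (.node (.node (.node (.node (.leaf 99858000512) (.leaf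 541702981899)) (.leaf 739808293249)) (.node (.leaf 298500264196) (.leaf 460635346050))) (.node (.node (.node (.leaf 246423795073) (.leaf 911607067013)) (.leaf 522375543168)) (.node (.leaf 397821489154) (.leaf 468688512778))))) (.node (.node (.node (.node (.node (.leaf 42412817678) (.leaf 951335459205)) (.leaf 404800824834)) (.node (.node (.leaf 369904146692) (.leaf 1146219670402)) (.leaf 463319711621))) (.node (.node (.node (.leaf 137975831308) (.leaf 1040992934025)) (.leaf 830539499012)) (.node (.leaf 415001341190) (.leaf 536334159625)))) (.node (.node (.node (.node (.leaf 155692599435) (.leaf 970662847372)) (.leaf 772557383426)) (.node (.leaf 147102722947) (.leaf 635655292679))) (.node (.node (.node (.leaf 306016492938) (.leaf 1106491213326)) (.leaf 604516795652)) (.node (.leaf 457951030278) (.leaf 890132098699))))))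
def dF_26 : BT := .node (.node (.node (.node (.node (.node (.node (.leaf 23622325892) (.leaf 906775186689)) (.leaf 582505103490)) (.node (.node (.leaf 236223220750) (.leaf 932545041934)) (.leaf 667867511298))) (.node (.node (.node (.leaf 191662959104) (.leaf 1024349944448)) (.leaf 420906970125)) (.node (.leaf 423591250692) (.leaf 552977144974)))) (.node (.node (.node (.node (.leaf 97173658242) (.leaf 969052227332)) (.leaf 426275620103)) (.node (.node (.leaf 9126826638) (.leaf 1157493962242)) (.leaf 503585083277))) (.node (.node (.node (.leaf 218506513286) (.leaf 1069446974472)) (.leaf 525059895941)) (.node (.leaf 572304427398) (.leaf 439697482382))))) (.node (.node (.node (.node (.node (.leaf 56908330250) (.leaf 933081829003)) (.leaf 667330712069)) (.node (.node (.leaf 352187321738) (.leaf 581431469702)) (.leaf 674846907652))) (.node (.node (.node (.leaf 46170916100) (.leaf 1054414702981)) (.leaf 824633917700)) (.node (.leaf 512174972293) (.leaf 425738738056)))) (.node (.node (.node (.node (.leaf 143344568067) (.leaf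 995358899464)) (.leaf 638339696902)) (.node (.leaf 385473397515) (.leaf 774167993102))) (.node (.node (.node (.leaf 293668459013) (.leaf 1005022610561)) (.leaf 742492648330)) (.node (.leaf 578746947463) (.leaf 886374061059)))))) (.node (.node (.node (.node (.node (.node (.leaf 40802199046) (.leaf 928786803594)) (.leaf 507880049030)) (.node (.node (.leaf 329638782086) (.leaf 1135482243971)) (.leaf 197031751430))) (.node (.node (.node (.leaf 44560336142) (.leaf 1017907414024)) (.leaf 461709178508)) (.node (.leaf 193273638412) (.leaf 585189479310)))) (.node (.node (.node (.node (.leaf 117574757762) (.leaf 984084610057)) (.leaf 733365788935)) (.node (.leaf 339302458887) (.leaf 433791883138))) (.node (.node (.node (.leaf 3758157710) (.leaf 1096827534848)) (.leaf 484257675406)) (.node (.leaf 535260442753) (.leaf 870804729610))))) (.node (.node (.node (.node (.node (.leaf 71940719365) (.leaf 938987335305)) (.leaf 463856563846)) (.node (.node (.leaf 13958652942) (.leaf 1150514638597)) (.leaf 665720089864))) (.node (.node (.node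 (.leaf 58518937857) (.leaf 1054951595406)) (.leaf 830002589197)) (.node (.leaf 501437564290) (.leaf 509490607881)))) (.node (.node (.node (.node (.leaf 132070285709) (.leaf 639413497603)) (.leaf 572304578697)) (.node (.leaf 394600211465) (.leaf 550292816142))) (.node (.node (.node (.leaf 307627107593) (.leaf 1107564801803)) (.leaf 663035737860)) (.node (.leaf 518080586626) (.leaf 891742791941))))))
def dF_27 : BT := .node dF_25 dF_26
def dF_28 : BT := .node dF_24 dF_27
def dF_29 : BT := .node dF_21 dF_28
def dF_30 : BT := .node dF_14 dF_29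
def dF_31 : BT := .node (.node (.node (.node (.node (.node (.node (.leaf 8) (.leaf 895500774413)) (.leaf 669478187013)) (.node (.node (.leaf 313532688132) (.leaf 1115617972493)) (.leaf 746787540366))) (.node (.node (.node (.leaf 127775317006) (.leaf 1012001910405)) (.leaf 785442331648)) (.node (.leaf 395137085447) (.leaf 550292789518)))) (.node (.node (.node (.node (.leaf 75698816773) (.leaf 954556709252)) (.leaf 707596006278)) (.node (.node (.leaf 351650531201) (.leaf 1151051509765)) (.leaf 424664992777))) (.node (.node (.node (.leaf 138512728590) (.leaf 1002875117699)) (.leaf 848793114372)) (.node (.leaf 560493365892) (.leaf 555661536513))))) (.node (.node (.node (.node (.node (.leaf 37044101766) (.leaf 913754509966)) (.leaf 695247985158)) (.node (.node (.leaf 331786302858) (.leaf 1102196252936)) (.leaf 532576059021))) (.node (.node (.node (.leaf 1073768590) (.leaf 923955086727)) (.leaf 783294817549)) (.node (.leaf 467614675981) (.leaf 455266668289)))) (.node (.node (.node (.node (.leaf 113279789447) (.leaf 972273454478))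 (.leaf 750008843009)) (.node (.leaf 206695383555) (.leaf 349503117582))) (.node (.node (.node (.leaf 263603680771) (.leaf 1038308603918)) (.leaf 423591296014)) (.node (.leaf 194347417484) (.leaf 872952311050)))))) (.node (.node (.node (.node (.node (.node (.leaf 22548583686) (.leaf 867046738830)) (.leaf 682363046535)) (.node (.node (.leaf 97173657998) (.leaf 1127966014337)) (.leaf 407485119628))) (.node (.node (.node (.leaf 192199832582) (.leaf 1030792396929)) (.leaf 793495397253)) (.node (.leaf 206695401741) (.leaf 442381737095)))) (.node (.node (.node (.node (.leaf 92878689927) (.leaf 969052093954)) (.leaf 486942091522)) (.node (.node (.leaf 155692629390) (.leaf 1158030833285)) (.leaf 448287376519))) (.node (.node (.node (.leaf 238907612941) (.leaf 489626527112)) (.leaf 470835888646)) (.node (.leaf 556198401666) (.leaf 651761491086))))) (.node (.node (.node (.node (.node (.leaf 55834588808) (.leaf 934155464077)) (.leaf 712427870212)) (.node (.node (.leaf 353798015498) (.leaf 592705759491)) (.leaf 526670477069))) (.node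 (.node (.node (.leaf 4831838976) (.leaf 1053877832069)) (.leaf 311385325958)) (.node (.leaf 350039956109) (.leaf 847182478602)))) (.node (.node (.node (.node (.leaf 142270826629) (.leaf 1000727618693)) (.leaf 762893696899)) (.node (.leaf 386010277898) (.leaf 588947495054))) (.node (.node (.node (.leaf 298500294152) (.leaf 1103806858246)) (.leaf 832686986112)) (.node (.leaf 643171506049) (.leaf 885837124353))))))
def dF_32 : BT := .node (.node (.node (.node (.node (.node (.node (.leaf 11811162882) (.leaf 900332734220)) (.leaf 674309966467)) (.node (.node (.leaf 84825611137) (.leaf 1120449694984)) (.leaf 540092248588))) (.node (.node (.node (.leaf 112742935296) (.leaf 955093580168)) (.leaf 658203874568)) (.node (.leaf 410706345732) (.leaf 829465741838)))) (.node (.node (.node (.node (.leaf 79993784962) (.leaf 957777893643)) (.leaf 478889025794)) (.node (.node (.leaf 156229518217) (.leaf 1154809477897)) (.leaf 599684921739))) (.node (.node (.node (.leaf 232465160323) (.leaf 1079647622279)) (.leaf 672699402882)) (.node (.leaf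 572841399812) (.leaf 850940598409))))) (.node (.node (.node (.node (.node (.leaf 41339063436) (.leaf 920733803401)) (.leaf 704374779271)) (.node (.node (.leaf 343060594698) (.leaf 958851720449)) (.leaf 471372786190))) (.node (.node (.node (.leaf 69793219854) (.leaf 1013075658250)) (.leaf 732828896641)) (.node (.leaf 489089517573) (.leaf 512711812621)))) (.node (.node (.node (.node (.leaf 141197083652) (.leaf 961536039047)) (.leaf 753230050566)) (.node (.leaf 341986861952) (.leaf 547608450958))) (.node (.node (.node (.leaf 277025456776) (.leaf 1089311340166)) (.leaf 410169524749)) (.node (.leaf 640487150852) (.leaf 882079016961)))))) (.node (.node (.node (.node (.node (.node (.leaf 27917294082) (.leaf 911606885645)) (.leaf 634581522306)) (.node (.node (.leaf 322659464840) (.leaf 1133871636486)) (.leaf 521838684677))) (.node (.node (.node (.leaf 200252898570) (.leaf 1020054950277)) (.leaf 809064657420)) (.node (.leaf 446139834126) (.leaf 584652562568)))) (.node (.node (.node (.node (.leaf 112742918541) (.leaf 971736582532))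 (.leaf 666793850375)) (.node (.leaf 306553364366) (.leaf 350039951751))) (.node (.node (.node (.leaf 248571291269) (.leaf 1083942629122)) (.leaf 415538243334)) (.node (.leaf 603443049093) (.leaf 469762255113))))) (.node (.node (.node (.node (.node (.leaf 19864226189) (.leaf 597000680712)) (.leaf 715649071878)) (.node (.node (.leaf 15032475272) (.leaf 1146756541445)) (.leaf 729607716225))) (.node (.node (.node (.leaf 4294971021) (.leaf 1058709691013)) (.leaf 836981951493)) (.node (.leaf 540092266368) (.leaf 771483606784)))) (.node (.node (.node (.node (.leaf 158376956941) (.leaf 1008780684289)) (.leaf 503048228226)) (.node (.leaf 382789053450) (.leaf 630823476228))) (.node (.node (.node (.leaf 308163976705) (.leaf 951872390925)) (.leaf 427886273282)) (.node (.leaf 649077041282) (.leaf 890668972168))))))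
def dF_33 : BT := .node dF_31 dF_32
def dF_34 : BT := .node (.node (.node (.node (.node (.node (.node (.leaf 11274291980) (.leaf 848256254979)) (.leaf 419833213570)) (.node (.node (.leaf 76235723790) (.leaf 1111859897985)) (.leaf 150324014990))) (.node (.node (.node (.leaf 176630572673) (.leaf 410169618570)) (.leaf 382252199950)) (.node (.leaf 396747698561) (.leaf 439697410957)))) (.node (.node (.node (.node (.leaf 88583721602) (.leaf 955630370185)) (.leaf 721017806848)) (.node (.node (.leaf 329638820618) (.leaf 1152662122882)) (.leaf 432718064774))) (.node (.node (.node (.leaf 220117126533) (.leaf 1071057724941)) (.leaf 623307309189)) (.node (.leaf 562640798598) (.leaf 625991632648))))) (.node (.node (.node (.node (.node (.leaf 17179870862) (.leaf 915365020681)) (.leaf 560493386371)) (.node (.node (.leaf 338228755458) (.leaf 395674133645)) (.leaf 345208175757))) (.node (.node (.node (.leaf 37044123662) (.leaf 824633961859)) (.leaf 804769640588)) (.node (.leaf 415001328263) (.leaf 650687712769)))) (.node (.node (.node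 (.node (.leaf 131533404807) (.leaf 955093586183)) (.leaf 420906974212)) (.node (.leaf 379567820297) (.leaf 450434797953))) (.node (.node (.node (.leaf 270046128517) (.leaf 824097111182)) (.leaf 676994419086)) (.node (.leaf 629212859012) (.leaf 457414227086)))))) (.node (.node (.node (.node (.node (.node (.leaf 30601649413) (.leaf 766651879174)) (.leaf 494458240774)) (.node (.node (.leaf 88046855180) (.leaf 895500950281)) (.leaf 607738017284))) (.node (.node (.node (.leaf 179851802628) (.leaf 1029181691401)) (.leaf 474594075662)) (.node (.leaf 433254929408) (.leaf 543313545994)))) (.node (.node (.node (.node (.leaf 107374208002) (.leaf 777389311875)) (.leaf 724775822343)) (.node (.leaf 298500298766) (.leaf 460635379726))) (.node (.node (.node (.leaf 218506518796) (.leaf 1067299593356)) (.leaf 522375573902)) (.node (.leaf 598611209732) (.leaf 868120471812))))) (.node (.node (.node (.node (.node (.leaf 63887653895) (.leaf 940598062212)) (.leaf 612569822851)) (.node (.node (.leaf 74625142533) (.leaf 867046795787)) (.leaf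 820875820549))) (.node (.node (.node (.leaf 151934514958) (.leaf 1039382201227)) (.leaf 827855080457)) (.node (.leaf 528281011341) (.leaf 490700155269)))) (.node (.node (.node (.node (.leaf 150860762496) (.leaf 952946106241)) (.leaf 772020555648)) (.node (.leaf 389231492992) (.leaf 598611187713))) (.node (.node (.node (.leaf 154618894593) (.leaf 953483003136)) (.leaf 605053666565)) (.node (.leaf 651761442693) (.leaf 601295633420))))))
def dF_35 : BT := .node (.node (.node (.node (.node (.node (.node (.leaf 3221226242) (.leaf 780610520718)) (.leaf 586263200770)) (.node (.node (.leaf 89657467278) (.leaf 1123134215809)) (.leaf 610422338830))) (.node (.node (.node (.leaf 173946204685) (.leaf 916438889347)) (.leaf 719407198605)) (.node (.leaf 337155031564) (.leaf 638876492293)))) (.node (.node (.node (.node (.leaf 95026174220) (.leaf 846108787336)) (.leaf 728534001420)) (.node (.node (.leaf 178778078222) (.leaf 1156420220166)) (.leaf 502511293440))) (.node (.node (.node (.leaf 224412094726) (.leaf 1081258272644)) (.leaf 523986107150))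 (.node (.leaf 391379035011) (.leaf 861141148293))))) (.node (.node (.node (.node (.node (.leaf 37044103936) (.leaf 488552752264)) (.leaf 511638114178)) (.node (.node (.leaf 335544403205) (.leaf 490163414538)) (.leaf 401579635333))) (.node (.node (.node (.leaf 59592684558) (.leaf 1043677301892)) (.leaf 824096933900)) (.node (.leaf 504658777728) (.leaf 514322475018)))) (.node (.node (.node (.node (.leaf 142270825736) (.leaf 994285108360)) (.leaf 768799329412)) (.node (.leaf 384399608966) (.leaf 452045459214))) (.node (.node (.node (.leaf 282931038212) (.leaf 979252802432)) (.leaf 785979203213)) (.node (.leaf 496605732227) (.leaf 885300331404)))))) (.node (.node (.node (.node (.node (.node (.leaf 34359747079) (.leaf 919660091648)) (.leaf 639950259074)) (.node (.node (.leaf 326417592452) (.leaf 1129039683976)) (.leaf 620086026509))) (.node (.node (.node (.leaf 183609901701) (.leaf 1011465041924)) (.leaf 821412691329)) (.node (.leaf 440771126797) (.leaf 454729771013)))) (.node (.node (.node (.node (.leaf 121869726087) (.leaf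 775241832456)) (.leaf 466540998403)) (.node (.leaf 311385201925) (.leaf 492847533959))) (.node (.node (.node (.leaf 257161228289) (.leaf 1086090114049)) (.leaf 835371329921)) (.node (.leaf 616864824970) (.leaf 870804827012))))) (.node (.node (.node (.node (.node (.leaf 70330106378) (.leaf 474057238665)) (.leaf 468688430855)) (.node (.node (.leaf 346281781767) (.leaf 1147293412869)) (.leaf 753230091532))) (.node (.node (.node (.leaf 23622322062) (.leaf 1064615272448)) (.leaf 477815311246)) (.node (.leaf 545460976772) (.leaf 777389239816)))) (.node (.node (.node (.node (.leaf 165893151362) (.leaf 344134494349)) (.leaf 777926106759)) (.node (.leaf 179851849222) (.leaf 549755965569))) (.node (.node (.node (.leaf 304942752395) (.leaf 1110786041226)) (.leaf 733902715780)) (.node (.leaf 526670462599) (.leaf 892816533380))))))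
def dF_36 : BT := .node dF_34 dF_35
def dF_37 : BT := .node dF_33 dF_36
def dF_38 : BT := .node (.node (.node (.node (.node (.node (.node (.leaf 2684355340) (.leaf 897111377165)) (.leaf 667867513475)) (.node (.node (.leaf 312458946817) (.leaf 1115081150086)) (.leaf 741418826254))) (.node (.node (.node (.leaf 176630567048) (.leaf 1013612523529)) (.leaf 791884784129)) (.node (.leaf 396210750086) (.leaf 581431304460)))) (.node (.node (.node (.node (.leaf 84288753413) (.leaf 424128247434)) (.leaf 403727070599)) (.node (.node (.leaf 341449983360) (.leaf 1149440897285)) (.leaf 460098555140))) (.node (.node (.node (.leaf 34896661121) (.leaf 1066762596493)) (.leaf 622770300812)) (.node (.leaf 565862076292) (.leaf 449361055876))))) (.node (.node (.node (.node (.node (.leaf 46707780612) (.leaf 921807576718)) (.leaf 503585048450)) (.node (.node (.leaf 27917367552) (.leaf 1136555991689)) (.leaf 716185954958))) (.node (.node (.node (.leaf 44560331656) (.leaf 1034013597063)) (.leaf 812285825930)) (.node (.leaf 474593999492) (.leaf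 585189479436)))) (.node (.node (.node (.node (.leaf 128849049732) (.leaf 972273445507)) (.leaf 748398165250)) (.node (.leaf 193273575296) (.leaf 155155834638))) (.node (.node (.node (.leaf 264140551822) (.leaf 1098975018889)) (.leaf 670015056781)) (.node (.leaf 475130904578) (.leaf 876173537409)))))) (.node (.node (.node (.node (.node (.node (.leaf 18253615366) (.leaf 413927689739)) (.leaf 544924079238)) (.node (.node (.leaf 107374254990) (.leaf 1120986731662)) (.leaf 530965367815))) (.node (.node (.node (.leaf 179314931072) (.leaf 635655406090)) (.leaf 802085268621)) (.node (.leaf 429496832010) (.leaf 147639683853)))) (.node (.node (.node (.node (.leaf 105226723968) (.leaf 965831000960)) (.leaf 727997072006)) (.node (.leaf 183073047950) (.leaf 680215588622))) (.node (.node (.node (.leaf 238907612802) (.leaf 1067836461191)) (.leaf 461709130244)) (.node (.leaf 593242499329) (.leaf 854161756041))))) (.node (.node (.node (.node (.node (.leaf 60129556609) (.leaf 852014360323)) (.leaf 473520291074)) (.node (.node (.leaf 357019240713)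 (.leaf 1142998388488)) (.leaf 665720089600))) (.node (.node (.node (.leaf 13421782400) (.leaf 962072903683)) (.leaf 616328004231)) (.node (.leaf 519691166861) (.leaf 453119150858)))) (.node (.node (.node (.node (.leaf 108984830601) (.leaf 1003948779401)) (.leaf 576599540611)) (.node (.leaf 387083963907) (.leaf 493921359874))) (.node (.node (.node (.leaf 300110882564) (.leaf 1101122503046)) (.leaf 542776675467)) (.node (.leaf 447750493955) (.leaf 814433385346))))))
def dF_39 : BT := .node (.node (.node (.node (.node (.node (.node (.leaf 7516194562) (.leaf 904627702286)) (.leaf 683436834053)) (.node (.node (.leaf 96099956622) (.leaf 1117228634247)) (.leaf 521301779977))) (.node (.node (.node (.leaf 186831122053) (.leaf 501437674121)) (.leaf 394600277250)) (.node (.leaf 412853824259) (.leaf 498216402440)))) (.node (.node (.node (.node (.leaf 75698816642) (.leaf 753230119299)) (.leaf 476204670599)) (.node (.node (.leaf 1073746949) (.leaf 1149977768972)) (.leaf 425738743051))) (.node (.node (.node (.leaf 228707063046) (.leaf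 395674118926)) (.leaf 678604932997)) (.node (.leaf 581431336452) (.leaf 852551211653))))) (.node (.node (.node (.node (.node (.leaf 55297704717) (.leaf 929860641668)) (.leaf 453656087684)) (.node (.node (.leaf 346281820937) (.leaf 995895813511)) (.leaf 674309912076))) (.node (.node (.node (.leaf 5368709505) (.leaf 938987472646)) (.leaf 629749773198)) (.node (.leaf 497679454213) (.leaf 513248695180)))) (.node (.node (.node (.node (.leaf 138512728326) (.leaf 962072903688)) (.leaf 760209392772)) (.node (.leaf 194884232454) (.leaf 506269400709))) (.node (.node (.node (.leaf 280246681995) (.leaf 1088237572099)) (.leaf 621696704002)) (.node (.leaf 442381783939) (.leaf 456340486158)))))) (.node (.node (.node (.node (.node (.node (.leaf 34896617736) (.leaf 912143897095)) (.leaf 648003324679)) (.node (.node (.leaf 324270107910) (.leaf 1131723991307)) (.leaf 180388737805))) (.node (.node (.node (.leaf 205621608457) (.leaf 1024349918477)) (.leaf 807454039299)) (.node (.leaf 431644316428) (.leaf 508953763969)))) (.node (.node (.node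 (.node (.leaf 121332855180) (.leaf 980326519172)) (.leaf 663572624135)) (.node (.leaf 153008253568) (.leaf 446676736526))) (.node (.node (.node (.leaf 248034421259) (.leaf 957777965696)) (.leaf 521301827340)) (.node (.leaf 612032985733) (.leaf 492847704584))))) (.node (.node (.node (.node (.node (.leaf 1610629376) (.leaf 941671803150)) (.leaf 709743502595)) (.node (.node (.leaf 358092933894) (.leaf 455266807048)) (.leaf 488015769099))) (.node (.node (.node (.leaf 149787033736) (.leaf 802622265614)) (.leaf 845571812357)) (.node (.leaf 153545208717) (.leaf 566398923658)))) (.node (.node (.node (.node (.leaf 165893151489) (.leaf 1005022587918)) (.leaf 147102816141)) (.node (.leaf 387620891905) (.leaf 654445775618))) (.node (.node (.node (.leaf 305479622790) (.leaf 1110249310849)) (.leaf 462245984391)) (.node (.leaf 661961992452) (.leaf 893890281729))))))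
def dF_40 : BT := .node dF_38 dF_39
def dF_41 : BT := .node (.node (.node (.node (.node (.node (.node (.leaf 16106131202) (.leaf 898185249925)) (.leaf 629749741698)) (.node (.node (.leaf 81604440846) (.leaf 1105954344972)) (.leaf 622233498117))) (.node (.node (.node (.leaf 181462410633) (.leaf 1010391283726)) (.leaf 402116460293)) (.node (.leaf 402116409092) (.leaf 497679458052)))) (.node (.node (.node (.node (.leaf 84288753282) (.leaf 963146645771)) (.leaf 622770418182)) (.node (.node (.leaf 89657445390) (.leaf 613643727496)) (.leaf 433255017224))) (.node (.node (.node (.leaf 228707063173) (.leaf 1079647661581)) (.leaf 419833203331)) (.node (.leaf 571230786700) (.leaf 850403601795))))) (.node (.node (.node (.node (.node (.leaf 46170909442) (.leaf 919123150346)) (.leaf 704374804612)) (.node (.node (.leaf 341449980549) (.leaf 1138166587789)) (.leaf 717796570254))) (.node (.node (.node (.leaf 46170937612) (.leaf 889595344908)) (.leaf 745177000065)) (.node (.leaf 488552642957) (.leaf 651224581121)))) (.node (.node (.node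 (.node (.leaf 128312178562) (.leaf 993211424129)) (.leaf 542776672390)) (.node (.leaf 380641528577) (.leaf 383862809479))) (.node (.node (.node (.leaf 273804224523) (.leaf 1093069437444)) (.leaf 622233566733)) (.node (.leaf 631897214212) (.leaf 873489126528)))))) (.node (.node (.node (.node (.node (.node (.leaf 31675391363) (.leaf 910533264384)) (.leaf 551366578694)) (.node (.node (.leaf 310311462273) (.leaf 1132797894532)) (.leaf 656593252238))) (.node (.node (.node (.leaf 4831886090) (.leaf 344134499214)) (.leaf 803695947009)) (.node (.leaf 441844866048) (.leaf 500363809540)))) (.node (.node (.node (.node (.leaf 103079239682) (.leaf 971736387084)) (.leaf 737660809088)) (.node (.leaf 153008277006) (.leaf 490700199682))) (.node (.node (.node (.leaf 246423750408) (.leaf 1083942509704)) (.leaf 609885526016)) (.node (.leaf 329638883207) (.leaf 865436117134))))) (.node (.node (.node (.node (.node (.leaf 45097173004) (.leaf 949187998852)) (.leaf 522375494279)) (.node (.node (.leaf 367756662533) (.leaf 469762321160)) (.leaf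 849329984644))) (.node (.node (.node (.leaf 149250159873) (.leaf 1040992946561)) (.leaf 829465594253)) (.node (.leaf 534723553421) (.leaf 846108716042)))) (.node (.node (.node (.node (.leaf 153008246792) (.leaf 963146655118)) (.leaf 560493416578)) (.node (.leaf 390305245829) (.leaf 447750522637))) (.node (.node (.node (.leaf 305479551240) (.leaf 1104880600331)) (.leaf 479962705678)) (.node (.leaf 597537480455) (.leaf 851477478660))))))
def dF_42 : BT := .node (.node (.node (.node (.node (.node (.node (.leaf 21474841733) (.leaf 868657351427)) (.leaf 688805519239)) (.node (.node (.leaf 15032404622) (.leaf 423054547594)) (.leaf 470299016320))) (.node (.node (.node (.leaf 191126090246) (.leaf 1022202460289)) (.leaf 463319712140)) (.node (.leaf 421443766531) (.leaf 688805519374)))) (.node (.node (.node (.node (.leaf 97173658247) (.leaf 966904743173)) (.leaf 487478917383)) (.node (.node (.leaf 144955227148) (.leaf 1116154902026)) (.leaf 693100497678))) (.node (.node (.node (.leaf 220117126406) (.leaf 1066762757125)) (.leaf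 611496145166)) (.node (.leaf 500363829507) (.leaf 493384574094))))) (.node (.node (.node (.node (.node (.leaf 56371459210) (.leaf 933081847808)) (.leaf 568546418311)) (.node (.node (.leaf 351650530440) (.leaf 1140850960001)) (.leaf 424128198148))) (.node (.node (.node (.leaf 54223965581) (.leaf 1052267238532)) (.leaf 825170666242)) (.node (.leaf 510027488132) (.leaf 718333465096)))) (.node (.node (.node (.node (.leaf 144418309898) (.leaf 896037789446)) (.leaf 766114910211)) (.node (.leaf 347892399622) (.leaf 452045408777))) (.node (.node (.node (.leaf 291520974852) (.leaf 1103269987328)) (.leaf 715649016717)) (.node (.leaf 632970909186) (.leaf 886374087182)))))) (.node (.node (.node (.node (.node (.node (.leaf 40265328133) (.leaf 928250028288)) (.leaf 697395478669)) (.node (.node (.leaf 156229513984) (.leaf 1034013647370)) (.leaf 610959243525))) (.node (.node (.node (.leaf 216895855501) (.leaf 1017907491840)) (.leaf 603443099790)) (.node (.leaf 461172219533) (.leaf 456340440716)))) (.node (.node (.node (.node (.leaf 117574757767)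 (.leaf 950261748995)) (.leaf 604516821890)) (.node (.leaf 148713324547) (.leaf 433791827456))) (.node (.node (.node (.leaf 242128843150) (.leaf 1094680050689)) (.leaf 526670493059)) (.node (.leaf 601832375430) (.leaf 871878544514))))) (.node (.node (.node (.node (.node (.leaf 70866977538) (.leaf 931471255947)) (.leaf 709206585606)) (.node (.node (.leaf 358092983054) (.leaf 1149977767687)) (.leaf 585726304522))) (.node (.node (.node (.leaf 178778022028) (.leaf 1064615263754)) (.leaf 461172314891)) (.node (.leaf 554050913412) (.leaf 605053639688)))) (.node (.node (.node (.node (.leaf 173946217089) (.leaf 1012001910532)) (.leaf 344671312006)) (.node (.leaf 394063343360) (.leaf 763430618885))) (.node (.node (.node (.leaf 304942752897) (.leaf 1107564913153)) (.leaf 663572605320)) (.node (.leaf 517543654919) (.leaf 585189506957))))))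
def dF_43 : BT := .node dF_41 dF_42
def dF_44 : BT := .node dF_40 dF_43
def dF_45 : BT := .node dF_37 dF_44
def dF_46 : BT := .node (.node (.node (.node (.node (.node (.node (.leaf 1073742091) (.leaf 752693232132)) (.leaf 662498865933)) (.node (.node (.leaf 317827655819) (.leaf 965294165771)) (.leaf 426275633038))) (.node (.node (.node (.leaf 175556789120) (.leaf 752156389261)) (.leaf 787589815809)) (.node (.leaf 395673956235) (.leaf 439697408398)))) (.node (.node (.node (.node (.leaf 79993785093) (.leaf 433791925131)) (.leaf 710280361474)) (.node (.node (.leaf 31138601998) (.leaf 1151588380293)) (.leaf 569620211592))) (.node (.node (.node (.leaf 206695337098) (.leaf 1066225689868)) (.leaf 478889010702)) (.node (.leaf 556735242502) (.leaf 771483583234))))) (.node (.node (.node (.node (.node (.leaf 42412812292) (.leaf 914828220298)) (.leaf 693100488067)) (.node (.node (.leaf 333933787008) (.leaf 1136555793410)) (.leaf 482647050766))) (.node (.node (.node (.leaf 536916110) (.leaf 1036161107208)) (.leaf 783831629831)) (.node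 (.leaf 471909644300) (.leaf 456877310980)))) (.node (.node (.node (.node (.leaf 69793248388) (.leaf 911070169742)) (.leaf 750545649410)) (.node (.leaf 195957966210) (.leaf 350039988622))) (.node (.node (.node (.leaf 267898649093) (.leaf 1100048725383)) (.leaf 423591247491)) (.node (.leaf 621696664461) (.leaf 872415440009)))))) (.node (.node (.node (.node (.node (.node (.leaf 20937970562) (.leaf 407485238027)) (.leaf 680215582599)) (.node (.node (.leaf 243202586894) (.leaf 1123671041539)) (.leaf 485868211213))) (.node (.node (.node (.leaf 192199832837) (.leaf 448287457928)) (.leaf 797790365580)) (.node (.leaf 428959960969) (.leaf 434328720257)))) (.node (.node (.node (.node (.leaf 100931755651) (.leaf 830002660750)) (.leaf 730144601607)) (.node (.leaf 9126806404) (.leaf 630286591363))) (.node (.node (.node (.leaf 240518225927) (.leaf 1068373217034)) (.leaf 529354891916)) (.node (.leaf 588947531009) (.leaf 567472757253))))) (.node (.node (.node (.node (.node (.leaf 56908330757) (.leaf 852014360199)) (.leaf 716722838532))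 (.node (.node (.leaf 344671210116) (.leaf 1142998444302)) (.leaf 472446549381))) (.node (.node (.node (.leaf 38117845646) (.leaf 303869187086)) (.leaf 183073178118)) (.node (.leaf 510564345991) (.leaf 508416904205)))) (.node (.node (.node (.node (.leaf 3758131465) (.leaf 914828273539)) (.leaf 634044728582)) (.node (.leaf 386547092483) (.leaf 438086707596))) (.node (.node (.node (.leaf 154618894088) (.leaf 1102196245121)) (.leaf 844498143236)) (.node (.leaf 647466474369) (.leaf 870267960073))))))
def dF_47 : BT := .node (.node (.node (.node (.node (.node (.node (.leaf 9126807686) (.leaf 904627593869)) (.leaf 642634643717)) (.node (.node (.leaf 97710560909) (.leaf 1020054999438)) (.leaf 405874506250))) (.node (.node (.node (.leaf 186294244237) (.leaf 922881338755)) (.leaf 403726962306)) (.node (.leaf 179851854215) (.leaf 441307996422)))) (.node (.node (.node (.node (.leaf 77309429766) (.leaf 963683516942)) (.leaf 721554665607)) (.node (.node (.leaf 144955225486) (.leaf 1154809606412)) (.leaf 705448461837))) (.node (.node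 (.node (.leaf 231391418243) (.leaf 920733871366)) (.leaf 428423160192)) (.node (.leaf 577136368132) (.leaf 851477393161))))) (.node (.node (.node (.node (.node (.leaf 51002748940) (.leaf 932008125572)) (.leaf 702227275015)) (.node (.node (.leaf 338228756745) (.leaf 820875896072)) (.leaf 613106740108))) (.node (.node (.node (.leaf 40802226958) (.leaf 778463069835)) (.leaf 755377475328)) (.node (.leaf 493384485893) (.leaf 778463008142)))) (.node (.node (.node (.node (.leaf 140123341446) (.leaf 923955060101)) (.leaf 751619425667)) (.node (.leaf 341986862081) (.leaf 578210105859))) (.node (.node (.node (.leaf 278636069131) (.leaf 822486496651)) (.leaf 730144632973)) (.node (.leaf 641023974786) (.leaf 885300301444)))))) (.node (.node (.node (.node (.node (.node (.leaf 33822875656) (.leaf 909996413319)) (.leaf 579820689538)) (.node (.node (.leaf 323196366216) (.leaf 1091458833924)) (.leaf 386547249287))) (.node (.node (.node (.leaf 181462416901) (.leaf 1024349944322)) (.leaf 813359513869)) (.node (.leaf 431107389058) (.leaf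 583578830856)))) (.node (.node (.node (.node (.leaf 117037886861) (.leaf 976031550852)) (.leaf 743566338690)) (.node (.leaf 9126807681) (.leaf 155155810694))) (.node (.node (.node (.leaf 178778073348) (.leaf 1066762760706)) (.leaf 467077806990)) (.node (.leaf 607738017413) (.leaf 869194213761))))) (.node (.node (.node (.node (.node (.leaf 28454167821) (.leaf 298500453262)) (.leaf 712964695811)) (.node (.node (.leaf 377420340869) (.leaf 1147293250185)) (.leaf 733902629900))) (.node (.node (.node (.leaf 150323902341) (.leaf 674310117001)) (.leaf 841276919813)) (.node (.leaf 428423117314) (.leaf 513248706185)))) (.node (.node (.node (.node (.leaf 161598183169) (.leaf 418759552139)) (.leaf 777389266053)) (.node (.leaf 217969683588) (.leaf 561567124358))) (.node (.node (.node (.leaf 306553364355) (.leaf 958851712776)) (.leaf 603979950221)) (.node (.leaf 657667024132) (.leaf 891205926405))))))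
def dF_48 : BT := .node dF_46 dF_47
def dF_49 : BT := .node (.node (.node (.node (.node (.node (.node (.leaf 15569260301) (.leaf 754303845385)) (.leaf 675920639488)) (.node (.node (.leaf 74625114126) (.leaf 1116154892160)) (.leaf 404263893124))) (.node (.node (.node (.leaf 147102672651) (.leaf 1015760001292)) (.leaf 354871817100)) (.node (.leaf 397284569860) (.leaf 448287363726)))) (.node (.node (.node (.node (.leaf 85899366406) (.leaf 959925419649)) (.leaf 673236296322)) (.node (.node (.leaf 25769884683) (.leaf 1153198993923)) (.leaf 598611247616))) (.node (.node (.node (.leaf 224412094853) (.leaf 1075352693260)) (.leaf 466004051587)) (.node (.leaf 509490630276) (.leaf 492847699841))))) (.node (.node (.node (.node (.node (.leaf 25769804941) (.leaf 460635461003)) (.leaf 700079836292)) (.node (.node (.leaf 339302497538) (.leaf 1138166555265)) (.leaf 624380971150))) (.node (.node (.node (.leaf 8589965838) (.leaf 955093426690)) (.leaf 676994312205)) (.node (.leaf 484257678220) (.leaf 702227325579)))) (.node (.node (.node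 (.node (.leaf 129922791683) (.leaf 988916455809)) (.leaf 755377553412)) (.node (.leaf 380104696193) (.leaf 450434816525))) (.node (.node (.node (.leaf 8589999371) (.leaf 1093606267914)) (.leaf 847719368717)) (.node (.leaf 624917842566) (.leaf 459561709838)))))) (.node (.node (.node (.node (.node (.node (.leaf 33286004486) (.leaf 501974519563)) (.leaf 562103965955)) (.node (.node (.leaf 76772560398) (.leaf 1087700736900)) (.leaf 418759411335))) (.node (.node (.node (.leaf 199179150221) (.leaf 1028644885126)) (.leaf 802622097415)) (.node (.leaf 437549897728) (.leaf 444529279751)))) (.node (.node (.node (.node (.leaf 104689852807) (.leaf 932545005571)) (.leaf 733365840768)) (.node (.leaf 148176444046) (.leaf 544924097164))) (.node (.node (.node (.leaf 245350062221) (.leaf 1083405758853)) (.leaf 471372805002)) (.node (.leaf 515396218499) (.leaf 868657342337))))) (.node (.node (.node (.node (.node (.leaf 68182622220) (.leaf 944893030532)) (.leaf 623307228934)) (.node (.node (.leaf 363461694213) (.leaf 468688579211)) (.leaf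 654982556300))) (.node (.node (.node (.leaf 144955147402) (.leaf 824097098638)) (.leaf 828392014858)) (.node (.leaf 530428587660) (.leaf 848256195594)))) (.node (.node (.node (.node (.leaf 153008244619) (.leaf 1000190728198)) (.leaf 648540246534)) (.node (.leaf 388157762310) (.leaf 507343045900))) (.node (.node (.node (.leaf 40802261770) (.leaf 1106491213450)) (.leaf 603979950350)) (.node (.leaf 653908906759) (.leaf 429496941705))))))
def dF_50 : BT := .node (.node (.node (.node (.node (.node (.node (.leaf 536875141) (.leaf 899258988035)) (.leaf 443992376455)) (.node (.node (.leaf 100931749901) (.leaf 1127429184129)) (.leaf 416075112966))) (.node (.node (.node (.leaf 187904852749) (.leaf 1017907491969)) (.leaf 629749676160)) (.node (.leaf 418222540301) (.leaf 441844880263)))) (.node (.node (.node (.node (.leaf 99321138829) (.leaf 607738102535)) (.leaf 732828966157)) (.node (.node (.leaf 3758103693) (.leaf 1093069452681)) (.leaf 588947530880))) (.node (.node (.node (.leaf 222801481603) (.leaf 1071057724802)) (.leaf 409095733763))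 (.node (.leaf 586799999234) (.leaf 509490701696))))) (.node (.node (.node (.node (.node (.leaf 54760846083) (.leaf 930397512070)) (.leaf 596463738371)) (.node (.node (.leaf 350576789259) (.leaf 882616051340)) (.leaf 421980637702))) (.node (.node (.node (.leaf 25232978824) (.leaf 1047972270212)) (.leaf 823023180930)) (.node (.leaf 501974405890) (.leaf 578210155016)))) (.node (.node (.node (.node (.leaf 143344567810) (.leaf 916438883975)) (.leaf 585189477251)) (.node (.leaf 384936493448) (.leaf 593242512014))) (.node (.node (.node (.leaf 287226006532) (.leaf 1086089970824)) (.leaf 663572546050)) (.node (.leaf 630823458694) (.leaf 563714669184)))))) (.node (.node (.node (.node (.node (.node (.leaf 18253615628) (.leaf 923955059968)) (.leaf 693100512780)) (.node (.node (.leaf 328565076619) (.leaf 1134945378689)) (.leaf 406948262796))) (.node (.node (.node (.leaf 212600931980) (.leaf 921270726146)) (.leaf 820338932110)) (.node (.leaf 456877255180) (.leaf 456340383616)))) (.node (.node (.node (.node (.leaf 120259112967) (.leaf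 934692492686)) (.leaf 519154347398)) (.node (.leaf 312995814789) (.leaf 454729779596))) (.node (.node (.node (.leaf 261456196609) (.leaf 1090385082369)) (.leaf 721017814157)) (.node (.leaf 616327953924) (.leaf 460098579212))))) (.node (.node (.node (.node (.node (.leaf 57982075521) (.leaf 383326055182)) (.leaf 405874520967)) (.node (.node (.leaf 352187402241) (.leaf 457414291083)) (.leaf 846108759044))) (.node (.node (.node (.leaf 8053069196) (.leaf 1065152143246)) (.leaf 844498136198)) (.node (.leaf 549755945092) (.leaf 563714592008)))) (.node (.node (.node (.node (.leaf 169651248769) (.leaf 1003948846605)) (.leaf 776315480706)) (.node (.leaf 217969684105) (.leaf 674846867466))) (.node (.node (.node (.leaf 312995816073) (.leaf 984621516801)) (.leaf 654982612619)) (.node (.leaf 524523039111) (.leaf 892279668480))))))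
def dF_51 : BT := .node dF_49 dF_50
def dF_52 : BT := .node dF_48 dF_51
def dF_53 : BT := .node (.node (.node (.node (.node (.node (.node (.leaf 6979323661) (.leaf 676457562882)) (.leaf 669478153862)) (.node (.node (.leaf 321048882053) (.leaf 962072939790)) (.leaf 733365765006))) (.node (.node (.node (.leaf 176630572418) (.leaf 1013075587975)) (.leaf 708132769550)) (.node (.leaf 397284569601) (.leaf 439697381639)))) (.node (.node (.node (.node (.leaf 88583721733) (.leaf 952946096011)) (.leaf 609885513606)) (.node (.node (.leaf 137975857281) (.leaf 1152662115977)) (.leaf 447213612558))) (.node (.node (.node (.leaf 37581015818) (.leaf 1017907503628)) (.leaf 419833215118)) (.node (.leaf 570157044612) (.leaf 452045430157))))) (.node (.node (.node (.node (.node (.leaf 5368713221) (.leaf 915901997198)) (.leaf 590558156931)) (.node (.node (.leaf 335544400650) (.leaf 1088774480644)) (.leaf 344671225357))) (.node (.node (.node (.leaf 4831883150) (.leaf 825707682188)) (.leaf 804769595268)) (.node (.leaf 478888967812) (.leaf 701153594118))))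 (.node (.node (.node (.node (.leaf 133144018052) (.leaf 979252669193)) (.leaf 746787565063)) (.node (.leaf 379030915843) (.leaf 147639666307))) (.node (.node (.node (.leaf 263066801933) (.leaf 1098438147846)) (.leaf 722091505420)) (.node (.leaf 624917890692) (.leaf 880468505729)))))) (.node (.node (.node (.node (.node (.node (.leaf 26306681091) (.leaf 358629985922)) (.leaf 546534751107)) (.node (.node (.leaf 107374208270) (.leaf 1120986643337)) (.leaf 382252267790))) (.node (.node (.node (.leaf 195957929732) (.leaf 351650693262)) (.leaf 670015088654)) (.node (.leaf 143344636166) (.leaf 583578763917)))) (.node (.node (.node (.node (.leaf 108447950082) (.leaf 969052227209)) (.leaf 536334214532)) (.node (.leaf 303868982920) (.leaf 544924143886))) (.node (.node (.node (.leaf 236223257607) (.leaf 913217675782)) (.leaf 528817960582)) (.node (.leaf 563177728516) (.leaf 864899181445))))) (.node (.node (.node (.node (.node (.leaf 59592685446) (.leaf 936303093892)) (.leaf 410169489287)) (.node (.node (.leaf 341449985281) (.leaf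 1144072186247)) (.leaf 527744255756))) (.node (.node (.node (.leaf 115427249806) (.leaf 1038845449353)) (.leaf 827318272769)) (.node (.leaf 523986135180) (.leaf 697395469312)))) (.node (.node (.node (.node (.leaf 150323889929) (.leaf 1002875102731)) (.leaf 574452056451)) (.node (.leaf 388694624269) (.leaf 600221813518))) (.node (.node (.node (.leaf 299037169793) (.leaf 1100585623680)) (.leaf 427349343502)) (.node (.leaf 504658798211) (.leaf 889058272647))))))
def dF_54 : BT := .node (.node (.node (.node (.node (.node (.node (.leaf 4831839366) (.leaf 904090722828)) (.leaf 687731802373)) (.node (.node (.leaf 107374184708) (.leaf 1116691597704)) (.leaf 467077818633))) (.node (.node (.node (.leaf 129385935245) (.leaf 1016833749766)) (.leaf 732828983300)) (.node (.leaf 398895168898) (.leaf 766651848448)))) (.node (.node (.node (.node (.leaf 90731205900) (.leaf 964757187840)) (.leaf 397821518597)) (.node (.node (.leaf 151397677070) (.leaf 865436185737)) (.leaf 447750447369))) (.node (.node (.node (.leaf 227096449923) (.leaf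 1073205176448)) (.leaf 524523058830)) (.node (.leaf 585726304772) (.leaf 856846179973))))) (.node (.node (.node (.node (.node (.leaf 20937977742) (.leaf 871878582793)) (.leaf 587873815044)) (.node (.node (.leaf 339839370121) (.leaf 1139777020812)) (.leaf 410706345989))) (.node (.node (.node (.leaf 37044105989) (.leaf 1039382333572)) (.leaf 823560011912)) (.node (.leaf 445066105602) (.leaf 459024735872)))) (.node (.node (.node (.node (.leaf 135291502222) (.leaf 971199716867)) (.leaf 764504361092)) (.node (.leaf 384399663753) (.leaf 548145301897))) (.node (.node (.node (.leaf 183073048065) (.leaf 412317119880)) (.leaf 810138393734)) (.node (.leaf 443455492486) (.leaf 882615887366)))))) (.node (.node (.node (.node (.node (.node (.leaf 33822876037) (.leaf 915365123328)) (.leaf 591631899015)) (.node (.node (.leaf 324270108423) (.leaf 1129039785216)) (.leaf 469225303308))) (.node (.node (.node (.leaf 180925546884) (.leaf 1021128713998)) (.leaf 817117723009)) (.node (.leaf 449361060613) (.leaf 454729771150)))) (.node (.node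 (.node (.node (.leaf 124554081287) (.leaf 984621487492)) (.leaf 610959274370)) (.node (.leaf 305479621766) (.leaf 384399703565))) (.node (.node (.node (.leaf 254476873093) (.leaf 1038308602624)) (.leaf 659814528898)) (.node (.leaf 616327954053) (.leaf 430033808002))))) (.node (.node (.node (.node (.node (.leaf 3221228544) (.leaf 562104068107)) (.leaf 706522243331)) (.node (.node (.leaf 337691849859) (.leaf 1148367154563)) (.leaf 616327999617))) (.node (.node (.node (.leaf 38654708749) (.leaf 1060320304131)) (.leaf 468688506766)) (.node (.leaf 481036464903) (.leaf 401579537929)))) (.node (.node (.node (.node (.leaf 3758123276) (.leaf 1005559435395)) (.leaf 780073557891)) (.node (.leaf 388157762945) (.leaf 579820774280))) (.node (.node (.node (.leaf 305479623045) (.leaf 640487262986)) (.leaf 401042671362)) (.node (.leaf 666256960772) (.leaf 893890275204))))))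
def dF_55 : BT := .node dF_53 dF_54
def dF_56 : BT := .node (.node (.node (.node (.node (.node (.node (.leaf 13421776006) (.leaf 535260513546)) (.leaf 426275633158)) (.node (.node (.leaf 25769860238) (.leaf 1120449853965)) (.leaf 540092239104))) (.node (.node (.node (.leaf 180388669963) (.leaf 953482967429)) (.leaf 397821441669)) (.node (.leaf 406411377412) (.leaf 494995099523)))) (.node (.node (.node (.node (.leaf 81604398086) (.leaf 958314806158)) (.leaf 477815259778)) (.node (.node (.leaf 30064823050) (.leaf 512175125259)) (.leaf 769873077128))) (.node (.node (.node (.leaf 233002031493) (.leaf 955630481153)) (.leaf 488552708870)) (.node (.leaf 571230684679) (.leaf 531502405761))))) (.node (.node (.node (.node (.node (.leaf 43486554247) (.leaf 919660091400)) (.leaf 705448501255)) (.node (.node (.leaf 341986852616) (.leaf 1137629674122)) (.leaf 810138305165))) (.node (.node (.node (.leaf 136365218958) (.leaf 778463069702)) (.leaf 426275597709)) (.node (.leaf 422517522702) (.leaf 642097720074)))) (.node (.node (.node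 (.node (.leaf 136902115332) (.leaf 925028817422)) (.leaf 541166059267)) (.node (.leaf 381178438145) (.leaf 451508618510))) (.node (.node (.node (.leaf 274341101832) (.leaf 1091458815366)) (.leaf 729607665932)) (.node (.leaf 636192182532) (.leaf 191663125901)))))) (.node (.node (.node (.node (.node (.node (.leaf 28991036166) (.leaf 491237101576)) (.leaf 580357607559)) (.node (.node (.leaf 255013716101) (.leaf 1134408507526)) (.leaf 753766951941))) (.node (.node (.node (.leaf 201326639240) (.leaf 1024886720266)) (.leaf 803159028237)) (.node (.leaf 446139834368) (.leaf 554587784450)))) (.node (.node (.node (.node (.leaf 73551340930) (.leaf 971199620107)) (.leaf 741955777408)) (.node (.leaf 154618893832) (.leaf 217969752846))) (.node (.node (.node (.leaf 246960678536) (.leaf 1081795143041)) (.leaf 468151547264)) (.node (.leaf 379567878150) (.leaf 865436022027))))) (.node (.node (.node (.node (.node (.leaf 41339075342) (.leaf 950798611843)) (.leaf 717259664131)) (.node (.node (.leaf 372051630853) (.leaf 1146219670405)) (.leaf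 745176926852))) (.node (.node (.node (.leaf 13958650368) (.leaf 971199731333)) (.leaf 832686983173)) (.node (.leaf 535797298051) (.leaf 803159002376)))) (.node (.node (.node (.node (.leaf 143344570501) (.leaf 938987464705)) (.leaf 558882803463)) (.node (.leaf 390305244672) (.leaf 438623641991))) (.node (.node (.node (.leaf 307090234625) (.leaf 1105954341123)) (.leaf 604516824589)) (.node (.leaf 456877268098) (.leaf 454193003904))))))
def dF_57 : BT := .node (.node (.node (.node (.node (.node (.node (.leaf 11274295181) (.leaf 867046739329)) (.leaf 685584292999)) (.node (.node (.leaf 266824865932) (.leaf 1086090123150)) (.leaf 529891700356))) (.node (.node (.node (.leaf 192199829643) (.leaf 1026497428609)) (.leaf 769336185610)) (.node (.leaf 425738734853) (.leaf 584115704709)))) (.node (.node (.node (.node (.leaf 95563045123) (.leaf 542776723201)) (.leaf 485868324866)) (.node (.node (.leaf 323733237127) (.leaf 1157493948681)) (.leaf 459561684620))) (.node (.node (.node (.leaf 234612644620) (.leaf 1069446975499)) (.leaf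 406411405198)) (.node (.leaf 191663052163) (.leaf 507880087694))))) (.node (.node (.node (.node (.node (.leaf 1610626443) (.leaf 771483723016)) (.leaf 708132901892)) (.node (.node (.leaf 352724273025) (.leaf 1140850960270)) (.leaf 742492648324))) (.node (.node (.node (.leaf 35970364930) (.leaf 777389331977)) (.leaf 825707537027)) (.node (.leaf 514322456452) (.leaf 440234249098)))) (.node (.node (.node (.node (.leaf 145492051077) (.leaf 996432650373)) (.leaf 764504310022)) (.node (.leaf 323733251843) (.leaf 762356837774))) (.node (.node (.node (.leaf 295815943172) (.leaf 463319860362)) (.leaf 663572553354)) (.node (.leaf 491773892867) (.leaf 597000665350)))))) (.node (.node (.node (.node (.node (.node (.leaf 39728456966) (.leaf 928250005384)) (.leaf 696321706626)) (.node (.node (.leaf 330712559753) (.leaf 1135482051596)) (.leaf 485331493765))) (.node (.node (.node (.leaf 45097206542) (.leaf 311922246413)) (.leaf 814433360135)) (.node (.leaf 463319707661) (.leaf 565862060418)))) (.node (.node (.node (.node (.leaf 115964144647)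 (.leaf 957777941637)) (.leaf 745713874689)) (.node (.leaf 36507302925) (.leaf 630286568321))) (.node (.node (.node (.leaf 25232985870) (.leaf 1098975019009)) (.leaf 527207409420)) (.node (.leaf 398895231239) (.leaf 872415440132))))) (.node (.node (.node (.node (.node (.leaf 73014460685) (.leaf 613643676298)) (.leaf 517006798598)) (.node (.node (.leaf 354871719938) (.leaf 1150514638722)) (.leaf 624917867401))) (.node (.node (.node (.leaf 199716026885) (.leaf 987842730882)) (.leaf 713501635213)) (.node (.leaf 556198397572) (.leaf 511101191564)))) (.node (.node (.node (.node (.leaf 130459672590) (.leaf 766651903751)) (.leaf 572304578698)) (.node (.leaf 383862796170) (.leaf 497142616334))) (.node (.node (.node (.leaf 309237720459) (.leaf 1081258281868)) (.leaf 663035682314)) (.node (.leaf 519691199751) (.leaf 894963904643))))))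
def dF_58 : BT := .node dF_56 dF_57
def dF_59 : BT := .node dF_55 dF_58
def dF_60 : BT := .node dF_52 dF_59
def dF_61 : BT := .node dF_45 dF_60
def dF_62 : BT := .node dF_30 dF_61
def dF_63 : BT := .node (.node (.node (.node (.node (.node (.node (.leaf 4) (.leaf 894964023689)) (.leaf 668404444932)) (.node (.node (.leaf 314069558923) (.leaf 1114544279169)) (.leaf 732292056201))) (.node (.node (.node (.leaf 127775317262) (.leaf 1012001821570)) (.leaf 784368589581)) (.node (.leaf 395137082890) (.leaf 496068861312)))) (.node (.node (.node (.node (.leaf 74625074692) (.leaf 953482967172)) (.leaf 605053613571)) (.node (.node (.leaf 29527920398) (.leaf 1151051490057)) (.leaf 812822754568))) (.node (.node (.node (.leaf 33822881026) (.leaf 752693271433)) (.leaf 847719372292)) (.node (.leaf 559419623813) (.leaf 702227320456))))) (.node (.node (.node (.node (.node (.leaf 38117843843) (.leaf 913217604489)) (.leaf 506269435907)) (.node (.node (.leaf 331249388676) (.leaf 1101659382025)) (.leaf 532576081160))) (.node (.node (.node (.leaf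 45097157646) (.leaf 1036697970180)) (.leaf 783294854535)) (.node (.leaf 466540933888) (.leaf 509490617345)))) (.node (.node (.node (.node (.leaf 114353531522) (.leaf 981400246917)) (.leaf 748935100941)) (.node (.leaf 343060548738) (.leaf 181999379982))) (.node (.node (.node (.leaf 242128844045) (.leaf 1064615280775)) (.leaf 424128167169)) (.node (.leaf 400505844359) (.leaf 702764231942)))))) (.node (.node (.node (.node (.node (.node (.leaf 23622325766) (.leaf 905164466572)) (.leaf 683436788615)) (.node (.node (.leaf 103079238156) (.leaf 1004485745166)) (.leaf 407485134211))) (.node (.node (.node (.leaf 193273574149) (.leaf 1029718654860)) (.leaf 605053630986)) (.node (.leaf 412853833485) (.leaf 442918621319)))) (.node (.node (.node (.node (.leaf 93952432007) (.leaf 968515254670)) (.leaf 542776666626)) (.node (.node (.leaf 245886936590) (.leaf 1158030833287)) (.leaf 448287364741))) (.node (.node (.node (.leaf 237833870848) (.leaf 912680805376)) (.leaf 470835934081)) (.node (.leaf 572841399685) (.leaf 382789164430)))))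 (.node (.node (.node (.node (.node (.leaf 57445201419) (.leaf 933618628617)) (.leaf 711354128133)) (.node (.node (.leaf 15032469898) (.leaf 503585188097)) (.leaf 526670553995))) (.node (.node (.node (.leaf 36507235715) (.leaf 1053877851522)) (.leaf 824097046916)) (.node (.leaf 515933046795) (.leaf 442918704393)))) (.node (.node (.node (.node (.leaf 3758131336) (.leaf 999653876613)) (.leaf 549755995906)) (.node (.leaf 386010267777) (.leaf 447750522510))) (.node (.node (.node (.leaf 9126876682) (.leaf 1103806853891)) (.leaf 421443864334)) (.node (.leaf 191663068812) (.leaf 887447716746))))))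
def dF_64 : BT := .node (.node (.node (.node (.node (.node (.node (.leaf 12348033923) (.leaf 899258992129)) (.leaf 675383756547)) (.node (.node (.leaf 98784303118) (.leaf 987842745226)) (.leaf 540092308746))) (.node (.node (.node (.leaf 154081995401) (.leaf 954019838340)) (.leaf 607201095566)) (.node (.leaf 409632603653) (.leaf 635655278471)))) (.node (.node (.node (.node (.leaf 80530656003) (.leaf 958851677187)) (.leaf 723165245699)) (.node (.node (.leaf 208305994762) (.leaf 1154272736005)) (.leaf 514859402125))) (.node (.node (.node (.leaf 233002031366) (.leaf 1079647661442)) (.leaf 672699363840)) (.node (.leaf 571767657732) (.leaf 663572650125))))) (.node (.node (.node (.node (.node (.leaf 41875941122) (.leaf 909996414981)) (.leaf 569620160391)) (.node (.node (.leaf 337155014538) (.leaf 1079647675652)) (.leaf 468688403079))) (.node (.node (.node (.leaf 54760871694) (.leaf 598074443267)) (.leaf 426812549771)) (.node (.leaf 382252204429) (.leaf 492847639564)))) (.node (.node (.node (.node (.leaf 140123341572) (.leaf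 988379582732)) (.leaf 675920657927)) (.node (.leaf 176630620941) (.leaf 646929530764))) (.node (.node (.node (.leaf 277025456389) (.leaf 1089311309057)) (.leaf 410706408451)) (.node (.leaf 639413408773) (.leaf 638876595596)))))) (.node (.node (.node (.node (.node (.node (.leaf 26843552006) (.leaf 911070067208)) (.leaf 635118452103)) (.node (.node (.leaf 303869013123) (.leaf 1133871631234)) (.leaf 712964716558))) (.node (.node (.node (.leaf 202400381825) (.leaf 1020054976002)) (.leaf 807990915329)) (.node (.leaf 446139820674) (.leaf 767725587589)))) (.node (.node (.node (.node (.leaf 111669176448) (.leaf 936839972995)) (.leaf 745176860813)) (.node (.leaf 305479623054) (.leaf 379030994062))) (.node (.node (.node (.leaf 245886936837) (.leaf 1081795101706)) (.leaf 415538182659)) (.node (.leaf 602369307012) (.leaf 407485119368))))) (.node (.node (.node (.node (.node (.leaf 40265325068) (.leaf 950261622794)) (.leaf 525596793474)) (.node (.node (.leaf 374735986053) (.leaf 1146756526856)) (.leaf 665183174667))) (.node (.node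 (.node (.leaf 23085459342) (.leaf 1057635948932)) (.leaf 835908209413)) (.node (.leaf 539018524300) (.leaf 641560896265)))) (.node (.node (.node (.node (.leaf 157303214849) (.leaf 1007706942221)) (.leaf 643708407174)) (.node (.leaf 30064864265) (.leaf 592705642881))) (.node (.node (.node (.leaf 306553364098) (.leaf 995358934789)) (.leaf 427886214400)) (.node (.leaf 459561623302) (.leaf 541702962570))))))
def dF_65 : BT := .node dF_63 dF_64
def dF_66 : BT := .node (.node (.node (.node (.node (.node (.node (.leaf 10200549889) (.leaf 527744320525)) (.leaf 418759438470)) (.node (.node (.leaf 77309465228) (.leaf 1112396794766)) (.leaf 408558896267))) (.node (.node (.node (.leaf 178241185418) (.leaf 914291404934)) (.leaf 206695457666)) (.node (.leaf 396747694599) (.leaf 439697395459)))) (.node (.node (.node (.node (.leaf 89120592643) (.leaf 955630445956)) (.leaf 719944064780)) (.node (.node (.leaf 329638821768) (.leaf 1152662121996)) (.leaf 569083270030))) (.node (.node (.node (.leaf 219043384452) (.leaf 1069983982849)) (.leaf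 533649768716)) (.node (.leaf 562640822277) (.leaf 597000566281))))) (.node (.node (.node (.node (.node (.leaf 536872462) (.leaf 915901936778)) (.leaf 559956468742)) (.node (.node (.leaf 339302497025) (.leaf 1138166604932)) (.leaf 536334201742))) (.node (.node (.node (.leaf 13421814272) (.leaf 826244569229)) (.leaf 804769690759)) (.node (.leaf 474593981571) (.leaf 443992370571)))) (.node (.node (.node (.node (.leaf 132607146887) (.leaf 979789642246)) (.leaf 745713844227)) (.node (.leaf 379030954378) (.leaf 382789125766))) (.node (.node (.node (.leaf 270046128776) (.leaf 343597645198)) (.leaf 675920589452)) (.node (.leaf 628139116932) (.leaf 864899249415)))))) (.node (.node (.node (.node (.node (.node (.leaf 29527907333) (.leaf 908922581003)) (.leaf 683973672578)) (.node (.node (.leaf 88046835585) (.leaf 1054951611143)) (.leaf 607737971584))) (.node (.node (.node (.leaf 193273575307) (.leaf 1029181756038)) (.leaf 461709174030)) (.node (.leaf 432181187340) (.leaf 444529267848)))) (.node (.node (.node (.node (.leaf 106300465927)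 (.leaf 970125969288)) (.leaf 724775778307)) (.node (.leaf 9663682445) (.leaf 515396192526))) (.node (.node (.node (.leaf 235149515523) (.leaf 1067299517320)) (.leaf 406411405056)) (.node (.leaf 597537467653) (.leaf 867046729732))))) (.node (.node (.node (.node (.node (.leaf 62813911811) (.leaf 939524320132)) (.leaf 664646335367)) (.node (.node (.leaf 29527985802) (.leaf 406948424201)) (.leaf 802085316484))) (.node (.node (.node (.leaf 144418322437) (.leaf 1039382333442)) (.leaf 563177702794)) (.node (.leaf 527207361409) (.leaf 653908937093)))) (.node (.node (.node (.node (.leaf 149787020554) (.leaf 995895779211)) (.leaf 770946813580)) (.node (.leaf 347892443787) (.leaf 437013026816))) (.node (.node (.node (.leaf 299037169929) (.leaf 1101659373835)) (.leaf 605053634178)) (.node (.leaf 650687700613) (.leaf 889058442241))))))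
def dF_67 : BT := .node (.node (.node (.node (.node (.node (.node (.leaf 3758097283) (.leaf 454193006478)) (.leaf 690953028612)) (.node (.node (.leaf 4831863438) (.leaf 1122060473735)) (.leaf 529354843648))) (.node (.node (.node (.leaf 54760866316) (.leaf 930397533069)) (.leaf 610959224204)) (.node (.leaf 399968924810) (.leaf 638876494979)))) (.node (.node (.node (.node (.leaf 93952432129) (.leaf 964757222923)) (.leaf 727460259329)) (.node (.node (.leaf 246423807886) (.leaf 1156420217605)) (.leaf 556198415112))) (.node (.node (.node (.leaf 224412094722) (.leaf 583578937225)) (.leaf 524523025028)) (.node (.leaf 587873788808) (.leaf 860067406213))))) (.node (.node (.node (.node (.node (.leaf 19327364238) (.leaf 931471254660)) (.leaf 565862108419)) (.node (.node (.leaf 348429305092) (.leaf 919123273218)) (.leaf 664109444877))) (.node (.node (.node (.leaf 31138536837) (.leaf 1042603559812)) (.leaf 824097046403)) (.node (.leaf 503585035660) (.leaf 458487881484)))) (.node (.node (.node (.node (.leaf 134217760516) (.leaf 753766997515))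 (.leaf 767725587332)) (.node (.leaf 383862793733) (.leaf 452045428622))) (.node (.node (.node (.leaf 21474903818) (.leaf 979252802574)) (.leaf 786516046592)) (.node (.leaf 453119170818) (.leaf 882615899149)))))) (.node (.node (.node (.node (.node (.node (.leaf 34359747077) (.leaf 918586349581)) (.leaf 506269377671)) (.node (.node (.leaf 73551392772) (.leaf 1129039755783)) (.leaf 620086046596))) (.node (.node (.node (.leaf 208305961741) (.leaf 1003948848772)) (.leaf 820338949260)) (.node (.leaf 452582286852) (.leaf 584652608270)))) (.node (.node (.node (.node (.leaf 122943468162) (.leaf 987842709637)) (.leaf 738197615362)) (.node (.leaf 312458943748) (.leaf 437013108609))) (.node (.node (.node (.leaf 221727747852) (.leaf 1085553242884)) (.leaf 530965458945)) (.node (.leaf 153008357123) (.leaf 870267842952))))) (.node (.node (.node (.node (.node (.leaf 69793235336) (.leaf 599685032074)) (.leaf 523986122114)) (.node (.node (.leaf 148176453762) (.leaf 622233660936)) (.leaf 846645624077))) (.node (.node (.node (.leaf 21474838541)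 (.leaf 1063541530380)) (.leaf 478889053326)) (.node (.leaf 544387234693) (.leaf 667867573771)))) (.node (.node (.node (.node (.leaf 165893151367) (.leaf 1006096171150)) (.leaf 777926073731)) (.node (.leaf 380104699396) (.leaf 635655333640))) (.node (.node (.node (.leaf 311385203338) (.leaf 1110786181765)) (.leaf 401042718093)) (.node (.leaf 411243277314) (.leaf 893890281358))))))
def dF_68 : BT := .node dF_66 dF_67
def dF_69 : BT := .node dF_65 dF_68
def dF_70 : BT := .node (.node (.node (.node (.node (.node (.node (.leaf 1610613249) (.leaf 895500894977)) (.leaf 667330690951)) (.node (.node (.leaf 318901396617) (.leaf 1115081138947)) (.leaf 392989679758))) (.node (.node (.node (.leaf 176093701258) (.leaf 742492712966)) (.leaf 790811042061)) (.node (.leaf 396210741122) (.leaf 581431395465)))) (.node (.node (.node (.node (.leaf 83215011332) (.leaf 951872355205)) (.leaf 404263907843)) (.node (.node (.leaf 22011707790) (.leaf 458488033544)) (.leaf 460098524802))) (.node (.node (.node (.leaf 199716031114) (.leaf 1066225885444))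 (.leaf 622233556494)) (.node (.leaf 564788334212) (.leaf 489626354444))))) (.node (.node (.node (.node (.node (.leaf 45634038532) (.leaf 922344447758)) (.leaf 557272171779)) (.node (.node (.leaf 13958723722) (.leaf 1136555985805)) (.leaf 613643578497))) (.node (.node (.node (.leaf 44560286852) (.leaf 1034013597058)) (.leaf 149250307213)) (.node (.leaf 461709079682) (.leaf 641560907013)))) (.node (.node (.node (.node (.leaf 127775307652) (.leaf 957777938829)) (.leaf 532576123267)) (.node (.leaf 193273575425) (.leaf 154619006599))) (.node (.node (.node (.leaf 230854555276) (.leaf 1098975004171)) (.leaf 669478215054)) (.node (.leaf 617938518531) (.leaf 875099795335)))))) (.node (.node (.node (.node (.node (.node (.leaf 19327357446) (.leaf 387084144134)) (.leaf 433791826695)) (.node (.node (.leaf 255013739148) (.leaf 1122060448774)) (.leaf 416611910926))) (.node (.node (.node (.leaf 177167447433) (.leaf 1032939852941)) (.leaf 801011591809)) (.node (.leaf 339302518918) (.leaf 554050929547)))) (.node (.node (.node (.node (.leaf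 104152981900) (.leaf 965831001089)) (.leaf 538481698306)) (.node (.leaf 9126811532) (.leaf 705985369355))) (.node (.node (.node (.leaf 239981354882) (.leaf 911070192259)) (.leaf 461709130496)) (.node (.leaf 592168757261) (.leaf 854161727110))))) (.node (.node (.node (.node (.node (.leaf 31138527117) (.leaf 935229210637)) (.leaf 474057186567)) (.node (.node (.leaf 341449985024) (.leaf 1142998275846)) (.leaf 624917867525))) (.node (.node (.node (.leaf 10200550156) (.leaf 1039919206670)) (.leaf 146565956227)) (.node (.leaf 518617424769) (.leaf 453119153284)))) (.node (.node (.node (.node (.leaf 142807698058) (.leaf 920733853447)) (.leaf 760209348994)) (.node (.leaf 152471431302) (.leaf 493921320844))) (.node (.node (.node (.leaf 299037169538) (.leaf 963146678787)) (.leaf 756451259278)) (.node (.leaf 642634598279) (.leaf 422517619584))))))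
def dF_71 : BT := .node (.node (.node (.node (.node (.node (.node (.leaf 8053065603) (.leaf 778463038087)) (.leaf 682363091972)) (.node (.node (.leaf 86973146761) (.leaf 1117228488715)) (.leaf 521301751047))) (.node (.node (.node (.leaf 128849057932) (.leaf 935229371009)) (.leaf 179851912451)) (.node (.leaf 412853830016) (.leaf 498216328965)))) (.node (.node (.node (.node (.leaf 76235687683) (.leaf 814433403272)) (.leaf 718870277379)) (.node (.node (.leaf 282394113678) (.leaf 1155346478089)) (.leaf 653908966538))) (.node (.node (.node (.leaf 228707063042) (.leaf 1066762759300)) (.leaf 830002578694)) (.node (.leaf 580357594372) (.leaf 596463786376))))) (.node (.node (.node (.node (.node (.leaf 54223975169) (.leaf 890132194061)) (.leaf 700616674946)) (.node (.node (.leaf 337155015169) (.leaf 1017370649989)) (.leaf 674310052097))) (.node (.node (.node (.leaf 72477584142) (.leaf 1014149400320)) (.leaf 811748965774)) (.node (.leaf 496605712132) (.leaf 568009534350)))) (.node (.node (.node (.node (.leaf 139049599363) (.leaf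 988916455560)) (.leaf 759135650692)) (.node (.leaf 380104696969) (.leaf 506269374210))) (.node (.node (.node (.leaf 271656748164) (.leaf 1088774469127)) (.leaf 808527781382)) (.node (.leaf 583578833799) (.leaf 428423198858)))))) (.node (.node (.node (.node (.node (.node (.leaf 17179877515) (.leaf 912143897090)) (.leaf 594316254211)) (.node (.node (.leaf 89657519624) (.leaf 1131724114178)) (.leaf 180388753027))) (.node (.node (.node (.leaf 193810448129) (.leaf 1024349861130)) (.leaf 812822749702)) (.node (.leaf 431644316302) (.leaf 182536274573)))) (.node (.node (.node (.node (.leaf 120259113088) (.leaf 979252777093)) (.leaf 470835966723)) (.node (.leaf 148176443012) (.leaf 384399703438))) (.node (.node (.node (.leaf 251255646859) (.leaf 1085016171916)) (.leaf 619012331405)) (.node (.leaf 610959243652) (.leaf 351113783811))))) (.node (.node (.node (.node (.node (.leaf 68719493125) (.leaf 936839966861)) (.leaf 710817211651)) (.node (.node (.leaf 376346599557) (.leaf 1147830283526)) (.leaf 613106697856))) (.node (.node (.node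 (.leaf 16106174986) (.leaf 984084634126)) (.leaf 844498146053)) (.node (.leaf 535260335875) (.leaf 534723563531)))) (.node (.node (.node (.node (.leaf 164819409421) (.leaf 513248832523)) (.leaf 780610492292)) (.node (.leaf 151934561542) (.leaf 461172298244))) (.node (.node (.node (.leaf 309774589061) (.leaf 1109175568781)) (.leaf 462245969537)) (.node (.leaf 660888250372) (.leaf 892816539655))))))
def dF_72 : BT := .node dF_70 dF_71
def dF_73 : BT := .node (.node (.node (.node (.node (.node (.node (.leaf 16643002243) (.leaf 898185249926)) (.leaf 679141862669)) (.node (.node (.leaf 81067570062) (.leaf 1116154872584)) (.leaf 153008323982))) (.node (.node (.node (.leaf 147102673024) (.leaf 981400247182)) (.leaf 402116397698)) (.node (.leaf 401042667013) (.leaf 497679453441)))) (.node (.node (.node (.node (.leaf 84825624323) (.leaf 963146643340)) (.leaf 419296296583)) (.node (.node (.leaf 1073812878) (.leaf 1153735864966)) (.leaf 433254935558))) (.node (.node (.node (.leaf 227633321092) (.leaf 1078573919489)) (.leaf 533112991616))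 (.node (.leaf 565325192071) (.leaf 849866856329))))) (.node (.node (.node (.node (.node (.leaf 45097167367) (.leaf 851477485581)) (.leaf 703301062533)) (.node (.node (.leaf 340913109510) (.leaf 1138166478347)) (.leaf 473520272773))) (.node (.node (.node (.leaf 30601675790) (.leaf 1022202289543)) (.leaf 731218362624)) (.node (.leaf 487478904449) (.leaf 651761442443)))) (.node (.node (.node (.node (.leaf 128312178567) (.leaf 992137682061)) (.leaf 679141884167)) (.node (.leaf 380104688133) (.leaf 151397704582))) (.node (.node (.node (.leaf 272193617546) (.leaf 1093069396992)) (.leaf 626528454156)) (.node (.leaf 630823472133) (.leaf 447213678094)))))) (.node (.node (.node (.node (.node (.node (.leaf 30601649286) (.leaf 910533102082)) (.leaf 687731790466)) (.node (.node (.leaf 75161946241) (.leaf 1131724152453)) (.leaf 345208168334))) (.node (.node (.node (.leaf 200252851328) (.leaf 351650692238)) (.leaf 602369354765)) (.node (.leaf 440771123980) (.leaf 585189433610)))) (.node (.node (.node (.node (.leaf 102005497860) (.leaf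 152471570572)) (.leaf 736587067021)) (.node (.leaf 302795230862) (.leaf 490163262221))) (.node (.node (.node (.leaf 245886920961) (.leaf 979789672842)) (.leaf 529891766286)) (.node (.leaf 600758693761) (.leaf 866509757964))))) (.node (.node (.node (.node (.node (.leaf 45097172878) (.leaf 948114256772)) (.leaf 406948308994)) (.node (.node (.leaf 366682920452) (.leaf 1145682799366)) (.leaf 848793114374))) (.node (.node (.node (.leaf 147639547009) (.leaf 781147424777)) (.leaf 828928885769)) (.node (.leaf 533649813889) (.leaf 538481653131)))) (.node (.node (.node (.node (.leaf 154618857483) (.leaf 955630462094)) (.leaf 593242542339)) (.node (.leaf 145492109698) (.leaf 557272170125))) (.node (.node (.node (.leaf 9663749128) (.leaf 305479812354)) (.leaf 409095736709)) (.node (.leaf 459561643395) (.leaf 393526590722))))))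
def dF_74 : BT := .node (.node (.node (.node (.node (.node (.node (.leaf 20401099652) (.leaf 904090831368)) (.leaf 689342403590)) (.node (.node (.leaf 54760851982) (.leaf 1085016382083)) (.leaf 467614691852))) (.node (.node (.node (.leaf 4295012868) (.leaf 1021128718221)) (.leaf 422517503501)) (.node (.leaf 345744967693) (.leaf 766651845388)))) (.node (.node (.node (.node (.leaf 98247400327) (.leaf 965831001093)) (.leaf 488015809026)) (.node (.node (.leaf 322659490574) (.leaf 1156957089164)) (.leaf 503585035140))) (.node (.node (.node (.leaf 220117126402) (.leaf 1066762757262)) (.leaf 612032949892)) (.node (.leaf 444529254790) (.leaf 597000660238))))) (.node (.node (.node (.node (.node (.leaf 55834588162) (.leaf 933081726978)) (.leaf 652298293634)) (.node (.node (.leaf 14495598474) (.leaf 1140850960261)) (.leaf 424128133376))) (.node (.node (.node (.leaf 40265328782) (.leaf 1051193496452)) (.leaf 823023304833)) (.node (.leaf 508953746051) (.leaf 775241701515)))) (.node (.node (.node (.node (.leaf 108984829570) (.leaf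 995358756365)) (.leaf 498753260034)) (.node (.leaf 359166731910) (.leaf 452045428740))) (.node (.node (.node (.leaf 290447232772) (.leaf 1102196245260)) (.leaf 463319767681)) (.node (.leaf 576062592258) (.leaf 493921450253)))))) (.node (.node (.node (.node (.node (.node (.leaf 39191586053) (.leaf 927176286221)) (.leaf 696321739009)) (.node (.node (.leaf 329638757517) (.leaf 1133871636995)) (.leaf 623844126093))) (.node (.node (.node (.leaf 215822158209) (.leaf 1020591821958)) (.leaf 746250762638)) (.node (.leaf 460098481409) (.leaf 456340435720)))) (.node (.node (.node (.node (.leaf 118648499842) (.leaf 701153645835)) (.leaf 734439564035)) (.node (.leaf 343597419143) (.leaf 448824263937))) (.node (.node (.node (.leaf 242665714190) (.leaf 1093606308621)) (.leaf 538481717260)) (.node (.leaf 412317007239) (.leaf 512711928833))))) (.node (.node (.node (.node (.node (.leaf 71940719105) (.leaf 937913593353)) (.leaf 466004075651)) (.node (.node (.leaf 351650531470) (.leaf 1149977642250)) (.leaf 768799329290))) (.node (.node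 (.node (.leaf 25232954766) (.leaf 1064615174664)) (.leaf 845034915969)) (.node (.leaf 552977171333) (.leaf 830002613128)))) (.node (.node (.node (.node (.leaf 172872475020) (.leaf 1010391290247)) (.leaf 782221062149)) (.node (.leaf 394063335053) (.leaf 636192169230))) (.node (.node (.node (.leaf 313532687488) (.leaf 1108101826446)) (.leaf 404263893129)) (.node (.leaf 401042727554) (.leaf 892279668485))))))
def dF_75 : BT := .node dF_73 dF_74
def dF_76 : BT := .node dF_72 dF_75
def dF_77 : BT := .node dF_69 dF_76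
def dF_78 : BT := .node (.node (.node (.node (.node (.node (.node (.leaf 1073742083) (.leaf 442381845002)) (.leaf 672699413252)) (.node (.node (.leaf 311385204612) (.leaf 1115618021126)) (.leaf 462245981710))) (.node (.node (.node (.leaf 157840077837) (.leaf 1012001903755)) (.leaf 665183247628)) (.node (.leaf 395673956485) (.leaf 580357619470)))) (.node (.node (.node (.node (.leaf 78920043012) (.leaf 383326059405)) (.leaf 607201170691)) (.node (.node (.leaf 341986860942) (.leaf 459024904328)) (.leaf 570693892104))) (.node (.node (.node (.leaf 15032394757) (.leaf 1065689006857)) (.leaf 622770427278)) (.node (.leaf 556198384519) (.leaf 578210107533))))) (.node (.node (.node (.node (.node (.leaf 41339070212) (.leaf 542776710025)) (.leaf 590558168578)) (.node (.node (.leaf 330175690379) (.leaf 1134945343622)) (.leaf 348966240647))) (.node (.node (.node (.leaf 4294978189) (.leaf 1035624228494)) (.leaf 666793866752)) (.node (.leaf 470835902208) (.leaf 456877278465)))) (.node (.node (.node (.node (.leaf 112206047362) (.leaf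 973347196685)) (.leaf 750545695366)) (.node (.leaf 345744914439) (.leaf 181999346311))) (.node (.node (.node (.leaf 266824907013) (.leaf 935229390720)) (.leaf 624917900167)) (.node (.leaf 620622922368) (.leaf 872415439622)))))) (.node (.node (.node (.node (.node (.node (.leaf 22011712646) (.leaf 892279671558)) (.leaf 575525779974)) (.node (.node (.leaf 266824901134) (.leaf 1123671077772)) (.leaf 485868315658))) (.node (.node (.node (.leaf 193810445576) (.leaf 995895788165)) (.leaf 796716623489)) (.node (.leaf 428959960970) (.leaf 498753194240)))) (.node (.node (.node (.node (.leaf 99858013573) (.leaf 969052042765)) (.leaf 540629182466)) (.node (.leaf 250181891598) (.leaf 448824235652))) (.node (.node (.node (.leaf 241055096962) (.leaf 1068373369604)) (.leaf 529354877315)) (.node (.leaf 193810539532) (.leaf 852551054220))))) (.node (.node (.node (.node (.node (.leaf 58518943496) (.leaf 934692480269)) (.leaf 715649096453)) (.node (.node (.leaf 354871756809) (.leaf 1140850960648)) (.leaf 472446503168))) (.node (.node (.node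 (.leaf 147639549582) (.leaf 971736601989)) (.leaf 412853928449)) (.node (.leaf 509490604038) (.leaf 442918652938)))) (.node (.node (.node (.node (.leaf 146028923142) (.leaf 1003948844933)) (.leaf 761819975431)) (.node (.leaf 180388718599) (.leaf 438086771207))) (.node (.node (.node (.leaf 11811231498) (.leaf 937913746061)) (.leaf 832686894474)) (.node (.leaf 646392732301) (.leaf 887984700163))))))
def dF_79 : BT := .node (.node (.node (.node (.node (.node (.node (.leaf 10200549766) (.leaf 903553960449)) (.leaf 424665020034)) (.node (.node (.leaf 7516213390) (.leaf 1086090122116)) (.leaf 521838684558))) (.node (.node (.node (.leaf 185220508929) (.leaf 1010928164749)) (.leaf 153008333965)) (.node (.leaf 413927567749) (.leaf 441308039940)))) (.node (.node (.node (.node (.leaf 78383171846) (.leaf 963683516928)) (.leaf 532039245826)) (.node (.node (.leaf 25769809924) (.leaf 1154809607040)) (.leaf 453656063629))) (.node (.node (.node (.leaf 230317676166) (.leaf 1003948862722)) (.leaf 672699345292)) (.node (.leaf 576062626052)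 (.leaf 446676801802))))) (.node (.node (.node (.node (.node (.leaf 49929006849) (.leaf 930934383492)) (.leaf 651761454855)) (.node (.node (.leaf 344134336778) (.leaf 1004485747975)) (.leaf 613106739844))) (.node (.node (.node (.leaf 44560291726) (.leaf 1037771720326)) (.leaf 783294776576)) (.node (.leaf 492310743812) (.leaf 597537480590)))) (.node (.node (.node (.node (.leaf 141197083523) (.leaf 923955059982)) (.leaf 624917920898)) (.node (.leaf 382252180233) (.leaf 560493368193))) (.node (.node (.node (.leaf 272730489611) (.leaf 1088774388874)) (.leaf 807990836231)) (.node (.leaf 641560872199) (.leaf 884226603012)))))) (.node (.node (.node (.node (.node (.node (.leaf 33822875530) (.leaf 909996413314)) (.leaf 548682176518)) (.node (.node (.leaf 323196325376) (.leaf 1040992968462)) (.leaf 406411392133))) (.node (.node (.node (.leaf 204010993801) (.leaf 1033476749838)) (.leaf 812285883649)) (.node (.leaf 431107424903) (.leaf 489089551371)))) (.node (.node (.node (.node (.leaf 115964144768) (.leaf 974957808773)) (.leaf 744103230595))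 (.node (.leaf 314606430478) (.leaf 380641606926))) (.node (.node (.node (.leaf 249645033355) (.leaf 536334299656)) (.leaf 467614676480)) (.node (.leaf 606664275332) (.leaf 351650654599))))) (.node (.node (.node (.node (.node (.leaf 30064773004) (.leaf 298500453390)) (.leaf 611496139011)) (.node (.node (.leaf 376883463552) (.leaf 456877419659)) (.leaf 734439582214))) (.node (.node (.node (.leaf 151934514443) (.leaf 936303122055)) (.leaf 840203177733)) (.node (.leaf 543313488909) (.leaf 419296291592)))) (.node (.node (.node (.node (.leaf 121869735436) (.leaf 911070178439)) (.leaf 776315523972)) (.node (.leaf 391378931586) (.leaf 561567103746))) (.node (.node (.node (.leaf 306553364353) (.leaf 958851712772)) (.leaf 400505850126)) (.node (.leaf 656593282052) (.leaf 846108769799))))))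
def dF_80 : BT := .node dF_78 dF_79
def dF_81 : BT := .node (.node (.node (.node (.node (.node (.node (.leaf 14495518209) (.leaf 897648378885)) (.leaf 674846897420)) (.node (.node (.leaf 75161985166) (.leaf 1116154871309)) (.leaf 381715396750))) (.node (.node (.node (.leaf 176630572809) (.leaf 1014686265729)) (.leaf 153545237383)) (.node (.leaf 397821440650) (.leaf 496605759885)))) (.node (.node (.node (.node (.leaf 86973108486) (.leaf 958851677575)) (.leaf 724239030669)) (.node (.node (.leaf 25769807105) (.leaf 1153198993927)) (.leaf 588410705550))) (.node (.node (.node (.leaf 223338352772) (.leaf 1074278951169)) (.leaf 671625622158)) (.node (.leaf 455266667651) (.leaf 849866688771))))) (.node (.node (.node (.node (.node (.leaf 6979330314) (.leaf 438086882696)) (.leaf 699006094211)) (.node (.node (.leaf 340376239105) (.leaf 563714729099)) (.leaf 532039110406))) (.node (.node (.node (.leaf 46170929038) (.leaf 825170827532)) (.leaf 784368591755)) (.node (.leaf 483183936129) (.leaf 623844141962)))) (.node (.node (.node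 (.node (.leaf 130459662722) (.leaf 979789650060)) (.leaf 754303811333)) (.node (.leaf 108984885638) (.leaf 450434802570))) (.node (.node (.node (.leaf 271119875338) (.leaf 1093606283521)) (.leaf 473520343052)) (.node (.leaf 624380985859) (.leaf 572304601614)))))) (.node (.node (.node (.node (.node (.node (.leaf 16106135309) (.leaf 584115769091)) (.leaf 497142595970)) (.node (.node (.leaf 77309431182) (.leaf 1128502920961)) (.leaf 418759427841))) (.node (.node (.node (.leaf 177704319109) (.leaf 1028108036110)) (.leaf 793495333889)) (.node (.leaf 436476155661) (.leaf 444529267845)))) (.node (.node (.node (.node (.leaf 104689852803) (.leaf 934155618304)) (.leaf 422517508490)) (.node (.leaf 148713309454) (.leaf 758598734606))) (.node (.node (.node (.leaf 244276323329) (.leaf 1082332016773)) (.leaf 471372804992)) (.node (.leaf 600221822730) (.leaf 566399018893))))) (.node (.node (.node (.node (.node (.leaf 67108880128) (.leaf 943819288452)) (.leaf 662498851203)) (.node (.node (.leaf 362387952132) (.leaf 468688579209)) (.leaf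 729070900876))) (.node (.node (.node (.leaf 150323902606) (.leaf 988379597189)) (.leaf 828392014725)) (.node (.leaf 529354845569) (.leaf 493384570632)))) (.node (.node (.node (.node (.leaf 142807698817) (.leaf 912143917838)) (.leaf 775241779469)) (.node (.leaf 389768374661) (.leaf 507343124488))) (.node (.node (.node (.leaf 303332131723) (.leaf 1100585633410)) (.leaf 525059926529)) (.node (.leaf 146029044109) (.leaf 851477478533))))))
def dF_82 : BT := .node (.node (.node (.node (.node (.node (.node (.leaf 1610613126) (.leaf 899258898694)) (.leaf 690416125058)) (.node (.node (.leaf 100931785358) (.leaf 1126355442060)) (.leaf 416075067010))) (.node (.node (.node (.leaf 188978606086) (.leaf 1017370569736)) (.leaf 466004126346)) (.node (.leaf 417148798208) (.leaf 441844910853)))) (.node (.node (.node (.node (.leaf 98247400449) (.leaf 418759541507)) (.leaf 731755227649)) (.node (.node (.leaf 176630594830) (.leaf 1040992974218)) (.leaf 459561684494))) (.node (.node (.node (.leaf 221727739526) (.leaf 1071057687820)) (.leaf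 469762205710)) (.node (.leaf 587336917646) (.leaf 864362374533))))) (.node (.node (.node (.node (.node (.leaf 54223975046) (.leaf 466541044106)) (.leaf 567472709254)) (.node (.node (.leaf 343060596228) (.leaf 1140314075013)) (.leaf 536334141573))) (.node (.node (.node (.leaf 25232934020) (.leaf 1046898528132)) (.leaf 312995938311)) (.node (.leaf 507880001421) (.leaf 459561601163)))) (.node (.node (.node (.node (.leaf 143881438593) (.leaf 929323785869)) (.leaf 768799285634)) (.node (.leaf 384936535681) (.leaf 489626389646))) (.node (.node (.node (.leaf 286152264452) (.leaf 1086090113926)) (.leaf 741418828418)) (.node (.leaf 433254976259) (.leaf 887447722893)))))) (.node (.node (.node (.node (.node (.node (.leaf 18790486286) (.leaf 922881317900)) (.leaf 692026770689)) (.node (.node (.leaf 326417592712) (.leaf 1133871626761)) (.leaf 406948263044))) (.node (.node (.node (.leaf 211527189889) (.leaf 1022202460171)) (.leaf 802085338631)) (.node (.leaf 455803513089) (.leaf 563177753857)))) (.node (.node (.node (.node (.leaf 120795984002)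 (.leaf 929860654734)) (.leaf 736587015175)) (.node (.leaf 312995816068) (.leaf 828391934337))) (.node (.node (.node (.leaf 260382454541) (.leaf 1089311340301)) (.leaf 624917868300)) (.node (.leaf 616327841666) (.leaf 534723636233))))) (.node (.node (.node (.node (.node (.leaf 2147500682) (.leaf 387084151053)) (.leaf 522375508998)) (.node (.node (.leaf 14495518222) (.leaf 1149440896642)) (.leaf 848256243078))) (.node (.node (.node (.leaf 29527903629) (.leaf 1065152143362)) (.leaf 844498115841)) (.node (.leaf 548682203013) (.leaf 499826953472)))) (.node (.node (.node (.node (.leaf 168577506695) (.leaf 1010928168452)) (.leaf 776315473670)) (.node (.leaf 382789054091) (.leaf 448287372555))) (.node (.node (.node (.leaf 307090236165) (.leaf 1064615282958)) (.leaf 400505795850)) (.node (.leaf 409095793154) (.leaf 892279668491))))))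
def dF_83 : BT := .node dF_81 dF_82
def dF_84 : BT := .node dF_80 dF_83
def dF_85 : BT := .node (.node (.node (.node (.node (.node (.node (.leaf 5905581569) (.leaf 896574522252)) (.leaf 417685729410)) (.node (.node (.leaf 319975139973) (.leaf 971736616577)) (.leaf 529354876686))) (.node (.node (.node (.leaf 177704313985) (.leaf 1013075652485)) (.leaf 518080479374)) (.node (.leaf 396747698700) (.leaf 439160590861)))) (.node (.node (.node (.node (.leaf 87509979652) (.leaf 952946002697)) (.leaf 660351367047)) (.node (.node (.leaf 4294985358) (.leaf 1152125251841)) (.leaf 556198374530))) (.node (.node (.node (.leaf 177704323724) (.leaf 1066762619784)) (.leaf 418759435534)) (.node (.leaf 569083302532) (.leaf 413927638665))))) (.node (.node (.node (.node (.node (.leaf 5368713472) (.leaf 915365030666)) (.leaf 558882773254)) (.node (.node (.leaf 337155013256) (.leaf 1137092862727)) (.leaf 422517536014))) (.node (.node (.node (.leaf 72477599502) (.leaf 824633940878)) (.leaf 412317052292)) (.node (.leaf 477815225733) (.leaf 511638162311))))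 (.node (.node (.node (.node (.leaf 132070275972) (.leaf 979252643978)) (.leaf 747324469126)) (.node (.leaf 379030947081) (.leaf 572304576132))) (.node (.node (.node (.leaf 263066810116) (.leaf 1098438108674)) (.leaf 540629186573)) (.node (.leaf 481573356932) (.leaf 879394763660)))))) (.node (.node (.node (.node (.node (.node (.leaf 17716746253) (.leaf 908922539527)) (.leaf 681289304450)) (.node (.node (.leaf 107374204429) (.leaf 1120986731521)) (.leaf 425738734854))) (.node (.node (.node (.leaf 177167447684) (.leaf 1004485722629)) (.leaf 670551959694)) (.node (.leaf 430570573709) (.leaf 449361036039)))) (.node (.node (.node (.node (.leaf 108447945229) (.leaf 965830916099)) (.leaf 673773168006)) (.node (.leaf 303868972548) (.leaf 544387260802))) (.node (.node (.node (.leaf 237296999687) (.leaf 1067836461068)) (.leaf 528818018944)) (.node (.leaf 502511314051) (.leaf 630823525261))))) (.node (.node (.node (.node (.node (.leaf 42412803981) (.leaf 933618739076)) (.leaf 526670477318)) (.node (.node (.leaf 355945500043) (.leaf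 1144072010376)) (.leaf 527744207622))) (.node (.node (.node (.leaf 9663678848) (.leaf 1038845441670)) (.leaf 150324052742)) (.node (.leaf 522912393089) (.leaf 697395456385)))) (.node (.node (.node (.node (.leaf 149787001993) (.leaf 1003411973769)) (.leaf 758061864834)) (.node (.leaf 388694632961) (.leaf 490163284238))) (.node (.node (.node (.leaf 300647782538) (.leaf 312459133452)) (.leaf 541702918670)) (.node (.leaf 449361094150) (.leaf 888521466376))))))
def dF_86 : BT := .node (.node (.node (.node (.node (.node (.node (.leaf 5905581446) (.leaf 904090801414)) (.leaf 686658060292)) (.node (.node (.leaf 107911105934) (.leaf 1116691763207)) (.leaf 467077788934))) (.node (.node (.node (.leaf 190052348292) (.leaf 994822042368)) (.leaf 718333469060)) (.node (.leaf 398358311691) (.leaf 432718119296)))) (.node (.node (.node (.node (.leaf 55834596353) (.leaf 964757258885)) (.leaf 618475462023)) (.node (.node (.leaf 151397675534) (.leaf 469225452683)) (.leaf 447213576328))) (.node (.node (.node (.leaf 226022707846) (.leaf 386010441742))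 (.leaf 408558911502)) (.node (.leaf 584652562692) (.leaf 855772437893))))) (.node (.node (.node (.node (.node (.leaf 22011719822) (.leaf 929860529803)) (.leaf 697932269059)) (.node (.node (.leaf 347355563017) (.leaf 1060320322954)) (.leaf 410706439169))) (.node (.node (.node (.leaf 143344581774) (.leaf 957777954692)) (.leaf 823023304327)) (.node (.leaf 500900680452) (.leaf 651761429767)))) (.node (.node (.node (.node (.leaf 136902115203) (.leaf 962072903681)) (.leaf 763430619012)) (.node (.leaf 382789051776) (.leaf 674310006155))) (.node (.node (.node (.leaf 277025457547) (.leaf 1087700727043)) (.leaf 806380302851)) (.node (.leaf 581431302663) (.leaf 882615989761)))))) (.node (.node (.node (.node (.node (.node (.leaf 17716748680) (.leaf 914291381260)) (.leaf 451508578307)) (.node (.node (.leaf 325343849989) (.leaf 1078573931534)) (.leaf 469225322753))) (.node (.node (.node (.leaf 202937254025) (.leaf 1020591847042)) (.leaf 816043980935)) (.node (.leaf 448287318532) (.leaf 649077040782)))) (.node (.node (.node (.node (.leaf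 124554054400) (.leaf 983547745413)) (.leaf 523449315718)) (.node (.leaf 304942750727) (.leaf 180925601422))) (.node (.node (.node (.leaf 253403131012) (.leaf 1037771731714)) (.leaf 619549156739)) (.node (.leaf 615254211972) (.leaf 428960066189))))) (.node (.node (.node (.node (.node (.leaf 12348031758) (.leaf 935766112395)) (.leaf 707059147399)) (.node (.node (.leaf 299574053126) (.leaf 651761560969)) (.leaf 807990915209))) (.node (.node (.node (.leaf 38654723332) (.leaf 1054951565325)) (.leaf 467614765198)) (.node (.leaf 536334155910) (.leaf 724238962441)))) (.node (.node (.node (.node (.leaf 113279763342) (.leaf 1005022473355)) (.leaf 515396261634)) (.node (.leaf 381715312004) (.leaf 579820694661))) (.node (.node (.node (.leaf 310311461256) (.leaf 1068373379843)) (.leaf 462782828295)) (.node (.leaf 665183218692) (.leaf 894427152526))))))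
def dF_87 : BT := .node dF_85 dF_86
def dF_88 : BT := .node (.node (.node (.node (.node (.node (.node (.leaf 14495518086) (.leaf 194884355335)) (.leaf 541702851975)) (.node (.node (.leaf 5368765710) (.leaf 1119376118529)) (.leaf 345745039374))) (.node (.node (.node (.leaf 182536152585) (.leaf 953482980737)) (.leaf 397821441934)) (.node (.leaf 405337635333) (.leaf 440234253068)))) (.node (.node (.node (.node (.leaf 82678140166) (.leaf 957241064846)) (.leaf 477815211270)) (.node (.node (.leaf 30064774785) (.leaf 1149440897793)) (.leaf 588410642307))) (.node (.node (.node (.leaf 231928289412) (.leaf 584115810057)) (.leaf 428423160334)) (.node (.leaf 571767657611) (.leaf 850940441859))))) (.node (.node (.node (.node (.node (.leaf 43486554243) (.leaf 919660091522)) (.leaf 654445810051)) (.node (.node (.leaf 340913110663) (.leaf 1137629697286)) (.leaf 810138378886))) (.node (.node (.node (.leaf 55297742734) (.leaf 954019801996)) (.leaf 754840693889)) (.node (.leaf 481036437510) (.leaf 778463005824)))) (.node (.node (.node (.node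 (.leaf 135828373252) (.leaf 981400263438)) (.leaf 755377502338)) (.node (.leaf 58519020172) (.leaf 450971673608))) (.node (.node (.node (.leaf 274877972616) (.leaf 1091458824320)) (.leaf 729070894343)) (.node (.leaf 635118440453) (.leaf 873489080461)))))) (.node (.node (.node (.node (.node (.node (.leaf 28991036162) (.leaf 910533273988)) (.leaf 636729040134)) (.node (.node (.leaf 315680169220) (.leaf 988379619457)) (.leaf 539018508558))) (.node (.node (.node (.leaf 200789769098) (.leaf 1024886815362)) (.leaf 806917156877)) (.node (.leaf 445066092301) (.leaf 768262428039)))) (.node (.node (.node (.node (.leaf 108984812173) (.leaf 971736563080)) (.leaf 740882035340)) (.node (.leaf 299037140740) (.leaf 562640853134))) (.node (.node (.node (.leaf 246960678149) (.leaf 919660130189)) (.leaf 522375543043)) (.node (.leaf 601295564800) (.leaf 865972987392))))) (.node (.node (.node (.node (.node (.leaf 41339075598) (.leaf 470836016649)) (.leaf 521838683906)) (.node (.node (.leaf 370977888772) (.leaf 1146219670406)) (.leaf 534723528577)))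 (.node (.node (.node (.leaf 46170907662) (.leaf 1040992918667)) (.leaf 831613241093)) (.node (.leaf 396747731589) (.leaf 579820723339)))) (.node (.node (.node (.node (.leaf 153545117961) (.leaf 1002875083778)) (.leaf 591095058179)) (.node (.leaf 383325924234) (.leaf 438623654914))) (.node (.node (.node (.leaf 306553362060) (.leaf 1105954308353)) (.leaf 604516755467)) (.node (.leaf 456877288198) (.leaf 890668983309))))))
def dF_89 : BT := .node (.node (.node (.node (.node (.node (.node (.leaf 24696067972) (.leaf 907848821132)) (.leaf 686658014855)) (.node (.node (.leaf 81604384772) (.leaf 931471299982)) (.leaf 529891714561))) (.node (.node (.node (.leaf 191662961416) (.leaf 1025423686541)) (.leaf 707595989900)) (.node (.leaf 424664992773) (.leaf 498753209356)))) (.node (.node (.node (.node (.leaf 96099916162) (.leaf 674310096653)) (.leaf 485868276870)) (.node (.node (.leaf 323196366086) (.leaf 1102196258315)) (.leaf 556735268610))) (.node (.node (.node (.leaf 100394916352) (.leaf 1078573803528)) (.leaf 525059943436)) (.node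 (.leaf 572304435714) (.leaf 496605798798))))) (.node (.node (.node (.node (.node (.leaf 1610626440) (.leaf 933081836420)) (.leaf 707059159813)) (.node (.node (.leaf 352187400197) (.leaf 882616051338)) (.leaf 471372758535))) (.node (.node (.node (.leaf 35970368128) (.leaf 937913734663)) (.leaf 311922196743)) (.node (.leaf 513248714373) (.leaf 539555371403)))) (.node (.node (.node (.node (.leaf 70866994956) (.leaf 994822037381)) (.leaf 551366609031)) (.node (.leaf 385473397760) (.leaf 433254977422))) (.node (.node (.node (.leaf 294742201092) (.leaf 1037771736195)) (.leaf 409632541453)) (.node (.leaf 491236988167) (.leaf 886374017927)))))) (.node (.node (.node (.node (.node (.node (.leaf 40265328003) (.leaf 674846957707)) (.leaf 593242523782)) (.node (.node (.leaf 330175614080) (.leaf 1135482249606)) (.leaf 197031783309))) (.node (.node (.node (.leaf 45097206798) (.leaf 1017907469453)) (.leaf 814433219596)) (.node (.leaf 462245965568) (.leaf 444529270284)))) (.node (.node (.node (.node (.leaf 116501015682) (.leaf 983547739150))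 (.leaf 654982687495)) (.node (.leaf 339302498948) (.leaf 630823439232))) (.node (.node (.node (.leaf 10200600206) (.leaf 1097901276940)) (.leaf 717259687566)) (.node (.leaf 602369244802) (.leaf 563177794304))))) (.node (.node (.node (.node (.node (.leaf 72477573516) (.leaf 938987448581)) (.leaf 463319720455)) (.node (.node (.leaf 29527913230) (.leaf 1150514638726)) (.leaf 745177003529))) (.node (.node (.node (.leaf 199715987715) (.leaf 952946121870)) (.leaf 415001408268)) (.node (.leaf 543850353669) (.leaf 509490617354)))) (.node (.node (.node (.node (.leaf 130996543630) (.leaf 984084623114)) (.leaf 179851942019)) (.node (.leaf 382252183429) (.leaf 496605775617))) (.node (.node (.node (.leaf 314606427525) (.leaf 1107564955527)) (.leaf 426812472453)) (.node (.leaf 403190211714) (.leaf 892279668489))))))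
def dF_90 : BT := .node dF_88 dF_89
def dF_91 : BT := .node dF_87 dF_90
def dF_92 : BT := .node dF_84 dF_91
def dF_93 : BT := .node dF_77 dF_92
def dF_94 : BT := .node (.node (.node (.node (.node (.node (.node (.leaf 140) (.leaf 820875837953)) (.leaf 670551929093)) (.node (.node (.leaf 306016495365) (.leaf 911070203648)) (.leaf 400505797006))) (.node (.node (.node (.leaf 25232970382) (.leaf 1012001885959)) (.leaf 786516043533)) (.node (.leaf 395137082625) (.leaf 496068883595)))) (.node (.node (.node (.node (.leaf 76772558853) (.leaf 955630451333)) (.leaf 402116457474)) (.node (.node (.leaf 348429306496) (.leaf 724239134731)) (.leaf 626528503688))) (.node (.node (.node (.leaf 138512708365) (.leaf 923418222726)) (.leaf 484794636044)) (.node (.leaf 561567107972) (.leaf 506806308493))))) (.node (.node (.node (.node (.node (.leaf 37044101763) (.leaf 913217639300)) (.leaf 694711101191)) (.node (.node (.leaf 40265397643) (.leaf 961536073986)) (.leaf 425201948933))) (.node (.node (.node (.leaf 99858021646) (.leaf 1036697978250))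 (.leaf 782757983495)) (.node (.leaf 468688418049) (.leaf 443455495170)))) (.node (.node (.node (.node (.leaf 112206047367) (.leaf 972810325518)) (.leaf 751082582669)) (.node (.leaf 192199868035) (.leaf 154618955790))) (.node (.node (.node (.leaf 264677422852) (.leaf 1038308604036)) (.leaf 625454783617)) (.node (.leaf 618475438209) (.leaf 872415334924)))))) (.node (.node (.node (.node (.node (.node (.leaf 23622325763) (.leaf 892816542734)) (.leaf 681826209030)) (.node (.node (.leaf 96099916557) (.leaf 1124207912577)) (.leaf 197031784462))) (.node (.node (.node (.leaf 193810445189) (.leaf 1031866139021)) (.leaf 794569139331)) (.node (.leaf 428959872130) (.leaf 653908876289)))) (.node (.node (.node (.node (.leaf 93415560963) (.leaf 969052227205)) (.leaf 731218343687)) (.node (.leaf 179314949646) (.leaf 514322466565))) (.node (.node (.node (.leaf 239981355009) (.leaf 428423242635)) (.leaf 470835934091)) (.node (.leaf 433254962950) (.leaf 597537528704))))) (.node (.node (.node (.node (.node (.leaf 56371459717) (.leaf 702764246538))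 (.leaf 713501612292)) (.node (.node (.leaf 352187402753) (.leaf 503585188107)) (.leaf 409632603654))) (.node (.node (.node (.leaf 12884903040) (.leaf 1053877785608)) (.leaf 825707659649)) (.node (.leaf 454729784078) (.leaf 631360371977)))) (.node (.node (.node (.node (.leaf 142270826630) (.leaf 1001801360772)) (.leaf 494458291714)) (.node (.leaf 208306006025) (.leaf 448287342605))) (.node (.node (.node (.leaf 298500298378) (.leaf 1103806705547)) (.leaf 832686980610)) (.node (.leaf 644245248140) (.leaf 885837172354))))))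
def dF_95 : BT := .node (.node (.node (.node (.node (.node (.node (.leaf 11811162886) (.leaf 901406476288)) (.leaf 538481685511)) (.node (.node (.leaf 98247432078) (.leaf 1116691734400)) (.leaf 405874506241))) (.node (.node (.node (.leaf 112742935434) (.leaf 954019838090)) (.leaf 392989618574)) (.node (.leaf 411780087812) (.leaf 448287366156)))) (.node (.node (.node (.node (.leaf 79993784966) (.leaf 914828262400)) (.leaf 722628407687)) (.node (.node (.leaf 326417550222) (.leaf 1153198994309)) (.leaf 420906974857))) (.node (.node (.node (.leaf 231928289286) (.leaf 1079647570315)) (.leaf 672699427333)) (.node (.leaf 573915141893) (.leaf 851477315075))))) (.node (.node (.node (.node (.node (.leaf 47781522691) (.leaf 181462589837)) (.leaf 598074363782)) (.node (.node (.leaf 337155014667) (.leaf 1004485747971)) (.leaf 398358409348))) (.node (.node (.node (.leaf 55297712782) (.leaf 1037234849289)) (.leaf 628139116810)) (.node (.leaf 490163259653) (.leaf 597000551946)))) (.node (.node (.node (.node (.leaf 124017214477) (.leaf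 988916455436)) (.leaf 752693147143)) (.node (.leaf 156229526404) (.leaf 451508580097))) (.node (.node (.node (.leaf 275414844037) (.leaf 1089311271947)) (.leaf 417148891139)) (.node (.leaf 641560892932) (.leaf 544924186117)))))) (.node (.node (.node (.node (.node (.node (.leaf 25769810062) (.leaf 780610523402)) (.leaf 548145352454)) (.node (.node (.leaf 322659464581) (.leaf 1133871601803)) (.leaf 521838632458))) (.node (.node (.node (.leaf 202937253258) (.leaf 1020054976008)) (.leaf 810138399488)) (.node (.leaf 445602949762) (.leaf 585189433609)))) (.node (.node (.node (.node (.leaf 113816660609) (.leaf 972810324612)) (.leaf 527744284038)) (.node (.leaf 311385203726) (.leaf 429496867086))) (.node (.node (.node (.leaf 8053122953) (.leaf 1084479500676)) (.leaf 415538231309)) (.node (.leaf 604516791173) (.leaf 406948358024))))) (.node (.node (.node (.node (.node (.leaf 10737423116) (.leaf 604516873482)) (.leaf 470835960327)) (.node (.node (.leaf 376346594187) (.leaf 1147293412237)) (.leaf 424665006977))) (.node (.node (.node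 (.leaf 152471385227) (.leaf 1059783415813)) (.leaf 838055693572)) (.node (.leaf 541166008460) (.leaf 778462865805)))) (.node (.node (.node (.node (.leaf 159450699008) (.leaf 1009854402957)) (.leaf 769873007619)) (.node (.leaf 387620891786) (.leaf 490163263618))) (.node (.node (.node (.leaf 307090235139) (.leaf 1107028084482)) (.leaf 427886227334)) (.node (.leaf 528818004485) (.leaf 891205916419))))))
def dF_96 : BT := .node dF_94 dF_95
def dF_97 : BT := .node (.node (.node (.node (.node (.node (.node (.leaf 12348034048) (.leaf 848256254976)) (.leaf 533112975746)) (.node (.node (.leaf 77846336141) (.leaf 1111859923848)) (.leaf 479425851534))) (.node (.node (.node (.leaf 176630572675) (.leaf 1014149296904)) (.leaf 206695424524)) (.node (.leaf 397821359373) (.leaf 447750479502)))) (.node (.node (.node (.node (.leaf 88583721606) (.leaf 955093580170)) (.leaf 722091548941)) (.node (.node (.leaf 73551393806) (.leaf 1153198877321)) (.leaf 432718129032))) (.node (.node (.node (.leaf 221190868613) (.leaf 1072131467008)) (.leaf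 623307237387)) (.node (.leaf 155155827715) (.leaf 382789065740))))) (.node (.node (.node (.node (.node (.leaf 6979323140) (.leaf 915365123203)) (.leaf 451508570631)) (.node (.node (.leaf 336081271946) (.leaf 1066225902722)) (.leaf 421980652046))) (.node (.node (.node (.leaf 3758141070) (.leaf 824633941004)) (.leaf 195421200781)) (.node (.leaf 481036451971) (.leaf 512174985217)))) (.node (.node (.node (.node (.leaf 132607146882) (.leaf 979789633931)) (.leaf 752156327172)) (.node (.leaf 379567816964) (.leaf 450434778627))) (.node (.node (.node (.leaf 270582941578) (.leaf 823023369102)) (.leaf 676457462797)) (.node (.leaf 616327957133) (.leaf 457414227204)))))) (.node (.node (.node (.node (.node (.node (.leaf 31675391492) (.leaf 511101325069)) (.leaf 495531982854)) (.node (.node (.leaf 93952464142) (.leaf 1128502926082)) (.leaf 607738068109))) (.node (.node (.node (.leaf 198105413899) (.leaf 1029181760397)) (.leaf 802085331846)) (.node (.leaf 434328671501) (.leaf 445066138756)))) (.node (.node (.node (.node (.leaf 106300465922)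 (.leaf 970125969280)) (.leaf 398895260417)) (.node (.leaf 245886936325) (.leaf 461172222977))) (.node (.node (.node (.leaf 242128839168) (.leaf 1069447074050)) (.leaf 522912445068)) (.node (.leaf 599684951812) (.leaf 512175057164))))) (.node (.node (.node (.node (.node (.leaf 64961395969) (.leaf 941671804293)) (.leaf 409095780999)) (.node (.node (.leaf 360240467973) (.leaf 866509925000)) (.leaf 803159063941))) (.node (.node (.node (.leaf 144418325004) (.leaf 979789662350)) (.leaf 828391897731)) (.node (.leaf 474057141251) (.leaf 653908868744)))) (.node (.node (.node (.node (.leaf 152471373449) (.leaf 387084165390)) (.leaf 773094297741)) (.node (.leaf 142807755395) (.leaf 774704835982))) (.node (.node (.node (.leaf 302258395657) (.leaf 1105417471500)) (.leaf 663572608910)) (.node (.leaf 652835184772) (.leaf 889058442376))))))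
def dF_98 : BT := .node (.node (.node (.node (.node (.node (.node (.leaf 3221226246) (.leaf 899795862926)) (.leaf 501437596678)) (.node (.node (.leaf 103616139662) (.leaf 1124207957900)) (.leaf 516469941635))) (.node (.node (.node (.leaf 112206065805) (.leaf 994822042503)) (.leaf 713501541132)) (.node (.leaf 415001314049) (.leaf 638876501895)))) (.node (.node (.node (.node (.leaf 96099916288) (.leaf 485331534604)) (.leaf 729607743488)) (.node (.node (.leaf 6979326976) (.leaf 1156420220162)) (.leaf 588947531022))) (.node (.node (.node (.leaf 223338352646) (.leaf 994822055566)) (.leaf 470299042052)) (.node (.leaf 587336917770) (.leaf 862214890372))))) (.node (.node (.node (.node (.node (.leaf 37580965644) (.leaf 499827040905)) (.leaf 566935805187)) (.node (.node (.leaf 349503047179) (.leaf 1000190780935)) (.leaf 422517508357))) (.node (.node (.node (.leaf 24159192065) (.leaf 1044751043973)) (.leaf 823023304714)) (.node (.leaf 505732519821) (.leaf 493921435147)))) (.node (.node (.node (.node (.leaf 108984829322) (.leaf 987842705283))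 (.leaf 642097794182)) (.node (.leaf 383862739075) (.leaf 451508537737))) (.node (.node (.node (.leaf 284004780293) (.leaf 1086090074112)) (.leaf 788663562631)) (.node (.leaf 507343153411) (.leaf 343060723980)))))) (.node (.node (.node (.node (.node (.node (.leaf 17716748811) (.leaf 920733833741)) (.leaf 553514029319)) (.node (.node (.leaf 73551392901) (.leaf 1088237607813)) (.leaf 754303811204))) (.node (.node (.node (.leaf 209379705731) (.leaf 1022202460160)) (.leaf 822486336013)) (.node (.leaf 453656028931) (.leaf 455266668174)))) (.node (.node (.node (.node (.leaf 120795984007) (.leaf 927713171466)) (.leaf 659277655815)) (.node (.leaf 311922072576) (.leaf 492847614340))) (.node (.node (.node (.leaf 258234970380) (.leaf 1087163856140)) (.leaf 477278401549)) (.node (.leaf 388157816450) (.leaf 871878466820))))) (.node (.node (.node (.node (.node (.leaf 69793235467) (.leaf 912143902849)) (.leaf 610422338691)) (.node (.node (.leaf 358629806339) (.leaf 1148904025607)) (.leaf 847182501120))) (.node (.node (.node (.leaf 6979325697)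 (.leaf 984621506565)) (.leaf 476741569166)) (.node (.leaf 546534718852) (.leaf 777389265931)))) (.node (.node (.node (.node (.leaf 161061302540) (.leaf 351113816076)) (.leaf 650687730694)) (.node (.leaf 392452730369) (.leaf 580357594241))) (.node (.node (.node (.leaf 307627106949) (.leaf 1110786008972)) (.leaf 733902653191)) (.node (.leaf 410169502214) (.leaf 892816533382))))))
def dF_99 : BT := .node dF_97 dF_98
def dF_100 : BT := .node dF_96 dF_99
def dF_101 : BT := .node (.node (.node (.node (.node (.node (.node (.leaf 3758097408) (.leaf 820875838336)) (.leaf 668404411782)) (.node (.node (.leaf 319438268171) (.leaf 1115081114378)) (.leaf 603979887374))) (.node (.node (.node (.leaf 4295009546) (.leaf 1013075586048)) (.leaf 792958493965)) (.node (.leaf 396210827530) (.leaf 580357574279)))) (.node (.node (.node (.node (.leaf 85362495493) (.leaf 936303097614)) (.leaf 608811771526)) (.node (.node (.leaf 30064780046) (.leaf 419296456969)) (.leaf 569620140814))) (.node (.node (.node (.leaf 34896661123) (.leaf 995358925185))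 (.leaf 607737986690)) (.node (.leaf 566935818373) (.leaf 449361060865))))) (.node (.node (.node (.node (.node (.leaf 7516204045) (.leaf 921270705549)) (.leaf 558345868675)) (.node (.node (.leaf 336081269645) (.leaf 1137092664460)) (.leaf 394600247298))) (.node (.node (.node (.leaf 1610639246) (.leaf 921270681870)) (.leaf 813359623298)) (.node (.leaf 475667741572) (.leaf 566398951687)))) (.node (.node (.node (.node (.leaf 129922791813) (.leaf 972273350923)) (.leaf 477278419075)) (.node (.leaf 359166725760) (.leaf 697932293006))) (.node (.node (.node (.leaf 263603681028) (.leaf 1098438147848)) (.leaf 669478143116)) (.node (.leaf 415538233479) (.leaf 877247279500)))))) (.node (.node (.node (.node (.node (.node (.leaf 19327357443) (.leaf 887984705028)) (.leaf 544924092679)) (.node (.node (.leaf 107911055758) (.leaf 1120986686343)) (.leaf 530965466123))) (.node (.node (.node (.leaf 195421054985) (.leaf 1032939808521)) (.leaf 482647141120)) (.node (.leaf 429496764167) (.leaf 694174187915)))) (.node (.node (.node (.node (.leaf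 106300466060) (.leaf 610959328135)) (.leaf 539018511106)) (.node (.leaf 25232938881) (.leaf 705985379086))) (.node (.node (.node (.leaf 237833870722) (.leaf 1068373369606)) (.leaf 611496145281)) (.node (.leaf 594316238477) (.leaf 854161804419))))) (.node (.node (.node (.node (.node (.leaf 61203293197) (.leaf 885837227786)) (.leaf 411243231367)) (.node (.node (.leaf 356482370816) (.leaf 1142998291722)) (.leaf 665720132621))) (.node (.node (.node (.leaf 13958650510) (.leaf 1044751042830)) (.leaf 827318272645)) (.node (.leaf 520764908928) (.leaf 507879990784)))) (.node (.node (.node (.node (.leaf 149250148873) (.leaf 1003948844811)) (.leaf 545461027586)) (.node (.leaf 387620891016) (.leaf 592705652878))) (.node (.node (.node (.leaf 300647782145) (.leaf 1065689022849)) (.leaf 542776528653)) (.node (.leaf 448287352070) (.leaf 803159096198))))))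
def dF_102 : BT := .node (.node (.node (.node (.node (.node (.node (.leaf 7516194566) (.leaf 904090823937)) (.leaf 684510576133)) (.node (.node (.leaf 87510013324) (.leaf 1117228468488)) (.leaf 627065386638))) (.node (.node (.node (.leaf 187904864133) (.leaf 1016296811530)) (.leaf 394600265229)) (.node (.leaf 398358299014) (.leaf 498216403853)))) (.node (.node (.node (.node (.leaf 75698816646) (.leaf 846108787083)) (.leaf 530428574594)) (.node (.node (.leaf 12884904965) (.leaf 865436185738)) (.leaf 151397783308))) (.node (.node (.node (.leaf 227633320966) (.leaf 359166896654)) (.leaf 830002530183)) (.node (.leaf 582505078533) (.leaf 853624953732))))) (.node (.node (.node (.node (.node (.leaf 23622332941) (.leaf 929860631820)) (.leaf 509490662158)) (.node (.node (.leaf 339302498953) (.leaf 753230161289)) (.leaf 410169489157))) (.node (.node (.node (.leaf 36507238926) (.leaf 732292171530)) (.leaf 810675227140)) (.node (.leaf 498753196293) (.leaf 778462926860)))) (.node (.node (.node (.node (.leaf 137438986242) (.leaf 962609774728))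 (.leaf 761283134853)) (.node (.leaf 351113667840) (.leaf 506269361676))) (.node (.node (.node (.leaf 272193619204) (.leaf 1088237561223)) (.leaf 417685762435)) (.node (.leaf 441844899590) (.leaf 691489945486)))))) (.node (.node (.node (.node (.node (.node (.leaf 17179877641) (.leaf 754303848971)) (.leaf 647466427650)) (.node (.node (.leaf 324806978949) (.leaf 1130650395406)) (.leaf 676457498758))) (.node (.node (.node (.leaf 202400382857) (.leaf 1010928171278)) (.leaf 813896496773)) (.node (.leaf 431644316169) (.leaf 442918549133)))) (.node (.node (.node (.node (.leaf 122406597249) (.leaf 981400261252)) (.leaf 741418887558)) (.node (.leaf 154081986561) (.leaf 343060630279))) (.node (.node (.node (.leaf 178778073605) (.leaf 438086922891)) (.leaf 467077819907)) (.node (.leaf 613106727813) (.leaf 869731020939))))) (.node (.node (.node (.node (.node (.leaf 69793235202) (.leaf 941134932108)) (.leaf 708669727491)) (.node (.node (.leaf 357556064390) (.leaf 1147293412740)) (.leaf 500900680203))) (.node (.node (.node (.leaf 90194314894)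 (.leaf 933081896974)) (.leaf 466004152846)) (.node (.leaf 482647077762) (.leaf 463319707401)))) (.node (.node (.node (.node (.leaf 166966881037) (.leaf 1005022565254)) (.leaf 570693965703)) (.node (.leaf 388157762954) (.leaf 654445762695))) (.node (.node (.node (.leaf 310311460869) (.leaf 1111323043725)) (.leaf 462246052620)) (.node (.leaf 663035734533) (.leaf 866509865220))))))
def dF_103 : BT := .node dF_101 dF_102
def dF_104 : BT := .node (.node (.node (.node (.node (.node (.node (.leaf 16106131206) (.leaf 383326045443)) (.leaf 678604962182)) (.node (.node (.leaf 82141307662) (.leaf 1117228634368)) (.leaf 466540966657))) (.node (.node (.node (.leaf 179851798794) (.leaf 980863391757)) (.leaf 402116404231)) (.node (.leaf 403190151172) (.leaf 497679473671)))) (.node (.node (.node (.node (.leaf 84288753286) (.leaf 955630452494)) (.leaf 533112929798)) (.node (.node (.leaf 143881483406) (.leaf 1146756543116)) (.leaf 543850356482))) (.node (.node (.node (.leaf 229780805253) (.leaf 1080721403648)) (.leaf 419833182726)) (.node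 (.leaf 571767657601) (.leaf 850403727366))))) (.node (.node (.node (.node (.node (.leaf 45097167362) (.leaf 909996414985)) (.leaf 705448546692)) (.node (.node (.leaf 337691885062) (.leaf 1137629548044)) (.leaf 810138399361))) (.node (.node (.node (.leaf 18253649934) (.leaf 955093426694)) (.leaf 541166005248)) (.node (.leaf 428423104259) (.leaf 458487911936)))) (.node (.node (.node (.node (.leaf 3758128397) (.leaf 924491947396)) (.leaf 629212889218)) (.node (.leaf 217969681027) (.leaf 450971705985))) (.node (.node (.node (.leaf 8590000004) (.leaf 1093069397002)) (.leaf 425201889293)) (.node (.leaf 632970956292) (.leaf 873489082885)))))) (.node (.node (.node (.node (.node (.node (.leaf 30601649283) (.leaf 910533102087)) (.leaf 637265903879)) (.node (.node (.leaf 314069556612) (.leaf 1133871636612)) (.leaf 413927621517))) (.node (.node (.node (.leaf 200789768456) (.leaf 912143923844)) (.leaf 804769689101)) (.node (.leaf 442918608140) (.leaf 500363809291)))) (.node (.node (.node (.node (.leaf 100931755662) (.leaf 937376844035))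 (.leaf 738734551181)) (.node (.leaf 146028890248) (.leaf 490700193419))) (.node (.node (.node (.leaf 246423795211) (.leaf 911607066894)) (.leaf 609348584206)) (.node (.leaf 600758693771) (.leaf 865436117252))))) (.node (.node (.node (.node (.node (.leaf 43486559758) (.leaf 950261740933)) (.leaf 405874533894)) (.node (.node (.leaf 368830404613) (.leaf 1146219670273)) (.leaf 849329984646))) (.node (.node (.node (.leaf 15569267460) (.leaf 1040992927750)) (.leaf 543313560836)) (.node (.leaf 528817961478) (.leaf 803159034763)))) (.node (.node (.node (.node (.leaf 154081988740) (.leaf 919123239811)) (.leaf 646392762371)) (.node (.leaf 389231504263) (.leaf 635655266690))) (.node (.node (.node (.leaf 306016492301) (.leaf 1105417471246)) (.leaf 604516795392)) (.node (.leaf 458487914243) (.leaf 562640928009))))))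
def dF_105 : BT := .node (.node (.node (.node (.node (.node (.node (.leaf 22548583813) (.leaf 905701444615)) (.leaf 498216370438)) (.node (.node (.leaf 38654724878) (.leaf 395137260173)) (.leaf 469762217870))) (.node (.node (.node (.leaf 191662958474) (.leaf 1023276202381)) (.leaf 401579537931)) (.node (.leaf 422517508612) (.leaf 583578834060)))) (.node (.node (.node (.node (.leaf 98247400322) (.leaf 967978485252)) (.leaf 541702866310)) (.node (.node (.leaf 16106132481) (.leaf 1154809607693)) (.leaf 503585035144))) (.node (.node (.node (.leaf 219043384326) (.leaf 1069447111687)) (.leaf 715112180878)) (.node (.leaf 586263175691) (.leaf 489626477454))))) (.node (.node (.node (.node (.node (.leaf 56371459336) (.leaf 933081726983)) (.leaf 514322469382)) (.node (.node (.leaf 351650529413) (.leaf 439160678018)) (.leaf 625454738318))) (.node (.node (.node (.leaf 115964130060) (.leaf 1053340980613)) (.leaf 825707659273)) (.node (.leaf 511101230212) (.leaf 439160510602)))) (.node (.node (.node (.node (.leaf 143344568065) (.leaf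 896574660362)) (.leaf 766114943751)) (.node (.leaf 385473406725) (.leaf 452045399564))) (.node (.node (.node (.leaf 292594716933) (.leaf 1104343560205)) (.leaf 742492566285)) (.node (.leaf 577673205383) (.leaf 886374087300)))))) (.node (.node (.node (.node (.node (.node (.leaf 9663686157) (.leaf 928786899202)) (.leaf 594316265858)) (.node (.node (.leaf 208305992450) (.leaf 1135482225409)) (.leaf 398358409230))) (.node (.node (.node (.leaf 43486594574) (.leaf 1017907471238)) (.leaf 474594080654)) (.node (.leaf 454729770627) (.leaf 443992386318)))) (.node (.node (.node (.node (.leaf 116501015687) (.leaf 425201996938)) (.leaf 733365809795)) (.node (.leaf 176093739782) (.leaf 630823507843))) (.node (.node (.node (.leaf 218506522766) (.leaf 1095753792780)) (.leaf 472446517902)) (.node (.leaf 601832383362) (.leaf 870804741512))))) (.node (.node (.node (.node (.node (.leaf 2147500811) (.leaf 937913706881)) (.leaf 402653294727)) (.node (.node (.leaf 348429306638) (.leaf 1149977767682)) (.leaf 481036451844))) (.node (.node (.node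 (.leaf 35433522701) (.leaf 984084635278)) (.leaf 830002559364)) (.node (.leaf 555124655492) (.leaf 555661542665)))) (.node (.node (.node (.node (.leaf 175019943821) (.leaf 460635483905)) (.leaf 781684132487)) (.node (.leaf 306553384711) (.leaf 580894445198))) (.node (.node (.node (.leaf 314606429577) (.leaf 1107564955524)) (.leaf 677531249160)) (.node (.leaf 402116436614) (.leaf 892279667085))))))
def dF_106 : BT := .node dF_104 dF_105
def dF_107 : BT := .node dF_103 dF_106
def dF_108 : BT := .node dF_100 dF_107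
def dF_109 : BT := .node (.node (.node (.node (.node (.node (.node (.leaf 536871046) (.leaf 745177039498)) (.leaf 672699380102)) (.node (.node (.leaf 310311462923) (.leaf 1115081150222)) (.leaf 419296296462))) (.node (.node (.node (.leaf 176093695753) (.leaf 1013612380673)) (.leaf 788663557900)) (.node (.leaf 395673947648) (.leaf 439697381890)))) (.node (.node (.node (.node (.leaf 81067527173) (.leaf 957241049733)) (.leaf 608274854531)) (.node (.node (.leaf 377957203726) (.leaf 1151588259211)) (.leaf 485331414025))) (.node (.node (.node (.leaf 208305951104) (.leaf 929323802880)) (.leaf 533649862286)) (.node (.leaf 562640850061) (.leaf 151934633479))))) (.node (.node (.node (.node (.node (.leaf 43486554373) (.leaf 179315102733)) (.leaf 588947555462)) (.node (.node (.leaf 325343852417) (.leaf 1136555948416)) (.leaf 601832440196))) (.node (.node (.node (.leaf 58518977027) (.leaf 1003411981572)) (.leaf 812822756867)) (.node (.leaf 472983386369) (.leaf 456877320712)))) (.node (.node (.node (.node (.leaf 125627823493) (.leaf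 909996429070)) (.leaf 479425903235)) (.node (.leaf 207769089665) (.leaf 572304576270))) (.node (.node (.node (.leaf 268972391172) (.leaf 1100048710025)) (.leaf 423591295885)) (.node (.leaf 622770406529) (.leaf 457951096197)))))) (.node (.node (.node (.node (.node (.node (.leaf 20937970566) (.leaf 694174305802)) (.leaf 679678704258)) (.node (.node (.leaf 243202587008) (.leaf 1123671086727)) (.leaf 479425824260))) (.node (.node (.node (.leaf 192199832839) (.leaf 1033476752002)) (.leaf 798864107648)) (.node (.leaf 429496832140) (.leaf 694174208140)))) (.node (.node (.node (.node (.leaf 102005497735) (.leaf 965831001220)) (.leaf 675383781122)) (.node (.leaf 277025425294) (.leaf 630286616076))) (.node (.node (.node (.leaf 239981354887) (.leaf 1068373369869)) (.leaf 469762205825)) (.node (.leaf 590021273100) (.leaf 566935886340))))) (.node (.node (.node (.node (.node (.leaf 56908330759) (.leaf 656056477323)) (.leaf 717796580612)) (.node (.node (.leaf 340913113856) (.leaf 1142998301441)) (.leaf 472446438156))) (.node (.node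 (.node (.leaf 6979361422) (.leaf 194884391694)) (.leaf 826781384589)) (.node (.leaf 516469940608) (.leaf 675920655873)))) (.node (.node (.node (.node (.leaf 147639526793) (.leaf 802085382026)) (.leaf 547071640711)) (.node (.leaf 387084009993) (.leaf 489626389505))) (.node (.node (.node (.leaf 299574040066) (.leaf 1102196211719)) (.leaf 542776660750)) (.node (.leaf 648540213901) (.leaf 887984700170))))))
def dF_110 : BT := .node (.node (.node (.node (.node (.node (.node (.leaf 10200549763) (.leaf 872952318592)) (.leaf 680215607813)) (.node (.node (.leaf 96636827406) (.leaf 1000190775425)) (.leaf 406411405070))) (.node (.node (.node (.leaf 140123352076) (.leaf 1016296858759)) (.leaf 403727020677)) (.node (.leaf 413927555331) (.leaf 441307995016)))) (.node (.node (.node (.node (.leaf 78383171843) (.leaf 963683481093)) (.leaf 669478199042)) (.node (.node (.leaf 281857232654) (.leaf 1155346475649)) (.leaf 697932321548))) (.node (.node (.node (.leaf 230317676163) (.leaf 1078573919499)) (.leaf 428423102214)) (.node (.leaf 578210110213)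 (.leaf 555661597066))))) (.node (.node (.node (.node (.node (.leaf 52076491008) (.leaf 851477488780)) (.leaf 511638146438)) (.node (.node (.leaf 337155015040) (.leaf 1014149424396)) (.leaf 423054406403))) (.node (.node (.node (.leaf 13958671630) (.leaf 1037771720325)) (.leaf 605053704971)) (.node (.leaf 494458227973) (.leaf 703301037326)))) (.node (.node (.node (.node (.leaf 139049599366) (.leaf 923418204426)) (.leaf 447213650309)) (.node (.leaf 382252125954) (.leaf 493384522374))) (.node (.node (.node (.leaf 279172940427) (.leaf 1088774411784)) (.leaf 808527689997)) (.node (.leaf 500363795847) (.leaf 872415443079)))))) (.node (.node (.node (.node (.node (.node (.leaf 34359746570) (.leaf 626528571787)) (.leaf 438623666055)) (.node (.node (.leaf 323733209226) (.leaf 1131724114182)) (.leaf 627065338240))) (.node (.node (.node (.leaf 193810448000) (.leaf 1024349937285)) (.leaf 474057209216)) (.node (.leaf 431644316170) (.leaf 676457501579)))) (.node (.node (.node (.node (.leaf 118111628929) (.leaf 977105292932)) (.leaf 526133670915))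 (.node (.leaf 298500298243) (.leaf 429496867214))) (.node (.node (.node (.leaf 250718774923) (.leaf 1084479460737)) (.leaf 416075101825)) (.node (.leaf 608811759493) (.leaf 869194213771))))) (.node (.node (.node (.node (.node (.leaf 2147486604) (.leaf 933618741902)) (.leaf 712427857799)) (.node (.node (.leaf 377957211909) (.leaf 1147830283265)) (.leaf 462782913037))) (.node (.node (.node (.leaf 150323901578) (.leaf 439697528459)) (.leaf 842350661892)) (.node (.leaf 536871039747) (.leaf 642097710857)))) (.node (.node (.node (.node (.leaf 162671925260) (.leaf 1009854338441)) (.leaf 778463008133)) (.node (.leaf 391915858441) (.leaf 561567113868))) (.node (.node (.node (.leaf 10200621064) (.leaf 1084479506316)) (.leaf 516469946498)) (.node (.leaf 658740766213) (.leaf 891205841673))))))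
def dF_111 : BT := .node dF_109 dF_110
def dF_112 : BT := .node (.node (.node (.node (.node (.node (.node (.leaf 16643002368) (.leaf 602369377418)) (.leaf 676994381580)) (.node (.node (.leaf 79993828494) (.leaf 923955105670)) (.leaf 403727118606))) (.node (.node (.node (.leaf 179851797769) (.leaf 922881339904)) (.leaf 108984918926)) (.node (.leaf 398895182852) (.leaf 496068827525)))) (.node (.node (.node (.node (.leaf 86973108483) (.leaf 960999161740)) (.leaf 480499638919)) (.node (.node (.leaf 37044096256) (.leaf 534723703434)) (.leaf 598611173508))) (.node (.node (.node (.leaf 225485836933) (.leaf 1076426435328)) (.leaf 466004100103)) (.node (.leaf 508953758982) (.leaf 445603059591))))) (.node (.node (.node (.node (.node (.leaf 46707780487) (.leaf 889595319950)) (.leaf 701153578372)) (.node (.node (.leaf 336081272075) (.leaf 1138166587651)) (.leaf 420906895365))) (.node (.node (.node (.leaf 3221270030) (.leaf 312995982726)) (.leaf 488552691457)) (.node (.leaf 485331420288) (.leaf 651224518024)))) (.node (.node (.node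 (.node (.leaf 129922791687) (.leaf 989990197900)) (.leaf 756451295492)) (.node (.leaf 144418365958) (.leaf 446676783118))) (.node (.node (.node (.leaf 272193617033) (.leaf 1091995683214)) (.leaf 484794632193)) (.node (.leaf 625991584646) (.leaf 579820793870)))))) (.node (.node (.node (.node (.node (.node (.leaf 32749133443) (.leaf 766651879306)) (.leaf 688268640898)) (.node (.node (.leaf 84825660174) (.leaf 1129576668292)) (.leaf 626528548238))) (.node (.node (.node (.leaf 199716021517) (.leaf 1028644820489)) (.leaf 802622204803)) (.node (.leaf 438623639821) (.leaf 500363809422)))) (.node (.node (.node (.node (.leaf 103616110727) (.leaf 409095866379)) (.leaf 734439582861)) (.node (.leaf 182536152581) (.leaf 490163252611))) (.node (.node (.node (.leaf 7516251400) (.leaf 920733872512)) (.leaf 471372743821)) (.node (.leaf 594853092226) (.leaf 866509858307))))) (.node (.node (.node (.node (.node (.leaf 69256360961) (.leaf 945966772613)) (.leaf 534723528579)) (.node (.node (.leaf 364535436293) (.leaf 469762321162)) (.leaf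 732292034434))) (.node (.node (.node (.leaf 68719480590) (.leaf 988916468366)) (.leaf 323196486659)) (.node (.leaf 531502329728) (.leaf 847719275528)))) (.node (.node (.node (.node (.leaf 153545115915) (.leaf 1000190702858)) (.leaf 774704859910)) (.node (.leaf 389768374411) (.leaf 578210081792))) (.node (.node (.node (.leaf 10200619904) (.leaf 1106491213449)) (.leaf 541702909445)) (.node (.leaf 653372009602) (.leaf 889595313290))))))
def dF_113 : BT := .node (.node (.node (.node (.node (.node (.node (.leaf 18253615493) (.leaf 899258915853)) (.leaf 640487162503)) (.node (.node (.leaf 78383160590) (.leaf 1116691765892)) (.leaf 467614661761))) (.node (.node (.node (.leaf 187904849420) (.leaf 1018981234060)) (.leaf 520228075659)) (.node (.leaf 419296282369) (.leaf 441844842253)))) (.node (.node (.node (.node (.leaf 99321142402) (.leaf 454193021707)) (.leaf 679141878402)) (.node (.node (.leaf 149787033732) (.leaf 923955115403)) (.leaf 643171459470))) (.node (.node (.node (.leaf 221727739523) (.leaf 1071057687815)) (.leaf 612569820686))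 (.node (.leaf 586800046724) (.leaf 511101314442))))) (.node (.node (.node (.node (.node (.leaf 46170904576) (.leaf 929323657608)) (.leaf 566398967174)) (.node (.node (.leaf 341986854539) (.leaf 1141387831169)) (.leaf 421443792780))) (.node (.node (.node (.leaf 11274291598) (.leaf 1049046012293)) (.leaf 825170788233)) (.node (.leaf 501974409351) (.leaf 540092242056)))) (.node (.node (.node (.node (.leaf 73014478474) (.leaf 638876622475)) (.leaf 554050964226)) (.node (.leaf 384936492548) (.leaf 452045411200))) (.node (.node (.node (.leaf 288299748613) (.leaf 305479811340)) (.leaf 656056412672)) (.node (.leaf 575525768199) (.leaf 882079120002)))))) (.node (.node (.node (.node (.node (.node (.leaf 37044101892) (.leaf 925028802060)) (.leaf 694174254848)) (.node (.node (.leaf 325343851019) (.leaf 1136019106957)) (.leaf 469762159879))) (.node (.node (.node (.leaf 213674674048) (.leaf 1003411955075)) (.leaf 748935117964)) (.node (.leaf 457950997248) (.leaf 456340427907)))) (.node (.node (.node (.node (.leaf 119185370883) (.leaf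 984621479174)) (.leaf 606664306050)) (.node (.leaf 179314968327) (.leaf 761283096321))) (.node (.node (.node (.leaf 262529936653) (.leaf 1091458824461)) (.leaf 743566341518)) (.node (.leaf 616327953930) (.leaf 871878483457))))) (.node (.node (.node (.node (.node (.leaf 57982075522) (.leaf 488552753419)) (.leaf 521301766918)) (.node (.node (.leaf 352187389703) (.leaf 1149440744969)) (.leaf 846108759040))) (.node (.node (.node (.leaf 7516193664) (.leaf 1064615272322)) (.leaf 844498046219)) (.node (.leaf 550829687172) (.leaf 563714592004)))) (.node (.node (.node (.node (.leaf 170724990860) (.leaf 921270726151)) (.leaf 594853155459)) (.node (.leaf 181462462082) (.leaf 763430634633))) (.node (.node (.node (.leaf 305479623563) (.leaf 1108101816578)) (.leaf 400505795849)) (.node (.leaf 523449297031) (.leaf 865972993798))))))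
def dF_114 : BT := .node dF_112 dF_113
def dF_115 : BT := .node dF_111 dF_114
def dF_116 : BT := .node (.node (.node (.node (.node (.node (.node (.leaf 8053065728) (.leaf 754303845126)) (.leaf 531502362631)) (.node (.node (.leaf 268435532685) (.leaf 961536068609)) (.leaf 524522992526))) (.node (.node (.node (.leaf 178241185025) (.leaf 345208237964)) (.leaf 656593225869)) (.node (.leaf 178778108422) (.leaf 580357574405)))) (.node (.node (.node (.node (.leaf 89657445381) (.leaf 956167317390)) (.leaf 420370038659)) (.node (.node (.leaf 208305994638) (.leaf 1152662122885)) (.leaf 459561637760))) (.node (.node (.node (.leaf 178241194765) (.leaf 1067836498688)) (.leaf 419296282379)) (.node (.leaf 142807798669) (.leaf 742492648328))))) (.node (.node (.node (.node (.node (.leaf 5368717833) (.leaf 915901994242)) (.leaf 557809031174)) (.node (.node (.leaf 338228753549) (.leaf 1137092697225)) (.leaf 626528548101))) (.node (.node (.node (.leaf 72477599365) (.leaf 826244561282)) (.leaf 804769685891)) (.node (.leaf 479962709892) (.leaf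 642097777924)))) (.node (.node (.node (.node (.leaf 133680888962) (.leaf 979252766349)) (.leaf 529891768070)) (.node (.leaf 379030947333) (.leaf 391915931142))) (.node (.node (.node (.leaf 229780807950) (.leaf 1098438133259)) (.leaf 675920669070)) (.node (.leaf 625991632773) (.leaf 881542144141)))))) (.node (.node (.node (.node (.node (.node (.leaf 27380423172) (.leaf 802622230148)) (.leaf 492847627650)) (.node (.node (.leaf 92341817870) (.leaf 1120986731530)) (.leaf 601832440334))) (.node (.node (.node (.leaf 177167447813) (.leaf 344134500238)) (.leaf 668941346574)) (.node (.leaf 430570574090) (.leaf 431107481612)))) (.node (.node (.node (.node (.leaf 107911079047) (.leaf 970125946117)) (.leaf 481036510222)) (.node (.leaf 303868942219) (.leaf 544387234696))) (.node (.node (.node (.leaf 235686386567) (.leaf 1067299627520)) (.leaf 399968941698)) (.node (.leaf 595389983492) (.leaf 641560946189))))) (.node (.node (.node (.node (.node (.leaf 20401105164) (.leaf 937376835973)) (.leaf 471372758406)) (.node (.node (.leaf 358629852427)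 (.leaf 1144072186243)) (.leaf 821412691460))) (.node (.node (.node (.leaf 16106167182) (.leaf 1038845315979)) (.leaf 562640913162)) (.node (.leaf 525059877248) (.leaf 631360347141)))) (.node (.node (.node (.node (.leaf 142807698560) (.leaf 923418207751)) (.leaf 757524963589)) (.node (.leaf 388694631685) (.leaf 451508557831))) (.node (.node (.node (.leaf 299037169795) (.leaf 1100585630211)) (.leaf 542239666957)) (.node (.leaf 508416908420) (.leaf 397284686851))))))
def dF_117 : BT := .node (.node (.node (.node (.node (.node (.node (.leaf 5905581443) (.leaf 586263251457)) (.leaf 688805544453)) (.node (.node (.leaf 107374256392) (.leaf 1120449852036)) (.leaf 676457523342))) (.node (.node (.node (.leaf 130996540684) (.leaf 1016833659784)) (.leaf 475667785869)) (.node (.leaf 398358263683) (.leaf 767188716046)))) (.node (.node (.node (.node (.leaf 91804947968) (.leaf 964757178499)) (.leaf 725312775171)) (.node (.node (.leaf 30601645696) (.leaf 1151588381837)) (.leaf 501974432393))) (.node (.node (.node (.leaf 226022707843)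 (.leaf 1073205170435)) (.leaf 409095782286)) (.node (.leaf 586800046853) (.leaf 857919922052))))) (.node (.node (.node (.node (.node (.leaf 19864235662) (.leaf 931471138056)) (.leaf 431644379649)) (.node (.node (.leaf 343597466625) (.leaf 912680822277)) (.leaf 410706391180))) (.node (.node (.node (.leaf 37044093452) (.leaf 1040456075653)) (.leaf 823560175367)) (.node (.leaf 341450019724) (.leaf 459024752133)))) (.node (.node (.node (.node (.leaf 135291502086) (.leaf 912680787457)) (.leaf 765578103173)) (.node (.leaf 382252181003) (.leaf 548145321989))) (.node (.node (.node (.leaf 278099199493) (.leaf 1087700565641)) (.leaf 806917178759)) (.node (.leaf 442381750406) (.leaf 882615909128)))))) (.node (.node (.node (.node (.node (.node (.leaf 33822876038) (.leaf 916438865421)) (.leaf 450434849155)) (.node (.node (.leaf 325343850376) (.leaf 1129039755779)) (.leaf 620086001792))) (.node (.node (.node (.leaf 192736706955) (.leaf 1020591777545)) (.leaf 818191465100)) (.node (.leaf 450434802693) (.leaf 508416895502)))) (.node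 (.node (.node (.node (.leaf 124017210242) (.leaf 985695229572)) (.leaf 739808262275)) (.node (.leaf 306016492803) (.leaf 150860877453))) (.node (.node (.node (.leaf 255550615173) (.leaf 1085553242886)) (.leaf 404800839939)) (.node (.leaf 617401643653) (.leaf 177167608455))))) (.node (.node (.node (.node (.node (.leaf 3221225997) (.leaf 936303093763)) (.leaf 714575296006)) (.node (.node (.leaf 151397680002) (.leaf 1148367154692)) (.leaf 812822710021))) (.node (.node (.node (.leaf 54223969166) (.leaf 1061394046215)) (.leaf 469762248334)) (.node (.leaf 537944769030) (.leaf 830002627850)))) (.node (.node (.node (.node (.leaf 73014471428) (.leaf 1005559374600)) (.leaf 778999828867)) (.node (.leaf 392452730378) (.leaf 635655262981))) (.node (.node (.node (.leaf 305479623047) (.leaf 1111323052686)) (.leaf 401042764548)) (.node (.leaf 615791095042) (.leaf 893890275206))))))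
def dF_118 : BT := .node dF_116 dF_117
def dF_119 : BT := .node (.node (.node (.node (.node (.node (.node (.leaf 14495518083) (.leaf 898722072072)) (.leaf 541166040706)) (.node (.node (.leaf 25769860101) (.leaf 987842745216)) (.leaf 540092331523))) (.node (.node (.node (.leaf 147102673281) (.leaf 921270705029)) (.leaf 344671301134)) (.node (.leaf 407485119492) (.leaf 494995114892)))) (.node (.node (.node (.node (.leaf 82678140163) (.leaf 957241064707)) (.leaf 671088788231)) (.node (.node (.leaf 23085450894) (.leaf 1107564966665)) (.leaf 779536704645))) (.node (.node (.node (.leaf 29527955840) (.leaf 1003948863232)) (.leaf 466540994822)) (.node (.leaf 429496865795) (.leaf 398895290502))))) (.node (.node (.node (.node (.node (.leaf 42412812167) (.leaf 919659998090)) (.leaf 570157076739)) (.node (.node (.leaf 337691885317) (.leaf 416075228041)) (.leaf 609885468039))) (.node (.node (.node (.leaf 9126835214) (.leaf 489626519053)) (.leaf 392452738445)) (.node (.leaf 422517522435) (.leaf 642097719947)))) (.node (.node (.node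 (.node (.leaf 137975857413) (.leaf 988916456718)) (.leaf 754303747202)) (.node (.leaf 380104696578) (.leaf 634044680718))) (.node (.node (.node (.leaf 275951714696) (.leaf 651224676489)) (.leaf 411243314444)) (.node (.leaf 637265924612) (.leaf 650687755652)))))) (.node (.node (.node (.node (.node (.node (.leaf 28454165123) (.leaf 911069973004)) (.leaf 549755965571)) (.node (.node (.leaf 25233009802) (.leaf 925028851851)) (.leaf 415001313920))) (.node (.node (.node (.leaf 201326600717) (.leaf 970662851717)) (.leaf 803159070979)) (.node (.leaf 180925603846) (.leaf 691489866756)))) (.node (.node (.node (.node (.leaf 109521692289) (.leaf 909996427393)) (.leaf 743029519500)) (.node (.leaf 183073052297) (.leaf 570693922177))) (.node (.node (.node (.leaf 218506520201) (.leaf 1081795145603)) (.leaf 467614677774)) (.node (.leaf 601295564810) (.leaf 702227359244))))) (.node (.node (.node (.node (.node (.leaf 13421787662) (.leaf 950798611841)) (.leaf 472446573442)) (.node (.node (.leaf 373125290885) (.leaf 1146756540941)) (.leaf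 423591340801))) (.node (.node (.node (.leaf 21474846478) (.leaf 1055488464773)) (.leaf 833760725252)) (.node (.leaf 536871040135) (.leaf 532039257738)))) (.node (.node (.node (.node (.leaf 156229461389) (.leaf 1005559458060)) (.leaf 771483633670)) (.node (.leaf 390842116869) (.leaf 494995113602))) (.node (.node (.node (.leaf 307090234626) (.leaf 1105954342406)) (.leaf 419833209605)) (.node (.leaf 597000576386) (.leaf 885300346242))))))
def dF_120 : BT := .node (.node (.node (.node (.node (.node (.node (.leaf 25232938886) (.leaf 905164574094)) (.leaf 579820748294)) (.node (.node (.leaf 97710530702) (.leaf 1086090123021)) (.leaf 529891687558))) (.node (.node (.node (.leaf 191126090632) (.leaf 1027571170700)) (.leaf 517543706496)) (.node (.leaf 426812476932) (.leaf 639413395463)))) (.node (.node (.node (.node (.leaf 95563045127) (.leaf 410169607939)) (.leaf 627602197763)) (.node (.node (.leaf 151397631492) (.leaf 1144072189580)) (.leaf 590021249030))) (.node (.node (.node (.leaf 235686386689) (.leaf 821412752648)) (.leaf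 468688464142)) (.node (.leaf 572841344771) (.leaf 506806345614))))) (.node (.node (.node (.node (.node (.leaf 57445201416) (.leaf 933618551436)) (.leaf 709206643972)) (.node (.node (.leaf 352724273418) (.leaf 909459596936)) (.leaf 526670479488))) (.node (.node (.node (.leaf 200789755534) (.leaf 1054414722571)) (.leaf 825707659658)) (.node (.leaf 515396198532) (.leaf 494995182986)))) (.node (.node (.node (.node (.leaf 145492051976) (.leaf 997506392452)) (.leaf 764504317314)) (.node (.leaf 386010191880) (.leaf 578746981006))) (.node (.node (.node (.leaf 296889685253) (.leaf 1103806858382)) (.leaf 727460278029)) (.node (.leaf 492847601283) (.leaf 885837216389)))))) (.node (.node (.node (.node (.node (.node (.leaf 38654714882) (.leaf 588410740872)) (.leaf 452045441671)) (.node (.node (.leaf 330712517508) (.leaf 1129039798540)) (.leaf 532576141953))) (.node (.node (.node (.leaf 68719520526) (.leaf 1034550494211)) (.leaf 481036531328)) (.node (.leaf 464393449729) (.leaf 565862080647)))) (.node (.node (.node (.node (.leaf 114890402563)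 (.leaf 921270719118)) (.leaf 746787616780)) (.node (.leaf 339302499077) (.leaf 423054409227))) (.node (.node (.node (.leaf 12884955150) (.leaf 1100048749965)) (.leaf 472446581891)) (.node (.leaf 602369306885) (.leaf 451508645133))))) (.node (.node (.node (.node (.node (.leaf 12884919434) (.leaf 896037779077)) (.leaf 603979886211)) (.node (.node (.leaf 349503047168) (.leaf 950798659466)) (.leaf 424128121608))) (.node (.node (.node (.leaf 34359751811) (.leaf 1060320286726)) (.leaf 666257003533)) (.node (.leaf 557272139652) (.leaf 701153530243)))) (.node (.node (.node (.node (.leaf 129385930510) (.leaf 440234389257)) (.leaf 192199973133)) (.node (.leaf 348966186881) (.leaf 496605757063))) (.node (.node (.node (.leaf 311385204096) (.leaf 1112396795008)) (.leaf 443455489672)) (.node (.leaf 520764941831) (.leaf 890132185472))))))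
def dF_121 : BT := .node dF_119 dF_120
def dF_122 : BT := .node dF_118 dF_121
def dF_123 : BT := .node dF_115 dF_122
def dF_124 : BT := .node dF_108 dF_123
def dF_125 : BT := .node dF_93 dF_124
def dF_126 : BT := .node dF_62 dF_125
def dF_127 : BT := .node (.node (.node (.node (.node (.node (.node (.leaf 2) (.leaf 894964023685)) (.leaf 667867573889)) (.node (.node (.leaf 316217040649) (.leaf 1114007408132)) (.leaf 554050941704))) (.node (.node (.node (.leaf 127775317390) (.leaf 1012001778817)) (.leaf 783831718532)) (.node (.leaf 395137085445) (.leaf 496605745164)))) (.node (.node (.node (.node (.leaf 74088203649) (.leaf 952946096140)) (.leaf 604516815495)) (.node (.node (.leaf 15569274382) (.leaf 1149977767936)) (.leaf 814433367561))) (.node (.node (.node (.leaf 59055842445) (.leaf 631360445320)) (.leaf 847182501255)) (.node (.leaf 558882752768) (.leaf 565862076296))))) (.node (.node (.node (.node (.node (.leaf 38117843847) (.leaf 913217619208)) (.leaf 695784843271)) (.node (.node (.leaf 331249355914) (.leaf 1034013647105))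 (.leaf 532575981190))) (.node (.node (.node (.leaf 68719524362) (.leaf 1036161107329)) (.leaf 782757978638)) (.node (.leaf 466004062853) (.leaf 565862093709)))) (.node (.node (.node (.node (.leaf 114353531526) (.leaf 896037786759)) (.leaf 748398229893)) (.node (.leaf 151934550787) (.leaf 644782048910))) (.node (.node (.node (.leaf 221190818052) (.leaf 1100048760962)) (.leaf 472983475981)) (.node (.leaf 603443000454) (.leaf 651224624387)))))) (.node (.node (.node (.node (.node (.node (.leaf 24159196807) (.leaf 905164573957)) (.leaf 493921402118)) (.node (.node (.leaf 103079272973) (.leaf 1020591872398)) (.leaf 610959243662))) (.node (.node (.node (.leaf 192736703496) (.leaf 1029181783813)) (.leaf 399968925185)) (.node (.leaf 428423086093) (.leaf 442918621317)))) (.node (.node (.node (.node (.leaf 94489303043) (.leaf 969052227342)) (.leaf 628139128582)) (.node (.node (.leaf 7516194565) (.leaf 1158030833283)) (.leaf 448287318274))) (.node (.node (.node (.leaf 237296999813) (.leaf 1069446955018)) (.leaf 471372847886)) (.node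 (.leaf 572841399822) (.leaf 383862906382))))) (.node (.node (.node (.node (.node (.leaf 56908330502) (.leaf 933618636936)) (.leaf 710817257088)) (.node (.node (.leaf 352187402498) (.leaf 1143535172353)) (.leaf 526670479498))) (.node (.node (.node (.leaf 36507239170) (.leaf 1053877851521)) (.leaf 825170788741)) (.node (.leaf 461172236418) (.leaf 847182478731)))) (.node (.node (.node (.node (.leaf 142807697414) (.leaf 999117005580)) (.leaf 763967426051)) (.node (.leaf 386010277767) (.leaf 459561638798))) (.node (.node (.node (.leaf 22011778437) (.leaf 1103806842498)) (.leaf 673773192846)) (.node (.leaf 579283831938) (.leaf 887447716745))))))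
def dF_128 : BT := .node (.node (.node (.node (.node (.node (.node (.leaf 12884904962) (.leaf 781147391364)) (.leaf 675920606982)) (.node (.node (.leaf 84825659790) (.leaf 1120449860486)) (.leaf 753766952078))) (.node (.node (.node (.leaf 145492060811) (.leaf 954019838080)) (.leaf 709743388558)) (.node (.leaf 409095732608) (.leaf 432718119182)))) (.node (.node (.node (.node (.leaf 81067527042) (.leaf 958851677190)) (.leaf 534186729986)) (.node (.node (.leaf 208305996168) (.leaf 1147830285068)) (.leaf 514859302923))) (.node (.node (.node (.leaf 74625112460) (.leaf 1079647622284)) (.leaf 466541013389)) (.node (.leaf 571230786568) (.leaf 850940598405))))) (.node (.node (.node (.node (.node (.leaf 41339070086) (.leaf 915365124485)) (.leaf 460098507399)) (.node (.node (.leaf 336618143497) (.leaf 935229399941)) (.leaf 468688451843))) (.node (.node (.node (.leaf 43486581646) (.leaf 459024877058)) (.leaf 627602245771)) (.node (.leaf 483183921670) (.leaf 154618931980)))) (.node (.node (.node (.node (.leaf 139586470540) (.leaf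 988379585678)) (.leaf 753766889223)) (.node (.leaf 73551405830) (.leaf 646929612037))) (.node (.node (.node (.leaf 9126871560) (.leaf 1089311294604)) (.leaf 665720110338)) (.node (.leaf 638876537728) (.leaf 870804829570)))))) (.node (.node (.node (.node (.node (.node (.leaf 26843552260) (.leaf 911070120713)) (.leaf 635655290754)) (.node (.node (.leaf 303869013120) (.leaf 1133871586689)) (.leaf 810675270286))) (.node (.node (.node (.leaf 201863511178) (.leaf 1020054977025)) (.leaf 807454044292)) (.node (.leaf 446676634755) (.leaf 641560845699)))) (.node (.node (.node (.node (.leaf 111132305413) (.leaf 461172344968)) (.leaf 744640132612)) (.node (.leaf 304942752014) (.leaf 697932366606))) (.node (.node (.node (.leaf 248034420229) (.leaf 1081795029387)) (.leaf 529891782540)) (.node (.leaf 601832435969) (.leaf 865972987528))))) (.node (.node (.node (.node (.node (.leaf 27917292812) (.leaf 950798591369)) (.leaf 613643623175)) (.node (.node (.leaf 374199115020) (.leaf 566399085579)) (.leaf 665183254154))) (.node (.node (.node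 (.leaf 15032418829) (.leaf 1057099077889)) (.leaf 835371338381)) (.node (.leaf 538481653252) (.leaf 598074293515)))) (.node (.node (.node (.node (.leaf 156766343812) (.leaf 1007170071173)) (.leaf 770409891590)) (.node (.leaf 388157762567) (.leaf 494995087750))) (.node (.node (.node (.leaf 10200620683) (.leaf 1105954342157)) (.leaf 663572608773)) (.node (.leaf 513785572231) (.leaf 852551220615))))))
def dF_129 : BT := .node dF_127 dF_128
def dF_130 : BT := .node (.node (.node (.node (.node (.node (.node (.leaf 9663678852) (.leaf 896574550792)) (.leaf 671088766979)) (.node (.node (.leaf 76772594574) (.leaf 1112396794888)) (.leaf 612032966030))) (.node (.node (.node (.leaf 176093701634) (.leaf 1005022589059)) (.leaf 345745042444)) (.node (.leaf 397284569608) (.leaf 440234252942)))) (.node (.node (.node (.node (.leaf 89657463682) (.leaf 951872353923)) (.leaf 719407193732)) (.node (.node (.leaf 329638823173) (.leaf 1152662122887)) (.leaf 459561684229))) (.node (.node (.node (.leaf 218506513409) (.leaf 1069447111812)) (.leaf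 534186673934)) (.node (.leaf 564251462787) (.leaf 516469959560))))) (.node (.node (.node (.node (.node (.leaf 5368715277) (.leaf 915901916169)) (.leaf 646392711554)) (.node (.node (.leaf 338765626378) (.leaf 1137629733889)) (.leaf 626528436493))) (.node (.node (.node (.leaf 4295012110) (.leaf 826244567180)) (.leaf 784368591745)) (.node (.leaf 474593996290) (.leaf 529354872202)))) (.node (.node (.node (.node (.leaf 133144017923) (.leaf 933618749447)) (.leaf 475130934915)) (.node (.leaf 143344623879) (.leaf 154082092942))) (.node (.node (.node (.leaf 8053128074) (.leaf 385473576716)) (.leaf 675383798286)) (.node (.leaf 627602245900) (.leaf 640487208193)))))) (.node (.node (.node (.node (.node (.node (.leaf 28991036300) (.leaf 532576161417)) (.leaf 437013052931)) (.node (.node (.leaf 88583772299) (.leaf 1060320320260)) (.leaf 381715319437))) (.node (.node (.node (.leaf 197568541707) (.leaf 1029181777924)) (.leaf 667330733454)) (.node (.leaf 431644316292) (.leaf 445066138761)))) (.node (.node (.node (.node (.leaf 106837336966)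 (.leaf 512175081351)) (.leaf 724775815810)) (.node (.leaf 305479622798) (.leaf 544387269645))) (.node (.node (.node (.leaf 235686386562) (.leaf 1067836376457)) (.leaf 399968954631)) (.node (.leaf 597000596608) (.leaf 866509858695))))) (.node (.node (.node (.node (.node (.leaf 62277040781) (.leaf 938987449101)) (.leaf 613643550211)) (.node (.node (.leaf 343597469189) (.leaf 1144609057286)) (.leaf 729070889732))) (.node (.node (.node (.leaf 144418318212) (.leaf 935766247436)) (.leaf 486942114572)) (.node (.leaf 526670490372) (.leaf 507880018692)))) (.node (.node (.node (.node (.leaf 143881440393) (.leaf 995895753608)) (.leaf 770409942532)) (.node (.leaf 389231503621) (.leaf 433254930434))) (.node (.node (.node (.leaf 301721519497) (.leaf 1101659365514)) (.leaf 419833209486)) (.node (.leaf 650150829580) (.leaf 530965543940))))))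
def dF_131 : BT := .node (.node (.node (.node (.node (.node (.node (.leaf 4294968322) (.leaf 890669058062)) (.leaf 690416157569)) (.node (.node (.leaf 25232958222) (.leaf 1121523602691)) (.leaf 627602288781))) (.node (.node (.node (.leaf 54760877070) (.leaf 1017370472077)) (.leaf 529354864781)) (.node (.leaf 398895182988) (.leaf 766651697549)))) (.node (.node (.node (.node (.leaf 93415561092) (.leaf 964757208710)) (.leaf 726923388292)) (.node (.node (.leaf 245886936846) (.leaf 609885631752)) (.leaf 502511293321))) (.node (.node (.node (.leaf 224948965767) (.leaf 1073205092235)) (.leaf 524523058945)) (.node (.leaf 150860866438) (.leaf 859530535180))))) (.node (.node (.node (.node (.node (.leaf 19327364366) (.leaf 931471254400)) (.leaf 508953745930)) (.node (.node (.leaf 348429303179) (.leaf 1000190780931)) (.leaf 845571835406))) (.node (.node (.node (.leaf 31138523776) (.leaf 1042066688781)) (.leaf 824097046401)) (.node (.leaf 503048164612) (.leaf 458487868295)))) (.node (.node (.node (.node (.leaf 134217760142) (.leaf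 498753314314)) (.leaf 767188716300)) (.node (.leaf 380641568133) (.leaf 592705649934))) (.node (.node (.node (.leaf 21474903680) (.leaf 1039382344846)) (.leaf 786516074382)) (.node (.leaf 497679440643) (.leaf 882615899147)))))) (.node (.node (.node (.node (.node (.node (.leaf 36507230469) (.leaf 918049478532)) (.leaf 450971686662)) (.node (.node (.leaf 13421850505) (.leaf 1129039761542)) (.leaf 620085995523))) (.node (.node (.node (.leaf 25769853450) (.leaf 1020591821965)) (.leaf 819802078213)) (.node (.leaf 452045415809) (.leaf 444529270158)))) (.node (.node (.node (.node (.leaf 122943468166) (.leaf 987305842688)) (.leaf 608811790210)) (.node (.leaf 312458943616) (.leaf 180925601549))) (.node (.node (.node (.leaf 226022714124) (.leaf 1085553238280)) (.leaf 722091554816)) (.node (.leaf 617401696008) (.leaf 870267913860))))) (.node (.node (.node (.node (.node (.leaf 70330103297) (.leaf 562104068104)) (.leaf 408022005123)) (.node (.node (.leaf 149787066626) (.leaf 598074469897)) (.leaf 469762145152))) (.node (.node (.node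 (.leaf 21474843788) (.leaf 1063004659332)) (.leaf 479425924366)) (.node (.leaf 543850363648) (.leaf 415001313930)))) (.node (.node (.node (.node (.leaf 166430022403) (.leaf 1005559426443)) (.leaf 778462964866)) (.node (.leaf 345744961029) (.leaf 557272202376))) (.node (.node (.node (.leaf 311385201929) (.leaf 1110786171650)) (.leaf 401042718220)) (.node (.leaf 666256899971) (.leaf 866509865092))))))
def dF_132 : BT := .node dF_130 dF_131
def dF_133 : BT := .node dF_129 dF_132
def dF_134 : BT := .node (.node (.node (.node (.node (.node (.node (.leaf 1073742212) (.leaf 896037765768)) (.leaf 667330653702)) (.node (.node (.leaf 309774592256) (.leaf 1115081149058)) (.leaf 622770369166))) (.node (.node (.node (.leaf 176093696005) (.leaf 409632747523)) (.leaf 790274171013)) (.node (.leaf 56908411138) (.leaf 581968207246)))) (.node (.node (.node (.node (.leaf 82678140289) (.leaf 951872354945)) (.leaf 607737968774)) (.node (.node (.leaf 13958647429) (.leaf 1151051509901)) (.leaf 573915114638))) (.node (.node (.node (.leaf 100394867845)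 (.leaf 467077947658)) (.leaf 623307309326)) (.node (.leaf 564251463175) (.leaf 151934610829))))) (.node (.node (.node (.node (.node (.leaf 45097167501) (.leaf 927176285070)) (.leaf 692026722308)) (.node (.node (.leaf 331249432581) (.leaf 1136555991685)) (.leaf 613643562880))) (.node (.node (.node (.leaf 99857990540) (.leaf 1003411981058)) (.leaf 812822607116)) (.node (.leaf 412316973443) (.leaf 443992386444)))) (.node (.node (.node (.node (.leaf 127238436620) (.leaf 919123234816)) (.leaf 748935082243)) (.node (.leaf 347355529606) (.leaf 391915885966))) (.node (.node (.node (.leaf 230317684365) (.leaf 1098974998410)) (.leaf 670015090690)) (.node (.leaf 611496117517) (.leaf 874562924291)))))) (.node (.node (.node (.node (.node (.node (.leaf 19864228487) (.leaf 828928904704)) (.leaf 490163272454)) (.node (.node (.leaf 255013744270) (.leaf 1110786184840)) (.leaf 530965529216))) (.node (.node (.node (.leaf 194884183945) (.leaf 915902022284)) (.leaf 800474720772)) (.node (.leaf 178241245319) (.leaf 767725512448)))) (.node (.node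 (.node (.node (.leaf 103616110852) (.leaf 966904742798)) (.leaf 625454786179)) (.node (.leaf 299037169550) (.leaf 433254979724))) (.node (.node (.node (.leaf 238370741766) (.leaf 1067836352395)) (.leaf 469762217990)) (.node (.leaf 591631886213) (.leaf 854161755908))))) (.node (.node (.node (.node (.node (.leaf 58518943498) (.leaf 852014360326)) (.leaf 615791107331)) (.node (.node (.leaf 340913113985) (.leaf 1142998444165)) (.leaf 624917940097))) (.node (.node (.node (.leaf 55834582284) (.leaf 1039382335886)) (.leaf 827318168579)) (.node (.leaf 518080553732) (.leaf 490700155273)))) (.node (.node (.node (.node (.leaf 142270827019) (.leaf 1004485694470)) (.leaf 632970986502)) (.node (.leaf 347355572362) (.leaf 493921356679))) (.node (.node (.node (.leaf 11811231627) (.leaf 1101659341063)) (.leaf 543313531534)) (.node (.leaf 642634621958) (.leaf 398895299469))))))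
def dF_135 : BT := .node (.node (.node (.node (.node (.node (.node (.leaf 8589936642) (.leaf 651761502851)) (.leaf 681826220929)) (.node (.node (.leaf 86973146632) (.leaf 1117228627459)) (.leaf 521301813764))) (.node (.node (.node (.leaf 164282529677) (.leaf 930397532805)) (.leaf 403727022090)) (.node (.leaf 413390700686) (.leaf 498216346626)))) (.node (.node (.node (.node (.leaf 76772558722) (.leaf 813896532361)) (.leaf 529891761666)) (.node (.node (.leaf 21474850569) (.leaf 1155346478086)) (.leaf 460635376780))) (.node (.node (.node (.leaf 229243934087) (.leaf 1078037045646)) (.leaf 488015786501)) (.node (.leaf 579820723341) (.leaf 852014260488))))) (.node (.node (.node (.node (.node (.leaf 53687104132) (.leaf 916438868748)) (.leaf 700616694918)) (.node (.node (.leaf 345744948489) (.leaf 1139777201541)) (.leaf 423054389133))) (.node (.node (.node (.leaf 140123335694) (.leaf 958851696397)) (.leaf 784905386497)) (.node (.leaf 496068841089) (.leaf 513248727300)))) (.node (.node (.node (.node (.leaf 139586470402) (.leaf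 923418188937)) (.leaf 758598779661)) (.node (.leaf 383325921801) (.leaf 506269373441))) (.node (.node (.node (.leaf 154082017921) (.leaf 343597643149)) (.leaf 478352175363)) (.node (.leaf 639950266374) (.leaf 702227363977)))))) (.node (.node (.node (.node (.node (.node (.leaf 34896617349) (.leaf 912680767501)) (.leaf 495531956487)) (.node (.node (.leaf 323733195393) (.leaf 1131723980041)) (.leaf 627065317389))) (.node (.node (.node (.leaf 205084736905) (.leaf 1024349806985)) (.leaf 447213663627)) (.node (.leaf 431107425667) (.leaf 689879233290)))) (.node (.node (.node (.node (.leaf 119722242053) (.leaf 978715906048)) (.leaf 741955746435)) (.node (.leaf 148713313796) (.leaf 571230831630))) (.node (.node (.node (.leaf 250181904900) (.leaf 1037771731596)) (.leaf 619012273027)) (.node (.leaf 610422372609) (.leaf 179315091970))))) (.node (.node (.node (.node (.node (.leaf 68719490049) (.leaf 936839966990)) (.leaf 521301825154)) (.node (.node (.leaf 378494082949) (.leaf 511638252811)) (.leaf 751082580996))) (.node (.node (.node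 (.leaf 16106131208) (.leaf 1038845466240)) (.leaf 843961275021)) (.node (.leaf 535260346374) (.leaf 480499588363)))) (.node (.node (.node (.node (.leaf 164282538373) (.leaf 528818088970)) (.leaf 780073621249)) (.node (.leaf 387620891915) (.leaf 461172234371))) (.node (.node (.node (.leaf 309237719176) (.leaf 1108638697733)) (.leaf 516469997325)) (.node (.leaf 660351379341) (.leaf 892279668611))))))
def dF_136 : BT := .node dF_134 dF_135
def dF_137 : BT := .node (.node (.node (.node (.node (.node (.node (.leaf 17179873282) (.leaf 869731091585)) (.leaf 678604994692)) (.node (.node (.leaf 38654762766) (.leaf 1034013642628)) (.leaf 533649786382))) (.node (.node (.node (.leaf 146565801985) (.leaf 980863398414)) (.leaf 402116408065)) (.node (.leaf 400505795968) (.leaf 497679468160)))) (.node (.node (.node (.node (.leaf 85362495362) (.leaf 962609774853)) (.leaf 622770372227)) (.node (.node (.leaf 55834579982) (.leaf 566935958155)) (.leaf 433255011842))) (.node (.node (.node (.leaf 227096450049) (.leaf 1078037048452)) (.leaf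 418759435648)) (.node (.leaf 565325179014) (.leaf 630823524236))))) (.node (.node (.node (.node (.node (.leaf 45634038406) (.leaf 851477485454)) (.leaf 702764191488)) (.node (.node (.leaf 340913109509) (.leaf 1138166467850)) (.leaf 744640056078))) (.node (.node (.node (.leaf 45634060933) (.leaf 312459098119)) (.leaf 730681354253)) (.node (.leaf 486942033412) (.leaf 691489890059)))) (.node (.node (.node (.node (.leaf 128849049603) (.leaf 991600811013)) (.leaf 543313543430)) (.node (.leaf 34896699916) (.leaf 491237049985))) (.node (.node (.node (.leaf 273267358985) (.leaf 1093606308366)) (.leaf 521301805069)) (.node (.leaf 630286601088) (.leaf 588410728078)))))) (.node (.node (.node (.node (.node (.node (.leaf 31138520327) (.leaf 344134471682)) (.leaf 638339645959)) (.node (.node (.leaf 74625117581) (.leaf 1131187281408)) (.leaf 179851866765))) (.node (.node (.node (.leaf 19327400576) (.leaf 351113821454)) (.leaf 802622204811)) (.node (.leaf 440234252932) (.leaf 585189400071)))) (.node (.node (.node (.node (.leaf 102005497742)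 (.leaf 929323780101)) (.leaf 736050195972)) (.node (.leaf 180388673029) (.leaf 490163235468))) (.node (.node (.node (.leaf 245886914816) (.leaf 1083942629766)) (.leaf 469225334540)) (.node (.leaf 600758564108) (.leaf 866509858693))))) (.node (.node (.node (.node (.node (.leaf 45634043917) (.leaf 947577385740)) (.leaf 661961931651)) (.node (.node (.leaf 366146049409) (.leaf 868657408779)) (.leaf 848793114115))) (.node (.node (.node (.leaf 151397646094) (.leaf 783831779336)) (.leaf 828928885765)) (.node (.leaf 533112942852) (.leaf 538481658632)))) (.node (.node (.node (.node (.leaf 154081988619) (.leaf 933618754433)) (.leaf 507343196546)) (.node (.leaf 389768316035) (.leaf 769873026062))) (.node (.node (.node (.leaf 304405871372) (.leaf 823023371523)) (.leaf 461709113607)) (.node (.leaf 598611222535) (.leaf 181462580483))))))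
def dF_138 : BT := .node (.node (.node (.node (.node (.node (.node (.leaf 19864228609) (.leaf 580357670283)) (.leaf 584115716614)) (.node (.node (.leaf 31138531461) (.leaf 452045576840)) (.leaf 467614689544))) (.node (.node (.node (.leaf 110058576653) (.leaf 1020591847173)) (.leaf 710280397057)) (.node (.leaf 408021993357) (.leaf 766651845124)))) (.node (.node (.node (.node (.leaf 98784271363) (.leaf 830002660236)) (.leaf 732292040326)) (.node (.node (.leaf 88046835598) (.leaf 1156957091203)) (.leaf 448824244494))) (.node (.node (.node (.leaf 220653997447) (.leaf 1070520841102)) (.leaf 612033011201)) (.node (.leaf 586263142023) (.leaf 341450106253))))) (.node (.node (.node (.node (.node (.leaf 55834588166) (.leaf 148713465090)) (.leaf 513248727302)) (.node (.node (.leaf 338228758149) (.leaf 1140850960398)) (.leaf 472983420292))) (.node (.node (.node (.leaf 14495542414) (.leaf 1050656625420)) (.leaf 824633917568)) (.node (.leaf 508416875011) (.leaf 675920630536)))) (.node (.node (.node (.node (.leaf 73551349379) (.leaf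 896037789442)) (.leaf 639950310019)) (.node (.leaf 384936517004) (.leaf 647466437518))) (.node (.node (.node (.leaf 289910361741) (.leaf 1101659374212)) (.leaf 517543656833)) (.node (.leaf 576599510279) (.leaf 873489185415)))))) (.node (.node (.node (.node (.node (.node (.leaf 38654715021) (.leaf 926639415172)) (.leaf 695784867972)) (.node (.node (.leaf 38654784266) (.leaf 1111859929602)) (.leaf 605053710094))) (.node (.node (.node (.leaf 215285287172) (.leaf 961536039043)) (.leaf 746787633678)) (.node (.leaf 459561610372) (.leaf 456340394375)))) (.node (.node (.node (.node (.leaf 118648499846) (.leaf 984621366923)) (.leaf 656593300610)) (.node (.leaf 348966136454) (.leaf 449361060491))) (.node (.node (.node (.leaf 260382450318) (.leaf 1093069437573)) (.leaf 539018573070)) (.node (.leaf 412853829768) (.leaf 871341612430))))) (.node (.node (.node (.node (.node (.leaf 71403848458) (.leaf 937376738697)) (.leaf 710280327686)) (.node (.node (.leaf 14495532430) (.leaf 1149977767173)) (.leaf 807990766210))) (.node (.node (.node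 (.leaf 7516235403) (.leaf 1064615245190)) (.leaf 845035009283)) (.node (.leaf 552440300288) (.leaf 767725533705)))) (.node (.node (.node (.node (.leaf 172335603973) (.leaf 1010391283972)) (.leaf 781684234373)) (.node (.leaf 137975918346) (.leaf 549755996174))) (.node (.node (.node (.leaf 306016494596) (.leaf 1108101775756)) (.leaf 401042666889)) (.node (.leaf 654982608131) (.leaf 891742791942))))))
def dF_139 : BT := .node dF_137 dF_138
def dF_140 : BT := .node dF_136 dF_139
def dF_141 : BT := .node dF_133 dF_140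
def dF_142 : BT := .node (.node (.node (.node (.node (.node (.node (.leaf 1073742081) (.leaf 718333493767)) (.leaf 672162542209)) (.node (.node (.leaf 307090237321) (.leaf 1110786182915)) (.leaf 541702909710))) (.node (.node (.node (.leaf 25232970497) (.leaf 1012001770506)) (.leaf 782757917569)) (.node (.leaf 395673869448) (.leaf 496605731973)))) (.node (.node (.node (.node (.leaf 78383171969) (.leaf 957241059981)) (.leaf 464930354434)) (.node (.node (.leaf 348429257478) (.leaf 1151051509763)) (.leaf 615791072009))) (.node (.node (.node (.leaf 15032403329) (.leaf 312995995788)) (.leaf 479425840512)) (.node (.leaf 556198371462) (.leaf 567472660493))))) (.node (.node (.node (.node (.node (.leaf 13958653580) (.leaf 914291346569)) (.leaf 693637338503)) (.node (.node (.leaf 333396915585) (.leaf 1134945337223)) (.leaf 348966219394))) (.node (.node (.node (.leaf 4294983692) (.leaf 1036161099268)) (.leaf 814433367302)) (.node (.leaf 470299031173) (.leaf 456877281152)))) (.node (.node (.node (.node (.leaf 112742918403) (.leaf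 179315116942)) (.leaf 673236302727)) (.node (.leaf 345208046085) (.leaf 182536251022))) (.node (.node (.node (.leaf 266288035980) (.leaf 935229390862)) (.leaf 624917854211)) (.node (.leaf 620086051333) (.leaf 872415438211)))))) (.node (.node (.node (.node (.node (.node (.leaf 22011712642) (.leaf 905164573444)) (.leaf 680752466950)) (.node (.node (.leaf 94489304590) (.leaf 1123671086725)) (.leaf 485868276999))) (.node (.node (.node (.leaf 191662961798) (.leaf 1033476742789)) (.leaf 796179752452)) (.node (.leaf 428959875847) (.leaf 570157047809)))) (.node (.node (.node (.node (.leaf 55834598668) (.leaf 969052156940)) (.leaf 627602270343)) (.node (.leaf 181999298958) (.leaf 448824205059))) (.node (.node (.node (.leaf 228170195085) (.leaf 1068910240526)) (.leaf 529354865154)) (.node (.leaf 572841399688) (.leaf 852551113994))))) (.node (.node (.node (.node (.node (.leaf 55834588810) (.leaf 852014360194)) (.leaf 715112225408)) (.node (.node (.leaf 348429306506) (.leaf 909459597577)) (.leaf 821412691342))) (.node (.node (.node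 (.leaf 12884912908) (.leaf 1053877829645)) (.leaf 826781303169)) (.node (.leaf 454192912902) (.leaf 631360298113)))) (.node (.node (.node (.node (.leaf 142807697669) (.leaf 1003411973901)) (.leaf 578747024771)) (.node (.leaf 346281830411) (.leaf 438086804484))) (.node (.node (.node (.leaf 299037163012) (.leaf 937913746190)) (.leaf 832686976006)) (.node (.leaf 645855861253) (.leaf 303869147911))))))
def dF_143 : BT := .node (.node (.node (.node (.node (.node (.node (.leaf 10737420802) (.leaf 903017089412)) (.leaf 539555427591)) (.node (.node (.leaf 97710561038) (.leaf 919123268238)) (.leaf 405874504837))) (.node (.node (.node (.leaf 184683637892) (.leaf 1010928168331)) (.leaf 153008366855)) (.node (.leaf 413390700928) (.leaf 441308007683)))) (.node (.node (.node (.node (.leaf 78920042882) (.leaf 814433403269)) (.leaf 621696688263)) (.node (.node (.leaf 3758185742) (.leaf 1154809607047)) (.leaf 454192977677))) (.node (.node (.node (.leaf 230854547207) (.leaf 304942935180)) (.leaf 672699363851)) (.node (.leaf 575525755021)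 (.leaf 347892553991))))) (.node (.node (.node (.node (.node (.leaf 49392135812) (.leaf 930397512455)) (.leaf 703301037191)) (.node (.node (.leaf 335544402057) (.leaf 914828305670)) (.leaf 784368528014))) (.node (.node (.node (.leaf 175556793998) (.leaf 914291410561)) (.leaf 486942074241)) (.node (.leaf 491773872769) (.leaf 597537436296)))) (.node (.node (.node (.node (.leaf 141197083527) (.leaf 923418189188)) (.leaf 752156263042)) (.node (.leaf 381715309568) (.leaf 560493374848))) (.node (.node (.node (.leaf 278099197321) (.leaf 489626531338)) (.leaf 720480956551)) (.node (.leaf 555661547014) (.leaf 883689731981)))))) (.node (.node (.node (.node (.node (.node (.leaf 536878984) (.leaf 911606926984)) (.leaf 633507838979)) (.node (.node (.leaf 323196325131) (.leaf 988379619329)) (.leaf 406411377281))) (.node (.node (.node (.leaf 196494802442) (.leaf 1020054952077)) (.leaf 811749012612)) (.node (.leaf 431107385862) (.leaf 442918619019)))) (.node (.node (.node (.node (.leaf 115427273733) (.leaf 974420937728)) (.leaf 472983450883))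 (.node (.leaf 311922075022) (.leaf 571230831502))) (.node (.node (.node (.leaf 249108162692) (.leaf 497142723081)) (.leaf 521301827214)) (.node (.leaf 606127404289) (.leaf 869194077831))))) (.node (.node (.node (.node (.node (.leaf 42412809228) (.leaf 949724680462)) (.leaf 714038470915)) (.node (.node (.leaf 376883383816) (.leaf 1147293412486)) (.leaf 535797344781))) (.node (.node (.node (.leaf 151934516746) (.leaf 1054951577605)) (.leaf 839666306700)) (.node (.leaf 542776621572) (.leaf 542239806603)))) (.node (.node (.node (.node (.leaf 156766336781) (.leaf 911070178434)) (.leaf 775778652929)) (.node (.leaf 387620891776) (.leaf 561567080961))) (.node (.node (.node (.leaf 308700847745) (.leaf 441308153611)) (.leaf 427886166157)) (.node (.leaf 656056411021) (.leaf 847719382529))))))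
def dF_144 : BT := .node dF_142 dF_143
def dF_145 : BT := .node (.node (.node (.node (.node (.node (.node (.leaf 13958647172) (.leaf 594316313611)) (.leaf 674310026372)) (.node (.node (.leaf 75698853132) (.leaf 1065689026437)) (.leaf 392452829314))) (.node (.node (.node (.leaf 179314921609) (.leaf 922881339652)) (.leaf 601295577989)) (.node (.leaf 73551409799) (.leaf 635655323790)))) (.node (.node (.node (.node (.leaf 87509979522) (.leaf 958314806531)) (.leaf 723702162052)) (.node (.node (.leaf 342523645576) (.leaf 529891865099)) (.leaf 447213612673))) (.node (.node (.node (.leaf 222801481729) (.leaf 1073742080132)) (.leaf 622233556608)) (.node (.leaf 455266667778) (.leaf 586800109446))))) (.node (.node (.node (.node (.node (.leaf 6979330313) (.leaf 916438867973)) (.leaf 698469223171)) (.node (.node (.leaf 339839368458) (.leaf 607738143882)) (.leaf 532039217156))) (.node (.node (.node (.leaf 41875960590) (.leaf 825170819078)) (.leaf 784368517248)) (.node (.leaf 482647065092) (.leaf 777389265920)))) (.node (.node (.node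 (.node (.leaf 130996533763) (.leaf 921270718730)) (.leaf 753766940288)) (.node (.leaf 379567777164) (.leaf 450434802568))) (.node (.node (.node (.leaf 271119874945) (.leaf 1093606267904)) (.leaf 473520343182)) (.node (.leaf 629212810886) (.leaf 562640925326)))))) (.node (.node (.node (.node (.node (.node (.leaf 33286000269) (.leaf 442918719234)) (.leaf 550829719427)) (.node (.node (.leaf 75698821004) (.leaf 1128502916352)) (.leaf 403727099788))) (.node (.node (.node (.leaf 194884188421) (.leaf 1028644912642)) (.leaf 481573397386)) (.node (.leaf 435939284612) (.leaf 444529220994)))) (.node (.node (.node (.node (.leaf 105226723846) (.leaf 970662657549)) (.leaf 724775904011)) (.node (.leaf 246423807367) (.leaf 544924095360))) (.node (.node (.node (.leaf 243739452292) (.leaf 1081795145740)) (.leaf 468688466701)) (.node (.leaf 461172256518) (.leaf 566935889804))))) (.node (.node (.node (.node (.node (.leaf 66572009093) (.leaf 943282417421)) (.leaf 524522978435)) (.node (.node (.leaf 361851081089) (.leaf 1145145928326)) (.leaf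 675383809548))) (.node (.node (.node (.leaf 144955195781) (.leaf 826244582542)) (.leaf 431644410759)) (.node (.leaf 528817974532) (.leaf 493921441416)))) (.node (.node (.node (.node (.leaf 148176408065) (.leaf 344134492814)) (.leaf 774704910852)) (.node (.leaf 389231504136) (.leaf 507343198087))) (.node (.node (.node (.leaf 272730495620) (.leaf 1002875127425)) (.leaf 656056383878)) (.node (.leaf 654445794829) (.leaf 889595313283))))))
def dF_146 : BT := .node (.node (.node (.node (.node (.node (.node (.leaf 2147484162) (.leaf 899258943879)) (.leaf 555124687747)) (.node (.node (.leaf 103079268878) (.leaf 1125818571013)) (.leaf 416075131776))) (.node (.node (.node (.leaf 189515477127) (.leaf 1017370496265)) (.leaf 466004126337)) (.node (.leaf 416611927173) (.leaf 441844870274)))) (.node (.node (.node (.node (.leaf 97710529412) (.leaf 543313593088)) (.leaf 731218356612)) (.node (.node (.leaf 176093723790) (.leaf 1144072189197)) (.leaf 769873071360))) (.node (.node (.node (.leaf 222264610567) (.leaf 1024349955468)) (.leaf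 714575310094)) (.node (.leaf 445602996998) (.leaf 863825503501))))) (.node (.node (.node (.node (.node (.leaf 53687104007) (.leaf 930397465483)) (.leaf 568009592579)) (.node (.node (.leaf 348429305352) (.leaf 347892622861)) (.leaf 536334141955))) (.node (.node (.node (.leaf 24159212556) (.leaf 1046361657101)) (.leaf 824633814789)) (.node (.leaf 507343132932) (.leaf 624917879434)))) (.node (.node (.node (.node (.leaf 73551349258) (.leaf 994821843213)) (.leaf 641560923142)) (.node (.leaf 384936449930) (.leaf 590021236750))) (.node (.node (.node (.leaf 285615393421) (.leaf 1086089964939)) (.leaf 405874586240)) (.node (.leaf 630286580359) (.leaf 886910958212)))))) (.node (.node (.node (.node (.node (.node (.leaf 18790486408) (.leaf 922344446852)) (.leaf 489089565828)) (.node (.node (.leaf 328028204683) (.leaf 1131724099084)) (.leaf 406948248451))) (.node (.node (.node (.leaf 210990318852) (.leaf 1022202460168)) (.leaf 794032274950)) (.node (.leaf 455266642052) (.leaf 508416887941)))) (.node (.node (.node (.node (.leaf 121332855043)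 (.leaf 916438882062)) (.leaf 658203913735)) (.node (.leaf 312995816192) (.leaf 491236920578))) (.node (.node (.node (.leaf 259845583493) (.leaf 1088774469253)) (.leaf 532039222669)) (.node (.leaf 616327954176) (.leaf 691489942534))))) (.node (.node (.node (.node (.node (.leaf 70330106376) (.leaf 387084150924)) (.leaf 468151532166)) (.node (.node (.leaf 354871757710) (.leaf 1146219671181)) (.leaf 847719372037))) (.node (.node (.node (.leaf 29527913217) (.leaf 654982766601)) (.leaf 844498046208)) (.node (.leaf 548145331968) (.leaf 733902655883)))) (.node (.node (.node (.node (.leaf 168040635651) (.leaf 1010391297409)) (.leaf 776852364679)) (.node (.leaf 393526471691) (.leaf 447750489867))) (.node (.node (.node (.leaf 306016494345) (.leaf 937913747854)) (.leaf 400505861894)) (.node (.leaf 664109415811) (.leaf 892816539530))))))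
def dF_147 : BT := .node dF_145 dF_146
def dF_148 : BT := .node dF_144 dF_147
def dF_149 : BT := .node (.node (.node (.node (.node (.node (.node (.leaf 5368710532) (.leaf 896574636805)) (.leaf 670014997635)) (.node (.node (.leaf 89657518604) (.leaf 1115081101581)) (.leaf 654982612609))) (.node (.node (.node (.leaf 177167443338) (.leaf 1013075569283)) (.leaf 734976360974)) (.node (.leaf 33822962060) (.leaf 438623717646)))) (.node (.node (.node (.node (.leaf 86973108609) (.leaf 952946092165)) (.leaf 711890974598)) (.node (.node (.leaf 31138531470) (.leaf 1028644942090)) (.leaf 556198420737))) (.node (.node (.node (.leaf 217432771209) (.leaf 653909025163)) (.leaf 478888950019)) (.node (.leaf 568546431500) (.leaf 693637345928))))) (.node (.node (.node (.node (.node (.leaf 5368713358) (.leaf 496605811850)) (.leaf 559419655939)) (.node (.node (.leaf 13958724104) (.leaf 1120449864450)) (.leaf 401579635214))) (.node (.node (.node (.leaf 12884943630) (.leaf 394063469198)) (.leaf 412317052032)) (.node (.leaf 477278354688) (.leaf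 511638132102)))) (.node (.node (.node (.node (.leaf 131533404941) (.leaf 542239852936)) (.leaf 530965510150)) (.node (.leaf 379030915840) (.leaf 431107449476))) (.node (.node (.node (.leaf 263066809742) (.leaf 1098438108929)) (.leaf 425738759821)) (.node (.leaf 620622873734) (.leaf 878857892613)))))) (.node (.node (.node (.node (.node (.node (.leaf 17716744197) (.leaf 572304608904)) (.leaf 491237014534)) (.node (.node (.leaf 107374246668) (.leaf 1120986706564)) (.leaf 425738749060))) (.node (.node (.node (.leaf 153545127425) (.leaf 1032403003278)) (.leaf 671088830734)) (.node (.leaf 429496832258) (.leaf 694174135942)))) (.node (.node (.node (.node (.leaf 107911079172) (.leaf 965831000971)) (.leaf 484794534786)) (.node (.leaf 303869008642) (.leaf 461172250510))) (.node (.node (.node (.leaf 236760128642) (.leaf 1067299618310)) (.leaf 525596766349)) (.node (.leaf 588410636166) (.leaf 849866857356))))) (.node (.node (.node (.node (.node (.leaf 8589944588) (.leaf 935229339913)) (.leaf 472446500486)) (.node (.node (.leaf 353798016265)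 (.leaf 892816599432)) (.leaf 527744255493))) (.node (.node (.node (.leaf 22548588558) (.leaf 1038845449348)) (.leaf 783831668363)) (.node (.leaf 522375522052) (.leaf 562103965952)))) (.node (.node (.node (.node (.leaf 142270827392) (.leaf 1003411973770)) (.leaf 490163323394)) (.node (.leaf 388694547338) (.leaf 433791804932))) (.node (.node (.node (.leaf 298500298754) (.leaf 1060320313869)) (.leaf 542239780356)) (.node (.leaf 449361073538) (.leaf 675383819140))))))
def dF_150 : BT := .node (.node (.node (.node (.node (.node (.node (.leaf 6442452482) (.leaf 904090831365)) (.leaf 686121189249)) (.node (.node (.leaf 95563085964) (.leaf 1116691760396)) (.leaf 467077818628))) (.node (.node (.node (.leaf 189515477249) (.leaf 1016833565965)) (.leaf 718333468942)) (.node (.leaf 398358299778) (.leaf 447213588482)))) (.node (.node (.node (.node (.leaf 74625074562) (.leaf 183073211020)) (.leaf 667867585926)) (.node (.node (.leaf 148176451470) (.leaf 1155883349122)) (.leaf 474057158280))) (.node (.node (.node (.leaf 226559578887)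 (.leaf 386010441870)) (.leaf 623844180100)) (.node (.leaf 584115691660) (.leaf 855235566861))))) (.node (.node (.node (.node (.node (.leaf 23085462028) (.leaf 930397384332)) (.leaf 697932235138)) (.node (.node (.leaf 346281821056) (.leaf 1137092863371)) (.leaf 410706375424))) (.node (.node (.node (.leaf 108984843278) (.leaf 1038308441225)) (.leaf 823023304325)) (.node (.leaf 500363809409) (.leaf 598074338439)))) (.node (.node (.node (.node (.leaf 136902115207) (.leaf 962609774606)) (.leaf 762893747981)) (.node (.leaf 382789003779) (.leaf 433791800328))) (.node (.node (.node (.leaf 281320423947) (.leaf 1087700690823)) (.leaf 809601512449)) (.node (.leaf 440771157510) (.leaf 883152860686)))))) (.node (.node (.node (.node (.node (.node (.leaf 17179877642) (.leaf 913754510212)) (.leaf 592705641095)) (.node (.node (.leaf 13421850376) (.leaf 1068373384704)) (.leaf 724239047684))) (.node (.node (.node (.leaf 207232220425) (.leaf 1020591847936)) (.leaf 815507109891)) (.node (.leaf 447750447489) (.leaf 508416899848)))) (.node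 (.node (.node (.node (.leaf 124017210373) (.leaf 983010874368)) (.leaf 740345145478)) (.node (.leaf 304942750724) (.leaf 587873830030))) (.node (.node (.node (.leaf 252866259969) (.leaf 1085016214664)) (.leaf 619549180801)) (.node (.leaf 614717340929) (.leaf 870267851021))))) (.node (.node (.node (.node (.node (.leaf 2147484165) (.leaf 935766112393)) (.leaf 656056423174)) (.node (.node (.leaf 357019193095) (.leaf 1148367154561)) (.leaf 807990817284))) (.node (.node (.node (.leaf 38654714497) (.leaf 1039382337153)) (.leaf 467077894414)) (.node (.leaf 421980665092) (.leaf 427886289545)))) (.node (.node (.node (.node (.leaf 166966893446) (.leaf 1005022469642)) (.leaf 780610449026)) (.node (.leaf 156229528965) (.leaf 579820694532))) (.node (.node (.node (.leaf 304942752006) (.leaf 937376877313)) (.leaf 462782840708)) (.node (.leaf 664646347660) (.leaf 406411493640))))))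
def dF_151 : BT := .node dF_149 dF_150
def dF_152 : BT := .node (.node (.node (.node (.node (.node (.node (.leaf 15032389122) (.leaf 869731091712)) (.leaf 427349375238)) (.node (.node (.leaf 82141307533) (.leaf 1118839247492)) (.leaf 671088682894))) (.node (.node (.node (.leaf 181999282697) (.leaf 922881338759)) (.leaf 402116413837)) (.node (.leaf 404800764288) (.leaf 440234252805)))) (.node (.node (.node (.node (.leaf 83215011202) (.leaf 951872355854)) (.leaf 532039187718)) (.node (.node (.leaf 30601649422) (.leaf 1154272735873)) (.leaf 588410705665))) (.node (.node (.node (.leaf 231391418369) (.leaf 627602353928)) (.leaf 488552657152)) (.node (.leaf 338228810886) (.leaf 850403727498))))) (.node (.node (.node (.node (.node (.leaf 44023425286) (.leaf 919660090625)) (.leaf 600221847938)) (.node (.node (.leaf 337155014277) (.leaf 1137629689091)) (.leaf 810138301829))) (.node (.node (.node (.leaf 42949710862) (.leaf 954019822349)) (.leaf 412317040385)) (.node (.leaf 481573292684) (.leaf 555661561472)))) (.node (.node (.node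 (.node (.leaf 135291502215) (.leaf 980326521997)) (.leaf 677531271042)) (.node (.leaf 176093749901) (.leaf 450971702277))) (.node (.node (.node (.leaf 274877971850) (.leaf 1091458790796)) (.leaf 820875798406)) (.node (.leaf 634581569408) (.leaf 873489054348)))))) (.node (.node (.node (.node (.node (.node (.leaf 29527907203) (.leaf 910533274117)) (.leaf 636729006466)) (.node (.node (.leaf 315680171790) (.leaf 925028851840)) (.leaf 539555468684))) (.node (.node (.node (.leaf 200789729677) (.leaf 1024886815368)) (.leaf 806380302213)) (.node (.leaf 444529221252) (.leaf 768262407430)))) (.node (.node (.node (.node (.leaf 3221251466) (.leaf 890669074698)) (.leaf 740345164292)) (.node (.leaf 298500311046) (.leaf 460635393031))) (.node (.node (.node (.leaf 218506520072) (.leaf 919660130318)) (.leaf 522375509250)) (.node (.leaf 601295515917) (.leaf 866509858432))))) (.node (.node (.node (.node (.node (.leaf 41875946638) (.leaf 864899266056)) (.leaf 659814447491)) (.node (.node (.leaf 370441017729) (.leaf 905164630923)) (.leaf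 665183218949))) (.node (.node (.node (.leaf 137975831437) (.leaf 1040992946562)) (.leaf 831076370060)) (.node (.leaf 529354832518) (.leaf 580357570696)))) (.node (.node (.node (.node (.leaf 146565795979) (.leaf 1002875101068)) (.leaf 772020491779)) (.node (.leaf 381715311499) (.leaf 438623639680))) (.node (.node (.node (.leaf 306553293066) (.leaf 1105954317824)) (.leaf 604516776455)) (.node (.leaf 596463692295) (.leaf 777926163845))))))
def dF_153 : BT := .node (.node (.node (.node (.node (.node (.node (.leaf 24159196929) (.leaf 907312057732)) (.leaf 497142628358)) (.node (.node (.leaf 81604434816) (.leaf 932545042049)) (.leaf 830002627982))) (.node (.node (.node (.leaf 191662952577) (.leaf 1024886815493)) (.leaf 734439527178)) (.node (.leaf 424128121740) (.leaf 442381750542)))) (.node (.node (.node (.node (.leaf 96636787203) (.leaf 969588913677)) (.leaf 540629124230)) (.node (.node (.leaf 323196366085) (.leaf 1157493962246)) (.leaf 556735300736))) (.node (.node (.node (.leaf 218506463108) (.leaf 1078573864073)) (.leaf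 741955695758)) (.node (.leaf 572304475527) (.leaf 496068928014))))) (.node (.node (.node (.node (.node (.leaf 56908330240) (.leaf 933081861765)) (.leaf 706522288768)) (.node (.node (.leaf 352187401609) (.leaf 502511445643)) (.leaf 674846849286))) (.node (.node (.node (.leaf 45634053774) (.leaf 971736602117)) (.leaf 394063446277)) (.node (.leaf 512711843328) (.leaf 485868293640)))) (.node (.node (.node (.node (.leaf 73014478603) (.leaf 995358899460)) (.leaf 765578052102)) (.node (.leaf 385473406727) (.leaf 506806248580))) (.node (.node (.node (.leaf 294205330060) (.leaf 1085553247362)) (.leaf 409632699532)) (.node (.leaf 434328684806) (.leaf 886373984774)))))) (.node (.node (.node (.node (.node (.node (.leaf 40265328007) (.leaf 928249925131)) (.leaf 696858564743)) (.node (.node (.leaf 40265397120) (.leaf 1135482249605)) (.leaf 613106739982))) (.node (.node (.node (.leaf 45097206926) (.leaf 1017907491842)) (.leaf 820875815299)) (.node (.leaf 461709094533) (.leaf 690416127886)))) (.node (.node (.node (.node (.leaf 117037886723)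 (.leaf 984084595330)) (.leaf 733365764741)) (.node (.leaf 350576742407) (.leaf 781147317633))) (.node (.node (.node (.leaf 11811221262) (.leaf 1097364405893)) (.leaf 424128167054)) (.node (.leaf 192199930114) (.leaf 870804786432))))) (.node (.node (.node (.node (.node (.leaf 12884919180) (.leaf 566935906953)) (.leaf 401579552647)) (.node (.node (.leaf 341449989902) (.leaf 1147830284165)) (.leaf 666793831304))) (.node (.node (.node (.leaf 58518937858) (.leaf 987842731278)) (.leaf 668404483468)) (.node (.leaf 445066118531) (.leaf 511638091274)))) (.node (.node (.node (.node (.leaf 172872465038) (.leaf 425202003723)) (.leaf 394600306818)) (.node (.leaf 381178441609) (.leaf 439697428878))) (.node (.node (.node (.leaf 312995816836) (.leaf 1107564904844)) (.leaf 677531249033)) (.node (.leaf 657130092291) (.leaf 891742730248))))))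
def dF_154 : BT := .node dF_152 dF_153
def dF_155 : BT := .node dF_151 dF_154
def dF_156 : BT := .node dF_148 dF_155
def dF_157 : BT := .node dF_141 dF_156
def dF_158 : BT := .node (.node (.node (.node (.node (.node (.node (.leaf 10) (.leaf 733902750221)) (.leaf 670015058048)) (.node (.node (.leaf 316753912203) (.leaf 323196555021)) (.leaf 466004123918))) (.node (.node (.node (.leaf 156766312206) (.leaf 1012001851910)) (.leaf 785979202693)) (.node (.leaf 395137074944) (.leaf 439697395086)))) (.node (.node (.node (.node (.leaf 76235687808) (.leaf 955093580300)) (.leaf 463319765762)) (.node (.node (.leaf 351650531202) (.leaf 702227427338)) (.leaf 425201948937))) (.node (.node (.node (.leaf 138512698892) (.leaf 1065688980483)) (.leaf 849329898252)) (.node (.leaf 561030236929) (.leaf 622233529609))))) (.node (.node (.node (.node (.node (.leaf 37580972802) (.leaf 913217639040)) (.leaf 695247951618)) (.node (.node (.leaf 332323173505) (.leaf 988379619587)) (.leaf 425201949185))) (.node (.node (.node (.leaf 58518973326) (.leaf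 1036697978249)) (.leaf 782757978496)) (.node (.leaf 468151547012) (.leaf 455266654853)))) (.node (.node (.node (.node (.leaf 112742918406) (.leaf 152471571598)) (.leaf 750545714052)) (.node (.leaf 149250195843) (.leaf 350576889478))) (.node (.node (.node (.leaf 264140551815) (.leaf 1085553244046)) (.leaf 424128179206)) (.node (.leaf 617938567172) (.leaf 432718163084)))))) (.node (.node (.node (.node (.node (.node (.leaf 24159196802) (.leaf 867046738690)) (.leaf 576599522054)) (.node (.node (.leaf 95563045390) (.leaf 1124207892493)) (.leaf 407485122445))) (.node (.node (.node (.leaf 4831884424) (.leaf 1031329267972)) (.leaf 794032268301)) (.node (.leaf 34359840642) (.leaf 442381750668)))) (.node (.node (.node (.node (.leaf 93952432002) (.leaf 969052142467)) (.leaf 731218331910)) (.node (.node (.leaf 180388686350) (.leaf 1158030833289)) (.leaf 514322453763))) (.node (.node (.node (.leaf 239444483972) (.leaf 828928943116)) (.leaf 470835902218)) (.node (.leaf 573915108103) (.leaf 597537528846))))) (.node (.node (.node (.node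 (.node (.leaf 58518943109) (.leaf 934155609606)) (.leaf 712964741249)) (.node (.node (.leaf 354334886145) (.leaf 544387377418)) (.leaf 409632618244))) (.node (.node (.node (.leaf 4294994702) (.leaf 1053877823878)) (.leaf 823560176000)) (.node (.leaf 508416861831) (.leaf 752693198218)))) (.node (.node (.node (.node (.leaf 145492052103) (.leaf 1001264489740)) (.leaf 635655341699)) (.node (.leaf 386547138953) (.leaf 692026723598))) (.node (.node (.node (.leaf 298500293893) (.leaf 1103806717322)) (.leaf 832686884993)) (.node (.leaf 643708377092) (.leaf 885837140099))))))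
def dF_159 : BT := .node (.node (.node (.node (.node (.node (.node (.leaf 11274291843) (.leaf 900869605253)) (.leaf 423054439298)) (.node (.node (.leaf 84825621901) (.leaf 1120449698057)) (.leaf 540092231181))) (.node (.node (.node (.leaf 183609852941) (.leaf 954019838089)) (.leaf 658203874571)) (.node (.leaf 411243216769) (.leaf 642634633998)))) (.node (.node (.node (.node (.leaf 79456913923) (.leaf 437013150731)) (.leaf 722628395910)) (.node (.node (.leaf 156229516554) (.leaf 508417029001)) (.leaf 780610421771))) (.node (.node (.node (.leaf 232465160327) (.leaf 1079647606410)) (.leaf 673236312078)) (.node (.leaf 573378270860) (.leaf 347892553987))))) (.node (.node (.node (.node (.node (.leaf 46707780749) (.leaf 920733752328)) (.leaf 514322501635)) (.node (.node (.leaf 343597464329) (.leaf 914828305666)) (.leaf 481573381518))) (.node (.node (.node (.leaf 3221230094) (.leaf 1037234849285)) (.leaf 466004053376)) (.node (.leaf 489626388608) (.leaf 777925994637)))) (.node (.node (.node (.node (.leaf 141733950221) (.leaf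 925028817034)) (.leaf 674846915847)) (.node (.leaf 381715270409) (.leaf 451508544000))) (.node (.node (.node (.leaf 277562327429) (.leaf 1089311230858)) (.leaf 526670464140)) (.node (.leaf 641024021889) (.leaf 882079019658)))))) (.node (.node (.node (.node (.node (.node (.leaf 26843551886) (.leaf 911607025926)) (.leaf 438086815619)) (.node (.node (.leaf 322659454468) (.leaf 1133871586698)) (.leaf 521838684681))) (.node (.node (.node (.leaf 202937252865) (.leaf 1020054952070)) (.leaf 809601528453)) (.node (.leaf 445602963456) (.leaf 586263175689)))) (.node (.node (.node (.node (.leaf 113279789572) (.leaf 972273453569)) (.leaf 744640113798)) (.node (.leaf 315680170766) (.leaf 350039964556))) (.node (.node (.node (.leaf 246423807877) (.leaf 894964068876)) (.leaf 619012331278)) (.node (.leaf 603979920128) (.leaf 866509763721))))) (.node (.node (.node (.node (.node (.leaf 10200557965) (.leaf 950261626376)) (.leaf 715649084039)) (.node (.node (.leaf 376346594698) (.leaf 408559037578)) (.leaf 410169551360))) (.node (.node (.node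 (.leaf 152471385476) (.leaf 1059246562048)) (.leaf 837518822541)) (.node (.leaf 540629137413) (.leaf 350576827916)))) (.node (.node (.node (.node (.leaf 158913827973) (.leaf 1009317555332)) (.leaf 588947574019)) (.node (.leaf 390842107137) (.leaf 490163260416))) (.node (.node (.node (.leaf 306016493313) (.leaf 1087700731648)) (.leaf 427886291971)) (.node (.leaf 456340430083) (.leaf 424128232973))))))
def dF_160 : BT := .node dF_158 dF_159
def dF_161 : BT := .node (.node (.node (.node (.node (.node (.node (.leaf 11811163013) (.leaf 848793125889)) (.leaf 672162481795)) (.node (.node (.leaf 78383213454) (.leaf 1111859923844)) (.leaf 541165995150))) (.node (.node (.node (.leaf 177704314498) (.leaf 597000695947)) (.leaf 724775827086)) (.node (.leaf 396747698818) (.leaf 581431336325)))) (.node (.node (.node (.node (.leaf 88046850563) (.leaf 955630451211)) (.leaf 721554677893)) (.node (.node (.leaf 329638743307) (.leaf 1152662123008)) (.leaf 432718077831))) (.node (.node (.node (.leaf 220653997568) (.leaf 1071594595973)) (.leaf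 623307258375)) (.node (.leaf 562640807299) (.leaf 734439527177))))) (.node (.node (.node (.node (.node (.leaf 6979325825) (.leaf 915365014536)) (.leaf 506269403654)) (.node (.node (.leaf 332323175436) (.leaf 930397561984)) (.leaf 427886304270))) (.node (.node (.node (.leaf 8053094798) (.leaf 824633961863)) (.leaf 601832484364)) (.node (.leaf 197568610317) (.leaf 596463738369)))) (.node (.node (.node (.node (.leaf 130996533766) (.leaf 979789628808)) (.leaf 751619456129)) (.node (.leaf 379567818376) (.leaf 450434744706))) (.node (.node (.node (.leaf 270046133258) (.leaf 825170852878)) (.leaf 676457460492)) (.node (.leaf 629749726605) (.leaf 566935893006)))))) (.node (.node (.node (.node (.node (.node (.leaf 31138520460) (.leaf 909459408269)) (.leaf 549219060999)) (.node (.node (.leaf 229243901710) (.leaf 630823590664)) (.leaf 394600298894))) (.node (.node (.node (.leaf 197031671940) (.leaf 1029181783682)) (.leaf 474594075532)) (.node (.leaf 433791800453) (.leaf 664109426313)))) (.node (.node (.node (.node (.leaf 106837336963)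 (.leaf 970125969291)) (.leaf 617401721604)) (.node (.leaf 299037169806) (.leaf 347355642510))) (.node (.node (.node (.leaf 241591968133) (.leaf 1036161077901)) (.leaf 468151593102)) (.node (.leaf 599148080769) (.leaf 868657257612))))) (.node (.node (.node (.node (.node (.leaf 64424524932) (.leaf 941134933261)) (.leaf 613106739846)) (.node (.node (.leaf 359703596928) (.leaf 406948424202)) (.leaf 782757890949))) (.node (.node (.node (.leaf 144418276491) (.leaf 1039382319109)) (.leaf 412853928842)) (.node (.leaf 412316986370) (.leaf 412317026697)))) (.node (.node (.node (.node (.leaf 151934504457) (.leaf 936839979150)) (.leaf 772557426693)) (.node (.leaf 389231493889) (.leaf 507343154561))) (.node (.node (.node (.leaf 154082023808) (.leaf 1104880600453)) (.leaf 605053647239)) (.node (.leaf 652298313740) (.leaf 889058442250))))))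
def dF_162 : BT := .node (.node (.node (.node (.node (.node (.node (.leaf 2684355203) (.leaf 780610520581)) (.leaf 642097775619)) (.node (.node (.leaf 224412066062) (.leaf 1123671086852)) (.leaf 516469965697))) (.node (.node (.node (.leaf 122943480460) (.leaf 916438889350)) (.leaf 746250664845)) (.node (.leaf 414464443012) (.leaf 638876525574)))) (.node (.node (.node (.node (.leaf 95563045253) (.leaf 481036567177)) (.leaf 729070872453)) (.node (.node (.leaf 7516199949) (.leaf 891742860553)) (.leaf 769873071502))) (.node (.node (.node (.leaf 223875223687) (.leaf 1016833763086)) (.leaf 470299032321)) (.node (.leaf 587873788811) (.leaf 861678019340))))) (.node (.node (.node (.node (.node (.leaf 37580975118) (.leaf 932544880008)) (.leaf 566398921090)) (.node (.node (.leaf 338228757892) (.leaf 919123273222)) (.leaf 422517536129))) (.node (.node (.node (.leaf 24159191936) (.leaf 1044214172941)) (.leaf 306016616326)) (.node (.leaf 505195648773) (.leaf 592705642890)))) (.node (.node (.node (.node (.leaf 142807663368) (.leaf 648540298760))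 (.leaf 769336051981)) (.node (.leaf 151397688711) (.leaf 560493352974))) (.node (.node (.node (.leaf 283467909260) (.leaf 935766258957)) (.leaf 788663484941)) (.node (.leaf 580894445058) (.leaf 885300252685)))))) (.node (.node (.node (.node (.node (.node (.leaf 17716748809) (.leaf 920196962693)) (.leaf 553514015878)) (.node (.node (.leaf 326954463115) (.leaf 1129039602189)) (.leaf 754303729664))) (.node (.node (.node (.leaf 208842834701) (.leaf 1022202460302)) (.leaf 821949562372)) (.node (.leaf 347355588237) (.leaf 509490617230)))) (.node (.node (.node (.node (.leaf 121332855046) (.leaf 718333515785)) (.leaf 737660757255)) (.node (.leaf 312458945029) (.leaf 492847640714))) (.node (.node (.node (.leaf 257698099332) (.leaf 1086626985092)) (.leaf 673773108492)) (.node (.leaf 616864712578) (.leaf 871341698049))))) (.node (.node (.node (.node (.node (.leaf 70866974081) (.leaf 936839884425)) (.leaf 469225322754)) (.node (.node (.leaf 348966135811) (.leaf 1145145929229)) (.leaf 847182478604))) (.node (.node (.node (.leaf 6979335168)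 (.leaf 1065152112261)) (.leaf 477278440206)) (.node (.leaf 545997847809) (.leaf 650687642888)))) (.node (.node (.node (.node (.leaf 165356280323) (.leaf 1004485715981)) (.leaf 567472739463)) (.node (.leaf 388157763072) (.leaf 763430567937))) (.node (.node (.node (.leaf 309237719681) (.leaf 1110786069643)) (.leaf 733902697094)) (.node (.leaf 665183185539) (.leaf 892816533253))))))
def dF_163 : BT := .node dF_161 dF_162
def dF_164 : BT := .node dF_160 dF_163
def dF_165 : BT := .node (.node (.node (.node (.node (.node (.node (.leaf 3221226373) (.leaf 416075170701)) (.leaf 415538245250)) (.node (.node (.leaf 307627108740) (.leaf 1115081150088)) (.leaf 677531215246))) (.node (.node (.node (.leaf 176630565636) (.leaf 1013075652622)) (.leaf 792421655172)) (.node (.leaf 396210784903) (.leaf 496605757454)))) (.node (.node (.node (.node (.leaf 84825624448) (.leaf 951872353929)) (.leaf 465467176962)) (.node (.node (.leaf 373125292686) (.leaf 1152125251846)) (.leaf 459561637646))) (.node (.node (.node (.leaf 59055852162) (.leaf 1017370632576))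 (.leaf 607738051329)) (.node (.leaf 566398947340) (.leaf 449361060489))))) (.node (.node (.node (.node (.node (.leaf 47244641933) (.leaf 921270705678)) (.leaf 557808984578)) (.node (.node (.leaf 336081194240) (.leaf 1100585640716)) (.leaf 613643543437))) (.node (.node (.node (.leaf 44560331785) (.leaf 311922241027)) (.leaf 666793866762)) (.node (.leaf 475130870529) (.leaf 566398918150)))) (.node (.node (.node (.node (.leaf 129385920780) (.leaf 972273445510)) (.leaf 747861328387)) (.node (.leaf 217969673093) (.leaf 382789080590))) (.node (.node (.node (.leaf 263603680782) (.leaf 1098974848781)) (.leaf 669478215169)) (.node (.leaf 619012274947) (.leaf 876710408452)))))) (.node (.node (.node (.node (.node (.node (.leaf 19864228482) (.leaf 898722123269)) (.leaf 490700175875)) (.node (.node (.leaf 107374184704) (.leaf 1120986706950)) (.leaf 530965466121))) (.node (.node (.node (.leaf 192199833088) (.leaf 729070944779)) (.leaf 341986962189)) (.node (.leaf 430033703048) (.leaf 382789079437)))) (.node (.node (.node (.node (.leaf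 105763595013) (.leaf 965831000964)) (.leaf 484257736327)) (.node (.leaf 9126895104) (.leaf 600221786625))) (.node (.node (.node (.leaf 238370741763) (.leaf 1067836483718)) (.leaf 461709081862)) (.node (.leaf 593779370372) (.leaf 854161755912))))) (.node (.node (.node (.node (.node (.leaf 60666427652) (.leaf 934692480775)) (.leaf 614717307011)) (.node (.node (.leaf 353261145097) (.leaf 1142998443657)) (.leaf 665720089860))) (.node (.node (.node (.leaf 12884911246) (.leaf 1048509139213)) (.leaf 572841460362)) (.node (.leaf 520228037893) (.leaf 562103952897)))) (.node (.node (.node (.node (.leaf 148713278218) (.leaf 1004485579656)) (.leaf 759672457731)) (.node (.leaf 29527992584) (.leaf 493921380357))) (.node (.node (.node (.leaf 269509269514) (.leaf 1065689022976)) (.leaf 542776619916)) (.node (.leaf 643708330370) (.leaf 794032290691))))))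
def dF_166 : BT := .node (.node (.node (.node (.node (.node (.node (.leaf 6979323523) (.leaf 903553884686)) (.leaf 683973705088)) (.node (.node (.leaf 88046881934) (.leaf 506806407304)) (.leaf 720480856078))) (.node (.node (.node (.leaf 187367993088) (.leaf 347892593292)) (.leaf 394600216582)) (.node (.leaf 412853829764) (.leaf 498216304651)))) (.node (.node (.node (.node (.leaf 75161945603) (.leaf 665720160650)) (.leaf 416075070339)) (.node (.node (.leaf 3221246734) (.leaf 1155346478085)) (.leaf 599684891533))) (.node (.node (.node (.leaf 228170192007) (.leaf 393526635150)) (.leaf 810675249798)) (.node (.leaf 581968207500) (.leaf 853088082701))))) (.node (.node (.node (.node (.node (.leaf 2684367757) (.leaf 929860641414)) (.leaf 508416920462)) (.node (.node (.leaf 346818690057) (.leaf 489089672584)) (.leaf 410169501953))) (.node (.node (.node (.leaf 35970367886) (.leaf 972273469191)) (.leaf 629749773060)) (.node (.leaf 498216325248) (.leaf 778463008004)))) (.node (.node (.node (.node (.leaf 137975857283) (.leaf 962072903691))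 (.leaf 760746263821)) (.node (.leaf 382789006983) (.leaf 506269370890))) (.node (.node (.node (.leaf 278636070152) (.leaf 1088237561218)) (.leaf 788126598530)) (.node (.leaf 638876490626) (.leaf 456340486273)))))) (.node (.node (.node (.node (.node (.node (.leaf 35433488389) (.leaf 490700231178)) (.leaf 452582333315)) (.node (.node (.leaf 324270108296) (.leaf 1131724030858)) (.leaf 676457526784))) (.node (.node (.node (.leaf 206158478473) (.leaf 995895785989)) (.leaf 153008403980)) (.node (.leaf 432718058250) (.leaf 195957988621)))) (.node (.node (.node (.node (.leaf 121869726212) (.leaf 980863390209)) (.leaf 524523057798)) (.node (.leaf 153008281097) (.leaf 150860877326))) (.node (.node (.node (.leaf 181999299205) (.leaf 1085016371847)) (.leaf 467077792642)) (.node (.leaf 612569856768) (.leaf 601832499721))))) (.node (.node (.node (.node (.node (.leaf 69793219072) (.leaf 945429900430)) (.leaf 519154340994)) (.node (.node (.leaf 358092945282) (.leaf 1145682799884)) (.leaf 488015773708))) (.node (.node (.node (.leaf 151397643392)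 (.leaf 802622265486)) (.leaf 812285891458)) (.node (.leaf 536871027086) (.leaf 480499576584)))) (.node (.node (.node (.node (.leaf 166430022532) (.leaf 1005559458958)) (.leaf 654445827974)) (.node (.leaf 391915802626) (.leaf 654445808004))) (.node (.node (.node (.leaf 221190889736) (.leaf 1110786181892)) (.leaf 462245989515)) (.node (.leaf 662498863500) (.leaf 894427146116))))))
def dF_167 : BT := .node dF_165 dF_166
def dF_168 : BT := .node (.node (.node (.node (.node (.node (.node (.leaf 15569260163) (.leaf 898185249929)) (.leaf 543313524871)) (.node (.node (.leaf 55834631694) (.leaf 1116691763333)) (.leaf 622233498119))) (.node (.node (.node (.leaf 177704315017) (.leaf 980863392012)) (.leaf 402116362374)) (.node (.leaf 402653280129) (.leaf 498216329102)))) (.node (.node (.node (.node (.leaf 83751882243) (.leaf 955093581709)) (.leaf 478888953350)) (.node (.node (.leaf 323196366606) (.leaf 1144609059469)) (.leaf 433254961549))) (.node (.node (.node (.leaf 229243934208) (.leaf 1080184532613)) (.leaf 419833214981)) (.node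 (.leaf 571767534732) (.leaf 385473517571))))) (.node (.node (.node (.node (.node (.leaf 45634038403) (.leaf 928786896904)) (.leaf 704911675649)) (.node (.node (.leaf 14495596041) (.leaf 995358942092)) (.leaf 473520273036))) (.node (.node (.node (.leaf 18253650176) (.leaf 954019683590)) (.leaf 486405233152)) (.node (.leaf 389768398605) (.leaf 642097719936)))) (.node (.node (.node (.node (.leaf 127775307523) (.leaf 993748278660)) (.leaf 756451231362)) (.node (.leaf 379030954625) (.leaf 154082093069))) (.node (.node (.node (.leaf 270583004933) (.leaf 1093069437446)) (.leaf 533112917005)) (.node (.leaf 632434085249) (.leaf 873489081985)))))) (.node (.node (.node (.node (.node (.node (.leaf 31138520322) (.leaf 910533148806)) (.leaf 637802782210)) (.node (.node (.leaf 314069559310) (.leaf 1133334765569)) (.leaf 420906974222))) (.node (.node (.node (.leaf 200789767945) (.leaf 912143923982)) (.leaf 804232818052)) (.node (.leaf 442381737093) (.leaf 554587816846)))) (.node (.node (.node (.node (.leaf 102005497486) (.leaf 911070169345))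 (.leaf 738197680133)) (.node (.leaf 322122583950) (.leaf 490700156547))) (.node (.node (.node (.leaf 246423792010) (.leaf 1083942486153)) (.leaf 609885467910)) (.node (.leaf 176630673286) (.leaf 865436116736))))) (.node (.node (.node (.node (.node (.leaf 44023430798) (.leaf 949724869901)) (.leaf 660888217219)) (.node (.node (.leaf 368293533568) (.leaf 407485295498)) (.leaf 848793113735))) (.node (.node (.node (.leaf 15569263873) (.leaf 1040992934149)) (.leaf 588410717312)) (.node (.leaf 523986137613) (.leaf 481036538888)))) (.node (.node (.node (.node (.leaf 147639537668) (.leaf 963146655233)) (.leaf 773094246787)) (.node (.leaf 387620891525) (.leaf 635655266688))) (.node (.node (.node (.leaf 9663749386) (.leaf 1104880600328)) (.leaf 629749675406)) (.node (.leaf 598074305410) (.leaf 530965544200))))))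
def dF_169 : BT := .node (.node (.node (.node (.node (.node (.node (.leaf 22011712768) (.leaf 905164573571)) (.leaf 639413420423)) (.node (.node (.leaf 138512756101) (.leaf 452045576843)) (.leaf 470299030403))) (.node (.node (.node (.leaf 4295013000) (.leaf 1022739331332)) (.leaf 517543659788)) (.node (.leaf 421980637575) (.leaf 639413420558)))) (.node (.node (.node (.node (.leaf 96636787206) (.leaf 967441614221)) (.leaf 486942018950)) (.node (.node (.leaf 143344614668) (.leaf 1157493960973)) (.leaf 503585058183))) (.node (.node (.node (.leaf 219580255367) (.leaf 1069447113861)) (.leaf 525596814862)) (.node (.leaf 586800046729) (.leaf 493921444878))))) (.node (.node (.node (.node (.node (.leaf 56371459200) (.leaf 933081680518)) (.leaf 569083322371)) (.node (.node (.leaf 351650531076) (.leaf 580357727875)) (.leaf 665720089742))) (.node (.node (.node (.leaf 115427256974) (.leaf 1052804109581)) (.leaf 823560175882)) (.node (.leaf 510564359169) (.leaf 775241701642)))) (.node (.node (.node (.node (.leaf 144955180545) (.leaf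 984084619015)) (.leaf 583041993091)) (.node (.leaf 25769895688) (.leaf 452045408778))) (.node (.node (.node (.leaf 292057845900) (.leaf 1103806858373)) (.leaf 197031770892)) (.node (.leaf 435939318150) (.leaf 886374087040)))))) (.node (.node (.node (.node (.node (.node (.leaf 40802191501) (.leaf 928786894725)) (.leaf 687194933645)) (.node (.node (.leaf 208305992449) (.leaf 1135482249742)) (.leaf 610959246605))) (.node (.node (.node (.leaf 28991080973) (.leaf 1017907480580)) (.leaf 399969024014)) (.node (.leaf 445602966925) (.leaf 456340394125)))) (.node (.node (.node (.node (.leaf 117037886726) (.leaf 908922688781)) (.leaf 733902647042)) (.node (.leaf 153008292102) (.leaf 437013063040))) (.node (.node (.node (.leaf 241591972110) (.leaf 1095216921732)) (.leaf 527207409294)) (.node (.leaf 601832327943) (.leaf 871878507402))))) (.node (.node (.node (.node (.node (.leaf 57445204739) (.leaf 938450577806)) (.leaf 464393462535)) (.node (.node (.leaf 340913118862) (.leaf 1149977767425)) (.leaf 535797297925))) (.node (.node (.node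 (.leaf 208305956486) (.leaf 984621506437)) (.leaf 835371252620)) (.node (.leaf 554587784449) (.leaf 420370091272)))) (.node (.node (.node (.node (.leaf 174483088132) (.leaf 1012538649729)) (.leaf 153008396423)) (.node (.leaf 394063343362) (.leaf 496068861314))) (.node (.node (.node (.leaf 305479623936) (.leaf 1107564945666)) (.leaf 603979901064)) (.node (.leaf 656056377859) (.leaf 777389293452))))))
def dF_170 : BT := .node dF_168 dF_169
def dF_171 : BT := .node dF_167 dF_170
def dF_172 : BT := .node dF_164 dF_171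
def dF_173 : BT := .node (.node (.node (.node (.node (.node (.node (.leaf 536871050) (.leaf 895500831624)) (.leaf 534723588871)) (.node (.node (.leaf 318364524811) (.leaf 1115618021128)) (.leaf 404263893262))) (.node (.node (.node (.leaf 3758138378) (.leaf 1013075652612)) (.leaf 788126686852)) (.node (.leaf 395673956487) (.leaf 439697395456)))) (.node (.node (.node (.node (.leaf 80530656128) (.leaf 957241064328)) (.leaf 607738029442)) (.node (.node (.leaf 15569259909) (.leaf 1151588232458)) (.leaf 802085278217))) (.node (.node (.node (.leaf 148713291265) (.leaf 950261768449)) (.leaf 419296306318)) (.node (.leaf 429496863749) (.leaf 771483536771))))) (.node (.node (.node (.node (.node (.leaf 42949683340) (.leaf 914291205901)) (.leaf 692563596423)) (.node (.node (.leaf 334470657673) (.leaf 1136555961857)) (.leaf 791884755982))) (.node (.node (.node (.leaf 58518977024) (.leaf 1036161107210)) (.leaf 615791122951)) (.node (.leaf 472446515332) (.leaf 456877265415)))) (.node (.node (.node (.node (.leaf 125090952460) (.leaf 914291395086))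 (.leaf 623307307778)) (.node (.leaf 192736704128) (.leaf 431107449614))) (.node (.node (.node (.leaf 268435520140) (.leaf 1100048597640)) (.leaf 423591308166)) (.node (.leaf 622233535492) (.leaf 872952311048)))))) (.node (.node (.node (.node (.node (.node (.leaf 21474841607) (.leaf 905164573448)) (.leaf 489626433798)) (.node (.node (.leaf 242665675021) (.leaf 1123671080706)) (.leaf 479425835650))) (.node (.node (.node (.leaf 193273574662) (.leaf 675383853705)) (.leaf 798327236613)) (.node (.leaf 34359840780) (.leaf 489626451465)))) (.node (.node (.node (.node (.leaf 101468626691) (.leaf 965831001358)) (.leaf 485331478407)) (.node (.leaf 9126806277) (.leaf 630286570759))) (.node (.node (.node (.leaf 240518225923) (.leaf 1068373325963)) (.leaf 610422397198)) (.node (.leaf 589484402052) (.leaf 566935886478))))) (.node (.node (.node (.node (.node (.leaf 57982072582) (.leaf 459024852618)) (.leaf 717259709569)) (.node (.node (.leaf 340913113739) (.leaf 1142998291712)) (.leaf 472446538634))) (.node (.node (.node (.leaf 37580976900)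 (.leaf 303869186958)) (.leaf 754840699405)) (.node (.leaf 474594009349) (.leaf 653908874371)))) (.node (.node (.node (.node (.leaf 142270826890) (.leaf 433255065483)) (.leaf 761283083782)) (.node (.leaf 386010278016) (.leaf 438086849933))) (.node (.node (.node (.leaf 299574006020) (.leaf 1102196245123)) (.leaf 747861326732)) (.node (.leaf 648003345412) (.leaf 802622225164))))))
def dF_174 : BT := .node (.node (.node (.node (.node (.node (.node (.leaf 8589936647) (.leaf 448824298125)) (.leaf 679678736768)) (.node (.node (.leaf 218506481934) (.leaf 1000190775566)) (.leaf 405874588556))) (.node (.node (.node (.leaf 158913834381) (.leaf 970662851203)) (.leaf 403727021700)) (.node (.leaf 149787083139) (.leaf 441308009479)))) (.node (.node (.node (.node (.leaf 76772558727) (.leaf 963683516801)) (.leaf 477278412679)) (.node (.node (.leaf 143344613006) (.leaf 865973056522)) (.leaf 570157029900))) (.node (.node (.node (.leaf 230854547202) (.leaf 1003948862727)) (.leaf 428423160452)) (.node (.leaf 577673239181) (.leaf 851477372936)))))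 (.node (.node (.node (.node (.node (.leaf 51539619973) (.leaf 932544993292)) (.leaf 596463750658)) (.node (.node (.leaf 337691885835) (.leaf 869731149069)) (.leaf 423054469888))) (.node (.node (.node (.leaf 40265359886) (.leaf 1037771720328)) (.leaf 755377481610)) (.node (.leaf 493921356928) (.leaf 597537480452)))) (.node (.node (.node (.node (.leaf 139586470407) (.leaf 963146651911)) (.leaf 756988094475)) (.node (.leaf 381178438661) (.leaf 493384534148))) (.node (.node (.node (.leaf 278636069892) (.leaf 1088774328457)) (.leaf 405337731212)) (.node (.leaf 641024008454) (.leaf 702227363972)))))) (.node (.node (.node (.node (.node (.node (.leaf 34359738504) (.leaf 447213687178)) (.leaf 438623653126)) (.node (.node (.leaf 323733163016) (.leaf 1131724130052)) (.leaf 386547180941))) (.node (.node (.node (.leaf 194347318795) (.leaf 1023813066638)) (.leaf 737123956109)) (.node (.leaf 431107445131) (.leaf 639413417480)))) (.node (.node (.node (.node (.leaf 117574757892) (.leaf 976568421889)) (.leaf 743029500675)) (.node (.leaf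 298500298240) (.leaf 155155797132))) (.node (.node (.node (.leaf 250181904779) (.leaf 783831790090)) (.leaf 530428588161)) (.node (.leaf 608274888448) (.leaf 600758757769))))) (.node (.node (.node (.node (.node (.leaf 39728452749) (.leaf 148713468686)) (.leaf 661425133574)) (.node (.node (.leaf 377420341256) (.leaf 470299192586)) (.leaf 827318185741))) (.node (.node (.node (.leaf 150323904008) (.leaf 1054951593602)) (.leaf 841813790860)) (.node (.leaf 488552659459) (.leaf 457951044105)))) (.node (.node (.node (.node (.leaf 162135054212) (.leaf 1009854341896)) (.leaf 777926137088)) (.node (.leaf 391378988298) (.leaf 561567107850))) (.node (.node (.node (.leaf 304405880715) (.leaf 995358934793)) (.leaf 516469919488)) (.node (.leaf 658203895181) (.leaf 424665103884))))))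
def dF_175 : BT := .node dF_173 dF_174
def dF_176 : BT := .node (.node (.node (.node (.node (.node (.node (.leaf 16106131333) (.leaf 897648265225)) (.leaf 676457510533)) (.node (.node (.leaf 79456955660) (.leaf 1116154892162)) (.leaf 607738017422))) (.node (.node (.node (.leaf 146565801856) (.leaf 987842720268)) (.leaf 379567910286)) (.node (.leaf 398358311809) (.leaf 438623719948)))) (.node (.node (.node (.node (.leaf 85362495367) (.leaf 960462290692)) (.leaf 623844172419)) (.node (.node (.leaf 4831847822) (.leaf 1153198993164)) (.leaf 598611183619))) (.node (.node (.node (.leaf 224948965888) (.leaf 1075889564293)) (.leaf 466004124038)) (.node (.leaf 563714565894) (.leaf 693637420928))))) (.node (.node (.node (.node (.node (.leaf 4831842816) (.leaf 916975729934)) (.leaf 700616707329)) (.node (.node (.leaf 338228755715) (.leaf 1138166597506)) (.leaf 420906974337))) (.node (.node (.node (.leaf 42412840078) (.leaf 1011464872583)) (.leaf 677531183116)) (.node (.leaf 484794549253) (.leaf 691489889930)))) (.node (.node (.node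 (.node (.leaf 129385920642) (.leaf 989453326852)) (.leaf 755914424449)) (.node (.leaf 30064861707) (.leaf 150860859790))) (.node (.node (.node (.leaf 248034426240) (.leaf 1093606283531)) (.leaf 847719372544)) (.node (.leaf 424128169607) (.leaf 579820793998)))))) (.node (.node (.node (.node (.node (.node (.leaf 32749133447) (.leaf 909459541765)) (.leaf 551903416195)) (.node (.node (.leaf 235686350478) (.leaf 1129039797249)) (.leaf 418222522638))) (.node (.node (.node (.leaf 183609899530) (.leaf 1028644767496)) (.leaf 298500418439)) (.node (.leaf 438086768773) (.leaf 585189433600)))) (.node (.node (.node (.node (.leaf 104152981766) (.leaf 932545005575)) (.leaf 733902711813)) (.node (.leaf 181999281668) (.leaf 545460930062))) (.node (.node (.node (.leaf 233002034317) (.leaf 1083942567693)) (.leaf 471372847756)) (.node (.leaf 599148060546) (.leaf 868657342338))))) (.node (.node (.node (.node (.node (.leaf 68719493252) (.leaf 945429901580)) (.leaf 420370072839)) (.node (.node (.leaf 363998565248) (.leaf 866509925002)) (.leaf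 488015706125))) (.node (.node (.node (.leaf 144955154957) (.leaf 825170840334)) (.leaf 828928780163)) (.node (.leaf 530965458693) (.leaf 498753279497)))) (.node (.node (.node (.node (.leaf 153008246532) (.leaf 1000190747529)) (.leaf 562104029703)) (.node (.leaf 347355573003) (.leaf 507343144333))) (.node (.node (.node (.leaf 303869007373) (.leaf 1106491213446)) (.leaf 755377496334)) (.node (.leaf 460635398403) (.leaf 869194218636))))))
def dF_177 : BT := .node (.node (.node (.node (.node (.node (.node (.leaf 17716744448) (.leaf 899258915851)) (.leaf 554587771399)) (.node (.node (.leaf 77846338048) (.leaf 1127966052484)) (.leaf 416075079943))) (.node (.node (.node (.leaf 141197094540) (.leaf 1018444363012)) (.leaf 404263893130)) (.node (.leaf 418759411332) (.leaf 441844910856)))) (.node (.node (.node (.node (.leaf 83751885965) (.leaf 404264026886)) (.leaf 388157844109)) (.node (.node (.leaf 149787001989) (.leaf 1156957091205)) (.leaf 779536704910))) (.node (.node (.node (.leaf 222264610562) (.leaf 1071057713670)) (.leaf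 409095794054)) (.node (.leaf 586799941635) (.leaf 443455576577))))) (.node (.node (.node (.node (.node (.leaf 54760846087) (.leaf 929323723273)) (.leaf 702227308034)) (.node (.node (.leaf 351113657995) (.leaf 1140850960132)) (.leaf 421443780741))) (.node (.node (.node (.leaf 25232978953) (.leaf 1048509141260)) (.leaf 824633917578)) (.node (.leaf 501974419331) (.leaf 588410718089)))) (.node (.node (.node (.node (.leaf 57445221900) (.leaf 675920715402)) (.leaf 768262394371)) (.node (.leaf 384936535683) (.leaf 593242475534))) (.node (.node (.node (.leaf 287762877581) (.leaf 1086090057740)) (.leaf 400505877125)) (.node (.leaf 490163246087) (.leaf 499827030657)))))) (.node (.node (.node (.node (.node (.node (.leaf 18253619853) (.leaf 924491931013)) (.leaf 693637383813)) (.node (.node (.leaf 329101946635) (.leaf 1135482249732)) (.leaf 469762193412))) (.node (.node (.node (.leaf 213137803013) (.leaf 955093586179)) (.leaf 748398246798)) (.node (.leaf 457414126213) (.leaf 456340458242)))) (.node (.node (.node (.node (.leaf 119722241922)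 (.leaf 934692492549)) (.leaf 736050131202)) (.node (.leaf 299037181831) (.leaf 410706365323))) (.node (.node (.node (.leaf 261993067652) (.leaf 1090921953412)) (.leaf 747861281421)) (.node (.leaf 616327905414) (.leaf 433791904781))))) (.node (.node (.node (.node (.node (.leaf 70330106499) (.leaf 383326055052)) (.leaf 711890940803)) (.node (.node (.leaf 352187402243) (.leaf 1149440736904)) (.leaf 846108759298))) (.node (.node (.node (.leaf 4831859982) (.leaf 1064615272321)) (.leaf 844498115850)) (.node (.leaf 550292816129) (.leaf 508953745929)))) (.node (.node (.node (.node (.leaf 170188119812) (.leaf 955093593600)) (.leaf 511101293314)) (.node (.leaf 381715312264) (.leaf 527744288522))) (.node (.node (.node (.leaf 306553365385) (.leaf 1108101784065)) (.leaf 654982614402)) (.node (.leaf 662498830342) (.leaf 891742797441))))))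
def dF_178 : BT := .node dF_176 dF_177
def dF_179 : BT := .node dF_175 dF_178
def dF_180 : BT := .node (.node (.node (.node (.node (.node (.node (.leaf 7516194693) (.leaf 425738846979)) (.leaf 530965431299)) (.node (.node (.leaf 321585740429) (.leaf 961536068750)) (.leaf 408558889088))) (.node (.node (.node (.leaf 175556830730) (.leaf 1013075652488)) (.leaf 605590473358)) (.node (.leaf 208306008583) (.leaf 439697394956)))) (.node (.node (.node (.node (.leaf 89120592768) (.leaf 953482967050)) (.leaf 480499593731)) (.node (.node (.leaf 137975857285) (.leaf 1110786191753)) (.leaf 501974470798))) (.node (.node (.node (.leaf 217969598733) (.leaf 1067299627653)) (.leaf 419296278659)) (.node (.leaf 570693911949) (.leaf 391915921164))))) (.node (.node (.node (.node (.node (.leaf 5368717704) (.leaf 915901997312)) (.leaf 693637372034)) (.node (.node (.leaf 338228677898) (.leaf 1089311351557)) (.leaf 626528467329))) (.node (.node (.node (.leaf 13421814414) (.leaf 825707683213)) (.leaf 804769684102)) (.node (.leaf 479425838849) (.leaf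 511101240709)))) (.node (.node (.node (.node (.leaf 133680885645) (.leaf 979252729608)) (.leaf 746250727046)) (.node (.leaf 379030945668) (.leaf 391915872899))) (.node (.node (.node (.leaf 230317679104) (.leaf 1098438127498)) (.leaf 540092309772)) (.node (.leaf 625454761740) (.leaf 881005376772)))))) (.node (.node (.node (.node (.node (.node (.leaf 26843552135) (.leaf 155692781187)) (.leaf 545997834759)) (.node (.node (.leaf 269509218958) (.leaf 1120986711309)) (.leaf 195421125774))) (.node (.node (.node (.leaf 196494800139) (.leaf 351650693134)) (.leaf 669478217614)) (.node (.leaf 379030966535) (.leaf 182536262540)))) (.node (.node (.node (.node (.leaf 108447950086) (.leaf 768262506380)) (.leaf 481573381262)) (.node (.leaf 303868983305) (.leaf 490163265678))) (.node (.node (.node (.leaf 236223257603) (.leaf 1067299627522)) (.leaf 399969006464)) (.node (.leaf 594853112449) (.leaf 852551118344))))) (.node (.node (.node (.node (.node (.leaf 44560290445) (.leaf 936839964940)) (.leaf 525596735238)) (.node (.node (.leaf 352187403780)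 (.leaf 1144072186240)) (.leaf 821412691200))) (.node (.node (.node (.leaf 33285997582) (.leaf 1038845462402)) (.leaf 348966290178)) (.node (.leaf 524523006213) (.leaf 648540241033)))) (.node (.node (.node (.node (.leaf 142270827521) (.leaf 1003411955078)) (.leaf 757525007111)) (.node (.leaf 303869028870) (.leaf 451508544774))) (.node (.node (.node (.leaf 300110911618) (.leaf 1100585632257)) (.leaf 542239807756)) (.node (.leaf 591631865474) (.leaf 156229647367))))))
def dF_181 : BT := .node (.node (.node (.node (.node (.node (.node (.leaf 4294968327) (.leaf 904090722957)) (.leaf 688268673408)) (.node (.node (.leaf 106837313934) (.leaf 451508703240)) (.leaf 476741412878))) (.node (.node (.node (.leaf 162671930893) (.leaf 639413498635)) (.leaf 661425076876)) (.node (.leaf 193273623426) (.leaf 766651802625)))) (.node (.node (.node (.node (.leaf 91268076933) (.leaf 654982742669)) (.leaf 724775904141)) (.node (.node (.leaf 143881485068) (.leaf 469225452680)) (.leaf 556198397577))) (.node (.node (.node (.leaf 226559578882) (.leaf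 1073205170561)) (.leaf 470299032206)) (.node (.leaf 586263175821) (.leaf 857383051021))))) (.node (.node (.node (.node (.node (.leaf 20401106702) (.leaf 929860547081)) (.leaf 431107508736)) (.node (.node (.leaf 345744950283) (.leaf 1060320322945)) (.leaf 472446596238))) (.node (.node (.node (.leaf 37044130186) (.leaf 1039919204620)) (.leaf 823560175365)) (.node (.leaf 489089504003) (.leaf 459024765057)))) (.node (.node (.node (.node (.leaf 135291502340) (.leaf 994285152387)) (.leaf 765041232140)) (.node (.leaf 380641568137) (.leaf 506806241545))) (.node (.node (.node (.leaf 145492084097) (.leaf 1088237504904)) (.leaf 483184008205)) (.node (.leaf 499290053767) (.leaf 882615921031)))))) (.node (.node (.node (.node (.node (.node (.leaf 34896617863) (.leaf 915901994373)) (.leaf 645318943490)) (.node (.node (.leaf 323196366598) (.leaf 1129039761538)) (.leaf 469225349773))) (.node (.node (.node (.leaf 207769089675) (.leaf 1020591755272)) (.leaf 817654594052)) (.node (.leaf 449897931648) (.leaf 453656041861)))) (.node (.node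 (.node (.node (.leaf 124017210246) (.leaf 985158358529)) (.leaf 468688482563)) (.node (.leaf 306016492800) (.leaf 446676736653))) (.node (.node (.node (.leaf 255013744128) (.leaf 1014149411585)) (.leaf 746787535234)) (.node (.leaf 616864825088) (.leaf 571767728771))))) (.node (.node (.node (.node (.node (.leaf 3221228292) (.leaf 936302983435)) (.leaf 667867582980)) (.node (.node (.leaf 147639583362) (.leaf 1148367154567)) (.leaf 531502238467))) (.node (.node (.node (.leaf 1610621965) (.leaf 1060857175171)) (.leaf 469225377550)) (.node (.leaf 535797270535) (.leaf 810138399371)))) (.node (.node (.node (.node (.leaf 73014471310) (.leaf 1005559435398)) (.leaf 569083352578)) (.node (.leaf 392452680323) (.leaf 557272129413))) (.node (.node (.node (.leaf 309774590342) (.leaf 521301920523)) (.leaf 401042731651)) (.node (.leaf 666793707405) (.leaf 893353404174))))))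
def dF_182 : BT := .node dF_180 dF_181
def dF_183 : BT := .node (.node (.node (.node (.node (.node (.node (.leaf 12884904967) (.leaf 693637432587)) (.leaf 540629109895)) (.node (.node (.leaf 83751920782) (.leaf 823023375245)) (.leaf 540092308737))) (.node (.node (.node (.leaf 155155737089) (.leaf 953482973575)) (.leaf 380104716558)) (.node (.leaf 406948248449) (.leaf 489089532558)))) (.node (.node (.node (.node (.leaf 81067527047) (.leaf 957241064450)) (.leaf 621696615811)) (.node (.node (.leaf 8053065486) (.leaf 1154272736006)) (.leaf 822486359945))) (.node (.node (.node (.leaf 233538859776) (.leaf 1080721385230)) (.leaf 466540949635)) (.node (.leaf 380641612807) (.leaf 532039276672))))) (.node (.node (.node (.node (.node (.leaf 42949683206) (.leaf 919660089225)) (.leaf 599148105862)) (.node (.node (.leaf 342523723269) (.leaf 1137629561739)) (.leaf 609885501441))) (.node (.node (.node (.leaf 4294973198) (.leaf 1037234684685)) (.leaf 541166019594)) (.node (.leaf 422517522562) (.leaf 458487868042)))) (.node (.node (.node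 (.node (.leaf 137438986380) (.leaf 993748294030)) (.leaf 627065405058)) (.node (.leaf 379567825665) (.leaf 150860833798))) (.node (.node (.node (.leaf 275951714309) (.leaf 1091458806795)) (.leaf 753230085378)) (.node (.leaf 636729053569) (.leaf 882079063684)))))) (.node (.node (.node (.node (.node (.node (.leaf 28454165127) (.leaf 909996413068)) (.leaf 636192194183)) (.node (.node (.leaf 146028964864) (.leaf 988379619466)) (.leaf 753766859149))) (.node (.node (.node (.leaf 201326635140) (.leaf 970662851854)) (.leaf 803159012097)) (.node (.leaf 446676701189) (.leaf 554587816964)))) (.node (.node (.node (.node (.leaf 55297730052) (.leaf 485868406923)) (.leaf 742492648453)) (.node (.leaf 183073015680) (.leaf 207769193614))) (.node (.node (.node (.leaf 247497549189) (.leaf 1081795145088)) (.leaf 468151532419)) (.node (.leaf 108984938503) (.leaf 865972923277))))) (.node (.node (.node (.node (.node (.leaf 41339075214) (.leaf 951335482766)) (.leaf 665720101894)) (.node (.node (.leaf 372588501888) (.leaf 467614837770)) (.leaf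 538481637765))) (.node (.node (.node (.leaf 14495521550) (.leaf 1054951593728)) (.leaf 833223854221)) (.node (.leaf 536334169091) (.leaf 812822703498)))) (.node (.node (.node (.node (.leaf 55297741194) (.leaf 1005022587012)) (.leaf 644782149254)) (.node (.leaf 390305246216) (.leaf 494995113601))) (.node (.node (.node (.leaf 299574042125) (.leaf 1105954342405)) (.leaf 419833209345)) (.node (.leaf 512174959107) (.leaf 767725616513))))))
def dF_184 : BT := .node (.node (.node (.node (.node (.node (.node (.leaf 25232938882) (.leaf 868657352064)) (.leaf 495532015235)) (.node (.node (.leaf 104152980366) (.leaf 1085016381454)) (.leaf 529891700229))) (.node (.node (.node (.leaf 192199823105) (.leaf 1027034299652)) (.leaf 463319723136)) (.node (.leaf 426275605900) (.leaf 584115691399)))) (.node (.node (.node (.node (.leaf 95026174082) (.leaf 613643683586)) (.leaf 627065386502)) (.node (.node (.leaf 148176453767) (.leaf 1157493962245)) (.leaf 590021272580))) (.node (.node (.node (.leaf 235149515652) (.leaf 1079110655752)) (.leaf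 522912444942)) (.node (.leaf 562640852225) (.leaf 507343216654))))) (.node (.node (.node (.node (.node (.leaf 57445201030) (.leaf 852014359948)) (.leaf 708669772929)) (.node (.node (.leaf 352724273026) (.leaf 1140850960004)) (.leaf 742492599692))) (.node (.node (.node (.leaf 35970368131) (.leaf 1054414722562)) (.leaf 304942874370)) (.node (.leaf 514859327489) (.leaf 497142569472)))) (.node (.node (.node (.node (.leaf 145492051078) (.leaf 996969521421)) (.leaf 637265954822)) (.node (.leaf 385473406856) (.leaf 507343147918))) (.node (.node (.node (.leaf 296352814221) (.leaf 512711984267)) (.leaf 845571844749)) (.node (.leaf 577136347778) (.leaf 885837113990)))))) (.node (.node (.node (.node (.node (.node (.leaf 39191585923) (.leaf 928250028163)) (.leaf 696321727238)) (.node (.node (.leaf 330712560264) (.leaf 1135482236045)) (.leaf 485331340173))) (.node (.node (.node (.leaf 68719526542) (.leaf 1034013623171)) (.leaf 783294854662)) (.node (.leaf 463856578692) (.leaf 565862093958)))) (.node (.node (.node (.node (.leaf 115427273602)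 (.leaf 920733848334)) (.leaf 746250745732)) (.node (.leaf 71940783373) (.leaf 634044689792))) (.node (.node (.node (.leaf 4831891342) (.leaf 1099511890052)) (.leaf 716722816526)) (.node (.leaf 602906177806) (.leaf 872952210445))))) (.node (.node (.node (.node (.node (.leaf 3221242881) (.leaf 937913706882)) (.leaf 462246023687)) (.node (.node (.leaf 354871709447) (.leaf 1067299647371)) (.leaf 527744232457))) (.node (.node (.node (.leaf 199716026889) (.leaf 1060320278402)) (.leaf 830539494019)) (.node (.leaf 556735268609) (.leaf 572304559373)))) (.node (.node (.node (.node (.leaf 129922801550) (.leaf 437013163784)) (.leaf 781684148365)) (.node (.leaf 149787078534) (.leaf 686658034830))) (.node (.node (.node (.leaf 314606428298) (.leaf 1111859923973)) (.leaf 488552635785)) (.node (.leaf 658740733062) (.leaf 245887091075))))))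
def dF_185 : BT := .node dF_183 dF_184
def dF_186 : BT := .node dF_182 dF_185
def dF_187 : BT := .node dF_179 dF_186
def dF_188 : BT := .node dF_172 dF_187
def dF_189 : BT := .node dF_157 dF_188
def dF_190 : BT := .node (.node (.node (.node (.node (.node (.node (.leaf 6) (.leaf 745177039362)) (.leaf 668941315980)) (.node (.node (.leaf 305479624193) (.leaf 1115081150212)) (.leaf 554587830026))) (.node (.node (.node (.leaf 127775317134) (.leaf 1012001774595)) (.leaf 784905460613)) (.node (.leaf 395137082379) (.leaf 765041180814)))) (.node (.node (.node (.node (.leaf 75161945740) (.leaf 954019838209)) (.leaf 656056398727)) (.node (.node (.leaf 137975885198) (.leaf 934155661321)) (.leaf 424665078024))) (.node (.node (.node (.leaf 137975857550) (.leaf 937913737100)) (.leaf 848256243329)) (.node (.leaf 559956494861) (.leaf 702764125835))))) (.node (.node (.node (.node (.node (.leaf 37580972807) (.leaf 913217639051)) (.leaf 592168781702)) (.node (.node (.leaf 40265397514) (.leaf 1135482241288)) (.leaf 532576081163))) (.node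 (.node (.node (.leaf 90194355085) (.leaf 1003411981700)) (.leaf 783294817676)) (.node (.leaf 467077804933) (.leaf 509490603909)))) (.node (.node (.node (.node (.leaf 113816660486) (.leaf 976031549710)) (.leaf 749471971972)) (.node (.leaf 337154979074) (.leaf 350576870915))) (.node (.node (.node (.leaf 263066809731) (.leaf 1100048760970)) (.leaf 424128133251)) (.node (.leaf 602369306889) (.leaf 512711929095)))))) (.node (.node (.node (.node (.node (.node (.leaf 23085454727) (.leaf 905164466701)) (.leaf 492847660038)) (.node (.node (.leaf 93952429325) (.leaf 1004485745281)) (.leaf 407485119365))) (.node (.node (.node (.leaf 191126090761) (.leaf 1030255525892)) (.leaf 149787173644)) (.node (.leaf 421980637187) (.leaf 442381750404)))) (.node (.node (.node (.node (.leaf 93415560966) (.leaf 969052125441)) (.leaf 731755182339)) (.node (.node (.leaf 246423807630) (.leaf 1158030833291)) (.leaf 448287351942))) (.node (.node (.node (.leaf 238370741893) (.leaf 994285184001)) (.leaf 470835912965)) (.node (.leaf 572841399948) (.leaf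 391915969806))))) (.node (.node (.node (.node (.node (.leaf 1610626570) (.leaf 852014360064)) (.leaf 711890999181)) (.node (.node (.leaf 353798015105) (.leaf 451508709634)) (.leaf 526670447756))) (.node (.node (.node (.leaf 201326626574) (.leaf 1053340961038)) (.leaf 823560176011)) (.node (.leaf 509490616707) (.leaf 821412697226)))) (.node (.node (.node (.node (.leaf 146565793669) (.leaf 1000190747648)) (.leaf 763430588546)) (.node (.leaf 323196381058) (.leaf 643708375054))) (.node (.node (.node (.leaf 298500293641) (.leaf 1103806858244)) (.leaf 845035014030)) (.node (.leaf 642634635012) (.leaf 414464555274))))))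
def dF_191 : BT := .node (.node (.node (.node (.node (.node (.node (.leaf 12348033927) (.leaf 899795863172)) (.leaf 625454773378)) (.node (.node (.leaf 85362488078) (.leaf 927713203083)) (.leaf 540092239115))) (.node (.node (.node (.leaf 176630573701) (.leaf 953482967049)) (.leaf 658203881477)) (.node (.leaf 410169474700) (.leaf 635655326092)))) (.node (.node (.node (.node (.leaf 80530656007) (.leaf 535797398794)) (.leaf 672162554246)) (.node (.node (.leaf 156229518344) (.leaf 931471307658)) (.leaf 754303754250))) (.node (.node (.node (.leaf 233002031362) (.leaf 1079647647366)) (.leaf 672699354497)) (.node (.leaf 572304528769) (.leaf 832686987404))))) (.node (.node (.node (.node (.node (.leaf 41339070083) (.leaf 920733832197)) (.leaf 652835196935)) (.node (.node (.leaf 343060592777) (.leaf 1139240334977)) (.leaf 468688430604))) (.node (.node (.node (.leaf 1610651918) (.leaf 904090863111)) (.leaf 466004053387)) (.node (.leaf 192736774028) (.leaf 597000571788)))) (.node (.node (.node (.node (.leaf 140660212609) (.leaf 925028817025))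 (.leaf 539555446150)) (.node (.leaf 59055891212) (.leaf 384399680519))) (.node (.node (.node (.leaf 274877972997) (.leaf 1089311339139)) (.leaf 620622872205)) (.node (.leaf 639950279820) (.leaf 882079043328)))))) (.node (.node (.node (.node (.node (.node (.leaf 25769809927) (.leaf 909996413184)) (.leaf 579283865479)) (.node (.node (.leaf 322659465225) (.leaf 1133871636485)) (.leaf 521838652674))) (.node (.node (.node (.leaf 19327401099) (.leaf 1020054971268)) (.leaf 808527786372)) (.node (.leaf 142807768962) (.leaf 586263175300)))) (.node (.node (.node (.node (.leaf 112206047493) (.leaf 971199703174)) (.leaf 528281155078)) (.node (.leaf 306016493326) (.leaf 155155797262))) (.node (.node (.node (.leaf 248034420616) (.leaf 912680808329)) (.leaf 416075101966)) (.node (.leaf 602906178060) (.leaf 865436022024))))) (.node (.node (.node (.node (.node (.leaf 30601651981) (.leaf 950261717380)) (.leaf 715112179971)) (.node (.node (.leaf 375272857088) (.leaf 1146756522249)) (.leaf 752156343809))) (.node (.node (.node (.leaf 15569265408)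 (.leaf 1058172819980)) (.leaf 836445080448)) (.node (.leaf 539555395333) (.leaf 459024813709)))) (.node (.node (.node (.node (.leaf 157840085892) (.leaf 1008243813252)) (.leaf 770409899266)) (.node (.leaf 146565852162) (.leaf 592705604485))) (.node (.node (.node (.leaf 304405880586) (.leaf 1107028068237)) (.leaf 427886214529)) (.node (.leaf 649077074438) (.leaf 777389292932))))))
def dF_192 : BT := .node dF_190 dF_191
def dF_193 : BT := .node (.node (.node (.node (.node (.node (.node (.leaf 10737420932) (.leaf 897648367235)) (.leaf 533649786503)) (.node (.node (.leaf 77846342414) (.leaf 1111859888000)) (.leaf 408021990286))) (.node (.node (.node (.leaf 178778056065) (.leaf 1005022589063)) (.leaf 73551438606)) (.node (.leaf 144418369927) (.leaf 494995112462)))) (.node (.node (.node (.node (.leaf 89120592647) (.leaf 955630359304)) (.leaf 720480935813)) (.node (.node (.leaf 329638822025) (.leaf 1152662121101)) (.leaf 432718091009))) (.node (.node (.node (.leaf 219580255500) (.leaf 1070520853892)) (.leaf 533649880461)) (.node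 (.leaf 562640765319) (.leaf 563177733000))))) (.node (.node (.node (.node (.node (.leaf 536872197) (.leaf 915901894155)) (.leaf 559956481799)) (.node (.node (.leaf 27917368331) (.leaf 1138703458701)) (.leaf 345208123139))) (.node (.node (.node (.leaf 41339089550) (.leaf 394063493127)) (.leaf 805306511873)) (.node (.leaf 474593985030) (.leaf 596463750656)))) (.node (.node (.node (.node (.leaf 132070275846) (.leaf 526670598280)) (.leaf 603979953797)) (.node (.leaf 379567738506) (.leaf 450434798080))) (.node (.node (.node (.leaf 270046112260) (.leaf 352187579662)) (.leaf 675920638221)) (.node (.leaf 628675987969) (.leaf 418759521546)))))) (.node (.node (.node (.node (.node (.node (.leaf 30064778368) (.leaf 908922590474)) (.leaf 548682235267)) (.node (.node (.leaf 87509980814) (.leaf 936303139590)) (.leaf 607737983619))) (.node (.node (.node (.leaf 195957929992) (.leaf 1029181638408)) (.leaf 399969019022)) (.node (.leaf 432718058373) (.leaf 444529221257)))) (.node (.node (.node (.node (.leaf 105763594886) (.leaf 886374107010))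 (.leaf 724775780486)) (.node (.leaf 375809640590) (.leaf 599684959238))) (.node (.node (.node (.leaf 234612644482) (.leaf 950798639627)) (.leaf 609885526158)) (.node (.leaf 598074338700) (.leaf 867583600769))))) (.node (.node (.node (.node (.node (.leaf 63350782851) (.leaf 940061191169)) (.leaf 471372806914)) (.node (.node (.leaf 359166723981) (.leaf 1144609057282)) (.leaf 794032194437))) (.node (.node (.node (.leaf 152471386382) (.leaf 1039382204170)) (.leaf 787589743756)) (.node (.leaf 527744232452) (.leaf 472983394569)))) (.node (.node (.node (.node (.leaf 147639536896) (.leaf 952946106382)) (.leaf 771483684613)) (.node (.leaf 389231493643) (.leaf 437013026564))) (.node (.node (.node (.leaf 277562333451) (.leaf 1100585623691)) (.leaf 401579592206)) (.node (.leaf 651224571648) (.leaf 396210945037))))))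
def dF_194 : BT := .node (.node (.node (.node (.node (.node (.node (.leaf 3758097287) (.leaf 454193006350)) (.leaf 691489827085)) (.node (.node (.leaf 12884926990) (.leaf 1122597344772)) (.leaf 724239047822))) (.node (.node (.node (.leaf 54760866445) (.leaf 995358913408)) (.leaf 739808288140)) (.node (.leaf 398895182729) (.leaf 638876492164)))) (.node (.node (.node (.node (.leaf 94489303172) (.leaf 964757187850)) (.leaf 727997130372)) (.node (.node (.leaf 178241207182) (.leaf 1155883349253)) (.leaf 502511293582))) (.node (.node (.node (.leaf 223875223683) (.leaf 627065481096)) (.leaf 525059895822)) (.node (.leaf 154082091906) (.leaf 860604277248))))) (.node (.node (.node (.node (.node (.leaf 37044104078) (.leaf 932544995844)) (.leaf 649613938439)) (.node (.node (.leaf 348966174475) (.leaf 420907066891)) (.leaf 354871799686))) (.node (.node (.node (.leaf 31675384718) (.leaf 1043140430849)) (.leaf 824096942605)) (.node (.leaf 504121906693) (.leaf 514322489728)))) (.node (.node (.node (.node (.leaf 3221259400) (.leaf 908385820172))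 (.leaf 768262458369)) (.node (.leaf 384399663749) (.leaf 761819944974))) (.node (.node (.node (.leaf 100394928001) (.leaf 1039382344972)) (.leaf 785979203342)) (.node (.leaf 440771137282) (.leaf 885300342147)))))) (.node (.node (.node (.node (.node (.node (.leaf 35433488902) (.leaf 919123220613)) (.leaf 498753209094)) (.node (.node (.leaf 326417591819) (.leaf 1129039625993)) (.leaf 620085947015))) (.node (.node (.node (.leaf 35970400781) (.leaf 1011465041806)) (.leaf 820875820292)) (.node (.leaf 453119154957) (.leaf 689879256846)))) (.node (.node (.node (.node (.leaf 122406597126) (.leaf 952946104327)) (.leaf 737660778115)) (.node (.leaf 311385201665) (.leaf 437013109002))) (.node (.node (.node (.leaf 256624357252) (.leaf 1085016372100)) (.leaf 671088753664)) (.node (.leaf 617401696011) (.leaf 572841470733))))) (.node (.node (.node (.node (.node (.leaf 70330103298) (.leaf 936839854474)) (.leaf 713501553926)) (.node (.node (.leaf 344134334342) (.leaf 1148904025603)) (.leaf 411243320461))) (.node (.node (.node (.leaf 53687098382)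 (.leaf 1064078401413)) (.leaf 478352182286)) (.node (.leaf 544924105741) (.leaf 542239806601)))) (.node (.node (.node (.node (.leaf 165356280326) (.leaf 1005559435661)) (.leaf 597000639619)) (.node (.leaf 388157763083) (.leaf 763430588544))) (.node (.node (.node (.leaf 311922072969) (.leaf 1110786181766)) (.leaf 733902681600)) (.node (.leaf 411243244294) (.leaf 892816539520))))))
def dF_195 : BT := .node dF_193 dF_194
def dF_196 : BT := .node dF_192 dF_195
def dF_197 : BT := .node (.node (.node (.node (.node (.node (.node (.leaf 2147484292) (.leaf 896574636932)) (.leaf 618475449862)) (.node (.node (.leaf 315680172298) (.leaf 1115081150085)) (.leaf 844498073358))) (.node (.node (.node (.leaf 176630530954) (.leaf 969052237831)) (.leaf 791347913092)) (.node (.leaf 396210827521) (.leaf 581431323531)))) (.node (.node (.node (.node (.leaf 83751882380) (.leaf 951872235018)) (.leaf 404263920770)) (.node (.node (.leaf 13421775886) (.leaf 1152125251717)) (.leaf 653372032526))) (.node (.node (.node (.leaf 217432733441) (.leaf 1016833761666))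 (.leaf 672162492942)) (.node (.leaf 565325205249) (.leaf 771483627401))))) (.node (.node (.node (.node (.node (.leaf 46170909569) (.leaf 922881318925)) (.leaf 643708356359)) (.node (.node (.leaf 335544398861) (.leaf 1136555978508)) (.leaf 613643623173))) (.node (.node (.node (.leaf 44560286725) (.leaf 1034013615750)) (.leaf 812285790464)) (.node (.leaf 340913142284) (.leaf 641560907276)))) (.node (.node (.node (.node (.leaf 128312178689) (.leaf 972273268109)) (.leaf 621159823618)) (.node (.leaf 197568542593) (.leaf 154618945293))) (.node (.node (.node (.leaf 264677422722) (.leaf 1098975018886)) (.leaf 670015056652)) (.node (.leaf 617938529799) (.leaf 875636666372)))))) (.node (.node (.node (.node (.node (.node (.leaf 18790486407) (.leaf 152471555591)) (.leaf 631360322434)) (.node (.node (.leaf 255013739277) (.leaf 1122060473486)) (.leaf 530965425542))) (.node (.node (.node (.leaf 180925543819) (.leaf 1032939880962)) (.leaf 801548462852)) (.node (.leaf 430033703051) (.leaf 554050946700)))) (.node (.node (.node (.node (.leaf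 104689852933) (.leaf 965831001102)) (.leaf 727460214019)) (.node (.leaf 154618889230) (.leaf 705448546697))) (.node (.node (.node (.leaf 239444483843) (.leaf 1067836483715)) (.leaf 461709096579)) (.node (.leaf 592705628292) (.leaf 854161760775))))) (.node (.node (.node (.node (.node (.leaf 59592685572) (.leaf 934692480770)) (.leaf 717796522246)) (.node (.node (.leaf 356482370697) (.leaf 1142998309511)) (.leaf 624917899917))) (.node (.node (.node (.leaf 10200553357) (.leaf 1039919206541)) (.leaf 658203935361)) (.node (.leaf 519154295812) (.leaf 594316216457)))) (.node (.node (.node (.node (.leaf 148713277833) (.leaf 432718194441)) (.leaf 492310807554)) (.node (.leaf 344134346881) (.leaf 493921380609))) (.node (.node (.node (.leaf 183073052553) (.leaf 988916482562)) (.leaf 678604989198)) (.node (.leaf 588947543815) (.leaf 538481736577))))))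
def dF_198 : BT := .node (.node (.node (.node (.node (.node (.node (.leaf 8053065607) (.leaf 904627702410)) (.leaf 682899963021)) (.node (.node (.leaf 86973142540) (.leaf 1117228468490)) (.leaf 521301813768))) (.node (.node (.node (.leaf 163208801804) (.leaf 734439649928)) (.leaf 179851924877)) (.node (.leaf 412853765250) (.leaf 498216316039)))) (.node (.node (.node (.node (.leaf 76235687687) (.leaf 821412725122)) (.leaf 719407135494)) (.node (.node (.leaf 21474850571) (.leaf 1153198994445)) (.leaf 562640825612))) (.node (.node (.node (.leaf 228170192003) (.leaf 395674119054)) (.leaf 810675256195)) (.node (.leaf 580894465409) (.leaf 508416956928))))) (.node (.node (.node (.node (.node (.leaf 54760846212) (.leaf 930934383118)) (.leaf 700079777422)) (.node (.node (.leaf 337691886208) (.leaf 927713207686)) (.leaf 674310036741))) (.node (.node (.node (.leaf 5368709632) (.leaf 938987472643)) (.leaf 615791129732)) (.node (.leaf 497142583180) (.leaf 458487881358)))) (.node (.node (.node (.node (.leaf 138512728322) (.leaf 961536032649))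 (.leaf 759672521729)) (.node (.leaf 381715309834) (.leaf 506269387651))) (.node (.node (.node (.leaf 279709811979) (.leaf 1088237561613)) (.leaf 809064624259)) (.node (.leaf 584115657858) (.leaf 885300242305)))))) (.node (.node (.node (.node (.node (.node (.leaf 34896617350) (.leaf 909996413443)) (.leaf 562103952898)) (.node (.node (.leaf 324270107909) (.leaf 1131724105987)) (.leaf 180388819078))) (.node (.node (.node (.leaf 194347319168) (.leaf 1024349806987)) (.leaf 807454028812)) (.node (.leaf 431644316165) (.leaf 584652525964)))) (.node (.node (.node (.node (.leaf 120795984133) (.leaf 979789648141)) (.leaf 741955725575)) (.node (.leaf 153008244609) (.leaf 430570588549))) (.node (.node (.node (.leaf 251792516875) (.leaf 914828292737)) (.leaf 521301815043)) (.node (.leaf 611496114700) (.leaf 869194213892))))) (.node (.node (.node (.node (.node (.leaf 68719493128) (.leaf 945429899533)) (.leaf 658740778370)) (.node (.node (.leaf 329638825348) (.leaf 410169650441)) (.leaf 488015805194))) (.node (.node (.node (.leaf 16106128397)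 (.leaf 908922706318)) (.leaf 845035017088)) (.node (.leaf 382252216963) (.leaf 566935793288)))) (.node (.node (.node (.node (.leaf 165356280452) (.leaf 914291403783)) (.leaf 781147360397)) (.node (.leaf 391378988288) (.leaf 461172247302))) (.node (.node (.node (.leaf 10200621193) (.leaf 1109712439812)) (.leaf 462245956998)) (.node (.leaf 661425121409) (.leaf 893353410692))))))
def dF_199 : BT := .node dF_197 dF_198
def dF_200 : BT := .node (.node (.node (.node (.node (.node (.node (.leaf 16643002247) (.leaf 849866867851)) (.leaf 145492179085)) (.node (.node (.leaf 1610669710) (.leaf 1116154880137)) (.leaf 622233489153))) (.node (.node (.node (.leaf 180925540617) (.leaf 980863383555)) (.leaf 402116360195)) (.node (.leaf 401579538061) (.leaf 441308022414)))) (.node (.node (.node (.node (.leaf 84825624327) (.leaf 953482969356)) (.leaf 479425851655)) (.node (.node (.leaf 1610616077) (.leaf 563177861769)) (.leaf 433254948615))) (.node (.node (.node (.leaf 228170192140) (.leaf 1079110790532)) (.leaf 533112960643)) (.node (.leaf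 56371581964) (.leaf 445603059722))))) (.node (.node (.node (.node (.node (.leaf 44560296326) (.leaf 919123139211)) (.leaf 703837933580)) (.node (.node (.leaf 340913110536) (.leaf 1138166427788)) (.leaf 473520323846))) (.node (.node (.node (.leaf 8589964174) (.leaf 869194250253)) (.leaf 543313492097)) (.node (.leaf 488015775492) (.leaf 691489890049)))) (.node (.node (.node (.node (.leaf 127775307526) (.leaf 992674553092)) (.leaf 756451276806)) (.node (.leaf 30601732746) (.leaf 384399693582))) (.node (.node (.node (.leaf 195421077252) (.leaf 1093069412609)) (.leaf 754303779084)) (.node (.leaf 631360343181) (.leaf 881542245774)))))) (.node (.node (.node (.node (.node (.node (.leaf 32212262402) (.leaf 910533283329)) (.leaf 562103999494)) (.node (.node (.leaf 255013716097) (.leaf 1132261023501)) (.leaf 206695489166))) (.node (.node (.node (.leaf 200252861196) (.leaf 351650692110)) (.leaf 803159075972)) (.node (.leaf 441307995013) (.leaf 500363809280)))) (.node (.node (.node (.node (.leaf 102005497606) (.leaf 971199711500))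 (.leaf 737123938053)) (.node (.leaf 145492019337) (.leaf 490700136320))) (.node (.node (.node (.leaf 245886936456) (.leaf 920733872523)) (.leaf 526133686016)) (.node (.leaf 397284618114) (.leaf 650687751948))))) (.node (.node (.node (.node (.node (.leaf 44560301838) (.leaf 948651127809)) (.leaf 406948275974)) (.node (.node (.leaf 367219791500) (.leaf 868657408777)) (.leaf 846645630596))) (.node (.node (.node (.leaf 149250162816) (.leaf 1041529817486)) (.leaf 528281175178)) (.node (.leaf 534186684932) (.leaf 434328676364)))) (.node (.node (.node (.node (.leaf 146028924811) (.leaf 961536042254)) (.leaf 774167975939)) (.node (.leaf 30064864136) (.leaf 447750492162))) (.node (.node (.node (.leaf 304942750856) (.leaf 1104880600327)) (.leaf 409095764230)) (.node (.leaf 652298300678) (.leaf 889595313413))))))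
def dF_201 : BT := .node (.node (.node (.node (.node (.node (.node (.leaf 20937970700) (.leaf 778463008009)) (.leaf 689342370050)) (.node (.node (.leaf 138512755982) (.leaf 1089311349378)) (.leaf 468151532302))) (.node (.node (.node (.leaf 191126045828) (.leaf 1021665589252)) (.leaf 605053632652)) (.node (.leaf 420906895491) (.leaf 583578833796)))) (.node (.node (.node (.node (.leaf 97710529286) (.leaf 966367872128)) (.leaf 427349362183)) (.node (.node (.leaf 10200549646) (.leaf 1156957089677)) (.leaf 503585035269))) (.node (.node (.node (.leaf 219580255363) (.leaf 1017370633604)) (.leaf 612032998919)) (.node (.leaf 585726284418) (.leaf 597000660357))))) (.node (.node (.node (.node (.node (.leaf 1073755272) (.leaf 933081848065)) (.leaf 568546405254)) (.node (.node (.leaf 351650530825) (.leaf 1140850807820)) (.leaf 424128133378))) (.node (.node (.node (.leaf 9663678990) (.leaf 1051730367489)) (.leaf 824097046661)) (.node (.leaf 509490617095) (.leaf 775241781761)))) (.node (.node (.node (.node (.leaf 70330123916) (.leaf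 984084619011)) (.leaf 766651801474)) (.node (.leaf 347892436613) (.leaf 561030210702))) (.node (.node (.node (.leaf 290984103809) (.leaf 1102733116293)) (.leaf 742492567040)) (.node (.leaf 435402460419) (.leaf 500363901452)))))) (.node (.node (.node (.node (.node (.node (.leaf 39728457088) (.leaf 927713157253)) (.leaf 696858610052)) (.node (.node (.leaf 57982137101) (.leaf 1136019120646)) (.leaf 610959209601))) (.node (.node (.node (.leaf 216359029252) (.leaf 1018444362766)) (.leaf 745713891598)) (.node (.leaf 460635352452) (.leaf 456340423563)))) (.node (.node (.node (.node (.leaf 118111628806) (.leaf 929860654337)) (.leaf 517543734275)) (.node (.leaf 155692649990) (.leaf 570693930624))) (.node (.node (.node (.leaf 243202585357) (.leaf 1094143179652)) (.leaf 538481701901)) (.node (.leaf 615254163334) (.leaf 512711928581))))) (.node (.node (.node (.node (.node (.leaf 57445204737) (.leaf 852551231881)) (.leaf 465467249927)) (.node (.node (.leaf 354871754112) (.leaf 1149977635723)) (.leaf 768262458251))) (.node (.node (.node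 (.leaf 25232954880) (.leaf 1064615127689)) (.leaf 421443867521)) (.node (.leaf 553514042380) (.leaf 542776675464)))) (.node (.node (.node (.node (.leaf 173409346052) (.leaf 701153652365)) (.leaf 601295607813)) (.node (.leaf 351650541325) (.leaf 549755932174))) (.node (.node (.node (.leaf 314069557129) (.leaf 1107564926208)) (.leaf 741418906249)) (.node (.leaf 401042694534) (.leaf 865436122757))))))
def dF_202 : BT := .node dF_200 dF_201
def dF_203 : BT := .node dF_199 dF_202
def dF_204 : BT := .node dF_196 dF_203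
def dF_205 : BT := .node (.node (.node (.node (.node (.node (.node (.leaf 1073742087) (.leaf 752156361221)) (.leaf 673236281741)) (.node (.node (.leaf 314606430212) (.leaf 454193057546)) (.leaf 392452814862))) (.node (.node (.node (.leaf 4295009152) (.leaf 572304633484)) (.leaf 787052944772)) (.node (.leaf 395673953674) (.leaf 685584273166)))) (.node (.node (.node (.node (.leaf 79456914061) (.leaf 423591377802)) (.leaf 658203882883)) (.node (.node (.leaf 348429303169) (.leaf 1151588206088)) (.leaf 570157044491))) (.node (.node (.node (.leaf 74625060225) (.leaf 1016833761548)) (.leaf 750008808974)) (.node (.leaf 502511306374) (.leaf 446676782720))))) (.node (.node (.node (.node (.node (.leaf 41875941249) (.leaf 769336234891)) (.leaf 503585080710)) (.node (.node (.leaf 325343852288) (.leaf 823560249986)) (.leaf 348966192013))) (.node (.node (.node (.leaf 1073768462) (.leaf 1036161080454)) (.leaf 783831709186)) (.node (.leaf 471372773253) (.leaf 511638111502)))) (.node (.node (.node (.node (.leaf 109521679108) (.leaf 148176603918))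 (.leaf 534186736390)) (.node (.leaf 181999322755) (.leaf 181999379853))) (.node (.node (.node (.leaf 267361778048) (.leaf 935229390980)) (.leaf 624917912333)) (.node (.leaf 621159793413) (.leaf 872415440010)))))) (.node (.node (.node (.node (.node (.node (.leaf 21474841603) (.leaf 865972996871)) (.leaf 630823483783)) (.node (.node (.leaf 94489298957) (.leaf 1123671021581)) (.leaf 485868304524))) (.node (.node (.node (.leaf 194347316229) (.leaf 915902022279)) (.leaf 797253494532)) (.node (.leaf 428959960965) (.leaf 753766879370)))) (.node (.node (.node (.node (.leaf 100394884621) (.leaf 542776723073)) (.leaf 729607698179)) (.node (.leaf 180388691726) (.leaf 448824199175))) (.node (.node (.node (.leaf 241055096966) (.leaf 1068373337609)) (.leaf 529354831366)) (.node (.leaf 588410659972) (.leaf 489089604108))))) (.node (.node (.node (.node (.node (.leaf 59055814149) (.leaf 932544996992)) (.leaf 716185967500)) (.node (.node (.leaf 349503048329) (.leaf 391379167501)) (.leaf 472446596353))) (.node (.node (.node (.leaf 149250162574)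 (.leaf 152471590030)) (.leaf 150324052483)) (.node (.leaf 455266570380) (.leaf 434328720128)))) (.node (.node (.node (.node (.leaf 142807697671) (.leaf 1004485704576)) (.leaf 548145382791)) (.node (.leaf 344671217664) (.leaf 438086824970))) (.node (.node (.node (.leaf 299574040065) (.leaf 1102196236173)) (.leaf 832686942733)) (.node (.leaf 646929603332) (.leaf 887984700161))))))
def dF_206 : BT := .node (.node (.node (.node (.node (.node (.node (.leaf 9663678727) (.leaf 904090831492)) (.leaf 673773143431)) (.node (.node (.leaf 97173697806) (.leaf 919660139022)) (.leaf 405874506248))) (.node (.node (.node (.leaf 185757379972) (.leaf 1010928166412)) (.leaf 403727072769)) (.node (.leaf 392989606278) (.leaf 441844893198)))) (.node (.node (.node (.node (.leaf 77846300807) (.leaf 964220352005)) (.leaf 721017761539)) (.node (.node (.leaf 25232942606) (.leaf 1154809607043)) (.leaf 509490663693))) (.node (.node (.node (.leaf 229780805127) (.leaf 920733871363)) (.leaf 672699424013)) (.node (.leaf 576599497089) (.leaf 531502405899)))))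 (.node (.node (.node (.node (.node (.leaf 50465877892) (.leaf 931471254529)) (.leaf 512711888518)) (.node (.node (.leaf 344671207433) (.leaf 497679607049)) (.leaf 613106727815))) (.node (.node (.node (.leaf 9126808320) (.leaf 969052243594)) (.leaf 627602242944)) (.node (.leaf 492847614861) (.leaf 513248727438)))) (.node (.node (.node (.node (.leaf 140660212487) (.leaf 923955059841)) (.leaf 483184000003)) (.node (.leaf 206695392262) (.leaf 560493268108))) (.node (.node (.node (.leaf 271119876996) (.leaf 1088237456395)) (.leaf 747324502146)) (.node (.leaf 444529268099) (.leaf 884763474049)))))) (.node (.node (.node (.node (.node (.node (.leaf 33822875520) (.leaf 912143761549)) (.leaf 494458214407)) (.node (.node (.leaf 323196324353) (.leaf 1091458834062)) (.leaf 406411459469))) (.node (.node (.node (.leaf 201326640649) (.leaf 1024349946369)) (.leaf 812822754692)) (.node (.leaf 431107445128) (.leaf 627602235401)))) (.node (.node (.node (.node (.leaf 116501015813) (.leaf 975494679821)) (.leaf 665183237250)) (.node (.leaf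 312995816718) (.leaf 430570588686))) (.node (.node (.node (.leaf 178241202309) (.leaf 1016833765891)) (.leaf 467614742275)) (.node (.leaf 607201146381) (.leaf 869194213763))))) (.node (.node (.node (.node (.node (.leaf 22548587916) (.leaf 155692791053)) (.leaf 523449309314)) (.node (.node (.leaf 15569346440) (.leaf 1147293281416)) (.leaf 623844160257))) (.node (.node (.node (.leaf 150323897732) (.leaf 460635494024)) (.leaf 840740048768)) (.node (.leaf 142270921229) (.leaf 459024729609)))) (.node (.node (.node (.node (.leaf 161061312132) (.leaf 873489214602)) (.leaf 776852395020)) (.node (.leaf 391378937990) (.leaf 561567116933))) (.node (.node (.node (.leaf 307627106178) (.leaf 1107028047495)) (.leaf 603979819020)) (.node (.leaf 657130153089) (.leaf 441308102154))))))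
def dF_207 : BT := .node dF_205 dF_206
def dF_208 : BT := .node (.node (.node (.node (.node (.node (.node (.leaf 15032389252) (.leaf 625991697420)) (.leaf 675383768453)) (.node (.node (.leaf 79456955534) (.leaf 931471298445)) (.leaf 426275619973))) (.node (.node (.node (.leaf 148176414469) (.leaf 1015223136772)) (.leaf 153545249548)) (.node (.leaf 397821440648) (.leaf 588410702222)))) (.node (.node (.node (.node (.leaf 86436237447) (.leaf 959388548612)) (.leaf 714038485645)) (.node (.node (.leaf 25769823246) (.leaf 1151588381185)) (.leaf 501974470913))) (.node (.node (.node (.leaf 223875223821) (.leaf 1074815822212)) (.leaf 732828955278)) (.node (.leaf 509490630158) (.leaf 390305355651))))) (.node (.node (.node (.node (.node (.leaf 6979330187) (.leaf 539555485065)) (.leaf 699542965255)) (.node (.node (.leaf 338228755713) (.leaf 1138166604942)) (.leaf 532039230220))) (.node (.node (.node (.leaf 18253650062) (.leaf 825170827277)) (.leaf 784368517258)) (.node (.leaf 483720807172) (.leaf 650687705867)))) (.node (.node (.node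 (.node (.leaf 130459662726) (.leaf 988379584772)) (.leaf 754840682380)) (.node (.leaf 217969680906) (.leaf 450434831116))) (.node (.node (.node (.leaf 271656745985) (.leaf 1093606308486)) (.leaf 473520346509)) (.node (.leaf 483720840706) (.leaf 771483709838)))))) (.node (.node (.node (.node (.node (.node (.leaf 33286004482) (.leaf 544924192522)) (.leaf 551366531714)) (.node (.node (.leaf 77309429376) (.leaf 1128502775050)) (.leaf 418759425670))) (.node (.node (.node (.leaf 183609899392) (.leaf 1028644907141)) (.leaf 571767712648)) (.node (.leaf 437013026693) (.leaf 585726304526)))) (.node (.node (.node (.node (.leaf 104152981762) (.leaf 852014368769)) (.leaf 414464518917)) (.node (.leaf 180388669060) (.leaf 544924095371))) (.node (.node (.node (.leaf 244813194372) (.leaf 1082868887808)) (.leaf 471909718926)) (.node (.leaf 599684918535) (.leaf 444529321997))))) (.node (.node (.node (.node (.node (.leaf 67645751173) (.leaf 944356159489)) (.leaf 673236272387)) (.node (.node (.leaf 362924823181) (.leaf 1145145928322)) (.leaf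 674846938637))) (.node (.node (.node (.leaf 144955194889) (.leaf 824097098766)) (.leaf 828392014729)) (.node (.leaf 529891716612) (.leaf 697395517067)))) (.node (.node (.node (.node (.leaf 108984831620) (.leaf 912143917957)) (.leaf 765041234445)) (.node (.leaf 37044185865) (.leaf 507343124491))) (.node (.node (.node (.leaf 299037170309) (.leaf 1093069440643)) (.leaf 525059881219)) (.node (.leaf 570693935494) (.leaf 889595313281))))))
def dF_209 : BT := .node (.node (.node (.node (.node (.node (.node (.leaf 1610613123) (.leaf 899258903176)) (.leaf 690416145670)) (.node (.node (.leaf 100394879118) (.leaf 1126892313092)) (.leaf 416075055620))) (.node (.node (.node (.leaf 188978606082) (.leaf 929323791364)) (.leaf 679141827712)) (.node (.leaf 417685669253) (.leaf 441844867206)))) (.node (.node (.node (.node (.leaf 98784271492) (.leaf 622233617154)) (.leaf 732292098692)) (.node (.node (.leaf 3758101516) (.leaf 1156957085705)) (.leaf 769873020678))) (.node (.node (.node (.leaf 221190868487) (.leaf 1071057726849)) (.leaf 409095758337))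 (.node (.leaf 586800046976) (.leaf 864899161088))))) (.node (.node (.node (.node (.node (.leaf 54223975042) (.leaf 929323770498)) (.leaf 650687680519)) (.node (.node (.leaf 349503047300) (.leaf 1081795159561)) (.leaf 427886289541))) (.node (.node (.node (.leaf 25232933893) (.leaf 1047435399169)) (.leaf 312995938307)) (.node (.leaf 497142585613) (.leaf 578210110857)))) (.node (.node (.node (.node (.leaf 12884936203) (.leaf 916438883970)) (.leaf 500900744194)) (.node (.leaf 384936490889) (.leaf 592705609472))) (.node (.node (.node (.leaf 286689135489) (.leaf 1086089973257)) (.leaf 741418888707)) (.node (.leaf 630823425026) (.leaf 342523853453)))))) (.node (.node (.node (.node (.node (.node (.leaf 18253615364) (.leaf 923418188933)) (.leaf 692563641732)) (.node (.node (.leaf 327491334660) (.leaf 1102196252932)) (.leaf 406948248198))) (.node (.node (.node (.leaf 212064060932) (.leaf 1022202460163)) (.leaf 749471988877)) (.node (.leaf 456340384132) (.leaf 563177694853)))) (.node (.node (.node (.node (.leaf 120259112963) (.leaf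 932545009166)) (.leaf 736050177158)) (.node (.leaf 312995814529) (.leaf 620086020490))) (.node (.node (.node (.leaf 260919325572) (.leaf 1089848211332)) (.leaf 751619448844)) (.node (.leaf 616327899523) (.leaf 854161828866))))) (.node (.node (.node (.node (.node (.leaf 71403848065) (.leaf 388694764430)) (.leaf 467614688775)) (.node (.node (.leaf 351650531726) (.leaf 1149440896646)) (.leaf 847719372546))) (.node (.node (.node (.leaf 30064776589) (.leaf 1028644921355)) (.leaf 844498138627)) (.node (.leaf 549219074061) (.leaf 607738017289)))) (.node (.node (.node (.node (.leaf 169114377732) (.leaf 1011465037453)) (.leaf 649613988614)) (.node (.leaf 358629863040) (.leaf 636192156427))) (.node (.node (.node (.leaf 312458945418) (.leaf 984621516942)) (.leaf 400505849997)) (.node (.leaf 663572572422) (.leaf 891742797451))))))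
def dF_210 : BT := .node dF_208 dF_209
def dF_211 : BT := .node dF_207 dF_210
def dF_212 : BT := .node (.node (.node (.node (.node (.node (.node (.leaf 6442452612) (.leaf 896574506253)) (.leaf 530428620551)) (.node (.node (.leaf 320512011008) (.leaf 1053877865870)) (.leaf 516469965070))) (.node (.node (.node (.leaf 4295009675) (.leaf 1013075641990)) (.leaf 657130139662)) (.node (.leaf 397284482956) (.leaf 637802761742)))) (.node (.node (.node (.node (.leaf 88046850701) (.leaf 952945997192)) (.leaf 406411425794)) (.node (.node (.leaf 29527907201) (.leaf 1151588381056)) (.leaf 630286606350))) (.node (.node (.node (.leaf 217432771205) (.leaf 849330037128)) (.leaf 533112991502)) (.node (.leaf 569620173569) (.leaf 777926055692))))) (.node (.node (.node (.node (.node (.leaf 5905580174) (.leaf 915365126401)) (.leaf 644782098439)) (.node (.node (.leaf 337691806984) (.leaf 1060320322315)) (.leaf 344671252486))) (.node (.node (.node (.leaf 6979367310) (.leaf 825707703815)) (.leaf 803695853965)) (.node (.leaf 478352096781) (.leaf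 767725526022)))) (.node (.node (.node (.node (.leaf 132607147009) (.leaf 979252653067)) (.leaf 668941334407)) (.node (.leaf 379030947592) (.leaf 151397730574))) (.node (.node (.node (.leaf 242128836238) (.leaf 1098438147845)) (.leaf 746787567501)) (.node (.leaf 624381019649) (.leaf 879931634692)))))) (.node (.node (.node (.node (.node (.node (.leaf 25769810051) (.leaf 155692781191)) (.leaf 681826188418)) (.node (.node (.leaf 10200572928) (.leaf 1120986583560)) (.leaf 425738743436))) (.node (.node (.node (.leaf 195957928843) (.leaf 351113822478)) (.leaf 671088830860)) (.node (.leaf 430570574080) (.leaf 640487080588)))) (.node (.node (.node (.node (.leaf 88583726349) (.leaf 965830867847)) (.leaf 536334214414)) (.node (.leaf 303868982661) (.leaf 544387247875))) (.node (.node (.node (.leaf 236760128646) (.leaf 1067836461581)) (.leaf 528817973507)) (.node (.leaf 589484381314) (.leaf 501974508940))))) (.node (.node (.node (.node (.node (.leaf 59592685442) (.leaf 935766222849)) (.leaf 471909657095)) (.node (.node (.leaf 354871758209)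 (.leaf 1144072186250)) (.leaf 527744265223))) (.node (.node (.node (.leaf 15569265550) (.leaf 1038845443080)) (.leaf 827855103233)) (.node (.leaf 523449264132) (.leaf 594316254209)))) (.node (.node (.node (.node (.leaf 149787020288) (.leaf 1002875102728)) (.leaf 757524973571)) (.node (.leaf 388694632963) (.leaf 493384475906))) (.node (.node (.node (.leaf 301184653185) (.leaf 1101122502926)) (.leaf 487478898190)) (.node (.leaf 591094981383) (.leaf 429496941576))))))
def dF_213 : BT := .node (.node (.node (.node (.node (.node (.node (.leaf 5368710407) (.leaf 904090831370)) (.leaf 687194931340)) (.node (.node (.leaf 107374235150) (.leaf 1116691763211)) (.leaf 467077804936))) (.node (.node (.node (.leaf 190589204749) (.leaf 896037794561)) (.leaf 732828983438)) (.node (.leaf 398895182730) (.leaf 432718073863)))) (.node (.node (.node (.node (.leaf 90194334852) (.leaf 813896532608)) (.leaf 462246026629)) (.node (.node (.leaf 327491292302) (.leaf 1155883349126)) (.leaf 598611209609))) (.node (.node (.node (.leaf 225485836807)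 (.leaf 386010441612)) (.leaf 408558911617)) (.node (.leaf 585189433729) (.leaf 856309308928))))) (.node (.node (.node (.node (.node (.leaf 21474848782) (.leaf 929860553866)) (.leaf 697932221703)) (.node (.node (.leaf 347892432009) (.leaf 1065689032076)) (.leaf 411243216782))) (.node (.node (.node (.leaf 37580989966) (.leaf 1038845462529)) (.leaf 823023304456)) (.node (.leaf 501437524621) (.leaf 651761407244)))) (.node (.node (.node (.node (.leaf 136365244167) (.leaf 962072903941)) (.leaf 763967490049)) (.node (.leaf 383862793737) (.leaf 423054399368))) (.node (.node (.node (.leaf 279172941321) (.leaf 653909030153)) (.leaf 785979208199)) (.node (.leaf 593779336583) (.leaf 882615909125)))))) (.node (.node (.node (.node (.node (.node (.leaf 35970359429) (.leaf 914828252293)) (.leaf 646392719238)) (.node (.node (.leaf 323196366597) (.leaf 1078573931392)) (.leaf 469225322501))) (.node (.node (.node (.leaf 194347319425) (.leaf 1020591843204)) (.leaf 816580851972)) (.node (.leaf 448824189580) (.leaf 640487152910)))) (.node (.node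 (.node (.node (.leaf 124554081283) (.leaf 984084616460)) (.leaf 740345099522)) (.node (.leaf 305479621764) (.leaf 384399690499))) (.node (.node (.node (.leaf 253940002060) (.leaf 1085553198221)) (.leaf 619549189767)) (.node (.leaf 615791083021) (.leaf 870267955840))))) (.node (.node (.node (.node (.node (.leaf 2147496845) (.leaf 935766120714)) (.leaf 517006856834)) (.node (.node (.leaf 147639585798) (.leaf 466004225416)) (.leaf 807990915210))) (.node (.node (.node (.leaf 38654709381) (.leaf 312459123597)) (.leaf 468151635982)) (.node (.leaf 421443793798) (.leaf 810138399368)))) (.node (.node (.node (.node (.leaf 3221252622) (.leaf 1005559441665)) (.leaf 599148123779)) (.node (.leaf 150323948935) (.leaf 579820717830))) (.node (.node (.node (.leaf 310848331909) (.leaf 1111323052806)) (.leaf 401042667648)) (.node (.leaf 665720089729) (.leaf 893890281600))))))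
def dF_214 : BT := .node dF_212 dF_213
def dF_215 : BT := .node (.node (.node (.node (.node (.node (.node (.leaf 13958647047) (.leaf 383326045446)) (.leaf 677531220099)) (.node (.node (.leaf 83215049742) (.leaf 1119912989572)) (.leaf 413927621390))) (.node (.node (.node (.leaf 178241186185) (.leaf 954019838222)) (.leaf 782221075726)) (.node (.leaf 405874506381) (.leaf 440234255885)))) (.node (.node (.node (.node (.leaf 82141269127) (.leaf 957241064710)) (.leaf 620622888067)) (.node (.node (.leaf 30064779909) (.leaf 1154272736002)) (.leaf 588410705413))) (.node (.node (.node (.leaf 232465160461) (.leaf 1081258274571)) (.leaf 488552657412)) (.node (.leaf 571230786570) (.leaf 337155135619))))) (.node (.node (.node (.node (.node (.leaf 42949683202) (.leaf 919660089221)) (.leaf 515933114758)) (.node (.node (.leaf 337155014278) (.leaf 1137629689095)) (.leaf 810138320775))) (.node (.node (.node (.leaf 2147488014) (.leaf 1036161107202)) (.leaf 150323984396)) (.node (.leaf 421443780743) (.leaf 568009531008)))) (.node (.node (.node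 (.node (.leaf 136365244289) (.leaf 921270721166)) (.leaf 754840663683)) (.node (.leaf 380641567498) (.leaf 450971673610))) (.node (.node (.node (.leaf 275414779912) (.leaf 1091458824322)) (.leaf 821412610951)) (.node (.leaf 635655311501) (.leaf 529354927496)))))) (.node (.node (.node (.node (.node (.node (.leaf 29527907207) (.leaf 620086120457)) (.leaf 496068827527)) (.node (.node (.leaf 27917306884) (.leaf 1111859929219)) (.leaf 753766858753))) (.node (.node (.node (.leaf 201326593162) (.leaf 1024886677771)) (.leaf 786516078466)) (.node (.leaf 445602963333) (.leaf 554587816704)))) (.node (.node (.node (.node (.leaf 73551340929) (.leaf 971736479881)) (.leaf 741418906373)) (.node (.leaf 154618857472) (.leaf 347355597186))) (.node (.node (.node (.leaf 246960678150) (.leaf 1081795130893)) (.leaf 521838697998)) (.node (.leaf 396747747331) (.leaf 865972926731))))) (.node (.node (.node (.node (.node (.leaf 41339075470) (.leaf 951335482882)) (.leaf 527744277634)) (.node (.node (.leaf 371514759821) (.leaf 1146219670409)) (.leaf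 424665020032))) (.node (.node (.node (.leaf 1610627342) (.leaf 1040992925069)) (.leaf 832150112128)) (.node (.leaf 535260427021) (.leaf 448287372553)))) (.node (.node (.node (.node (.leaf 148713279749) (.leaf 927713173379)) (.leaf 772020525319)) (.node (.leaf 390305236609) (.leaf 438623675397))) (.node (.node (.node (.leaf 10200620554) (.leaf 1105954339330)) (.leaf 604516681868)) (.node (.leaf 595389950215) (.leaf 193810611597))))))
def dF_216 : BT := .node (.node (.node (.node (.node (.node (.node (.leaf 25232935693) (.leaf 457414233484)) (.leaf 580894490374)) (.node (.node (.leaf 235686348685) (.leaf 931471299846)) (.leaf 529891716355))) (.node (.node (.node (.leaf 192199787528) (.leaf 1025960557572)) (.leaf 667330712321)) (.node (.leaf 425201863808) (.leaf 584115655425)))) (.node (.node (.node (.node (.leaf 96099916166) (.leaf 542239852288)) (.leaf 626528470019)) (.node (.node (.leaf 323733237125) (.leaf 1157493957000)) (.leaf 433254979598))) (.node (.node (.node (.leaf 234075773573) (.leaf 1069447112579)) (.leaf 525059895565))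 (.node (.leaf 382789096706) (.leaf 497142669582))))) (.node (.node (.node (.node (.node (.leaf 57445201029) (.leaf 532039296265)) (.leaf 707596030861)) (.node (.node (.leaf 74625140874) (.leaf 1141387830926)) (.leaf 481573335941))) (.node (.node (.node (.leaf 35970364929) (.leaf 667867665928)) (.leaf 823560175873)) (.node (.leaf 513785585420) (.leaf 497142580106)))) (.node (.node (.node (.node (.leaf 11811194760) (.leaf 995895779328)) (.leaf 765041201671)) (.node (.leaf 385473396737) (.leaf 437013026702))) (.node (.node (.node (.leaf 295279072129) (.leaf 1104343729286)) (.leaf 555661491595)) (.node (.leaf 435402426886) (.leaf 886374087050)))))) (.node (.node (.node (.node (.node (.node (.leaf 39728456962) (.leaf 928786894729)) (.leaf 561567140099)) (.node (.node (.leaf 13421851658) (.leaf 1135482225419)) (.leaf 485331430401))) (.node (.node (.node (.leaf 45097206670) (.leaf 923955059843)) (.leaf 814433362819)) (.node (.leaf 462782836613) (.leaf 584652545027)))) (.node (.node (.node (.node (.leaf 115964144643) (.leaf 914828268430))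 (.leaf 603443082884)) (.node (.leaf 338228688268) (.leaf 547608433536))) (.node (.node (.node (.leaf 10200600068) (.leaf 1098438147972)) (.leaf 527207396483)) (.node (.leaf 602369290881) (.leaf 584652631169))))) (.node (.node (.node (.node (.node (.leaf 12884919296) (.leaf 938987432970)) (.leaf 462782821766)) (.node (.node (.leaf 350039919886) (.leaf 471372935049)) (.leaf 528281126409))) (.node (.node (.node (.leaf 71940749831) (.leaf 987842731022)) (.leaf 810138305293)) (.node (.leaf 342523774476) (.leaf 409632614280)))) (.node (.node (.node (.node (.leaf 131533414796) (.leaf 909459566342)) (.leaf 345745053699)) (.node (.leaf 381178441604) (.leaf 581431379726))) (.node (.node (.node (.leaf 313532687754) (.leaf 1103806859145)) (.leaf 525059877001)) (.node (.leaf 657666990982) (.leaf 827318288778))))))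
def dF_217 : BT := .node dF_215 dF_216
def dF_218 : BT := .node dF_214 dF_217
def dF_219 : BT := .node dF_211 dF_218
def dF_220 : BT := .node dF_204 dF_219
def dF_221 : BT := .node (.node (.node (.node (.node (.node (.node (.leaf 536871180) (.leaf 783831745027)) (.leaf 671088800141)) (.node (.node (.leaf 314606430091) (.leaf 971736616705)) (.leaf 654982669966))) (.node (.node (.node (.leaf 24696092300) (.leaf 1012001774088)) (.leaf 660888280205)) (.node (.leaf 246423842819) (.leaf 496068829580)))) (.node (.node (.node (.node (.leaf 77309429901) (.leaf 956167322368)) (.leaf 605590545286)) (.node (.node (.leaf 348429268866) (.leaf 1151051509767)) (.leaf 781147363848))) (.node (.node (.node (.leaf 31138521857) (.leaf 1002875117703)) (.leaf 833760728461)) (.node (.leaf 562103976461) (.leaf 150860893836))))) (.node (.node (.node (.node (.node (.leaf 37044097549) (.leaf 542776710026)) (.leaf 645855872775)) (.node (.node (.leaf 330175690250) (.leaf 1101659382021)) (.leaf 425201956358))) (.node (.node (.node (.leaf 55834575757)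 (.leaf 1036697978126)) (.leaf 813896426636)) (.node (.leaf 469225289092) (.leaf 443455482119)))) (.node (.node (.node (.node (.leaf 113816660483) (.leaf 194884373518)) (.leaf 740882037645)) (.node (.leaf 195421094279) (.leaf 350576808845))) (.node (.node (.node (.leaf 265214293889) (.leaf 1085553243918)) (.leaf 625454738179)) (.node (.leaf 619012309252) (.leaf 872415353345)))))) (.node (.node (.node (.node (.node (.node (.leaf 23085454722) (.leaf 867046739086)) (.leaf 681289324679)) (.node (.node (.leaf 95563045249) (.leaf 1124207957646)) (.leaf 485868301312))) (.node (.node (.node (.leaf 191662961797) (.leaf 1032403010053)) (.leaf 795106010371)) (.node (.leaf 428959960961) (.leaf 489089551361)))) (.node (.node (.node (.node (.leaf 92878689922) (.leaf 969052173190)) (.leaf 730681427203)) (.node (.leaf 181999298702) (.leaf 514322466828))) (.node (.node (.node (.leaf 240518226052) (.leaf 1068910196875)) (.leaf 470835979148)) (.node (.leaf 574451992578) (.leaf 864899242499))))) (.node (.node (.node (.node (.node (.leaf 57445201543)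 (.leaf 427886339595)) (.leaf 714038483340)) (.node (.node (.leaf 353261144578) (.leaf 578210244870)) (.leaf 411243216640))) (.node (.node (.node (.leaf 73551363342) (.leaf 1053877759497)) (.leaf 826244407811)) (.node (.leaf 454729784196) (.leaf 411243320459)))) (.node (.node (.node (.node (.leaf 146565794056) (.leaf 1002338231809)) (.leaf 762356833154)) (.node (.leaf 345208088580) (.leaf 438086850432))) (.node (.node (.node (.leaf 299037100170) (.leaf 1103806689293)) (.leaf 832686978307)) (.node (.leaf 644782119173) (.leaf 396747815688))))))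
def dF_222 : BT := .node (.node (.node (.node (.node (.node (.node (.leaf 11274291847) (.leaf 901943347333)) (.leaf 674846864902)) (.node (.node (.leaf 54760853249) (.leaf 952946135040)) (.leaf 415538184846))) (.node (.node (.node (.leaf 184146764813) (.leaf 1011465039369)) (.leaf 344671282438)) (.node (.leaf 412316958861) (.leaf 441308007680)))) (.node (.node (.node (.node (.leaf 79456913927) (.leaf 958851599114)) (.leaf 722091490691)) (.node (.node (.leaf 149787062926) (.leaf 1153735865220)) (.leaf 515396183948))) (.node (.node (.node (.leaf 231928289282) (.leaf 1079110607501)) (.leaf 672699369222)) (.node (.leaf 574452012928) (.leaf 850403727616))))) (.node (.node (.node (.node (.node (.leaf 48318393731) (.leaf 929323770371)) (.leaf 703837921158)) (.node (.node (.leaf 337691885706) (.leaf 410706519306)) (.leaf 742492648462))) (.node (.node (.node (.leaf 30064803726) (.leaf 972273469056)) (.leaf 628139063425)) (.node (.leaf 490700130701) (.leaf 732292066443)))) (.node (.node (.node (.node (.leaf 141733954562) (.leaf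 989453310990)) (.leaf 752156308486)) (.node (.leaf 197031715719) (.leaf 451508618629))) (.node (.node (.node (.leaf 9126871689) (.leaf 847719429769)) (.leaf 807453965447)) (.node (.leaf 642097645581) (.leaf 882615989888)))))) (.node (.node (.node (.node (.node (.node (.leaf 25769810436) (.leaf 485331521803)) (.leaf 634044677639)) (.node (.node (.leaf 12884978952) (.leaf 1133871562508)) (.leaf 521838686988))) (.node (.node (.node (.leaf 203474123905) (.leaf 1020054882058)) (.leaf 810675270533)) (.node (.leaf 445602891011) (.leaf 584652562571)))) (.node (.node (.node (.node (.leaf 114353531652) (.leaf 973347195660)) (.leaf 744640067842)) (.node (.leaf 312458946446) (.leaf 379031026574))) (.node (.node (.node (.leaf 178241202180) (.leaf 911607067140)) (.leaf 521838672384)) (.node (.leaf 605053662221) (.leaf 867046619914))))) (.node (.node (.node (.node (.node (.leaf 44023417356) (.leaf 950261735808)) (.leaf 663035746690)) (.node (.node (.leaf 376346594433) (.leaf 1146756541569)) (.leaf 420370038657))) (.node (.node (.node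 (.leaf 151934510340) (.leaf 1054951594766)) (.leaf 838592564609)) (.node (.leaf 541702879492) (.leaf 597537490445)))) (.node (.node (.node (.node (.leaf 159987570053) (.leaf 344134495373)) (.leaf 574452059397)) (.node (.leaf 391378980489) (.leaf 490163284356))) (.node (.node (.node (.leaf 306016493314) (.leaf 1038845478663)) (.leaf 427886212615)) (.node (.leaf 654982668928) (.leaf 847719382531))))))
def dF_223 : BT := .node dF_221 dF_222
def dF_224 : BT := .node (.node (.node (.node (.node (.node (.node (.leaf 12884905093) (.leaf 846108771334)) (.leaf 421443826564)) (.node (.node (.leaf 75698853006) (.leaf 1111859923850)) (.leaf 827855072910))) (.node (.node (.node (.leaf 175556830859) (.leaf 1014149274761)) (.leaf 601295578254)) (.node (.leaf 397821440640) (.leaf 581431339405)))) (.node (.node (.node (.node (.leaf 88046850567) (.leaf 194884369421)) (.leaf 722628419972)) (.node (.node (.leaf 341986774665) (.leaf 453656195593)) (.leaf 543850401806))) (.node (.node (.node (.leaf 221727739661) (.leaf 1072668338053)) (.leaf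 623307163788)) (.node (.leaf 383862836493) (.leaf 729607743370))))) (.node (.node (.node (.node (.node (.leaf 6979321989) (.leaf 460098589705)) (.leaf 571230816773)) (.node (.node (.leaf 339839368065) (.leaf 1107564962947)) (.leaf 532039156226))) (.node (.node (.node (.leaf 68719506958) (.leaf 824633942029)) (.leaf 348429408909)) (.node (.leaf 481573323011) (.leaf 566935792129)))) (.node (.node (.node (.node (.leaf 132070275843) (.leaf 979789633920)) (.leaf 752693198220)) (.node (.leaf 379567819397) (.leaf 450434831364))) (.node (.node (.node (.leaf 270582986244) (.leaf 823023368974)) (.leaf 675383798401)) (.node (.leaf 428423137927) (.leaf 567472763790)))))) (.node (.node (.node (.node (.node (.node (.leaf 32212262529) (.leaf 501974519552)) (.leaf 550292803079)) (.node (.node (.leaf 82678138510) (.leaf 847719439114)) (.leaf 403727118464))) (.node (.node (.node (.leaf 198642283659) (.leaf 1029181783566)) (.leaf 794032193665)) (.node (.leaf 434865542532) (.leaf 444529267982)))) (.node (.node (.node (.node (.leaf 105763594883)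 (.leaf 891742816141)) (.leaf 398358389504)) (.node (.leaf 245886936326) (.leaf 570693960206))) (.node (.node (.node (.leaf 242665710213) (.leaf 1071057649160)) (.leaf 522912447373)) (.node (.leaf 600221819405) (.leaf 865436117255))))) (.node (.node (.node (.node (.node (.leaf 65498267012) (.leaf 942208675328)) (.leaf 612032937094)) (.node (.node (.leaf 360777339021) (.leaf 1145145928197)) (.leaf 729607763458))) (.node (.node (.node (.leaf 144418283917) (.leaf 979789662213)) (.leaf 193810596739)) (.node (.leaf 516469930629) (.leaf 654445739784)))) (.node (.node (.node (.node (.leaf 144418311561) (.leaf 383326069134)) (.leaf 773631168772)) (.node (.leaf 389231503622) (.leaf 507343147781))) (.node (.node (.node (.leaf 302795266057) (.leaf 1105954342532)) (.leaf 517543661198)) (.node (.leaf 653372055809) (.leaf 889595192967))))))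
def dF_225 : BT := .node (.node (.node (.node (.node (.node (.node (.leaf 2684355207) (.leaf 899258992000)) (.leaf 690952983175)) (.node (.node (.leaf 104152978316) (.leaf 1124744828933)) (.leaf 826781352334))) (.node (.node (.node (.leaf 190052329484) (.leaf 895500923786)) (.leaf 790274157060)) (.node (.leaf 415538185092) (.leaf 638876430989)))) (.node (.node (.node (.node (.leaf 96636787333) (.leaf 965293935500)) (.leaf 730144614533)) (.node (.node (.leaf 6979329036) (.leaf 1156420220171)) (.leaf 543850353934))) (.node (.node (.node (.leaf 223338352642) (.leaf 1016833763205)) (.leaf 470835902990)) (.node (.leaf 587336870146) (.leaf 862751761409))))) (.node (.node (.node (.node (.node (.leaf 37580965517) (.leaf 930397465481)) (.leaf 457414152195)) (.node (.node (.leaf 350039916043) (.leaf 912680822280)) (.leaf 422517508615))) (.node (.node (.node (.leaf 24159233546) (.leaf 1045287915008)) (.leaf 824633814793)) (.node (.leaf 506269390852) (.leaf 752156264458)))) (.node (.node (.node (.node (.leaf 143344534282) (.leaf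 963146651906)) (.leaf 555661577351)) (.node (.leaf 180925588995) (.leaf 514322496910))) (.node (.node (.node (.leaf 284541651328) (.leaf 1086090114562)) (.leaf 721554693762)) (.node (.leaf 593242478594) (.leaf 885837216132)))))) (.node (.node (.node (.node (.node (.node (.leaf 35970359818) (.leaf 921270704772)) (.leaf 554050933891)) (.node (.node (.leaf 143881482500) (.leaf 1131724137088)) (.leaf 754303754508))) (.node (.node (.node (.leaf 209916576771) (.leaf 1022202457476)) (.leaf 337155128845)) (.node (.leaf 454192899971) (.leaf 443455515278)))) (.node (.node (.node (.node (.leaf 122406597123) (.leaf 987305828366)) (.leaf 520228089478)) (.node (.leaf 311922072964) (.leaf 601832409864))) (.node (.node (.node (.leaf 258771841413) (.leaf 1087700727173)) (.leaf 748398152205)) (.node (.leaf 412853878407) (.leaf 443992452100))))) (.node (.node (.node (.node (.node (.leaf 57445204482) (.leaf 387084151950)) (.leaf 406948263047)) (.node (.node (.leaf 354334885902) (.leaf 420370198154)) (.leaf 847182501382))) (.node (.node (.node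 (.leaf 5368730766) (.leaf 950798639111)) (.leaf 476741569036)) (.node (.leaf 547071589901) (.leaf 529891725449)))) (.node (.node (.node (.node (.leaf 24696101901) (.leaf 1005022565250)) (.leaf 777389215750)) (.node (.leaf 392989544067) (.leaf 439160510720))) (.node (.node (.node (.leaf 305479623434) (.leaf 1110786172813)) (.leaf 400505796737)) (.node (.leaf 525596720519) (.leaf 892816533255))))))
def dF_226 : BT := .node dF_224 dF_225
def dF_227 : BT := .node dF_223 dF_226
def dF_228 : BT := .node (.node (.node (.node (.node (.node (.node (.leaf 4294968453) (.leaf 896574636942)) (.leaf 668941304067)) (.node (.node (.leaf 317827656072) (.leaf 1115080992523)) (.leaf 400505893004))) (.node (.node (.node (.leaf 177167442945) (.leaf 1013075509761)) (.leaf 658740798093)) (.node (.leaf 396210827525) (.leaf 439160524293)))) (.node (.node (.node (.node (.leaf 85899366540) (.leaf 936303097473)) (.leaf 608811783815)) (.node (.node (.leaf 350039916032) (.leaf 1152125251842)) (.leaf 460098558474))) (.node (.node (.node (.leaf 16106179211)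 (.leaf 1066762756486)) (.leaf 608274921998)) (.node (.leaf 567472689408) (.leaf 693637335809))))) (.node (.node (.node (.node (.node (.leaf 47244651522) (.leaf 914828161931)) (.leaf 449361086467)) (.node (.node (.leaf 14495594884) (.leaf 1060320322304)) (.leaf 394600316044))) (.node (.node (.node (.leaf 536916238) (.leaf 826244567310)) (.leaf 803695944450)) (.node (.leaf 476204612620) (.leaf 511638088064)))) (.node (.node (.node (.node (.leaf 130459662848) (.leaf 972273407114)) (.leaf 747861307143)) (.node (.leaf 359166725763) (.leaf 343060666894))) (.node (.node (.node (.leaf 263603672716) (.leaf 1098438147982)) (.leaf 485868334860)) (.node (.leaf 619549131654) (.leaf 877784150533)))))) (.node (.node (.node (.node (.node (.node (.leaf 18790486402) (.leaf 908385748616)) (.leaf 545460997251)) (.node (.node (.leaf 107374255882) (.leaf 1120986731522)) (.leaf 530965442189))) (.node (.node (.node (.leaf 178778060297) (.leaf 1032939786248)) (.leaf 782757980931)) (.node (.leaf 217969692679) (.leaf 828391982720)))) (.node (.node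 (.node (.node (.leaf 106837337092) (.leaf 406411510659)) (.leaf 729070814086)) (.node (.leaf 9663702030) (.leaf 599684971022))) (.node (.node (.node (.leaf 237833870726) (.leaf 1067836485765)) (.leaf 610959274126)) (.node (.leaf 581968210317) (.leaf 854161746186))))) (.node (.node (.node (.node (.node (.leaf 39191591181) (.leaf 414464567051)) (.leaf 472983399175)) (.node (.node (.leaf 357556112777) (.leaf 1142998301451)) (.leaf 527744267394))) (.node (.node (.node (.leaf 41339065486) (.leaf 1048509140110)) (.leaf 827318272649)) (.node (.leaf 521301779973) (.leaf 473520278408)))) (.node (.node (.node (.node (.leaf 143344569097) (.leaf 1003948833281)) (.leaf 758598728579)) (.node (.leaf 388157676424) (.leaf 433791804672))) (.node (.node (.node (.leaf 298500298753) (.leaf 1093069439362)) (.leaf 731755178254)) (.node (.leaf 590021239303) (.leaf 832686996359))))))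
def dF_229 : BT := .node (.node (.node (.node (.node (.node (.node (.leaf 6979323527) (.leaf 904090771202)) (.leaf 685047447181)) (.node (.node (.leaf 95563085838) (.leaf 1117228445068)) (.leaf 467077837568))) (.node (.node (.node (.leaf 188441735181) (.leaf 1016296755979)) (.leaf 392989603842)) (.node (.leaf 398358263303) (.leaf 489089532672)))) (.node (.node (.node (.node (.leaf 75161945607) (.leaf 665720160652)) (.leaf 720480877574)) (.node (.node (.leaf 323196366350) (.leaf 1155883348993)) (.leaf 780610503809))) (.node (.node (.node (.leaf 227633320962) (.leaf 351650703758)) (.leaf 751082603779)) (.node (.leaf 583041949568) (.leaf 854161824769))))) (.node (.node (.node (.node (.node (.leaf 53150225806) (.leaf 929860638093)) (.leaf 508953791118)) (.node (.node (.leaf 345208079114) (.leaf 927713207682)) (.leaf 471909629326))) (.node (.node (.node (.leaf 4831855630) (.leaf 597537572619)) (.leaf 821949557382)) (.node (.leaf 499290067340) (.leaf 598074363521)))) (.node (.node (.node (.node (.leaf 137975857287) (.leaf 963146645769))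 (.leaf 761820005888)) (.node (.leaf 383325877634) (.leaf 433791797898))) (.node (.node (.node (.leaf 279709812100) (.leaf 1088237572102)) (.leaf 809064592653)) (.node (.leaf 582505044743) (.leaf 544387315470)))))) (.node (.node (.node (.node (.node (.node (.leaf 34359746822) (.leaf 911070155396)) (.leaf 647466461318)) (.node (.node (.leaf 89657519753) (.leaf 1068373384590)) (.leaf 676457392141))) (.node (.node (.node (.leaf 205621608576) (.leaf 1010928171141)) (.leaf 814433367821)) (.node (.leaf 337691910284) (.leaf 443455494528)))) (.node (.node (.node (.node (.leaf 122943468292) (.leaf 981937132300)) (.leaf 662498882055)) (.node (.leaf 154081988608) (.leaf 343060675725))) (.node (.node (.node (.leaf 226559585037) (.leaf 674310124170)) (.leaf 467077807116)) (.node (.leaf 613643598860) (.leaf 869730994954))))) (.node (.node (.node (.node (.node (.leaf 2147484169) (.leaf 941134932237)) (.leaf 657130165254)) (.node (.node (.leaf 193273609603) (.leaf 1148367141003)) (.leaf 751082584961))) (.node (.node (.node (.leaf 16106131204)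 (.leaf 979252795278)) (.leaf 466541023630)) (.node (.leaf 482647077635) (.leaf 480499576713)))) (.node (.node (.node (.node (.leaf 115427285901) (.leaf 1005022447496)) (.leaf 780610441990)) (.node (.leaf 392452729993) (.leaf 579820723200))) (.node (.node (.node (.leaf 304942752005) (.leaf 386010450701)) (.leaf 462245971213)) (.node (.leaf 663572605568) (.leaf 867046736135))))))
def dF_230 : BT := .node dF_228 dF_229
def dF_231 : BT := .node (.node (.node (.node (.node (.node (.node (.leaf 15569260167) (.leaf 898721953155)) (.leaf 678604934787)) (.node (.node (.leaf 6979378574) (.leaf 1117765505413)) (.leaf 466540970885))) (.node (.node (.node (.leaf 155692607744) (.leaf 1014686243342)) (.leaf 402116408968)) (.node (.leaf 403727022221) (.leaf 497679531144)))) (.node (.node (.node (.node (.leaf 83751882247) (.leaf 935766228622)) (.leaf 478352109575)) (.node (.node (.leaf 12884905228) (.leaf 1153735864837)) (.leaf 543850376583))) (.node (.node (.node (.leaf 230317676300) (.leaf 1081258259205)) (.leaf 419833087884)) (.node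 (.leaf 430033736835) (.leaf 850403727365))))) (.node (.node (.node (.node (.node (.leaf 44560296323) (.leaf 928786897038)) (.leaf 705985414157)) (.node (.node (.leaf 336618143368) (.leaf 1137629684352)) (.leaf 810138404098))) (.node (.node (.node (.leaf 9126836878) (.leaf 824097077382)) (.leaf 793495336960)) (.node (.leaf 488552638090) (.leaf 445066121344)))) (.node (.node (.node (.node (.leaf 134217760131) (.leaf 980326521870)) (.leaf 487478968323)) (.node (.leaf 379030954626) (.leaf 450971659394))) (.node (.node (.node (.leaf 274341038212) (.leaf 1093069412619)) (.leaf 425201958019)) (.node (.leaf 633507827341) (.leaf 873489180038)))))) (.node (.node (.node (.node (.node (.node (.leaf 30064778242) (.leaf 910533214602)) (.leaf 686121177350)) (.node (.node (.leaf 318901397902) (.leaf 1134408495501)) (.leaf 539555382144))) (.node (.node (.node (.leaf 200789763972) (.leaf 1024886809476)) (.leaf 805306560133)) (.node (.leaf 443455479172) (.leaf 768262458240)))) (.node (.node (.node (.node (.leaf 100931756036) (.leaf 937376844039))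 (.leaf 739271422212)) (.node (.leaf 154082023694) (.leaf 490700121996))) (.node (.node (.node (.leaf 246423791360) (.leaf 909996454030)) (.leaf 609885549197)) (.node (.leaf 600758653192) (.leaf 443992450701))))) (.node (.node (.node (.node (.node (.leaf 42949688718) (.leaf 950798611968)) (.leaf 521301752199)) (.node (.node (.leaf 369367275660) (.leaf 1144609057665)) (.leaf 846645630081))) (.node (.node (.node (.leaf 16643002126) (.leaf 1040992934152)) (.leaf 830002627969)) (.node (.leaf 528817947143) (.leaf 437013027337)))) (.node (.node (.node (.node (.leaf 155155730699) (.leaf 204011185037)) (.leaf 505195712386)) (.node (.leaf 387620891526) (.leaf 635655263108))) (.node (.node (.node (.leaf 306016491020) (.leaf 1104880600324)) (.leaf 733902715662)) (.node (.leaf 651224525442) (.leaf 890132106250))))))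
def dF_232 : BT := .node (.node (.node (.node (.node (.node (.node (.leaf 23085454861) (.leaf 906238315652)) (.leaf 687731756935)) (.node (.node (.leaf 25769823118) (.leaf 1103806864012)) (.leaf 667867573760))) (.node (.node (.node (.leaf 191662958859) (.leaf 1023813073413)) (.leaf 421443822349)) (.node (.leaf 423054379649) (.leaf 498753209092)))) (.node (.node (.node (.node (.leaf 97710529283) (.leaf 968515356289)) (.leaf 486405175303)) (.node (.node (.leaf 58518934539) (.leaf 1157493962240)) (.leaf 503585035273))) (.node (.node (.node (.leaf 219043384322) (.leaf 1069447059081)) (.leaf 525059911043)) (.node (.leaf 445602963208) (.leaf 494995186446))))) (.node (.node (.node (.node (.node (.leaf 56908316936) (.leaf 933081771914)) (.leaf 459561636359)) (.node (.node (.leaf 351650531338) (.leaf 440234419847)) (.leaf 674846862208))) (.node (.node (.node (.leaf 115964150285) (.leaf 1053877851648)) (.leaf 394063446281)) (.node (.leaf 511638101260) (.leaf 439160507657)))) (.node (.node (.node (.node (.leaf 143881438978) (.leaf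 441844997899)) (.leaf 552440351111)) (.node (.leaf 385473397130) (.leaf 506806322688))) (.node (.node (.node (.leaf 293131587968) (.leaf 938987488384)) (.leaf 613106691594)) (.node (.leaf 437013060230) (.leaf 886373995021)))))) (.node (.node (.node (.node (.node (.node (.leaf 40802199042) (.leaf 581431419146)) (.leaf 648540227971)) (.node (.node (.leaf 156229513987) (.leaf 1135482249218)) (.leaf 348429321358))) (.node (.node (.node (.leaf 44023465358) (.leaf 1017907409545)) (.leaf 461709178638)) (.node (.leaf 454192827660) (.leaf 641560907150)))) (.node (.node (.node (.node (.leaf 118111628803) (.leaf 984084600192)) (.leaf 462246030083)) (.node (.leaf 340376200455) (.leaf 654445764362))) (.node (.node (.node (.leaf 7516254222) (.leaf 1096290663813)) (.leaf 539018573185)) (.node (.leaf 601832338947) (.leaf 870804741385))))) (.node (.node (.node (.node (.node (.leaf 71940719369) (.leaf 937913707141)) (.leaf 518080540678)) (.node (.node (.leaf 336618065550) (.leaf 509490769800)) (.leaf 665720089481))) (.node (.node (.node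 (.leaf 199715987712) (.leaf 1038845468174)) (.leaf 830002623235)) (.node (.leaf 555661427981) (.leaf 511638123273)))) (.node (.node (.node (.node (.leaf 110595449613) (.leaf 442381872898)) (.leaf 781684084486)) (.node (.leaf 390842118016) (.leaf 496068905092))) (.node (.node (.node (.leaf 315143298697) (.leaf 1107564899082)) (.leaf 525059895944)) (.node (.leaf 518617396999) (.leaf 500363902733))))))
def dF_233 : BT := .node dF_231 dF_232
def dF_234 : BT := .node dF_230 dF_233
def dF_235 : BT := .node dF_227 dF_234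
def dF_236 : BT := .node (.node (.node (.node (.node (.node (.node (.leaf 536871042) (.leaf 896037589261)) (.leaf 667330687490)) (.node (.node (.leaf 316753913993) (.leaf 1114544245006)) (.leaf 466004124036))) (.node (.node (.node (.leaf 176093696264) (.leaf 734439649281)) (.leaf 789200428933)) (.node (.leaf 395673955969) (.leaf 439697428996)))) (.node (.node (.node (.node (.leaf 81604398221) (.leaf 956704073226)) (.leaf 467077838594)) (.node (.node (.leaf 27917293582) (.leaf 1151588380807)) (.leaf 460098487176))) (.node (.node (.node (.leaf 208305951107) (.leaf 1066225885447)) (.leaf 479425881356)) (.node (.leaf 563177721091) (.leaf 586800013953))))) (.node (.node (.node (.node (.node (.leaf 44023425408) (.leaf 923418189836)) (.leaf 692026758918)) (.node (.node (.leaf 150860806148) (.leaf 1136555991686)) (.leaf 525596720654))) (.node (.node (.node (.leaf 58518971405) (.leaf 925028828174)) (.leaf 812822661377)) (.node (.leaf 473520257412) (.leaf 456877243530)))) (.node (.node (.node (.node (.leaf 126164694528) (.leaf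 914291394944)) (.leaf 750008812547)) (.node (.leaf 207769126402) (.leaf 147639634062))) (.node (.node (.node (.leaf 269509200641) (.leaf 1098974999168)) (.leaf 716185923341)) (.node (.leaf 623307277572) (.leaf 873489182221)))))) (.node (.node (.node (.node (.node (.node (.leaf 20401099527) (.leaf 908385675395)) (.leaf 544387266947)) (.node (.node (.leaf 255550587150) (.leaf 1123670924939)) (.leaf 658203865102))) (.node (.node (.node (.leaf 4831884553) (.leaf 675383853707)) (.leaf 799400978693)) (.node (.leaf 430033608716) (.leaf 454729794561)))) (.node (.node (.node (.node (.leaf 102542368772) (.leaf 966904742916)) (.leaf 729070847746)) (.node (.leaf 277562296334) (.leaf 433254966658))) (.node (.node (.node (.leaf 239444483846) (.leaf 1068373312524)) (.leaf 469762145027)) (.node (.leaf 590558144133) (.leaf 566399015694))))) (.node (.node (.node (.node (.node (.leaf 55834588937) (.leaf 934692384008)) (.leaf 718333372813)) (.node (.node (.leaf 355408628608) (.leaf 1142998312962)) (.leaf 472446500237))) (.node (.node (.node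 (.leaf 216895881358) (.leaf 957777957518)) (.leaf 826781347716)) (.node (.leaf 517006811653) (.leaf 434328671368)))) (.node (.node (.node (.node (.leaf 147639536138) (.leaf 802085382024)) (.leaf 760746233351)) (.node (.leaf 340376250505) (.leaf 489626376199))) (.node (.node (.node (.leaf 299574040458) (.leaf 1102196230534)) (.leaf 542239780238)) (.node (.leaf 637802798093) (.leaf 675920690053))))))
def dF_237 : BT := .node (.node (.node (.node (.node (.node (.node (.leaf 9663678722) (.leaf 586263251585)) (.leaf 680752478861)) (.node (.node (.leaf 87510010894) (.leaf 1117228590465)) (.leaf 521301772032))) (.node (.node (.node (.leaf 116501026444) (.leaf 970662851207)) (.leaf 403726961542)) (.node (.leaf 413390636162) (.leaf 441308039945)))) (.node (.node (.node (.node (.leaf 77846300802) (.leaf 424665121158)) (.leaf 719944052483)) (.node (.node (.leaf 21474836869) (.leaf 1155346478082)) (.leaf 563714613517))) (.node (.node (.node (.leaf 229780805122) (.leaf 1081258273922)) (.leaf 673236311937)) (.node (.leaf 578746981248)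 (.leaf 852014172813))))) (.node (.node (.node (.node (.node (.leaf 52613362053) (.leaf 664109540491)) (.leaf 701153532935)) (.node (.node (.leaf 345208077193) (.leaf 1139240332548)) (.leaf 423054379268))) (.node (.node (.node (.leaf 44023424526) (.leaf 972273469186)) (.leaf 784905386507)) (.node (.leaf 494995099021) (.leaf 651761454990)))) (.node (.node (.node (.node (.leaf 140660212482) (.leaf 925028801672)) (.leaf 757525037568)) (.node (.leaf 342523733120) (.leaf 493384509447))) (.node (.node (.node (.leaf 146028954625) (.leaf 1088774471437)) (.leaf 729607762189)) (.node (.leaf 584652575879) (.leaf 870804830342)))))) (.node (.node (.node (.node (.node (.node (.leaf 34359746560) (.leaf 912143896968)) (.leaf 439160544387)) (.node (.node (.leaf 323733195915) (.leaf 1131724105991)) (.leaf 627065386500))) (.node (.node (.node (.leaf 204547865609) (.leaf 1024349918470)) (.leaf 793495401858)) (.node (.leaf 431644259202) (.leaf 434328745482)))) (.node (.node (.node (.node (.leaf 118648499972) (.leaf 977642163981)) (.leaf 613106758530))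 (.node (.leaf 299037169280) (.leaf 343060675598))) (.node (.node (.node (.leaf 249108162952) (.leaf 984084640257)) (.leaf 416075114118)) (.node (.leaf 609348630541) (.leaf 351113783815))))) (.node (.node (.node (.node (.node (.leaf 68719493126) (.leaf 935766225422)) (.leaf 660351391494)) (.node (.node (.leaf 15569346569) (.leaf 1147293412609)) (.leaf 534723542912))) (.node (.node (.node (.leaf 16106148864) (.leaf 539555518090)) (.leaf 842887532929)) (.node (.leaf 535260397957) (.leaf 419833209355)))) (.node (.node (.node (.node (.leaf 163208796293) (.leaf 1009317481737)) (.leaf 778999879180)) (.node (.leaf 340376251653) (.leaf 561567113741))) (.node (.node (.node (.leaf 309237718021) (.leaf 1107564955653)) (.leaf 516469925770)) (.node (.leaf 659277637248) (.leaf 768262487693))))))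
def dF_238 : BT := .node dF_236 dF_237
def dF_239 : BT := .node (.node (.node (.node (.node (.node (.node (.leaf 17179869317) (.leaf 898185094531)) (.leaf 677531252612)) (.node (.node (.leaf 15032442766) (.leaf 1036161126279)) (.leaf 404263970701))) (.node (.node (.node (.leaf 179851798528) (.leaf 953482981890)) (.leaf 382252199820)) (.node (.leaf 399432053900) (.leaf 496068827398)))) (.node (.node (.node (.node (.leaf 86436237442) (.leaf 961536032773)) (.leaf 723702103814)) (.node (.node (.leaf 37044174091) (.leaf 1153735863937)) (.leaf 598611173637))) (.node (.node (.node (.leaf 226022707981) (.leaf 1076963306373)) (.leaf 608274921868)) (.node (.leaf 453656054919) (.leaf 602369365899))))) (.node (.node (.node (.node (.node (.leaf 46707780483) (.leaf 890132190604)) (.leaf 701690449420)) (.node (.node (.leaf 333396917516) (.leaf 1138166604805)) (.leaf 473520321921))) (.node (.node (.node (.leaf 99858023310) (.leaf 312995982722)) (.leaf 150323984525)) (.node (.leaf 485868291333) (.leaf 651761398280)))) (.node (.node (.node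 (.node (.leaf 129385920646) (.leaf 990527068933)) (.leaf 756988163597)) (.node (.leaf 379567825410) (.leaf 492847662990))) (.node (.node (.node (.leaf 248571297280) (.leaf 988916480398)) (.leaf 530428562573)) (.node (.leaf 425201911687) (.leaf 460098580366)))))) (.node (.node (.node (.node (.node (.node (.leaf 32212262407) (.leaf 909996231181)) (.leaf 552977203587)) (.node (.node (.leaf 74625112718) (.leaf 1130113539340)) (.leaf 153545194766))) (.node (.node (.node (.leaf 184146770432) (.leaf 1028644889485)) (.leaf 802622204801)) (.node (.leaf 439160510852) (.leaf 768262458382)))) (.node (.node (.node (.node (.leaf 103616110723) (.leaf 970662769417)) (.leaf 734976453892)) (.node (.leaf 181999282693) (.leaf 490163259657))) (.node (.node (.node (.leaf 245886921226) (.leaf 979789672833)) (.leaf 610422399629)) (.node (.leaf 511101250179) (.leaf 867583600398))))) (.node (.node (.node (.node (.node (.leaf 69256364166) (.leaf 946503643648)) (.leaf 611496066054)) (.node (.node (.leaf 365072307341) (.leaf 1145682799105)) (.leaf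 527207437965))) (.node (.node (.node (.leaf 149787033870) (.leaf 988916468228)) (.leaf 828928885766)) (.node (.leaf 532039200773) (.leaf 460635403273)))) (.node (.node (.node (.node (.leaf 108984831749) (.leaf 1000190651787)) (.leaf 648003375494)) (.node (.leaf 389768364288) (.leaf 578210089986))) (.node (.node (.node (.leaf 304405809408) (.leaf 1104880600716)) (.leaf 486942027406)) (.node (.leaf 653372042758) (.leaf 393526590727))))))
def dF_240 : BT := .node (.node (.node (.node (.node (.node (.node (.leaf 18790486540) (.leaf 899258915980)) (.leaf 689879261319)) (.node (.node (.leaf 77846306317) (.leaf 1127966055047)) (.leaf 467614661763))) (.node (.node (.node (.leaf 159450691981) (.leaf 1019518105093)) (.leaf 737123878657)) (.node (.leaf 419833153412) (.leaf 583578833934)))) (.node (.node (.node (.node (.leaf 99321142406) (.leaf 965294129924)) (.leaf 629749754499)) (.node (.node (.leaf 206695318660) (.leaf 1156957091207)) (.leaf 503585045248))) (.node (.node (.node (.leaf 221190868482) (.leaf 1071057671690)) (.leaf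 409095828748)) (.node (.leaf 586800013063) (.leaf 509490701707))))) (.node (.node (.node (.node (.node (.leaf 1610626052) (.leaf 882079129995)) (.leaf 650150841731)) (.node (.node (.leaf 348966176521) (.leaf 1141924702212)) (.leaf 472983374592))) (.node (.node (.node (.leaf 40802195328) (.leaf 1049582883328)) (.leaf 823023304843)) (.node (.leaf 447750460422) (.leaf 539555371016)))) (.node (.node (.node (.node (.leaf 144418292865) (.leaf 994821952265)) (.leaf 767725556866)) (.node (.leaf 384936487173) (.leaf 452582282254))) (.node (.node (.node (.leaf 288836619648) (.leaf 1100585632132)) (.leaf 656056412801)) (.node (.leaf 434328705027) (.leaf 870804830851)))))) (.node (.node (.node (.node (.node (.node (.leaf 37580972929) (.leaf 925565673092)) (.leaf 694711125893)) (.node (.node (.leaf 206695379589) (.leaf 304942948877)) (.leaf 830002627840))) (.node (.node (.node (.leaf 214211545093) (.leaf 1003948824963)) (.leaf 747861375758)) (.node (.leaf 458487868293) (.leaf 456877278350)))) (.node (.node (.node (.node (.leaf 119722241926)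 (.leaf 984621361673)) (.leaf 464393514243)) (.node (.leaf 351113619202) (.leaf 761283134731))) (.node (.node (.node (.leaf 253940003981) (.leaf 1091995695493)) (.leaf 727997082254)) (.node (.leaf 616327953929) (.leaf 870804741381))))) (.node (.node (.node (.node (.node (.leaf 71403848329) (.leaf 937376720523)) (.leaf 467077790086)) (.node (.node (.leaf 354871757966) (.leaf 454729936648)) (.leaf 752693198081))) (.node (.node (.node (.leaf 7516193793) (.leaf 1064078382350)) (.leaf 803159085831)) (.node (.leaf 551366558220) (.leaf 454192899848)))) (.node (.node (.node (.node (.leaf 171261861893) (.leaf 1011465039370)) (.leaf 781147304842)) (.node (.leaf 359166733957) (.leaf 636192131208))) (.node (.node (.node (.leaf 304942752768) (.leaf 1108101672715)) (.leaf 741418906251)) (.node (.leaf 654982638853) (.leaf 865436122758))))))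
def dF_241 : BT := .node dF_239 dF_240
def dF_242 : BT := .node dF_238 dF_241
def dF_243 : BT := .node (.node (.node (.node (.node (.node (.node (.leaf 8589936773) (.leaf 441844974346)) (.leaf 417685696390)) (.node (.node (.leaf 224412117517) (.leaf 1112396768897)) (.leaf 470299066510))) (.node (.node (.node (.leaf 176093701633) (.leaf 914291404930)) (.leaf 345745023875)) (.node (.leaf 397284569611) (.leaf 497142602887)))) (.node (.node (.node (.node (.leaf 13421794181) (.leaf 935766226560)) (.leaf 461709155716)) (.node (.node (.leaf 156229516430) (.leaf 444529389962)) (.leaf 459561617410))) (.node (.node (.node (.leaf 144955198215) (.leaf 1068373369733)) (.leaf 419296218764)) (.node (.leaf 515933082498) (.leaf 512711843080))))) (.node (.node (.node (.node (.node (.leaf 5368717706) (.leaf 915901997060)) (.leaf 644245235074)) (.node (.node (.leaf 27917368202) (.leaf 1137092793608)) (.leaf 626528548359))) (.node (.node (.node (.leaf 37580994702) (.leaf 825170825614)) (.leaf 803159076224)) (.node (.leaf 480499578381) (.leaf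 566398934144)))) (.node (.node (.node (.node (.leaf 133680888966) (.leaf 979252765964)) (.leaf 746250681090)) (.node (.leaf 379030911501) (.leaf 391915885837))) (.node (.node (.node (.leaf 229780802445) (.leaf 1097901106958)) (.leaf 676457548302)) (.node (.leaf 626528503808) (.leaf 337692013837)))))) (.node (.node (.node (.node (.node (.node (.leaf 27917294209) (.leaf 890132188801)) (.leaf 547071563394)) (.node (.node (.leaf 88583702656) (.leaf 936303139597)) (.leaf 381715345159))) (.node (.node (.node (.leaf 177704318852) (.leaf 1005559463694)) (.leaf 668404475534)) (.node (.leaf 430033703300) (.leaf 627065364362)))) (.node (.node (.node (.node (.leaf 107911079043) (.leaf 872415463301)) (.leaf 422517580686)) (.node (.leaf 306016493070) (.leaf 544387224843))) (.node (.node (.node (.leaf 235149515526) (.leaf 511101362696)) (.leaf 399969006212)) (.node (.leaf 595926854540) (.leaf 865436116611))))) (.node (.node (.node (.node (.node (.leaf 1610627468) (.leaf 937913707008)) (.leaf 410706394114)) (.node (.node (.leaf 342523727371)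 (.leaf 867046795784)) (.leaf 729070889614))) (.node (.node (.node (.leaf 110058540686) (.leaf 1038845319690)) (.leaf 392452834055)) (.node (.leaf 525596748293) (.leaf 562103987844)))) (.node (.node (.node (.node (.leaf 150860762377) (.leaf 995895762950)) (.leaf 573915188484)) (.node (.leaf 388694632580) (.leaf 578210156929))) (.node (.node (.node (.leaf 269509269643) (.leaf 1100585632005)) (.leaf 428423111054)) (.node (.leaf 649077087489) (.leaf 600758762498))))))
def dF_244 : BT := .node (.node (.node (.node (.node (.node (.node (.leaf 5368710402) (.leaf 585189509390)) (.leaf 689342415500)) (.node (.node (.leaf 107374256521) (.leaf 913217688589)) (.leaf 627602270081))) (.node (.node (.node (.leaf 185220477838) (.leaf 1016833668617)) (.leaf 745713793805)) (.node (.leaf 398895182862) (.leaf 766651800968)))) (.node (.node (.node (.node (.leaf 92341819013) (.leaf 964757130498)) (.leaf 725849646211)) (.node (.node (.leaf 30601649284) (.leaf 1151051510924)) (.leaf 556735286025))) (.node (.node (.node (.leaf 225485836802) (.leaf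 1073205208966)) (.leaf 408558923270)) (.node (.leaf 587336917888) (.leaf 858456793089))))) (.node (.node (.node (.node (.node (.leaf 19327364622) (.leaf 488015881096)) (.leaf 697932352008)) (.node (.node (.leaf 337691886465) (.leaf 1140314076544)) (.leaf 664109464452))) (.node (.node (.node (.leaf 37044093709) (.leaf 1040992946688)) (.leaf 394063445898)) (.node (.leaf 501974422532) (.leaf 459024752135)))) (.node (.node (.node (.node (.leaf 136365244162) (.leaf 936839978502)) (.leaf 766114974208)) (.node (.leaf 350576797185) (.leaf 451508567694))) (.node (.node (.node (.leaf 271656748421) (.leaf 1087700586378)) (.leaf 831076364038)) (.node (.leaf 498753216387) (.leaf 882615909257)))))) (.node (.node (.node (.node (.node (.node (.leaf 17716748682) (.leaf 916975736452)) (.leaf 505195635591)) (.node (.node (.leaf 325880721029) (.leaf 1129039785099)) (.leaf 620086002049))) (.node (.node (.node (.leaf 197031674249) (.leaf 1020591777546)) (.leaf 818728336133)) (.node (.leaf 450971673741) (.leaf 563177753742)))) (.node (.node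 (.node (.node (.leaf 123480339203) (.leaf 986232100621)) (.leaf 660888268930)) (.node (.leaf 306553363840) (.leaf 587873830157))) (.node (.node (.node (.leaf 256087480972) (.leaf 525060010762)) (.leaf 405874568835)) (.node (.leaf 394600267526) (.leaf 870267955850))))) (.node (.node (.node (.node (.node (.leaf 11811160964) (.leaf 935766222722)) (.leaf 470299016322)) (.node (.node (.leaf 191662997250) (.leaf 1148903906827)) (.leaf 625991657216))) (.node (.node (.node (.leaf 14495547533) (.leaf 1061930917252)) (.leaf 480499666446)) (.node (.leaf 537944754695) (.leaf 751082584970)))) (.node (.node (.node (.node (.leaf 112742923532) (.leaf 1005559371145)) (.leaf 652298343811)) (.node (.leaf 392989601033) (.leaf 557272124673))) (.node (.node (.node (.leaf 221190889865) (.leaf 1110249269518)) (.leaf 401042673414)) (.node (.leaf 528281136391) (.leaf 893890275079))))))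
def dF_245 : BT := .node dF_243 dF_244
def dF_246 : BT := .node (.node (.node (.node (.node (.node (.node (.leaf 13958647042) (.leaf 898722034313)) (.leaf 676457450627)) (.node (.node (.leaf 84288788750) (.leaf 927713203073)) (.leaf 539555465230))) (.node (.node (.node (.leaf 149250157188) (.leaf 921807575680)) (.leaf 153008333838)) (.node (.leaf 408021990540) (.leaf 447213608718)))) (.node (.node (.node (.node (.leaf 82141269122) (.leaf 958851663116)) (.leaf 418759459714)) (.node (.node (.leaf 8589953038) (.leaf 1103806870280)) (.leaf 779536680966))) (.node (.node (.node (.leaf 233538902403) (.leaf 1020591861262)) (.leaf 466540970887)) (.node (.leaf 430570607618) (.leaf 602369366151))))) (.node (.node (.node (.node (.node (.leaf 42412812163) (.leaf 919660010891)) (.leaf 704911643266)) (.node (.node (.leaf 341449981702) (.leaf 887447888776)) (.leaf 609885454988))) (.node (.node (.node (.leaf 40802230670) (.leaf 885837252096)) (.leaf 718333381889)) (.node (.leaf 422517522823) (.leaf 457950924685)))) (.node (.node (.node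 (.node (.leaf 138512728448) (.leaf 989453311364)) (.leaf 753766909827)) (.node (.leaf 379567825667) (.leaf 578210156686))) (.node (.node (.node (.leaf 276488585349) (.leaf 426812635272)) (.leaf 821949464461)) (.node (.leaf 637802795660) (.leaf 852551218566)))))) (.node (.node (.node (.node (.node (.node (.leaf 27917294087) (.leaf 543313580171)) (.leaf 685047435270)) (.node (.node (.leaf 322659489549) (.leaf 1133871636622)) (.leaf 415001311747))) (.node (.node (.node (.leaf 19327400970) (.leaf 1000190752142)) (.leaf 803159075586)) (.node (.leaf 391379001351) (.leaf 499826938629)))) (.node (.node (.node (.node (.leaf 110058563332) (.leaf 911607040128)) (.leaf 743566390532)) (.node (.leaf 9663678720) (.leaf 570157059074))) (.node (.node (.node (.leaf 246423807622) (.leaf 1081795106951)) (.leaf 471909719040)) (.node (.leaf 601295557768) (.leaf 865972987524))))) (.node (.node (.node (.node (.node (.leaf 12884916622) (.leaf 950798588293)) (.leaf 716722826119)) (.node (.node (.leaf 336618150913) (.leaf 1146756541442)) (.leaf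 814433332096))) (.node (.node (.node (.leaf 22011710733) (.leaf 1056025335820)) (.leaf 834297596289)) (.node (.leaf 537407911172) (.leaf 656056363914)))) (.node (.node (.node (.node (.leaf 71403868557) (.leaf 1006096329093)) (.leaf 557809061383)) (.node (.leaf 388157762565) (.leaf 494995097604))) (.node (.node (.node (.leaf 307090235018) (.leaf 1105954342408)) (.leaf 419833197319)) (.node (.leaf 513248734339) (.leaf 873489186179))))))
def dF_247 : BT := .node (.node (.node (.node (.node (.node (.node (.leaf 24696067847) (.leaf 905164564352)) (.leaf 684510550919)) (.node (.node (.leaf 98247398284) (.leaf 914828302478)) (.leaf 529891749383))) (.node (.node (.node (.leaf 192736703109) (.leaf 1028108041733)) (.leaf 414464519169)) (.node (.leaf 427349347969) (.leaf 639413420684)))) (.node (.node (.node (.node (.leaf 95026174086) (.leaf 742492702471)) (.leaf 676994369671)) (.node (.node (.leaf 150860760581) (.leaf 1158030832908)) (.leaf 590021318029))) (.node (.node (.node (.leaf 236223257732) (.leaf 498216463753)) (.leaf 406948276364))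 (.node (.leaf 562640852352) (.leaf 452045512462))))) (.node (.node (.node (.node (.node (.leaf 57982072069) (.leaf 472446625163)) (.leaf 709743515021)) (.node (.node (.leaf 353261144065) (.leaf 651224688780)) (.leaf 526670553985))) (.node (.node (.node (.leaf 36507239168) (.leaf 962072925708)) (.leaf 826244530313)) (.node (.leaf 515933065997) (.leaf 562103957770)))) (.node (.node (.node (.node (.leaf 146028922117) (.leaf 998043263489)) (.leaf 496605775874)) (.node (.leaf 386010277765) (.leaf 506806176908))) (.node (.node (.node (.leaf 297426556288) (.leaf 1103806834688)) (.leaf 417685761804)) (.node (.leaf 437013040002) (.leaf 415001426312)))))) (.node (.node (.node (.node (.node (.node (.leaf 39191585927) (.leaf 540092358665)) (.leaf 561030223879)) (.node (.node (.leaf 330712560005) (.leaf 1134945378699)) (.leaf 532575987586))) (.node (.node (.node (.leaf 90194360718) (.leaf 1035087365255)) (.leaf 814433288202)) (.node (.leaf 464930320772) (.leaf 565862052618)))) (.node (.node (.node (.node (.leaf 115427273606) (.leaf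 921270718981)) (.leaf 747324487813)) (.node (.leaf 346818691717) (.leaf 535797320459))) (.node (.node (.node (.leaf 89657495694) (.leaf 962072936589)) (.leaf 472983401987)) (.node (.leaf 602369307148) (.leaf 586263244032))))) (.node (.node (.node (.node (.node (.leaf 73551328781) (.leaf 951872354048)) (.leaf 462782870274)) (.node (.node (.leaf 349502998919) (.leaf 1150514638721)) (.leaf 829465756804))) (.node (.node (.node (.leaf 34896623360) (.leaf 1060320278407)) (.leaf 846108759171)) (.node (.leaf 557809010700) (.leaf 701153525386)))) (.node (.node (.node (.node (.leaf 128849059470) (.leaf 1012001910542)) (.leaf 782757976452)) (.node (.leaf 394600163203) (.leaf 496605694088))) (.node (.node (.node (.leaf 314606429696) (.leaf 1112933666053)) (.leaf 499826994056)) (.node (.leaf 192199945612) (.leaf 894964023686))))))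
def dF_248 : BT := .node dF_246 dF_247
def dF_249 : BT := .node dF_245 dF_248
def dF_250 : BT := .node dF_242 dF_249
def dF_251 : BT := .node dF_235 dF_250
def dF_252 : BT := .node dF_220 dF_251
def dF_253 : BT := .node dF_189 dF_252
def dF_254 : BT := .node dF_126 dF_253
def dF : BT := dF_254
def dP_0 : BT := .node (.node (.node (.node (.node (.node (.node (.leaf 0) (.leaf 262017)) (.leaf 130957)) (.node (.leaf 2056) (.leaf 196234))) (.node (.node (.leaf 32644) (.leaf 163716)) (.node (.leaf 98180) (.leaf 229253)))) (.node (.node (.node (.leaf 16268) (.leaf 147332)) (.node (.leaf 81802) (.leaf 212871))) (.node (.node (.leaf 49033) (.leaf 180100)) (.node (.leaf 47117) (.leaf 245636))))) (.node (.node (.node (.node (.node (.leaf 8072) (.leaf 270209)) (.leaf 139141)) (.node (.leaf 2440) (.leaf 204673))) (.node (.node (.leaf 40837) (.leaf 171904)) (.node (.leaf 106368) (.leaf 237440)))) (.node (.node (.node (.leaf 24452) (.leaf 155532)) (.node (.leaf 89992) (.leaf 221069))) (.node (.node (.leaf 57217) (.leaf 188288)) (.node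 (.leaf 122753) (.leaf 253824)))))) (.node (.node (.node (.node (.node (.node (.leaf 3968) (.leaf 263692)) (.leaf 135052)) (.node (.leaf 69508) (.leaf 200581))) (.node (.node (.leaf 36747) (.leaf 167820)) (.node (.leaf 8204) (.leaf 233344)))) (.node (.node (.node (.leaf 20357) (.leaf 151429)) (.node (.leaf 85893) (.leaf 82050))) (.node (.node (.leaf 53121) (.leaf 184197)) (.node (.leaf 118661) (.leaf 249729))))) (.node (.node (.node (.node (.node (.leaf 12172) (.leaf 274176)) (.leaf 94850)) (.node (.leaf 17540) (.leaf 208772))) (.node (.node (.leaf 44941) (.leaf 176005)) (.node (.leaf 110477) (.leaf 241540)))) (.node (.node (.node (.leaf 28549) (.leaf 159621)) (.node (.leaf 7304) (.leaf 225153))) (.node (.node (.leaf 61313) (.leaf 177292)) (.node (.leaf 126853) (.leaf 257932))))))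
def dP_1 : BT := .node (.node (.node (.node (.node (.node (.node (.leaf 1920) (.leaf 264069)) (.leaf 133004)) (.node (.leaf 67460) (.leaf 198533))) (.node (.node (.leaf 34696) (.leaf 165773)) (.node (.leaf 82445) (.leaf 142602)))) (.node (.node (.node (.leaf 18309) (.leaf 149376)) (.node (.leaf 83850) (.leaf 214912))) (.node (.node (.leaf 51077) (.leaf 182145)) (.node (.leaf 116613) (.leaf 247681))))) (.node (.node (.node (.node (.node (.leaf 10116) (.leaf 272260)) (.leaf 141197)) (.node (.leaf 75012) (.leaf 206724))) (.node (.node (.leaf 42880) (.leaf 173952)) (.node (.leaf 108423) (.leaf 223873)))) (.node (.node (.node (.leaf 26501) (.leaf 157572)) (.node (.leaf 92042) (.leaf 223105))) (.node (.node (.leaf 42500) (.leaf 190341)) (.node (.leaf 124804) (.leaf 255885)))))) (.node (.node (.node (.node (.node (.node (.leaf 4237) (.leaf 268165)) (.leaf 137093)) (.node (.leaf 64266) (.leaf 106250))) (.node (.node (.leaf 38796) (.leaf 169860)) (.node (.leaf 104320) (.leaf 235392)))) (.node (.node (.node (.leaf 22401) (.leaf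 153476)) (.node (.leaf 87941) (.leaf 219021))) (.node (.node (.leaf 55169) (.leaf 49282)) (.node (.leaf 120708) (.leaf 251788))))) (.node (.node (.node (.node (.leaf 14212) (.leaf 145293)) (.node (.leaf 35972) (.leaf 210820))) (.node (.node (.leaf 46987) (.leaf 178060)) (.node (.leaf 112524) (.leaf 243588)))) (.node (.node (.node (.leaf 30593) (.leaf 161665)) (.node (.leaf 96132) (.leaf 227212))) (.node (.node (.leaf 63364) (.leaf 194435)) (.node (.leaf 128901) (.leaf 259969))))))
def dP_2 : BT := .node dP_0 dP_1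
def dP_3 : BT := .node (.node (.node (.node (.node (.node (.node (.leaf 896) (.leaf 263040)) (.leaf 131980)) (.node (.leaf 66436) (.leaf 197514))) (.node (.node (.leaf 33668) (.leaf 164740)) (.node (.leaf 99212) (.leaf 230277)))) (.node (.node (.node (.leaf 3072) (.leaf 148356)) (.node (.leaf 82825) (.leaf 125837))) (.node (.node (.leaf 50051) (.leaf 181121)) (.node (.leaf 115589) (.leaf 246659))))) (.node (.node (.node (.node (.node (.leaf 9092) (.leaf 271233)) (.leaf 46220)) (.node (.leaf 72704) (.leaf 205697))) (.node (.node (.leaf 906) (.leaf 172931)) (.node (.leaf 107397) (.leaf 238464)))) (.node (.node (.node (.leaf 25476) (.leaf 156548)) (.node (.leaf 91008) (.leaf 222081))) (.node (.node (.leaf 58241) (.leaf 189325)) (.node (.leaf 123780) (.leaf 254861)))))) (.node (.node (.node (.node (.node (.node (.leaf 5004) (.leaf 217741)) (.leaf 13452)) (.node (.leaf 70532) (.leaf 158861))) (.node (.node (.leaf 37773) (.leaf 168836)) (.node (.leaf 103296) (.leaf 234368)))) (.node (.node (.node (.leaf 13313) (.leaf 152453))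 (.node (.leaf 86917) (.leaf 217996))) (.node (.node (.leaf 54145) (.leaf 185228)) (.node (.leaf 119684) (.leaf 250753))))) (.node (.node (.node (.node (.node (.leaf 388) (.leaf 206474)) (.leaf 144269)) (.node (.leaf 3210) (.leaf 209796))) (.node (.node (.leaf 45960) (.leaf 177029)) (.node (.leaf 111501) (.leaf 221572)))) (.node (.node (.node (.leaf 29573) (.leaf 160641)) (.node (.leaf 95108) (.leaf 226177))) (.node (.node (.leaf 62337) (.leaf 193421)) (.node (.leaf 127875) (.leaf 258945))))))
def dP_4 : BT := .node (.node (.node (.node (.node (.node (.node (.leaf 2944) (.leaf 265093)) (.leaf 102405)) (.node (.leaf 68484) (.leaf 199557))) (.node (.node (.leaf 35712) (.leaf 166791)) (.node (.leaf 101253) (.leaf 232320)))) (.node (.node (.node (.leaf 19333) (.leaf 150405)) (.node (.leaf 81408) (.leaf 215943))) (.node (.node (.leaf 52097) (.leaf 183169)) (.node (.leaf 117637) (.leaf 248705))))) (.node (.node (.node (.node (.node (.leaf 11140) (.leaf 111498)) (.leaf 142213)) (.node (.leaf 34816) (.leaf 207745))) (.node (.node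 (.leaf 33293) (.leaf 174981)) (.node (.leaf 109452) (.leaf 240513)))) (.node (.node (.node (.leaf 27525) (.leaf 158596)) (.node (.leaf 93064) (.leaf 224129))) (.node (.node (.leaf 60289) (.leaf 143629)) (.node (.leaf 125828) (.leaf 256908)))))) (.node (.node (.node (.node (.node (.node (.leaf 7045) (.leaf 269185)) (.leaf 138117)) (.node (.leaf 2312) (.leaf 203649))) (.node (.node (.leaf 5901) (.leaf 170884)) (.node (.leaf 105344) (.leaf 236421)))) (.node (.node (.node (.leaf 23425) (.leaf 154500)) (.node (.leaf 80257) (.leaf 220044))) (.node (.node (.leaf 56193) (.leaf 187264)) (.node (.leaf 121729) (.leaf 252803))))) (.node (.node (.node (.node (.leaf 15239) (.leaf 146316)) (.node (.leaf 80778) (.leaf 102408))) (.node (.node (.leaf 4618) (.leaf 100356)) (.node (.leaf 113548) (.leaf 244612)))) (.node (.node (.node (.leaf 31617) (.leaf 162692)) (.node (.leaf 97156) (.leaf 46477))) (.node (.node (.leaf 64394) (.leaf 195461)) (.node (.leaf 129933) (.leaf 260993))))))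
def dP_5 : BT := .node dP_3 dP_4
def dP_6 : BT := .node dP_2 dP_5
def dP_7 : BT := .node (.node (.node (.node (.node (.node (.node (.leaf 385) (.leaf 262529)) (.leaf 131468)) (.node (.leaf 2184) (.leaf 92162))) (.node (.node (.leaf 33157) (.leaf 164229)) (.node (.leaf 80396) (.leaf 229760)))) (.node (.node (.node (.leaf 16778) (.leaf 147845)) (.node (.leaf 82304) (.leaf 177666))) (.node (.node (.leaf 6154) (.leaf 180608)) (.node (.leaf 115076) (.leaf 246149))))) (.node (.node (.node (.node (.node (.leaf 8584) (.leaf 270724)) (.leaf 139652)) (.node (.leaf 72714) (.leaf 205184))) (.node (.node (.leaf 41348) (.leaf 172417)) (.node (.leaf 106884) (.leaf 237953)))) (.node (.node (.node (.leaf 24965) (.leaf 126085)) (.node (.leaf 51978) (.leaf 221571))) (.node (.node (.leaf 57728) (.leaf 188801)) (.node (.leaf 123269) (.leaf 242700)))))) (.node (.node (.node (.node (.node (.node (.leaf 4492) (.leaf 266637)) (.leaf 135564)) (.node (.leaf 70021) (.leaf 201092))) (.node (.node (.leaf 30349) (.leaf 159109)) (.node (.leaf 102785)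 (.leaf 233857)))) (.node (.node (.node (.leaf 20868) (.leaf 151940)) (.node (.leaf 86404) (.leaf 216966))) (.node (.node (.leaf 53632) (.leaf 184708)) (.node (.leaf 119172) (.leaf 250240))))) (.node (.node (.node (.node (.node (.leaf 12684) (.leaf 274816)) (.leaf 143756)) (.node (.leaf 78084) (.leaf 209285))) (.node (.node (.leaf 1028) (.leaf 176516)) (.node (.leaf 110989) (.leaf 242052)))) (.node (.node (.node (.leaf 29060) (.leaf 160132)) (.node (.leaf 94604) (.leaf 225664))) (.node (.node (.leaf 61824) (.leaf 192908)) (.node (.leaf 127364) (.leaf 213388))))))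
def dP_8 : BT := .node (.node (.node (.node (.node (.node (.node (.leaf 2433) (.leaf 264580)) (.leaf 133517)) (.node (.leaf 67973) (.leaf 199044))) (.node (.node (.leaf 35210) (.leaf 136197)) (.node (.leaf 100740) (.leaf 231809)))) (.node (.node (.node (.leaf 18820) (.leaf 149889)) (.node (.leaf 84362) (.leaf 215425))) (.node (.node (.leaf 51588) (.leaf 182656)) (.node (.leaf 117124) (.leaf 248192))))) (.node (.node (.node (.node (.node (.leaf 10629) (.leaf 206728)) (.leaf 134276)) (.node (.leaf 21388) (.leaf 83719))) (.node (.node (.leaf 43401) (.leaf 174465)) (.node (.leaf 108940) (.leaf 240000)))) (.node (.node (.node (.leaf 27012) (.leaf 158085)) (.node (.leaf 85642) (.leaf 223616))) (.node (.node (.leaf 59652) (.leaf 190852)) (.node (.leaf 125317) (.leaf 256396)))))) (.node (.node (.node (.node (.node (.node (.leaf 6532) (.leaf 268676)) (.leaf 137604)) (.node (.leaf 72073) (.leaf 121216))) (.node (.node (.leaf 39309) (.leaf 170373)) (.node (.leaf 104833) (.leaf 235908)))) (.node (.node (.node (.leaf 22912) (.leaf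 153989)) (.node (.leaf 88452) (.leaf 219533))) (.node (.node (.leaf 23936) (.leaf 186753)) (.node (.leaf 121219) (.leaf 252300))))) (.node (.node (.node (.node (.leaf 14725) (.leaf 145804)) (.node (.leaf 3336) (.leaf 211329))) (.node (.node (.leaf 43786) (.leaf 178573)) (.node (.leaf 81292) (.leaf 244101)))) (.node (.node (.node (.leaf 31104) (.leaf 162181)) (.node (.leaf 96645) (.leaf 227724))) (.node (.node (.leaf 63877) (.leaf 194948)) (.node (.leaf 129412) (.leaf 260480))))))
def dP_9 : BT := .node dP_7 dP_8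
def dP_10 : BT := .node (.node (.node (.node (.node (.node (.node (.leaf 1409) (.leaf 263564)) (.leaf 81676)) (.node (.leaf 66955) (.leaf 198020))) (.node (.node (.leaf 17546) (.leaf 165260)) (.node (.leaf 99725) (.leaf 230788)))) (.node (.node (.node (.leaf 17796) (.leaf 148865)) (.node (.leaf 83339) (.leaf 214401))) (.node (.node (.leaf 50564) (.leaf 181632)) (.node (.leaf 116100) (.leaf 185606))))) (.node (.node (.node (.node (.node (.leaf 9605) (.leaf 217605)) (.leaf 140684)) (.node (.leaf 75008) (.leaf 152973))) (.node (.node (.leaf 41866) (.leaf 173441)) (.node (.leaf 107908) (.leaf 238977)))) (.node (.node (.node (.leaf 13188) (.leaf 157061)) (.node (.leaf 91529) (.leaf 203136))) (.node (.node (.leaf 52104) (.leaf 189828)) (.node (.leaf 124293) (.leaf 255373)))))) (.node (.node (.node (.node (.node (.node (.leaf 5517) (.leaf 267652)) (.leaf 136580)) (.node (.leaf 2186) (.leaf 202116))) (.node (.node (.leaf 29068) (.leaf 169349)) (.node (.leaf 103809) (.leaf 234881)))) (.node (.node (.node (.leaf 21888) (.leaf 152964))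 (.node (.leaf 87428) (.leaf 218509))) (.node (.node (.leaf 54656) (.leaf 185740)) (.node (.leaf 120197) (.leaf 251264))))) (.node (.node (.node (.node (.node (.leaf 13704) (.leaf 266122)) (.leaf 144781)) (.node (.leaf 78730) (.leaf 129925))) (.node (.node (.leaf 45824) (.leaf 177540)) (.node (.leaf 112012) (.leaf 243077)))) (.node (.node (.node (.leaf 30080) (.leaf 161152)) (.node (.leaf 95621) (.leaf 226688))) (.node (.node (.leaf 62851) (.leaf 36492)) (.node (.leaf 128388) (.leaf 259456))))))
def dP_11 : BT := .node (.node (.node (.node (.node (.node (.node (.leaf 3457) (.leaf 265604)) (.leaf 134535)) (.node (.leaf 68997) (.leaf 200068))) (.node (.node (.leaf 36233) (.leaf 167308)) (.node (.leaf 101764) (.leaf 232833)))) (.node (.node (.node (.leaf 19844) (.leaf 150916)) (.node (.leaf 83972) (.leaf 165514))) (.node (.node (.leaf 52608) (.leaf 183684)) (.node (.leaf 118148) (.leaf 249216))))) (.node (.node (.node (.node (.node (.leaf 11655) (.leaf 273796)) (.leaf 142724)) (.node (.leaf 21384) (.leaf 208269))) (.node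 (.node (.leaf 38924) (.leaf 175492)) (.node (.leaf 46092) (.leaf 241028)))) (.node (.node (.node (.leaf 28036) (.leaf 159108)) (.node (.leaf 93578) (.leaf 224640))) (.node (.node (.leaf 60800) (.leaf 191885)) (.node (.leaf 126340) (.leaf 257421)))))) (.node (.node (.node (.node (.node (.node (.leaf 7556) (.leaf 269696)) (.leaf 138628)) (.node (.leaf 2442) (.leaf 204160))) (.node (.node (.leaf 40324) (.leaf 171393)) (.node (.leaf 105857) (.leaf 231555)))) (.node (.node (.node (.leaf 23949) (.leaf 155020)) (.node (.leaf 89472) (.leaf 220556))) (.node (.node (.leaf 56704) (.leaf 187777)) (.node (.leaf 122240) (.leaf 253313))))) (.node (.node (.node (.node (.leaf 15756) (.leaf 146829)) (.node (.leaf 81288) (.leaf 101133))) (.node (.node (.leaf 46858) (.leaf 179589)) (.node (.leaf 114061) (.leaf 245125)))) (.node (.node (.node (.leaf 32131) (.leaf 163205)) (.node (.leaf 97669) (.leaf 228740))) (.node (.node (.leaf 59264) (.leaf 195972)) (.node (.leaf 130445) (.leaf 261504))))))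
def dP_12 : BT := .node dP_10 dP_11
def dP_13 : BT := .node dP_9 dP_12
def dP_14 : BT := .node dP_6 dP_13
def dP_15 : BT := .node (.node (.node (.node (.node (.node (.node (.leaf 140) (.leaf 72844)) (.leaf 131201)) (.node (.leaf 65416) (.leaf 196362))) (.node (.node (.leaf 32901) (.leaf 163973)) (.node (.leaf 98437) (.leaf 229509)))) (.node (.node (.node (.leaf 384) (.leaf 147588)) (.node (.leaf 82058) (.leaf 213121))) (.node (.node (.leaf 49289) (.leaf 180356)) (.node (.leaf 114819) (.leaf 245892))))) (.node (.node (.node (.node (.node (.leaf 8328) (.leaf 262788)) (.leaf 139396)) (.node (.leaf 52744) (.leaf 204940))) (.node (.node (.leaf 41093) (.leaf 172173)) (.node (.leaf 106628) (.leaf 237709)))) (.node (.node (.node (.leaf 24708) (.leaf 155777)) (.node (.leaf 3722) (.leaf 221312))) (.node (.node (.leaf 52108) (.leaf 188557)) (.node (.leaf 113157) (.leaf 242444)))))) (.node (.node (.node (.node (.node (.node (.leaf 4224) (.leaf 266368)) (.leaf 135296)) (.node (.leaf 69765) (.leaf 200836))) (.node (.node (.leaf 37003)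 (.leaf 168065)) (.node (.leaf 102402) (.leaf 233613)))) (.node (.node (.node (.leaf 20612) (.leaf 151684)) (.node (.leaf 86148) (.leaf 216960))) (.node (.node (.leaf 53389) (.leaf 184452)) (.node (.leaf 118917) (.leaf 249996))))) (.node (.node (.node (.node (.node (.leaf 12416) (.leaf 109320)) (.leaf 143489)) (.node (.leaf 34308) (.leaf 209028))) (.node (.node (.leaf 45185) (.leaf 176260)) (.node (.leaf 110721) (.leaf 220036)))) (.node (.node (.node (.leaf 28805) (.leaf 159877)) (.node (.leaf 13570) (.leaf 225420))) (.node (.node (.leaf 61580) (.leaf 192641)) (.node (.leaf 127108) (.leaf 258176))))))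
def dP_16 : BT := .node (.node (.node (.node (.node (.node (.node (.leaf 2189) (.leaf 264325)) (.leaf 133248)) (.node (.leaf 67717) (.leaf 198788))) (.node (.node (.leaf 34952) (.leaf 166017)) (.node (.leaf 100483) (.leaf 231564)))) (.node (.node (.node (.leaf 18564) (.leaf 149644)) (.node (.leaf 84106) (.leaf 215181))) (.node (.node (.leaf 51332) (.leaf 182412)) (.node (.leaf 116869) (.leaf 247948))))) (.node (.node (.node (.node (.node (.leaf 10373) (.leaf 272516)) (.leaf 141441)) (.node (.leaf 73856) (.leaf 206980))) (.node (.node (.leaf 43145) (.leaf 174220)) (.node (.leaf 108673) (.leaf 239756)))) (.node (.node (.node (.leaf 26757) (.leaf 157828)) (.node (.leaf 7048) (.leaf 223372))) (.node (.node (.leaf 42628) (.leaf 190597)) (.node (.leaf 125061) (.leaf 256129)))))) (.node (.node (.node (.node (.node (.node (.leaf 6275) (.leaf 268421)) (.leaf 137348)) (.node (.leaf 66570) (.leaf 82947))) (.node (.node (.leaf 39040) (.leaf 170116)) (.node (.leaf 104589) (.leaf 235652)))) (.node (.node (.node (.leaf 22668) (.leaf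 153733)) (.node (.leaf 88196) (.leaf 219264))) (.node (.node (.leaf 55437) (.leaf 45837)) (.node (.leaf 120964) (.leaf 252033))))) (.node (.node (.node (.node (.leaf 14468) (.leaf 145537)) (.node (.leaf 6656) (.leaf 81804))) (.node (.node (.leaf 47243) (.leaf 178304)) (.node (.leaf 112769) (.leaf 243844)))) (.node (.node (.node (.leaf 30860) (.leaf 153221)) (.node (.leaf 96389) (.leaf 227457))) (.node (.node (.leaf 63621) (.leaf 194692)) (.node (.leaf 129156) (.leaf 260237))))))
def dP_17 : BT := .node dP_15 dP_16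
def dP_18 : BT := .node (.node (.node (.node (.node (.node (.node (.leaf 1165) (.leaf 227328)) (.leaf 132225)) (.node (.leaf 66699) (.leaf 129540))) (.node (.node (.leaf 33928) (.leaf 164993)) (.node (.leaf 99456) (.leaf 230533)))) (.node (.node (.node (.leaf 17284) (.leaf 148612)) (.node (.leaf 83076) (.leaf 91395))) (.node (.node (.leaf 50308) (.leaf 181389)) (.node (.leaf 115845) (.leaf 246916))))) (.node (.node (.node (.node (.node (.leaf 9349) (.leaf 257412)) (.leaf 140417)) (.node (.leaf 72832) (.leaf 205965))) (.node (.node (.leaf 1034) (.leaf 173191)) (.node (.leaf 107652) (.leaf 238732)))) (.node (.node (.node (.leaf 25732) (.leaf 156804)) (.node (.leaf 91273) (.leaf 35458))) (.node (.node (.leaf 1800) (.leaf 189571)) (.node (.leaf 124037) (.leaf 255105)))))) (.node (.node (.node (.node (.node (.node (.leaf 5248) (.leaf 267395)) (.leaf 136324)) (.node (.leaf 70789) (.leaf 201859))) (.node (.node (.leaf 38016) (.leaf 169092)) (.node (.leaf 103565) (.leaf 234636)))) (.node (.node (.node (.leaf 21644) (.leaf 152708))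 (.node (.leaf 87172) (.leaf 218240))) (.node (.node (.leaf 54412) (.leaf 185472)) (.node (.leaf 119940) (.leaf 251021))))) (.node (.node (.node (.node (.node (.leaf 13448) (.leaf 145416)) (.leaf 144513)) (.node (.leaf 9610) (.leaf 210052))) (.node (.node (.leaf 46216) (.leaf 177284)) (.node (.leaf 111745) (.leaf 242820)))) (.node (.node (.node (.leaf 29836) (.leaf 160908)) (.node (.leaf 95365) (.leaf 226445))) (.node (.node (.leaf 57741) (.leaf 193665)) (.node (.leaf 128132) (.leaf 259212))))))
def dP_19 : BT := .node (.node (.node (.node (.node (.node (.node (.leaf 3212) (.leaf 265349)) (.leaf 134275)) (.node (.leaf 68741) (.leaf 199812))) (.node (.node (.leaf 35977) (.leaf 167041)) (.node (.leaf 101509) (.leaf 232589)))) (.node (.node (.node (.leaf 19588) (.leaf 150660)) (.node (.leaf 84992) (.leaf 216193))) (.node (.node (.leaf 52364) (.leaf 136836)) (.node (.leaf 117893) (.leaf 248973))))) (.node (.node (.node (.node (.node (.leaf 11395) (.leaf 112138)) (.leaf 142469)) (.node (.leaf 3080) (.leaf 208004))) (.node (.node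 (.leaf 44161) (.leaf 175236)) (.node (.leaf 109697) (.leaf 227716)))) (.node (.node (.node (.leaf 27781) (.leaf 158852)) (.node (.leaf 93322) (.leaf 224397))) (.node (.node (.leaf 60556) (.leaf 191617)) (.node (.leaf 126084) (.leaf 257153)))))) (.node (.node (.node (.node (.node (.node (.leaf 7301) (.leaf 269452)) (.leaf 138372)) (.node (.leaf 2314) (.leaf 203917))) (.node (.node (.leaf 40067) (.leaf 171140)) (.node (.leaf 105612) (.leaf 236676)))) (.node (.node (.node (.leaf 13324) (.leaf 154753)) (.node (.leaf 89228) (.leaf 220288))) (.node (.node (.leaf 56460) (.leaf 158604)) (.node (.leaf 121996) (.leaf 253063))))) (.node (.node (.node (.node (.leaf 15489) (.leaf 146561)) (.node (.leaf 81034) (.leaf 93831))) (.node (.node (.leaf 47754) (.leaf 179332)) (.node (.leaf 113792) (.leaf 244868)))) (.node (.node (.node (.leaf 909) (.leaf 162949)) (.node (.leaf 97413) (.leaf 228483))) (.node (.node (.leaf 64650) (.leaf 195716)) (.node (.leaf 130177) (.leaf 261260))))))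
def dP_20 : BT := .node dP_18 dP_19
def dP_21 : BT := .node dP_17 dP_20
def dP_22 : BT := .node (.node (.node (.node (.node (.node (.node (.leaf 652) (.leaf 262796)) (.leaf 131712)) (.node (.leaf 65674) (.leaf 35846))) (.node (.node (.leaf 33412) (.leaf 164484)) (.node (.leaf 98945) (.leaf 115724)))) (.node (.node (.node (.leaf 17034) (.leaf 148101)) (.node (.leaf 82569) (.leaf 213505))) (.node (.node (.leaf 49805) (.leaf 180877)) (.node (.leaf 115332) (.leaf 74381))))) (.node (.node (.node (.node (.node (.leaf 8836) (.leaf 262412)) (.leaf 139909)) (.node (.leaf 72842) (.leaf 205452))) (.node (.node (.leaf 41604) (.leaf 94853)) (.node (.leaf 107141) (.leaf 238220)))) (.node (.node (.node (.leaf 25221) (.leaf 156293)) (.node (.leaf 90762) (.leaf 221831))) (.node (.node (.leaf 57996) (.leaf 35724)) (.node (.leaf 123524) (.leaf 254592)))))) (.node (.node (.node (.node (.node (.node (.leaf 4737) (.leaf 266881)) (.leaf 135809)) (.node (.leaf 70276) (.leaf 201349))) (.node (.node (.leaf 37505) (.leaf 168581)) (.node (.leaf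 103052) (.leaf 234124)))) (.node (.node (.node (.leaf 21125) (.leaf 152197)) (.node (.leaf 86661) (.leaf 217729))) (.node (.node (.leaf 53901) (.leaf 184961)) (.node (.leaf 119428) (.leaf 250508))))) (.node (.node (.node (.node (.node (.leaf 12929) (.leaf 114570)) (.leaf 144000)) (.node (.leaf 9226) (.leaf 209541))) (.node (.node (.leaf 45704) (.leaf 176773)) (.node (.leaf 111232) (.leaf 161290)))) (.node (.node (.node (.leaf 29316) (.leaf 160388)) (.node (.leaf 94724) (.leaf 225932))) (.node (.node (.leaf 62093) (.leaf 193152)) (.node (.leaf 127629) (.leaf 247426))))))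
def dP_23 : BT := .node (.node (.node (.node (.node (.node (.node (.leaf 2700) (.leaf 264836)) (.leaf 133761)) (.node (.leaf 68228) (.leaf 199301))) (.node (.node (.leaf 35466) (.leaf 166531)) (.node (.leaf 100996) (.leaf 232076)))) (.node (.node (.node (.leaf 19077) (.leaf 132613)) (.node (.leaf 81280) (.leaf 207107))) (.node (.node (.leaf 8970) (.leaf 182924)) (.node (.leaf 117380) (.leaf 248461))))) (.node (.node (.node (.node (.node (.leaf 10884) (.leaf 112010)) (.leaf 141956)) (.node (.leaf 76416) (.leaf 136589))) (.node (.node (.leaf 26880) (.leaf 98821)) (.node (.leaf 109184) (.leaf 240269)))) (.node (.node (.node (.leaf 27268) (.leaf 158341)) (.node (.leaf 92808) (.leaf 223885))) (.node (.node (.leaf 54029) (.leaf 191108)) (.node (.leaf 125572) (.leaf 256640)))))) (.node (.node (.node (.node (.node (.node (.leaf 6788) (.leaf 223245)) (.leaf 137861)) (.node (.leaf 9738) (.leaf 203405))) (.node (.node (.leaf 39553) (.leaf 170629)) (.node (.leaf 105100) (.leaf 236165)))) (.node (.node (.node (.leaf 23181) (.leaf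 154244)) (.node (.leaf 88709) (.leaf 219777))) (.node (.node (.leaf 55948) (.leaf 187021)) (.node (.leaf 121479) (.leaf 252544))))) (.node (.node (.node (.node (.leaf 14979) (.leaf 146048)) (.node (.leaf 80010) (.leaf 94600))) (.node (.node (.leaf 1162) (.leaf 178817)) (.node (.leaf 113281) (.leaf 244357)))) (.node (.node (.node (.leaf 31373) (.leaf 162436)) (.node (.leaf 96900) (.leaf 227968))) (.node (.node (.leaf 64132) (.leaf 195205)) (.node (.leaf 129664) (.leaf 260749))))))
def dP_24 : BT := .node dP_22 dP_23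
def dP_25 : BT := .node (.node (.node (.node (.node (.node (.node (.leaf 1677) (.leaf 237317)) (.leaf 132737)) (.node (.leaf 5130) (.leaf 198277))) (.node (.node (.leaf 34442) (.leaf 165504)) (.node (.leaf 99969) (.leaf 231044)))) (.node (.node (.node (.leaf 18053) (.leaf 149132)) (.node (.leaf 83595) (.leaf 214668))) (.node (.node (.leaf 50821) (.leaf 181901)) (.node (.leaf 116356) (.leaf 231810))))) (.node (.node (.node (.node (.node (.leaf 9860) (.leaf 272004)) (.leaf 140928)) (.node (.leaf 74756) (.leaf 206467))) (.node (.node (.leaf 36618) (.leaf 173708)) (.node (.leaf 108163) (.leaf 239245)))) (.node (.node (.node (.leaf 26244) (.leaf 157317)) (.node (.leaf 6152) (.leaf 203142))) (.node (.node (.leaf 1928) (.leaf 190084)) (.node (.leaf 124548) (.leaf 255616)))))) (.node (.node (.node (.node (.node (.node (.leaf 5761) (.leaf 267908)) (.leaf 136837)) (.node (.leaf 2826) (.leaf 202372))) (.node (.node (.leaf 38529) (.leaf 169605)) (.node (.leaf 104077) (.leaf 235149)))) (.node (.node (.node (.leaf 22156) (.leaf 153220))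 (.node (.leaf 87685) (.leaf 218753))) (.node (.node (.leaf 54924) (.leaf 185985)) (.node (.leaf 120453) (.leaf 251520))))) (.node (.node (.node (.node (.leaf 13960) (.leaf 145024)) (.node (.leaf 77568) (.leaf 210565))) (.node (.node (.leaf 46724) (.leaf 177793)) (.node (.leaf 112256) (.leaf 243333)))) (.node (.node (.node (.leaf 30348) (.leaf 161420)) (.node (.leaf 95876) (.leaf 226944))) (.node (.node (.leaf 63108) (.leaf 194189)) (.node (.leaf 128645) (.leaf 259725))))))
def dP_26 : BT := .node (.node (.node (.node (.node (.node (.node (.leaf 3725) (.leaf 265860)) (.leaf 134785)) (.node (.leaf 69252) (.leaf 200325))) (.node (.node (.leaf 36484) (.leaf 167552)) (.node (.leaf 102020) (.leaf 233101)))) (.node (.node (.node (.leaf 20101) (.leaf 151173)) (.node (.leaf 17797) (.leaf 182790))) (.node (.node (.leaf 52877) (.leaf 183941)) (.node (.leaf 118404) (.leaf 249485))))) (.node (.node (.node (.node (.node (.leaf 11905) (.leaf 108424)) (.leaf 142980)) (.node (.leaf 3208) (.leaf 208515))) (.node (.node (.leaf 44672) (.leaf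 175749)) (.node (.leaf 110208) (.leaf 241284)))) (.node (.node (.node (.leaf 28292) (.leaf 159364)) (.node (.leaf 32906) (.leaf 224909))) (.node (.node (.leaf 52876) (.leaf 192128)) (.node (.leaf 126597) (.leaf 257664)))))) (.node (.node (.node (.node (.node (.node (.leaf 7812) (.leaf 269965)) (.leaf 138885)) (.node (.leaf 72586) (.leaf 204429))) (.node (.node (.leaf 40580) (.leaf 171660)) (.node (.leaf 106125) (.leaf 213634)))) (.node (.node (.node (.leaf 24195) (.leaf 155264)) (.node (.leaf 89736) (.leaf 220801))) (.node (.node (.leaf 56973) (.leaf 188044)) (.node (.leaf 122508) (.leaf 253580))))) (.node (.node (.node (.node (.leaf 16000) (.leaf 147072)) (.node (.leaf 81544) (.leaf 212611))) (.node (.node (.leaf 48768) (.leaf 179845)) (.node (.leaf 114305) (.leaf 245381)))) (.node (.node (.node (.leaf 32388) (.leaf 163460)) (.node (.leaf 97924) (.leaf 228996))) (.node (.node (.leaf 46596) (.leaf 196232)) (.node (.leaf 130688) (.leaf 261772))))))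
def dP_27 : BT := .node dP_25 dP_26
def dP_28 : BT := .node dP_24 dP_27
def dP_29 : BT := .node dP_21 dP_28
def dP_30 : BT := .node dP_14 dP_29
def dP_31 : BT := .node (.node (.node (.node (.node (.node (.node (.leaf 12) (.leaf 262148)) (.leaf 131076)) (.node (.leaf 65544) (.leaf 196618))) (.node (.node (.leaf 32780) (.leaf 163852)) (.node (.leaf 98317) (.leaf 229376)))) (.node (.node (.node (.leaf 16388) (.leaf 147457)) (.node (.leaf 80522) (.leaf 212996))) (.node (.node (.leaf 49024) (.leaf 180225)) (.node (.leaf 114691) (.leaf 245761))))) (.node (.node (.node (.node (.node (.leaf 4104) (.leaf 270340)) (.leaf 139276)) (.node (.leaf 73736) (.leaf 204804))) (.node (.node (.leaf 40960) (.leaf 172037)) (.node (.leaf 80524) (.leaf 237573)))) (.node (.node (.node (.leaf 24577) (.leaf 155652)) (.node (.leaf 9224) (.leaf 221189))) (.node (.node (.leaf 57348) (.leaf 188421)) (.node (.leaf 122884) (.leaf 239107)))))) (.node (.node (.node (.node (.node (.node (.leaf 133) (.leaf 266245)) (.leaf 135173)) (.node (.leaf 69644) (.leaf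 200716))) (.node (.node (.leaf 36740) (.leaf 167940)) (.node (.leaf 102412) (.leaf 233477)))) (.node (.node (.node (.leaf 20492) (.leaf 151565)) (.node (.leaf 86029) (.leaf 216972))) (.node (.node (.leaf 53252) (.leaf 184333)) (.node (.leaf 118784) (.leaf 249860))))) (.node (.node (.node (.node (.node (.leaf 12293) (.leaf 109448)) (.leaf 143236)) (.node (.leaf 77828) (.leaf 208897))) (.node (.node (.leaf 45060) (.leaf 176141)) (.node (.leaf 110596) (.leaf 217986)))) (.node (.node (.node (.leaf 28672) (.leaf 159744)) (.node (.leaf 94216) (.leaf 225284))) (.node (.node (.leaf 61444) (.leaf 192516)) (.node (.leaf 126989) (.leaf 258053))))))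
def dP_32 : BT := .node (.node (.node (.node (.node (.node (.node (.leaf 2053) (.leaf 264192)) (.leaf 133125)) (.node (.leaf 67596) (.leaf 198669))) (.node (.node (.leaf 904) (.leaf 165892)) (.node (.leaf 100355) (.leaf 36364)))) (.node (.node (.node (.leaf 18445) (.leaf 149509)) (.node (.leaf 17802) (.leaf 215045))) (.node (.node (.leaf 51212) (.leaf 182276)) (.node (.leaf 116736) (.leaf 247812))))) (.node (.node (.node (.node (.node (.leaf 10252) (.leaf 155276)) (.leaf 141316)) (.node (.leaf 75787) (.leaf 206849))) (.node (.node (.leaf 35072) (.leaf 174085)) (.node (.leaf 108548) (.leaf 239620)))) (.node (.node (.node (.leaf 26624) (.leaf 157697)) (.node (.leaf 92032) (.leaf 223236))) (.node (.node (.leaf 59396) (.leaf 190464)) (.node (.leaf 124940) (.leaf 256004)))))) (.node (.node (.node (.node (.node (.node (.leaf 6147) (.leaf 268288)) (.leaf 137229)) (.node (.leaf 71690) (.leaf 202762))) (.node (.node (.leaf 38917) (.leaf 169985)) (.node (.leaf 104453) (.leaf 233612)))) (.node (.node (.node (.leaf 22532) (.leaf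 153612)) (.node (.leaf 88076) (.leaf 219141))) (.node (.node (.leaf 55300) (.leaf 186373)) (.node (.leaf 120833) (.leaf 251908))))) (.node (.node (.node (.node (.leaf 14337) (.leaf 145412)) (.node (.leaf 3338) (.leaf 210945))) (.node (.node (.leaf 46980) (.leaf 178181)) (.node (.leaf 112644) (.leaf 243713)))) (.node (.node (.node (.leaf 30724) (.leaf 161796)) (.node (.leaf 96269) (.leaf 227332))) (.node (.node (.leaf 63500) (.leaf 194567)) (.node (.leaf 129036) (.leaf 260100))))))
def dP_33 : BT := .node dP_31 dP_32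
def dP_34 : BT := .node (.node (.node (.node (.node (.node (.node (.leaf 1029) (.leaf 263173)) (.leaf 132100)) (.node (.leaf 64772) (.leaf 125962))) (.node (.node (.leaf 776) (.leaf 116612)) (.node (.leaf 99333) (.leaf 230400)))) (.node (.node (.node (.leaf 3082) (.leaf 148481)) (.node (.leaf 80004) (.leaf 143626))) (.node (.node (.leaf 50183) (.leaf 181252)) (.node (.leaf 115712) (.leaf 246791))))) (.node (.node (.node (.node (.node (.leaf 9229) (.leaf 271364)) (.leaf 140292)) (.node (.leaf 74752) (.leaf 205828))) (.node (.node (.leaf 41994) (.leaf 173059)) (.node (.leaf 107533) (.leaf 238597)))) (.node (.node (.node (.leaf 25601) (.leaf 156673)) (.node (.leaf 81664) (.leaf 222212))) (.node (.node (.leaf 58372) (.leaf 189443)) (.node (.leaf 123917) (.leaf 254980)))))) (.node (.node (.node (.node (.node (.node (.leaf 5125) (.leaf 267267)) (.leaf 136204)) (.node (.leaf 70669) (.leaf 201731))) (.node (.node (.leaf 37893) (.leaf 168961)) (.node (.leaf 103429) (.leaf 234501)))) (.node (.node (.node (.leaf 21508) (.leaf 152588))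 (.node (.leaf 87053) (.leaf 218117))) (.node (.node (.leaf 54276) (.leaf 185349)) (.node (.leaf 119809) (.leaf 250884))))) (.node (.node (.node (.node (.node (.leaf 264) (.leaf 206346)) (.leaf 144388)) (.node (.leaf 78858) (.leaf 209921))) (.node (.node (.leaf 1160) (.leaf 177164)) (.node (.leaf 111620) (.leaf 242689)))) (.node (.node (.node (.leaf 16644) (.leaf 160772)) (.node (.leaf 95244) (.leaf 226308))) (.node (.node (.leaf 62468) (.leaf 193540)) (.node (.leaf 128007) (.leaf 259076))))))
def dP_35 : BT := .node (.node (.node (.node (.node (.node (.node (.leaf 3077) (.leaf 265216)) (.leaf 134157)) (.node (.leaf 68621) (.leaf 199693))) (.node (.node (.leaf 34048) (.leaf 166916)) (.node (.leaf 101376) (.leaf 232453)))) (.node (.node (.node (.leaf 19469) (.leaf 150541)) (.node (.leaf 85001) (.leaf 216068))) (.node (.node (.leaf 52228) (.leaf 183300)) (.node (.leaf 117760) (.leaf 248836))))) (.node (.node (.node (.node (.node (.leaf 11149) (.leaf 97418)) (.leaf 142336)) (.node (.leaf 6026) (.leaf 139393))) (.node (.node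 (.leaf 44036) (.leaf 175117)) (.node (.leaf 109572) (.leaf 240644)))) (.node (.node (.node (.leaf 27648) (.leaf 158721)) (.node (.leaf 92426) (.leaf 224260))) (.node (.node (.leaf 60420) (.leaf 191492)) (.node (.leaf 81548) (.leaf 257028)))))) (.node (.node (.node (.node (.node (.node (.leaf 7168) (.leaf 269316)) (.leaf 138253)) (.node (.leaf 72712) (.leaf 203780))) (.node (.node (.leaf 39939) (.leaf 171009)) (.node (.leaf 105477) (.leaf 236557)))) (.node (.node (.node (.leaf 23556) (.leaf 121220)) (.node (.leaf 89092) (.leaf 220165))) (.node (.node (.leaf 56324) (.leaf 187397)) (.node (.leaf 121860) (.leaf 252931))))) (.node (.node (.node (.node (.leaf 15364) (.leaf 146436)) (.node (.leaf 80138) (.leaf 211976))) (.node (.node (.leaf 48138) (.leaf 179201)) (.node (.leaf 113669) (.leaf 244737)))) (.node (.node (.node (.leaf 31748) (.leaf 162829)) (.node (.leaf 97292) (.leaf 228355))) (.node (.node (.leaf 2058) (.leaf 195596)) (.node (.leaf 130052) (.leaf 261124))))))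
def dP_36 : BT := .node dP_34 dP_35
def dP_37 : BT := .node dP_33 dP_36
def dP_38 : BT := .node (.node (.node (.node (.node (.node (.node (.leaf 516) (.leaf 262660)) (.leaf 131589)) (.node (.leaf 66056) (.leaf 98438))) (.node (.node (.leaf 33292) (.leaf 164364)) (.node (.leaf 98820) (.leaf 43660)))) (.node (.node (.node (.leaf 522) (.leaf 147968)) (.node (.leaf 80512) (.leaf 177674))) (.node (.node (.leaf 43781) (.leaf 180741)) (.node (.leaf 115201) (.leaf 246272))))) (.node (.node (.node (.node (.node (.leaf 4365) (.leaf 196354)) (.leaf 139789)) (.node (.leaf 74250) (.leaf 205317))) (.node (.node (.leaf 41473) (.leaf 172548)) (.node (.leaf 107020) (.leaf 238084)))) (.node (.node (.node (.leaf 25088) (.leaf 156160)) (.node (.leaf 7306) (.leaf 221699))) (.node (.node (.leaf 57861) (.leaf 188932)) (.node (.leaf 123405) (.leaf 254469)))))) (.node (.node (.node (.node (.node (.node (.leaf 4612) (.leaf 266756)) (.leaf 135684)) (.node (.leaf 70156) (.leaf 201229))) (.node (.node (.leaf 37380) (.leaf 168448)) (.node (.leaf 102916)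 (.leaf 233988)))) (.node (.node (.node (.leaf 21005) (.leaf 152076)) (.node (.leaf 86541) (.leaf 217220))) (.node (.node (.leaf 53765) (.leaf 121348)) (.node (.leaf 119297) (.leaf 250373))))) (.node (.node (.node (.node (.node (.leaf 12804) (.leaf 127498)) (.leaf 143877)) (.node (.leaf 78347) (.leaf 209408))) (.node (.node (.leaf 1032) (.leaf 176652)) (.node (.leaf 111109) (.leaf 231427)))) (.node (.node (.node (.leaf 29185) (.leaf 160257)) (.node (.leaf 94594) (.leaf 225797))) (.node (.node (.leaf 61957) (.leaf 193029)) (.node (.leaf 94597) (.leaf 247436))))))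
def dP_39 : BT := .node (.node (.node (.node (.node (.node (.node (.leaf 2564) (.leaf 264705)) (.leaf 133636)) (.node (.leaf 68109) (.leaf 199181))) (.node (.node (.leaf 34058) (.leaf 166413)) (.node (.leaf 100865) (.leaf 231940)))) (.node (.node (.node (.leaf 18957) (.leaf 150020)) (.node (.leaf 83082) (.leaf 215556))) (.node (.node (.leaf 47626) (.leaf 182789)) (.node (.leaf 117249) (.leaf 248325))))) (.node (.node (.node (.node (.node (.leaf 10765) (.leaf 206600)) (.leaf 141825)) (.node (.leaf 76293) (.leaf 81158))) (.node (.node (.leaf 35588) (.leaf 174596)) (.node (.leaf 109061) (.leaf 240133)))) (.node (.node (.node (.leaf 27137) (.leaf 158208)) (.node (.leaf 8840) (.leaf 223749))) (.node (.node (.leaf 59915) (.leaf 190977)) (.node (.leaf 125452) (.leaf 256517)))))) (.node (.node (.node (.node (.node (.node (.leaf 6657) (.leaf 268801)) (.leaf 137741)) (.node (.leaf 65028) (.leaf 203269))) (.node (.node (.leaf 39428) (.leaf 170496)) (.node (.leaf 104964) (.leaf 236044)))) (.node (.node (.node (.leaf 23045) (.leaf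 154125)) (.node (.leaf 88589) (.leaf 219652))) (.node (.node (.leaf 55813) (.leaf 186884)) (.node (.leaf 121347) (.leaf 252421))))) (.node (.node (.node (.node (.leaf 14861) (.leaf 145925)) (.node (.leaf 80392) (.leaf 211460))) (.node (.node (.leaf 4608) (.leaf 178692)) (.node (.leaf 113156) (.leaf 244224)))) (.node (.node (.node (.leaf 31237) (.leaf 162317)) (.node (.leaf 96781) (.leaf 227845))) (.node (.node (.leaf 64012) (.leaf 195084)) (.node (.leaf 119685) (.leaf 260613))))))
def dP_40 : BT := .node dP_38 dP_39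
def dP_41 : BT := .node (.node (.node (.node (.node (.node (.node (.leaf 1540) (.leaf 263684)) (.leaf 132612)) (.node (.leaf 5120) (.leaf 198156))) (.node (.node (.leaf 17418) (.leaf 165381)) (.node (.leaf 99844) (.leaf 230913)))) (.node (.node (.node (.leaf 17932) (.leaf 148996)) (.node (.leaf 83332) (.leaf 214532))) (.node (.node (.leaf 50700) (.leaf 181765)) (.node (.leaf 116225) (.leaf 231808))))) (.node (.node (.node (.node (.node (.leaf 3340) (.leaf 210444)) (.leaf 140805)) (.node (.leaf 75273) (.leaf 206339))) (.node (.node (.leaf 42506) (.leaf 173572)) (.node (.leaf 82829) (.leaf 239108)))) (.node (.node (.node (.leaf 26113) (.leaf 157184)) (.node (.leaf 72458) (.leaf 203138))) (.node (.node (.leaf 58888) (.leaf 189953)) (.node (.leaf 124429) (.leaf 255493)))))) (.node (.node (.node (.node (.node (.node (.leaf 5636) (.leaf 267777)) (.leaf 136716)) (.node (.leaf 71178) (.leaf 202241))) (.node (.node (.leaf 38404) (.leaf 169472)) (.node (.leaf 103940) (.leaf 235012)))) (.node (.node (.node (.leaf 22021) (.leaf 45708))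 (.node (.leaf 87564) (.leaf 218628))) (.node (.node (.leaf 54789) (.leaf 185860)) (.node (.leaf 120320) (.leaf 231557))))) (.node (.node (.node (.node (.node (.leaf 13320) (.leaf 272780)) (.leaf 144901)) (.node (.leaf 79370) (.leaf 210432))) (.node (.node (.leaf 42244) (.leaf 143876)) (.node (.leaf 112133) (.leaf 243200)))) (.node (.node (.node (.leaf 30213) (.leaf 161285)) (.node (.leaf 95757) (.leaf 213637))) (.node (.node (.leaf 62983) (.leaf 194053)) (.node (.leaf 128524) (.leaf 259589))))))
def dP_42 : BT := .node (.node (.node (.node (.node (.node (.node (.leaf 3588) (.leaf 265729)) (.leaf 134660)) (.node (.leaf 69133) (.leaf 200204))) (.node (.node (.leaf 25988) (.leaf 167429)) (.node (.leaf 101889) (.leaf 232964)))) (.node (.node (.node (.leaf 19980) (.leaf 151053)) (.node (.leaf 7050) (.leaf 136456))) (.node (.node (.leaf 52741) (.leaf 183820)) (.node (.leaf 118273) (.leaf 249349))))) (.node (.node (.node (.node (.node (.leaf 11780) (.leaf 100234)) (.leaf 142849)) (.node (.leaf 77320) (.leaf 208387))) (.node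 (.node (.leaf 44549) (.leaf 175629)) (.node (.leaf 110085) (.leaf 167181)))) (.node (.node (.node (.leaf 28161) (.leaf 159233)) (.node (.leaf 82948) (.leaf 224773))) (.node (.node (.leaf 60933) (.leaf 192005)) (.node (.leaf 126476) (.leaf 257541)))))) (.node (.node (.node (.node (.node (.node (.leaf 7681) (.leaf 269829)) (.leaf 138764)) (.node (.leaf 73226) (.leaf 204293))) (.node (.node (.leaf 40449) (.leaf 171524)) (.node (.leaf 105988) (.leaf 213632)))) (.node (.node (.node (.leaf 24067) (.leaf 155141)) (.node (.leaf 3592) (.leaf 220676))) (.node (.node (.leaf 56837) (.leaf 187908)) (.node (.leaf 122373) (.leaf 253444))))) (.node (.node (.node (.node (.leaf 15877) (.leaf 146949)) (.node (.leaf 80264) (.leaf 183181))) (.node (.node (.leaf 46208) (.leaf 179712)) (.node (.leaf 114180) (.leaf 245248)))) (.node (.node (.node (.leaf 32263) (.leaf 163341)) (.node (.leaf 97804) (.leaf 228865))) (.node (.node (.leaf 65033) (.leaf 32904)) (.node (.leaf 130565) (.leaf 261637))))))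
def dP_43 : BT := .node dP_41 dP_42
def dP_44 : BT := .node dP_40 dP_43
def dP_45 : BT := .node dP_37 dP_44
def dP_46 : BT := .node (.node (.node (.node (.node (.node (.node (.leaf 260) (.leaf 262404)) (.leaf 131332)) (.node (.leaf 65800) (.leaf 196874))) (.node (.node (.leaf 33024) (.leaf 164096)) (.node (.leaf 98560) (.leaf 194181)))) (.node (.node (.node (.leaf 16650) (.leaf 147724)) (.node (.leaf 80384) (.leaf 197258))) (.node (.node (.leaf 43140) (.leaf 106629)) (.node (.leaf 114951) (.leaf 246029))))) (.node (.node (.node (.node (.node (.leaf 4232) (.leaf 270593)) (.leaf 139521)) (.node (.leaf 73992) (.leaf 205061))) (.node (.node (.leaf 41228) (.leaf 172292)) (.node (.leaf 106753) (.leaf 237828)))) (.node (.node (.node (.leaf 24844) (.leaf 155908)) (.node (.leaf 90378) (.leaf 43277))) (.node (.node (.leaf 57605) (.leaf 188676)) (.node (.leaf 123136) (.leaf 242434)))))) (.node (.node (.node (.node (.node (.node (.leaf 4357) (.leaf 266501)) (.leaf 135429)) (.node (.leaf 69888) (.leaf 200961))) (.node (.node (.leaf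 13194) (.leaf 168196)) (.node (.leaf 102532) (.leaf 233732)))) (.node (.node (.node (.leaf 20737) (.leaf 151809)) (.node (.leaf 86273) (.leaf 216962))) (.node (.node (.leaf 53509) (.leaf 184577)) (.node (.leaf 119052) (.leaf 250117))))) (.node (.node (.node (.node (.node (.leaf 12549) (.leaf 274560)) (.leaf 143620)) (.node (.leaf 78091) (.leaf 209164))) (.node (.node (.leaf 45316) (.leaf 176385)) (.node (.leaf 110852) (.leaf 241921)))) (.node (.node (.node (.leaf 28940) (.leaf 160013)) (.node (.leaf 8076) (.leaf 225541))) (.node (.node (.leaf 61701) (.leaf 192772)) (.node (.leaf 127233) (.leaf 258309))))))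
def dP_47 : BT := .node (.node (.node (.node (.node (.node (.node (.leaf 2308) (.leaf 264461)) (.leaf 133381)) (.node (.leaf 67840) (.leaf 198913))) (.node (.node (.leaf 33930) (.leaf 166148)) (.node (.leaf 100615) (.leaf 231684)))) (.node (.node (.node (.leaf 18689) (.leaf 149764)) (.node (.leaf 3594) (.leaf 215300))) (.node (.node (.leaf 51457) (.leaf 182533)) (.node (.leaf 117005) (.leaf 248069))))) (.node (.node (.node (.node (.node (.leaf 10496) (.leaf 212872)) (.leaf 141572)) (.node (.leaf 73348) (.leaf 102664))) (.node (.node (.leaf 43136) (.leaf 174340)) (.node (.leaf 108804) (.leaf 239877)))) (.node (.node (.node (.leaf 26893) (.leaf 157964)) (.node (.leaf 92424) (.leaf 223493))) (.node (.node (.leaf 59659) (.leaf 190732)) (.node (.leaf 125184) (.leaf 256260)))))) (.node (.node (.node (.node (.node (.node (.leaf 6407) (.leaf 268556)) (.leaf 137473)) (.node (.leaf 36736) (.leaf 132490))) (.node (.node (.leaf 39173) (.leaf 170252)) (.node (.leaf 104708) (.leaf 235777)))) (.node (.node (.node (.leaf 22789) (.leaf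 153856)) (.node (.leaf 88321) (.leaf 219397))) (.node (.node (.leaf 55557) (.leaf 186628)) (.node (.leaf 49549) (.leaf 252164))))) (.node (.node (.node (.node (.leaf 396) (.leaf 145668)) (.node (.leaf 3460) (.leaf 211204))) (.node (.node (.leaf 43776) (.leaf 178437)) (.node (.leaf 112900) (.leaf 243981)))) (.node (.node (.node (.leaf 30981) (.leaf 162048)) (.node (.leaf 96512) (.leaf 227588))) (.node (.node (.leaf 63744) (.leaf 194817)) (.node (.leaf 129281) (.leaf 260357))))))
def dP_48 : BT := .node dP_46 dP_47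
def dP_49 : BT := .node (.node (.node (.node (.node (.node (.node (.leaf 1284) (.leaf 263429)) (.leaf 132356)) (.node (.leaf 66692) (.leaf 197889))) (.node (.node (.leaf 25994) (.leaf 165124)) (.node (.leaf 99589) (.leaf 230669)))) (.node (.node (.node (.leaf 17665) (.leaf 114820)) (.node (.leaf 80644) (.leaf 186244))) (.node (.node (.leaf 50433) (.leaf 181509)) (.node (.leaf 115980) (.leaf 247041))))) (.node (.node (.node (.node (.node (.leaf 9472) (.leaf 271104)) (.leaf 140548)) (.node (.leaf 75017) (.leaf 206085))) (.node (.node (.leaf 42250) (.leaf 173316)) (.node (.leaf 107777) (.leaf 238852)))) (.node (.node (.node (.leaf 778) (.leaf 156941)) (.node (.leaf 91264) (.leaf 203148))) (.node (.node (.leaf 58632) (.leaf 189703)) (.node (.leaf 124160) (.leaf 255236)))))) (.node (.node (.node (.node (.node (.node (.leaf 5381) (.leaf 267527)) (.leaf 136449)) (.node (.leaf 70912) (.leaf 201991))) (.node (.node (.leaf 38149) (.leaf 169229)) (.node (.leaf 103684) (.leaf 234756)))) (.node (.node (.node (.leaf 21765) (.leaf 152833))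 (.node (.leaf 87297) (.leaf 218373))) (.node (.node (.leaf 54533) (.leaf 185605)) (.node (.leaf 120076) (.leaf 251141))))) (.node (.node (.node (.node (.node (.leaf 392) (.leaf 248202)) (.leaf 144644)) (.node (.leaf 79114) (.leaf 45709))) (.node (.node (.leaf 45834) (.leaf 177409)) (.node (.leaf 111876) (.leaf 242956)))) (.node (.node (.node (.leaf 29957) (.leaf 161029)) (.node (.leaf 95488) (.leaf 226565))) (.node (.node (.leaf 62723) (.leaf 193796)) (.node (.leaf 128257) (.leaf 259333))))))
def dP_50 : BT := .node (.node (.node (.node (.node (.node (.node (.leaf 3332) (.leaf 265484)) (.leaf 134403)) (.node (.leaf 68864) (.leaf 199937))) (.node (.node (.leaf 35968) (.leaf 167172)) (.node (.leaf 101644) (.leaf 232708)))) (.node (.node (.node (.leaf 19713) (.leaf 150785)) (.node (.leaf 85257) (.leaf 216324))) (.node (.node (.leaf 52485) (.leaf 183553)) (.node (.leaf 118029) (.leaf 249093))))) (.node (.node (.node (.node (.node (.leaf 11523) (.leaf 273540)) (.leaf 142604)) (.node (.leaf 77064) (.leaf 109189))) (.node (.node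 (.leaf 44292) (.leaf 175361)) (.node (.leaf 109828) (.leaf 240897)))) (.node (.node (.node (.leaf 27917) (.leaf 45836)) (.node (.leaf 92554) (.leaf 224517))) (.node (.node (.leaf 60677) (.leaf 191748)) (.node (.leaf 126209) (.leaf 257284)))))) (.node (.node (.node (.node (.node (.node (.leaf 7436) (.leaf 269573)) (.leaf 138497)) (.node (.leaf 72970) (.leaf 204037))) (.node (.node (.leaf 40199) (.leaf 110084)) (.node (.leaf 105732) (.leaf 236801)))) (.node (.node (.node (.leaf 23813) (.leaf 154884)) (.node (.leaf 89349) (.leaf 220421))) (.node (.node (.leaf 56581) (.leaf 187652)) (.node (.leaf 122117) (.leaf 253188))))) (.node (.node (.node (.node (.leaf 15620) (.leaf 146692)) (.node (.leaf 3464) (.leaf 185477))) (.node (.node (.leaf 48394) (.leaf 179468)) (.node (.leaf 113925) (.leaf 245004)))) (.node (.node (.node (.leaf 32003) (.leaf 163072)) (.node (.leaf 97536) (.leaf 228615))) (.node (.node (.leaf 59136) (.leaf 195841)) (.node (.leaf 130308) (.leaf 261381))))))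
def dP_51 : BT := .node dP_49 dP_50
def dP_52 : BT := .node dP_48 dP_51
def dP_53 : BT := .node (.node (.node (.node (.node (.node (.node (.leaf 773) (.leaf 262917)) (.leaf 131845)) (.node (.leaf 64644) (.leaf 98442))) (.node (.node (.leaf 33537) (.leaf 164609)) (.node (.leaf 99076) (.leaf 197900)))) (.node (.node (.node (.leaf 3084) (.leaf 148237)) (.node (.leaf 82560) (.leaf 213764))) (.node (.node (.leaf 49923) (.leaf 180996)) (.node (.leaf 115468) (.leaf 246531))))) (.node (.node (.node (.node (.node (.leaf 8961) (.leaf 262276)) (.leaf 140032)) (.node (.leaf 74506) (.leaf 205572))) (.node (.node (.leaf 1024) (.leaf 172813)) (.node (.leaf 107264) (.leaf 238341)))) (.node (.node (.node (.leaf 25356) (.leaf 156429)) (.node (.leaf 81536) (.leaf 221956))) (.node (.node (.leaf 58116) (.leaf 189189)) (.node (.leaf 123649) (.leaf 254725)))))) (.node (.node (.node (.node (.node (.node (.leaf 4868) (.leaf 267012)) (.leaf 135940)) (.node (.leaf 70401) (.leaf 201472))) (.node (.node (.leaf 37636) (.leaf 168717)) (.node (.leaf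 103173) (.leaf 234245)))) (.node (.node (.node (.leaf 21248) (.leaf 152320)) (.node (.leaf 86784) (.leaf 217860))) (.node (.node (.leaf 54020) (.leaf 185092)) (.node (.leaf 81420) (.leaf 250628))))) (.node (.node (.node (.node (.node (.leaf 13060) (.leaf 222090)) (.leaf 144133)) (.node (.leaf 9600) (.leaf 209676))) (.node (.node (.leaf 45576) (.leaf 176896)) (.node (.leaf 111365) (.leaf 237186)))) (.node (.node (.node (.leaf 29453) (.leaf 100484)) (.node (.leaf 94977) (.leaf 226052))) (.node (.node (.leaf 62212) (.leaf 193285)) (.node (.leaf 127747) (.leaf 258692))))))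
def dP_54 : BT := .node (.node (.node (.node (.node (.node (.node (.leaf 2821) (.leaf 257804)) (.leaf 133892)) (.node (.leaf 68353) (.leaf 199424))) (.node (.node (.leaf 33920) (.leaf 166659)) (.node (.leaf 101132) (.leaf 232197)))) (.node (.node (.node (.leaf 19200) (.leaf 150272)) (.node (.leaf 84736) (.leaf 215811))) (.node (.node (.leaf 1796) (.leaf 183044)) (.node (.leaf 117517) (.leaf 248580))))) (.node (.node (.node (.node (.node (.leaf 11009) (.leaf 97162)) (.leaf 142092)) (.node (.leaf 76549) (.leaf 207620))) (.node (.node (.leaf 26890) (.leaf 174848)) (.node (.leaf 109317) (.leaf 240388)))) (.node (.node (.node (.leaf 27405) (.leaf 158476)) (.node (.leaf 7176) (.leaf 224004))) (.node (.node (.leaf 60164) (.leaf 136328)) (.node (.leaf 125697) (.leaf 256773)))))) (.node (.node (.node (.node (.node (.node (.leaf 6924) (.leaf 259332)) (.leaf 137984)) (.node (.leaf 2432) (.leaf 203524))) (.node (.node (.leaf 39684) (.leaf 170764)) (.node (.leaf 105221) (.leaf 236288)))) (.node (.node (.node (.leaf 23300) (.leaf 154369))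 (.node (.leaf 88832) (.leaf 219908))) (.node (.node (.leaf 56068) (.leaf 187141)) (.node (.leaf 121604) (.leaf 74509))))) (.node (.node (.node (.node (.leaf 15107) (.leaf 146181)) (.node (.leaf 6666) (.leaf 161157))) (.node (.node (.leaf 47882) (.leaf 178948)) (.node (.leaf 113412) (.leaf 244493)))) (.node (.node (.node (.leaf 31492) (.leaf 162561)) (.node (.leaf 97025) (.leaf 228101))) (.node (.node (.leaf 1930) (.leaf 195328)) (.node (.leaf 129797) (.leaf 260868))))))
def dP_55 : BT := .node dP_53 dP_54
def dP_56 : BT := .node (.node (.node (.node (.node (.node (.node (.leaf 1797) (.leaf 258572)) (.leaf 132868)) (.node (.leaf 23937) (.leaf 198400))) (.node (.node (.leaf 2824) (.leaf 165637)) (.node (.leaf 100100) (.leaf 183180)))) (.node (.node (.node (.leaf 18176) (.leaf 149253)) (.node (.leaf 3466) (.leaf 214789))) (.node (.node (.leaf 50944) (.leaf 182020)) (.node (.leaf 45964) (.leaf 228356))))) (.node (.node (.node (.node (.node (.leaf 9985) (.leaf 272129)) (.leaf 141061)) (.node (.leaf 75019) (.leaf 206599)))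 (.node (.node (.leaf 34944) (.leaf 173829)) (.node (.leaf 108291) (.leaf 239365)))) (.node (.node (.node (.leaf 26380) (.leaf 157453)) (.node (.leaf 91912) (.leaf 222596))) (.node (.node (.leaf 59144) (.leaf 190220)) (.node (.leaf 124673) (.leaf 255749)))))) (.node (.node (.node (.node (.node (.node (.leaf 5892) (.leaf 268044)) (.leaf 136960)) (.node (.leaf 71434) (.leaf 139910))) (.node (.node (.leaf 38660) (.leaf 169741)) (.node (.leaf 104197) (.leaf 235269)))) (.node (.node (.node (.leaf 22276) (.leaf 153345)) (.node (.leaf 87808) (.leaf 218884))) (.node (.node (.leaf 55044) (.leaf 186116)) (.node (.leaf 120589) (.leaf 251653))))) (.node (.node (.node (.node (.leaf 7437) (.leaf 145157)) (.node (.leaf 79616) (.leaf 210701))) (.node (.node (.leaf 42372) (.leaf 177924)) (.node (.leaf 112389) (.leaf 243469)))) (.node (.node (.node (.leaf 30468) (.leaf 161540)) (.node (.leaf 96001) (.leaf 227077))) (.node (.node (.leaf 63233) (.leaf 194307)) (.node (.leaf 128768) (.leaf 259844))))))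
def dP_57 : BT := .node (.node (.node (.node (.node (.node (.node (.leaf 3845) (.leaf 254085)) (.leaf 134916)) (.node (.leaf 69377) (.leaf 200448))) (.node (.node (.leaf 34180) (.leaf 167685)) (.node (.leaf 8194) (.leaf 233221)))) (.node (.node (.node (.leaf 20224) (.leaf 151296)) (.node (.leaf 85760) (.leaf 182794))) (.node (.node (.leaf 52996) (.leaf 184064)) (.node (.leaf 118540) (.leaf 249604))))) (.node (.node (.node (.node (.node (.leaf 12036) (.leaf 121480)) (.leaf 94860)) (.node (.leaf 77576) (.leaf 208647))) (.node (.node (.leaf 44805) (.leaf 175872)) (.node (.leaf 110341) (.leaf 179341)))) (.node (.node (.node (.leaf 28428) (.leaf 159500)) (.node (.leaf 93184) (.leaf 225028))) (.node (.node (.leaf 61188) (.leaf 192261)) (.node (.leaf 126720) (.leaf 217604)))))) (.node (.node (.node (.node (.node (.node (.leaf 136) (.leaf 270084)) (.leaf 139008)) (.node (.leaf 73482) (.leaf 204548))) (.node (.node (.leaf 40716) (.leaf 171781)) (.node (.leaf 106245) (.leaf 237189)))) (.node (.node (.node (.leaf 24327) (.leaf 155397))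 (.node (.leaf 3720) (.leaf 220932))) (.node (.node (.leaf 57092) (.leaf 188165)) (.node (.leaf 122628) (.leaf 253701))))) (.node (.node (.node (.node (.leaf 16133) (.leaf 46348)) (.node (.leaf 80394) (.leaf 212739))) (.node (.node (.leaf 46336) (.leaf 179980)) (.node (.leaf 114436) (.leaf 245516)))) (.node (.node (.node (.leaf 32513) (.leaf 163585)) (.node (.leaf 98049) (.leaf 229132))) (.node (.node (.leaf 2052) (.leaf 93962)) (.node (.leaf 130821) (.leaf 261892))))))
def dP_58 : BT := .node dP_56 dP_57
def dP_59 : BT := .node dP_55 dP_58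
def dP_60 : BT := .node dP_52 dP_59
def dP_61 : BT := .node dP_45 dP_60
def dP_62 : BT := .node dP_30 dP_61
def dP : BT := dP_62
def dRels : List (List ℕ) := [[], [0, 1], [1, 0], [2, 3], [3, 2], [4, 5], [5, 4], [6, 7], [7, 6], [8, 9], [9, 8], [10, 11], [11, 10], [12, 13], [13, 12], [0, 1], [0, 1], [0, 0, 1, 1], [0, 0, 1, 1], [0, 0, 0], [1, 1, 1], [0, 0, 0, 0, 1], [0, 1, 1, 1, 1], [2, 3], [2, 3], [2, 2, 3, 3], [2, 2, 3, 3], [2, 2, 2], [3, 3, 3], [2, 2, 2, 2, 3], [2, 3, 3, 3, 3], [4, 5], [4, 5], [4, 4, 5, 5], [4, 4, 5, 5], [4, 4, 4], [5, 5, 5], [4, 4, 4, 4, 5], [4, 5, 5, 5, 5], [6, 7], [6, 7], [6, 6, 7, 7], [6, 6, 7, 7], [6, 6, 6], [7, 7, 7], [6, 6, 6, 6, 7], [6, 7, 7, 7, 7], [8, 9], [8, 9], [8, 8, 9, 9], [8, 8, 9, 9], [8, 8, 8], [9, 9, 9], [8, 8, 8, 8, 9], [8, 9, 9, 9, 9], [10, 11], [10, 11], [10, 10, 11, 11], [10, 10, 11, 11], [10, 10, 10], [11, 11, 11], [10, 10, 10, 10, 11], [10, 11, 11, 11, 11], [0, 0, 0, 1, 1, 1], [0, 0, 0, 1, 1, 1], [0, 0, 0, 0, 1, 1, 1, 1], [0, 0, 0, 0, 1, 1, 1, 1], [0, 2, 1, 3], [2, 0, 3, 1], [0,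 2, 2, 1, 3, 3], [2, 2, 0, 3, 3, 1], [0, 0, 2, 1, 1, 3], [2, 0, 0, 3, 1, 1], [0, 0, 2, 2, 1, 1, 3, 3], [2, 2, 0, 0, 3, 3, 1, 1], [0, 10, 1, 11], [10, 0, 11, 1], [0, 10, 10, 1, 11, 11], [10, 10, 0, 11, 11, 1], [0, 0, 10, 1, 1, 11], [10, 0, 0, 11, 1, 1], [0, 0, 10, 10, 1, 1, 11, 11], [10, 10, 0, 0, 11, 11, 1, 1], [2, 0, 3, 1], [0, 2, 1, 3], [2, 0, 0, 3, 1, 1], [0, 0, 2, 1, 1, 3], [2, 2, 0, 3, 3, 1], [0, 2, 2, 1, 3, 3], [2, 2, 0, 0, 3, 3, 1, 1], [0, 0, 2, 2, 1, 1, 3, 3], [2, 2, 2, 3, 3, 3], [2, 2, 2, 3, 3, 3], [2, 2, 2, 2, 3, 3, 3, 3], [2, 2, 2, 2, 3, 3, 3, 3], [2, 6, 3, 7], [6, 2, 7, 3], [2, 6, 6, 3, 7, 7], [6, 6, 2, 7, 7, 3], [2, 2, 6, 3, 3, 7], [6, 2, 2, 7, 3, 3], [2, 2, 6, 6, 3, 3, 7, 7], [6, 6, 2, 2, 7, 7, 3, 3], [4, 4, 4, 5, 5, 5], [4, 4, 4, 5, 5, 5], [4, 4, 4, 4, 5, 5, 5, 5], [4, 4, 4, 4, 5, 5, 5, 5], [4, 6, 5, 7], [6, 4, 7, 5], [4, 6, 6, 5, 7, 7], [6, 6, 4, 7, 7, 5], [4, 4, 6, 5, 5, 7], [6, 4, 4, 7, 5, 5], [4, 4, 6, 6, 5, 5, 7, 7], [6, 6, 4, 4, 7, 7, 5, 5], [4, 8, 5, 9], [8, 4, 9, 5], [4, 8, 8, 5, 9, 9], [8, 8, 4,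 9, 9, 5], [4, 4, 8, 5, 5, 9], [8, 4, 4, 9, 5, 5], [4, 4, 8, 8, 5, 5, 9, 9], [8, 8, 4, 4, 9, 9, 5, 5], [6, 2, 7, 3], [2, 6, 3, 7], [6, 2, 2, 7, 3, 3], [2, 2, 6, 3, 3, 7], [6, 6, 2, 7, 7, 3], [2, 6, 6, 3, 7, 7], [6, 6, 2, 2, 7, 7, 3, 3], [2, 2, 6, 6, 3, 3, 7, 7], [6, 4, 7, 5], [4, 6, 5, 7], [6, 4, 4, 7, 5, 5], [4, 4, 6, 5, 5, 7], [6, 6, 4, 7, 7, 5], [4, 6, 6, 5, 7, 7], [6, 6, 4, 4, 7, 7, 5, 5], [4, 4, 6, 6, 5, 5, 7, 7], [6, 6, 6, 7, 7, 7], [6, 6, 6, 7, 7, 7], [6, 6, 6, 6, 7, 7, 7, 7], [6, 6, 6, 6, 7, 7, 7, 7], [8, 4, 9, 5], [4, 8, 5, 9], [8, 4, 4, 9, 5, 5], [4, 4, 8, 5, 5, 9], [8, 8, 4, 9, 9, 5], [4, 8, 8, 5, 9, 9], [8, 8, 4, 4, 9, 9, 5, 5], [4, 4, 8, 8, 5, 5, 9, 9], [8, 8, 8, 9, 9, 9], [8, 8, 8, 9, 9, 9], [8, 8, 8, 8, 9, 9, 9, 9], [8, 8, 8, 8, 9, 9, 9, 9], [8, 10, 9, 11], [10, 8, 11, 9], [8, 10, 10, 9, 11, 11], [10, 10, 8, 11, 11, 9], [8, 8, 10, 9, 9, 11], [10, 8, 8, 11, 9, 9], [8, 8, 10, 10, 9, 9, 11, 11], [10, 10, 8, 8, 11, 11, 9, 9], [10, 0, 11, 1], [0, 10, 1, 11], [10, 0, 0, 11, 1, 1], [0, 0, 10, 1, 1, 11], [10, 10,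 0, 11, 11, 1], [0, 10, 10, 1, 11, 11], [10, 10, 0, 0, 11, 11, 1, 1], [0, 0, 10, 10, 1, 1, 11, 11], [10, 8, 11, 9], [8, 10, 9, 11], [10, 8, 8, 11, 9, 9], [8, 8, 10, 9, 9, 11], [10, 10, 8, 11, 11, 9], [8, 10, 10, 9, 11, 11], [10, 10, 8, 8, 11, 11, 9, 9], [8, 8, 10, 10, 9, 9, 11, 11], [10, 10, 10, 11, 11, 11], [10, 10, 10, 11, 11, 11], [10, 10, 10, 10, 11, 11, 11, 11], [10, 10, 10, 10, 11, 11, 11, 11], [0, 6, 1, 7, 3], [2, 6, 0, 7, 1], [0, 6, 6, 1, 7, 7, 3, 3], [2, 2, 6, 6, 0, 7, 7, 1], [0, 0, 6, 1, 1, 7, 3, 3], [2, 2, 6, 0, 0, 7, 1, 1], [0, 0, 6, 6, 1, 1, 7, 7, 3], [2, 6, 6, 0, 0, 7, 7, 1, 1], [2, 10, 3, 11, 1], [0, 10, 2, 11, 3], [2, 10, 10, 3, 11, 11, 1, 1], [0, 0, 10, 10, 2, 11, 11, 3], [2, 2, 10, 3, 3, 11, 1, 1], [0, 0, 10, 2, 2, 11, 3, 3], [2, 2, 10, 10, 3, 3, 11, 11, 1], [0, 10, 10, 2, 2, 11, 11, 3, 3], [4, 2, 5, 3, 7], [6, 2, 4, 3, 5], [4, 2, 2, 5, 3, 3, 7, 7], [6, 6, 2, 2, 4, 3, 3, 5], [4, 4, 2, 5, 5, 3, 7, 7], [6, 6, 2, 4, 4, 3, 5, 5], [4, 4, 2, 2, 5, 5, 3, 3, 7], [6, 2, 2, 4, 4, 3, 3, 5, 5], [6, 8, 7, 9, 5], [4,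 8, 6, 9, 7], [6, 8, 8, 7, 9, 9, 5, 5], [4, 4, 8, 8, 6, 9, 9, 7], [6, 6, 8, 7, 7, 9, 5, 5], [4, 4, 8, 6, 6, 9, 7, 7], [6, 6, 8, 8, 7, 7, 9, 9, 5], [4, 8, 8, 6, 6, 9, 9, 7, 7], [8, 0, 9, 1, 11], [10, 0, 8, 1, 9], [8, 0, 0, 9, 1, 1, 11, 11], [10, 10, 0, 0, 8, 1, 1, 9], [8, 8, 0, 9, 9, 1, 11, 11], [10, 10, 0, 8, 8, 1, 9, 9], [8, 8, 0, 0, 9, 9, 1, 1, 11], [10, 0, 0, 8, 8, 1, 1, 9, 9], [10, 4, 11, 5, 9], [8, 4, 10, 5, 11], [10, 4, 4, 11, 5, 5, 9, 9], [8, 8, 4, 4, 10, 5, 5, 11], [10, 10, 4, 11, 11, 5, 9, 9], [8, 8, 4, 10, 10, 5, 11, 11], [10, 10, 4, 4, 11, 11, 5, 5, 9], [8, 4, 4, 10, 10, 5, 5, 11, 11], [12, 12, 12], [13, 13, 13], [12, 0, 13, 1], [0, 12, 1, 13], [12, 2, 13, 3], [2, 12, 3, 13], [12, 6, 13, 7], [6, 12, 7, 13], [12, 10, 13, 11], [10, 12, 11, 13], [12, 12, 4, 1, 4, 12, 5, 0, 5, 13, 4, 1, 4, 13, 5, 0, 5, 13, 4, 1, 4, 12, 5, 0, 5, 12, 4, 1, 4, 13, 5, 0, 5, 13], [12, 4, 1, 4, 12, 5, 0, 5, 13, 4, 1, 4, 13, 5, 0, 5, 12, 4, 1, 4, 12, 5, 0, 5, 12, 4, 1, 4, 13, 5, 0, 5, 13, 13], [4, 1, 4, 12, 5, 0, 5, 12, 4, 1, 4, 12, 5,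 0, 5, 13, 4, 1, 4, 13, 5, 0, 5, 4, 1, 4, 13, 5, 0, 5, 4, 1, 4, 12, 5, 0, 5, 12, 4, 1, 4, 13, 5, 0, 5, 13], [12, 4, 1, 4, 12, 5, 0, 5, 13, 4, 1, 4, 13, 5, 0, 5, 4, 1, 4, 12, 5, 0, 5, 4, 1, 4, 12, 5, 0, 5, 12, 4, 1, 4, 13, 5, 0, 5, 13, 4, 1, 4, 13, 5, 0, 5], [4, 12, 5, 13, 3, 3, 7, 4, 1, 4, 12, 5, 0, 5, 12, 4, 1, 4, 13, 5, 0, 5, 13, 4, 1, 4, 12, 5, 0, 5, 12, 4, 1, 4, 13, 5, 0, 5, 13, 4, 1, 4, 13, 5, 0, 5], [4, 1, 4, 12, 5, 0, 5, 12, 4, 1, 4, 12, 5, 0, 5, 13, 4, 1, 4, 13, 5, 0, 5, 12, 4, 1, 4, 12, 5, 0, 5, 13, 4, 1, 4, 13, 5, 0, 5, 6, 2, 2, 12, 4, 13, 5]]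
def dD : Data := ⟨7, dF, dP, dRels, [0, 2, 4, 6, 8, 10]⟩
def dJ0 : List (List ℕ) := [[1, 0], [1, 0], [1, 0], [1, 0], [1, 0], [1, 0], [0, 0], [0, 0], [233, 2, 12, 14], [235, 3, 16, 0, 17], [237, 3, 16, 2, 17], [239, 3, 16, 6, 17], [241, 3, 16, 10, 17], [242, 0, 14, 24, 15], [240, 0, 14, 22, 15], [238, 0, 14, 20, 15], [193, 4, 30, 26, 31, 27], [0, 0], [0, 0], [0, 0], [0, 0], [0, 0], [0, 0], [0, 0], [0, 0], [0, 0], [0, 0], [0, 0], [0, 0], [0, 0], [0, 0], [0, 0], [0, 0], [0, 0], [0, 0], [0, 0], [0, 0], [0, 0], [0, 0], [0, 0], [0, 0], [0, 0], [0, 0], [0, 0], [0, 0], [0, 0], [0, 0], [243, 32, 13, 12, 14, 34, 36, 38, 40, 42, 44, 46, 48, 50, 52, 54, 56, 58, 60, 62, 64, 66, 68, 70, 72, 74, 76, 78, 80, 82, 84, 86, 88, 90, 92], [109, 1, 94, 29, 95], [201, 1, 94, 31, 29, 95], [69, 3, 92, 98, 93], [185, 3, 100, 92, 96, 93], [201, 1, 90, 100, 102, 91], [238, 2, 88, 104, 89], [109, 1, 90, 102, 91], [240, 2, 88, 108, 89], [110, 0, 86, 110, 87], [202, 1, 86, 106, 87, 112], [185, 1, 84, 113, 115, 85], [109, 3, 82, 116, 83], [240, 0, 80,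 118, 81], [110, 2, 78, 120, 79], [70, 2, 84, 114, 85], [202, 1, 82, 124, 83, 119], [237, 3, 80, 126, 81], [201, 1, 78, 128, 121, 79], [69, 3, 76, 130, 77], [185, 3, 132, 76, 123, 77], [201, 1, 74, 132, 134, 75], [237, 3, 72, 136, 73], [109, 1, 74, 134, 75], [239, 3, 72, 140, 73], [110, 0, 70, 142, 71], [202, 1, 70, 138, 71, 144], [185, 1, 68, 145, 147, 69], [109, 3, 66, 148, 67], [239, 1, 64, 150, 65], [110, 2, 62, 152, 63], [70, 2, 68, 146, 69], [202, 1, 66, 156, 67, 151], [238, 2, 64, 158, 65], [201, 1, 62, 160, 153, 63], [69, 3, 60, 162, 61], [185, 3, 164, 60, 155, 61], [201, 1, 58, 164, 166, 59], [238, 2, 56, 168, 57], [109, 1, 58, 166, 59], [240, 2, 56, 172, 57], [110, 0, 54, 174, 55], [202, 1, 54, 170, 55, 176], [185, 1, 52, 177, 179, 53], [109, 3, 50, 180, 51], [239, 1, 48, 182, 49], [110, 2, 46, 184, 47], [70, 2, 52, 178, 53], [202, 1, 50, 188, 51, 183], [238, 2, 48, 190, 49], [201, 1, 46, 192, 185, 47], [69, 3, 44, 194, 45], [185, 3, 196, 44, 187, 45], [201, 1, 42, 196, 198, 43], [237, 3, 40, 200, 41], [109,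 1, 42, 198, 43], [239, 3, 40, 204, 41], [110, 0, 38, 206, 39], [202, 1, 38, 202, 39, 208], [185, 1, 36, 209, 211, 37], [70, 2, 36, 210, 37], [0, 0], [0, 0], [0, 0], [0, 0], [0, 0], [0, 0], [0, 0], [0, 0], [0, 0], [0, 0], [0, 0], [0, 0], [0, 0], [0, 0], [0, 0], [245, 19, 74, 76, 78, 79, 77, 75, 73, 71, 69, 67, 66, 68, 70, 72, 74, 76, 78, 80, 82, 84, 86, 88, 90, 92, 94, 13, 4, 1, 4, 12, 216, 218, 220, 222, 224, 226, 228, 230, 232, 234, 236, 238, 240, 242, 244], [234, 2, 246, 73], [237, 1, 246, 137, 247], [239, 1, 246, 141, 247], [109, 3, 244, 252, 245], [201, 3, 254, 244, 250, 245], [186, 3, 242, 257, 255, 243], [110, 0, 240, 258, 241], [240, 2, 238, 260, 239], [109, 1, 236, 262, 237], [69, 1, 242, 256, 243], [201, 3, 261, 240, 266, 241], [237, 1, 238, 268, 239], [202, 3, 236, 263, 270, 237], [70, 0, 234, 272, 235], [186, 1, 234, 265, 235, 274], [202, 3, 232, 276, 274, 233], [238, 0, 230, 278, 231], [110, 2, 232, 276, 233], [240, 0, 230, 282, 231], [109, 3, 228, 284, 229], [201, 3, 286, 228, 280, 229], [186, 3, 226, 289,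 287, 227], [110, 0, 224, 290, 225], [239, 3, 222, 292, 223], [109, 1, 220, 294, 221], [69, 1, 226, 288, 227], [201, 3, 293, 224, 298, 225], [238, 0, 222, 300, 223], [202, 3, 220, 295, 302, 221], [38, 1, 94, 216], [0, 0], [0, 0], [0, 0], [0, 0], [0, 0], [0, 0], [0, 0], [0, 0], [0, 0], [0, 0], [0, 0], [0, 0], [0, 0], [0, 0], [0, 0], [247, 18, 87, 85, 83, 81, 79, 77, 75, 247, 245, 243, 241, 239, 237, 235, 233, 231, 229, 227, 225, 223, 221, 219, 217, 13, 5, 0, 5, 4, 12, 216, 308, 310, 312, 314, 316, 318, 320, 322, 324, 326, 328, 330, 332, 334, 336], [234, 2, 338, 88], [237, 1, 338, 106, 339], [239, 1, 338, 110, 339], [109, 3, 336, 344, 337], [201, 3, 346, 336, 342, 337], [186, 3, 334, 349, 347, 335], [110, 0, 332, 350, 333], [239, 3, 330, 352, 331], [109, 1, 328, 354, 329], [69, 1, 334, 348, 335], [201, 3, 353, 332, 358, 333], [238, 0, 330, 360, 331], [202, 3, 328, 355, 362, 329], [70, 0, 326, 364, 327], [186, 1, 326, 357, 327, 366], [202, 3, 324, 368, 366, 325], [238, 0, 322, 370, 323], [110, 2, 324, 368, 325], [240, 0,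 322, 374, 323], [109, 3, 320, 376, 321], [201, 3, 378, 320, 372, 321], [186, 3, 318, 381, 379, 319], [110, 1, 316, 382, 317, 315], [7, 0, 317, 385], [9, 0, 314, 385], [102, 3, 310, 312, 388, 313, 311], [69, 1, 318, 380, 319], [201, 3, 312, 389, 386, 392, 387], [6, 0, 312, 394, 311], [7, 0, 387, 394, 397]]
def dJ1 : List (List ℕ) := [[5, 0, 310, 397], [0, 0], [157, 1, 403, 27, 402], [217, 1, 403, 32, 27, 402], [0, 0], [53, 1, 402, 408], [157, 1, 409, 405, 408], [217, 1, 409, 407, 405, 408], [0, 0], [117, 2, 403, 95, 416], [225, 2, 418, 403, 26, 95], [210, 2, 403, 29, 95, 416], [0, 0], [119, 3, 409, 403, 95, 416, 424], [118, 2, 426, 410, 95], [209, 0, 429, 97, 428, 426], [225, 2, 426, 409, 404, 419], [226, 2, 426, 413, 410, 95], [0, 0], [121, 3, 418, 403, 95, 307, 436], [38, 2, 438, 418], [110, 2, 438, 422, 419], [112, 1, 441, 423, 442, 438, 422], [226, 2, 438, 432, 429, 307], [0, 0], [123, 4, 426, 409, 403, 95, 307, 436, 448], [38, 2, 450, 426], [109, 1, 450, 431, 427], [110, 2, 450, 454, 453], [118, 2, 450, 429, 307],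 [225, 2, 450, 425, 421, 307], [226, 2, 450, 435, 416, 439], [217, 2, 219, 460, 459, 218], [118, 0, 221, 464, 220], [209, 3, 464, 220, 295, 466, 294], [7, 0, 220, 468], [15, 0, 223, 468], [0, 0], [0, 0], [0, 0], [0, 0], [0, 0], [0, 0], [0, 0], [0, 0], [243, 17, 63, 61, 59, 57, 55, 53, 51, 49, 47, 45, 43, 41, 39, 37, 35, 15, 14, 16, 4, 1, 4, 12, 216, 218, 471, 474, 476, 478, 480, 482, 484, 486, 488], [234, 2, 490, 64], [237, 1, 490, 160, 491], [239, 1, 490, 153, 491], [110, 2, 488, 496, 489], [202, 3, 488, 496, 494, 489], [70, 0, 486, 500, 487], [186, 1, 486, 498, 487, 502], [202, 3, 484, 504, 502, 485], [237, 1, 482, 506, 483], [110, 2, 484, 504, 485], [239, 1, 482, 510, 483], [109, 3, 480, 512, 481], [201, 3, 514, 480, 508, 481], [186, 3, 478, 517, 515, 479], [110, 0, 476, 518, 477], [69, 1, 478, 516, 479], [201, 3, 521, 476, 522, 477], [234, 1, 473, 474], [235, 3, 309, 218, 474], [0, 0], [0, 0], [0, 0], [0, 0], [0, 0], [0, 0], [0, 0], [0, 0], [0, 0], [0, 0], [0, 0], [0, 0], [245, 19, 55, 53, 51, 50, 52, 54, 56, 58, 60,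 62, 63, 61, 59, 57, 55, 53, 51, 49, 47, 45, 43, 41, 39, 37, 35, 15, 95, 93, 91, 89, 87, 85, 83, 530, 532, 534, 536, 538, 540, 542, 544, 546, 548, 550, 552], [234, 2, 554, 56], [237, 1, 554, 170, 555], [239, 1, 554, 174, 555], [243, 17, 308, 398, 318, 320, 322, 324, 326, 328, 330, 332, 334, 336, 338, 87, 85, 83, 81, 80, 530, 532, 534, 536, 538, 540, 542, 544, 546, 548, 550, 552, 554, 55, 53, 51], [3, 0, 219, 563], [8, 0, 216, 563, 50], [8, 0, 307, 563], [11, 0, 437, 563], [12, 0, 459, 563], [13, 0, 447, 563], [14, 0, 461, 563], [16, 0, 309, 563], [3, 0, 53, 566, 32], [8, 0, 50, 566], [8, 0, 55, 581, 95], [4, 0, 92, 584], [7, 0, 568, 584], [8, 0, 95, 584], [11, 0, 417, 584], [12, 0, 429, 584], [13, 0, 435, 584], [14, 0, 421, 584], [234, 1, 48, 578], [236, 0, 527, 528, 600], [109, 3, 552, 560, 553], [201, 3, 604, 552, 558, 553], [186, 3, 550, 607, 605, 551], [110, 0, 548, 608, 549], [240, 2, 546, 610, 547], [109, 1, 544, 612, 545], [69, 1, 550, 606, 551], [201, 3, 611, 548, 616, 549], [237, 1, 546, 618, 547], [202, 3, 544,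 613, 620, 545], [70, 0, 542, 622, 543], [186, 1, 542, 615, 543, 624], [202, 3, 540, 626, 624, 541], [238, 0, 538, 628, 539], [110, 2, 540, 626, 541], [240, 0, 538, 632, 539], [109, 3, 536, 634, 537], [201, 3, 636, 536, 630, 537], [186, 3, 534, 639, 637, 535], [110, 0, 532, 640, 533], [69, 1, 534, 638, 535], [201, 3, 643, 532, 644, 533], [233, 1, 80, 530], [0, 0], [0, 0], [0, 0], [0, 0], [0, 0], [0, 0], [0, 0], [0, 0], [0, 0], [0, 0], [0, 0], [0, 0], [0, 0], [0, 0], [0, 0], [247, 18, 42, 44, 46, 48, 583, 32, 591, 555, 553, 551, 549, 547, 545, 543, 541, 539, 537, 535, 533, 531, 82, 84, 86, 88, 90, 587, 590, 591, 555, 553, 650, 652, 654, 656, 658, 660, 662, 664, 666, 668, 670, 672, 674, 676, 678], [234, 2, 680, 41], [243, 9, 674, 676, 678, 680, 42, 44, 46, 48, 583, 32, 591, 555, 553, 551, 549, 547, 545, 543, 541, 539, 537, 535, 533, 531, 530, 648, 79, 77, 75, 247, 245, 243, 241], [234, 2, 238, 684, 673], [8, 0, 670, 686, 237], [15, 0, 673, 686], [3, 0, 668, 689, 235], [8, 0, 666, 693, 233], [15, 0, 664, 695, 231], [7, 0,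 662, 697, 229], [4, 0, 660, 699, 227], [7, 0, 658, 701, 225], [10, 0, 656, 703, 292], [6, 0, 654, 705, 301], [6, 0, 652, 707, 301], [16, 0, 650, 709, 527], [3, 0, 550, 711], [8, 0, 553, 711, 476], [15, 0, 556, 715], [16, 0, 555, 715], [237, 3, 685, 269, 684], [239, 3, 685, 260, 684], [109, 1, 675, 722, 674], [201, 1, 675, 720, 722, 674], [69, 3, 677, 726, 676], [185, 3, 728, 677, 724, 676], [21, 1, 529, 712], [0, 0], [37, 1, 34, 734], [109, 1, 735, 213, 734], [201, 1, 735, 214, 213, 734], [0, 0], [157, 1, 743, 24, 742], [217, 1, 743, 18, 24, 742], [0, 0], [53, 1, 742, 748], [157, 1, 749, 745, 748], [217, 1, 749, 747, 745, 748], [0, 0], [117, 2, 743, 34, 756], [225, 2, 758, 743, 25, 34], [210, 2, 743, 22, 34, 756], [0, 0], [119, 3, 749, 743, 34, 756, 764], [118, 2, 766, 750, 34], [209, 0, 769, 213, 768, 766], [225, 2, 766, 749, 744, 759], [226, 2, 766, 753, 750, 34], [0, 0], [121, 3, 758, 743, 34, 734, 776], [38, 2, 778, 758], [110, 2, 778, 762, 759], [112, 1, 781, 763, 782, 778, 762], [226, 2, 778, 772, 769, 734], [0,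 0], [123, 4, 766, 749, 743, 34, 734, 776, 788], [38, 2, 790, 766], [109, 1, 790, 771, 767], [110, 2, 790, 794, 793], [118, 2, 790, 769, 734]]
def dJ2 : List (List ℕ) := [[225, 2, 790, 765, 761, 734], [226, 2, 790, 775, 756, 779], [0, 0], [0, 0], [0, 0], [0, 0], [245, 19, 481, 479, 477, 476, 478, 480, 482, 484, 486, 488, 489, 487, 485, 483, 481, 479, 477, 475, 470, 565, 583, 13, 5, 0, 5, 17, 34, 36, 38, 40, 42, 44, 46, 601, 398, 318, 320, 322, 324, 326, 328, 804, 806, 808, 810], [234, 2, 812, 482], [244, 24, 806, 808, 810, 812, 481, 479, 477, 526, 473, 472, 224, 226, 228, 230, 232, 234, 236, 238, 240, 242, 244, 246, 74, 76, 78, 80, 82, 84, 86, 339, 337, 335, 333], [247, 1, 533, 531, 127, 127, 118, 82, 84, 86, 339, 337, 335, 333, 816, 806, 808, 810, 812, 481, 479, 477, 526, 224, 226, 228, 230, 232, 234, 236, 690, 674, 676, 678, 680, 42, 44, 46, 48, 583, 32, 591, 56, 58, 60, 62, 63], [236, 3, 60, 818, 534], [237, 1, 817, 360, 816], [239, 1, 817, 353, 816], [248, 44, 225, 224, 226, 228, 230, 232, 234, 236, 690, 674, 676,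 678, 683, 39, 37, 35, 15, 591, 586, 91, 340, 337, 335, 333, 816, 806, 808, 810, 815, 484, 486, 488, 490, 63, 61, 59, 717, 477, 712, 549, 610, 619, 619, 547, 545], [235, 0, 542, 826, 226], [0, 0], [0, 0], [0, 0], [0, 0], [0, 0], [0, 0], [0, 0], [0, 0], [0, 0], [0, 0], [0, 0], [0, 0], [0, 0], [0, 0], [0, 0], [247, 16, 736, 15, 582, 564, 471, 474, 476, 478, 480, 813, 811, 809, 807, 805, 329, 327, 325, 323, 321, 319, 399, 600, 47, 45, 43, 41, 39, 37, 35, 34, 830, 832, 834, 836, 838, 840, 842, 844, 846, 848, 850, 852, 854, 856, 858], [185, 1, 860, 739, 741, 861], [217, 2, 860, 800, 799, 861], [243, 9, 858, 860, 736, 15, 582, 564, 471, 474, 476, 478, 480, 813, 811, 809, 807, 805, 329, 327, 325, 323, 321, 319, 399, 600, 601, 579, 583, 32, 591, 719, 477, 712, 549], [243, 25, 856, 858, 860, 736, 15, 582, 564, 471, 474, 475, 472, 224, 226, 228, 230, 232, 234, 236, 238, 240, 242, 244, 246, 74, 76, 78, 649, 532, 534, 536, 538, 540, 542, 544], [8, 0, 854, 869, 545], [15, 0, 857, 869], [3, 0, 852, 871, 543], [8, 0, 850, 875, 541],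 [15, 0, 848, 877, 539], [7, 0, 846, 879, 537], [4, 0, 844, 881, 535], [7, 0, 842, 883, 533], [10, 0, 840, 885, 642], [6, 0, 838, 887, 647], [6, 0, 836, 889, 647], [16, 0, 834, 891, 648], [8, 0, 832, 893, 79], [16, 0, 830, 895], [247, 1, 236, 238, 268, 268, 261, 240, 242, 244, 249, 71, 69, 67, 65, 63, 61, 59, 717, 477, 712, 549, 866, 858, 860, 736, 16, 5, 0, 5, 12, 591, 586, 91, 340, 337, 335, 333, 331, 329, 327, 325, 323, 321, 319, 399, 398], [247, 1, 399, 600, 192, 192, 185, 47, 45, 43, 681, 679, 677, 675, 685, 240, 242, 244, 246, 74, 76, 78, 649, 532, 534, 536, 538, 540, 542, 544, 872, 858, 860, 736, 15, 582, 564, 471, 474, 476, 478, 480, 482, 484, 486, 488, 489], [248, 44, 533, 532, 534, 536, 538, 540, 542, 544, 872, 858, 860, 736, 16, 5, 0, 5, 17, 34, 36, 38, 682, 679, 677, 675, 685, 240, 242, 244, 249, 71, 69, 67, 492, 489, 487, 485, 814, 811, 809, 807, 824, 822, 822, 805, 329], [248, 44, 67, 66, 68, 70, 72, 74, 76, 78, 80, 82, 84, 86, 339, 337, 335, 333, 331, 329, 327, 325, 323, 321, 319, 399, 579, 583, 32, 591,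 719, 477, 712, 549, 866, 858, 860, 736, 15, 582, 564, 471, 296, 305, 305, 472, 224], [234, 1, 826, 904], [235, 0, 227, 904, 68], [233, 2, 908, 828], [234, 2, 902, 819], [235, 0, 326, 902, 534], [233, 1, 821, 914], [233, 2, 900, 898], [236, 3, 486, 900, 318], [236, 3, 234, 918, 487], [235, 0, 76, 896, 36], [239, 1, 873, 612, 872], [209, 1, 865, 863, 864, 859, 926], [4, 0, 861, 929], [8, 0, 858, 929], [11, 0, 928, 864, 929], [0, 0], [21, 1, 37, 936], [69, 1, 937, 214, 936], [219, 3, 939, 937, 760, 772, 769, 936, 938], [209, 4, 39, 208, 943, 209, 942], [8, 0, 38, 945], [16, 0, 41, 945, 924], [16, 0, 683, 945], [3, 0, 77, 948], [7, 0, 74, 948], [16, 0, 924, 948], [37, 1, 43, 954], [0, 0], [77, 2, 775, 936, 960], [218, 2, 962, 765, 761, 936], [194, 2, 775, 214, 936, 960], [0, 0], [79, 3, 772, 775, 936, 960, 968], [78, 2, 970, 761, 936], [193, 0, 973, 941, 972, 970], [217, 2, 970, 772, 769, 936], [218, 2, 970, 757, 774, 963], [0, 0], [81, 3, 962, 775, 936, 938, 980], [22, 2, 982, 962], [70, 2, 982, 966, 963], [72, 1, 985, 967,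 986, 982, 966], [217, 2, 982, 961, 964, 983], [201, 2, 989, 771, 767, 988], [0, 0], [83, 4, 970, 772, 775, 936, 938, 980, 994], [22, 2, 996, 970], [69, 1, 996, 975, 971], [70, 2, 996, 1000, 999], [78, 2, 996, 973, 938], [217, 2, 996, 969, 978, 997], [225, 3, 1006, 1005, 947, 1004], [0, 0], [233, 2, 897, 1010], [0, 0], [235, 2, 937, 897, 1014], [236, 2, 1016, 938, 957], [0, 0], [241, 2, 775, 897, 1020], [0, 0], [0, 0], [0, 0], [0, 0], [0, 0], [0, 0], [0, 0], [0, 0], [0, 0], [0, 0], [0, 0], [0, 0], [0, 0], [0, 0], [0, 0], [0, 0], [0, 0], [0, 0], [0, 0], [0, 0], [0, 0], [0, 0], [0, 0], [0, 0], [0, 0], [0, 0], [0, 0], [0, 0], [0, 0], [0, 0], [243, 32, 896, 897, 1010, 1024, 1026, 1028, 1030, 1032, 1034, 1036, 1038, 1040, 1042, 1044, 1046, 1048, 1050, 1052, 1054, 1056, 1058, 1060, 1062, 1064, 1066, 1068, 1070, 1072, 1074, 1076, 1078, 1080, 1082], [38, 2, 1084, 78], [109, 1, 1084, 122, 1085], [201, 1, 1084, 131, 122, 1085], [69, 3, 1082, 1090, 1083], [185, 3, 1092, 1082, 1088, 1083], [201, 1, 1080, 1092, 1094, 1081], [238, 2,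 1078, 1096, 1079], [109, 1, 1080, 1094, 1081], [240, 2, 1078, 1100, 1079], [110, 0, 1076, 1102, 1077], [202, 1, 1076, 1098, 1077, 1104], [185, 1, 1074, 1105, 1107, 1075], [109, 3, 1072, 1108, 1073], [240, 0, 1070, 1110, 1071], [110, 2, 1068, 1112, 1069], [70, 2, 1074, 1106, 1075], [202, 1, 1072, 1116, 1073, 1111], [237, 3, 1070, 1118, 1071], [201, 1, 1068, 1120, 1113, 1069], [69, 3, 1066, 1122, 1067], [185, 3, 1124, 1066, 1115, 1067], [201, 1, 1064, 1124, 1126, 1065], [237, 3, 1062, 1128, 1063], [109, 1, 1064, 1126, 1065], [239, 3, 1062, 1132, 1063], [110, 0, 1060, 1134, 1061], [202, 1, 1060, 1130, 1061, 1136], [185, 1, 1058, 1137, 1139, 1059], [109, 3, 1056, 1140, 1057], [239, 1, 1054, 1142, 1055], [110, 2, 1052, 1144, 1053], [70, 2, 1058, 1138, 1059], [202, 1, 1056, 1148, 1057, 1143], [238, 2, 1054, 1150, 1055], [201, 1, 1052, 1152, 1145, 1053], [69, 3, 1050, 1154, 1051], [185, 3, 1156, 1050, 1147, 1051], [201, 1, 1048, 1156, 1158, 1049], [238, 2, 1046, 1160, 1047], [109, 1, 1048, 1158, 1049], [240, 2, 1046, 1164, 1047],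 [110, 0, 1044, 1166, 1045], [202, 1, 1044, 1162, 1045, 1168], [185, 1, 1042, 1169, 1171, 1043], [109, 3, 1040, 1172, 1041], [239, 1, 1038, 1174, 1039], [110, 2, 1036, 1176, 1037], [70, 2, 1042, 1170, 1043], [202, 1, 1040, 1180, 1041, 1175], [238, 2, 1038, 1182, 1039], [201, 1, 1036, 1184, 1177, 1037], [69, 3, 1034, 1186, 1035], [185, 3, 1188, 1034, 1179, 1035], [201, 1, 1032, 1188, 1190, 1033], [237, 3, 1030, 1192, 1031], [109, 1, 1032, 1190, 1033], [239, 3, 1030, 1196, 1031]]
def dJ3 : List (List ℕ) := [[110, 0, 1028, 1198, 1029], [202, 1, 1028, 1194, 1029, 1200], [0, 0], [0, 0], [0, 0], [0, 0], [0, 0], [0, 0], [0, 0], [0, 0], [0, 0], [0, 0], [0, 0], [0, 0], [0, 0], [0, 0], [0, 0], [0, 0], [0, 0], [0, 0], [245, 19, 1064, 1066, 1068, 1069, 1067, 1065, 1063, 1061, 1059, 1057, 1056, 1058, 1060, 1062, 1064, 1066, 1068, 1070, 1072, 1074, 1076, 1078, 1080, 1082, 1084, 896, 734, 1204, 1206, 1208, 1210, 1212, 1214, 1216, 1218, 1220, 1222, 1224, 1226, 1228, 1230, 1232, 1234, 1236, 1238], [234, 2, 1240, 1063], [237, 1, 1240, 1129,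 1241], [239, 1, 1240, 1133, 1241], [109, 3, 1238, 1246, 1239], [201, 3, 1248, 1238, 1244, 1239], [186, 3, 1236, 1251, 1249, 1237], [110, 0, 1234, 1252, 1235], [240, 2, 1232, 1254, 1233], [109, 1, 1230, 1256, 1231], [69, 1, 1236, 1250, 1237], [201, 3, 1255, 1234, 1260, 1235], [237, 1, 1232, 1262, 1233], [202, 3, 1230, 1257, 1264, 1231], [70, 0, 1228, 1266, 1229], [186, 1, 1228, 1259, 1229, 1268], [202, 3, 1226, 1270, 1268, 1227], [238, 0, 1224, 1272, 1225], [110, 2, 1226, 1270, 1227], [240, 0, 1224, 1276, 1225], [109, 3, 1222, 1278, 1223], [201, 3, 1280, 1222, 1274, 1223], [186, 3, 1220, 1283, 1281, 1221], [110, 0, 1218, 1284, 1219], [239, 3, 1216, 1286, 1217], [69, 1, 1220, 1282, 1221], [201, 3, 1287, 1218, 1290, 1219], [238, 0, 1216, 1292, 1217], [22, 1, 930, 1204], [0, 0], [0, 0], [0, 0], [0, 0], [0, 0], [0, 0], [0, 0], [0, 0], [0, 0], [0, 0], [0, 0], [0, 0], [0, 0], [0, 0], [0, 0], [0, 0], [0, 0], [247, 18, 1077, 1075, 1073, 1071, 1069, 1067, 1065, 1241, 1239, 1237, 1235, 1233, 1231, 1229, 1227, 1225, 1223, 1221, 1219,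 1217, 1215, 1213, 1211, 1209, 1207, 1205, 735, 734, 1298, 1300, 1302, 1304, 1306, 1308, 1310, 1312, 1314, 1316, 1318, 1320, 1322, 1324, 1326, 1328, 1330], [234, 2, 1332, 1078], [237, 1, 1332, 1098, 1333], [239, 1, 1332, 1102, 1333], [109, 3, 1330, 1338, 1331], [201, 3, 1340, 1330, 1336, 1331], [186, 3, 1328, 1343, 1341, 1329], [110, 0, 1326, 1344, 1327], [239, 3, 1324, 1346, 1325], [109, 1, 1322, 1348, 1323], [69, 1, 1328, 1342, 1329], [201, 3, 1347, 1326, 1352, 1327], [238, 0, 1324, 1354, 1325], [202, 3, 1322, 1349, 1356, 1323], [70, 0, 1320, 1358, 1321], [186, 1, 1320, 1351, 1321, 1360], [202, 3, 1318, 1362, 1360, 1319], [238, 0, 1316, 1364, 1317], [110, 2, 1318, 1362, 1319], [240, 0, 1316, 1368, 1317], [109, 3, 1314, 1370, 1315], [201, 3, 1372, 1314, 1366, 1315], [186, 3, 1312, 1375, 1373, 1313], [110, 1, 1310, 1376, 1311, 1309], [7, 0, 1311, 1379], [9, 0, 1308, 1379], [69, 1, 1312, 1374, 1313], [201, 3, 1306, 1383, 1380, 1384, 1381], [6, 0, 1306, 1386, 1305], [7, 0, 1381, 1386, 1389], [235, 1, 866, 930, 1298], [0,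 0], [241, 2, 981, 957, 1394], [236, 2, 1396, 985, 1023], [237, 1, 1396, 989, 1023], [0, 0], [0, 0], [0, 0], [0, 0], [0, 0], [0, 0], [0, 0], [0, 0], [0, 0], [0, 0], [0, 0], [0, 0], [0, 0], [0, 0], [0, 0], [0, 0], [0, 0], [0, 0], [0, 0], [0, 0], [0, 0], [0, 0], [0, 0], [0, 0], [0, 0], [0, 0], [0, 0], [0, 0], [0, 0], [243, 31, 955, 956, 957, 681, 1402, 1404, 1406, 1408, 1410, 1412, 1414, 1416, 1418, 1420, 1422, 1424, 1426, 1428, 1430, 1432, 1434, 1436, 1438, 1440, 1442, 1444, 1446, 1448, 1450, 1452, 1454, 1456, 1458], [69, 3, 1460, 136, 1461], [185, 3, 1462, 1460, 140, 1461], [109, 1, 1458, 1464, 1459], [201, 1, 1458, 1462, 1464, 1459], [238, 2, 1456, 1468, 1457], [240, 2, 1456, 1466, 1457], [110, 0, 1454, 1472, 1455], [202, 1, 1454, 1470, 1455, 1474], [185, 1, 1452, 1475, 1477, 1453], [109, 3, 1450, 1478, 1451], [240, 0, 1448, 1480, 1449], [110, 2, 1446, 1482, 1447], [70, 2, 1452, 1476, 1453], [202, 1, 1450, 1486, 1451, 1481], [237, 3, 1448, 1488, 1449], [201, 1, 1446, 1490, 1483, 1447], [69, 3, 1444, 1492, 1445], [185,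 3, 1494, 1444, 1485, 1445], [201, 1, 1442, 1494, 1496, 1443], [237, 3, 1440, 1498, 1441], [109, 1, 1442, 1496, 1443], [239, 3, 1440, 1502, 1441], [110, 0, 1438, 1504, 1439], [202, 1, 1438, 1500, 1439, 1506], [185, 1, 1436, 1507, 1509, 1437], [109, 3, 1434, 1510, 1435], [239, 1, 1432, 1512, 1433], [110, 2, 1430, 1514, 1431], [70, 2, 1436, 1508, 1437], [202, 1, 1434, 1518, 1435, 1513], [238, 2, 1432, 1520, 1433], [201, 1, 1430, 1522, 1515, 1431], [69, 3, 1428, 1524, 1429], [185, 3, 1526, 1428, 1517, 1429], [201, 1, 1426, 1526, 1528, 1427], [238, 2, 1424, 1530, 1425], [109, 1, 1426, 1528, 1427], [240, 2, 1424, 1534, 1425], [110, 0, 1422, 1536, 1423], [202, 1, 1422, 1532, 1423, 1538], [185, 1, 1420, 1539, 1541, 1421], [109, 3, 1418, 1542, 1419], [239, 1, 1416, 1544, 1417], [110, 2, 1414, 1546, 1415], [70, 2, 1420, 1540, 1421], [202, 1, 1418, 1550, 1419, 1545], [238, 2, 1416, 1552, 1417], [201, 1, 1414, 1554, 1547, 1415], [37, 1, 678, 1402], [0, 0], [0, 0], [0, 0], [0, 0], [0, 0], [0, 0], [0, 0], [0, 0], [0, 0], [0, 0], [0,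 0], [0, 0], [0, 0], [0, 0], [0, 0], [0, 0], [0, 0], [245, 19, 1442, 1444, 1446, 1447, 1445, 1443, 1441, 1439, 1437, 1435, 1434, 1436, 1438, 1440, 1442, 1444, 1446, 1448, 1450, 1452, 1454, 1456, 1458, 1460, 955, 956, 947, 939, 1560, 1562, 1564, 1566, 1568, 1570, 1572, 1574, 1576, 1578, 1580, 1582, 1584, 1586, 1588, 1590, 1592], [237, 1, 1594, 1499, 1595], [239, 1, 1594, 1503, 1595]]
def dJ4 : List (List ℕ) := [[109, 3, 1592, 1598, 1593], [201, 3, 1600, 1592, 1596, 1593], [186, 3, 1590, 1603, 1601, 1591], [110, 0, 1588, 1604, 1589], [240, 2, 1586, 1606, 1587], [109, 1, 1584, 1608, 1585], [69, 1, 1590, 1602, 1591], [201, 3, 1607, 1588, 1612, 1589], [237, 1, 1586, 1614, 1587], [202, 3, 1584, 1609, 1616, 1585], [70, 0, 1582, 1618, 1583], [186, 1, 1582, 1611, 1583, 1620], [202, 3, 1580, 1622, 1620, 1581], [238, 0, 1578, 1624, 1579], [110, 2, 1580, 1622, 1581], [240, 0, 1578, 1628, 1579], [109, 3, 1576, 1630, 1577], [201, 3, 1632, 1576, 1626, 1577], [186, 3, 1574, 1635, 1633, 1575], [110, 0, 1572, 1636, 1573], [69, 1, 1574,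 1634, 1575], [201, 3, 1639, 1572, 1640, 1573], [0, 0], [0, 0], [0, 0], [0, 0], [0, 0], [0, 0], [0, 0], [0, 0], [0, 0], [0, 0], [0, 0], [0, 0], [0, 0], [0, 0], [0, 0], [247, 18, 1455, 1453, 1451, 1449, 1447, 1445, 1443, 1595, 1593, 1591, 1589, 1587, 1585, 1583, 1581, 1579, 1577, 1575, 1573, 1571, 1569, 1567, 1565, 1563, 1561, 938, 946, 947, 957, 42, 1644, 1646, 1648, 1650, 1652, 1654, 1656, 1658, 1660, 1662, 1664, 1666, 1668, 1670, 1672], [234, 2, 1674, 1456], [237, 1, 1674, 1470, 1675], [239, 1, 1674, 1472, 1675], [109, 3, 1672, 1680, 1673], [201, 3, 1682, 1672, 1678, 1673], [186, 3, 1670, 1685, 1683, 1671], [110, 0, 1668, 1686, 1669], [239, 3, 1666, 1688, 1667], [109, 1, 1664, 1690, 1665], [69, 1, 1670, 1684, 1671], [201, 3, 1689, 1668, 1694, 1669], [238, 0, 1666, 1696, 1667], [202, 3, 1664, 1691, 1698, 1665], [70, 0, 1662, 1700, 1663], [186, 1, 1662, 1693, 1663, 1702], [202, 3, 1660, 1704, 1702, 1661], [238, 0, 1658, 1706, 1659], [110, 2, 1660, 1704, 1661], [240, 0, 1658, 1710, 1659], [109, 3, 1656, 1712, 1657], [201,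 3, 1714, 1656, 1708, 1657], [186, 3, 1654, 1717, 1715, 1655], [110, 1, 1652, 1718, 1653, 1651], [7, 0, 1653, 1721], [9, 0, 1650, 1721], [69, 1, 1654, 1716, 1655], [201, 3, 1648, 1725, 1722, 1726, 1723], [6, 0, 1648, 1728, 1647], [7, 0, 1723, 1728, 1731], [0, 0], [0, 0], [53, 1, 1734, 1736], [0, 0], [61, 1, 1394, 1740], [241, 2, 995, 1397, 1740], [0, 0], [79, 3, 1741, 1395, 952, 1020, 1746], [78, 2, 1748, 1742, 952], [193, 0, 1751, 131, 1750, 1748], [236, 1, 1748, 1744, 999], [0, 0], [81, 3, 1398, 1395, 952, 1014, 1756], [22, 2, 1758, 1398], [70, 2, 1758, 1400, 1399], [72, 1, 1761, 1401, 1762, 1758, 1400], [236, 1, 1758, 1022, 963], [0, 0], [83, 4, 1748, 1741, 1395, 952, 1014, 1756, 1768], [22, 2, 1770, 1748], [69, 1, 1770, 1753, 1749], [70, 2, 1770, 1774, 1773], [78, 2, 1770, 1751, 1014], [236, 1, 1770, 1755, 971], [0, 0], [117, 2, 1735, 954, 1782], [210, 2, 1735, 205, 954, 1782], [0, 0], [119, 3, 1737, 1735, 954, 1782, 1788], [118, 2, 1790, 1738, 954], [209, 0, 1793, 141, 1792, 1790], [0, 0], [121, 3, 1784, 1735, 954,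 958, 1796], [38, 2, 1798, 1784], [110, 2, 1798, 1786, 1785], [112, 1, 1801, 1787, 1802, 1798, 1786], [0, 0], [123, 4, 1790, 1737, 1735, 954, 958, 1796, 1806], [38, 2, 1808, 1790], [109, 1, 1808, 1795, 1791], [110, 2, 1808, 1812, 1811], [118, 2, 1808, 1793, 958], [0, 0], [157, 2, 1395, 1734, 1818], [0, 0], [159, 3, 1741, 1395, 1734, 1818, 1822], [158, 2, 1824, 1742, 1734], [0, 0], [161, 3, 1820, 1395, 1734, 1736, 1828], [54, 2, 1830, 1820], [0, 0], [163, 4, 1824, 1741, 1395, 1734, 1736, 1828, 1834], [54, 2, 1836, 1824], [158, 2, 1836, 1827, 1736], [0, 0], [217, 2, 1398, 1395, 1734, 1842], [0, 0], [219, 3, 1770, 1748, 1741, 1395, 1734, 1842, 1846], [218, 3, 1848, 1779, 1019, 1734], [0, 0], [0, 0], [221, 4, 1748, 1741, 1395, 1734, 1736, 1852, 1854], [54, 1, 1854, 1856], [157, 1, 1856, 1747, 1845], [217, 1, 1856, 1748, 1741, 1821], [0, 0], [0, 0], [223, 5, 1758, 1398, 1395, 1734, 1736, 1852, 1864, 1866], [54, 1, 1866, 1868], [158, 2, 1868, 1768, 1849], [218, 3, 1868, 1768, 1773, 1825], [222, 5, 1866, 1868, 1768, 1779, 1019,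 1734, 1736], [0, 0], [225, 2, 1784, 1735, 1394, 1878], [0, 0], [227, 3, 1808, 1790, 1737, 1735, 1394, 1878, 1882], [226, 3, 1884, 1817, 43, 1394], [0, 0], [0, 0], [229, 4, 1790, 1737, 1735, 1394, 1740, 1888, 1890], [62, 1, 1890, 1892], [158, 1, 1892, 1789, 1881], [225, 1, 1892, 1790, 1737, 1818], [0, 0], [0, 0], [231, 5, 1798, 1784, 1735, 1394, 1740, 1888, 1900, 1902], [62, 1, 1902, 1904], [157, 2, 1904, 1806, 1885], [226, 3, 1904, 1806, 1811, 1828], [230, 5, 1902, 1904, 1806, 1817, 43, 1394, 1740], [0, 0], [241, 2, 1395, 681, 1914], [234, 2, 1916, 1396], [0, 0], [0, 0], [0, 0], [0, 0], [0, 0], [0, 0], [0, 0], [0, 0], [243, 17, 1431, 1429, 1427, 1425, 1423, 1421, 1419, 1417, 1415, 1413, 1411, 1409, 1407, 1405, 1403, 680, 681, 951, 947, 939, 1560, 1562, 1564, 1566, 1568, 1920, 1922, 1924, 1926, 1928, 1930, 1932, 1934], [234, 1, 1571, 1920], [0, 0], [0, 0], [0, 0], [0, 0], [0, 0], [0, 0], [0, 0], [0, 0], [0, 0], [0, 0], [0, 0], [0, 0], [245, 19, 1423, 1421, 1419, 1418, 1420, 1422, 1424, 1426, 1428, 1430, 1431, 1429, 1427,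 1425, 1423, 1421, 1419, 1417, 1415, 1413, 1411, 1409, 1407, 1405, 1403, 680, 954, 1461, 1459, 1457, 1455, 1453, 1451, 1940, 1942, 1944, 1946, 1948, 1950, 1952, 1954, 1956, 1958, 1960, 1962], [234, 2, 1964, 1424], [237, 1, 1964, 1532, 1965], [239, 1, 1964, 1536, 1965], [243, 17, 1644, 1732, 1654, 1656, 1658, 1660, 1662, 1664, 1666, 1668, 1670, 1672, 1674, 1455, 1453, 1451, 1449, 1448, 1940, 1942, 1944, 1946, 1948, 1950, 1952, 1954, 1956, 1958, 1960, 1962, 1964, 1423, 1421, 1419], [8, 0, 1419, 1972, 43], [15, 0, 1416, 1972], [3, 0, 1421, 1975, 1018], [7, 0, 1423, 1979], [233, 1, 1645, 1976], [109, 3, 1962, 1970, 1963], [201, 3, 1984, 1962, 1968, 1963], [186, 3, 1960, 1987, 1985, 1961], [110, 0, 1958, 1988, 1959], [69, 1, 1960, 1986, 1961], [201, 3, 1991, 1958, 1992, 1959], [233, 1, 1448, 1940], [0, 0]]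
def dJ5 : List (List ℕ) := [[0, 0], [0, 0], [0, 0], [0, 0], [0, 0], [0, 0], [0, 0], [0, 0], [0, 0], [0, 0], [0, 0], [0, 0], [0, 0], [0, 0], [247, 18, 1410, 1412, 1414, 1977, 43, 1018, 1980, 1965, 1963, 1961, 1959, 1957, 1955, 1953, 1951, 1949, 1947, 1945, 1943, 1941, 1450, 1452, 1454, 1456, 1458, 1460, 955, 954, 247, 245, 1998, 2000, 2002, 2004, 2006, 2008, 2010, 2012, 2014, 2016, 2018, 2020, 2022, 2024, 2026], [234, 2, 2028, 1409], [243, 9, 2022, 2024, 2026, 2028, 1410, 1412, 1414, 1977, 43, 1018, 1980, 1965, 1963, 1961, 1959, 1957, 1955, 1953, 1951, 1949, 1947, 1945, 1943, 1941, 1940, 1996, 1447, 1445, 1443, 1595, 1593, 1591, 1589], [234, 2, 1586, 2032, 2021], [8, 0, 2018, 2034, 1585], [15, 0, 2021, 2034], [3, 0, 2016, 2037, 1583], [8, 0, 2014, 2041, 1581], [15, 0, 2012, 2043, 1579], [7, 0, 2010, 2045, 1577], [4, 0, 2008, 2047, 1575], [7, 0, 2006, 2049, 1573], [10, 0, 2004, 2051, 1638], [6, 0, 2002, 2053, 1643], [6, 0, 2000, 2055, 1643], [16, 0, 1998, 2057, 1939], [8, 0, 1923, 2058, 244], [15, 0, 1920, 2058], [16, 0,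 1939, 2058], [4, 0, 1925, 2061], [236, 3, 1460, 247, 2066], [0, 0], [21, 1, 44, 2070], [0, 0], [157, 2, 1884, 1817, 2074], [158, 1, 1904, 1797, 2074], [225, 1, 1819, 1800, 1797, 2074], [226, 3, 1892, 1793, 958, 2074], [0, 0], [61, 1, 2074, 2084], [158, 1, 1902, 2079, 2084], [225, 1, 1835, 1910, 2079, 2084], [0, 0], [77, 2, 2075, 44, 2092], [194, 2, 2075, 196, 44, 2092], [0, 0], [79, 3, 2085, 2075, 44, 2092, 2098], [78, 2, 2100, 2086, 44], [193, 0, 2103, 195, 2102, 2100], [0, 0], [81, 3, 2094, 2075, 44, 2070, 2106], [22, 2, 2108, 2094], [70, 2, 2108, 2096, 2095], [72, 1, 2111, 2097, 2112, 2108, 2096], [0, 0], [83, 4, 2100, 2085, 2075, 44, 2070, 2106, 2116], [22, 2, 2118, 2100], [69, 1, 2118, 2105, 2101], [70, 2, 2118, 2122, 2121], [78, 2, 2118, 2103, 2070], [0, 0], [163, 4, 2089, 2085, 2075, 1796, 1806, 1885, 2128], [54, 2, 2130, 2089], [117, 2, 2130, 1913, 1825], [158, 2, 2130, 1907, 1806], [0, 0], [217, 2, 2094, 2075, 1796, 2138], [0, 0], [219, 3, 2118, 2100, 2085, 2075, 1796, 2138, 2142], [218, 3, 2144, 2127, 2072,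 1796], [0, 0], [0, 0], [221, 4, 2100, 2085, 2075, 1796, 1806, 2148, 2150], [54, 1, 2150, 2152], [157, 1, 2152, 2099, 2141], [217, 1, 2152, 2100, 2085, 2078], [0, 0], [0, 0], [223, 5, 2108, 2094, 2075, 1796, 1806, 2148, 2160, 2162], [54, 1, 2162, 2164], [158, 2, 2164, 2116, 2145], [218, 3, 2164, 2116, 2121, 2088], [222, 5, 2162, 2164, 2116, 2127, 2072, 1796, 1806], [0, 0], [231, 4, 1880, 1784, 1800, 1797, 2074, 2084, 2090, 2174], [62, 2, 2176, 1880], [157, 2, 2176, 1896, 1891], [226, 3, 2176, 1896, 2083, 2084], [0, 0], [235, 2, 45, 1976, 2184], [0, 0], [241, 2, 2075, 1976, 2188], [0, 0], [0, 0], [0, 0], [0, 0], [243, 13, 1927, 2067, 245, 2064, 1572, 1574, 1576, 1578, 1580, 1582, 1584, 2038, 2022, 2024, 2026, 2028, 1410, 1412, 1414, 1977, 1976, 1982, 1732, 1654, 1656, 1658, 1660, 1662, 1664, 2192, 2194, 2196, 2198], [234, 2, 2200, 1928], [244, 24, 2194, 2196, 2198, 2200, 1927, 2067, 245, 2064, 1571, 1570, 1572, 1574, 1576, 1578, 1580, 1582, 1584, 1586, 1588, 1590, 1592, 1594, 1442, 1444, 1446, 1448, 1450, 1452, 1454, 1675,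 1673, 1671, 1669], [247, 1, 1943, 1941, 1489, 1489, 1480, 1450, 1452, 1454, 1675, 1673, 1671, 1669, 2204, 2194, 2196, 2198, 2200, 1927, 2067, 245, 2064, 1572, 1574, 1576, 1578, 1580, 1582, 1584, 2038, 2022, 2024, 2026, 2028, 1410, 1412, 1414, 1977, 43, 1018, 1980, 1424, 1426, 1428, 1430, 1431], [236, 3, 1428, 2206, 1944], [248, 44, 1573, 1572, 1574, 1576, 1578, 1580, 1582, 1584, 2038, 2022, 2024, 2026, 2031, 1407, 1405, 1403, 680, 954, 1461, 1459, 1676, 1673, 1671, 1669, 2204, 2194, 2196, 2198, 2203, 1930, 1932, 1934, 1936, 1431, 1429, 1427, 1966, 1963, 1961, 1959, 1990, 1995, 1995, 1957, 1955], [235, 0, 1952, 2210, 1574], [0, 0], [0, 0], [0, 0], [0, 0], [0, 0], [0, 0], [0, 0], [0, 0], [245, 19, 1580, 1582, 1584, 1585, 1583, 1581, 1579, 1577, 1575, 1573, 1572, 1574, 1576, 1578, 1580, 1582, 1584, 2038, 2022, 2024, 2026, 2028, 1410, 1412, 1414, 1977, 43, 1018, 1980, 1965, 1963, 1961, 1959, 1957, 1955, 1953, 1951, 2214, 2216, 2218, 2220, 2222, 2224, 2226, 2228], [234, 2, 2230, 1579], [246, 34, 2216, 2218, 2220, 2222, 2224,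 2226, 2228, 2230, 1580, 1582, 1584, 2038, 2022, 2024, 2026, 2031, 1407, 1405, 1403, 680, 954, 1461, 1459, 1676, 1673, 1671, 1669, 1668, 1670, 1672, 1677, 1458, 1460, 955, 954, 1461, 1459, 1457, 1455, 1453, 1451, 1940, 1942, 1944, 1946], [247, 1, 1934, 1936, 1522, 1522, 1515, 1431, 1429, 1427, 1425, 1981, 1019, 42, 1976, 1415, 1413, 1411, 1409, 1407, 1405, 1403, 680, 954, 1461, 1459, 1457, 1455, 1453, 1451, 1940, 1942, 1944, 1946, 2234, 2216, 2218, 2220, 2222, 2224, 2226, 2228, 2230, 1580, 1582, 1584, 1585], [248, 44, 680, 42, 43, 1018, 1980, 1965, 1963, 1961, 1959, 1957, 1955, 1953, 1951, 2214, 2216, 2218, 2220, 2222, 2224, 2226, 2228, 2230, 1580, 1582, 1584, 2038, 2022, 2024, 2026, 2031, 1407, 1405, 1403, 680, 954, 1461, 1459, 1676, 1673, 1671, 1669, 1688, 1697, 1697, 2204, 2194], [4, 0, 2197, 2238], [7, 0, 2194, 2238, 679], [15, 0, 2192, 2243], [16, 0, 2204, 2243], [248, 44, 1451, 1450, 1452, 1454, 1675, 1673, 1671, 1669, 2247, 678, 2240, 2198, 2203, 1930, 1932, 1934, 1936, 1431, 1429, 1427, 1966, 1963, 1961, 1959,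 1957, 1955, 1953, 1951, 2214, 2216, 2218, 2220, 2222, 2224, 2226, 2228, 2230, 1580, 1582, 1584, 1609, 1616, 1616, 2038, 2022], [235, 0, 2025, 2248, 1452], [248, 44, 2225, 2224, 2226, 2228, 2233, 1577, 1575, 1573, 2065, 244, 2066, 1926, 2201, 2199, 2241, 679, 2246, 1668, 1670, 1672, 1674, 1455, 1453, 1451, 1940, 1942, 1944, 1946, 1948, 1950, 1952, 1954, 1956, 1958, 1960, 1962, 1964, 1981, 1019, 42, 199, 197, 197, 1976, 1415], [235, 0, 1412, 2252, 2226], [237, 3, 2253, 1556, 2252], [239, 3, 2253, 1549, 2252], [110, 0, 2224, 2258, 2225], [202, 1, 2224, 2256, 2225, 2260], [248, 44, 1669, 1668, 1670, 1672, 1677, 1458, 1460, 955, 681, 1402, 1404, 1406, 1408, 1410, 1412, 1414, 1977, 43, 1018, 1980, 1424, 1426, 1428, 1430, 1937, 1935, 1933, 1931, 1929, 1927, 2067, 245, 2064, 1572, 1574, 1576, 2232, 2229, 2227, 2225, 2260, 2262, 2262, 2223, 2221], [235, 0, 2218, 2264, 1670], [247, 1, 1568, 2063, 256, 256, 254, 244, 2066, 1926, 2201, 2199, 2241, 679, 2244, 1665, 1663, 1661, 1659, 1657, 1655, 1733, 1983, 1415, 1413, 1411, 2029,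 2027, 2025, 2023, 2033, 1588, 1590, 1592, 1594, 1442, 1444, 1446, 1997, 1942, 1944, 1946, 2234, 2216, 2218, 2220, 2221], [236, 3, 1582, 2236, 1933], [247, 1, 1403, 680, 201, 201, 205, 954, 1461, 1459, 1457, 1455, 1453, 1451, 1940, 1942, 1944, 1946, 2234, 2216, 2218, 2220, 2222, 2224, 2226, 2228, 2233, 1577, 1575, 1573, 2065, 244, 2066, 1926, 1928, 1930, 1932, 1934, 1936, 1431, 1429, 1427, 1966, 1963, 1961, 1959, 1958], [236, 3, 1961, 2272, 1404], [0, 0], [37, 1, 47, 2276], [109, 1, 2277, 186, 2276], [0, 0], [157, 1, 2140, 2093, 2282], [158, 2, 2152, 2103, 2282], [217, 1, 2164, 2108, 2093, 2282], [218, 3, 2089, 2086, 44, 2282], [0, 0], [53, 1, 2282, 2292], [158, 2, 2150, 2287, 2292], [218, 3, 1908, 1903, 2291, 2292], [0, 0], [117, 2, 2283, 2276, 2300], [210, 2, 2283, 186, 2276, 2300], [0, 0], [119, 3, 2293, 2283, 2276, 2300, 2306], [118, 2, 2308, 2294, 2276], [209, 0, 2311, 2281, 2310, 2308], [0, 0], [121, 3, 2302, 2283, 2276, 2278, 2314], [38, 2, 2316, 2302], [110, 2, 2316, 2304, 2303], [112, 1, 2319, 2305, 2320, 2316,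 2304], [0, 0], [123, 4, 2308, 2293, 2283, 2276, 2278, 2314, 2324], [38, 2, 2326, 2308], [109, 1, 2326, 2313, 2309], [110, 2, 2326, 2330, 2329], [118, 2, 2326, 2311, 2278], [0, 0], [161, 3, 2140, 2093, 2282, 2292, 2336], [54, 2, 2338, 2140], [158, 2, 2338, 2156, 2151], [217, 1, 2338, 2139, 1906, 2131], [0, 0], [221, 3, 2144, 2118, 2099, 2093, 2282, 2292, 2346], [54, 2, 2348, 2144], [157, 1, 2348, 2168, 2163], [222, 5, 2348, 2144, 2127, 2106, 2111, 2078, 1909], [0, 0], [225, 2, 2302, 2283, 2092, 2356], [0, 0], [227, 3, 2326, 2308, 2293, 2283, 2092, 2356, 2360], [226, 3, 2362, 2335, 47, 2092], [0, 0], [0, 0], [229, 4, 2308, 2293, 2283, 2092, 2098, 2366, 2368], [62, 1, 2368, 2370], [158, 1, 2370, 2307, 2359], [225, 1, 2370, 2308, 2293, 2284], [0, 0], [0, 0], [231, 5, 2316, 2302, 2283, 2092, 2098, 2366, 2378, 2380], [62, 1, 2380, 2382], [226, 3, 2382, 2324, 2329, 2336], [230, 5, 2380, 2382, 2324, 2335, 47, 2092, 2098], [0, 0], [235, 2, 2071, 2187, 2390], [0, 0], [241, 2, 2093, 2187, 2394], [235, 1, 2396, 2094, 2191]]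
def dJ6 : List (List ℕ) := [[238, 2, 2396, 2096, 2191], [0, 0], [21, 1, 602, 2402], [236, 1, 713, 526, 2402], [0, 0], [157, 2, 2362, 2335, 2408], [158, 1, 2382, 2315, 2408], [225, 1, 2285, 2318, 2315, 2408], [226, 3, 2370, 2311, 2278, 2408], [241, 2, 575, 49, 2408], [0, 0], [61, 1, 2408, 2420], [158, 1, 2380, 2413, 2420], [225, 1, 2342, 2386, 2413, 2420], [241, 2, 463, 2419, 2420], [0, 0], [77, 2, 2409, 602, 2430], [0, 0], [79, 3, 2421, 2409, 602, 2430, 2434], [78, 2, 2436, 2422, 602], [0, 0], [81, 3, 2432, 2409, 602, 2402, 2440], [0, 0], [83, 4, 2436, 2421, 2409, 602, 2402, 2440, 2444], [78, 2, 2446, 2439, 2402], [0, 0], [163, 4, 2425, 2421, 2409, 2314, 2324, 2363, 2450], [54, 2, 2452, 2425], [117, 2, 2452, 2389, 2153], [158, 2, 2452, 2385, 2324], [0, 0], [217, 2, 2432, 2409, 2314, 2460], [0, 0], [219, 3, 2446, 2436, 2421, 2409, 2314, 2460, 2464], [218, 3, 2466, 2449, 2404, 2314], [0, 0], [0, 0], [221, 4, 2436, 2421, 2409, 2314, 2324, 2470, 2472], [54, 1, 2472, 2474], [0, 0], [0, 0], [223, 5, 2442, 2432, 2409, 2314,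 2324, 2470, 2478, 2480], [54, 1, 2480, 2482], [222, 5, 2480, 2482, 2444, 2449, 2404, 2314, 2324], [0, 0], [231, 4, 2358, 2302, 2318, 2315, 2408, 2420, 2426, 2488], [62, 2, 2490, 2358], [157, 2, 2490, 2374, 2369], [226, 3, 2490, 2374, 2417, 2420], [0, 0], [241, 2, 2409, 601, 2498], [234, 2, 2500, 2418], [0, 0], [0, 0], [0, 0], [0, 0], [0, 0], [0, 0], [0, 0], [0, 0], [0, 0], [0, 0], [0, 0], [0, 0], [0, 0], [0, 0], [0, 0], [0, 0], [247, 18, 324, 326, 328, 804, 806, 808, 810, 815, 484, 486, 488, 493, 66, 68, 70, 248, 245, 243, 241, 684, 674, 676, 678, 680, 42, 44, 46, 47, 2187, 2504, 2506, 2508, 2510, 2512, 2514, 2516, 2518, 2520, 2522, 2524, 2526, 2528, 2530, 2532, 2534], [234, 2, 2536, 323], [243, 21, 2520, 2522, 2524, 2526, 2528, 2530, 2532, 2534, 2536, 324, 326, 328, 804, 805, 330, 332, 334, 336, 341, 90, 587, 590, 13, 4, 1, 4, 17, 737, 931, 932, 873, 545, 543, 541], [7, 0, 2518, 2541, 540], [4, 0, 2516, 2543, 542], [7, 0, 2514, 2545, 544], [10, 0, 2512, 2547, 613], [6, 0, 2510, 2549, 620], [6, 0, 2508, 2551, 620], [16,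 0, 2506, 2553, 872], [8, 0, 2504, 2555, 933], [4, 0, 2391, 2557, 1297], [3, 0, 2184, 2557, 930], [13, 0, 2395, 2557], [15, 0, 2187, 2557, 873], [16, 0, 2393, 2559], [8, 0, 1414, 2561, 736], [14, 0, 2189, 2561, 786], [16, 0, 1983, 2561, 1298], [16, 0, 1976, 2561], [8, 0, 544, 2564, 2276], [15, 0, 873, 2564], [16, 0, 547, 2564], [3, 0, 1412, 2569, 18], [15, 0, 2253, 2569, 15], [3, 0, 2399, 2571], [6, 0, 2401, 2571], [16, 0, 2191, 2571], [7, 0, 1733, 2573], [15, 0, 1644, 2573], [7, 0, 2279, 2576], [8, 0, 2276, 2576], [11, 0, 2301, 2576], [12, 0, 2311, 2576], [8, 0, 1410, 2583, 34], [15, 0, 2254, 2583, 15], [7, 0, 2224, 2585, 582], [16, 0, 2028, 2605, 897], [15, 0, 1408, 2605, 1013], [8, 0, 2229, 2607, 591], [16, 0, 2222, 2609, 49], [7, 0, 2026, 2611, 78], [8, 0, 1406, 2613], [16, 0, 2232, 2615, 719], [15, 0, 2231, 2615, 56], [8, 0, 2220, 2617, 47], [3, 0, 2024, 2619], [15, 0, 2250, 2619, 649], [7, 0, 1576, 2623, 477], [7, 0, 1581, 2625, 58], [3, 0, 2218, 2627, 45], [16, 0, 2269, 2627, 2578], [15, 0, 2265, 2627, 2580], [8,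 0, 1455, 2631, 532], [4, 0, 1574, 2633, 712], [16, 0, 2213, 2633, 475], [4, 0, 1583, 2635, 60], [16, 0, 2270, 2635, 821], [8, 0, 2216, 2637, 43], [15, 0, 2266, 2637, 2595], [7, 0, 1569, 2639, 932], [8, 0, 1668, 2641], [16, 0, 1674, 2643, 903], [15, 0, 1457, 2643, 819], [15, 0, 2210, 2645], [3, 0, 1953, 2647], [8, 0, 1950, 2647, 470], [7, 0, 1585, 2649, 62], [16, 0, 2237, 2649, 818], [8, 0, 1930, 2651, 536], [16, 0, 2234, 2653, 681], [15, 0, 2668, 2214, 2653, 956], [8, 0, 2660, 1673, 2655, 2592], [15, 0, 2062, 2657, 2579], [7, 0, 1459, 2663, 62], [16, 0, 2039, 2671, 491], [7, 0, 1935, 2673, 533], [16, 0, 1928, 2675, 538], [7, 0, 1946, 2677, 679], [4, 0, 2667, 2679, 37], [3, 0, 564, 2679, 939], [16, 0, 473, 2679, 957], [15, 0, 475, 2679, 950], [3, 0, 1655, 2680, 327], [7, 0, 2592, 2680, 328], [4, 0, 242, 2683, 2070], [8, 0, 245, 2683, 2599], [3, 0, 1461, 2685], [16, 0, 2068, 2685, 491], [8, 0, 2023, 2687, 489], [15, 0, 1937, 2689, 531], [7, 0, 2712, 1926, 2691, 540], [4, 0, 1944, 2693, 677], [15, 0, 2209, 2693, 2246], [15,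 0, 2664, 2695, 1013], [3, 0, 939, 2696], [4, 0, 936, 2696], [12, 0, 965, 2696, 570], [11, 0, 977, 2696, 572], [16, 0, 1016, 2696, 49], [4, 0, 2403, 2699, 952], [14, 0, 2431, 2699, 1394], [13, 0, 2439, 2699, 1743], [8, 0, 1403, 2700, 476], [8, 0, 678, 2700], [13, 0, 1915, 2700], [15, 0, 950, 2700], [16, 0, 681, 2700], [8, 0, 1657, 2703, 325], [3, 0, 1393, 2705], [8, 0, 1301, 2705], [16, 0, 2595, 2705, 330], [15, 0, 1298, 2705, 804], [3, 0, 2073, 2706], [4, 0, 2070, 2706], [13, 0, 2107, 2706], [14, 0, 2127, 2706], [15, 0, 2566, 2706], [7, 0, 2597, 2708], [8, 0, 2599, 2708], [11, 0, 2601, 2708], [12, 0, 2603, 2708], [16, 0, 906, 2708, 249], [3, 0, 2066, 2713], [3, 0, 2628, 2715, 487], [8, 0, 1430, 2717, 82], [8, 0, 540, 2718, 489], [16, 0, 911, 2718, 493], [16, 0, 2786, 2206, 2721], [8, 0, 2658, 2722, 1427], [15, 0, 2246, 2722], [16, 0, 1666, 2722]]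
def dJ7 : List (List ℕ) := [[7, 0, 1025, 2724], [7, 0, 2621, 2724, 549], [3, 0, 982, 2731], [4, 0, 963, 2731], [5, 0, 967, 2731], [6, 0, 987, 2731], [16, 0, 1767, 2731, 2419], [3, 0, 996, 2733], [4, 0, 971, 2733], [5, 0, 1001, 2733], [6, 0, 974, 2733], [16, 0, 1781, 2733, 2429], [3, 0, 1018, 2735], [8, 0, 1981, 2735, 47], [3, 0, 2405, 2737], [14, 0, 2441, 2737, 1020], [13, 0, 2449, 2737, 1750], [15, 0, 2407, 2737], [12, 0, 2462, 2739, 1821], [11, 0, 2477, 2741, 1838], [3, 0, 2802, 1405, 2743, 478], [7, 0, 1559, 2743], [15, 0, 2272, 2743, 718], [16, 0, 1659, 2753, 2537], [16, 0, 330, 2758], [15, 0, 804, 2760], [15, 0, 73, 2780], [16, 0, 249, 2780], [3, 0, 487, 2784], [8, 0, 484, 2784, 79], [16, 0, 920, 2784, 80], [15, 0, 923, 2784, 649], [3, 0, 1428, 2787, 84], [15, 0, 538, 2789, 919], [3, 0, 68, 2791], [8, 0, 2840, 2795, 1426, 2865, 86], [2, 0, 2870, 2840, 2795], [16, 0, 2826, 1424, 2872, 339], [15, 0, 1967, 2872, 88], [2, 0, 2870, 2840, 2802], [15, 0, 2275, 2878, 88], [7, 0, 2415, 2812], [8, 0, 2417, 2812], [12, 0, 2413,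 2812, 1869], [11, 0, 2411, 2812, 1870], [14, 0, 2408, 2812], [15, 0, 2500, 2812], [16, 0, 2419, 2812], [7, 0, 2427, 2822], [8, 0, 2497, 2822], [12, 0, 2425, 2822, 1849], [12, 0, 2455, 2822], [13, 0, 2423, 2822], [16, 0, 2429, 2822], [16, 0, 2876, 1964, 2827, 2578], [12, 0, 2482, 2831, 1845], [12, 0, 2485, 2831], [12, 0, 2466, 2833, 1857], [4, 0, 2460, 2837], [3, 0, 2479, 2839], [4, 0, 2470, 2839], [4, 0, 2754, 2841, 2871], [7, 0, 549, 2841, 2871], [3, 0, 2880, 1961, 2845, 586], [15, 0, 2538, 2846], [16, 0, 2537, 2846], [16, 0, 482, 2859, 2834], [15, 0, 815, 2859, 896], [3, 0, 318, 2861], [8, 0, 321, 2861, 82], [8, 0, 533, 2862, 233], [16, 0, 530, 2862], [15, 0, 2797, 2865], [16, 0, 2799, 2865], [7, 0, 536, 2867, 236], [3, 0, 478, 2871], [16, 0, 339, 2874], [7, 0, 2386, 2887], [14, 0, 2383, 2887], [7, 0, 2364, 2889], [8, 0, 2360, 2889], [13, 0, 2451, 2889], [14, 0, 2363, 2889], [7, 0, 2388, 2901], [8, 0, 2378, 2901], [11, 0, 2452, 2901], [13, 0, 2384, 2901], [3, 0, 1296, 2908], [4, 0, 931, 2908], [11, 0, 2909, 935, 2908],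 [13, 0, 2563, 2908], [16, 0, 2578, 2908], [11, 0, 2480, 2911], [3, 0, 2468, 2915], [4, 0, 586, 2926, 2974], [7, 0, 90, 2926], [3, 0, 733, 2932], [4, 0, 712, 2932], [7, 0, 2801, 2932], [8, 0, 2924, 2932], [16, 0, 2834, 2932], [16, 0, 813, 2935], [16, 0, 323, 2939, 2793], [16, 0, 2928, 2939], [4, 0, 2948, 535, 2941], [15, 0, 902, 2941], [16, 0, 818, 2941], [16, 0, 915, 2949, 690], [15, 0, 821, 2949, 238], [3, 0, 1204, 2988], [4, 0, 2974, 2988], [8, 0, 1207, 2988, 588], [15, 0, 2770, 2988, 56], [4, 0, 677, 3004], [16, 0, 2793, 3004], [16, 0, 690, 3014], [15, 0, 238, 3016], [16, 0, 1209, 3023, 49], [3, 0, 2763, 3025], [4, 0, 2765, 3025], [13, 0, 2767, 3025], [14, 0, 2769, 3025], [7, 0, 1211, 3035, 2773], [3, 0, 1213, 3045], [241, 0, 599, 56, 3042], [240, 0, 3048, 442, 2502], [242, 3, 2116, 3048, 432], [235, 1, 3052, 2108, 2397], [236, 2, 3052, 2111, 2591], [237, 1, 3052, 2115, 2591], [238, 2, 3052, 2113, 2397], [98, 2, 3060, 454, 2818], [201, 2, 3060, 431, 427, 3061], [209, 3, 3064, 3063, 1007, 3062], [98, 3, 784, 3058, 431],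 [78, 1, 803, 3056, 433], [185, 4, 3070, 797, 755, 796], [235, 2, 2120, 3048, 3070], [98, 1, 796, 3072, 422], [248, 1, 1663, 1661, 3007, 83, 2936, 399, 579, 583, 32, 591, 719, 477, 2995, 2998, 88, 2990, 2976, 736, 15, 582, 2726, 946, 957, 954, 2711, 63, 3013, 232, 234, 236, 3033, 59, 3038, 2775, 246, 955, 952, 78, 120, 129, 129, 80, 82, 3006, 1660, 1661], [7, 0, 1665, 3079, 1660], [15, 0, 2946, 3081], [16, 0, 2244, 3081], [235, 3, 716, 3036, 2848], [38, 2, 2997, 2998, 87], [4, 0, 1027, 3089], [8, 0, 2996, 3089], [22, 1, 84, 3090], [157, 1, 1854, 1861, 2984], [218, 3, 2971, 2972, 2917, 1831], [235, 1, 1916, 1760, 2892], [238, 2, 1916, 1764, 2892], [98, 0, 2122, 3051, 3102], [38, 1, 328, 2756], [0, 0], [83, 4, 3071, 432, 597, 3018, 2977, 2980, 3108], [22, 2, 3110, 3071], [69, 1, 3110, 3072, 3070], [70, 2, 3110, 3114, 3113], [78, 2, 3110, 801, 2977], [185, 1, 3110, 795, 2809, 2804], [217, 2, 3110, 803, 788, 3111], [236, 1, 3110, 3074, 2101], [225, 3, 3122, 3119, 2990, 3118], [0, 0], [241, 2, 597, 719, 3128], [234, 2, 3130,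 3052], [240, 2, 3130, 454, 2907], [0, 0], [0, 0], [0, 0], [0, 0], [0, 0], [0, 0], [0, 0], [0, 0], [0, 0], [0, 0], [0, 0], [0, 0], [0, 0], [0, 0], [0, 0], [0, 0], [0, 0], [0, 0], [0, 0], [0, 0], [0, 0], [0, 0], [0, 0], [0, 0], [0, 0], [0, 0], [0, 0], [0, 0], [0, 0], [243, 31, 2843, 718, 719, 716, 3136, 3138, 3140, 3142, 3144, 3146, 3148, 3150, 3152, 3154, 3156, 3158, 3160, 3162, 3164, 3166, 3168, 3170, 3172, 3174, 3176, 3178, 3180, 3182, 3184, 3186, 3188, 3190, 3192], [21, 2, 3194, 3027], [69, 3, 3194, 729, 3195]]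
def dJ8 : List (List ℕ) := [[185, 3, 3198, 3194, 731, 3195], [235, 0, 3194, 2945, 3090], [109, 1, 3192, 3200, 3193], [201, 1, 3192, 3198, 3200, 3193], [238, 2, 3190, 3206, 3191], [240, 2, 3190, 3204, 3191], [110, 0, 3188, 3210, 3189], [202, 1, 3188, 3208, 3189, 3212], [185, 1, 3186, 3213, 3215, 3187], [109, 3, 3184, 3216, 3185], [240, 0, 3182, 3218, 3183], [110, 2, 3180, 3220, 3181], [70, 2, 3186, 3214, 3187], [202, 1, 3184, 3224, 3185, 3219], [237, 3, 3182, 3226, 3183], [201, 1, 3180, 3228, 3221, 3181], [69, 3, 3178, 3230, 3179], [185, 3, 3232, 3178, 3223, 3179], [201, 1, 3176, 3232, 3234, 3177], [237, 3, 3174, 3236, 3175], [109, 1, 3176, 3234, 3177], [239, 3, 3174, 3240, 3175], [110, 0, 3172, 3242, 3173], [202, 1, 3172, 3238, 3173, 3244], [185, 1, 3170, 3245, 3247, 3171], [109, 3, 3168, 3248, 3169], [239, 1, 3166, 3250, 3167], [110, 2, 3164, 3252, 3165], [70, 2, 3170, 3246, 3171], [202, 1, 3168, 3256, 3169, 3251], [238, 2, 3166, 3258, 3167], [201, 1, 3164, 3260, 3253, 3165], [69, 3, 3162, 3262, 3163], [185, 3, 3264,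 3162, 3255, 3163], [201, 1, 3160, 3264, 3266, 3161], [238, 2, 3158, 3268, 3159], [109, 1, 3160, 3266, 3161], [240, 2, 3158, 3272, 3159], [110, 0, 3156, 3274, 3157], [202, 1, 3156, 3270, 3157, 3276], [185, 1, 3154, 3277, 3279, 3155], [109, 3, 3152, 3280, 3153], [239, 1, 3150, 3282, 3151], [110, 2, 3148, 3284, 3149], [70, 2, 3154, 3278, 3155], [202, 1, 3152, 3288, 3153, 3283], [238, 2, 3150, 3290, 3151], [201, 1, 3148, 3292, 3285, 3149], [69, 3, 3146, 3294, 3147], [185, 3, 3296, 3146, 3287, 3147], [201, 1, 3144, 3296, 3298, 3145], [237, 3, 3142, 3300, 3143], [109, 1, 3144, 3298, 3145], [239, 3, 3142, 3304, 3143], [110, 0, 3140, 3306, 3141], [202, 1, 3140, 3302, 3141, 3308], [185, 1, 3138, 3309, 3311, 3139], [37, 1, 59, 3136], [0, 0], [0, 0], [0, 0], [0, 0], [0, 0], [0, 0], [0, 0], [0, 0], [0, 0], [0, 0], [0, 0], [0, 0], [0, 0], [0, 0], [245, 19, 3176, 3178, 3180, 3181, 3179, 3177, 3175, 3173, 3171, 3169, 3168, 3170, 3172, 3174, 3176, 3178, 3180, 3182, 3184, 3186, 3188, 3190, 3192, 3194, 2843, 718, 588, 2728, 734, 2850,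 2756, 3316, 3318, 3320, 3322, 3324, 3326, 3328, 3330, 3332, 3334, 3336, 3338, 3340, 3342], [234, 2, 3344, 3175], [237, 1, 3344, 3237, 3345], [239, 1, 3344, 3241, 3345], [109, 3, 3342, 3350, 3343], [201, 3, 3352, 3342, 3348, 3343], [186, 3, 3340, 3355, 3353, 3341], [110, 0, 3338, 3356, 3339], [240, 2, 3336, 3358, 3337], [109, 1, 3334, 3360, 3335], [69, 1, 3340, 3354, 3341], [201, 3, 3359, 3338, 3364, 3339], [237, 1, 3336, 3366, 3337], [202, 3, 3334, 3361, 3368, 3335], [70, 0, 3332, 3370, 3333], [186, 1, 3332, 3363, 3333, 3372], [202, 3, 3330, 3374, 3372, 3331], [238, 0, 3328, 3376, 3329], [110, 2, 3330, 3374, 3331], [240, 0, 3328, 3380, 3329], [109, 3, 3326, 3382, 3327], [201, 3, 3384, 3326, 3378, 3327], [186, 3, 3324, 3387, 3385, 3325], [110, 0, 3322, 3388, 3323], [239, 3, 3320, 3390, 3321], [69, 1, 3324, 3386, 3325], [201, 3, 3391, 3322, 3394, 3323], [238, 0, 3320, 3396, 3321], [0, 0], [0, 0], [0, 0], [0, 0], [0, 0], [0, 0], [0, 0], [0, 0], [247, 18, 3189, 3187, 3185, 3183, 3181, 3179, 3177, 3345, 3343, 3341, 3339, 3337,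 3335, 3333, 3331, 3329, 3327, 3325, 3323, 3321, 3319, 3317, 2757, 2851, 735, 2729, 589, 588, 49, 2773, 246, 137, 137, 141, 958, 3037, 3136, 3400, 3402, 3404, 3406, 3408, 3410, 3412, 3414], [234, 2, 3416, 3190], [0, 0], [157, 1, 2164, 3041, 3420], [158, 2, 2144, 3043, 3420], [217, 1, 2079, 2110, 3041, 3420], [218, 3, 2152, 2103, 3039, 3420], [0, 0], [53, 1, 3420, 3430], [157, 1, 2162, 3423, 3430], [158, 2, 2348, 3425, 3430], [217, 1, 2130, 2170, 3423, 3430], [218, 3, 2338, 2156, 3429, 3430], [0, 0], [117, 2, 3421, 3136, 3442], [210, 2, 3421, 173, 3136, 3442], [0, 0], [119, 3, 3431, 3421, 3136, 3442, 3448], [118, 2, 3450, 3432, 3136], [209, 0, 3453, 3313, 3452, 3450], [0, 0], [121, 3, 3444, 3421, 3136, 3314, 3456], [38, 2, 3458, 3444], [0, 0], [123, 4, 3450, 3431, 3421, 3136, 3314, 3456, 3462], [38, 2, 3464, 3450], [118, 2, 3464, 3453, 3314], [0, 0], [225, 2, 3444, 3421, 3040, 3470], [0, 0], [227, 3, 3464, 3450, 3431, 3421, 3040, 3470, 3474], [226, 3, 3476, 3469, 59, 3040], [0, 0], [0, 0], [229, 4, 3450, 3431, 3421, 3040,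 2116, 3480, 3482], [158, 1, 3484, 3449, 3473], [225, 1, 3484, 3450, 3431, 3422], [0, 0], [0, 0], [231, 5, 3458, 3444, 3421, 3040, 2116, 3480, 3490, 3492], [62, 1, 3492, 3494], [226, 3, 3494, 3462, 3467, 3434], [230, 5, 3492, 3494, 3462, 3469, 59, 3040, 2116], [0, 0], [0, 0], [0, 0], [0, 0], [0, 0], [0, 0], [0, 0], [0, 0], [243, 25, 3319, 3317, 2757, 2851, 735, 2729, 589, 56, 57, 719, 2842, 3195, 3193, 3191, 3189, 3187, 3185, 3183, 3181, 3179, 3177, 3175, 3173, 3171, 3169, 3502, 3504, 3506, 3508, 3510, 3512, 3514, 3516], [233, 2, 3518, 3320], [244, 16, 3504, 3506, 3508, 3510, 3512, 3514, 3516, 3518, 3319, 3317, 2757, 2851, 735, 2729, 589, 56, 717, 716, 3136, 3138, 3140, 3142, 3144, 3146, 3148, 3150, 3152, 3154, 3156, 3158, 3160, 3162, 3164], [0, 0], [0, 0], [0, 0], [0, 0], [0, 0], [0, 0], [0, 0], [0, 0], [0, 0], [0, 0], [0, 0], [0, 0], [245, 19, 3512, 3514, 3516, 3517, 3515, 3513, 3511, 3509, 3507, 3505, 3504, 3506, 3508, 3510, 3512, 3514, 3516, 3518, 3319, 3317, 2757, 2851, 735, 2729, 589, 56, 3136, 3138, 3140, 3142,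 3144, 3146, 3148, 3524, 3526, 3528, 3530, 3532, 3534, 3536, 3538, 3540, 3542, 3544, 3546], [234, 2, 3548, 3511], [244, 24, 3542, 3544, 3546, 3548, 3512, 3514, 3516, 3521, 3321, 3320, 3322, 3324, 3326, 3328, 3330, 3332, 3334, 3336, 3338, 3340, 3342, 3344, 3176, 3178, 3180, 3182, 3184, 3186, 3188, 3417, 3415, 3413, 3411], [233, 2, 3408, 3552, 3541], [8, 0, 3538, 3554, 3407], [16, 0, 3541, 3554], [3, 0, 3536, 3557, 3405], [8, 0, 3534, 3561, 3403], [15, 0, 3532, 3563, 3401], [7, 0, 3530, 3565, 3137], [4, 0, 3528, 3567, 3036], [7, 0, 3526, 3569, 959], [15, 0, 3524, 3571, 2853], [7, 0, 3148, 3573], [15, 0, 3151, 3573, 2854], [8, 0, 3153, 3577, 2772], [3, 0, 3155, 3579, 2829], [8, 0, 3157, 3581, 1085], [16, 0, 3159, 3583], [37, 1, 66, 3574], [0, 0], [0, 0], [0, 0], [0, 0], [0, 0], [0, 0]]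
def dJ9 : List (List ℕ) := [[0, 0], [0, 0], [0, 0], [0, 0], [0, 0], [0, 0], [0, 0], [247, 16, 958, 2848, 2756, 3316, 3318, 3519, 3517, 3515, 3513, 3549, 3547, 3545, 3543, 3559, 3407, 3405, 3403, 3401, 3137, 3036, 959, 2853, 3574, 3147, 3145, 3143, 3141, 3139, 3137, 3136, 3400, 3402, 3588, 3590, 3592, 3594, 3596, 3598, 3600, 3602, 3604, 3606, 3608, 3610, 3612], [22, 2, 3614, 2711], [243, 17, 3596, 3598, 3600, 3602, 3604, 3606, 3608, 3610, 3612, 3614, 958, 2848, 2756, 3316, 3318, 3519, 3518, 3320, 3322, 3324, 3326, 3328, 3330, 3332, 3334, 3336, 3338, 3340, 3342, 3344, 3176, 3178, 3180], [244, 16, 3596, 3598, 3600, 3602, 3604, 3606, 3608, 3610, 3612, 3614, 958, 2848, 2756, 3316, 3318, 3519, 3521, 3520, 3517, 3515, 3513, 3549, 3547, 3545, 3543, 3553, 3410, 3412, 3414, 3416, 3189, 3187, 3185], [237, 1, 3621, 3227, 3620], [239, 2, 3621, 3218, 3620, 3595], [6, 0, 3624, 3623, 3625, 3593], [7, 0, 3597, 3625, 3627], [15, 0, 3618, 3625, 3627], [16, 0, 3620, 3625, 3627], [6, 0, 3592, 3627, 3591], [7, 0, 3629, 3635], [16, 0, 3631,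 3635, 3589], [16, 0, 3633, 3635], [3, 0, 3405, 3638], [8, 0, 3402, 3638, 3181], [16, 0, 3400, 3645], [235, 0, 3178, 3646, 3138], [0, 0], [158, 1, 3494, 3457, 3650], [225, 1, 3423, 3460, 3457, 3650], [226, 3, 3484, 3453, 3314, 3650], [0, 0], [61, 1, 3650, 3658], [225, 1, 2353, 3498, 3653, 3658], [0, 0], [77, 2, 3651, 60, 3664], [0, 0], [79, 3, 3659, 3651, 60, 3664, 3668], [78, 2, 3670, 3660, 60], [0, 0], [217, 2, 3666, 3651, 3456, 3674], [0, 0], [0, 0], [221, 4, 3670, 3659, 3651, 3456, 3462, 3678, 3680], [157, 1, 3682, 3669, 3677], [0, 0], [231, 4, 3472, 3444, 3460, 3457, 3650, 3658, 3662, 3686], [226, 3, 3688, 3486, 3657, 3658], [0, 0], [37, 1, 63, 3692], [0, 0], [157, 1, 3676, 3665, 3696], [0, 0], [53, 1, 3696, 3700], [0, 0], [117, 2, 3697, 3692, 3704], [0, 0], [119, 3, 3701, 3697, 3692, 3704, 3708], [118, 2, 3710, 3702, 3692], [0, 0], [121, 3, 3706, 3697, 3692, 3694, 3714], [38, 2, 3716, 3706], [0, 0], [123, 4, 3710, 3701, 3697, 3692, 3694, 3714, 3720], [38, 2, 3722, 3710], [118, 2, 3722, 3713, 3694], [0, 0], [161,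 3, 3676, 3665, 3696, 3700, 3728], [158, 2, 3730, 3684, 3681], [0, 0], [225, 2, 3706, 3697, 3664, 3734], [0, 0], [227, 3, 3722, 3710, 3701, 3697, 3664, 3734, 3738], [217, 3, 3740, 3727, 2710, 1792], [226, 3, 3740, 3727, 63, 3664], [78, 3, 3741, 3743, 1894], [0, 0], [0, 0], [229, 4, 3710, 3701, 3697, 3664, 3668, 3748, 3750], [158, 1, 3752, 3709, 3737], [225, 1, 3752, 3710, 3701, 3698], [0, 0], [0, 0], [231, 5, 3716, 3706, 3697, 3664, 3668, 3748, 3758, 3760], [62, 1, 3760, 3762], [157, 2, 3762, 3720, 3741], [217, 3, 3762, 3720, 3747, 2180], [221, 5, 3760, 3762, 3720, 3727, 2710, 1792, 1789], [226, 3, 3762, 3720, 3725, 3728], [230, 5, 3760, 3762, 3720, 3727, 63, 3664, 3668], [78, 3, 3763, 3769, 2176], [0, 0], [0, 0], [0, 0], [0, 0], [0, 0], [0, 0], [0, 0], [0, 0], [0, 0], [0, 0], [0, 0], [0, 0], [0, 0], [0, 0], [0, 0], [0, 0], [0, 0], [0, 0], [0, 0], [0, 0], [0, 0], [0, 0], [0, 0], [0, 0], [0, 0], [0, 0], [0, 0], [0, 0], [0, 0], [0, 0], [0, 0], [243, 32, 3012, 3013, 3010, 3107, 3782, 3784, 3786, 3788, 3790, 3792, 3794, 3796,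 3798, 3800, 3802, 3804, 3806, 3808, 3810, 3812, 3814, 3816, 3818, 3820, 3822, 3824, 3826, 3828, 3830, 3832, 3834, 3836, 3838], [38, 2, 3840, 232], [0, 0], [157, 2, 3740, 3727, 3844], [158, 1, 3762, 3715, 3844], [226, 3, 3752, 3713, 3694, 3844], [0, 0], [61, 1, 3844, 3852], [158, 1, 3760, 3849, 3852], [225, 1, 3732, 3772, 3849, 3852], [0, 0], [77, 2, 3845, 2710, 3860], [222, 4, 3862, 3846, 3766, 3761, 3765, 3777, 1896], [118, 1, 2079, 2082, 3864], [194, 2, 3845, 160, 2710, 3860], [0, 0], [79, 3, 3853, 3845, 2710, 3860, 3870], [78, 2, 3872, 3854, 2710], [193, 0, 3875, 137, 3874, 3872], [217, 2, 3872, 3853, 3848, 3769], [117, 0, 2133, 2182, 3878], [0, 0], [81, 3, 3862, 3845, 2710, 3615, 3882], [22, 2, 3884, 3862], [70, 2, 3884, 3868, 3863], [72, 1, 3887, 3869, 3888, 3884, 3868], [0, 0], [83, 4, 3872, 3853, 3845, 2710, 3615, 3882, 3892], [22, 2, 3894, 3872], [69, 1, 3894, 3877, 3873], [70, 2, 3894, 3898, 3897], [78, 2, 3894, 3875, 3615], [0, 0], [163, 4, 3857, 3853, 3845, 3714, 3720, 3741, 3904], [54, 2, 3906, 3857], [158,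 2, 3906, 3765, 3720], [218, 3, 3906, 3765, 3777, 1896], [0, 0], [0, 0], [223, 5, 3884, 3862, 3845, 3714, 3720, 3747, 3914, 3916], [217, 1, 3918, 3884, 3861, 1782], [0, 0], [231, 4, 3736, 3706, 3718, 3715, 3844, 3852, 3858, 3922], [226, 3, 3924, 3754, 3851, 3852], [0, 0], [241, 2, 3845, 491, 3928], [0, 0], [21, 1, 2868, 3932], [235, 2, 3047, 2855, 3932], [236, 1, 3614, 2853, 3932], [0, 0], [0, 0], [53, 1, 3940, 3942], [0, 0], [241, 2, 3929, 493, 3946], [242, 1, 3845, 64, 3946], [0, 0], [61, 1, 3946, 3952], [242, 1, 3853, 3951, 3952], [0, 0], [77, 2, 3947, 2868, 3958], [235, 2, 3960, 3950, 3863], [238, 0, 3950, 3869, 3962], [0, 0], [79, 3, 3953, 3947, 2868, 3958, 3966], [78, 2, 3968, 3954, 2868], [193, 0, 3971, 156, 3970, 3968], [0, 0], [81, 3, 3960, 3947, 2868, 3932, 3974], [22, 2, 3976, 3960], [70, 2, 3976, 3964, 3961], [72, 1, 3979, 3965, 3980, 3976, 3964], [0, 0], [83, 4, 3968, 3953, 3947, 2868, 3932, 3974, 3984], [22, 2, 3986, 3968], [69, 1, 3986, 3973, 3969], [70, 2, 3986, 3990, 3989], [78, 2, 3986, 3971, 3932], [0,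 0], [117, 2, 3941, 66, 3996]]
def dJ10 : List (List ℕ) := [[210, 2, 3941, 150, 66, 3996], [0, 0], [119, 3, 3943, 3941, 66, 3996, 4002], [118, 2, 4004, 3944, 66], [209, 0, 4007, 149, 4006, 4004], [0, 0], [121, 3, 3998, 3941, 66, 3574, 4010], [38, 2, 4012, 3998], [110, 2, 4012, 4000, 3999], [112, 1, 4015, 4001, 4016, 4012, 4000], [0, 0], [123, 4, 4004, 3943, 3941, 66, 3574, 4010, 4020], [38, 2, 4022, 4004], [109, 1, 4022, 4009, 4005], [110, 2, 4022, 4026, 4025], [118, 2, 4022, 4007, 3574], [0, 0], [157, 2, 3947, 3940, 4032], [0, 0], [159, 3, 3953, 3947, 3940, 4032, 4036], [158, 2, 4038, 3954, 3940], [218, 3, 4038, 3954, 2868, 3996], [225, 3, 4038, 3954, 66, 3970], [0, 0], [161, 3, 4034, 3947, 3940, 3942, 4046], [54, 2, 4048, 4034], [225, 3, 4048, 4036, 4045, 3967], [0, 0], [163, 4, 4038, 3953, 3947, 3940, 3942, 4046, 4054], [54, 2, 4056, 4038], [158, 2, 4056, 4041, 3942], [0, 0], [217, 2, 3960, 3947, 3940, 4062], [118, 1, 4064, 4052, 4051], [0, 0], [219, 3, 3986, 3968, 3953, 3947, 3940, 4062, 4068], [218, 3, 4070, 3995,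 3934, 3940], [0, 0], [0, 0], [221, 4, 3968, 3953, 3947, 3940, 3942, 4074, 4076], [54, 1, 4076, 4078], [118, 1, 4078, 4044, 4057], [120, 5, 4039, 4057, 4082, 4078, 4080], [157, 1, 4078, 3967, 4065], [158, 2, 4078, 3971, 3996], [162, 0, 4007, 3996, 4088, 4078, 4080], [217, 1, 4078, 3968, 3953, 4035], [0, 0], [0, 0], [223, 5, 3976, 3960, 3947, 3940, 3942, 4074, 4094, 4096], [158, 2, 4098, 3984, 4071], [222, 5, 4096, 4098, 3984, 3995, 3934, 3940, 3942], [0, 0], [227, 3, 4022, 4004, 3943, 3941, 3946, 4066, 4104], [226, 3, 4106, 4031, 3586, 3946], [0, 0], [229, 4, 4004, 3943, 3941, 3946, 3952, 4085, 4110], [157, 2, 4112, 4007, 3958], [225, 1, 4112, 4004, 3943, 4032], [0, 0], [0, 0], [231, 5, 4012, 3998, 3941, 3946, 3952, 4085, 4118, 4120], [62, 1, 4120, 4122], [157, 2, 4122, 4020, 4107], [230, 5, 4120, 4122, 4020, 4031, 3586, 3946, 3952], [0, 0], [221, 3, 4070, 3986, 3967, 3959, 3996, 4002, 4130], [157, 1, 4132, 4100, 4097], [222, 5, 4132, 4070, 3995, 3974, 3979, 4035, 4049], [0, 0], [229, 3, 4106, 4022, 4003, 3997, 3958, 3966,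 4138], [158, 1, 4140, 4126, 4121], [230, 5, 4140, 4106, 4031, 4010, 4015, 4032, 4036], [0, 0], [0, 0], [0, 0], [0, 0], [243, 9, 3612, 3614, 958, 2848, 2756, 3316, 3318, 3519, 3517, 3515, 3513, 3549, 3547, 3545, 3543, 3559, 3407, 3643, 3181, 3646, 3137, 3036, 959, 2853, 2852, 247, 2772, 2829, 1085, 4146, 4148, 4150, 4152], [234, 2, 4154, 3611], [243, 13, 4148, 4150, 4152, 4154, 3612, 3614, 958, 2575, 735, 2729, 589, 719, 2842, 3195, 3193, 3418, 3415, 3413, 3411, 3409, 3408, 3552, 3542, 3544, 3546, 3551, 3509, 3507, 3505, 3523, 3165, 3163, 3161], [247, 14, 3167, 3165, 3163, 3161, 4158, 4148, 4150, 4152, 4154, 3612, 3614, 958, 2575, 735, 2729, 589, 719, 2842, 3195, 3193, 3418, 3415, 3413, 3411, 3409, 3407, 3643, 3181, 3646, 3137, 3036, 959, 958, 2575, 735, 3002, 509, 509, 513, 3093, 3090, 1028, 1030, 1032, 1034, 1036], [8, 0, 3169, 4161, 1037], [15, 0, 3166, 4161], [15, 0, 3503, 4161, 1038], [3, 0, 3171, 4163, 1035], [8, 0, 3505, 4167, 1040], [16, 0, 3522, 4167], [8, 0, 3173, 4169, 1033], [3, 0, 3507, 4171, 1042], [15, 0,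 3175, 4175], [15, 0, 3347, 4175, 1031], [8, 0, 3509, 4177, 1044], [7, 0, 3342, 4181, 1029], [15, 0, 3511, 4183], [15, 0, 3551, 4183, 1046], [4, 0, 3340, 4185, 3091], [7, 0, 3546, 4189, 1048], [7, 0, 3338, 4191, 3092], [4, 0, 3544, 4193, 1050], [16, 0, 3336, 4195, 3003], [7, 0, 3542, 4197, 1052], [8, 0, 3334, 4199, 734], [15, 0, 3552, 4201, 1054], [3, 0, 3332, 4203, 3019], [8, 0, 3411, 4205, 1056], [16, 0, 3408, 4205], [8, 0, 3330, 4207, 588], [3, 0, 3413, 4209, 1058], [15, 0, 3328, 4213, 578], [8, 0, 3415, 4215, 1060], [8, 0, 3326, 4217], [16, 0, 3418, 4219, 1062], [15, 0, 3417, 4219, 1242], [7, 0, 3193, 4223, 1064], [7, 0, 3188, 4225, 1239], [4, 0, 3195, 4227, 1066], [4, 0, 3196, 4227], [16, 0, 3202, 4227], [4, 0, 3186, 4229, 1237], [4, 0, 1066, 4230], [7, 0, 1069, 4230, 2843], [7, 0, 3184, 4237, 1235], [16, 0, 1071, 4241, 716], [16, 0, 3640, 4243, 1233], [16, 0, 3182, 4243], [8, 0, 1073, 4245, 3136], [8, 0, 3637, 4247, 1231], [3, 0, 3139, 4250, 1074], [8, 0, 3136, 4250], [11, 0, 3443, 4250], [12, 0, 3453, 4250], [15,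 0, 3646, 4250], [3, 0, 3599, 4253, 1229], [8, 0, 3141, 4255, 1076], [15, 0, 3649, 4255], [8, 0, 3601, 4265, 1227], [16, 0, 3143, 4267, 1333], [15, 0, 3603, 4271], [7, 0, 3145, 4273, 1331], [4, 0, 3147, 4277, 1329], [7, 0, 3587, 4279], [7, 0, 3574, 4279, 1327], [11, 0, 4011, 4279], [12, 0, 4031, 4279], [7, 0, 1327, 4282], [15, 0, 1324, 4282, 2854], [8, 0, 1322, 4291, 2772], [3, 0, 1320, 4293, 2829], [8, 0, 1318, 4295, 1085], [15, 0, 1316, 4297, 3584], [7, 0, 3161, 4298, 1315], [15, 0, 3584, 4298], [16, 0, 4159, 4298], [4, 0, 3163, 4301, 1313], [7, 0, 3165, 4307, 1391], [16, 0, 4172, 4309, 1303], [16, 0, 4164, 4309], [3, 0, 3317, 4310], [8, 0, 2756, 4310, 1040], [16, 0, 1303, 4310], [3, 0, 1043, 4316, 3086], [8, 0, 1040, 4316], [8, 0, 1045, 4321, 2842], [16, 0, 4187, 4325, 3085], [15, 0, 1047, 4325, 2945], [8, 0, 3513, 4327], [7, 0, 1049, 4329, 3092], [4, 0, 1051, 4333, 2992], [7, 0, 1053, 4335, 4220], [3, 0, 3324, 4336], [7, 0, 4220, 4336], [248, 44, 1036, 1037, 1035, 1033, 4178, 3176, 3178, 3180, 4249, 1234, 1236, 1238,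 1243, 1061, 1059, 1057, 4210, 3407, 3643, 3181, 4263, 4256, 3036, 959, 247, 2772, 2829, 1085, 4146, 4148, 4150, 4152, 4154, 3612, 3614, 958, 2848, 4322, 4314, 3318, 3393, 3398, 3398, 3320, 3322], [243, 5, 1223, 1221, 1219, 1217, 1215, 3047, 2772, 48, 589, 3018, 735, 3002, 3093, 3090, 1028, 1030, 1032, 1034, 1036, 4313, 1390, 1312, 1314, 4304, 4148, 4150, 4152, 4154, 4155, 4157, 3609, 3607, 3605], [248, 1, 1236, 1238, 1243, 1061, 1059, 1057, 1055, 4340, 2993, 3093, 2944, 2843, 3087, 4322, 4318, 1390, 1312, 1314, 4304, 4148, 4150, 4152, 4157, 3609, 3607, 3605, 4344, 1223, 1221, 1219, 1217, 1215, 3047, 2772, 48, 589, 3018, 735, 212, 215, 215, 897, 1085, 4303, 1315, 1314], [7, 0, 1314, 4346, 1235], [15, 0, 4303, 4346], [3, 0, 1312, 4349], [235, 2, 3643, 4249, 4352], [247, 1, 1230, 1232, 1262, 1262, 1255, 1234, 1236, 1238, 1243, 1061, 1059, 1057, 1055, 4340, 2993, 3093, 3083, 4330, 3514, 3516, 3521, 3322, 4339, 4340, 579, 589, 3018, 735, 897, 1085, 1083, 1081, 1334, 1331, 1329, 4289, 2854, 2772, 2829, 1085, 4351, 1235, 4352,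 1391, 1390], [248, 44, 1057, 1056, 1058, 1060, 1062, 1064, 4239, 2843, 716, 4257, 1074, 1076, 1333, 1331, 1329, 4289, 2854, 2772, 2829, 1085, 4351, 1235, 4352, 1391, 4319, 4323, 3086, 2842, 3085, 4330, 3514, 3516, 3521, 3322, 4339, 4340, 600, 2773, 3046, 1214, 1289, 1294, 1294, 1216, 1218], [235, 1, 1228, 4357, 4353, 1233], [8, 0, 1230, 4360, 1227], [16, 0, 1233, 4360], [4, 0, 1228, 4363], [15, 0, 4356, 4363, 1225], [7, 0, 1390, 4369, 1223], [15, 0, 4355, 4369, 4345], [16, 0, 4313, 4371], [7, 0, 3605, 4372, 3406], [16, 0, 4274, 4372], [3, 0, 3607, 4377], [248, 44, 3084, 2843, 2842, 4238, 1065, 1241, 1239, 1237, 1235, 4365, 1227, 4366, 1227, 4379, 3406, 4380, 3608, 4156, 4153, 4151, 4149, 4147, 1084, 2828, 2773, 2855, 4288, 1328, 1330, 1335, 1080, 1082, 1084, 896, 734, 3019, 588, 578, 4341, 4338, 3323, 3390, 3397, 3397, 3520, 3517], [4, 0, 3514, 4382], [7, 0, 3517, 4382, 4330], [15, 0, 3519, 4387], [16, 0, 3520, 4387], [248, 44, 3936, 1214, 1215, 3047, 2772, 601, 4341, 4338, 3323, 4391, 4331, 4384, 4331, 3082, 3092, 2992,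 4341, 1054, 1056, 1058, 1060, 1242, 1239, 1237, 1235, 4365, 1227, 4366, 1227, 4379, 3406, 4380, 3608, 4156, 4153, 4151, 4149, 4147, 1084, 2828, 2773, 252, 250, 250, 2855, 4288], [3, 0, 3935, 4393], [3, 0, 3932, 4393, 1328], [13, 0, 3975, 4393]]
def dJ11 : List (List ℕ) := [[14, 0, 3995, 4393], [15, 0, 3939, 4393], [16, 0, 3937, 4393], [3, 0, 1328, 4396], [8, 0, 1331, 4396, 4288], [16, 0, 1334, 4409, 4402], [15, 0, 1333, 4409, 4404], [3, 0, 3616, 4410], [13, 0, 3883, 4410], [14, 0, 3903, 4410], [4, 0, 3046, 4412], [7, 0, 1215, 4412, 1077], [15, 0, 4404, 4412], [16, 0, 1217, 4423, 4268], [8, 0, 3176, 4426, 1218], [15, 0, 4178, 4429, 4358], [4, 0, 1059, 4430], [15, 0, 4358, 4430], [236, 0, 4433, 4434, 1220, 4374], [3, 0, 4432, 4437], [8, 0, 1061, 4437, 1037], [16, 0, 1063, 4441, 4343], [7, 0, 3322, 4442, 1064], [15, 0, 3320, 4445, 4234], [8, 0, 3318, 4447, 1028], [16, 0, 4388, 4447], [4, 0, 4314, 4449], [235, 3, 3007, 3095, 4450], [218, 3, 4078, 3971, 4406, 4284], [77, 1, 4125, 4456, 4087, 4068], [7, 0, 4128, 4459], [12,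 0, 4143, 4459, 4133], [7, 0, 4144, 4463], [13, 0, 4141, 4463, 4135], [7, 0, 4108, 4467], [37, 2, 4340, 398], [38, 1, 1660, 4330], [0, 0], [0, 0], [241, 2, 3861, 247, 4476], [234, 2, 4478, 3962], [235, 1, 4478, 3862, 3931], [238, 2, 4478, 3868, 3931], [157, 2, 2370, 2779, 4476], [158, 1, 2358, 2777, 4476], [225, 1, 2956, 2316, 2777, 4476], [226, 3, 2337, 2294, 2775, 4476], [0, 0], [157, 1, 1844, 1021, 4494], [158, 2, 1856, 1751, 4494], [217, 1, 1868, 1758, 1021, 4494], [218, 3, 1824, 1742, 952, 4494], [0, 0], [53, 1, 4494, 4504], [157, 1, 2985, 4497, 4504], [158, 2, 1854, 4499, 4504], [217, 1, 2971, 1847, 4497, 4504], [218, 3, 1830, 1822, 4503, 4504], [0, 0], [117, 2, 4495, 1085, 4516], [210, 2, 4495, 122, 1085, 4516], [0, 0], [119, 3, 4505, 4495, 1085, 4516, 4522], [118, 2, 4524, 4506, 1085], [209, 0, 4527, 1089, 4526, 4524], [0, 0], [121, 3, 4518, 4495, 1085, 1087, 4530], [38, 2, 4532, 4518], [110, 2, 4532, 4520, 4519], [112, 1, 4535, 4521, 4536, 4532, 4520], [0, 0], [123, 4, 4524, 4505, 4495, 1085, 1087, 4530, 4540],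 [38, 2, 4542, 4524], [118, 2, 4542, 4527, 1087], [0, 0], [225, 2, 4518, 4495, 1020, 4548], [0, 0], [227, 3, 4542, 4524, 4505, 4495, 1020, 4548, 4552], [226, 3, 4554, 4547, 79, 1020], [0, 0], [0, 0], [229, 4, 4524, 4505, 4495, 1020, 1746, 4558, 4560], [158, 1, 4562, 4523, 4551], [0, 0], [0, 0], [231, 5, 4532, 4518, 4495, 1020, 1746, 4558, 4566, 4568], [62, 1, 4568, 4570], [226, 3, 4570, 4540, 4545, 4508], [230, 5, 4568, 4570, 4540, 4547, 79, 1020, 1746], [0, 0], [241, 2, 1021, 3001, 4578], [234, 2, 4580, 1022], [235, 1, 4580, 1398, 1917], [236, 2, 4580, 1759, 2892], [237, 1, 4580, 1762, 2892], [238, 2, 4580, 1400, 1917], [98, 0, 2104, 3105, 4590], [0, 0], [21, 1, 2856, 4594], [0, 0], [157, 2, 4554, 4547, 4598], [158, 1, 4570, 4531, 4598], [225, 1, 4497, 4534, 4531, 4598], [226, 3, 4562, 4527, 1087, 4598], [0, 0], [61, 1, 4598, 4608], [225, 1, 3097, 4574, 4603, 4608], [0, 0], [0, 0], [79, 3, 4609, 4599, 2856, 4614, 4616], [78, 2, 4618, 4610, 2856], [0, 0], [0, 0], [83, 4, 4618, 4609, 4599, 2856, 4594, 4622, 4624], [78,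 2, 4626, 4621, 4594], [0, 0], [0, 0], [219, 3, 4626, 4618, 4609, 4599, 4530, 4630, 4632], [218, 3, 4634, 4629, 4596, 4530], [0, 0], [231, 4, 4550, 4518, 4534, 4531, 4598, 4608, 4612, 4638], [226, 3, 4640, 4564, 4607, 4608], [0, 0], [241, 2, 4599, 80, 4644], [0, 0], [21, 1, 2936, 4648], [235, 2, 4595, 900, 4648], [0, 0], [37, 1, 82, 4654], [0, 0], [0, 0], [53, 1, 4658, 4660], [0, 0], [61, 1, 4644, 4664], [241, 2, 4609, 4647, 4664], [0, 0], [77, 2, 4645, 2936, 4670], [0, 0], [79, 3, 4665, 4645, 2936, 4670, 4674], [78, 2, 4676, 4666, 2936], [193, 0, 4679, 393, 4678, 4676], [236, 1, 4676, 4668, 4619], [0, 0], [81, 3, 4672, 4645, 2936, 4648, 4684], [22, 2, 4686, 4672], [0, 0], [83, 4, 4676, 4665, 4645, 2936, 4648, 4684, 4690], [22, 2, 4692, 4676], [69, 1, 4692, 4681, 4677], [70, 2, 4692, 4696, 4695], [78, 2, 4692, 4679, 4648], [236, 1, 4692, 4683, 4627], [0, 0], [117, 2, 4659, 82, 4704], [210, 2, 4659, 118, 82, 4704], [0, 0], [119, 3, 4661, 4659, 82, 4704, 4710], [118, 2, 4712, 4662, 82], [209, 0, 4715, 117, 4714, 4712], [0,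 0], [121, 3, 4706, 4659, 82, 4654, 4718], [38, 2, 4720, 4706], [110, 2, 4720, 4708, 4707], [112, 1, 4723, 4709, 4724, 4720, 4708], [0, 0], [123, 4, 4712, 4661, 4659, 82, 4654, 4718, 4728], [38, 2, 4730, 4712], [109, 1, 4730, 4717, 4713], [110, 2, 4730, 4734, 4733], [118, 2, 4730, 4715, 4654], [0, 0], [157, 2, 4645, 4658, 4740], [0, 0], [159, 3, 4665, 4645, 4658, 4740, 4744], [158, 2, 4746, 4666, 4658], [0, 0], [161, 3, 4742, 4645, 4658, 4660, 4750], [54, 2, 4752, 4742], [0, 0], [163, 4, 4746, 4665, 4645, 4658, 4660, 4750, 4756], [54, 2, 4758, 4746], [158, 2, 4758, 4749, 4660], [0, 0], [217, 2, 4672, 4645, 4658, 4764], [0, 0], [219, 3, 4692, 4676, 4665, 4645, 4658, 4764, 4768], [218, 3, 4770, 4701, 4650, 4658], [0, 0], [0, 0], [221, 4, 4676, 4665, 4645, 4658, 4660, 4774, 4776], [54, 1, 4776, 4778], [157, 1, 4778, 4675, 4767], [217, 1, 4778, 4676, 4665, 4743], [0, 0], [0, 0], [223, 5, 4686, 4672, 4645, 4658, 4660, 4774, 4786, 4788], [54, 1, 4788, 4790], [158, 2, 4790, 4690, 4771], [218, 3, 4790, 4690, 4695, 4747], [222,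 5, 4788, 4790, 4690, 4701, 4650, 4658, 4660]]
def dJ12 : List (List ℕ) := [[0, 0], [225, 2, 4706, 4659, 4644, 4800], [0, 0], [227, 3, 4730, 4712, 4661, 4659, 4644, 4800, 4804], [226, 3, 4806, 4739, 4656, 4644], [0, 0], [0, 0], [229, 4, 4712, 4661, 4659, 4644, 4664, 4810, 4812], [62, 1, 4812, 4814], [158, 1, 4814, 4711, 4803], [225, 1, 4814, 4712, 4661, 4740], [0, 0], [0, 0], [231, 5, 4720, 4706, 4659, 4644, 4664, 4810, 4822, 4824], [62, 1, 4824, 4826], [157, 2, 4826, 4728, 4807], [226, 3, 4826, 4728, 4733, 4750], [230, 5, 4824, 4826, 4728, 4739, 4656, 4644, 4664], [0, 0], [157, 2, 4814, 4715, 4836], [158, 1, 4802, 4705, 4836], [225, 1, 4826, 4720, 4705, 4836], [226, 3, 4751, 4662, 82, 4836], [0, 0], [61, 1, 4836, 4846], [157, 2, 4812, 4839, 4846], [226, 3, 4745, 4753, 4845, 4846], [0, 0], [77, 2, 4837, 3095, 4854], [194, 2, 4837, 124, 3095, 4854], [0, 0], [79, 3, 4847, 4837, 3095, 4854, 4860], [78, 2, 4862, 4848, 3095], [193, 0, 4865, 1203, 4864, 4862], [0, 0], [81, 3, 4856, 4837, 3095, 3091, 4868], [0, 0], [83, 4, 4862,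 4847, 4837, 3095, 3091, 4868, 4872], [22, 2, 4874, 4862], [69, 1, 4874, 4867, 4863], [78, 2, 4874, 4865, 3091], [0, 0], [159, 3, 4847, 4837, 4704, 4803, 4882], [54, 2, 4884, 4850], [118, 1, 4884, 4852, 4759], [158, 2, 4884, 4848, 4704], [0, 0], [0, 0], [219, 3, 4874, 4862, 4847, 4837, 4704, 4892, 4894], [218, 3, 4896, 4881, 85, 4704], [0, 0], [0, 0], [221, 4, 4862, 4847, 4837, 4704, 4710, 4900, 4902], [54, 1, 4902, 4904], [0, 0], [0, 0], [223, 5, 4870, 4856, 4837, 4704, 4710, 4900, 4908, 4910], [54, 1, 4910, 4912], [158, 2, 4912, 4872, 4897], [218, 3, 4912, 4872, 4877, 4885], [222, 5, 4910, 4912, 4872, 4881, 85, 4704, 4710], [0, 0], [229, 3, 4806, 4730, 4711, 4705, 4836, 4846, 4922], [62, 2, 4924, 4806], [158, 1, 4924, 4830, 4825], [230, 5, 4924, 4806, 4739, 4718, 4723, 4740, 4744], [0, 0], [241, 2, 4837, 3029, 4932], [0, 0], [0, 0], [0, 0], [0, 0], [0, 0], [0, 0], [0, 0], [0, 0], [0, 0], [0, 0], [0, 0], [0, 0], [0, 0], [0, 0], [0, 0], [0, 0], [0, 0], [0, 0], [0, 0], [0, 0], [0, 0], [0, 0], [0, 0], [0, 0], [0, 0], [0,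 0], [243, 32, 3028, 3029, 2931, 4473, 4454, 4473, 4451, 4936, 4938, 4940, 4942, 4944, 4946, 4948, 4950, 4952, 4954, 4956, 4958, 4960, 4962, 4964, 4966, 4968, 4970, 4972, 4974, 4976, 4978, 4980, 4982, 4984, 4986], [0, 0], [0, 0], [0, 0], [0, 0], [0, 0], [0, 0], [157, 1, 4912, 4869, 5000], [158, 2, 4896, 4881, 5000], [218, 3, 4904, 4865, 3091, 5000], [0, 0], [53, 1, 5000, 5008], [217, 1, 4886, 4918, 5003, 5008], [0, 0], [117, 2, 5001, 86, 5014], [0, 0], [119, 3, 5009, 5001, 86, 5014, 5018], [118, 2, 5020, 5010, 86], [0, 0], [121, 3, 5016, 5001, 86, 2999, 5024], [38, 2, 5026, 5016], [225, 1, 5003, 5028, 5025, 4578], [109, 1, 2091, 4593, 5030], [201, 1, 2367, 2105, 4593, 5030], [210, 2, 2089, 4593, 5030, 4911], [193, 2, 4890, 4918, 5034, 2373], [194, 4, 5007, 5002, 5034, 2368], [201, 4, 1887, 1764, 2884, 5040], [209, 0, 4905, 5042, 1908, 3867], [210, 2, 4902, 5042, 1887, 1821], [185, 4, 2917, 5046, 4901, 4717], [69, 1, 4775, 5048, 2917], [70, 0, 4799, 5048, 2987], [97, 0, 4737, 5048, 2323], [98, 1, 4717, 5048, 2321], [193,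 0, 4763, 5048, 2973, 1847], [194, 2, 4751, 5048, 2917, 1822], [186, 1, 4637, 4539, 4502, 5060], [186, 3, 2289, 5054, 4737, 4774], [193, 2, 2168, 2289, 5054, 4807], [194, 4, 2158, 2287, 5054, 4926], [202, 2, 4922, 5068, 3867, 5044, 4878], [4, 0, 4876, 5070, 4863], [12, 0, 4896, 5070, 4885], [14, 0, 4880, 5070, 4848], [13, 0, 4872, 5070, 4847], [4, 0, 4863, 5072], [6, 0, 4866, 5072], [10, 0, 5044, 5072], [12, 0, 4904, 5072, 4885], [11, 0, 4907, 5072, 4850], [14, 0, 4864, 5072, 4848], [13, 0, 4860, 5072, 4847], [3, 0, 4898, 5075], [3, 0, 4894, 5075, 4918], [14, 0, 5004, 5075, 4891], [13, 0, 5097, 4917, 5075, 4883], [8, 0, 87, 5077, 4654], [7, 0, 3093, 5077, 83], [11, 0, 5010, 5077, 4714], [16, 0, 2945, 5077, 3029], [11, 0, 4915, 5079, 4838], [5, 0, 5040, 5087], [10, 0, 5043, 5087], [3, 0, 5110, 4909, 5089], [10, 0, 5046, 5089], [4, 0, 3095, 5091], [8, 0, 1029, 5091, 4654, 5102], [16, 0, 4234, 5091, 3029], [15, 0, 4451, 5091, 3006], [4, 0, 4857, 5093], [5, 0, 4859, 5093], [3, 0, 4918, 5096, 5101], [5, 0, 5035, 5096, 5101],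 [7, 0, 5030, 5096, 5101, 4801], [9, 0, 5033, 5096, 5101], [8, 0, 5016, 5099, 4721], [4, 0, 4892, 5101], [3, 0, 4991, 5102, 2922], [8, 0, 4654, 5102], [11, 0, 4739, 5102, 5022], [4, 0, 2993, 5105, 2936], [3, 0, 2995, 5105, 4651], [8, 0, 2999, 5105], [16, 0, 3002, 5105, 2943], [15, 0, 3001, 5105, 81], [3, 0, 5013, 5107], [8, 0, 2744, 5109, 4989], [7, 0, 2842, 5109, 324], [3, 0, 4920, 5111], [9, 0, 5037, 5111], [3, 0, 4453, 5123, 2922], [16, 0, 1031, 5123, 2953], [4, 0, 4233, 5125], [4, 0, 4455, 5127], [8, 0, 4473, 5127], [4, 0, 4672, 5136, 4587], [3, 0, 4689, 5136, 4585], [7, 0, 4801, 5136], [8, 0, 4809, 5136], [11, 0, 4742, 5136], [12, 0, 4755, 5136], [13, 0, 4665, 5136], [14, 0, 4644, 5136], [15, 0, 4647, 5136, 4580], [12, 0, 5014, 5141]]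
def dJ13 : List (List ℕ) := [[8, 0, 4993, 5145, 329], [11, 0, 5022, 5148], [4, 0, 2936, 5150], [8, 0, 4471, 5150, 398, 5150], [14, 0, 4679, 5150], [15, 0, 900, 5150, 600], [3, 0, 4651, 5152], [14, 0, 4701, 5152], [15, 0, 4653, 5152, 2750], [8, 0, 232, 5156, 734], [7, 0, 3843, 5156, 35], [16, 0, 2943, 5156], [8, 0, 78, 5158, 1085], [12, 0, 4531, 5158, 4494], [13, 0, 4610, 5158, 1750], [15, 0, 81, 5158], [8, 0, 4989, 5162], [4, 0, 3086, 5165, 326], [4, 0, 2950, 5165], [8, 0, 476, 5165], [13, 0, 3129, 5165], [16, 0, 717, 5165, 916], [15, 0, 719, 5165, 3030], [16, 0, 1038, 5171, 5235, 913], [3, 0, 5246, 4438, 5173, 45], [11, 0, 4766, 5181], [13, 0, 4675, 5181], [11, 0, 4790, 5183], [12, 0, 4793, 5183], [13, 0, 4691, 5183], [8, 0, 4605, 5197, 4548], [12, 0, 4603, 5197, 1845], [11, 0, 4601, 5197, 2912], [16, 0, 4995, 5201, 913, 5249], [7, 0, 4341, 5207], [7, 0, 489, 5211, 2773], [13, 0, 4621, 5211, 2905], [13, 0, 4629, 5217, 1743], [4, 0, 2976, 5218, 3778], [8, 0, 734, 5218], [11, 0, 777, 5218], [12, 0, 799, 5218], [14, 0,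 787, 5218, 3780], [14, 0, 801, 5218], [8, 0, 3841, 5221], [3, 0, 1082, 5224, 953], [8, 0, 1085, 5224], [12, 0, 4517, 5224, 4494], [11, 0, 4527, 5224, 4507], [3, 0, 4637, 5227, 4502], [13, 0, 4573, 5227, 4498], [8, 0, 4613, 5229, 4558], [7, 0, 4643, 5229, 4576, 5301], [15, 0, 4668, 5229], [3, 0, 2922, 5235], [7, 0, 328, 5235], [8, 0, 58, 5242, 4257], [12, 0, 3457, 5242, 3420], [11, 0, 3469, 5242, 3433], [14, 0, 3651, 5242, 3040], [13, 0, 3660, 5242, 3042], [16, 0, 916, 5242], [3, 0, 3008, 5244], [15, 0, 3030, 5244], [7, 0, 63, 5249, 959], [14, 0, 3665, 5249, 2074], [13, 0, 3673, 5249, 2087], [15, 0, 3012, 5249], [16, 0, 913, 5249], [8, 0, 4548, 5260], [7, 0, 4574, 5263], [7, 0, 4556, 5265], [7, 0, 4997, 5267, 959, 5328], [4, 0, 2783, 5271, 4421], [14, 0, 3929, 5271, 4476], [16, 0, 492, 5271, 2855], [15, 0, 4683, 5273], [15, 0, 4703, 5275], [4, 0, 3778, 5276], [14, 0, 3780, 5284], [8, 0, 1080, 5291, 954, 5328], [8, 0, 4519, 5295], [9, 0, 4521, 5295], [8, 0, 4525, 5297], [10, 0, 4528, 5297], [10, 0, 5062, 5299], [7, 0, 4576,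 5301], [8, 0, 4558, 5302], [8, 0, 4638, 5305], [8, 0, 4257, 5312], [12, 0, 4259, 5312, 3420], [11, 0, 4261, 5312, 3433], [4, 0, 3675, 5315, 3426], [13, 0, 3497, 5315, 3424], [4, 0, 3679, 5317, 3438], [14, 0, 3476, 5317, 3434], [8, 0, 3655, 5319, 3470], [7, 0, 3657, 5319, 3478, 5391], [8, 0, 3663, 5321, 3480], [7, 0, 3691, 5321, 3500, 5387], [7, 0, 959, 5328], [8, 0, 954, 5328], [12, 0, 1783, 5328, 3714], [11, 0, 1793, 5328, 3726], [14, 0, 3861, 5328, 3844], [13, 0, 3875, 5328, 3855], [15, 0, 246, 5328], [7, 0, 3745, 5331, 2082], [7, 0, 3775, 5333, 2182], [3, 0, 4999, 5345], [4, 0, 4421, 5346], [16, 0, 4425, 5346, 2855, 5350], [4, 0, 4482, 5348], [5, 0, 4484, 5348], [7, 0, 4491, 5348], [8, 0, 4493, 5348], [11, 0, 4489, 5348], [12, 0, 4487, 5348], [14, 0, 4476, 5348], [16, 0, 4480, 5348, 3949], [12, 0, 3997, 5350, 3940], [11, 0, 4007, 5350, 3945], [16, 0, 2855, 5350], [4, 0, 4415, 5361, 5418], [14, 0, 4417, 5361, 3844], [13, 0, 4419, 5361, 3855], [8, 0, 3445, 5381], [9, 0, 3447, 5381], [8, 0, 3451, 5383], [10, 0, 3454,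 5383], [8, 0, 3757, 5385, 1911], [7, 0, 3500, 5387], [8, 0, 3923, 5389, 2135], [7, 0, 3478, 5391], [8, 0, 3470, 5392], [8, 0, 3488, 5395], [8, 0, 3480, 5396], [8, 0, 3686, 5399], [4, 0, 3776, 5404, 3920], [12, 0, 3714, 5404], [14, 0, 3762, 5404, 1881], [4, 0, 3746, 5406, 4474], [11, 0, 3726, 5406], [13, 0, 3911, 5406, 1894], [7, 0, 3867, 5409], [9, 0, 5084, 5409], [7, 0, 3881, 5411], [3, 0, 3742, 5415], [11, 0, 3846, 5415], [3, 0, 3770, 5417], [12, 0, 3856, 5417], [3, 0, 4395, 5423], [7, 0, 4281, 5423], [12, 0, 4285, 5423, 3940], [11, 0, 4287, 5423, 3945], [14, 0, 4399, 5423, 3946], [13, 0, 4401, 5423, 3955], [7, 0, 4053, 5439, 4469], [12, 0, 4064, 5439, 4035], [11, 0, 4115, 5439, 4050], [3, 0, 4043, 5441, 4072], [13, 0, 4089, 5441, 4040], [4, 0, 4131, 5443, 4074], [13, 0, 4090, 5443, 4060], [4, 0, 5418, 5446], [3, 0, 3886, 5449], [6, 0, 3890, 5449], [3, 0, 3896, 5451], [5, 0, 3900, 5451], [7, 0, 3850, 5461], [7, 0, 3926, 5465], [4, 0, 3920, 5476], [3, 0, 3768, 5481], [12, 0, 3848, 5481], [4, 0, 4474, 5482], [3, 0, 3912,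 5487], [11, 0, 3908, 5487], [7, 0, 4014, 5507], [10, 0, 4018, 5507], [7, 0, 4024, 5509], [9, 0, 4028, 5509], [3, 0, 3978, 5511], [6, 0, 3982, 5511], [3, 0, 3988, 5513], [5, 0, 3992, 5513], [3, 0, 4102, 5514], [7, 0, 4469, 5514], [4, 0, 4062, 5517], [8, 0, 4066, 5517], [8, 0, 4116, 5519], [3, 0, 4072, 5520], [7, 0, 4461, 5520], [4, 0, 4092, 5523], [3, 0, 4136, 5525, 5527], [7, 0, 4465, 5525, 5527], [4, 0, 4074, 5527], [8, 0, 4085, 5527], [110, 2, 4844, 5371, 5540], [114, 3, 4843, 4844, 5371, 5540, 5492], [201, 1, 5493, 5537, 5594, 4842]]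
def dJ14 : List (List ℕ) := [[209, 0, 5552, 5594, 4838, 4821], [210, 2, 5500, 5594, 4842, 4831], [109, 3, 5538, 5490, 4852], [113, 2, 4923, 4852, 5604, 5538, 5488], [201, 3, 5604, 5538, 5533, 5539], [210, 2, 4758, 5604, 5538, 5547], [212, 4, 4760, 4758, 5604, 5538, 5488, 1909, 2077], [97, 3, 2096, 5612, 4698], [98, 2, 2115, 5612, 4680], [109, 3, 2083, 5612, 4834], [202, 2, 5051, 2081, 5612, 4680], [240, 1, 782, 2590, 5612], [235, 2, 4676, 5622, 2817], [236, 3, 4695, 5622, 998], [117, 2, 4778, 5620, 4781], [118, 3, 4781, 5620, 4776], [113, 5, 5466, 5469, 5065, 5621, 5628], [201, 3, 5632, 5466, 2113, 2959], [70, 0, 1864, 5634, 4785], [193, 0, 2965, 5634, 4783, 4765], [69, 3, 4773, 5638, 2486], [70, 2, 4765, 5638, 2921], [97, 2, 4727, 5638, 2333], [186, 3, 4765, 5638, 2333, 2346], [194, 4, 4797, 4749, 5638, 2458], [110, 3, 3050, 5473, 5646], [201, 4, 2885, 1763, 5343, 5640], [201, 3, 5618, 2083, 2114, 5467], [201, 1, 4811, 4698, 5614, 2356], [69, 0, 5656, 5161, 5057], [193, 4, 5656, 4817, 5057, 2492], [69, 1, 5117, 5657,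 5661], [73, 1, 5056, 5167, 5117, 5657, 5661], [186, 1, 5664, 2320, 2987, 5052], [218, 3, 2375, 2491, 5664, 2306], [220, 6, 2494, 2493, 2359, 5661, 5664, 2306, 5668], [219, 1, 5671, 2375, 5659, 5665, 2490, 2358, 2306], [110, 3, 5666, 2899, 3134], [78, 1, 4933, 5174, 4932], [193, 2, 4933, 5174, 371, 4932], [0, 0], [78, 1, 5241, 5236, 5680], [157, 2, 4806, 5202, 5680], [158, 1, 4826, 5198, 5680], [193, 2, 5241, 5236, 107, 5680], [225, 1, 4741, 4722, 5198, 5680], [226, 3, 4814, 4715, 5147, 5680], [241, 2, 2981, 89, 5680], [242, 1, 2093, 2952, 5680], [239, 3, 5696, 5615, 5355], [0, 0], [61, 1, 5680, 5700], [157, 2, 4924, 5685, 5700], [158, 1, 4824, 5687, 5700], [225, 1, 4757, 4832, 5687, 5700], [226, 3, 4883, 4818, 5693, 5700], [241, 2, 3109, 5695, 5700], [242, 1, 2099, 5697, 5700], [240, 0, 5714, 3105, 1916], [0, 0], [79, 3, 5701, 5681, 5237, 5240, 5718], [78, 2, 5720, 5702, 5237], [185, 1, 5720, 5717, 1401, 1759], [193, 0, 5723, 367, 5722, 5720], [235, 2, 5720, 5714, 2119], [236, 1, 5720, 5712, 3113], [109, 2, 5652, 2885,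 5724], [0, 0], [81, 3, 5683, 5681, 5237, 326, 5734], [22, 2, 5736, 5683], [70, 2, 5736, 5689, 5682], [72, 1, 5739, 5688, 5740, 5736, 5689], [186, 3, 5736, 5689, 5699, 1749], [235, 2, 5736, 3133, 2111], [236, 1, 5736, 3130, 3057], [0, 0], [83, 4, 5720, 5701, 5681, 5237, 326, 5734, 5750], [22, 2, 5752, 5720], [69, 1, 5752, 5727, 5721], [70, 2, 5752, 5756, 5755], [78, 2, 5752, 5723, 326], [185, 1, 5752, 5725, 1765, 1399], [235, 2, 5752, 5729, 2121], [236, 1, 5752, 5731, 3070], [0, 0], [217, 2, 5683, 5681, 5199, 5768], [118, 1, 5770, 5674, 5257], [209, 2, 5770, 5674, 5666, 2495], [201, 1, 5472, 2123, 3105, 5772], [0, 0], [219, 3, 5752, 5720, 5701, 5681, 5199, 5768, 5778], [210, 2, 5780, 5763, 5339, 2984], [218, 3, 5780, 5761, 5308, 5199], [225, 3, 5780, 5761, 5310, 5760], [70, 0, 2299, 5644, 5784], [0, 0], [0, 0], [221, 4, 5720, 5701, 5681, 5199, 4728, 5790, 5792], [54, 1, 5792, 5794], [157, 1, 5794, 5719, 5771], [210, 2, 5794, 5725, 2882, 2339], [212, 7, 2961, 2958, 2141, 2339, 5800, 5794, 5796], [217, 1, 5794, 5720, 5701,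 5686], [69, 1, 2345, 5599, 5804], [110, 1, 5802, 2357, 5615], [202, 3, 5468, 5617, 4696, 5808], [0, 0], [0, 0], [223, 5, 5736, 5683, 5681, 5199, 4728, 5790, 5812, 5814], [54, 1, 5814, 5816], [158, 2, 5816, 5750, 5781], [218, 3, 5816, 5750, 5755, 5706], [222, 5, 5814, 5816, 5750, 5761, 5308, 5199, 4728], [229, 5, 5814, 5816, 5750, 5761, 5310, 5760, 5751], [231, 7, 5816, 5750, 5761, 5310, 5310, 5760, 5751, 5826], [117, 2, 5818, 5827, 5817], [212, 4, 1854, 1856, 5744, 5831, 5829, 5819, 5817], [110, 2, 5828, 5832, 5377], [185, 4, 2291, 2322, 2987, 5834], [202, 3, 5830, 5745, 1774, 2896], [0, 0], [61, 1, 5437, 5840], [77, 2, 5841, 5425, 5840], [157, 2, 2368, 5435, 5840], [158, 1, 2490, 5433, 5840], [193, 2, 5841, 5424, 5426, 5840], [225, 1, 2963, 2960, 5433, 5840], [226, 3, 2157, 2339, 5431, 5840], [241, 2, 3853, 3931, 5840], [242, 1, 3953, 3948, 5840], [239, 1, 5856, 5594, 4935], [202, 4, 5860, 5851, 5852, 5648], [109, 1, 5853, 5861, 5863], [0, 0], [117, 2, 5867, 5268, 5866], [157, 1, 5251, 2499, 5866], [158, 2, 4778, 5209,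 5866], [209, 2, 5867, 5269, 391, 5866], [217, 1, 5255, 3101, 2499, 5866], [218, 3, 4746, 4666, 5205, 5866], [70, 2, 5878, 5609, 4515], [0, 0], [53, 1, 5866, 5882], [117, 2, 5883, 5869, 5882], [158, 2, 4776, 5873, 5882], [209, 2, 5883, 5868, 5875, 5882], [218, 3, 4752, 4744, 5879, 5882], [69, 1, 5892, 5061, 4503], [0, 0], [161, 3, 5251, 2499, 5866, 5882, 5896], [54, 2, 5898, 5251], [118, 1, 5898, 5650, 5250], [119, 3, 5898, 5251, 5651, 5899, 5901], [158, 2, 5898, 4782, 4777], [209, 2, 5898, 5650, 3050, 2145], [217, 1, 5898, 4765, 4748, 4759], [70, 2, 1847, 5058, 5910], [0, 0], [221, 3, 4770, 4692, 5253, 2499, 5866, 5882, 5914], [54, 2, 5916, 4770], [117, 2, 5916, 5733, 5795], [157, 1, 5916, 4794, 4789], [210, 2, 5916, 5652, 2885, 1869], [222, 5, 5916, 4770, 5215, 2746, 4584, 5188, 4753], [69, 3, 1875, 5060, 5926], [0, 0], [0, 0], [53, 1, 5930, 5932], [0, 0], [61, 1, 4932, 5936], [77, 2, 5937, 5676, 5936], [193, 2, 5937, 5677, 5679, 5936], [241, 2, 4847, 4935, 5936], [239, 1, 5944, 5491, 3931], [109, 2, 5801, 5431, 5946],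 [110, 1, 5925, 5429, 5946], [0, 0], [117, 2, 5931, 5233, 5952], [225, 2, 5954, 5931, 4932, 5863], [62, 1, 4794, 5956], [77, 0, 4744, 4796, 5956], [78, 3, 5873, 5876, 5956], [70, 2, 5962, 5635, 1877], [210, 2, 5931, 374, 5233, 5952], [98, 1, 1795, 5964, 5966], [0, 0], [119, 3, 5933, 5931, 5233, 5952, 5970], [118, 2, 5972, 5934, 5233], [209, 0, 5975, 521, 5974, 5972], [229, 4, 5972, 5933, 5931, 4932, 5936, 5950, 5923], [62, 1, 5923, 5978], [77, 0, 4763, 4798, 5978], [78, 3, 5907, 4786, 5978], [194, 4, 1842, 1860, 5052, 5978], [97, 0, 5976, 5986, 1787], [0, 0], [121, 3, 5954, 5931, 5233, 5239, 5990], [38, 2, 5992, 5954], [110, 2, 5992, 5966, 5955], [112, 1, 5995, 5967, 5996, 5992, 5966]]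
def dJ15 : List (List ℕ) := [[202, 3, 5992, 5966, 5968, 1809], [225, 2, 5992, 5953, 2746, 5772], [226, 2, 5992, 5958, 5917, 5921], [77, 2, 4824, 5804, 6004], [84, 2, 5823, 4824, 4826, 5784, 5779, 5798, 6004], [0, 0], [123, 4, 5972, 5933, 5931, 5233, 5239, 5990, 6010], [38, 2, 6012, 5972], [109, 1, 6012, 5977, 5973], [110, 2, 6012, 6016, 6015], [118, 2, 6012, 5975, 5239], [201, 1, 6012, 5986, 1787, 1799], [226, 2, 6012, 5980, 5919, 5808], [77, 2, 4806, 5790, 6024], [0, 0], [157, 2, 4933, 5930, 6028], [117, 2, 6030, 5863, 4789], [217, 1, 6030, 5677, 4933, 5930], [69, 1, 5548, 5969, 6034], [185, 1, 2149, 1813, 5969, 6034], [109, 0, 6038, 2897, 3134], [0, 0], [159, 3, 5937, 4933, 5930, 6028, 6042], [117, 2, 6044, 5950, 5919], [118, 1, 6044, 5948, 5793], [158, 2, 6044, 5938, 5930], [210, 2, 6044, 5947, 5428, 1867], [217, 1, 6044, 5940, 5937, 6031], [218, 3, 6044, 5938, 5175, 5930], [70, 0, 5494, 5969, 6056], [0, 0], [161, 3, 6030, 4933, 5930, 5932, 6060], [54, 2, 6062, 6030], [117, 2, 6062, 6033, 5257], [118, 1, 6062, 6041,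 5771], [209, 2, 6062, 6041, 3135, 1849], [218, 3, 6062, 6042, 6057, 5932], [69, 3, 5498, 5988, 6072], [0, 0], [163, 4, 6044, 5937, 4933, 5930, 5932, 6060, 6076], [54, 2, 6078, 6044], [117, 2, 6078, 6047, 4771], [118, 1, 6078, 6049, 5797], [158, 2, 6078, 6051, 5932], [210, 2, 6078, 6053, 2958, 2141], [217, 1, 6078, 6055, 6029, 5932], [218, 3, 6078, 6051, 6034, 6063], [69, 3, 5544, 6075, 6092], [0, 0], [227, 3, 6012, 5972, 5933, 5931, 4932, 5863, 6096], [62, 2, 6098, 6025], [78, 1, 6098, 6026, 4925], [157, 2, 6098, 6021, 5240], [158, 1, 6098, 6011, 6003], [194, 2, 6098, 6023, 2138, 2156], [226, 3, 6098, 6021, 325, 4932], [110, 0, 5855, 5861, 6110], [0, 0], [241, 2, 4933, 2931, 6114], [234, 2, 6116, 4934], [235, 1, 6116, 5677, 6117], [237, 1, 6116, 5678, 6117], [240, 2, 6116, 5860, 5858], [0, 0], [221, 3, 5780, 5752, 5719, 5241, 5990, 6010, 6126], [54, 2, 6128, 5780], [117, 2, 6128, 5787, 5781], [118, 1, 6128, 6132, 6131], [157, 1, 6128, 5820, 5815], [210, 2, 6128, 5783, 5342, 1845], [222, 5, 6128, 5780, 5761, 5734, 5739,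 5686, 4831], [69, 3, 2142, 5067, 6140], [0, 0], [117, 2, 6145, 5310, 6144], [157, 1, 5816, 5735, 6144], [158, 2, 5780, 5761, 6144], [209, 2, 6145, 5311, 356, 6144], [217, 1, 5687, 5738, 5735, 6144], [218, 3, 5794, 5723, 326, 6144], [70, 2, 6156, 5806, 3441], [0, 0], [53, 1, 6144, 6160], [117, 2, 6161, 6147, 6160], [157, 1, 5814, 6149, 6160], [158, 2, 6128, 6151, 6160], [209, 2, 6161, 6146, 6153, 6160], [217, 1, 4929, 5822, 6149, 6160], [218, 3, 6107, 5798, 6157, 6160], [69, 1, 6174, 6109, 3429], [0, 0], [29, 1, 3076, 6178], [69, 2, 6179, 754, 6178], [97, 1, 989, 771, 6178], [98, 2, 3115, 797, 6178], [193, 1, 6179, 753, 755, 6178], [201, 2, 6179, 796, 793, 6178], [209, 3, 6190, 6184, 991, 6185], [0, 0], [0, 0], [233, 2, 6194, 6196], [235, 3, 6198, 406, 6199], [239, 3, 6198, 444, 2502], [240, 0, 6198, 423, 3049], [241, 3, 6198, 404, 6199], [242, 0, 6196, 6206, 6197], [209, 1, 6205, 2350, 5472, 6204], [239, 3, 5729, 6204, 6197], [46, 2, 6212, 5725], [185, 2, 6212, 5727, 5721, 6213], [0, 0], [237, 2, 3077, 6194, 6218], [235,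 1, 6220, 755, 6221], [239, 1, 6220, 796, 5766], [240, 2, 6220, 770, 1023], [241, 1, 6220, 753, 6221], [209, 1, 6225, 6130, 6135, 6224], [0, 0], [0, 0], [0, 0], [0, 0], [0, 0], [0, 0], [0, 0], [0, 0], [0, 0], [0, 0], [0, 0], [0, 0], [0, 0], [0, 0], [0, 0], [0, 0], [0, 0], [0, 0], [0, 0], [0, 0], [0, 0], [0, 0], [0, 0], [0, 0], [0, 0], [0, 0], [0, 0], [0, 0], [0, 0], [0, 0], [243, 32, 6195, 6194, 6196, 6232, 6234, 6236, 6238, 6240, 6242, 6244, 6246, 6248, 6250, 6252, 6254, 6256, 6258, 6260, 6262, 6264, 6266, 6268, 6270, 6272, 6274, 6276, 6278, 6280, 6282, 6284, 6286, 6288, 6290], [109, 1, 6292, 6212, 6084], [110, 2, 6292, 6215, 2882], [202, 3, 6292, 6215, 1763, 5339], [30, 1, 5059, 6298], [70, 0, 1842, 6298, 6291], [72, 0, 6302, 1842, 6298, 6300, 5983], [201, 2, 6288, 6305, 5977, 5973, 6304], [3, 0, 6291, 6306], [5, 0, 6303, 6306], [6, 0, 6304, 6306], [7, 0, 6288, 6306], [109, 1, 5650, 6202, 6232], [110, 2, 5472, 6204, 6232], [117, 1, 6233, 6211, 6232], [201, 1, 5185, 4589, 6202, 6232], [225, 2, 6233, 6211, 6207, 6232],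 [78, 0, 6235, 6324, 6234], [193, 0, 4803, 6323, 6324, 6234], [29, 2, 6328, 5039], [72, 4, 5673, 6330, 6328, 5143, 6323], [201, 2, 6237, 6331, 2313, 2309, 6330], [8, 0, 6236, 6335], [15, 0, 6239, 6335], [241, 1, 6339, 6327, 6338], [225, 4, 6326, 6337, 6327, 6336], [0, 0], [0, 0], [0, 0], [0, 0], [0, 0], [0, 0], [0, 0], [0, 0], [0, 0], [0, 0], [0, 0], [0, 0], [245, 19, 6272, 6274, 6276, 6277, 6275, 6273, 6271, 6269, 6267, 6265, 6264, 6266, 6268, 6270, 6272, 6274, 6276, 6278, 6280, 6282, 6284, 6286, 6315, 6308, 6292, 6195, 419, 3112, 3127, 5713, 5710, 5094, 4706, 6344, 6346, 6348, 6350, 6352, 6354, 6356, 6358, 6360, 6362, 6364, 6366], [234, 2, 6368, 6271], [0, 0], [0, 0], [0, 0], [0, 0], [0, 0], [0, 0], [0, 0], [0, 0], [0, 0], [0, 0], [0, 0], [0, 0], [0, 0], [0, 0]]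
def dJ16 : List (List ℕ) := [[0, 0], [247, 18, 6285, 6283, 6281, 6279, 6277, 6275, 6273, 6369, 6367, 6365, 6363, 6361, 6359, 6357, 6355, 6353, 6351, 6349, 6347, 6345, 4707, 5095, 5711, 5712, 3126, 3113, 418, 419, 5730, 5732, 6372, 6374, 6376, 6378, 6380, 6382, 6384, 6386, 6388, 6390, 6392, 6394, 6396, 6398, 6400], [234, 2, 6402, 6286], [30, 1, 6374, 6376], [237, 2, 6406, 6373, 5641], [0, 0], [29, 1, 3069, 6410], [69, 2, 6411, 414, 6410], [97, 1, 3060, 431, 6410], [98, 2, 2819, 457, 6410], [193, 1, 6411, 413, 415, 6410], [201, 2, 6411, 456, 453, 6410], [209, 3, 6422, 6416, 3067, 6417], [0, 0], [0, 0], [233, 2, 6426, 6428], [235, 3, 6430, 414, 6431], [239, 3, 6430, 430, 3052], [240, 0, 6430, 456, 5624], [241, 3, 6430, 412, 6431], [242, 0, 6428, 6438, 6429], [209, 1, 6437, 4780, 5621, 6436], [239, 3, 5352, 6436, 6429], [46, 2, 6444, 3134], [185, 2, 6444, 1775, 1771, 6445], [0, 0], [237, 2, 6411, 6426, 6450], [235, 1, 6452, 6414, 6453], [239, 1, 6452, 6418, 1745], [240, 2, 6452, 6416, 5695], [241, 1, 6452, 6421, 6453], [0,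 0], [0, 0], [0, 0], [0, 0], [0, 0], [0, 0], [0, 0], [0, 0], [0, 0], [0, 0], [0, 0], [0, 0], [0, 0], [0, 0], [0, 0], [0, 0], [0, 0], [0, 0], [0, 0], [0, 0], [0, 0], [0, 0], [0, 0], [0, 0], [0, 0], [0, 0], [0, 0], [0, 0], [0, 0], [0, 0], [243, 32, 6427, 6426, 6428, 6462, 6464, 6466, 6468, 6470, 6472, 6474, 6476, 6478, 6480, 6482, 6484, 6486, 6488, 6490, 6492, 6494, 6496, 6498, 6500, 6502, 6504, 6506, 6508, 6510, 6512, 6514, 6516, 6518, 6520], [109, 1, 6522, 6444, 2896], [110, 2, 6522, 6447, 6040], [202, 3, 6522, 6447, 5689, 5690], [30, 1, 5637, 6528], [70, 0, 5960, 6528, 6521], [72, 0, 6532, 5960, 6528, 6530, 1853], [201, 2, 6518, 6535, 1814, 1811, 6534], [3, 0, 6521, 6536], [5, 0, 6533, 6536], [6, 0, 6534, 6536], [7, 0, 6518, 6536], [109, 1, 5468, 6434, 6462], [110, 2, 5621, 6436, 6462], [117, 1, 6463, 6443, 6462], [201, 1, 2357, 2112, 6434, 6462], [225, 2, 6463, 6443, 6439, 6462], [78, 0, 6465, 6554, 6464], [193, 0, 2359, 6553, 6554, 6464], [29, 2, 6558, 5056], [72, 4, 5161, 6560, 6558, 5658, 6553], [201, 2, 6467, 6561,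 4717, 4713, 6560], [8, 0, 6466, 6565], [15, 0, 6469, 6565], [241, 1, 6569, 6557, 6568], [225, 4, 6556, 6567, 6557, 6566], [0, 0], [0, 0], [0, 0], [0, 0], [0, 0], [0, 0], [0, 0], [0, 0], [0, 0], [0, 0], [0, 0], [0, 0], [245, 19, 6502, 6504, 6506, 6507, 6505, 6503, 6501, 6499, 6497, 6495, 6494, 6496, 6498, 6500, 6502, 6504, 6506, 6508, 6510, 6512, 6514, 6516, 6545, 6538, 6522, 6427, 427, 3055, 3065, 5695, 5692, 5166, 4712, 6574, 6576, 6578, 6580, 6582, 6584, 6586, 6588, 6590, 6592, 6594, 6596], [234, 2, 6598, 6501], [0, 0], [0, 0], [0, 0], [0, 0], [0, 0], [0, 0], [0, 0], [0, 0], [0, 0], [0, 0], [0, 0], [0, 0], [0, 0], [0, 0], [0, 0], [247, 18, 6515, 6513, 6511, 6509, 6507, 6505, 6503, 6599, 6597, 6595, 6593, 6591, 6589, 6587, 6585, 6583, 6581, 6579, 6577, 6575, 4713, 5167, 5693, 5694, 3064, 3054, 426, 427, 3131, 5674, 6602, 6604, 6606, 6608, 6610, 6612, 6614, 6616, 6618, 6620, 6622, 6624, 6626, 6628, 6630], [234, 2, 6632, 6516], [30, 1, 6604, 6606], [237, 0, 5052, 6602, 6604], [0, 0], [0, 0], [0, 0], [0, 0], [0, 0], [0,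 0], [0, 0], [0, 0], [0, 0], [0, 0], [0, 0], [0, 0], [0, 0], [0, 0], [0, 0], [0, 0], [0, 0], [0, 0], [0, 0], [0, 0], [0, 0], [0, 0], [0, 0], [0, 0], [243, 29, 5972, 6090, 6085, 5731, 5730, 5729, 5473, 2347, 2309, 6640, 6642, 6644, 6646, 6648, 6650, 6652, 6654, 6656, 6658, 6660, 6662, 6664, 6666, 6668, 6670, 6672, 6674, 6676, 6678, 6680, 6682, 6684, 6686], [238, 2, 6688, 6313, 6287], [237, 1, 6339, 6331, 6640], [0, 0], [0, 0], [0, 0], [0, 0], [0, 0], [0, 0], [0, 0], [0, 0], [0, 0], [0, 0], [0, 0], [0, 0], [245, 19, 6674, 6676, 6678, 6679, 6677, 6675, 6673, 6671, 6669, 6667, 6666, 6668, 6670, 6672, 6674, 6676, 6678, 6680, 6682, 6684, 6686, 6688, 5972, 6090, 6085, 5731, 439, 2806, 791, 5766, 5786, 5785, 4720, 6694, 6696, 6698, 6700, 6702, 6704, 6706, 6708, 6710, 6712, 6714, 6716], [234, 2, 6718, 6673], [237, 1, 6641, 5038, 6694], [238, 2, 6339, 6328, 6694], [239, 1, 6345, 4709, 6694], [110, 2, 6697, 6726, 6346], [0, 0], [0, 0], [0, 0], [0, 0], [0, 0], [0, 0], [0, 0], [0, 0], [0, 0], [0, 0], [0, 0], [0, 0], [0, 0], [0, 0],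 [0, 0], [247, 18, 6687, 6685, 6683, 6681, 6679, 6677, 6675, 6719, 6717, 6715, 6713, 6711, 6709, 6707, 6705, 6703, 6701, 6699, 6697, 6695, 4721, 5784, 5787, 5767, 790, 2807, 438, 439, 2895, 2884, 6730, 6732, 6734, 6736, 6738, 6740, 6742, 6744, 6746, 6748, 6750, 6752, 6754, 6756, 6758], [234, 2, 6760, 6688], [238, 2, 6760, 6691, 6403], [242, 0, 6603, 5978, 6762], [30, 1, 6732, 6734], [237, 0, 5112, 6730, 6732], [240, 0, 6373, 5652, 6730], [97, 3, 6733, 6772, 6374], [98, 3, 6768, 6772, 6407, 6378], [5, 0, 6734, 6777], [6, 0, 6769, 6777], [10, 0, 6737, 6777], [46, 1, 6378, 6782], [109, 1, 6381, 6782, 6738], [239, 2, 6784, 6409, 5782], [0, 0], [0, 0], [0, 0], [0, 0], [0, 0]]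
def dJ17 : List (List ℕ) := [[0, 0], [0, 0], [0, 0], [0, 0], [0, 0], [0, 0], [0, 0], [0, 0], [0, 0], [0, 0], [0, 0], [0, 0], [0, 0], [0, 0], [0, 0], [0, 0], [0, 0], [0, 0], [0, 0], [243, 29, 5954, 6034, 6041, 3130, 3131, 3133, 5469, 2289, 2303, 6790, 6792, 6794, 6796, 6798, 6800, 6802, 6804, 6806, 6808, 6810, 6812, 6814, 6816, 6818, 6820, 6822, 6824, 6826, 6828, 6830, 6832, 6834, 6836], [237, 1, 6838, 6541, 6517], [238, 2, 6569, 6558, 6790], [0, 0], [0, 0], [0, 0], [0, 0], [0, 0], [0, 0], [0, 0], [0, 0], [0, 0], [0, 0], [0, 0], [0, 0], [245, 19, 6824, 6826, 6828, 6829, 6827, 6825, 6823, 6821, 6819, 6817, 6816, 6818, 6820, 6822, 6824, 6826, 6828, 6830, 6832, 6834, 6836, 6838, 5954, 6034, 6041, 3130, 451, 2816, 779, 5748, 5826, 5825, 4730, 6844, 6846, 6848, 6850, 6852, 6854, 6856, 6858, 6860, 6862, 6864, 6866], [234, 2, 6868, 6823], [237, 1, 6569, 6561, 6844], [238, 2, 6791, 5056, 6844], [240, 2, 6575, 4716, 6844], [109, 1, 6847, 6876, 6576], [0, 0], [0, 0], [0, 0], [0, 0], [0, 0], [0, 0], [0, 0], [0, 0], [0, 0], [0, 0],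 [0, 0], [0, 0], [0, 0], [0, 0], [0, 0], [247, 18, 6837, 6835, 6833, 6831, 6829, 6827, 6825, 6869, 6867, 6865, 6863, 6861, 6859, 6857, 6855, 6853, 6851, 6849, 6847, 6845, 4731, 5824, 5827, 5749, 778, 2817, 450, 451, 2907, 2898, 6880, 6882, 6884, 6886, 6888, 6890, 6892, 6894, 6896, 6898, 6900, 6902, 6904, 6906, 6908], [234, 2, 6910, 6838], [237, 1, 6910, 6841, 6633], [241, 3, 6373, 5959, 6912], [30, 1, 6882, 6884], [237, 2, 6918, 6881, 5662], [239, 3, 6603, 5666, 6880], [97, 1, 6887, 6918, 6922, 6637], [7, 0, 6889, 6925], [9, 0, 6886, 6925], [98, 0, 6883, 6922, 6604], [45, 1, 6609, 6928], [240, 1, 5169, 6920, 6932], [110, 2, 6611, 6609, 6926], [0, 0], [0, 0], [0, 0], [0, 0], [0, 0], [0, 0], [0, 0], [0, 0], [0, 0], [0, 0], [0, 0], [0, 0], [0, 0], [0, 0], [0, 0], [0, 0], [0, 0], [0, 0], [0, 0], [0, 0], [0, 0], [0, 0], [0, 0], [243, 29, 1800, 2138, 2883, 2894, 2895, 2892, 5651, 4765, 4707, 6694, 6938, 6940, 6942, 6944, 6946, 6948, 6950, 6952, 6954, 6956, 6958, 6960, 6962, 6964, 6966, 6968, 6970, 6972, 6974, 6976, 6978, 6980,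 6982], [237, 1, 6984, 6311, 6287], [238, 2, 6984, 5987, 6689], [38, 1, 6697, 6938], [0, 0], [0, 0], [0, 0], [0, 0], [0, 0], [0, 0], [0, 0], [0, 0], [0, 0], [0, 0], [0, 0], [0, 0], [245, 19, 6970, 6972, 6974, 6975, 6973, 6971, 6969, 6967, 6965, 6963, 6962, 6964, 6966, 6968, 6970, 6972, 6974, 6976, 6978, 6980, 6982, 6984, 1800, 2138, 2883, 2894, 441, 407, 419, 5730, 5732, 4773, 4722, 6992, 6994, 6996, 6998, 7000, 7002, 7004, 7006, 7008, 7010, 7012, 7014], [234, 2, 7016, 6969], [239, 1, 6695, 4724, 6992], [240, 2, 6345, 4726, 6992], [109, 1, 6995, 7022, 6346], [111, 2, 6697, 7021, 7022, 6346, 7024], [0, 0], [0, 0], [0, 0], [0, 0], [0, 0], [0, 0], [0, 0], [0, 0], [0, 0], [0, 0], [0, 0], [0, 0], [0, 0], [0, 0], [0, 0], [0, 0], [247, 18, 6983, 6981, 6979, 6977, 6975, 6973, 6971, 7017, 7015, 7013, 7011, 7009, 7007, 7005, 7003, 7001, 6999, 6997, 6995, 6993, 4723, 4772, 5733, 5731, 418, 406, 440, 441, 6194, 7028, 7030, 7032, 7034, 7036, 7038, 7040, 7042, 7044, 7046, 7048, 7050, 7052, 7054, 7056, 7058], [234, 2, 7060, 6984], [237,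 1, 7060, 6987, 6403], [238, 2, 7060, 6989, 6761], [30, 1, 7032, 7034], [38, 1, 6292, 7028], [109, 3, 5733, 6213, 7028], [110, 0, 2885, 6214, 7028], [207, 6, 5789, 5783, 5342, 5339, 5058, 6301, 6292, 7028], [30, 2, 7076, 5789], [238, 3, 7033, 7031, 7076], [237, 0, 6789, 5788, 7080, 7034], [5, 0, 7034, 7082], [6, 0, 7069, 7082], [9, 0, 7037, 7082, 6784], [7, 0, 7039, 7089], [240, 0, 6770, 5114, 7080], [45, 2, 7092, 6775], [98, 2, 7032, 7092, 6733], [100, 4, 6374, 7094, 7092, 6733, 7096], [109, 1, 6739, 6784, 7090], [110, 2, 6381, 6379, 7090], [0, 0], [0, 0], [0, 0], [0, 0], [0, 0], [0, 0], [0, 0], [0, 0], [0, 0], [0, 0], [0, 0], [0, 0], [0, 0], [0, 0], [0, 0], [0, 0], [0, 0], [0, 0], [0, 0], [0, 0], [0, 0], [0, 0], [0, 0], [243, 29, 1810, 2148, 2897, 2906, 2907, 5352, 5620, 4775, 4713, 6844, 7104, 7106, 7108, 7110, 7112, 7114, 7116, 7118, 7120, 7122, 7124, 7126, 7128, 7130, 7132, 7134, 7136, 7138, 7140, 7142, 7144, 7146, 7148], [237, 1, 7150, 5964, 6839], [238, 2, 7150, 6543, 6517], [38, 1, 6847, 7104], [0, 0], [0, 0],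 [0, 0], [0, 0], [0, 0], [0, 0], [0, 0], [0, 0], [0, 0], [0, 0], [0, 0], [0, 0], [245, 19, 7136, 7138, 7140, 7141, 7139, 7137, 7135, 7133, 7131, 7129, 7128, 7130, 7132, 7134, 7136, 7138, 7140, 7142, 7144, 7146, 7148, 7150, 1810, 2148, 2897, 2906, 453, 415, 427, 3131, 5674, 4799, 4732, 7158, 7160, 7162, 7164, 7166, 7168, 7170, 7172, 7174, 7176, 7178, 7180], [234, 2, 7182, 7135], [239, 1, 6575, 4736, 7158], [240, 2, 6845, 4734, 7158], [109, 1, 7161, 7188, 6846], [111, 2, 6577, 7187, 7188, 6846, 7190], [0, 0], [0, 0], [0, 0]]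
def dJ18 : List (List ℕ) := [[0, 0], [0, 0], [0, 0], [0, 0], [0, 0], [0, 0], [0, 0], [0, 0], [0, 0], [0, 0], [0, 0], [0, 0], [0, 0], [247, 18, 7149, 7147, 7145, 7143, 7141, 7139, 7137, 7183, 7181, 7179, 7177, 7175, 7173, 7171, 7169, 7167, 7165, 7163, 7161, 7159, 4733, 4798, 5675, 3130, 426, 414, 452, 453, 6426, 7194, 7196, 7198, 7200, 7202, 7204, 7206, 7208, 7210, 7212, 7214, 7216, 7218, 7220, 7222, 7224], [234, 2, 7226, 7150], [237, 1, 7226, 7153, 6911], [238, 2, 7226, 7155, 6633], [30, 1, 7198, 7200], [38, 1, 6522, 7194], [109, 3, 2899, 6445, 7194], [110, 0, 5675, 6446, 7194], [207, 6, 5836, 5169, 5693, 5690, 5636, 6531, 6522, 7194], [30, 2, 7242, 5836], [238, 3, 7199, 7197, 7242], [237, 0, 6934, 5837, 7246, 7200], [5, 0, 7200, 7248], [6, 0, 7235, 7248], [9, 0, 7203, 7248, 6933], [7, 0, 7205, 7255], [240, 0, 6638, 5834, 7246], [45, 2, 7258, 6930], [98, 2, 7198, 7258, 6605], [100, 4, 6882, 7260, 7258, 6605, 7262], [109, 1, 6611, 6933, 7256], [110, 2, 6927, 6928, 7256], [0, 0], [0, 0], [233, 2, 7270, 7272], [235, 3, 7274,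 746, 7275], [237, 3, 7274, 3069, 6431], [239, 3, 7274, 784, 2590], [240, 0, 7274, 763, 5623], [241, 3, 7274, 744, 7275], [242, 0, 7272, 7284, 7273], [239, 3, 5306, 7282, 7273], [46, 2, 7288, 5744], [97, 2, 7288, 1774, 6445], [98, 1, 7288, 1753, 6456], [185, 2, 7288, 1753, 1749, 7289], [209, 1, 7288, 1858, 5374, 7289], [0, 0], [0, 0], [0, 0], [0, 0], [0, 0], [0, 0], [0, 0], [0, 0], [0, 0], [0, 0], [0, 0], [0, 0], [0, 0], [0, 0], [0, 0], [0, 0], [0, 0], [0, 0], [0, 0], [0, 0], [0, 0], [0, 0], [0, 0], [0, 0], [0, 0], [0, 0], [0, 0], [0, 0], [0, 0], [0, 0], [243, 32, 7271, 7270, 7272, 7300, 7302, 7304, 7306, 7308, 7310, 7312, 7314, 7316, 7318, 7320, 7322, 7324, 7326, 7328, 7330, 7332, 7334, 7336, 7338, 7340, 7342, 7344, 7346, 7348, 7350, 7352, 7354, 7356, 7358], [109, 1, 7360, 7288, 5375], [117, 1, 7360, 7299, 7361], [201, 1, 7360, 7295, 6457, 1888], [202, 3, 7360, 7291, 5741, 6040], [225, 2, 7360, 7299, 7286, 7361], [78, 0, 7358, 7370, 7359], [193, 0, 6028, 7368, 7370, 7359], [29, 2, 7374, 5968], [98, 0, 7374, 5967, 6541],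 [109, 2, 7356, 7379, 6544, 7378], [3, 0, 7359, 7380], [5, 0, 7375, 7380], [6, 0, 7376, 7380], [7, 0, 7356, 7380], [10, 0, 7378, 7380], [13, 0, 7381, 7373, 7380], [240, 2, 6516, 7391, 7355], [110, 0, 7352, 7394, 6515], [202, 1, 6836, 6841, 6515, 7396], [70, 2, 7350, 7398, 6835], [218, 4, 7392, 7382, 7364, 7383], [242, 2, 7354, 7392, 7355], [210, 1, 7391, 7402, 7390, 6544], [109, 1, 2081, 7280, 7300], [110, 2, 4811, 7282, 7300], [201, 1, 5468, 2115, 7280, 7300], [29, 2, 7412, 5811], [69, 3, 7303, 7412, 2289], [70, 3, 7412, 2171, 7244], [71, 5, 5790, 7414, 7412, 2289, 7416], [73, 0, 7303, 7412, 2289, 2290, 7244], [97, 1, 7420, 4735, 6560], [201, 2, 7305, 7420, 4735, 4731, 7421], [8, 0, 7304, 7427], [15, 0, 7307, 7427], [237, 1, 7431, 7420, 7158], [98, 2, 6873, 7189, 7432], [110, 0, 7309, 7434, 6470], [202, 1, 6793, 6842, 6470, 7436], [70, 2, 7311, 7438, 6794], [209, 1, 7425, 6572, 6566, 7424], [0, 0], [0, 0], [0, 0], [0, 0], [0, 0], [0, 0], [0, 0], [0, 0], [0, 0], [0, 0], [0, 0], [0, 0], [245, 19, 7340, 7342, 7344, 7345,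 7343, 7341, 7339, 7337, 7335, 7333, 7332, 7334, 7336, 7338, 7340, 7342, 7344, 7346, 7348, 7350, 7352, 7354, 7389, 7382, 7360, 7271, 759, 998, 1009, 1745, 1912, 2291, 2318, 7444, 7446, 7448, 7450, 7452, 7454, 7456, 7458, 7460, 7462, 7464, 7466], [234, 2, 7468, 7339], [237, 1, 6575, 5048, 7444], [239, 1, 6791, 2320, 7444], [202, 3, 7447, 7474, 6875, 6846], [70, 0, 6849, 7476, 7448], [0, 0], [0, 0], [0, 0], [0, 0], [0, 0], [0, 0], [0, 0], [0, 0], [0, 0], [0, 0], [0, 0], [247, 18, 7353, 7351, 7349, 7347, 7345, 7343, 7341, 7469, 7467, 7465, 7463, 7461, 7459, 7457, 7455, 7453, 7451, 7449, 7447, 7445, 2319, 2290, 1913, 1744, 1008, 999, 758, 759, 1754, 5373, 6639, 6606, 6636, 7262, 7480, 7482, 7484, 7486, 7488, 7490, 7492, 7494, 7496, 7498, 7500], [234, 2, 7502, 7354], [239, 1, 7502, 7394, 6633], [241, 1, 7502, 7404, 7503], [109, 3, 6630, 7506, 7501], [201, 3, 7510, 6630, 6914, 6909], [69, 1, 6906, 7512, 7499], [201, 1, 6927, 6636, 7262, 7480], [69, 3, 7483, 7516, 6890], [0, 0], [233, 2, 6221, 7520], [235, 3, 7522, 754, 7523],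 [238, 0, 7522, 3077, 6199], [239, 3, 7522, 770, 4582], [240, 0, 7522, 796, 3074], [241, 3, 7522, 752, 7523], [209, 1, 6457, 1838, 2091, 7530], [0, 0], [237, 2, 6179, 6221, 7536], [235, 1, 7538, 6182, 7539], [238, 2, 7538, 6180, 6194], [239, 1, 7538, 6186, 5713], [240, 2, 7538, 6184, 1397], [241, 1, 7538, 6189, 7539], [209, 1, 7283, 4760, 5709, 7544], [0, 0], [0, 0], [0, 0], [0, 0], [0, 0], [0, 0], [0, 0], [0, 0], [0, 0], [0, 0], [0, 0], [0, 0], [0, 0], [0, 0], [0, 0], [0, 0], [0, 0], [0, 0], [0, 0], [0, 0], [0, 0], [0, 0], [0, 0], [0, 0]]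
def dJ19 : List (List ℕ) := [[0, 0], [0, 0], [0, 0], [0, 0], [0, 0], [0, 0], [243, 32, 6220, 6221, 7520, 7552, 7554, 7556, 7558, 7560, 7562, 7564, 7566, 7568, 7570, 7572, 7574, 7576, 7578, 7580, 7582, 7584, 7586, 7588, 7590, 7592, 7594, 7596, 7598, 7600, 7602, 7604, 7606, 7608, 7610], [109, 1, 7612, 6225, 6134], [110, 2, 7612, 6227, 5339], [117, 1, 7612, 6231, 7613], [202, 3, 7612, 6227, 1400, 1878], [225, 2, 7612, 6231, 6228, 7613], [78, 0, 7610, 7622, 7611], [193, 0, 1881, 7620, 7622, 7611], [29, 2, 7626, 5988], [97, 3, 7626, 1786, 6311], [201, 1, 7626, 1784, 6311, 7630, 7609], [3, 0, 7611, 7633], [5, 0, 7627, 7633], [6, 0, 7628, 7633], [7, 0, 7608, 7633], [9, 0, 7630, 7633], [13, 0, 7632, 7625, 7633], [218, 4, 7644, 7634, 7618, 7635], [242, 2, 7606, 7644, 7607], [209, 1, 7643, 7646, 7641, 7642], [240, 2, 7606, 7642, 6287], [110, 0, 6284, 7652, 7605], [109, 1, 5185, 7528, 7552], [110, 2, 2091, 7530, 7552], [201, 1, 5773, 4590, 7528, 7552], [202, 3, 5472, 6204, 7526, 7552], [69, 2, 7662, 2355, 7077], [70, 0, 7555, 7662,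 2347], [72, 1, 5768, 7661, 7662, 2347, 7666], [73, 3, 7664, 7662, 2355, 2299, 7666], [97, 3, 7668, 4725, 6329], [201, 1, 7668, 4720, 6329, 7672, 7556], [8, 0, 7556, 7674], [15, 0, 7559, 7674], [238, 2, 7679, 7668, 6992], [98, 0, 6725, 7021, 7680], [109, 3, 7561, 7682, 6240], [209, 3, 7676, 7673, 6343, 7672], [0, 0], [0, 0], [0, 0], [0, 0], [0, 0], [0, 0], [0, 0], [0, 0], [0, 0], [0, 0], [0, 0], [0, 0], [245, 19, 7592, 7594, 7596, 7597, 7595, 7593, 7591, 7589, 7587, 7585, 7584, 7586, 7588, 7590, 7592, 7594, 7596, 7598, 7600, 7602, 7604, 7606, 7641, 7634, 7612, 6220, 767, 984, 993, 1397, 1886, 2299, 2328, 7688, 7690, 7692, 7694, 7696, 7698, 7700, 7702, 7704, 7706, 7708, 7710], [234, 2, 7712, 7591], [238, 2, 6345, 5638, 7688], [240, 2, 6641, 2330, 7688], [201, 1, 7691, 7716, 6727, 6696], [69, 3, 6699, 7720, 7692], [185, 3, 7722, 6699, 6729, 6348], [109, 1, 6351, 7724, 7694], [240, 2, 7697, 7726, 6352], [110, 0, 6355, 7728, 7698], [0, 0], [0, 0], [0, 0], [0, 0], [0, 0], [0, 0], [0, 0], [0, 0], [0, 0], [0, 0], [0, 0], [247,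 18, 7605, 7603, 7601, 7599, 7597, 7595, 7593, 7713, 7711, 7709, 7707, 7705, 7703, 7701, 7699, 7697, 7695, 7693, 7691, 7689, 2329, 2298, 1887, 1396, 992, 985, 766, 767, 1023, 5343, 6408, 6406, 6374, 6774, 7732, 7734, 7736, 7738, 7740, 7742, 7744, 7746, 7748, 7750, 7752], [234, 2, 7754, 7606], [240, 2, 7754, 7653, 6403], [241, 1, 7754, 7648, 7755], [110, 0, 6400, 7758, 7753], [202, 3, 6739, 6783, 6778, 7732], [70, 0, 7735, 7764, 6740], [186, 1, 6383, 6787, 6740, 7766], [110, 2, 7737, 7768, 6384], [239, 1, 6387, 7770, 7738], [109, 3, 7741, 7772, 6388], [0, 0], [0, 0], [0, 0], [0, 0], [0, 0], [0, 0], [0, 0], [0, 0], [0, 0], [0, 0], [0, 0], [0, 0], [0, 0], [0, 0], [0, 0], [0, 0], [0, 0], [0, 0], [0, 0], [0, 0], [0, 0], [0, 0], [0, 0], [243, 29, 1790, 1852, 5374, 1755, 1754, 5306, 4810, 5161, 4731, 7158, 7776, 7778, 7780, 7782, 7784, 7786, 7788, 7790, 7792, 7794, 7796, 7798, 7800, 7802, 7804, 7806, 7808, 7810, 7812, 7814, 7816, 7818, 7820], [238, 2, 7822, 7387, 7355], [239, 1, 7822, 1795, 7151], [109, 3, 7148, 7826, 7821],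 [201, 3, 7828, 7148, 7155, 6515], [69, 1, 6512, 7830, 7819], [185, 1, 7350, 7397, 7830, 7819], [98, 2, 7833, 7834, 7401], [109, 3, 7816, 7834, 7349], [201, 3, 7838, 7816, 7832, 6511], [240, 0, 7346, 7838, 7815], [110, 2, 7812, 7842, 7345], [238, 0, 6508, 7840, 7347], [202, 3, 7812, 7842, 7846, 6507], [70, 0, 6504, 7848, 7811], [186, 1, 7342, 7844, 7811, 7850], [110, 2, 6502, 7852, 7341], [239, 1, 7468, 7854, 6599], [240, 0, 7338, 7854, 6501], [109, 3, 6498, 7858, 7337], [109, 3, 6596, 7856, 7467], [110, 0, 6832, 7836, 6511], [239, 3, 6508, 7864, 6831], [109, 1, 6828, 7866, 6507], [97, 2, 7844, 7849, 7868], [70, 0, 6826, 7870, 7343], [202, 3, 6502, 7852, 7872, 6825], [237, 1, 6868, 7874, 6599], [238, 0, 6822, 7874, 6501], [201, 3, 7860, 6498, 7878, 6821], [69, 1, 6818, 7880, 7335], [201, 3, 7862, 6596, 7876, 6867], [69, 1, 6864, 7884, 7465], [38, 1, 7161, 7776], [109, 3, 7105, 7189, 7776], [201, 3, 7890, 7105, 6872, 6470], [69, 1, 6473, 7892, 7778], [185, 1, 7311, 7437, 7892, 7778], [98, 2, 7895, 7896, 7441], [109, 3,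 7781, 7896, 7312], [201, 3, 7900, 7781, 7894, 6474], [240, 0, 7315, 7900, 7782], [110, 2, 7785, 7904, 7316], [238, 0, 6477, 7902, 7314], [202, 3, 7785, 7904, 7908, 6478], [70, 0, 6481, 7910, 7786], [186, 1, 7319, 7906, 7786, 7912], [110, 2, 6483, 7914, 7320], [240, 0, 7323, 7916, 6484], [109, 3, 6487, 7918, 7324], [110, 0, 6797, 7898, 6474], [239, 3, 6477, 7922, 6798], [109, 1, 6801, 7924, 6478], [97, 2, 7906, 7911, 7926], [70, 0, 6803, 7928, 7318], [202, 3, 6483, 7914, 7930, 6804], [238, 0, 6807, 7932, 6484], [201, 3, 7920, 6487, 7934, 6808], [69, 1, 6811, 7936, 7326], [0, 0], [0, 0], [0, 0], [0, 0], [0, 0], [0, 0], [0, 0], [0, 0], [0, 0], [0, 0], [0, 0], [0, 0], [245, 19, 7808, 7810, 7812, 7813, 7811, 7809, 7807, 7805, 7803, 7801, 7800, 7802, 7804, 7806, 7808, 7810, 7812, 7814, 7816, 7818, 7820, 7822, 1790, 1852, 5374, 1755, 779, 3056, 451, 2907, 2898, 5664, 2302, 7940, 7942, 7944, 7946, 7948, 7950, 7952, 7954, 7956, 7958, 7960, 7962], [234, 2, 7964, 7807], [238, 2, 7431, 7417, 7940], [239, 1, 7445, 2323, 7940], [240,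 2, 6791, 2304, 7940], [110, 2, 7943, 7970, 7446], [202, 3, 7943, 7970, 7472, 6576], [70, 0, 6579, 7976, 7944], [186, 1, 7449, 7974, 7944, 7978], [110, 2, 6581, 7980, 7450], [202, 3, 6581, 7980, 7478, 6850], [237, 1, 6853, 7984, 6582], [239, 1, 7453, 7982, 6582], [109, 3, 6585, 7988, 7454], [201, 3, 7990, 6585, 7986, 6854], [69, 1, 6857, 7992, 7456], [0, 0], [0, 0]]
def dJ20 : List (List ℕ) := [[0, 0], [0, 0], [0, 0], [0, 0], [0, 0], [0, 0], [0, 0], [0, 0], [0, 0], [247, 18, 7821, 7819, 7817, 7815, 7813, 7811, 7809, 7965, 7963, 7961, 7959, 7957, 7955, 7953, 7951, 7949, 7947, 7945, 7943, 7941, 2303, 5665, 2899, 2906, 450, 3057, 778, 779, 5748, 5826, 7246, 7251, 7252, 7264, 7996, 7998, 8000, 8002, 8004, 8006, 8008, 8010, 8012, 8014, 8016], [234, 2, 8018, 7822], [239, 1, 8018, 7827, 7227], [109, 3, 7224, 8022, 8017], [201, 3, 8024, 7224, 7233, 6631], [69, 1, 6628, 8026, 8015], [185, 1, 7498, 7510, 8026, 8015], [98, 2, 8029, 8030, 7514], [109, 3, 8012, 8030, 7497], [201, 3, 8034, 8012, 8028, 6627], [240, 0, 7494, 8034, 8011],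 [110, 2, 8008, 8038, 7493], [238, 0, 6624, 8036, 7495], [202, 3, 8008, 8038, 8042, 6623], [70, 0, 6620, 8044, 8007], [186, 1, 7490, 8040, 8007, 8046], [110, 2, 6618, 8048, 7489], [240, 0, 7486, 8050, 6617], [109, 3, 6614, 8052, 7485], [201, 1, 6893, 7518, 8054, 6614], [238, 2, 6617, 8056, 6894], [202, 1, 6897, 8058, 6618, 8048], [70, 2, 7491, 8060, 6898], [97, 1, 8062, 8040, 8045], [109, 3, 6623, 8064, 6900], [239, 1, 6903, 8066, 6624], [109, 1, 7481, 7264, 7996], [201, 1, 6611, 7252, 7264, 7996], [69, 3, 7999, 8072, 6612], [0, 0], [0, 0], [0, 0], [0, 0], [0, 0], [0, 0], [0, 0], [0, 0], [0, 0], [0, 0], [0, 0], [0, 0], [0, 0], [0, 0], [0, 0], [0, 0], [0, 0], [0, 0], [0, 0], [0, 0], [0, 0], [0, 0], [0, 0], [243, 29, 1784, 1842, 5338, 1022, 1023, 4581, 5184, 5142, 4721, 6992, 8076, 8078, 8080, 8082, 8084, 8086, 8088, 8090, 8092, 8094, 8096, 8098, 8100, 8102, 8104, 8106, 8108, 8110, 8112, 8114, 8116, 8118, 8120], [237, 1, 8122, 7637, 7607], [240, 2, 8122, 1786, 6985], [110, 0, 6982, 8126, 8121], [201, 3, 7655, 7604, 8124,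 8121], [69, 1, 8118, 8130, 6283], [185, 1, 6980, 8129, 8130, 6283], [109, 3, 6280, 8134, 6979], [201, 3, 8136, 6280, 8132, 8117], [240, 0, 6976, 8136, 6279], [110, 2, 6276, 8140, 6975], [238, 0, 8114, 8138, 6977], [202, 3, 6276, 8140, 8144, 8113], [70, 0, 8110, 8146, 6275], [186, 1, 6972, 8142, 6275, 8148], [110, 2, 8108, 8150, 6971], [240, 0, 6968, 8152, 8107], [109, 3, 8104, 8154, 6967], [38, 1, 6995, 8076], [110, 0, 6939, 7021, 8076], [201, 3, 7684, 7561, 7681, 8076], [69, 1, 8079, 8162, 6242], [185, 1, 6941, 8161, 8162, 6242], [109, 3, 6245, 8166, 6942], [201, 3, 8168, 6245, 8164, 8080], [240, 0, 6945, 8168, 6246], [110, 2, 6249, 8172, 6946], [238, 0, 8083, 8170, 6944], [202, 3, 6249, 8172, 8176, 8084], [70, 0, 8087, 8178, 6250], [186, 1, 6949, 8174, 6250, 8180], [110, 2, 8089, 8182, 6950], [240, 0, 6953, 8184, 8090], [109, 3, 8093, 8186, 6954], [0, 0], [0, 0], [0, 0], [0, 0], [0, 0], [0, 0], [0, 0], [0, 0], [0, 0], [0, 0], [0, 0], [0, 0], [245, 19, 8108, 8110, 8112, 8113, 8111, 8109, 8107, 8105, 8103, 8101, 8100,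 8102, 8104, 8106, 8108, 8110, 8112, 8114, 8116, 8118, 8120, 8122, 1784, 1842, 5338, 1022, 791, 3071, 439, 2895, 2884, 5669, 2308, 8190, 8192, 8194, 8196, 8198, 8200, 8202, 8204, 8206, 8208, 8210, 8212], [234, 2, 8214, 8107], [240, 2, 8214, 8153, 7017], [110, 0, 7014, 8218, 8213], [237, 1, 7679, 7667, 8190], [238, 2, 6993, 5645, 8190], [239, 1, 6641, 2313, 8190], [240, 2, 7689, 2333, 8190], [109, 1, 8193, 8228, 7690], [97, 2, 6728, 7720, 8230], [70, 0, 8195, 8232, 6348], [186, 1, 6997, 7025, 6348, 8234], [202, 3, 7695, 7725, 8234, 8196], [237, 1, 8199, 8238, 7696], [201, 3, 7731, 7699, 8240, 8200], [69, 1, 8203, 8242, 6356], [110, 2, 8197, 8236, 6998], [239, 1, 7001, 8246, 8198], [97, 2, 7728, 8240, 8248], [109, 3, 8201, 8248, 7002], [185, 1, 7005, 8252, 8242, 6356], [109, 3, 6359, 8254, 7006], [201, 3, 8256, 6359, 8244, 8204], [240, 0, 7009, 8256, 6360], [110, 2, 6363, 8260, 7010], [186, 0, 8220, 7013, 8262, 6364], [70, 2, 6364, 8264, 8211], [202, 1, 8208, 8266, 6363, 8260], [0, 0], [0, 0], [0, 0], [0, 0], [0, 0], [0,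 0], [0, 0], [0, 0], [0, 0], [0, 0], [0, 0], [247, 18, 8121, 8119, 8117, 8115, 8113, 8111, 8109, 8215, 8213, 8211, 8209, 8207, 8205, 8203, 8201, 8199, 8197, 8195, 8193, 8191, 2309, 5668, 2885, 2894, 438, 3070, 790, 791, 5766, 5786, 6788, 7086, 7032, 7095, 8270, 8272, 8274, 8276, 8278, 8280, 8282, 8284, 8286, 8288, 8290], [234, 2, 8292, 8122], [237, 1, 8292, 8125, 7755], [240, 2, 8292, 8127, 7061], [110, 0, 7058, 8298, 8291], [201, 3, 7763, 7752, 8296, 8291], [69, 1, 8288, 8302, 6399], [185, 1, 7056, 8301, 8302, 6399], [109, 3, 6396, 8306, 7055], [201, 3, 8308, 6396, 8304, 8287], [240, 0, 7052, 8308, 6395], [110, 2, 6392, 8312, 7051], [238, 0, 8284, 8310, 7053], [202, 3, 6392, 8312, 8316, 8283], [70, 0, 8280, 8318, 6391], [186, 1, 7048, 8314, 6391, 8320], [202, 3, 7740, 7775, 8320, 8279], [238, 0, 8276, 8324, 7739], [201, 3, 7769, 7736, 8326, 8275], [69, 1, 8272, 8328, 6383], [185, 3, 8328, 6383, 7103, 7040], [109, 1, 7043, 8332, 8274], [97, 2, 7770, 8326, 8334], [240, 2, 8277, 8334, 7044], [98, 1, 8338, 8324, 7772], [98,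 2, 7764, 6786, 8330], [0, 0], [0, 0], [0, 0], [0, 0], [0, 0], [0, 0], [0, 0], [0, 0], [0, 0], [0, 0], [0, 0], [0, 0], [0, 0], [0, 0], [0, 0], [0, 0], [0, 0], [0, 0], [0, 0], [0, 0], [0, 0], [0, 0], [0, 0], [243, 29, 5994, 6008, 5830, 5749, 5748, 5747, 2080, 2916, 2319, 7940, 8344, 8346, 8348, 8350, 8352, 8354, 8356, 8358, 8360, 8362, 8364, 8366, 8368, 8370, 8372, 8374, 8376, 8378, 8380, 8382, 8384, 8386, 8388], [237, 1, 8390, 7385, 7355], [238, 2, 8390, 5968, 7823], [239, 1, 8390, 5967, 6839], [109, 3, 6836, 8396, 8389]]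
def dJ21 : List (List ℕ) := [[185, 1, 8386, 8398, 7399, 7351], [201, 3, 8398, 6836, 7152, 7149], [69, 1, 7146, 8402, 8387], [185, 1, 7818, 7828, 8402, 8387], [98, 2, 8405, 8406, 7832], [100, 4, 7400, 8400, 8406, 7832, 8408], [109, 3, 8384, 8406, 7817], [111, 5, 7348, 8400, 8406, 7817, 8412], [97, 2, 8414, 7841, 7864], [240, 0, 8382, 8414, 7347], [45, 1, 7842, 8418], [98, 1, 7866, 7847, 8418], [110, 2, 7344, 8418, 8381], [112, 3, 8424, 7344, 8418, 8420, 7813], [186, 1, 8378, 8424, 7343, 7872], [110, 2, 6824, 8428, 8377], [98, 1, 8430, 7874, 7855], [240, 0, 8374, 8430, 6823], [109, 3, 6820, 8434, 8373], [185, 1, 8370, 8436, 7880, 7335], [109, 3, 7332, 8438, 8369], [201, 3, 8440, 7332, 7882, 6817], [239, 1, 8366, 8440, 7331], [110, 2, 7328, 8444, 8365], [202, 1, 6813, 7939, 7328, 8444], [186, 1, 8362, 8446, 7327, 7937], [110, 2, 6808, 8450, 8361], [239, 1, 8358, 8452, 6807], [109, 3, 6804, 8454, 8357], [185, 1, 8354, 8456, 7931, 7319], [45, 1, 7907, 8458], [109, 3, 7316, 8458, 8353], [111, 4, 8462, 7316, 8458, 8460, 7785],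 [239, 1, 7782, 8464, 8351], [45, 2, 8466, 7901], [110, 2, 8348, 8466, 7781], [112, 4, 7312, 8468, 8466, 7781, 8470], [186, 1, 8346, 8472, 7311, 7438], [202, 1, 7105, 6874, 6792, 8474], [70, 2, 8347, 8476, 7106], [201, 0, 8476, 7156, 7476, 7974], [97, 1, 8478, 8472, 7441], [98, 2, 8478, 8471, 7894], [202, 1, 7109, 8478, 8348, 8466], [97, 1, 7902, 7900, 8486], [99, 3, 8469, 7900, 8486, 8488, 7922], [100, 3, 7923, 7902, 8468, 8466, 8486], [237, 3, 7783, 8486, 7110], [98, 2, 8494, 7904, 7908], [99, 2, 8494, 8464, 8462, 7908, 7925], [100, 2, 7924, 8496, 8494, 7904, 8463], [201, 1, 7113, 8494, 8464, 8352], [69, 3, 8355, 8502, 7114], [98, 2, 7928, 8458, 8502], [201, 1, 7117, 8504, 8456, 6804], [29, 1, 7933, 8508], [237, 3, 6807, 8508, 7118], [30, 2, 8512, 7935], [202, 1, 7121, 8512, 6808, 8450], [70, 2, 8363, 8516, 7122], [97, 1, 8518, 8446, 7938], [109, 3, 6813, 8520, 7124], [240, 0, 7127, 8522, 6814], [110, 2, 6817, 8524, 7128], [98, 1, 8526, 7883, 8438], [69, 3, 8371, 8528, 7130], [201, 1, 7133, 8530, 8436, 6820], [29, 1,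 7878, 8532], [237, 3, 6871, 8532, 7184], [238, 2, 6823, 8532, 7134], [202, 1, 7137, 8538, 6824, 8428], [70, 2, 8379, 8540, 7138], [186, 1, 7810, 8426, 8379, 8540], [110, 2, 7136, 8544, 7809], [98, 1, 8546, 8538, 8431], [239, 1, 7964, 8546, 7183], [240, 0, 7806, 8546, 7135], [98, 1, 7859, 8535, 8552], [109, 3, 7132, 8552, 7805], [185, 1, 7802, 8556, 8530, 8371], [201, 3, 8556, 7132, 8534, 6499], [69, 1, 6496, 8560, 7803], [185, 1, 7334, 7860, 8560, 7803], [98, 2, 8563, 8564, 7882], [109, 3, 7800, 8564, 7333], [111, 5, 8368, 8558, 8564, 7333, 8568], [97, 2, 8570, 8443, 8524], [239, 1, 7798, 8570, 8367], [45, 1, 8444, 8574], [98, 1, 8522, 8449, 8574], [110, 2, 8364, 8574, 7797], [112, 3, 8580, 8364, 8574, 8576, 7329], [186, 0, 7921, 7326, 8582, 7795], [70, 2, 7795, 8584, 6488], [202, 0, 8584, 6487, 8514, 7120], [110, 2, 7120, 8588, 7793], [239, 1, 7790, 8590, 7119], [97, 2, 8455, 8508, 8592], [97, 1, 8586, 8580, 8519], [98, 2, 8586, 8583, 7938], [202, 1, 6491, 8586, 7796, 8576], [97, 1, 8449, 8445, 8600], [98, 2, 8579, 8576,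 8600], [237, 3, 7331, 8600, 6492], [97, 1, 8606, 8568, 8573], [98, 2, 8606, 8441, 8443], [237, 3, 7967, 8554, 7470], [97, 0, 7856, 8612, 8551], [109, 3, 7180, 8550, 7963], [201, 3, 8616, 7180, 8614, 6597], [69, 1, 6594, 8618, 7961], [185, 1, 7464, 7862, 8618, 7961], [98, 2, 8621, 8622, 7886], [109, 3, 7958, 8622, 7463], [201, 3, 8626, 7958, 8620, 6593], [239, 1, 7460, 8626, 7957], [110, 2, 7954, 8630, 7459], [186, 0, 7991, 7456, 8632, 7953], [70, 2, 7953, 8634, 6586], [98, 2, 8636, 8633, 7994], [202, 1, 6589, 8636, 7954, 8630], [110, 0, 6859, 8638, 6588], [239, 3, 6591, 8642, 6860], [97, 1, 8542, 8424, 7871], [202, 1, 7141, 8542, 8380, 8420], [97, 1, 7847, 7843, 8648], [98, 2, 8423, 8420, 8648], [238, 2, 7815, 8648, 7142], [97, 1, 8654, 8412, 8417], [0, 0], [0, 0], [0, 0], [0, 0], [0, 0], [0, 0], [0, 0], [0, 0], [0, 0], [0, 0], [0, 0], [245, 19, 8376, 8378, 8380, 8381, 8379, 8377, 8375, 8373, 8371, 8369, 8368, 8370, 8372, 8374, 8376, 8378, 8380, 8382, 8384, 8386, 8388, 8390, 5994, 6008, 5830, 5749, 781, 747, 759, 1754,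 5373, 2986, 2316, 6790, 8658, 8660, 8662, 8664, 8666, 8668, 8670, 8672, 8674, 8676, 8678], [234, 2, 8680, 8375], [237, 1, 8680, 8433, 7469], [238, 2, 8680, 8548, 7965], [239, 1, 8680, 8430, 6869], [109, 3, 6866, 8688, 8679], [185, 1, 8676, 8690, 7884, 7465], [201, 3, 8690, 6866, 8537, 7181], [69, 1, 7178, 8694, 8677], [185, 1, 7960, 8616, 8694, 8677], [98, 2, 8697, 8698, 8620], [100, 4, 7887, 8692, 8698, 8620, 8700], [109, 3, 8674, 8698, 7959], [111, 5, 7462, 8692, 8698, 7959, 8704], [97, 2, 8706, 8629, 8645], [239, 1, 8672, 8706, 7461], [45, 1, 8630, 8710], [98, 1, 8643, 8641, 8710], [110, 2, 7458, 8710, 8671], [112, 3, 8716, 7458, 8710, 8712, 7955], [186, 1, 8668, 8716, 7457, 7993], [110, 2, 6854, 8720, 8667], [98, 1, 8722, 7987, 7988], [240, 0, 8664, 8722, 6853], [97, 2, 7982, 7985, 8726], [109, 3, 6850, 8726, 8663], [185, 1, 8660, 8730, 7479, 7449], [45, 1, 7975, 8732], [98, 1, 7191, 7476, 8732], [116, 2, 6793, 7475, 7971, 8344, 8481, 7975, 8732], [69, 3, 8661, 8736, 7162], [185, 3, 8740, 8661, 8734, 7944], [201,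 1, 7165, 8740, 8730, 6850], [29, 1, 7985, 8744], [238, 2, 6853, 8744, 7166], [30, 2, 8748, 7987], [202, 1, 7169, 8748, 6854, 8720], [70, 2, 8669, 8752, 7170], [186, 1, 7952, 8718, 8669, 8752], [110, 2, 7168, 8756, 7951], [97, 2, 8758, 8751, 7988], [98, 1, 8758, 8748, 8723], [240, 0, 7948, 8758, 7167], [98, 1, 7982, 8747, 8764], [98, 2, 8754, 8719, 8637], [202, 1, 7173, 8754, 8670, 8712], [97, 1, 8641, 8631, 8770], [98, 2, 8715, 8712, 8770], [237, 3, 7957, 8770, 7174], [97, 1, 8776, 8704, 8709], [98, 2, 8776, 8627, 8629], [0, 0], [0, 0], [0, 0], [0, 0], [0, 0], [0, 0], [0, 0], [0, 0], [0, 0]]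
def dJ22 : List (List ℕ) := [[0, 0], [0, 0], [0, 0], [0, 0], [0, 0], [0, 0], [0, 0], [247, 18, 8389, 8387, 8385, 8383, 8381, 8379, 8377, 8681, 8679, 8677, 8675, 8673, 8671, 8669, 8667, 8665, 8663, 8661, 8659, 6791, 2317, 2987, 5372, 1755, 758, 746, 780, 781, 7270, 8782, 8784, 8786, 8788, 8790, 8792, 8794, 8796, 8798, 8800, 8802, 8804, 8806, 8808, 8810, 8812], [234, 2, 8814, 8390], [237, 1, 8814, 8393, 7503], [238, 2, 8814, 8395, 8019], [239, 1, 8814, 8397, 6911], [109, 3, 6908, 8822, 8813], [185, 1, 8810, 8824, 7512, 7499], [201, 3, 8824, 6908, 7230, 7225], [69, 1, 7222, 8828, 8811], [185, 1, 8014, 8024, 8828, 8811], [98, 2, 8831, 8832, 8028], [100, 4, 7515, 8826, 8832, 8028, 8834], [109, 3, 8808, 8832, 8013], [111, 5, 7496, 8826, 8832, 8013, 8838], [97, 2, 8840, 8037, 8068], [240, 0, 8806, 8840, 7495], [45, 1, 8038, 8844], [98, 1, 8066, 8043, 8844], [110, 2, 7492, 8844, 8805], [112, 3, 8850, 7492, 8844, 8846, 8009], [186, 1, 8802, 8850, 7491, 8060], [110, 2, 6896, 8854, 8801], [98, 1, 8856, 8058, 8051], [240, 0, 8798,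 8856, 6895], [109, 3, 6892, 8860, 8797], [185, 1, 8794, 8862, 7518, 7483], [45, 1, 8070, 8864], [98, 1, 7268, 7517, 8864], [109, 3, 7262, 7480, 8864, 8793], [7, 0, 8793, 8870], [10, 0, 8790, 8870, 6923], [6, 0, 8788, 8875, 6919], [6, 0, 8786, 8877, 6885], [15, 0, 8784, 8879], [237, 1, 6880, 6882, 8880], [238, 2, 6920, 6885, 8880], [240, 2, 6639, 6930, 8880], [110, 1, 8886, 5376, 7362], [186, 2, 8886, 1863, 5050, 6549], [191, 5, 8886, 5834, 5836, 2291, 2288, 5065, 6549, 6464], [209, 1, 8886, 1856, 5373, 8887], [217, 4, 8894, 8893, 6572, 8892], [242, 0, 8880, 8896, 8881], [69, 3, 8795, 8868, 7206], [185, 3, 8900, 8795, 8866, 7998], [201, 1, 7209, 8900, 8862, 6892], [29, 1, 8056, 8904], [238, 2, 6895, 8904, 7210], [30, 2, 8908, 8058], [202, 1, 7213, 8908, 6896, 8854], [70, 2, 8803, 8912, 7214], [186, 1, 8006, 8852, 8803, 8912], [110, 2, 7212, 8916, 8005], [97, 2, 8918, 8911, 8051], [98, 1, 8918, 8908, 8857], [240, 0, 8002, 8918, 7211], [97, 2, 8861, 8904, 8924], [98, 1, 8053, 8907, 8924], [97, 1, 8914, 8850, 8063], [202,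 1, 7217, 8914, 8804, 8846], [97, 1, 8043, 8039, 8932], [98, 2, 8849, 8846, 8932], [238, 2, 8011, 8932, 7218], [97, 1, 8938, 8838, 8843], [98, 2, 8938, 8035, 8037], [0, 0], [0, 0], [0, 0], [0, 0], [0, 0], [0, 0], [0, 0], [0, 0], [0, 0], [0, 0], [0, 0], [0, 0], [0, 0], [0, 0], [0, 0], [0, 0], [0, 0], [0, 0], [0, 0], [0, 0], [0, 0], [0, 0], [0, 0], [243, 29, 6014, 6126, 6135, 5767, 5766, 5765, 2090, 2920, 2329, 8190, 8944, 8946, 8948, 8950, 8952, 8954, 8956, 8958, 8960, 8962, 8964, 8966, 8968, 8970, 8972, 8974, 8976, 8978, 8980, 8982, 8984, 8986, 8988], [237, 1, 8990, 5989, 8123], [238, 2, 8990, 7639, 7607], [240, 2, 8990, 5976, 6689], [110, 0, 6686, 8996, 8989], [202, 1, 7604, 8994, 8989, 8998], [70, 2, 6684, 9000, 7603], [186, 3, 6684, 9000, 7654, 6283], [46, 1, 8135, 9004], [97, 1, 8133, 9004, 9003], [110, 0, 6280, 9004, 6683], [112, 0, 9010, 6280, 9004, 9006, 6979], [239, 3, 6976, 9012, 6681], [46, 2, 9014, 8141], [109, 1, 6678, 9014, 6975], [111, 2, 6276, 9016, 9014, 6975, 9018], [202, 1, 7600, 9002, 6683, 9010], [97,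 1, 8138, 8136, 9022], [237, 3, 6278, 9022, 7599], [98, 2, 9026, 8140, 8144], [201, 1, 7596, 9026, 9016, 6679], [69, 3, 6676, 9030, 7595], [97, 1, 8146, 9021, 9030], [185, 3, 9032, 6676, 9020, 6275], [109, 1, 6272, 9036, 7593], [201, 1, 8108, 8149, 9036, 7593], [97, 2, 9039, 9040, 8153], [237, 3, 7590, 9040, 8107], [238, 2, 7712, 9040, 8215], [202, 0, 8264, 8212, 9046, 7711], [110, 2, 7711, 9048, 6366], [97, 2, 9050, 9047, 8219], [239, 1, 6370, 9050, 7715], [109, 3, 7588, 9054, 6269], [201, 3, 9056, 7588, 9045, 8105], [69, 1, 8102, 9058, 6267], [185, 1, 6964, 8156, 9058, 6267], [109, 3, 6264, 9062, 6963], [201, 3, 9064, 6264, 9060, 8101], [239, 1, 6960, 9064, 6263], [110, 2, 6260, 9068, 6959], [186, 0, 8189, 6956, 9070, 6259], [70, 2, 6259, 9072, 8094], [202, 1, 8097, 9074, 6260, 9068], [186, 0, 8998, 6685, 9006, 6980], [70, 2, 6980, 9078, 8987], [97, 1, 9080, 8135, 8132], [202, 1, 8984, 9080, 6979, 9012], [98, 2, 8138, 9012, 9084], [237, 3, 6680, 9084, 8983], [98, 2, 9088, 9017, 9027], [201, 1, 8980, 9088, 9014, 6975],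 [69, 3, 6972, 9092, 8979], [97, 1, 9031, 9019, 9092], [98, 2, 8146, 8143, 9092], [185, 3, 9094, 6972, 9018, 6677], [201, 1, 8976, 9094, 8151, 8109], [29, 1, 9040, 9102], [237, 3, 8106, 9102, 8975], [30, 2, 9106, 9044], [202, 1, 8972, 9106, 8105, 8157], [70, 2, 6964, 9110, 8971], [97, 1, 9112, 9063, 9060], [109, 3, 8100, 9114, 8969], [239, 1, 8966, 9116, 8099], [110, 2, 8096, 9118, 8965], [98, 1, 9120, 9074, 9071], [69, 3, 6956, 9122, 8963], [201, 1, 8960, 9124, 8188, 8093], [238, 2, 8090, 9126, 8959], [202, 1, 8956, 9128, 8089, 8182], [70, 2, 6948, 9130, 8955], [97, 1, 9132, 8174, 8179], [109, 3, 8084, 9134, 8953], [239, 1, 8950, 9136, 8083], [110, 2, 8080, 9138, 8949], [98, 1, 9140, 8165, 8166], [69, 3, 6940, 9142, 8947], [202, 2, 9144, 6990, 6729, 8233], [109, 1, 6674, 9100, 8977], [98, 1, 9039, 9105, 9148], [239, 3, 8974, 9148, 6673], [97, 2, 9152, 9109, 9054], [98, 1, 9152, 9106, 8154], [110, 0, 6670, 9152, 8973], [186, 3, 6964, 9110, 9158, 6669], [202, 1, 7588, 9108, 8973, 9158], [70, 2, 6668, 9162, 7587], [186,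 3, 6668, 9162, 9057, 6267], [97, 1, 9061, 9166, 9165], [110, 0, 6264, 9166, 6667], [112, 0, 9170, 6264, 9166, 9160, 6963], [240, 2, 6960, 9172, 6665], [46, 2, 9174, 9069], [97, 2, 9174, 9076, 9118], [109, 1, 6662, 9174, 6959], [111, 2, 6260, 9176, 9174, 6959, 9180], [185, 3, 9124, 6956, 9180, 6661], [109, 1, 6658, 9184, 8961], [97, 2, 8187, 9126, 9186], [240, 2, 8958, 9186, 6657], [110, 0, 6654, 9190, 8957], [186, 3, 6948, 9130, 9192, 6653], [46, 2, 9194, 8174], [110, 0, 6650, 9194, 6947]]
def dJ23 : List (List ℕ) := [[112, 1, 6248, 9196, 9194, 6947, 9198], [240, 2, 6648, 9200, 6247], [46, 1, 8168, 9202], [109, 1, 6244, 9202, 6647], [111, 1, 9206, 6244, 9202, 9204, 6943], [185, 3, 9144, 6940, 9208, 6645], [201, 3, 9210, 8945, 8222, 7560], [69, 1, 7563, 9212, 6644], [97, 1, 8165, 9207, 9214], [98, 2, 9143, 9208, 9214], [201, 3, 9202, 6647, 9214, 7564], [98, 2, 9220, 8169, 8171], [99, 2, 9220, 9202, 9204, 8171, 9138], [100, 2, 9139, 9222, 9220, 8169, 9205], [238, 0, 7567, 9220, 6246], [97, 1, 8177, 8173, 9228], [202, 3,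 6651, 9200, 9228, 7568], [70, 0, 7571, 9232, 6652], [202, 3, 8957, 9192, 9234, 7572], [30, 2, 9236, 9128], [238, 0, 7575, 9236, 8958], [29, 1, 9126, 9240], [201, 3, 9184, 8961, 9240, 7576], [69, 1, 7579, 9244, 6660], [185, 3, 9244, 6660, 9182, 6259], [109, 1, 6256, 9248, 7577], [97, 2, 9187, 9240, 9250], [98, 1, 8187, 9243, 9250], [240, 2, 7574, 9250, 6255], [98, 1, 9256, 9236, 9191], [97, 1, 9074, 9183, 9246], [98, 2, 9123, 9180, 9246], [201, 3, 9176, 6663, 9246, 7580], [97, 1, 9264, 9176, 9179], [98, 2, 9264, 9068, 9076], [238, 0, 7583, 9264, 6262], [97, 1, 9066, 9064, 9270], [237, 3, 7019, 9156, 6720], [30, 2, 9274, 9052], [0, 0], [0, 0], [0, 0], [0, 0], [0, 0], [0, 0], [0, 0], [0, 0], [0, 0], [0, 0], [0, 0], [245, 19, 8976, 8978, 8980, 8981, 8979, 8977, 8975, 8973, 8971, 8969, 8968, 8970, 8972, 8974, 8976, 8978, 8980, 8982, 8984, 8986, 8988, 8990, 6014, 6126, 6135, 5767, 793, 755, 767, 1023, 5343, 2487, 2326, 6640, 9278, 9280, 9282, 9284, 9286, 9288, 9290, 9292, 9294, 9296, 9298], [234, 2, 9300, 8975], [237, 1, 9300,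 9103, 8215], [238, 2, 9300, 9104, 7713], [240, 2, 9300, 9148, 6719], [110, 0, 6716, 9308, 9299], [202, 1, 7710, 9306, 9299, 9310], [70, 2, 6714, 9312, 7709], [186, 3, 6714, 9312, 9048, 6365], [46, 1, 8262, 9316], [97, 1, 8266, 9316, 9315], [110, 0, 6362, 9316, 6713], [112, 0, 9322, 6362, 9316, 9318, 7011], [240, 2, 7008, 9324, 6711], [46, 2, 9326, 8256], [109, 1, 6708, 9326, 7007], [111, 2, 6358, 9328, 9326, 7007, 9330], [185, 4, 6706, 9332, 6357, 7731], [69, 1, 7701, 9334, 6706], [201, 3, 9328, 6709, 9336, 7702], [98, 2, 9338, 8257, 8259], [238, 0, 7705, 9338, 6360], [97, 1, 8269, 8261, 9342], [186, 0, 9310, 6715, 9318, 7012], [70, 2, 7012, 9346, 9297], [97, 1, 9348, 8262, 8267], [202, 1, 9294, 9348, 7011, 9324], [97, 1, 9343, 9323, 9352], [98, 2, 8269, 9324, 9352], [238, 2, 6710, 9352, 9293], [97, 1, 9358, 9326, 8259], [98, 2, 9358, 9329, 9339], [201, 1, 9290, 9358, 9326, 7007], [69, 3, 7004, 9364, 9289], [98, 2, 8245, 8254, 9364], [185, 3, 9366, 7004, 9330, 6707], [201, 1, 9286, 9366, 8252, 8201], [237, 3, 8198, 9372,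 9285], [30, 2, 9374, 8238], [202, 1, 9282, 9374, 8197, 8236], [70, 2, 6996, 9378, 9281], [186, 1, 6699, 7027, 6996, 9378], [110, 2, 9283, 9382, 6700], [97, 2, 9384, 9377, 7726], [98, 1, 9384, 9374, 8247], [239, 1, 6703, 9384, 9284], [97, 2, 8249, 9372, 9390], [97, 1, 9380, 7025, 8233], [98, 2, 9380, 7026, 7720], [205, 4, 9380, 7025, 6728, 6991, 6939, 6722, 6642], [0, 0], [0, 0], [0, 0], [0, 0], [0, 0], [0, 0], [0, 0], [0, 0], [0, 0], [0, 0], [0, 0], [0, 0], [0, 0], [0, 0], [0, 0], [0, 0], [247, 18, 8989, 8987, 8985, 8983, 8981, 8979, 8977, 9301, 9299, 9297, 9295, 9293, 9291, 9289, 9287, 9285, 9283, 9281, 9279, 6641, 2327, 2486, 5342, 1022, 766, 754, 792, 793, 6221, 9400, 9402, 9404, 9406, 9408, 9410, 9412, 9414, 9416, 9418, 9420, 9422, 9424, 9426, 9428, 9430], [234, 2, 9432, 8990], [237, 1, 9432, 8993, 8293], [238, 2, 9432, 8995, 7755], [240, 2, 9432, 8997, 6761], [110, 0, 6758, 9440, 9431], [202, 1, 7752, 9438, 9431, 9442], [186, 3, 6756, 9444, 7762, 6399], [46, 1, 8307, 9446], [110, 0, 6396, 9446, 6755], [112, 0, 9450,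 6396, 9446, 9448, 7055], [239, 3, 7052, 9452, 6753], [46, 2, 9454, 8313], [109, 1, 6750, 9454, 7051], [111, 2, 6392, 9456, 9454, 7051, 9458], [185, 4, 6748, 9460, 6391, 7774], [69, 1, 7743, 9462, 6748], [97, 1, 8318, 9461, 9464], [201, 3, 9456, 6751, 9464, 7744], [98, 2, 9468, 8312, 8316], [237, 1, 7747, 9468, 6394], [97, 1, 8310, 8308, 9472], [186, 0, 9442, 6757, 9448, 7056], [70, 2, 7056, 9476, 9429], [202, 1, 9426, 9478, 7055, 9452], [97, 1, 9473, 9451, 9480], [98, 2, 8310, 9452, 9480], [237, 3, 6752, 9480, 9425], [97, 1, 9486, 9454, 8316], [98, 2, 9486, 9457, 9469], [201, 1, 9422, 9486, 9454, 7051], [69, 3, 7048, 9492, 9421], [98, 2, 8318, 8315, 9492], [185, 3, 9494, 7048, 9458, 6749], [201, 1, 9418, 9494, 8323, 8279], [29, 1, 8325, 9500], [237, 3, 8276, 9500, 9417], [30, 2, 9504, 8327], [202, 1, 9414, 9504, 8275, 8333], [70, 2, 7040, 9508, 9413], [186, 1, 6741, 7101, 7040, 9508], [110, 2, 9415, 9512, 6742], [98, 1, 9514, 9504, 8334], [239, 1, 6745, 9514, 9416], [97, 2, 8338, 9500, 9518], [98, 1, 7773, 9503, 9518],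 [97, 1, 9510, 7102, 8330], [202, 2, 9410, 9510, 7091, 6785, 7084], [7, 0, 9411, 9527], [10, 0, 9408, 9527, 7092], [6, 0, 9406, 9531, 6733], [6, 0, 9404, 9533, 6781], [15, 0, 9402, 9535], [237, 1, 6771, 6779, 9536], [238, 2, 6730, 6781, 9536], [239, 1, 6408, 6378, 9536], [240, 2, 6788, 6783, 9536], [110, 1, 9544, 6132, 7614], [185, 2, 9544, 7078, 7671, 7673], [186, 2, 9544, 5779, 5776, 6319], [209, 1, 9544, 5780, 5786, 9545], [217, 4, 9552, 9549, 6342, 9548], [242, 0, 9536, 9554, 9537], [0, 0], [0, 0], [0, 0], [0, 0], [0, 0], [0, 0], [0, 0], [0, 0], [0, 0], [0, 0], [0, 0], [0, 0], [0, 0], [0, 0], [0, 0], [0, 0], [0, 0], [0, 0], [0, 0], [0, 0], [0, 0]]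
def dJ24 : List (List ℕ) := [[0, 0], [0, 0], [243, 29, 1798, 5543, 1879, 1396, 1397, 1917, 5772, 5769, 4723, 6344, 9558, 9560, 9562, 9564, 9566, 9568, 9570, 9572, 9574, 9576, 9578, 9580, 9582, 9584, 9586, 9588, 9590, 9592, 9594, 9596, 9598, 9600, 9602], [239, 1, 9604, 1805, 6985], [240, 2, 9604, 1803, 8123], [110, 0, 8120, 9608, 9603], [112, 0, 9610, 8120, 9608, 9607, 6983], [98, 1, 8999, 9079, 9612], [29, 2, 9614, 9000], [70, 2, 9600, 9614, 6685], [72, 4, 7602, 9616, 9614, 6685, 9618], [202, 1, 9598, 9620, 7601, 9024], [29, 1, 8139, 9622], [237, 3, 8114, 9622, 9597], [30, 2, 9626, 8145], [201, 1, 9594, 9626, 9028, 7597], [29, 1, 9030, 9630], [69, 3, 7594, 9630, 9593], [71, 4, 9634, 7594, 9630, 9632, 6677], [97, 3, 9095, 9101, 9636], [46, 2, 9638, 8151], [109, 1, 9590, 9638, 6971], [111, 2, 8108, 9640, 9638, 6971, 9642], [239, 3, 9588, 9644, 8107], [46, 1, 8155, 9646], [110, 0, 8104, 9646, 9587], [112, 0, 9650, 8104, 9646, 9648, 6967], [98, 1, 9159, 9111, 9652], [29, 2, 9654, 9162], [70, 2, 9584, 9654, 6669], [72, 4,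 7586, 9656, 9654, 6669, 9658], [202, 1, 9582, 9660, 7585, 9272], [238, 2, 8098, 9662, 9581], [201, 1, 9578, 9664, 9268, 7581], [29, 1, 9246, 9666], [69, 3, 7578, 9666, 9577], [71, 4, 9670, 7578, 9666, 9668, 6661], [97, 3, 9125, 9185, 9672], [46, 2, 9674, 8188], [109, 1, 9574, 9674, 6955], [111, 2, 8092, 9676, 9674, 6955, 9678], [240, 2, 9572, 9680, 8091], [46, 1, 8184, 9682], [110, 0, 8088, 9682, 9571], [112, 0, 9686, 8088, 9682, 9684, 6951], [98, 1, 9193, 9131, 9688], [29, 2, 9690, 9234], [70, 2, 9568, 9690, 6653], [72, 4, 7570, 9692, 9690, 6653, 9694], [202, 1, 9566, 9696, 7569, 9230], [238, 2, 8082, 9698, 9565], [30, 2, 9700, 8170], [201, 1, 9562, 9700, 9222, 7565], [29, 1, 9214, 9704], [69, 3, 7562, 9704, 9561], [71, 4, 9708, 7562, 9704, 9706, 6645], [97, 3, 9145, 9211, 9710], [202, 4, 7024, 9381, 9399, 9710], [110, 2, 9714, 7024, 8159], [0, 0], [0, 0], [0, 0], [0, 0], [0, 0], [0, 0], [0, 0], [0, 0], [0, 0], [0, 0], [0, 0], [245, 19, 9590, 9592, 9594, 9595, 9593, 9591, 9589, 9587, 9585, 9583, 9582, 9584, 9586, 9588,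 9590, 9592, 9594, 9596, 9598, 9600, 9602, 9604, 1798, 5543, 1879, 1396, 993, 2805, 441, 6194, 7028, 7671, 7676, 7678, 9718, 9720, 9722, 9724, 9726, 9728, 9730, 9732, 9734, 9736, 9738], [234, 2, 9740, 9589], [239, 1, 9740, 9643, 7017], [240, 2, 9740, 9644, 8215], [110, 0, 8212, 9746, 9739], [112, 0, 9748, 8212, 9746, 9745, 7015], [98, 1, 9311, 9347, 9750], [29, 2, 9752, 9312], [70, 2, 9736, 9752, 6715], [72, 4, 7708, 9754, 9752, 6715, 9756], [202, 1, 9734, 9758, 7707, 9344], [238, 2, 8206, 9760, 9733], [30, 2, 9762, 8258], [201, 1, 9730, 9762, 9340, 7703], [29, 1, 9336, 9766], [69, 3, 7700, 9766, 9729], [71, 4, 9770, 7700, 9766, 9768, 6707], [97, 3, 9367, 9371, 9772], [46, 2, 9774, 8252], [109, 1, 9726, 9774, 7003], [111, 2, 8200, 9776, 9774, 7003, 9778], [239, 3, 9724, 9780, 8199], [46, 1, 8246, 9782], [110, 0, 8196, 9782, 9723], [112, 0, 9786, 8196, 9782, 9784, 6999], [98, 1, 9383, 9379, 9788], [29, 2, 9790, 7723], [70, 2, 9720, 9790, 6699], [72, 4, 7692, 9792, 9790, 6699, 9794], [201, 2, 9796, 9396, 9399, 9213], [0,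 0], [0, 0], [0, 0], [0, 0], [0, 0], [0, 0], [0, 0], [0, 0], [0, 0], [0, 0], [0, 0], [247, 18, 9603, 9601, 9599, 9597, 9595, 9593, 9591, 9741, 9739, 9737, 9735, 9733, 9731, 9729, 9727, 9725, 9723, 9721, 9719, 7679, 7677, 7670, 7029, 6195, 440, 2804, 992, 993, 1397, 1886, 7080, 7085, 7086, 7098, 9800, 9802, 9804, 9806, 9808, 9810, 9812, 9814, 9816, 9818, 9820], [234, 2, 9822, 9604], [239, 1, 9822, 9607, 7061], [240, 2, 9822, 9609, 8293], [110, 0, 8290, 9828, 9821], [112, 0, 9830, 8290, 9828, 9827, 7059], [98, 1, 9443, 9477, 9832], [29, 2, 9834, 9444], [70, 2, 9818, 9834, 6757], [72, 4, 7750, 9836, 9834, 6757, 9838], [202, 1, 9816, 9840, 7749, 9474], [29, 1, 8311, 9842], [237, 3, 8284, 9842, 9815], [30, 2, 9846, 8317], [201, 1, 9812, 9846, 9470, 7745], [29, 1, 9464, 9850], [69, 3, 7742, 9850, 9811], [71, 4, 9854, 7742, 9850, 9852, 6749], [97, 3, 9495, 9499, 9856], [46, 2, 9858, 8323], [109, 1, 9808, 9858, 7047], [111, 2, 8278, 9860, 9858, 7047, 9862], [239, 3, 9806, 9864, 8277], [46, 1, 8335, 9866], [110, 0, 8274, 9866,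 9805], [112, 0, 9870, 8274, 9866, 9868, 7043], [98, 1, 9513, 9509, 9872], [29, 2, 9874, 7766], [70, 2, 9802, 9874, 6741], [72, 4, 7734, 9876, 9874, 6741, 9878], [241, 3, 6934, 1907, 9824], [0, 0], [0, 0], [0, 0], [0, 0], [0, 0], [0, 0], [0, 0], [0, 0], [0, 0], [0, 0], [0, 0], [0, 0], [0, 0], [0, 0], [0, 0], [0, 0], [0, 0], [0, 0], [0, 0], [0, 0], [0, 0], [0, 0], [0, 0], [243, 29, 1808, 5549, 1889, 1744, 1745, 5354, 5808, 5791, 4733, 6574, 9884, 9886, 9888, 9890, 9892, 9894, 9896, 9898, 9900, 9902, 9904, 9906, 9908, 9910, 9912, 9914, 9916, 9918, 9920, 9922, 9924, 9926, 9928], [239, 1, 9930, 1813, 7823], [240, 2, 9930, 1815, 7151], [110, 0, 7148, 9934, 9929], [112, 0, 9936, 7148, 9934, 9933, 7821], [98, 1, 7397, 7830, 9938], [29, 2, 9940, 7398], [70, 2, 9926, 9940, 7351], [72, 4, 6834, 9942, 9940, 7351, 9944], [202, 1, 9924, 9946, 6833, 8656], [29, 1, 8655, 9948], [237, 3, 7142, 9948, 9923], [30, 2, 9952, 8649], [201, 1, 9920, 9952, 8652, 6829], [29, 1, 7871, 9956], [69, 3, 6826, 9956, 9919], [71, 4, 9960, 6826, 9956, 9958,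 7343], [97, 3, 7850, 7852, 9962], [46, 2, 9964, 8545], [109, 1, 9916, 9964, 7809], [111, 2, 7136, 9966, 9964, 7809, 9968], [239, 3, 9914, 9970, 7135], [46, 1, 8553, 9972], [110, 0, 7132, 9972, 9913], [112, 0, 9976, 7132, 9972, 9974, 7805], [98, 1, 7860, 8560, 9978], [29, 2, 9980, 7881], [70, 2, 9910, 9980, 7335], [72, 4, 6818, 9982, 9980, 7335, 9984], [202, 1, 9908, 9986, 6817, 8524], [29, 1, 8573, 9988], [238, 2, 7126, 9988, 9907], [30, 2, 9992, 8579], [201, 1, 9904, 9992, 8522, 6813], [29, 1, 7938, 9996]]
def dJ25 : List (List ℕ) := [[69, 3, 6810, 9996, 9903], [71, 4, 10000, 6810, 9996, 9998, 7327], [97, 3, 8584, 7921, 10002], [46, 2, 10004, 8589], [109, 1, 9900, 10004, 7793], [111, 2, 7120, 10006, 10004, 7793, 10008], [240, 2, 9898, 10010, 7119], [46, 1, 8593, 10012], [110, 0, 7116, 10012, 9897], [112, 0, 10016, 7116, 10012, 10014, 7789], [98, 1, 7915, 7913, 10018], [29, 2, 10020, 7930], [70, 2, 9894, 10020, 7319], [72, 4, 6802, 10022, 10020, 7319, 10024], [202, 1, 9892, 10026, 6801, 8498], [238, 2, 7110, 10028, 9891],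 [30, 2, 10030, 8487], [201, 1, 9888, 10030, 8492, 6797], [29, 1, 7441, 10034], [69, 3, 6794, 10034, 9887], [71, 4, 10038, 6794, 10034, 10036, 7311], [97, 3, 7893, 7436, 10040], [208, 7, 6577, 6877, 6872, 6843, 8658, 8738, 7439, 10040], [0, 0], [0, 0], [0, 0], [0, 0], [0, 0], [0, 0], [0, 0], [0, 0], [0, 0], [0, 0], [0, 0], [245, 19, 9916, 9918, 9920, 9921, 9919, 9917, 9915, 9913, 9911, 9909, 9908, 9910, 9912, 9914, 9916, 9918, 9920, 9922, 9924, 9926, 9928, 9930, 1808, 5549, 1889, 1744, 1009, 2815, 453, 6426, 7194, 7422, 7428, 7430, 10046, 10048, 10050, 10052, 10054, 10056, 10058, 10060, 10062, 10064, 10066], [234, 2, 10068, 9915], [239, 1, 10068, 9969, 7965], [240, 2, 10068, 9970, 7183], [110, 0, 7180, 10074, 10067], [112, 0, 10076, 7180, 10074, 10073, 7963], [98, 1, 7862, 8618, 10078], [29, 2, 10080, 7885], [70, 2, 10064, 10080, 7465], [72, 4, 6864, 10082, 10080, 7465, 10084], [202, 1, 10062, 10086, 6863, 8778], [238, 2, 7174, 10088, 10061], [30, 2, 10090, 8771], [201, 1, 10058, 10090, 8774, 6859], [29, 1, 7994, 10094],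 [69, 3, 6856, 10094, 10057], [71, 4, 10098, 6856, 10094, 10096, 7457], [97, 3, 8634, 7991, 10100], [46, 2, 10102, 8757], [109, 1, 10054, 10102, 7951], [111, 2, 7168, 10104, 10102, 7951, 10106], [239, 3, 10052, 10108, 7167], [46, 1, 8765, 10110], [110, 0, 7164, 10110, 10051], [112, 0, 10114, 7164, 10110, 10112, 7947], [98, 1, 7981, 7979, 10116], [29, 2, 10118, 7478], [70, 2, 10048, 10118, 7449], [72, 4, 6848, 10120, 10118, 7449, 10122], [201, 2, 10124, 6879, 10045, 10041], [0, 0], [0, 0], [0, 0], [0, 0], [0, 0], [0, 0], [0, 0], [0, 0], [0, 0], [0, 0], [0, 0], [247, 18, 9929, 9927, 9925, 9923, 9921, 9919, 9917, 10069, 10067, 10065, 10063, 10061, 10059, 10057, 10055, 10053, 10051, 10049, 10047, 7431, 7429, 7423, 7195, 6427, 452, 2814, 1008, 1009, 1745, 1912, 6935, 7252, 7198, 7261, 10128, 10130, 10132, 10134, 10136, 10138, 10140, 10142, 10144, 10146, 10148], [234, 2, 10150, 9930], [239, 1, 10150, 9933, 8019], [240, 2, 10150, 9935, 7227], [110, 0, 7224, 10156, 10149], [112, 0, 10158, 7224, 10156, 10155, 8017], [98, 1, 7510,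 8026, 10160], [29, 2, 10162, 7513], [70, 2, 10146, 10162, 7499], [72, 4, 6906, 10164, 10162, 7499, 10166], [202, 1, 10144, 10168, 6905, 8940], [237, 3, 7218, 10170, 10143], [30, 2, 10172, 8933], [201, 1, 10140, 10172, 8936, 6901], [29, 1, 8063, 10176], [69, 3, 6898, 10176, 10139], [71, 4, 10180, 6898, 10176, 10178, 7491], [97, 3, 8046, 8048, 10182], [46, 2, 10184, 8917], [109, 1, 10136, 10184, 8005], [111, 2, 7212, 10186, 10184, 8005, 10188], [239, 3, 10134, 10190, 7211], [46, 1, 8925, 10192], [110, 0, 7208, 10192, 10133], [112, 0, 10196, 7208, 10192, 10194, 8001], [98, 1, 8054, 8074, 10198], [29, 2, 10200, 7519], [70, 2, 10130, 10200, 7483], [242, 0, 7081, 1884, 10152], [0, 0], [0, 0], [205, 4, 7537, 6225, 5763, 5339, 5340, 10208, 10210], [38, 1, 10210, 10212], [109, 1, 10212, 7545, 5708], [110, 2, 10212, 7547, 1878], [113, 5, 5711, 5708, 10216, 10212, 10214], [114, 0, 1887, 1878, 10218, 10212, 10214], [118, 2, 10212, 7550, 7300], [201, 1, 10212, 7537, 6225, 6134], [202, 3, 10212, 7547, 1764, 2882], [206, 5, 10210, 10212,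 7547, 5716, 5726, 6084, 6083], [226, 2, 10212, 7549, 7550, 7300], [238, 3, 6375, 6373, 10230], [0, 0], [0, 0], [0, 0], [0, 0], [0, 0], [0, 0], [0, 0], [0, 0], [243, 17, 8097, 8095, 8093, 8091, 8089, 8087, 8085, 8083, 8081, 8079, 8077, 6993, 4720, 5143, 5185, 4580, 4581, 4583, 791, 3071, 439, 2895, 2884, 5669, 2308, 10236, 10238, 10240, 10242, 10244, 10246, 10248, 10250], [234, 2, 10252, 8098], [234, 1, 8191, 10236], [235, 3, 7081, 2299, 10236], [0, 0], [0, 0], [0, 0], [0, 0], [0, 0], [0, 0], [0, 0], [0, 0], [0, 0], [0, 0], [0, 0], [0, 0], [245, 19, 8089, 8087, 8085, 8084, 8086, 8088, 8090, 8092, 8094, 8096, 8097, 8095, 8093, 8091, 8089, 8087, 8085, 8083, 8081, 8079, 8077, 6993, 4720, 5143, 5185, 4580, 5339, 1843, 1785, 8123, 8121, 8119, 8117, 10260, 10262, 10264, 10266, 10268, 10270, 10272, 10274, 10276, 10278, 10280, 10282], [234, 2, 10284, 8090], [243, 17, 10234, 8270, 8272, 8274, 8276, 8278, 8280, 8282, 8284, 8286, 8288, 8290, 8292, 8121, 8119, 8117, 8115, 8114, 10260, 10262, 10264, 10266, 10268, 10270, 10272, 10274,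 10276, 10278, 10280, 10282, 10284, 8089, 8087, 8085], [6, 0, 10230, 10289, 9698], [5, 0, 10208, 10289, 8177], [8, 0, 10214, 10289, 8084], [10, 0, 10223, 10289, 9137], [9, 0, 10221, 10289, 9231], [16, 0, 10235, 10289], [6, 0, 9698, 10290], [8, 0, 9567, 10290, 5733], [15, 0, 9564, 10290], [5, 0, 8177, 10292], [8, 0, 6947, 10292, 5342], [10, 0, 9199, 10292, 5782], [9, 0, 8172, 10292, 9543], [15, 0, 6944, 10292], [3, 0, 8087, 10294, 7541], [5, 0, 8179, 10294, 7537], [8, 0, 8084, 10294], [10, 0, 9137, 10296], [15, 0, 8950, 10296], [15, 0, 7566, 10298], [3, 0, 9569, 10305, 5720], [3, 0, 6949, 10311, 1398], [15, 0, 6648, 10313], [3, 0, 9548, 10314], [4, 0, 9550, 10314], [5, 0, 9539, 10314], [6, 0, 9541, 10314], [8, 0, 9546, 10314], [9, 0, 9543, 10314], [10, 0, 9545, 10314], [11, 0, 10315, 9553, 10314], [13, 0, 10315, 9554, 10314], [16, 0, 9536, 10314], [5, 0, 8180, 10319, 7537], [8, 0, 8089, 10319, 10213], [8, 0, 6248, 10321], [6, 0, 9691, 10331, 5726], [8, 0, 9571, 10331, 5708], [8, 0, 6951, 10333, 1878], [8, 0, 6253, 10357,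 7613], [6, 0, 10228, 10358, 9129], [5, 0, 10226, 10358, 9238], [8, 0, 10213, 10358], [11, 0, 10224, 10358], [14, 0, 10232, 10358], [8, 0, 6655, 10363, 6084], [9, 0, 9682, 10365], [16, 0, 9573, 10365], [10, 0, 8185, 10367], [16, 0, 6953, 10367], [4, 0, 7634, 10368], [5, 0, 7620, 10368], [7, 0, 10344, 10368], [8, 0, 7613, 10368], [9, 0, 7616, 10368]]
def dJ26 : List (List ℕ) := [[11, 0, 10369, 7619, 10368], [13, 0, 10369, 7622, 10368], [6, 0, 9129, 10370], [16, 0, 8959, 10370], [5, 0, 9238, 10372], [9, 0, 9256, 10372], [16, 0, 7575, 10372], [5, 0, 9259, 10381], [16, 0, 6657, 10381], [245, 38, 10278, 10280, 10282, 10284, 10374, 7540, 10322, 10300, 8270, 8272, 8274, 8276, 8278, 8280, 8282, 8284, 8286, 8288, 8290, 8295, 1784, 1842, 5338, 1022, 791, 3071, 439, 2502, 5904, 5985, 5972, 5973, 5984, 5905, 2893, 2884, 5669, 2308, 2309, 5668, 2885, 2892, 5904, 5985, 5972, 8991], [7, 0, 10279, 10419], [16, 0, 10276, 10419, 9433], [7, 0, 10274, 10423], [247, 1, 6697, 6695, 6329, 6331, 2313, 2309, 5668, 2885, 2892, 5904, 5985, 5972,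 8991, 10420, 10280, 10282, 10284, 10374, 7540, 10322, 10300, 8270, 8272, 8274, 8276, 8278, 8280, 8282, 8284, 8286, 8288, 8290, 8292, 8121, 8119, 8117, 8115, 8113, 8111, 8109, 8107, 8105, 8103, 8101, 8100], [236, 3, 8103, 10426, 6698], [238, 3, 9060, 10426, 9794], [239, 2, 9115, 10426, 6729], [240, 3, 9168, 10426, 7027], [235, 0, 6997, 10434, 7586], [238, 1, 9380, 10434, 9661], [236, 3, 9585, 10438, 9280], [239, 2, 9056, 10436, 9788], [235, 0, 6349, 10432, 8970], [37, 1, 9430, 10424], [244, 16, 8113, 8111, 8109, 8215, 8213, 8211, 8209, 8207, 8205, 8203, 8201, 8199, 8197, 8195, 8193, 8191, 10236, 10237, 2309, 5668, 2885, 2892, 5904, 5985, 5972, 9434, 10424, 10273, 10271, 10269, 10267, 10265, 10263], [235, 3, 9435, 6090, 10416], [242, 0, 9435, 6086, 10416], [69, 0, 9189, 10450, 9437], [70, 1, 9252, 10450, 9439], [77, 1, 10457, 7761, 10456], [194, 3, 8297, 10456, 10458, 9254], [185, 2, 9440, 9437, 10454, 9678], [241, 3, 7247, 6136, 10412], [235, 3, 9825, 2138, 10406], [234, 1, 6246, 10354], [238, 1, 6779, 10468, 9221], [239,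 0, 6783, 10468, 9202], [240, 1, 6378, 10468, 8169], [241, 3, 10469, 9556, 10468], [237, 2, 8170, 10474, 6377], [238, 3, 9703, 10474, 6406], [242, 0, 6911, 6916, 10480], [240, 1, 7095, 10478, 9138], [235, 3, 10484, 10259, 10256], [242, 0, 10484, 10207, 10150], [69, 0, 8225, 10486, 9227], [185, 0, 8229, 10486, 9139, 8170], [70, 3, 9703, 10492, 7716], [188, 4, 7021, 7022, 10494, 9703, 8171, 9138, 9224], [70, 3, 9221, 10496, 6724], [193, 1, 6724, 6341, 10498, 9221], [0, 0], [0, 0], [0, 0], [0, 0], [0, 0], [0, 0], [0, 0], [0, 0], [0, 0], [0, 0], [0, 0], [0, 0], [0, 0], [0, 0], [0, 0], [0, 0], [0, 0], [247, 18, 8076, 8078, 8080, 8082, 10323, 7541, 10375, 10285, 10283, 10281, 10421, 9433, 10424, 10273, 10271, 10269, 10267, 10265, 10263, 10261, 8116, 8118, 8120, 8122, 1784, 1842, 5338, 5339, 10502, 10504, 10506, 10508, 10510, 10512, 10514, 10516, 10518, 10520, 10522, 10524, 10526, 10528, 10530, 10532, 10534], [234, 2, 10536, 6993], [235, 1, 10536, 10491, 10472], [238, 2, 10536, 8225, 10257], [243, 9, 10530, 10532, 10534, 10536,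 8076, 8078, 8080, 8082, 10323, 7541, 10375, 10285, 10283, 10281, 10421, 9433, 10424, 10273, 10271, 10269, 10267, 10265, 10263, 10261, 10260, 10448, 8113, 8111, 8109, 8215, 8213, 8211, 8209], [244, 24, 10528, 10530, 10532, 10534, 10536, 8076, 8078, 8080, 8082, 10300, 10301, 10323, 7541, 10375, 10285, 10283, 10281, 10421, 8990, 5973, 5984, 5905, 2893, 2884, 5669, 2308, 8190, 8192, 8194, 8196, 8198, 8200, 8202, 8204], [8, 0, 10526, 10547, 8205], [15, 0, 10529, 10547], [3, 0, 10524, 10549, 8203], [8, 0, 10522, 10553, 8201], [15, 0, 10520, 10555, 8199], [7, 0, 10518, 10557, 8197], [4, 0, 10516, 10559, 8195], [7, 0, 10514, 10561, 8193], [10, 0, 10512, 10563, 8226], [6, 0, 10510, 10565, 6692], [6, 0, 10508, 10567, 6725], [15, 0, 10506, 10569], [239, 1, 10571, 7021, 10537], [185, 2, 7093, 7085, 10540, 10572], [240, 1, 4724, 10538, 10572], [242, 0, 10576, 4890, 6771], [236, 2, 6984, 1842, 10502], [0, 0], [215, 4, 5491, 5497, 1897, 1879, 5716, 7544, 7550, 10582], [46, 2, 10584, 5491], [97, 2, 10584, 5083, 10585], [185, 2, 10584,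 5082, 5081, 10585], [210, 3, 10584, 4922, 5705, 7544], [157, 3, 10593, 7548, 10592], [0, 0], [0, 0], [0, 0], [0, 0], [0, 0], [0, 0], [0, 0], [0, 0], [243, 17, 9579, 9577, 9575, 10385, 5709, 5721, 5732, 10306, 9563, 9561, 9559, 6345, 4722, 5768, 5773, 1916, 1917, 1919, 993, 2805, 441, 6194, 7028, 7671, 7676, 10596, 10598, 10600, 10602, 10604, 10606, 10608, 10610], [237, 1, 10612, 9664, 10253], [234, 1, 7679, 10596], [235, 3, 7031, 7671, 10596], [237, 3, 10237, 7666, 10596], [238, 0, 10539, 7669, 10596], [0, 0], [0, 0], [0, 0], [0, 0], [0, 0], [0, 0], [0, 0], [0, 0], [0, 0], [0, 0], [0, 0], [0, 0], [245, 19, 5709, 5721, 5732, 5733, 5720, 5708, 10384, 9574, 9576, 9578, 9579, 9577, 9575, 10385, 5709, 5721, 5732, 10306, 9563, 9561, 9559, 6345, 4722, 5768, 5773, 1916, 1878, 5542, 1799, 9605, 9603, 9601, 9599, 10624, 10626, 10628, 10630, 10632, 10634, 10636, 10638, 10640, 10642, 10644, 10646], [234, 2, 10648, 10384], [235, 1, 10648, 5983, 6689], [237, 1, 10648, 5059, 10502], [240, 2, 10648, 10382, 10285], [242, 2, 10648, 4763,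 6574], [110, 0, 10282, 10656, 10647], [233, 1, 9596, 10624], [238, 2, 10261, 9622, 10624], [0, 0], [0, 0], [0, 0], [0, 0], [0, 0], [0, 0], [0, 0], [0, 0], [0, 0], [0, 0], [0, 0], [0, 0], [0, 0], [0, 0], [0, 0], [0, 0], [0, 0], [247, 18, 9558, 9560, 9562, 10307, 5733, 5720, 5708, 10649, 10647, 10645, 10643, 10641, 10639, 10637, 10635, 10633, 10631, 10629, 10627, 10625, 9598, 9600, 9602, 9604, 1798, 5543, 1879, 1878, 10666, 10668, 10670, 10672, 10674, 10676, 10678, 10680, 10682, 10684, 10686, 10688, 10690, 10692, 10694, 10696, 10698], [234, 2, 10700, 6345], [235, 1, 10700, 10494, 10481], [239, 1, 10700, 6727, 10570], [240, 2, 10700, 7023, 10537], [243, 9, 10694, 10696, 10698, 10700, 9558, 9560, 9562, 10307, 5733, 5720, 5708, 10649, 10647, 10645, 10643, 10641, 10639, 10637, 10635, 10633, 10631, 10629, 10627, 10625, 10624, 10662, 9595, 9593, 9591, 9741, 9739, 9737, 9735], [234, 2, 9732, 10710, 10693], [8, 0, 10690, 10712, 9731], [15, 0, 10693, 10712], [3, 0, 10688, 10715, 9729], [8, 0, 10686, 10719, 9727], [15, 0, 10684,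 10721, 9725], [7, 0, 10682, 10723, 9723], [4, 0, 10680, 10725, 9721], [7, 0, 10678, 10727, 9719], [10, 0, 10676, 10729, 7682], [6, 0, 10674, 10731, 6725], [6, 0, 10672, 10733, 6722], [15, 0, 10670, 10735], [237, 3, 10545, 9760, 10710], [233, 1, 6640, 10736], [238, 2, 10571, 6722, 10736], [240, 2, 10256, 8226, 10736], [109, 1, 10668, 10744, 10238], [186, 2, 10744, 10258, 7033, 7097], [194, 1, 6781, 9557, 6780, 10748], [239, 1, 10746, 10667, 10386, 10285], [7, 0, 10282, 10752, 10239], [10, 0, 10657, 10752], [15, 0, 10286, 10752], [16, 0, 10285, 10752], [3, 0, 10280, 10755], [10, 0, 10660, 10755], [240, 1, 8187, 10759, 10746], [46, 2, 10747, 10756], [112, 1, 10646, 10768, 10747, 10239, 10745], [188, 4, 10747, 10756, 10653, 6691, 6986, 9606, 9609], [186, 0, 9609, 10772, 10747, 10240], [187, 4, 7652, 8994, 8993, 10772, 10769, 10757, 10240], [46, 2, 10776, 7652], [97, 2, 10707, 10743, 10770], [185, 2, 6378, 6780, 10748, 10770], [239, 2, 7718, 10736, 10770], [240, 1, 2331, 10741, 10770], [235, 2, 10644, 10786, 2921], [236, 0,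 6409, 2919, 10788], [242, 0, 7229, 1840, 10788], [242, 0, 10766, 10460, 8292], [201, 1, 10599, 10620, 10764, 10646], [29, 1, 10654, 10796]]
def dJ27 : List (List ℕ) := [[69, 3, 6690, 10652, 10796, 10600], [3, 0, 10600, 10800], [7, 0, 10603, 10800], [237, 2, 6300, 10649, 10796], [37, 1, 6284, 10804], [109, 1, 10243, 10776, 10804], [202, 3, 10421, 8997, 6691, 10804], [70, 1, 10812, 10763, 10621], [21, 1, 10619, 10814], [185, 2, 10573, 10623, 10814, 10810], [190, 5, 10644, 10782, 6377, 6375, 7099, 10619, 10814], [235, 3, 10617, 10814, 10604], [236, 1, 7554, 10596, 10814], [233, 1, 10605, 10824], [238, 3, 10813, 10824, 7662], [239, 2, 10811, 10824, 7656], [234, 2, 10830, 10244], [236, 0, 6770, 5133, 10830], [241, 3, 10576, 4803, 10830], [242, 0, 6770, 4883, 10830], [243, 9, 5905, 4586, 5184, 10830, 10243, 10241, 10239, 10256, 8192, 8194, 8196, 8198, 8200, 8202, 8204, 10550, 10530, 10532, 10534, 10536, 8076, 8078, 8080, 8082, 8083, 10479, 8270, 8272, 8274, 8276, 8278, 8280, 8282], [243, 25, 5905, 4586, 5184, 10830, 10243,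 10241, 10239, 10256, 10257, 10237, 2309, 5668, 2885, 2892, 5904, 5985, 5972, 9434, 10424, 10273, 10271, 10269, 10267, 10265, 10263, 10261, 8116, 8118, 8120, 8293, 8291, 8289, 8287], [235, 3, 10842, 5985, 6762], [238, 3, 8311, 10842, 5912], [239, 2, 9484, 10842, 5909], [234, 2, 10848, 9425], [236, 0, 9825, 2146, 10848], [186, 4, 8311, 9485, 10852, 9827], [235, 3, 9424, 10852, 9822], [69, 0, 10774, 10856, 9486], [185, 0, 9606, 10856, 9489, 8317], [21, 2, 10860, 10581], [69, 2, 8317, 10860, 6989], [70, 3, 9849, 10860, 6987], [74, 5, 10798, 10862, 10860, 6987, 10866], [235, 0, 10860, 6984, 1850], [240, 3, 6071, 10870, 8313], [241, 1, 7445, 2973, 10870], [234, 1, 6395, 10872], [236, 2, 10872, 6073, 8991], [241, 1, 10872, 6061, 8991], [194, 3, 9468, 10879, 10880, 9469], [242, 2, 9432, 10880, 6394], [62, 2, 10884, 10453], [77, 2, 10884, 10451, 10452], [78, 1, 10884, 10888, 10887], [193, 1, 9473, 10884, 10888, 9472], [69, 2, 9252, 10890, 9472], [73, 3, 10894, 9252, 10890, 10889, 9439], [186, 4, 9126, 9186, 10890, 9451], [236,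 0, 6752, 10898, 10759], [236, 0, 7755, 10896, 7747], [235, 1, 6402, 10866, 9814], [193, 1, 6636, 6767, 10844, 9842], [241, 3, 10245, 10838, 10471], [62, 1, 10501, 10908], [77, 0, 10500, 10497, 10908], [78, 3, 10911, 10912, 10908], [110, 0, 7653, 10804, 10820, 10643], [7, 0, 10643, 10916], [16, 0, 10640, 10916, 7755], [7, 0, 10638, 10921], [37, 1, 7752, 10922], [110, 0, 10534, 10708, 10699], [0, 0], [117, 2, 10929, 5179, 10928], [209, 2, 10929, 5178, 1711, 10928], [0, 0], [53, 1, 10928, 10934], [117, 2, 10935, 10931, 10934], [209, 2, 10935, 10930, 10933, 10934], [0, 0], [61, 1, 6114, 10942], [77, 2, 10943, 6120, 10942], [193, 2, 10943, 6121, 6122, 10942], [241, 2, 5937, 6117, 10942], [242, 1, 4847, 6118, 10942], [240, 0, 10952, 5491, 3951], [0, 0], [157, 2, 6115, 10928, 10956], [217, 1, 10958, 6121, 6115, 10928], [226, 3, 6115, 10928, 10931, 10956], [110, 2, 10962, 6125, 5593], [202, 3, 10962, 6125, 5568, 5593], [70, 0, 5591, 10966, 10961], [0, 0], [159, 3, 10943, 6115, 10928, 10956, 10970], [158, 2, 10972, 10944, 10928],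 [210, 2, 10972, 10955, 5577, 4049], [217, 1, 10972, 10946, 10943, 10959], [218, 3, 10972, 10944, 5177, 10928], [225, 3, 10972, 10944, 5179, 10945], [70, 0, 5570, 10969, 10980], [0, 0], [161, 3, 10958, 6115, 10928, 10934, 10986], [54, 2, 10988, 10958], [118, 1, 10988, 10962, 10959], [119, 3, 10988, 10958, 10963, 10989, 10991], [209, 2, 10988, 10962, 6125, 4039], [218, 3, 10988, 10970, 10981, 10934], [185, 4, 5580, 5557, 5581, 10996], [69, 1, 10998, 11000, 5580], [0, 0], [163, 4, 10972, 10943, 6115, 10928, 10934, 10986, 11004], [54, 2, 11006, 10972], [117, 2, 11006, 10983, 10973], [118, 1, 11006, 11010, 11009], [158, 2, 11006, 10975, 10934], [210, 2, 11006, 10977, 5572, 4035], [217, 1, 11006, 10979, 10957, 10934], [218, 3, 11006, 10975, 10960, 10989], [69, 3, 5585, 11001, 11020], [0, 0], [75, 4, 6309, 6312, 5986, 1842, 1846, 5913, 11024], [22, 2, 11026, 6309], [70, 2, 11026, 6299, 1846], [185, 1, 11026, 6295, 6094, 5544], [235, 2, 11026, 10807, 10869], [234, 1, 9815, 11034], [243, 10, 7524, 7552, 10825, 10805, 10802, 10599,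 10616, 9718, 9720, 9722, 9724, 9726, 9728, 9730, 10716, 10694, 10696, 10698, 10700, 9558, 9560, 9562, 10307, 10306, 10481, 9800, 9802, 9804, 9806, 9808, 9810, 9812, 11034], [0, 0], [101, 3, 6023, 1805, 5987, 6313, 11040], [30, 2, 11042, 6023], [69, 2, 11042, 6126, 10408], [98, 2, 11042, 6019, 7639], [193, 1, 11042, 6025, 5791, 7421], [201, 2, 11042, 6017, 6013, 11043], [209, 3, 11052, 11049, 7647, 11048], [239, 0, 10779, 7606, 11048], [242, 2, 7431, 11050, 11056], [0, 0], [189, 3, 11046, 11041, 6312, 5986, 1842, 1846, 11060], [22, 2, 11062, 11046], [69, 1, 11062, 10409, 6141], [77, 1, 11062, 10378, 7419], [186, 3, 11062, 10405, 6088, 6093], [235, 2, 11062, 10761, 10900], [236, 1, 11062, 8090, 10899], [242, 0, 11074, 11069, 7196], [247, 1, 6750, 11072, 11067, 5066, 5908, 5905, 4586, 5184, 10833, 10246, 10248, 10250, 10255, 8100, 8102, 8104, 8216, 8213, 8211, 8209, 10544, 10530, 10532, 10534, 10539, 4720, 5143, 5185, 4583, 791, 3071, 439, 2502, 5904, 5985, 5972, 9434, 10424, 10273, 10271, 10269, 10267, 10265, 10263, 10262],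 [209, 3, 7236, 6527, 6063, 11070], [0, 0], [197, 3, 5048, 2973, 1847, 1843, 5987, 6313, 11082], [30, 2, 11084, 5048], [97, 1, 11084, 4736, 7421], [98, 2, 11084, 4716, 6560], [201, 2, 11084, 4736, 4733, 11085], [209, 3, 11092, 11091, 6573, 11090], [0, 0], [199, 4, 5895, 4498, 1861, 1843, 5987, 6313, 11082, 11096], [30, 2, 11098, 5895], [97, 1, 11098, 5890, 11099], [194, 3, 11098, 5914, 5981, 6313], [201, 2, 11098, 5890, 5887, 11099], [225, 4, 11105, 6314, 11104, 11106], [0, 0], [241, 2, 1819, 6985, 11110], [235, 1, 11112, 2916, 7444], [0, 0], [0, 0], [0, 0], [0, 0], [0, 0], [0, 0], [0, 0], [0, 0], [0, 0], [0, 0], [0, 0], [0, 0], [0, 0], [0, 0], [0, 0], [0, 0], [0, 0], [0, 0], [0, 0], [0, 0], [0, 0], [0, 0], [0, 0], [0, 0], [0, 0], [0, 0], [0, 0], [0, 0], [0, 0], [0, 0], [243, 32, 6984, 6985, 7061, 11116, 11118, 11120, 11122, 11124, 11126, 11128, 11130, 11132, 11134, 11136, 11138, 11140, 11142, 11144, 11146, 11148, 11150, 11152, 11154, 11156, 11158, 11160, 11162, 11164, 11166, 11168, 11170, 11172, 11174], [201, 1, 11176,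 6987, 7652, 10918], [245, 41, 11170, 11172, 11174, 11176, 6984, 1785, 5499, 2183, 3075, 790, 2807, 438, 5730, 6084, 6091, 5973, 6689, 6687, 6685, 6683, 6681, 6679, 6677, 6675, 6673, 6671, 6669, 6667, 6666, 6668, 6670, 6720, 6717, 6715, 6713, 6712, 6714, 6716, 6721, 6671, 6669, 6667, 6665, 6663, 6661, 6659], [7, 0, 11168, 11181, 6658], [16, 0, 11171, 11181], [4, 0, 11166, 11183, 6660], [7, 0, 11164, 11187, 6662], [15, 0, 11162, 11189, 6664], [8, 0, 11160, 11191, 6666], [3, 0, 11158, 11193, 6668], [8, 0, 11156, 11195, 6670], [15, 0, 11154, 11197, 6720]]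
def dJ28 : List (List ℕ) := [[7, 0, 11152, 11199, 6717], [4, 0, 11150, 11201, 6715], [7, 0, 11148, 11203, 6713], [16, 0, 11146, 11205, 6711], [8, 0, 11144, 11207, 6709], [3, 0, 11142, 11209, 6707], [8, 0, 11140, 11211, 6705], [15, 0, 11138, 11213], [246, 4, 11172, 11174, 11176, 6984, 1785, 5499, 2183, 5764, 5786, 5785, 4720, 4721, 5784, 5787, 5765, 2182, 5498, 1784, 1785, 5499, 2183, 3075, 790, 2807, 438, 5730, 6084, 6091, 5973, 6762, 6759, 6757, 6755, 6753, 6751, 6749, 6747, 6745, 6743, 6741, 6739, 6789, 5787, 5752, 6084], [235, 1, 10872, 6092, 11216], [236, 2, 8990, 6090, 11216], [238, 2, 10667, 6095, 11216], [239, 1, 10806, 6295, 11216], [241, 1, 8990, 6086, 11216], [242, 2, 10872, 6076, 11216], [109, 3, 11173, 11224, 10599], [97, 0, 10709, 10623, 11230], [98, 3, 10765, 10621, 11230], [186, 4, 6375, 7099, 10619, 11230], [22, 1, 11175, 11236], [193, 3, 11236, 6375, 6917, 6915], [233, 1, 6702, 11214], [37, 1, 7058, 11116], [202, 3, 10923, 7759, 7064, 11116], [248, 44, 8193, 8192, 8194, 8196, 8198, 8200, 8202, 8204, 10550,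 10530, 10532, 10534, 10539, 4720, 5143, 5185, 4580, 5339, 1843, 1785, 8294, 8291, 8289, 8287, 10842, 5905, 4586, 5184, 10833, 10246, 10248, 10250, 10252, 8097, 8095, 8093, 10759, 10239, 10762, 10421, 8997, 6691, 6986, 7061, 11116], [235, 0, 11119, 11248, 8194], [237, 0, 11247, 11248, 8232], [236, 3, 6349, 11252, 10637], [234, 2, 11254, 10445], [238, 2, 11254, 8234, 11250], [0, 0], [0, 0], [0, 0], [0, 0], [0, 0], [0, 0], [0, 0], [247, 10, 6743, 6741, 6739, 6789, 5787, 5752, 6084, 10416, 6658, 6660, 6662, 6664, 6666, 6668, 6670, 6672, 6674, 6676, 6678, 6680, 6682, 6684, 6686, 6688, 5972, 6090, 6085, 5731, 439, 2806, 791, 3074, 2182, 5498, 1784, 1785, 8123, 8121, 11260, 11262, 11264, 11266, 11268, 11270, 11272], [233, 2, 11274, 6744], [245, 45, 11268, 11270, 11272, 11274, 6743, 6741, 6739, 6789, 5787, 5752, 6084, 11216, 11172, 11174, 11176, 6984, 1785, 5499, 2183, 5764, 5786, 5785, 4720, 4721, 5784, 5787, 5767, 790, 2807, 438, 439, 2806, 791, 5766, 5786, 5785, 4720, 6694, 6696, 6698, 6700, 11243, 11137, 11135, 11133], [247,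 1, 8091, 10374, 7538, 6179, 3077, 423, 439, 2806, 791, 5766, 5786, 5785, 4720, 6694, 6696, 6698, 6700, 11243, 11137, 11135, 11133, 11278, 11268, 11270, 11272, 11274, 6743, 6741, 6739, 6789, 5787, 5752, 6084, 10416, 6658, 6660, 6662, 6664, 6666, 6668, 6670, 6720, 6717, 6715, 6713, 6712], [3, 0, 10898, 11281], [6, 0, 9127, 11281, 9315], [5, 0, 9242, 11281, 9756], [7, 0, 8093, 11281, 6713], [10, 0, 8187, 11281, 9317], [9, 0, 9680, 11281, 9318], [15, 0, 8090, 11281], [16, 0, 10758, 11281], [3, 0, 10467, 11285, 7708], [7, 0, 8961, 11285, 7707], [10, 0, 9187, 11285, 9320], [15, 0, 10406, 11285], [4, 0, 9737, 11286], [5, 0, 9756, 11286], [7, 0, 9734, 11286, 7576], [3, 0, 8095, 11289], [6, 0, 9072, 11289], [10, 0, 8188, 11289, 9322], [9, 0, 9677, 11289, 9325], [3, 0, 10454, 11291, 6364], [6, 0, 9254, 11291], [14, 0, 11320, 10461, 11291], [15, 0, 10388, 11291], [16, 0, 10766, 11291], [3, 0, 10463, 11293, 7012], [15, 0, 10384, 11293], [16, 0, 10651, 11293], [8, 0, 9820, 11299], [10, 0, 9826, 11299], [14, 0, 9883, 11299], [15, 0,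 9824, 11299], [16, 0, 9823, 11299], [3, 0, 8963, 11301], [10, 0, 9184, 11301, 9344], [3, 0, 8211, 11302, 10450], [6, 0, 8267, 11302], [9, 0, 9351, 11302], [10, 0, 9320, 11302], [15, 0, 9732, 11311], [16, 0, 10711, 11311], [3, 0, 6957, 11317], [3, 0, 9577, 11319], [6, 0, 9671, 11319], [6, 0, 8296, 11321], [8, 0, 8290, 11321], [9, 0, 8298, 11321], [15, 0, 8294, 11321], [16, 0, 8293, 11321], [3, 0, 7012, 11330], [6, 0, 9347, 11330, 6765], [7, 0, 7015, 11330], [9, 0, 9751, 11330], [6, 0, 8268, 11348], [9, 0, 9356, 11348], [10, 0, 9344, 11348], [15, 0, 8206, 11348], [16, 0, 10545, 11348], [3, 0, 10450, 11350], [4, 0, 10889, 11350], [5, 0, 9438, 11350], [8, 0, 10425, 11350, 8212], [8, 0, 9430, 11350], [9, 0, 9440, 11350], [13, 0, 10884, 11350], [14, 0, 10452, 11350], [15, 0, 9434, 11350], [16, 0, 9433, 11350], [3, 0, 9296, 11381], [7, 0, 9299, 11381], [9, 0, 9311, 11381], [4, 0, 10272, 11403], [7, 0, 10447, 11403], [109, 2, 8218, 11424, 9442], [202, 0, 9047, 11424, 9477, 11245], [205, 5, 9745, 8218, 11424, 11405, 11400, 7753,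 10925], [207, 5, 9276, 9274, 8218, 11424, 11405, 11400, 11369, 11370], [208, 0, 9307, 9047, 11424, 11405, 8265, 11368, 7753, 10925], [205, 7, 11433, 11371, 8264, 11404, 11425, 9046, 11429], [97, 2, 11436, 9053, 9744], [98, 0, 11247, 11436, 9276], [111, 0, 9830, 8300, 11245, 11436, 9050], [240, 0, 8230, 11249, 11436, 6368], [4, 0, 7693, 11445], [6, 0, 9796, 11445, 9043], [5, 0, 7720, 11445, 9151], [7, 0, 7690, 11445, 6272], [9, 0, 8231, 11445], [9, 0, 9397, 11445, 9039], [4, 0, 9721, 11449], [7, 0, 9798, 11449], [7, 0, 9718, 11449, 6970], [15, 0, 10431, 11449, 6969], [4, 0, 6699, 11451], [7, 0, 6990, 11451], [7, 0, 6696, 11451, 6674], [9, 0, 6728, 11451], [9, 0, 7026, 11451, 9149], [15, 0, 10426, 11451, 6673], [4, 0, 10492, 11453], [6, 0, 7717, 11453], [9, 0, 8228, 11453], [9, 0, 7719, 11453, 9036], [15, 0, 10784, 11453], [16, 0, 7688, 11453], [4, 0, 9281, 11457], [7, 0, 9398, 11457], [10, 0, 9394, 11457], [15, 0, 10438, 11457, 7591], [4, 0, 10822, 11463, 6972], [6, 0, 7680, 11463, 9095], [6, 0, 8222, 11463], [8, 0, 7561,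 11463], [10, 0, 7683, 11463, 9639], [15, 0, 10616, 11463], [16, 0, 7678, 11463], [7, 0, 6966, 11464, 6265], [10, 0, 9648, 11464, 9062], [9, 0, 8154, 11464, 9166], [15, 0, 6969, 11464], [16, 0, 7019, 11464], [4, 0, 10914, 11471, 6676], [4, 0, 10496, 11471], [8, 0, 6939, 11471], [9, 0, 6727, 11471], [13, 0, 11522, 10910, 11471], [14, 0, 10500, 11471], [15, 0, 10571, 11471], [16, 0, 6694, 11471], [5, 0, 9105, 11474], [6, 0, 9102, 11474], [9, 0, 9149, 11474], [15, 0, 9300, 11474], [15, 0, 8974, 11474, 10434], [4, 0, 8103, 11477], [6, 0, 9060, 11477], [7, 0, 8100, 11477, 6671], [9, 0, 9115, 11477], [3, 0, 7595, 11484], [6, 0, 9033, 11484], [7, 0, 7592, 11484], [9, 0, 9036, 11484], [4, 0, 9585, 11497], [7, 0, 9582, 11497, 7589], [7, 0, 10607, 11499, 6974], [16, 0, 10826, 11499], [3, 0, 8979, 11500], [6, 0, 9095, 11500], [9, 0, 9100, 11500], [3, 0, 9593, 11506], [5, 0, 9636, 11506], [7, 0, 9590, 11506], [9, 0, 9640, 11506], [10, 0, 9639, 11506], [3, 0, 6964, 11513], [6, 0, 9111, 11513, 9270], [10, 0, 9653, 11513, 9065], [9,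 0, 8157, 11513, 9171], [15, 0, 9589, 11515], [16, 0, 9743, 11515]]
def dJ29 : List (List ℕ) := [[15, 0, 8107, 11517], [16, 0, 8217, 11517], [3, 0, 10913, 11523], [7, 0, 10247, 11523, 6678], [13, 0, 10908, 11523], [15, 0, 10244, 11523], [16, 0, 10833, 11523], [16, 0, 9303, 11547], [9, 0, 9116, 11553], [15, 0, 8098, 11553], [16, 0, 9580, 11567, 10436], [3, 0, 10609, 11569], [3, 0, 8970, 11591], [9, 0, 9159, 11591], [16, 0, 10445, 11591, 7583], [16, 0, 11257, 11591], [3, 0, 11564, 11593], [5, 0, 9655, 11593], [6, 0, 9656, 11593], [16, 0, 10440, 11593, 6961], [3, 0, 11548, 11595], [6, 0, 9059, 11595], [16, 0, 10428, 11595, 6665], [3, 0, 10249, 11607], [8, 0, 9578, 11621, 6998], [15, 0, 10612, 11621], [6, 0, 9265, 11628], [8, 0, 7580, 11628, 6350], [9, 0, 9268, 11628], [9, 0, 9266, 11628, 7724], [16, 0, 7583, 11628], [3, 0, 11490, 11639], [6, 0, 9378, 11639], [8, 0, 9283, 11639, 6959], [3, 0, 11466, 11645], [6, 0, 9790, 11645], [8, 0, 6701, 11645, 6663], [4, 0, 11364, 11649], [4, 0, 7578, 11655], [9, 0, 9261, 11655], [9, 0,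 9263, 11655, 7727], [6, 0, 9179, 11659], [16, 0, 8967, 11659], [6, 0, 9375, 11667], [15, 0, 9285, 11667], [5, 0, 9386, 11673], [6, 0, 9388, 11673], [15, 0, 6703, 11673], [16, 0, 11242, 11673], [4, 0, 11346, 11681], [6, 0, 9122, 11681], [10, 0, 9121, 11681], [97, 0, 9783, 8238, 11702], [101, 1, 9071, 11686, 8238, 11702, 11704], [71, 4, 9353, 11312, 11704, 11706, 6259], [201, 3, 9787, 9722, 11706, 6260], [70, 3, 11709, 6258, 11707], [235, 1, 9725, 11712, 9293], [186, 4, 8259, 9360, 11714, 9779], [70, 1, 9392, 11716, 8259], [236, 2, 10551, 11718, 11214], [247, 1, 6708, 6710, 11314, 11708, 11389, 6659, 11397, 8212, 11603, 6667, 11640, 6671, 11618, 8097, 11313, 6712, 11296, 10239, 10762, 10421, 8990, 5973, 5984, 5905, 2503, 438, 3070, 790, 1023, 5339, 1843, 1785, 11375, 11370, 8289, 8287, 8285, 8283, 8281, 8279, 8277, 8275, 8273, 8271, 8270], [236, 3, 8273, 11722, 6707], [238, 3, 8330, 11722, 9769], [239, 2, 9525, 11722, 9332], [240, 3, 8343, 11722, 9331], [235, 0, 7004, 11730, 7734], [238, 1, 9365, 11730, 9881], [236, 3,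 9803, 11734, 9289], [239, 2, 7769, 11732, 9775], [248, 39, 9872, 9874, 7766, 11732, 7003, 7001, 6999, 6998, 11674, 7010, 11332, 5709, 5721, 5732, 10306, 9563, 9561, 9559, 10701, 10699, 10697, 10695, 10717, 9731, 9729, 9727, 9725, 9723, 11459, 6970, 11508, 10598, 10803, 10804, 10824, 7553, 7525, 11039, 11036, 9816, 9818, 11337, 11344, 9603, 9601, 9599], [6, 0, 9625, 11740, 9508], [6, 0, 9622, 11740], [8, 0, 9599, 11740, 7042], [15, 0, 10625, 11740], [16, 0, 9596, 11740], [6, 0, 9508, 11742], [8, 0, 9415, 11742, 6978], [10, 0, 9513, 11742, 9012], [4, 0, 9601, 11747], [6, 0, 9618, 11747, 9516], [5, 0, 9621, 11747, 8336], [6, 0, 9506, 11755, 9081], [6, 0, 9505, 11755], [15, 0, 9417, 11755], [6, 0, 7767, 11757, 9084], [6, 0, 9874, 11757], [6, 0, 9516, 11760], [15, 0, 6745, 11760], [16, 0, 11274, 11760], [4, 0, 7603, 11763], [6, 0, 9003, 11763], [7, 0, 7600, 11763, 6385], [9, 0, 9009, 11763], [4, 0, 8987, 11764], [6, 0, 9081, 11764], [10, 0, 9082, 11764], [6, 0, 9084, 11770], [10, 0, 9087, 11770], [16, 0, 8982, 11770], [6,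 0, 9022, 11785], [9, 0, 9025, 11785], [16, 0, 7598, 11785], [234, 2, 11733, 11798], [239, 1, 8253, 11733, 11796, 10260], [5, 0, 10664, 11808], [8, 0, 10263, 11808, 8201], [15, 0, 10449, 11808], [16, 0, 10260, 11808], [4, 0, 10265, 11813], [15, 0, 11079, 11813], [233, 1, 8198, 11820], [238, 3, 8240, 11820, 9853], [239, 2, 8249, 11820, 9460], [240, 3, 9780, 11820, 9459], [234, 2, 11828, 9725], [235, 0, 7048, 11828, 11715], [233, 1, 9293, 11832], [240, 3, 10551, 9360, 11832, 8323], [4, 0, 11720, 11837, 8280], [5, 0, 10738, 11837], [8, 0, 10531, 11837, 8279], [15, 0, 11394, 11837], [16, 0, 10550, 11837], [7, 0, 11136, 11839, 8282], [15, 0, 11696, 11839], [16, 0, 11214, 11839], [4, 0, 10533, 11843], [4, 0, 11134, 11849, 10865], [7, 0, 11132, 11857, 6687], [15, 0, 11130, 11859], [16, 0, 11279, 11859], [234, 1, 11861, 11862], [236, 0, 11779, 6684, 11862], [235, 3, 11865, 11866, 11277], [238, 3, 8319, 11850, 11692], [239, 2, 9496, 11850, 9182], [240, 3, 9466, 11850, 9181], [235, 0, 11362, 11874, 7743], [238, 1, 11700, 11874,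 9850], [236, 3, 9810, 11878, 11698], [239, 2, 7774, 11876, 8260], [234, 1, 7008, 11882], [237, 3, 11361, 11367, 11882], [97, 3, 9463, 7775, 11886], [104, 0, 9499, 9463, 9855, 9858, 8323, 8321, 11886], [110, 2, 10695, 11890, 9419], [112, 4, 6746, 11889, 11890, 9419, 11892], [240, 1, 9248, 11360, 11890], [98, 1, 11894, 9520, 9862], [240, 1, 11894, 11777, 9005], [236, 3, 6283, 11900, 10696], [238, 0, 11900, 11899, 9807], [29, 2, 11904, 8132], [201, 3, 9871, 9804, 11904, 6281], [237, 2, 11908, 11725, 9335], [234, 2, 11910, 6279], [240, 1, 7731, 11910, 8137], [238, 2, 11749, 11753, 11914], [97, 3, 9335, 7730, 11916], [104, 0, 9371, 9335, 9771, 9774, 8252, 8242, 11916], [110, 2, 10627, 11920, 9287], [112, 4, 6704, 11919, 11920, 9287, 11922], [98, 1, 11924, 9392, 9778], [239, 2, 11924, 11853, 9497], [240, 1, 11924, 11695, 9182], [236, 3, 6258, 11930, 10628], [234, 2, 11932, 11897], [237, 1, 11932, 11708, 9293], [238, 2, 11932, 11315, 6711], [186, 1, 11819, 9781, 11715, 11936], [202, 3, 8204, 9360, 11936, 10630], [98, 1, 11941,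 11937, 9363], [102, 2, 9328, 11938, 11937, 9363, 11944], [202, 3, 10631, 11940, 11946, 6359], [238, 3, 9511, 11729, 11948], [234, 1, 10633, 11950], [235, 3, 11751, 7041, 11952], [70, 2, 11954, 9629, 11622], [186, 3, 11954, 9629, 9015, 11646], [110, 0, 10251, 11958, 10634], [239, 2, 11958, 11953, 7100], [98, 2, 11258, 11960, 10614], [109, 1, 10610, 11964, 11120], [185, 2, 11964, 11258, 10636, 11434], [69, 0, 11423, 9304, 11968, 10615], [3, 0, 11422, 11971], [8, 0, 10270, 11971, 10251], [16, 0, 10268, 11975], [234, 1, 11962, 11976], [239, 3, 10632, 11959, 11976], [98, 1, 11980, 11942, 9369], [235, 3, 10253, 11972, 8214], [185, 0, 9644, 11984, 11657, 11652], [69, 1, 6348, 11652, 11986], [70, 2, 8194, 11711, 11986], [204, 3, 6346, 11989, 11990, 8193, 8226, 11562, 8148], [205, 4, 11990, 11455, 9039, 11492, 6643, 6692, 6240], [69, 0, 11992, 10494, 9700], [192, 7, 8111, 11992, 7023, 11576, 6676, 11604, 9225, 9139]]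
def dJ30 : List (List ℕ) := [[238, 3, 11992, 10701, 11233], [75, 4, 6275, 11480, 11993, 8110, 11999, 9701, 9703], [189, 3, 11573, 7022, 11993, 8149, 6274, 12003, 9205], [187, 0, 8169, 9205, 12004, 9098, 9035, 9031, 9633], [236, 3, 5778, 10334, 12004], [240, 1, 9097, 12008, 5775], [237, 2, 6332, 12010, 9630], [241, 1, 6641, 2372, 12010], [241, 1, 12012, 6324, 12013], [235, 0, 10790, 10475, 12002], [236, 3, 2918, 10316, 12002], [242, 2, 12020, 1841, 7151], [193, 1, 7154, 12022, 6275, 8148], [237, 2, 8146, 12018, 11178], [237, 2, 11956, 11953, 9511], [238, 1, 11956, 10633, 11949], [240, 3, 9332, 12030, 11967], [234, 2, 11123, 12032, 11723], [7, 0, 11125, 12035, 8271], [4, 0, 11127, 12037, 11237], [3, 0, 11175, 12038], [4, 0, 11237, 12038], [5, 0, 11233, 12038], [6, 0, 11235, 12038], [7, 0, 11172, 12038], [9, 0, 11230, 12038], [13, 0, 11240, 12038], [16, 0, 12001, 12038], [37, 1, 11129, 12048], [238, 1, 9026, 11912, 9771], [247, 3, 10327, 5789, 7078, 7072, 5733, 5720, 5708, 10649, 10647, 10645, 10919, 7755, 10922, 10637,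 10635, 10633, 10631, 10629, 10627, 11749, 7042, 11758, 9602, 11345, 11336, 9819, 9817, 11037, 11038, 7524, 7552, 10825, 10805, 10802, 10599, 11509, 6971, 11458, 9722, 11830, 7050, 10860, 6983, 6982, 7061, 7059], [4, 0, 10486, 12061, 7057], [6, 0, 9226, 12061], [8, 0, 8948, 12061, 7058], [10, 0, 9225, 12061, 9832], [9, 0, 9138, 12061, 8301], [14, 0, 10488, 12061], [15, 0, 10485, 12061], [16, 0, 10326, 12061], [6, 0, 11502, 12063, 9479], [6, 0, 8225, 12063], [7, 0, 8193, 12063], [7, 0, 8945, 12063, 7055], [10, 0, 8227, 12063, 9449], [9, 0, 11482, 12063, 8307], [15, 0, 10256, 12063], [16, 0, 8190, 12063], [5, 0, 9142, 12067, 7065], [10, 0, 9218, 12067, 11339], [9, 0, 9141, 12067, 11373], [5, 0, 9835, 12068], [5, 0, 9836, 12068, 9220], [8, 0, 11442, 12068], [10, 0, 9832, 12068], [4, 0, 8288, 12070, 11996], [5, 0, 8303, 12070, 8170], [8, 0, 11433, 12070], [9, 0, 8301, 12070], [4, 0, 9429, 12078], [6, 0, 9479, 12078], [7, 0, 9426, 12078, 11504], [5, 0, 9145, 12085, 9845], [8, 0, 9146, 12085], [10, 0, 9210, 12085, 9452], [4,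 0, 6757, 12086], [10, 0, 9449, 12086], [8, 0, 6396, 12088], [9, 0, 8307, 12088], [10, 0, 9209, 12095, 11420], [9, 0, 8166, 12095, 7758], [3, 0, 7708, 12096], [6, 0, 9755, 12096, 9704], [7, 0, 7711, 12096], [10, 0, 11339, 12096], [14, 0, 11341, 12096], [15, 0, 11343, 12096], [16, 0, 11345, 12096], [4, 0, 8078, 12099], [8, 0, 8081, 12099], [10, 0, 9216, 12099], [6, 0, 9444, 12103], [8, 0, 8286, 12109], [3, 0, 11478, 12110], [4, 0, 12003, 12110], [5, 0, 8170, 12110], [6, 0, 9703, 12110], [9, 0, 9204, 12110], [10, 0, 8169, 12110], [15, 0, 10475, 12110], [16, 0, 10316, 12110], [10, 0, 9483, 12121, 7685], [15, 0, 10848, 12121], [16, 0, 9424, 12121], [3, 0, 10905, 12122], [5, 0, 9845, 12122], [13, 0, 10907, 12122], [15, 0, 11036, 12122], [16, 0, 9814, 12122], [4, 0, 11282, 12126], [9, 0, 9451, 12126], [10, 0, 9452, 12126], [14, 0, 11076, 12126], [15, 0, 11075, 12126], [16, 0, 6752, 12126], [3, 0, 6714, 12136], [7, 0, 6717, 12136], [10, 0, 11420, 12136], [3, 0, 10457, 12138], [5, 0, 11368, 12138], [6, 0, 11400, 12138], [7, 0,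 10923, 12138], [9, 0, 7758, 12138], [13, 0, 12139, 7761, 12138], [15, 0, 7756, 12138], [16, 0, 7755, 12138], [3, 0, 11306, 12143], [7, 0, 9739, 12143], [9, 0, 9749, 12143], [10, 0, 11384, 12143], [4, 0, 10895, 12181], [6, 0, 9472, 12181], [9, 0, 9475, 12181], [13, 0, 12180, 10893, 12181], [16, 0, 7746, 12181], [194, 3, 11322, 12239, 12244, 8163], [198, 4, 11409, 8265, 12217, 12214, 12239, 12244, 8163], [225, 4, 12244, 6241, 6341, 6240], [227, 3, 11583, 6240, 12252, 12252, 12244, 6241, 11582], [232, 0, 11582, 11995, 12244, 12244, 11994, 11583, 6341, 6341], [217, 2, 6243, 12245, 12253, 6242], [219, 3, 12215, 6243, 12245, 12245, 12253, 6242, 12214], [225, 4, 12255, 11995, 12245, 11994], [209, 1, 9645, 12262, 11583, 11584], [210, 1, 9642, 12262, 9643, 11460], [211, 1, 12264, 9645, 12262, 12262, 11583, 6240, 12242], [212, 2, 12266, 9642, 12262, 12262, 9643, 11460, 11505], [214, 0, 12163, 12264, 8153, 9642, 12262, 9643, 8152], [117, 3, 12272, 12268, 12162], [206, 7, 11454, 11495, 9040, 12272, 12163, 8149, 12132], [210, 3, 8152,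 12272, 12268, 8150], [225, 0, 6514, 12025, 12162, 12274], [217, 2, 6512, 12281, 12275, 10845], [118, 0, 6758, 12282, 6511], [209, 1, 12236, 12282, 6511, 7864], [118, 2, 6833, 12286, 12232], [209, 1, 9746, 12288, 6833, 8656], [118, 2, 7145, 12290, 11424], [218, 0, 11459, 12279, 12116, 12292], [225, 2, 11409, 11404, 12292, 12294, 9722], [3, 0, 11713, 12296, 10891], [6, 0, 11707, 12296, 12241], [5, 0, 11704, 12296, 12251], [7, 0, 9722, 12296, 12276], [10, 0, 9782, 12296, 8309], [9, 0, 9785, 12296, 12199], [16, 0, 9725, 12296, 10877], [15, 0, 11831, 12296, 6395], [6, 0, 11708, 12299, 9253], [5, 0, 9352, 12299, 11352], [7, 0, 9295, 12299], [10, 0, 9355, 12299, 11354], [9, 0, 11388, 12299, 11356], [16, 0, 9292, 12299, 10417], [15, 0, 11834, 12299, 11184], [7, 0, 6261, 12301, 11994], [10, 0, 9070, 12301, 12242], [9, 0, 9182, 12301, 7684], [15, 0, 11931, 12301], [15, 0, 11873, 12301, 12246], [4, 0, 12316, 11312, 12303], [7, 0, 8097, 12303, 8158], [10, 0, 11702, 12303, 8160], [9, 0, 11678, 12303, 9716], [3, 0, 11458, 12305], [6,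 0, 11670, 12305, 9043], [5, 0, 9792, 12305, 9151], [10, 0, 9787, 12305, 11454], [9, 0, 9788, 12305, 9039], [14, 0, 12294, 12305], [15, 0, 10443, 12305, 6271], [16, 0, 8199, 12307, 10847], [15, 0, 11822, 12307, 7053], [3, 0, 11675, 12309, 12196], [16, 0, 7001, 12309, 12204], [15, 0, 11871, 12309, 12206], [5, 0, 11927, 12311], [7, 0, 9727, 12311, 6069], [8, 0, 12363, 7051, 12313], [7, 0, 6256, 12315], [9, 0, 9249, 12315, 9251], [16, 0, 11932, 12315, 6255], [16, 0, 11896, 12315], [7, 0, 6713, 12317], [10, 0, 9323, 12317, 8263], [16, 0, 6710, 12317, 11326], [4, 0, 11416, 12320], [8, 0, 12318, 12320], [10, 0, 11354, 12320], [4, 0, 12140, 12322], [8, 0, 7706, 12322]]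
def dJ31 : List (List ℕ) := [[9, 0, 11356, 12322], [16, 0, 11305, 12322, 11392], [8, 0, 9290, 12325, 6083], [10, 0, 9362, 12325, 6294], [3, 0, 11219, 12326], [4, 0, 11221, 12326], [6, 0, 11223, 12326], [8, 0, 12057, 12326, 7047], [8, 0, 12048, 12326], [10, 0, 11225, 12326, 9859], [13, 0, 11227, 12326], [14, 0, 11229, 12326], [15, 0, 11184, 12326], [16, 0, 11216, 12326], [4, 0, 11986, 12328], [6, 0, 11989, 12328, 11653], [7, 0, 11994, 12328], [8, 0, 11582, 12328], [10, 0, 9645, 12328, 9068], [11, 0, 12329, 12262, 12328], [13, 0, 12329, 12254, 12328], [15, 0, 9740, 12328], [15, 0, 11596, 12328, 6262], [3, 0, 10844, 12330], [6, 0, 8311, 12330], [7, 0, 12162, 12330], [10, 0, 12242, 12330], [11, 0, 12269, 12330], [12, 0, 12436, 12275, 12330], [16, 0, 10843, 12330, 11688], [15, 0, 8284, 12330, 11874], [3, 0, 7563, 12332], [6, 0, 9213, 12332], [7, 0, 11504, 12332], [9, 0, 7684, 12332], [11, 0, 12349, 12267, 12332], [12, 0, 12270, 12332], [16, 0, 12183, 12332, 11694], [15, 0, 12185, 12332, 11851], [4, 0, 9420, 12337], [8, 0,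 12476, 9423, 12337], [16, 0, 11929, 12337], [3, 0, 12436, 11984, 12341], [16, 0, 10252, 12341, 11544], [15, 0, 11618, 12341, 10434], [4, 0, 11699, 12343], [6, 0, 11701, 12343], [16, 0, 7697, 12343, 12192], [15, 0, 11878, 12343, 12194], [3, 0, 9561, 12344], [5, 0, 9710, 12344], [7, 0, 9558, 12344], [9, 0, 9716, 12344], [10, 0, 9713, 12344], [4, 0, 12346, 12348], [6, 0, 9043, 12348], [8, 0, 6971, 12348], [11, 0, 12278, 12348], [15, 0, 7016, 12348], [15, 0, 11518, 12348, 6664], [3, 0, 11446, 12351], [6, 0, 11683, 12351], [15, 0, 11685, 12351, 6673], [3, 0, 8194, 12353], [5, 0, 11710, 12353], [16, 0, 11251, 12353, 11249], [4, 0, 11662, 12354], [6, 0, 11538, 12354], [7, 0, 11493, 12354], [8, 0, 11560, 12354], [9, 0, 9039, 12354], [10, 0, 11495, 12354], [16, 0, 7712, 12354, 11650], [15, 0, 7590, 12354, 10437], [6, 0, 9155, 12358], [8, 0, 6268, 12358], [15, 0, 6271, 12358], [16, 0, 6371, 12358], [7, 0, 8201, 12361, 2968], [3, 0, 10861, 12362], [3, 0, 10862, 12362, 6749], [10, 0, 8312, 12362], [13, 0, 10875, 12362], [15, 0, 7053,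 12362], [16, 0, 10870, 12362], [5, 0, 11386, 12365], [7, 0, 12387, 7011, 12365], [16, 0, 7008, 12365, 11294], [15, 0, 11883, 12365, 11296], [3, 0, 11064, 12366], [5, 0, 11066, 12366, 8250], [9, 0, 11070, 12366], [10, 0, 11060, 12366], [12, 0, 11081, 12366], [14, 0, 11068, 12366], [16, 0, 12204, 12366], [3, 0, 10859, 12368], [7, 0, 6750, 12368], [9, 0, 9456, 12368], [15, 0, 12206, 12368], [4, 0, 9729, 12373, 5778], [6, 0, 9772, 12373, 5776], [5, 0, 9771, 12373, 7661], [10, 0, 9775, 12373], [16, 0, 12059, 12373, 12009], [16, 0, 11739, 12373], [3, 0, 11676, 12379], [6, 0, 9245, 12379], [7, 0, 7576, 12379], [16, 0, 11359, 12379, 10413], [16, 0, 11361, 12379], [3, 0, 10628, 12381], [8, 0, 10631, 12381, 10394], [15, 0, 11934, 12381], [4, 0, 11378, 12386], [9, 0, 9318, 12386], [10, 0, 8263, 12386], [16, 0, 11333, 12386, 6361], [15, 0, 11335, 12386, 11877], [8, 0, 6708, 12389, 1882], [15, 0, 11846, 12402], [16, 0, 11392, 12402], [3, 0, 9288, 12405, 4769], [6, 0, 11983, 12405, 5641], [5, 0, 9364, 12405, 10302], [15, 0, 11734,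 12405, 6372], [16, 0, 7705, 12407], [3, 0, 11868, 12415], [7, 0, 11128, 12415], [15, 0, 11864, 12415], [15, 0, 11860, 12415, 7045], [4, 0, 10802, 12419], [8, 0, 10598, 12419], [16, 0, 10807, 12419], [3, 0, 6348, 12430], [6, 0, 11653, 12430], [7, 0, 6351, 12430], [16, 0, 11254, 12430, 11252], [15, 0, 11661, 12430, 10432], [5, 0, 11540, 12437], [8, 0, 8109, 12437], [12, 0, 12264, 12437], [13, 0, 12281, 12437], [15, 0, 8214, 12437], [15, 0, 11600, 12437, 6960], [4, 0, 11588, 12445], [8, 0, 12689, 6962, 12445], [16, 0, 11599, 12445], [10, 0, 11923, 12458], [16, 0, 11688, 12458], [3, 0, 10864, 12461], [7, 0, 8282, 12461], [10, 0, 9471, 12461], [16, 0, 10841, 12461], [6, 0, 9393, 12474], [9, 0, 11924, 12474], [16, 0, 11694, 12474], [3, 0, 10856, 12477], [9, 0, 9490, 12477], [16, 0, 10851, 12477], [3, 0, 11973, 12487], [7, 0, 10250, 12487], [4, 0, 7587, 12488], [8, 0, 7584, 12488], [15, 0, 10434, 12488], [16, 0, 11615, 12488], [3, 0, 11028, 12494], [4, 0, 11027, 12494], [5, 0, 11030, 12494], [6, 0, 11024, 12494], [7, 0, 11039,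 12494], [10, 0, 11032, 12494], [16, 0, 12192, 12494], [3, 0, 10866, 12496], [7, 0, 9812, 12496], [15, 0, 12194, 12496], [3, 0, 11641, 12518], [6, 0, 11643, 12518], [7, 0, 6667, 12518], [9, 0, 9171, 12518], [15, 0, 6664, 12518], [7, 0, 12677, 8969, 12525], [10, 0, 11616, 12525], [3, 0, 11118, 12531], [3, 0, 11968, 12544], [8, 0, 10610, 12544, 12105], [16, 0, 11650, 12544], [4, 0, 12689, 11632, 12547], [8, 0, 7588, 12547], [16, 0, 7715, 12547], [6, 0, 11811, 12557, 6333], [5, 0, 8243, 12557, 5135], [9, 0, 8252, 12557], [16, 0, 11815, 12557, 12010], [16, 0, 11817, 12557], [4, 0, 10581, 12561], [8, 0, 10505, 12561], [16, 0, 10502, 12561], [4, 0, 11047, 12574], [5, 0, 10404, 12574]]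
def dJ32 : List (List ℕ) := [[8, 0, 10375, 12574], [9, 0, 10386, 12574], [11, 0, 10377, 12574], [14, 0, 10379, 12574], [16, 0, 11294, 12574], [4, 0, 10241, 12576], [8, 0, 10238, 12576], [9, 0, 10747, 12576], [15, 0, 11296, 12576], [5, 0, 8250, 12580], [10, 0, 7729, 12580], [16, 0, 6352, 12580], [15, 0, 11727, 12601, 6788], [15, 0, 11725, 12603, 10828], [7, 0, 7698, 12605], [16, 0, 11912, 12605, 11571], [15, 0, 11911, 12605, 10825], [3, 0, 12004, 12608], [4, 0, 11572, 12608], [8, 0, 8981, 12608], [9, 0, 9099, 12608, 9090], [16, 0, 12009, 12608], [5, 0, 9764, 12619], [15, 0, 10717, 12619], [6, 0, 11948, 12625, 10340], [16, 0, 10633, 12625, 6247], [15, 0, 11951, 12625, 10354], [9, 0, 8256, 12634], [16, 0, 6361, 12634], [4, 0, 10652, 12637], [8, 0, 10646, 12637], [10, 0, 10769, 12637], [13, 0, 10658, 12637], [16, 0, 10649, 12637], [15, 0, 11722, 12639, 7080], [6, 0, 9367, 12645], [16, 0, 11737, 12645], [16, 0, 11976, 12647, 12179], [15, 0, 11979, 12647, 6408], [5, 0, 10302, 12648], [6, 0, 10308, 12648], [7, 0, 10322, 12648],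 [9, 0, 10324, 12648], [15, 0, 8082, 12648], [15, 0, 10301, 12648, 11730], [4, 0, 9803, 12651], [8, 0, 9800, 12651], [4, 0, 11759, 12660], [6, 0, 11774, 12660, 9000], [5, 0, 8337, 12660, 9615], [8, 0, 7042, 12660], [9, 0, 9868, 12660], [9, 0, 8334, 12660, 8999], [15, 0, 7045, 12660], [4, 0, 10636, 12674], [5, 0, 11246, 12674], [6, 0, 11431, 12674], [8, 0, 12220, 12674], [9, 0, 11435, 12674], [10, 0, 11440, 12674], [16, 0, 11252, 12674], [4, 0, 11624, 12676], [10, 0, 11554, 12676], [15, 0, 10432, 12676], [5, 0, 11635, 12688], [6, 0, 11637, 12688], [10, 0, 9065, 12688], [15, 0, 6960, 12688], [3, 0, 11622, 12771, 11605], [16, 0, 12028, 12771, 10470], [7, 0, 10627, 12781], [16, 0, 10663, 12781, 12013], [16, 0, 11748, 12781], [15, 0, 11914, 12783, 10830], [7, 0, 8112, 12787], [10, 0, 9029, 12787], [15, 0, 8115, 12787], [3, 0, 10541, 12824], [6, 0, 7087, 12824], [7, 0, 12876, 6739, 12824], [15, 0, 6788, 12824], [16, 0, 10472, 12824], [4, 0, 10762, 12826], [8, 0, 10420, 12826], [15, 0, 10828, 12826], [4, 0, 6972, 12830], [8,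 0, 12936, 6975, 12830], [9, 0, 8143, 12830, 9016], [16, 0, 11571, 12830], [3, 0, 10817, 12832], [4, 0, 10814, 12832], [8, 0, 10809, 12832, 6280], [8, 0, 10804, 12832], [9, 0, 10821, 12832, 9011], [15, 0, 10825, 12832], [7, 0, 12838, 12840], [9, 0, 9090, 12840], [16, 0, 11798, 12840, 12027], [16, 0, 11807, 12840], [9, 0, 8255, 12849], [8, 0, 10635, 12851], [4, 0, 7041, 12853], [8, 0, 7090, 12853], [10, 0, 7103, 12853], [4, 0, 8273, 12869], [6, 0, 8330, 12869], [8, 0, 8270, 12869], [8, 0, 12722, 12875], [9, 0, 6787, 12877], [8, 0, 7732, 12888], [15, 0, 11730, 12888], [3, 0, 11780, 12896], [6, 0, 9000, 12896], [7, 0, 7605, 12896], [3, 0, 12894, 12898], [5, 0, 9615, 12898], [7, 0, 9603, 12898], [10, 0, 9611, 12898, 11786], [9, 0, 9612, 12898, 7770], [3, 0, 13037, 11788, 12904], [7, 0, 8989, 12904], [9, 0, 8999, 12904], [10, 0, 8140, 12937], [8, 0, 9528, 12939], [7, 0, 9594, 12943], [15, 0, 11750, 12943], [3, 0, 10835, 12946], [4, 0, 10819, 12946], [8, 0, 10242, 12946], [13, 0, 10839, 12946], [14, 0, 10837, 12946], [15, 0,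 10830, 12946], [16, 0, 11610, 12946], [7, 0, 6678, 12974], [9, 0, 9016, 12974], [3, 0, 6282, 12983], [7, 0, 6285, 12983], [16, 0, 11902, 12983, 11900], [3, 0, 10791, 12987], [4, 0, 10645, 12987], [8, 0, 10918, 12987], [13, 0, 10793, 12987], [15, 0, 10788, 12987], [16, 0, 12018, 12987], [3, 0, 11238, 12994], [4, 0, 12040, 12994], [8, 0, 11177, 12994], [16, 0, 12027, 12994], [3, 0, 8118, 13035], [7, 0, 8121, 13035], [16, 0, 11261, 13035], [5, 0, 8327, 13036], [6, 0, 11791, 13036], [8, 0, 7736, 13036], [9, 0, 7770, 13036], [10, 0, 11793, 13036], [15, 0, 7739, 13036], [3, 0, 10696, 13075], [7, 0, 10699, 13075], [10, 0, 10927, 13075, 11893], [3, 0, 11854, 13119], [7, 0, 10535, 13119], [37, 1, 9419, 13122], [109, 2, 9519, 13122, 10572], [114, 4, 13117, 11893, 13122, 13124, 11891], [201, 2, 9523, 9519, 13122, 10543], [202, 4, 9864, 9500, 13122, 10623], [207, 2, 12413, 12416, 12657, 8341, 9523, 9519, 13122, 13124], [243, 24, 11768, 13122, 12955, 12958, 12177, 13014, 12720, 8213, 11414, 11415, 11412, 5973, 5984, 5905, 2503, 438,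 3070, 790, 4582, 5184, 5142, 4721, 10538, 13123, 13120, 8278, 12641, 2376, 5670, 2969, 12569, 12595, 12592], [247, 1, 11269, 12659, 8341, 9523, 9519, 13122, 12955, 12958, 6409, 5341, 1846, 2968, 12010, 12948, 8111, 12681, 12935, 12757, 12752, 6671, 12730, 13015, 12166, 13066, 13065, 13056, 12811, 12812, 10237, 2309, 5668, 2885, 2894, 438, 3070, 790, 4582, 5184, 5142, 4721, 10538, 13123, 13120, 8278, 8279], [247, 30, 11272, 11867, 11268, 13139, 8278, 8280, 12703, 12706, 5905, 4586, 5184, 13063, 13056, 12811, 12812, 12813, 12816, 12385, 11328, 13135, 9494, 8323, 8279, 13121, 13122, 10539, 4720, 5143, 5185, 4583, 791, 3071, 439, 2502, 5904, 5985, 5972, 11413, 8212, 12721, 13015, 12176, 12959, 12954, 13123], [247, 18, 11269, 11866, 11273, 13141, 13122, 12955, 12958, 6409, 5341, 1846, 2968, 12010, 12948, 8111, 12681, 12935, 12757, 12752, 6671, 12730, 13015, 12166, 13066, 11612, 5185, 4587, 5904, 5905, 2503, 438, 3049, 2123, 2105, 4593, 5184, 5142, 4721, 6992, 8076, 12155, 12156, 10479, 13013, 13008, 8274], [247, 1, 2175, 13085,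 11772, 9877, 11796, 8116, 13097, 13098, 11377, 12156, 11996, 12451, 12699, 5905, 4586, 5184, 13063, 13056, 12811, 12812, 12091, 12082, 12527, 12125, 10847, 2968, 5671, 2377, 12640, 8279, 13121, 13122, 10536, 8076, 12155, 12156, 12887, 12882, 7541, 12801, 12808, 12385, 12339, 8158, 8159], [248, 44, 2377, 2376, 5670, 2969, 12569, 12595, 12592, 13136, 11768, 13122, 12955, 12958, 6409, 5341, 1846, 2968, 12788, 8116, 13097, 13098, 8122, 1784, 1842, 5338, 4581, 5184, 5142, 4721, 6992, 8076, 12155, 12156, 12887, 12882, 7541, 12801, 12808, 12385, 12339, 8158, 11542, 9150, 12511, 12516, 11427], [248, 41, 12963, 12958, 12177, 13014, 13015, 12166, 13066, 13065, 13056, 12811, 12812, 10237, 2309, 5668, 2885, 2892, 5904, 5985, 5972, 11413, 8212, 12721, 13015, 12178, 5341, 1846, 2968, 12010, 12948, 8111, 12681, 12686, 8213, 11396, 6658, 11845, 8279, 13121, 13122, 10536, 8076, 12155, 12156, 12114, 9476], [244, 8, 11272, 11867, 11268, 13139, 8278, 8280, 12703, 11875, 12450, 11997, 12157, 11374, 1784, 1842, 5338, 4581, 5184, 5142, 4721,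 10538, 13123, 13120, 8278, 12641, 12642, 12643, 2376, 5670, 2969, 12569, 12595, 12592, 13136], [236, 2, 13150, 11271, 13143], [237, 3, 13143, 11767, 13150], [240, 0, 11779, 9006, 13150], [202, 2, 13154, 11269, 11267, 11265], [37, 2, 13158, 11272], [109, 3, 13158, 13156, 11273], [110, 0, 13158, 13162, 13161], [243, 3, 13158, 13151, 6979, 13052, 13046, 12075, 7058, 10854, 7054, 12092, 2328, 2921, 2091, 5764, 6134, 6127, 6015, 8991, 13041, 13038, 13106, 11732, 7003, 11716, 7007, 13021, 13018, 10575, 13126, 11777, 11776, 11276, 13160], [243, 24, 6721, 12762, 12922, 12727, 12730, 11419, 12391, 12392, 12425, 12424, 10417, 6083, 4769, 5902, 12707, 7744, 10902, 13027, 11778, 13160, 13166, 13158, 13141, 9418, 12479, 12480, 12718, 5462, 2118, 2366, 12010, 7596, 12834], [243, 6, 10772, 10668, 10737, 12539, 12532, 6959, 11874, 7744, 10902, 13027, 11778, 13160, 13166, 13158, 13151, 6979, 13052, 13046, 7081, 1887, 1760, 2882, 12642, 12398, 12491, 11469, 6673, 6672, 6719, 13169, 12835, 7597, 12952], [243, 19, 12113, 10479, 13018, 10575,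 13126, 11276, 13160, 13166, 13158, 13141, 9418, 12479, 12480, 12718, 12719, 11850, 12466, 12116, 11405, 11412, 6014, 6126, 6135, 5767, 793, 755, 767, 4582, 5186, 6027, 6012, 6762, 11382], [244, 30, 7046, 12426, 10416, 10417, 6083, 4769, 5902, 12707, 7744, 10902, 13027, 11778, 13160, 13166, 13158, 13141, 9418, 12479, 12480, 11850, 12466, 12116, 11405, 11412, 6014, 6126, 6135, 5765, 2090, 2920, 2329, 10236, 13130], [248, 43, 11804, 12991, 12990, 12836, 6994, 11544, 11419, 12391, 12392, 10417, 6083, 4769, 5902, 12707, 7744, 10902, 13027, 11778, 13160, 13166, 13158, 13141, 9418, 12479, 12480, 11850, 12466, 12116, 11405, 11412, 6014, 6126, 6135, 5767, 793, 755, 767, 4582, 5186, 6027, 6012, 6016, 11043, 11045, 9605], [205, 4, 6988, 8126, 9608, 13176, 6384, 13030, 12900], [245, 9, 13124, 12383, 12377, 12239, 12433, 6262, 6264, 6266, 12551, 12554, 6367, 6365, 6363, 6362, 6364, 6366, 6368, 6272, 6274, 6276, 6277, 6275, 6273, 6369, 6367, 6365, 6363, 12857, 4888, 5133, 4804, 12822, 12673, 12668, 6347, 6345, 4707, 5095, 5711, 5714,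 2967, 1851, 1800, 9605, 13176], [186, 2, 11803, 13180, 10543, 10745], [21, 1, 10748, 13182], [77, 1, 10749, 10751, 13182], [78, 2, 13185, 13186, 13182], [192, 8, 10781, 10765, 10745, 13182, 13184, 7096, 7098, 12890], [243, 19, 13081, 13084, 2091, 2101, 2967, 12569, 12375, 12409, 7047, 12907, 12900, 13003, 13004, 12177, 12176, 6409, 5342, 1398, 1878, 10666, 10668, 13182, 13170, 8122, 1799, 2146, 5462, 5728, 5732, 4773, 4722, 10538, 13124], [243, 7, 11425, 12687, 6959, 11363, 6362, 11328, 10668, 13182, 13170, 8122, 1799, 2146, 5462, 3048, 418, 406, 440, 2895, 2882, 2139, 1801, 7062, 7059, 7057, 7055, 12567, 12566, 10847, 2966, 2100, 2090, 12021, 6276], [244, 26, 13127, 11535, 11526, 12186, 6401, 12178, 6408, 6409, 5342, 1398, 1878, 10666, 10668, 13182, 13170, 8122, 1799, 2146, 5462, 5728, 5732, 4773, 4722, 6992, 6994, 6996, 12536, 12591, 7002, 7004, 7006, 11885, 6389], [244, 26, 13169, 10335, 6132, 6141, 4805, 13063, 13064, 13065, 6978, 6980, 6982, 7061, 7059, 7057, 7055, 12567, 12375, 12409, 7047, 12907, 12900, 13003,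 13004, 6409, 5342, 1398, 1878, 10666, 10668, 13182, 13170, 11377, 6366]]
def dJ33 : List (List ℕ) := [[247, 3, 7076, 5789, 5783, 5342, 1398, 1878, 10666, 10668, 13182, 13170, 11377, 6366, 13198, 13169, 10335, 6132, 6141, 4805, 13063, 6978, 6980, 6982, 7061, 7059, 7057, 7055, 10847, 2966, 2100, 2090, 13085, 13080, 13193, 13125, 10536, 6994, 6996, 12536, 12599, 6392, 10879, 13041, 13040, 11415, 11404], [234, 2, 13200, 7030], [239, 1, 13200, 7072, 10306], [244, 10, 11424, 13200, 7070, 12735, 12829, 12977, 6277, 6275, 6273, 6369, 6367, 6365, 6363, 12857, 4888, 5133, 4804, 12822, 12673, 12668, 6347, 6345, 10702, 10703, 4707, 5095, 5711, 5714, 2967, 1851, 1800, 12151, 12144], [245, 3, 6012, 5982, 5709, 5714, 2366, 5673, 2327, 11489, 12132, 11399, 11404, 13200, 7029, 6216, 6293, 12652, 12392, 10890, 12276, 12277, 10891, 12393, 11880, 12664, 12981, 12984, 12985, 12980, 12665, 11881, 12392, 10890, 12276, 6369, 12113, 11998, 12990, 12842, 5773, 4584, 5186, 12822, 12502, 10494, 9563], [237, 2, 9707, 13208, 11043], [234, 1, 11057,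 13210], [248, 13, 12211, 13212, 13057, 13054, 12793, 12794, 5338, 1759, 2884, 13147, 6758, 12447, 12450, 12055, 12657, 12654, 6746, 12794, 5340, 2919, 2174, 13145, 8158, 12484, 12680, 8150, 11575, 12081, 12090, 12813, 11884, 12800, 12801, 12796, 11053, 11056, 13136, 13153, 8275, 12968, 5475, 2143, 2376, 13147, 11426], [45, 2, 13204, 9442], [109, 0, 13204, 11425, 9746], [187, 0, 13216, 13204, 13195, 13069, 9021, 9633, 9631], [77, 1, 11557, 12015, 13220], [78, 2, 12128, 13222, 13220], [236, 1, 13185, 12953, 13220], [226, 4, 12289, 13218, 10482, 6837], [244, 10, 13218, 10307, 6082, 6093, 6069, 12843, 7597, 11557, 12539, 12773, 12145, 12397, 12398, 12653, 7071, 7664, 12828, 12744, 11469, 12520, 6272, 11488, 10787, 10786, 2329, 2298, 1887, 1917, 6066, 6073, 6014, 13209, 12232], [248, 33, 13133, 11509, 12467, 12462, 7564, 9223, 9701, 12171, 12176, 13005, 10468, 13000, 13001, 12007, 13048, 13050, 13178, 12859, 12860, 10786, 2329, 2298, 1887, 1917, 6066, 6073, 6014, 13209, 12232, 13230, 13218, 10307, 6082, 6093, 6069, 12843,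 7597, 11557, 12539, 12773, 12145, 12397, 12398, 11880, 9809], [248, 16, 6200, 6232, 12944, 13178, 12859, 12860, 10786, 2329, 2298, 1887, 1917, 6066, 6073, 6014, 13209, 12232, 13230, 13218, 10307, 6082, 6093, 6069, 5775, 6333, 6322, 11613, 12973, 12976, 7553, 7552, 7554, 7677, 11511, 12467, 12462, 7564, 10470, 13019, 13089, 13107, 13112, 7740, 7742, 7744, 12482], [117, 3, 13234, 6210, 13235], [225, 0, 13234, 6206, 13235, 13236], [243, 11, 13234, 6197, 7028, 7671, 7676, 10596, 12665, 12662, 12985, 12988, 7553, 7525, 12741, 11825, 12748, 9811, 9809, 9807, 9805, 12891, 12892, 10480, 10481, 6373, 5733, 5720, 5708, 12867, 12860, 13079, 13080, 7606, 7640], [247, 4, 5642, 6317, 12940, 12623, 10394, 6247, 13000, 12909, 12914, 12226, 7640, 13240, 13234, 6197, 7028, 7671, 7676, 10596, 12665, 12662, 12985, 12988, 7553, 7525, 12741, 11825, 12748, 9811, 9809, 9807, 9805, 12891, 12892, 10480, 9563, 12499, 12502, 6345, 4722, 5768, 5773, 5772, 12843, 12991, 12996], [244, 7, 13113, 6982, 12559, 12375, 10872, 6069, 5778, 6132, 12846, 10694,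 13115, 13116, 10703, 4722, 5768, 5773, 1919, 993, 2805, 441, 6199, 13235, 13241, 7641, 12227, 12228, 12229, 12915, 12908, 13001, 10469, 13004, 10783], [247, 20, 9418, 12627, 10394, 10338, 12940, 12483, 12480, 12714, 13033, 6386, 13131, 10258, 13047, 10471, 12104, 12768, 11419, 6402, 12985, 12980, 12665, 12666, 6292, 6217, 7028, 7029, 6196, 13235, 12335, 12240, 12251, 12505, 12502, 10494, 9563, 13208, 6012, 5982, 5709, 5714, 2366, 5673, 2327, 10787, 13244], [21, 2, 13246, 13120], [243, 7, 12550, 12554, 12113, 11998, 12990, 12842, 5773, 4584, 5186, 12822, 12502, 10494, 9563, 13208, 6012, 5982, 5709, 5714, 2366, 5673, 2327, 10787, 13244, 13246, 9418, 12627, 12626, 12383, 12376, 12215, 12915, 11631, 12763], [248, 44, 10695, 10694, 13115, 13116, 10703, 4722, 5768, 5773, 1919, 993, 2805, 441, 6194, 7028, 7671, 7676, 10596, 12665, 12662, 12985, 6279, 12972, 11604, 12104, 12779, 12777, 12774, 12693, 6263, 12434, 11578, 13049, 12012, 12940, 12623, 10394, 10354, 13004, 10783, 13244, 7772, 8340, 9521, 11276, 13160], [234, 2, 13252,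 11901], [237, 0, 11265, 13252, 11899], [233, 1, 9806, 13256], [235, 1, 13257, 13232, 13256], [239, 1, 13139, 9865, 13256], [247, 2, 13139, 8324, 9503, 11892, 13116, 10705, 12893, 6373, 6082, 6093, 6069, 12843, 7597, 11557, 12539, 10437, 12776, 12725, 12726, 11630, 13001, 12007, 13048, 13050, 13178, 12859, 12860, 10786, 2329, 2298, 1887, 1396, 992, 985, 766, 7523, 7552, 7554, 7677, 10596, 13132, 13233, 9808, 9809, 13256], [38, 2, 13264, 11269], [110, 0, 11268, 13263, 13264], [202, 1, 13160, 11264, 13264, 13268], [204, 4, 11262, 11264, 13264, 13268, 11267, 11265, 11263], [188, 1, 13262, 13268, 11866, 13157, 13162, 13166, 11263], [69, 0, 13274, 13261, 13275], [236, 2, 13259, 13260, 13258], [194, 3, 13242, 2918, 3096, 6531], [70, 0, 5498, 7637, 13240], [193, 1, 9943, 13228, 6834, 9942], [78, 2, 9926, 13284, 9927], [193, 1, 9944, 13286, 9926, 9940], [247, 2, 13202, 9477, 12064, 12173, 6400, 12187, 11527, 11534, 13126, 13197, 6388, 12816, 12572, 12628, 11382, 12517, 12512, 12971, 12972, 11612, 4804, 6140, 6133, 10334, 13168,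 13199, 6367, 11374, 1799, 2146, 5462, 5728, 5732, 4773, 4722, 10538, 13124, 13192, 13081, 13086, 6276, 13194, 11425, 11424, 13203], [110, 1, 7096, 13290, 7097], [231, 8, 13186, 10750, 13292, 13292, 10751, 13187, 13170, 13099], [230, 1, 13171, 13186, 10750, 13293, 10751, 13187, 13295], [53, 1, 13295, 13296], [209, 3, 13033, 11786, 13296, 9608], [210, 3, 11796, 8116, 13296, 8127], [212, 6, 13110, 13098, 13171, 13295, 13296, 8127, 13302], [215, 7, 6983, 13108, 11786, 13296, 13298, 11803, 7769, 13304], [209, 1, 13109, 13306, 6983, 13108], [225, 1, 11111, 6983, 13306, 11110], [117, 3, 6384, 13308, 6385], [157, 2, 10795, 13298, 13186], [209, 1, 10771, 13314, 10668, 10770], [210, 1, 10745, 13314, 12815, 6389], [117, 3, 6389, 13318, 13130], [118, 2, 13130, 13318, 12813], [210, 1, 7775, 13322, 10764, 12861], [217, 0, 12811, 13322, 10258, 10207], [117, 3, 10148, 13326, 13136], [210, 3, 10159, 10148, 13326, 10779], [117, 1, 13080, 13330, 7224], [157, 3, 13331, 7649, 13330], [218, 2, 13192, 13330, 13335, 7223], [117, 3, 7220, 13336,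 13125], [210, 3, 8942, 7220, 13336, 9499], [117, 1, 6746, 13340, 6626], [210, 3, 8069, 6626, 13342, 11895], [217, 0, 13342, 13197, 13320, 12810, 11058], [5, 0, 7968, 13346], [5, 0, 7432, 13346, 8029], [7, 0, 10047, 13346], [7, 0, 7309, 13346, 6627], [9, 0, 7435, 13346, 8834], [13, 0, 11058, 13346], [16, 0, 7430, 13346], [4, 0, 8015, 13350], [5, 0, 8029, 13350], [7, 0, 8012, 13350, 7776], [10, 0, 8031, 13350, 7186], [9, 0, 8832, 13350, 7188], [3, 0, 7311, 13355], [5, 0, 7439, 13355], [5, 0, 10041, 13355, 8036], [8, 0, 10127, 13355], [9, 0, 7436, 13355, 8942], [4, 0, 7223, 13356], [9, 0, 8834, 13356], [10, 0, 8837, 13356], [11, 0, 13337, 13356], [9, 0, 8839, 13367, 7890], [16, 0, 8010, 13367], [4, 0, 7499, 13369], [5, 0, 10167, 13369, 7473], [4, 0, 8811, 13371], [3, 0, 9887, 13377], [6, 0, 10039, 13377], [7, 0, 9884, 13377], [8, 0, 10045, 13377], [10, 0, 10043, 13377], [5, 0, 10171, 13380], [9, 0, 8942, 13380], [10, 0, 8940, 13380], [11, 0, 13338, 13380], [16, 0, 7218, 13380], [5, 0, 8842, 13391], [10, 0, 8841, 13391],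 [16, 0, 8806, 13391], [4, 0, 10147, 13397], [6, 0, 10169, 13397], [8, 0, 10144, 13397], [117, 1, 13126, 13343, 13352], [210, 3, 8032, 13352, 13432, 10706], [38, 1, 7447, 13430], [110, 0, 6793, 7475, 13430], [99, 3, 8069, 13413, 13410, 13438, 8474], [193, 3, 12747, 9852, 12564, 13428], [238, 3, 11087, 7444, 13428], [78, 0, 6907, 13442, 12747], [193, 3, 12701, 9850, 13446, 7512], [194, 3, 9856, 9810, 13446, 10164], [218, 4, 13446, 6907, 13435, 10705], [242, 1, 12191, 12751, 13446], [157, 2, 13447, 13453, 6917], [237, 2, 10165, 13454, 6607], [238, 3, 7513, 13454, 6636], [239, 2, 8824, 13454, 6928], [234, 1, 6920, 13462], [238, 1, 6884, 13462, 8829], [233, 2, 13466, 8880], [239, 2, 8024, 13466, 7260], [234, 1, 7246, 13470], [238, 1, 7198, 13470, 8027], [242, 0, 12621, 10464, 13470], [233, 2, 13474, 7197], [241, 3, 13474, 12203, 12599], [239, 2, 7241, 13478, 7511], [237, 0, 10162, 13482, 5053], [236, 2, 11112, 1862, 13484], [241, 1, 13464, 4814, 6844], [226, 0, 7500, 7508, 7501, 13448], [218, 2, 13394, 13491, 13449, 13395],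 [117, 3, 13404, 13492, 13405], [118, 2, 6577, 13492, 6576], [209, 3, 7161, 7186, 13492, 7187], [210, 3, 13422, 13404, 13492, 6877], [211, 5, 7888, 7161, 7186, 13492, 13492, 7187, 13498], [212, 6, 6879, 13407, 13404, 13492, 13492, 6877, 13500], [54, 1, 13500, 13504], [209, 1, 7890, 13504, 6847, 7189], [217, 1, 6849, 13506, 13398, 13489, 13507], [3, 0, 6848, 13511], [6, 0, 10121, 13511, 10125], [5, 0, 7478, 13511, 7476], [8, 0, 6851, 13511, 7157], [10, 0, 8730, 13511, 7190], [3, 0, 10048, 13515], [8, 0, 10051, 13515, 13379], [9, 0, 10115, 13515], [3, 0, 7448, 13517], [8, 0, 7451, 13517, 13437], [9, 0, 7980, 13517, 7974], [3, 0, 7107, 13518], [6, 0, 13421, 13518, 8744], [5, 0, 8476, 13518, 7984], [7, 0, 7104, 13518], [8, 0, 7157, 13518], [10, 0, 7890, 13518, 8726], [10, 0, 13423, 13518], [11, 0, 13500, 13518], [12, 0, 13505, 13518], [16, 0, 13425, 13518], [3, 0, 8660, 13521], [5, 0, 8740, 13521], [9, 0, 10113, 13525, 13413], [15, 0, 10053, 13525], [7, 0, 13430, 13530], [9, 0, 13439, 13530], [16, 0, 10142, 13530], [4, 0,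 7945, 13532], [5, 0, 7976, 13532], [8, 0, 7942, 13532], [9, 0, 7974, 13532], [10, 0, 8734, 13532], [6, 0, 8744, 13536], [8, 0, 7164, 13536], [15, 0, 7167, 13536], [3, 0, 8347, 13539], [6, 0, 13441, 13539], [7, 0, 8344, 13539], [10, 0, 8474, 13539], [6, 0, 8729, 13544], [10, 0, 8726, 13544], [15, 0, 8665, 13544], [5, 0, 8767, 13559]]
def dJ34 : List (List ℕ) := [[8, 0, 7946, 13559], [15, 0, 7949, 13559], [225, 2, 13542, 13506, 13488, 8812], [157, 2, 13604, 13548, 13488], [194, 1, 7508, 8818, 13604, 7984, 13584], [4, 0, 13584, 13608], [6, 0, 8478, 13608, 8818], [7, 0, 8349, 13608, 7501], [9, 0, 8470, 13608], [9, 0, 8473, 13608, 7507], [5, 0, 8820, 13612], [6, 0, 8818, 13612], [7, 0, 8812, 13612, 7108], [9, 0, 8822, 13612, 8483], [11, 0, 13624, 13606, 13612], [14, 0, 13605, 13612], [15, 0, 8816, 13612], [16, 0, 8815, 13612], [6, 0, 8490, 13615, 7513], [9, 0, 8467, 13615], [9, 0, 8468, 13615, 7510], [15, 0, 8351, 13615, 13482], [4, 0, 13372, 13619], [5, 0, 10036, 13619, 7232], [10, 0, 7896, 13619], [3, 0, 13398, 13625], [6,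 0, 8828, 13625, 10031], [14, 0, 13488, 13625], [15, 0, 13462, 13625], [15, 0, 13465, 13625, 7110], [6, 0, 6914, 13627], [12, 0, 13637, 13457, 13627], [14, 0, 6917, 13627], [15, 0, 6912, 13627], [16, 0, 6911, 13627], [3, 0, 6906, 13636], [5, 0, 10165, 13636], [6, 0, 7513, 13636], [14, 0, 13446, 13636], [15, 0, 13455, 13636], [5, 0, 7902, 13641], [10, 0, 7901, 13641], [15, 0, 7315, 13641, 13479], [5, 0, 8501, 13643], [8, 0, 8353, 13643, 5675], [10, 0, 8464, 13643, 5666], [4, 0, 13400, 13647], [5, 0, 10032, 13652], [6, 0, 10031, 13652], [15, 0, 9891, 13652, 13469], [8, 0, 7113, 13658, 5693], [10, 0, 8496, 13658, 5168], [10, 0, 8498, 13658], [15, 0, 7110, 13658], [8, 0, 7317, 13685, 7195], [3, 0, 8355, 13689, 5683], [15, 0, 7782, 13691], [8, 0, 9893, 13699, 8783], [3, 0, 7115, 13701, 5738], [9, 0, 8507, 13701, 6458], [9, 0, 7924, 13703], [15, 0, 6476, 13703], [3, 0, 7319, 13709, 6448], [8, 0, 8357, 13711, 5690], [9, 0, 8457, 13711, 6458], [3, 0, 9895, 13715, 7296], [8, 0, 7117, 13717, 5831], [8, 0, 6800, 13719], [8, 0, 7321,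 13725, 6523], [6, 0, 8594, 13727, 5636], [10, 0, 8454, 13727], [16, 0, 8359, 13727], [7, 0, 6805, 13729], [8, 0, 9897, 13731, 7361], [6, 0, 8511, 13733, 5839], [6, 0, 8508, 13733], [16, 0, 7119, 13733], [16, 0, 7323, 13737], [16, 0, 7791, 13739], [16, 0, 9899, 13747], [5, 0, 7932, 13749], [16, 0, 6485, 13749], [235, 3, 10153, 2148, 13762], [242, 0, 10237, 2296, 13762], [98, 2, 6037, 6038, 13760], [193, 1, 7662, 2353, 2161, 13760], [202, 2, 13687, 6032, 6038, 13760], [122, 0, 13772, 13735, 7535, 12741, 12829], [122, 3, 12829, 7553, 7534, 13744, 13772], [201, 1, 5376, 5637, 13740, 13772], [70, 3, 13778, 2986, 11086], [194, 1, 13778, 1861, 6298, 12735], [237, 0, 13778, 6639, 6606], [241, 3, 6807, 13770, 12989], [235, 3, 7505, 7382, 13758], [241, 3, 13759, 7371, 13758], [82, 0, 13611, 13789, 13790, 13788, 13610], [242, 2, 6583, 13792, 6582], [22, 2, 13788, 13610], [185, 0, 10008, 13788, 7507, 7232], [186, 2, 10011, 13788, 13623, 8485], [190, 4, 7982, 13796, 13788, 13623, 13620, 10154, 13765], [191, 8, 13765, 13802, 13564,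 13591, 13796, 13788, 7507, 13648], [197, 2, 13578, 7984, 13793, 13796, 13788, 13623, 13620], [188, 0, 13805, 13649, 7506, 13789, 10009, 8590, 13801], [69, 2, 13599, 6472, 13808], [72, 2, 7935, 8514, 13801, 13808, 13805], [73, 0, 6472, 13808, 13810, 13803, 8514], [75, 5, 7935, 8514, 13814, 6472, 13808, 13805, 7779], [190, 4, 13408, 13816, 13813, 7894, 13808, 10157, 13798], [193, 3, 13801, 13808, 10206, 13010], [197, 5, 13816, 13813, 7894, 13808, 10206, 13010, 12956], [238, 3, 13808, 10153, 6000], [235, 1, 6007, 13824, 6473, 13602], [6, 0, 8760, 13826, 5655], [6, 0, 8762, 13826], [7, 0, 7951, 13826, 4823], [9, 0, 10107, 13826], [9, 0, 8759, 13826, 5618], [16, 0, 13602, 13826], [5, 0, 8725, 13829], [7, 0, 7455, 13829, 5470], [10, 0, 7988, 13829], [16, 0, 7452, 13829], [4, 0, 7953, 13833, 5116], [6, 0, 8635, 13833, 6563], [10, 0, 10102, 13833, 7411], [9, 0, 8756, 13833, 5118], [5, 0, 8750, 13837], [5, 0, 8749, 13837, 6059], [10, 0, 10108, 13837], [16, 0, 13582, 13837], [4, 0, 7457, 13843, 2171], [6, 0, 7992, 13843, 5811],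 [6, 0, 8636, 13849, 8885], [7, 0, 7955, 13849, 4821], [9, 0, 8719, 13849, 13704], [7, 0, 6584, 13851], [7, 0, 10054, 13853], [4, 0, 7171, 13855, 1862], [6, 0, 8752, 13855], [6, 0, 7986, 13859], [9, 0, 8722, 13859], [16, 0, 6852, 13859], [6, 0, 7995, 13865, 5837], [7, 0, 7459, 13865, 1901], [9, 0, 8721, 13867], [3, 0, 8892, 13868], [4, 0, 8890, 13868], [5, 0, 8883, 13868], [6, 0, 8885, 13868], [7, 0, 8782, 13868], [7, 0, 8888, 13868, 6588], [11, 0, 13869, 8895, 13868], [13, 0, 13869, 8896, 13868], [15, 0, 13469, 13868], [16, 0, 8880, 13868], [6, 0, 8771, 13871, 5636], [5, 0, 10093, 13871, 6528], [9, 0, 8712, 13871, 13740], [15, 0, 7957, 13871, 13742], [4, 0, 8668, 13873], [9, 0, 8768, 13879], [7, 0, 6859, 13889, 5828], [10, 0, 8639, 13889], [16, 0, 7461, 13891], [4, 0, 7382, 13905], [5, 0, 7368, 13905], [6, 0, 7366, 13905], [8, 0, 7361, 13905], [11, 0, 13904, 7365, 13905], [13, 0, 13904, 7370, 13905], [15, 0, 13759, 13905, 6590], [9, 0, 8773, 13915], [15, 0, 7175, 13915, 13756], [15, 0, 10061, 13917, 13754], [15, 0, 8673,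 13919, 6806], [8, 0, 8361, 13920], [15, 0, 13742, 13920], [10, 0, 8642, 13927], [15, 0, 6861, 13927, 13752], [3, 0, 13796, 13945], [4, 0, 13789, 13945], [8, 0, 9901, 13945], [13, 0, 13944, 13790, 13945], [3, 0, 13819, 13948], [4, 0, 13798, 13948], [15, 0, 13756, 13948], [6, 0, 10088, 13951], [7, 0, 8675, 13953], [9, 0, 8704, 13953], [10, 0, 8707, 13953], [3, 0, 13815, 13960], [4, 0, 13800, 13960], [5, 0, 8514, 13960], [6, 0, 8513, 13960], [8, 0, 7121, 13960], [13, 0, 13820, 13960], [15, 0, 13752, 13960], [242, 0, 12611, 6002, 13824]]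
def dJ35 : List (List ℕ) := [[77, 3, 6472, 13998, 13180], [157, 0, 13998, 13312, 13999], [194, 3, 13599, 6472, 13998, 8329], [218, 2, 13986, 14003, 13998, 6383], [117, 3, 6380, 14006, 13992], [118, 2, 12959, 14006, 6862], [121, 4, 14010, 13005, 6380, 14006, 13992], [209, 3, 14008, 13004, 13016, 14006, 8644], [4, 0, 7123, 14015, 13962], [5, 0, 8516, 14015, 8628], [8, 0, 13992, 14015, 6592], [7, 0, 14013, 14015, 13966], [10, 0, 8589, 14015, 8645, 14021], [9, 0, 14023, 10007, 14015, 8780], [12, 0, 14009, 14015], [5, 0, 8519, 14017, 13586], [7, 0, 7125, 14017, 6581], [10, 0, 8597, 14017, 7983], [9, 0, 8520, 14017, 13590], [3, 0, 14030, 8363, 14019], [8, 0, 13954, 14019, 7462], [9, 0, 8450, 14019, 8626, 14041], [3, 0, 13985, 14021], [3, 0, 13987, 14021, 6594], [5, 0, 13989, 14021], [5, 0, 13991, 14021, 8621], [7, 0, 6863, 14021], [9, 0, 8645, 14021, 8700], [12, 0, 14006, 14021], [13, 0, 13995, 14021], [15, 0, 13997, 14021], [3, 0, 9903, 14022], [6, 0, 10002, 14022, 10087], [7, 0, 13966, 14022], [4, 0, 7795, 14025, 14044],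 [6, 0, 8585, 14025, 14048], [4, 0, 13971, 14026, 14062], [3, 0, 13973, 14026, 6864], [6, 0, 13976, 14026, 10087, 14064], [15, 0, 13975, 14026], [7, 0, 8365, 14031, 13580], [9, 0, 8447, 14031, 8069], [6, 0, 9992, 14033, 13570], [5, 0, 8578, 14033, 7979], [10, 0, 8604, 14033, 13574], [9, 0, 8523, 14033, 13576], [16, 0, 7127, 14033], [3, 0, 13810, 14034], [5, 0, 13592, 14034], [7, 0, 13563, 14034], [10, 0, 7983, 14034], [13, 0, 14004, 14034], [15, 0, 13846, 14034], [16, 0, 13567, 14034], [4, 0, 6810, 14037], [10, 0, 8599, 14037], [9, 0, 8626, 14041, 14042], [10, 0, 13980, 14041, 14042], [15, 0, 13957, 14041, 14042], [4, 0, 7465, 14042], [5, 0, 7887, 14042], [8, 0, 7462, 14042], [10, 0, 8693, 14042, 14112], [3, 0, 6594, 14046], [5, 0, 8619, 14046, 7895], [7, 0, 6597, 14046], [10, 0, 7862, 14046, 7899], [5, 0, 8621, 14050], [3, 0, 7179, 14054, 13964], [9, 0, 8700, 14054], [10, 0, 8703, 14054], [4, 0, 10065, 14064, 14076], [6, 0, 10087, 14064, 14076], [5, 0, 8586, 14069], [3, 0, 6489, 14071], [7, 0, 6486, 14071], [4, 0, 14062,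 14072], [4, 0, 13693, 14075], [6, 0, 7232, 14075, 10082], [8, 0, 7224, 14075], [10, 0, 8023, 14075, 8691], [10, 0, 10157, 14075], [11, 0, 13333, 14075], [14, 0, 13082, 14075], [15, 0, 7228, 14075], [16, 0, 7227, 14075], [3, 0, 14082, 7327, 14076], [5, 0, 7936, 14076], [7, 0, 7324, 14076], [9, 0, 8444, 14081, 13527], [16, 0, 8367, 14081], [5, 0, 9994, 14085], [16, 0, 9907, 14085], [3, 0, 13568, 14086], [5, 0, 7979, 14086], [7, 0, 13600, 14086], [10, 0, 8743, 14086], [3, 0, 14089, 13529, 14088], [5, 0, 7476, 14088], [8, 0, 7446, 14088], [10, 0, 13574, 14088], [4, 0, 13554, 14090], [5, 0, 8737, 14090], [7, 0, 8739, 14090], [8, 0, 8658, 14090], [9, 0, 13576, 14090], [4, 0, 14161, 8677, 14125], [8, 0, 13978, 14125], [7, 0, 7963, 14129], [3, 0, 14118, 14133], [5, 0, 7884, 14133], [7, 0, 7467, 14133], [3, 0, 13964, 14136], [4, 0, 13611, 14136], [5, 0, 13622, 14136], [8, 0, 7500, 14136], [9, 0, 13617, 14136], [13, 0, 14137, 7509, 14136], [15, 0, 7504, 14136], [16, 0, 7503, 14136], [3, 0, 14142, 14156], [6, 0, 10082, 14156], [7,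 0, 10067, 14156], [9, 0, 10077, 14156], [5, 0, 8694, 14160], [7, 0, 8679, 14160], [10, 0, 8691, 14160], [3, 0, 14179, 13523, 14178], [6, 0, 10125, 14178], [7, 0, 13378, 14178], [8, 0, 13352, 14178], [9, 0, 13527, 14178], [11, 0, 13433, 14178], [109, 2, 8032, 14261, 14262], [111, 3, 13386, 8032, 14261, 14262, 14193], [185, 2, 8603, 8601, 14254, 14262], [187, 3, 7193, 7191, 14197, 8601, 14254, 14262, 14193], [209, 1, 11888, 13340, 14259, 14262], [213, 2, 11892, 11894, 13343, 6627, 14259, 14262, 14193], [236, 0, 7799, 14272, 14184], [69, 2, 9991, 14278, 8573], [70, 3, 9988, 14278, 9991], [185, 2, 8568, 9991, 14278, 8569], [70, 1, 8606, 14284, 8607], [226, 2, 14268, 6571, 13388, 9419], [77, 3, 13246, 14288, 14272], [78, 2, 13121, 14288, 14186], [241, 3, 11768, 14288, 7798], [77, 1, 14280, 14294, 13153], [78, 0, 14278, 14294, 6980], [157, 2, 11111, 13307, 14298], [218, 2, 13089, 13304, 14298, 14278], [225, 2, 14299, 13106, 13304, 14298, 9908], [3, 0, 9911, 14304, 14282], [6, 0, 9984, 14304, 9990], [5, 0, 9987, 14304, 9989],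 [8, 0, 9908, 14304], [5, 0, 9981, 14307, 14310], [5, 0, 9982, 14307, 14310, 7883], [7, 0, 9913, 14307, 14310], [10, 0, 9977, 14307, 14310, 8527], [9, 0, 9978, 14307, 14310, 8566], [4, 0, 14278, 14308, 14316], [5, 0, 9990, 14308, 14316, 7880], [8, 0, 7801, 14308, 14316, 6820], [10, 0, 8568, 14308, 14316, 8437], [10, 0, 8571, 14308, 14316], [11, 0, 14303, 14308, 14316], [14, 0, 14295, 14308, 14316], [15, 0, 7798, 14308, 14316], [3, 0, 14326, 14282, 14310], [8, 0, 7129, 14310, 14318], [10, 0, 8609, 14310, 8527], [9, 0, 8524, 14310, 8566], [14, 0, 14296, 14310], [15, 0, 14092, 14310], [5, 0, 7883, 14316], [8, 0, 7332, 14316], [10, 0, 8439, 14316, 8437, 14330], [9, 0, 14328, 8564, 14316, 14332], [8, 0, 7133, 14321, 14344, 6494], [3, 0, 14328, 7802, 14323], [5, 0, 8560, 14323], [7, 0, 7805, 14323], [3, 0, 14324, 14327], [8, 0, 14326, 14312, 14327, 7336], [12, 0, 14301, 14327], [14, 0, 14298, 14327], [15, 0, 14184, 14327], [8, 0, 8373, 14330, 14355], [10, 0, 8437, 14330], [8, 0, 14318, 14342, 14344], [10, 0, 9975, 14342, 14344],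 [16, 0, 9915, 14342, 14344, 6493], [16, 0, 10071, 14342, 14344], [9, 0, 8527, 14344, 14384], [10, 0, 8611, 14347], [15, 0, 6814, 14347], [8, 0, 14359, 8368, 14357], [10, 0, 8441, 14358]]
def dJ36 : List (List ℕ) := [[16, 0, 14180, 14358, 6822], [6, 0, 8535, 14361, 14364], [6, 0, 8532, 14361], [16, 0, 7135, 14361, 14394], [16, 0, 7185, 14361], [8, 0, 7336, 14370], [16, 0, 7339, 14370, 14376], [16, 0, 7471, 14370], [10, 0, 8434, 14379], [16, 0, 8375, 14379, 14338], [16, 0, 8683, 14379], [7, 0, 9917, 14387, 14198], [9, 0, 9968, 14387, 14200], [15, 0, 10068, 14387], [8, 0, 14366, 14390], [9, 0, 14384, 14390], [16, 0, 7967, 14390], [3, 0, 7162, 14401], [4, 0, 14271, 14401], [5, 0, 13556, 14401, 7874], [7, 0, 13580, 14401], [7, 0, 14267, 14401, 6824], [10, 0, 14262, 14401], [11, 0, 14275, 14401], [5, 0, 7879, 14403], [8, 0, 6498, 14403], [15, 0, 6501, 14403], [16, 0, 6601, 14403], [6, 0, 8539, 14407], [7, 0, 7137, 14407, 14208], [15, 0, 7182, 14407], [7, 0, 7341, 14413, 6577], [15, 0, 7468, 14413], [7, 0, 8377, 14419, 14268],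 [10, 0, 8431, 14419], [15, 0, 8680, 14419], [4, 0, 9919, 14423, 11114], [9, 0, 9965, 14423, 7971], [15, 0, 7964, 14425], [3, 0, 14202, 14439], [4, 0, 14434, 14439], [6, 0, 14204, 14439], [7, 0, 7888, 14439], [7, 0, 7160, 14439, 6502], [9, 0, 7193, 14439], [10, 0, 7190, 14439], [11, 0, 14486, 13498, 14439], [12, 0, 13503, 14439], [4, 0, 13670, 14443], [5, 0, 13428, 14443], [8, 0, 6904, 14443], [10, 0, 8033, 14443], [11, 0, 13434, 14443], [14, 0, 13443, 14443], [16, 0, 13445, 14443], [3, 0, 7139, 14459], [3, 0, 7343, 14463], [5, 0, 7873, 14463], [3, 0, 8379, 14467], [10, 0, 8428, 14467], [3, 0, 13486, 14472], [4, 0, 11114, 14472], [7, 0, 14473, 13310, 14472, 9920], [11, 0, 14372, 14472], [14, 0, 11110, 14472], [16, 0, 11113, 14472], [6, 0, 13348, 14474], [7, 0, 13572, 14474], [8, 0, 13588, 14474], [9, 0, 7971, 14474], [10, 0, 7973, 14474], [16, 0, 7940, 14474], [4, 0, 13363, 14487], [5, 0, 13365, 14487], [8, 0, 7777, 14487], [9, 0, 7187, 14487], [10, 0, 7189, 14487], [11, 0, 13509, 14487], [16, 0, 7158, 14487], [6, 0, 9954,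 14524, 9958], [5, 0, 9953, 14524, 9957], [7, 0, 9920, 14524], [15, 0, 9923, 14524], [7, 0, 7812, 14559], [10, 0, 7843, 14559, 8425], [9, 0, 8420, 14559, 7844], [15, 0, 7815, 14559], [7, 0, 7140, 14561], [10, 0, 8651, 14561, 8646], [9, 0, 8653, 14561, 7869], [15, 0, 7143, 14561], [4, 0, 14516, 14568], [8, 0, 14570, 8381, 14568], [10, 0, 8425, 14568], [10, 0, 8418, 14571], [15, 0, 8383, 14571], [4, 0, 14510, 14576], [8, 0, 14574, 14576], [10, 0, 8646, 14576], [7, 0, 6828, 14579], [10, 0, 7867, 14579], [15, 0, 6831, 14579], [187, 3, 14600, 14596, 7870, 9959, 14520, 10158, 8025], [190, 7, 8486, 13697, 8025, 14545, 6504, 14600, 14592], [191, 0, 13395, 6877, 14553, 14544, 14604, 14600, 14596, 7870], [186, 4, 7846, 14601, 14605, 8024], [192, 3, 14497, 14502, 13385, 13382, 14610, 7846, 14601, 7868], [78, 0, 14612, 13676, 9811], [186, 4, 7849, 7868, 14612, 7923], [218, 4, 14614, 14612, 13663, 6795], [235, 0, 14612, 6798, 13922], [236, 2, 14581, 14612, 13678], [69, 0, 6637, 14622, 8654], [70, 1, 6606, 14622, 9948], [77, 3, 12491,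 12190, 14622], [235, 0, 13923, 13785, 14622], [237, 2, 9949, 14630, 13881], [240, 3, 8656, 14630, 13893], [242, 2, 12652, 14629, 14630], [78, 1, 14636, 6309, 11082], [194, 2, 14636, 6300, 5910, 5907], [97, 1, 6553, 6548, 14640], [207, 8, 5629, 5620, 14640, 13881, 2081, 2082, 6059, 13882], [237, 0, 14640, 14631, 8654], [238, 3, 14640, 14620, 7870], [239, 0, 7845, 14648, 5064], [240, 1, 14586, 14648, 6549], [241, 1, 14648, 5906, 12707], [242, 2, 11874, 14654, 14572], [157, 2, 14656, 12454, 12024], [158, 1, 14656, 12456, 12684], [161, 3, 14658, 14656, 12454, 12683, 12684], [194, 1, 9950, 14656, 12448, 10855], [217, 2, 14625, 14656, 12454, 8110], [225, 1, 14656, 6958, 12682, 12024], [226, 3, 7817, 14656, 12454, 12681, 12684], [4, 0, 7819, 14671], [5, 0, 7833, 14671], [8, 0, 7816, 14671], [10, 0, 7835, 14671, 7396], [10, 0, 8406, 14671], [3, 0, 7350, 14678], [6, 0, 7399, 14678, 7401], [5, 0, 9940, 14678, 9944], [7, 0, 7353, 14678], [10, 0, 7396, 14678], [13, 0, 13289, 14678], [3, 0, 6834, 14685], [7, 0, 6837, 14685], [10,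 0, 8398, 14685, 8411], [14, 0, 13229, 14685], [3, 0, 9926, 14687], [7, 0, 9929, 14687], [9, 0, 9937, 14687], [10, 0, 9938, 14687], [3, 0, 8386, 14699], [5, 0, 8402, 14699], [7, 0, 8389, 14699], [37, 1, 7144, 14714], [114, 4, 14697, 8411, 14714, 14716, 8657], [117, 1, 11404, 12292, 14714], [201, 3, 8408, 14714, 8395, 7821], [205, 3, 14705, 9946, 7836, 8408, 14714, 14716, 9948], [206, 3, 7348, 9944, 9925, 14724, 9935, 7826, 7825], [214, 2, 8415, 8413, 14661, 14680, 8401, 14688, 14726], [231, 8, 7405, 7405, 14726, 7348, 14693, 14693, 7349, 14727], [121, 5, 14688, 14726, 14728, 14727, 14689], [225, 2, 14727, 14730, 7405, 14726], [242, 0, 7346, 14734, 7347], [194, 3, 6842, 14583, 14736, 7846], [196, 6, 13695, 13383, 14583, 14736, 14736, 7846, 14738], [218, 4, 14736, 14611, 13331, 10903], [117, 1, 7744, 14742, 7345], [118, 0, 12481, 14742, 14584], [217, 4, 14746, 12714, 13300, 12715], [77, 1, 12715, 14748, 14617], [78, 0, 8280, 14748, 7811], [241, 1, 11851, 14748, 14590], [242, 3, 14754, 12713, 2168], [239, 0, 6546, 14756,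 8414], [235, 3, 14758, 13897, 13912], [237, 2, 7840, 14758, 6552], [234, 2, 14762, 6509], [236, 0, 6881, 5660, 14762], [242, 0, 6881, 2490, 14762], [158, 1, 13223, 12285, 14768], [225, 2, 6767, 6759, 12285, 14768, 7996], [3, 0, 7999, 14772, 14625], [6, 0, 8073, 14772, 6637], [8, 0, 7996, 14772], [10, 0, 8071, 14772, 6923], [9, 0, 8866, 14772, 7262], [6, 0, 8074, 14775, 8655], [8, 0, 8001, 14775, 14677], [10, 0, 10199, 14775, 7839], [9, 0, 8903, 14775, 8412], [8, 0, 6610, 14777], [10, 0, 6936, 14777, 6928], [9, 0, 7266, 14777, 6608], [3, 0, 7483, 14781, 14767]]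
def dJ37 : List (List ℕ) := [[5, 0, 10205, 14781, 6882], [8, 0, 7480, 14781], [4, 0, 8795, 14783], [8, 0, 8872, 14783], [3, 0, 14622, 14784], [5, 0, 9949, 14784], [6, 0, 8655, 14784], [8, 0, 7145, 14784, 6614], [8, 0, 14716, 14784], [10, 0, 8656, 14784], [11, 0, 12291, 14784], [14, 0, 14629, 14784], [15, 0, 14631, 14784], [16, 0, 14580, 14784], [6, 0, 8929, 14787, 14674], [5, 0, 8927, 14787, 7830], [10, 0, 10194, 14787, 14691], [9, 0, 8924, 14787, 14680], [15, 0, 8003, 14787], [6, 0, 10202, 14789], [5, 0, 8416, 14790], [9, 0, 8412, 14790], [10, 0, 8415, 14790], [13, 0, 14755, 14790], [15, 0, 14756, 14790], [16, 0, 14590, 14790], [4, 0, 6891, 14795], [8, 0, 6926, 14795], [4, 0, 7207, 14797], [8, 0, 7256, 14797], [5, 0, 7518, 14799], [10, 0, 8055, 14799], [8, 0, 10128, 14801], [3, 0, 14835, 14711, 14815], [4, 0, 7147, 14815], [6, 0, 14713, 14815, 8056], [7, 0, 14715, 14815], [10, 0, 8411, 14815], [11, 0, 12292, 14815], [13, 0, 12356, 14815], [10, 0, 8052, 14829], [15, 0, 7487, 14829], [8, 0, 8796, 14831], [15, 0, 8799,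 14831], [15, 0, 10135, 14833], [9, 0, 14680, 14834], [10, 0, 8400, 14834], [3, 0, 14868, 14871], [7, 0, 7149, 14871], [9, 0, 7828, 14871], [10, 0, 14706, 14871], [110, 0, 6892, 14900, 9925], [112, 0, 14902, 6892, 14900, 14708, 14884], [113, 3, 14897, 14900, 14704, 14725, 14902], [115, 1, 14904, 14902, 14906, 14897, 14900, 14708, 7820], [186, 2, 14900, 14703, 9945, 14893], [188, 7, 14723, 7831, 14691, 14893, 14910, 14900, 14708], [81, 2, 14912, 6512, 12685, 12533, 6997], [81, 5, 6997, 12484, 12684, 14672, 14912], [235, 1, 14887, 14912, 14882], [69, 2, 8859, 14918, 8922], [70, 3, 8921, 14918, 8859], [186, 4, 8911, 8051, 14918, 8856], [190, 7, 8059, 8909, 8919, 14923, 14918, 8856, 14924], [189, 0, 14927, 8919, 14920, 14919, 8050, 8910, 8908], [188, 4, 10189, 8918, 14926, 8059, 8909, 8919, 10188], [241, 1, 14883, 14916, 12773], [77, 3, 13207, 14932, 14922], [78, 2, 12769, 14932, 14918], [225, 0, 8005, 14934, 8213, 14721], [158, 1, 11409, 14721, 14938], [218, 2, 11397, 14721, 14938, 8006], [241, 2, 6029, 8391, 14938], [159,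 5, 14942, 11411, 11408, 14941, 14939], [159, 4, 14939, 14720, 11408, 10887, 14943], [219, 4, 8007, 14939, 14946, 14942, 10890, 11399, 14721], [219, 4, 14950, 14948, 14939, 14720, 11396, 10890, 14941], [70, 1, 8047, 14952, 8395], [74, 1, 14954, 8047, 14952, 14950, 8045], [185, 0, 8916, 14952, 8397, 6841], [186, 2, 10184, 14952, 8395, 9932], [189, 0, 8802, 8853, 8007, 14952, 8397, 6841, 7154], [191, 0, 14960, 10187, 8916, 14952, 14950, 8852, 8850, 10179], [192, 3, 14958, 10186, 10184, 14952, 14950, 8045, 8064, 8930], [193, 1, 8044, 14948, 14952, 8395], [195, 2, 8047, 14939, 14946, 8007, 14952, 8395, 14968], [196, 5, 14971, 8044, 14951, 14953, 14949, 14947, 8395], [242, 3, 1895, 7823, 14972], [234, 2, 14974, 13930], [236, 1, 6621, 14974, 5550], [240, 1, 8049, 14974, 13769], [233, 1, 6807, 14980], [237, 2, 13750, 14980, 8060], [238, 3, 13760, 14980, 10182], [241, 1, 12976, 13771, 14980], [78, 2, 7491, 14988, 13194], [193, 1, 13149, 14990, 7491, 8060], [217, 0, 6660, 12472, 12116, 14990], [241, 0, 13393, 13823, 13202, 14990],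 [6, 0, 8933, 14997, 8063], [5, 0, 10175, 14997, 10179], [7, 0, 8008, 14997], [10, 0, 8039, 14997, 8851], [9, 0, 8846, 14997, 8040], [15, 0, 13392, 14997], [7, 0, 7216, 14999], [10, 0, 8935, 14999, 8930], [9, 0, 8937, 14999, 8065], [15, 0, 13418, 14999], [7, 0, 10140, 15001], [15, 0, 14106, 15001], [4, 0, 8802, 15004], [8, 0, 15006, 8805, 15004], [10, 0, 8851, 15004], [10, 0, 8844, 15007], [15, 0, 13552, 15007], [3, 0, 14967, 15012], [4, 0, 7214, 15012], [8, 0, 15010, 15012], [10, 0, 8930, 15012], [7, 0, 6900, 15015], [10, 0, 8067, 15015], [15, 0, 6903, 15015], [235, 1, 8018, 14957, 15044], [241, 1, 14976, 14971, 15044], [61, 1, 13806, 15048], [225, 2, 13117, 13344, 15048, 14123], [77, 1, 14108, 15052, 13191], [193, 1, 14121, 15052, 10705, 6407], [194, 1, 14174, 15052, 12045, 13091], [78, 2, 13089, 15058, 14172], [157, 2, 14374, 13305, 15058], [158, 1, 14528, 13302, 15058], [218, 4, 12052, 14240, 15064, 14522], [117, 1, 14198, 15066, 12417], [118, 0, 14098, 15066, 12657], [209, 1, 7475, 15066, 12657, 9862], [213, 2, 14540,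 7475, 15066, 12657, 7046, 9859, 9861], [225, 2, 14198, 15066, 12052, 14244], [77, 2, 15076, 14194, 15077], [158, 1, 15076, 15069, 12420], [241, 1, 14388, 15076, 14426], [242, 0, 14426, 15076, 6492], [159, 3, 10881, 12421, 15068, 15077, 15082], [117, 1, 6495, 15086, 6393], [118, 0, 14383, 15086, 12374], [225, 2, 6495, 15086, 12423, 7047], [77, 1, 12655, 15092, 14362], [78, 0, 13174, 15092, 6496], [81, 1, 15096, 13196, 12655, 15092, 14362], [241, 1, 12659, 15092, 14394], [242, 0, 12906, 15092, 14408], [78, 2, 14436, 15100, 11866], [226, 4, 15072, 14209, 15100, 13266], [157, 2, 15106, 15072, 14739], [193, 1, 11264, 15106, 13232, 11898], [241, 1, 13259, 15106, 13256], [242, 0, 13256, 15106, 9807], [160, 5, 15114, 15107, 15109, 14738, 14740], [196, 5, 15111, 11899, 13233, 13233, 15107, 15112, 11904], [196, 6, 11905, 13279, 13279, 15114, 15107, 11265, 15111], [220, 5, 14592, 15073, 15107, 15112, 13279, 13279, 15117], [77, 1, 15122, 14738, 14593], [191, 1, 14538, 7474, 14606, 15122, 14596, 7869, 7848, 14617], [235, 2, 15122,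 6508, 14766], [69, 3, 15126, 7850, 14544], [77, 2, 14751, 15126, 14752], [217, 0, 15126, 15075, 15132, 14751], [122, 3, 14131, 6474, 15134, 6475, 14130], [213, 5, 14223, 6796, 8493, 8488, 15134, 8489, 8492], [214, 1, 15134, 7922, 8493, 13629, 8483, 7898, 14130], [215, 7, 6796, 8493, 8488, 15134, 15134, 8489, 8492, 15138], [228, 4, 6385, 13177, 14751, 15134, 15134, 6475, 14130], [78, 3, 15144, 13028, 15103], [194, 0, 15144, 13030, 15103, 8536], [218, 2, 15146, 15136, 15144, 13028], [78, 0, 13022, 15145, 15149], [81, 1, 15152, 6684, 13029, 15145, 15147], [185, 2, 7857, 8615, 15154, 8688], [189, 4, 8551, 8536, 7877, 15147, 15154, 8688, 15156], [190, 3, 15159, 7857, 15149, 15155, 8614, 7876, 8688], [218, 4, 15054, 6794, 15143, 15158], [117, 2, 15162, 9804, 15117], [109, 0, 13638, 15164, 8551], [110, 1, 13682, 15164, 10072], [201, 0, 13694, 15164, 8686, 8689], [109, 2, 8689, 15170, 8025], [117, 3, 15170, 13331, 13027], [207, 5, 8612, 8686, 8689, 15170, 14159, 14243, 13661, 6796], [210, 3, 8689, 15170, 13331, 7653], [117, 1,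 12984, 15178, 15173], [118, 0, 13072, 15178, 14251], [158, 3, 15050, 15182, 15118], [117, 1, 13159, 15184, 14123], [118, 0, 13160, 15184, 14214], [225, 2, 13159, 15184, 15050, 14250], [77, 1, 15161, 15190, 11271], [218, 4, 15192, 15159, 15139, 14613], [118, 0, 14598, 15194, 11269], [118, 2, 12966, 15080, 15168]]
def dJ38 : List (List ℕ) := [[122, 3, 8275, 12966, 15080, 15168, 6630], [209, 1, 14247, 15200, 8275, 8333], [157, 3, 15202, 14234, 15203], [237, 0, 7250, 13470, 15130], [193, 1, 8133, 15118, 13166, 11263], [157, 0, 15208, 13294, 13188], [225, 2, 7780, 15116, 15114, 13133], [158, 3, 15096, 13318, 13767], [218, 4, 15094, 13197, 13318, 10258], [117, 1, 13046, 15216, 14397], [157, 3, 15218, 10578, 14265], [118, 2, 8278, 15074, 14534], [210, 1, 14210, 15222, 9865, 13133], [194, 1, 8037, 15060, 6376, 10783], [241, 1, 13561, 15060, 13020], [242, 0, 6624, 15060, 10478], [77, 3, 11999, 15230, 15034], [193, 3, 12165, 12168, 15230, 8043], [218, 4, 15230, 15032, 14663, 14672], [241, 2, 15229, 12886, 15230], [236, 0, 6517,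 15033, 15238], [239, 0, 15039, 15238, 13835], [237, 2, 5654, 15242, 10176], [238, 3, 13831, 15242, 8062], [241, 1, 6993, 4828, 15242], [194, 3, 10180, 6898, 15248, 12081], [226, 0, 15040, 15248, 8076, 12248], [117, 3, 6362, 15252, 6622], [118, 2, 12385, 15252, 15040], [157, 2, 12248, 15252, 14970], [158, 3, 11325, 15252, 14969], [159, 4, 12248, 15252, 14970, 14973, 15260], [226, 2, 6367, 15262, 15259, 6619], [77, 3, 14928, 15264, 13198], [78, 2, 14926, 15264, 13173], [226, 0, 6643, 13225, 11426, 15268], [242, 0, 12516, 15268, 7211], [218, 2, 6645, 15271, 15269, 13214], [117, 3, 12210, 15274, 6646], [118, 2, 13168, 15274, 12210], [209, 3, 13014, 9309, 15274, 12212], [211, 5, 11419, 6401, 12172, 15279, 15274, 12212, 15280], [216, 6, 12223, 9207, 12210, 15274, 15277, 9203, 12175, 15282], [210, 1, 12916, 15284, 12223, 12915], [118, 2, 13000, 15286, 13001], [217, 4, 15286, 12909, 15287, 12908], [193, 1, 12911, 15290, 12908, 12910], [194, 1, 12913, 15290, 12912, 13231], [241, 1, 11630, 15290, 11631], [242, 0, 12921, 15290,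 12920], [194, 3, 8232, 12668, 15298, 8233], [225, 4, 15251, 12082, 15300, 12083], [117, 1, 12083, 15302, 10137], [210, 1, 12134, 15302, 10184, 8005], [157, 3, 15304, 15301, 15305], [210, 3, 10186, 10137, 15304, 12543], [193, 3, 12690, 9270, 15296, 9271], [226, 4, 12286, 12232, 15294, 12233], [77, 0, 10465, 12231, 15314], [217, 2, 12231, 15314, 12286, 12230], [157, 0, 10465, 15318, 10464], [209, 3, 14864, 7260, 15320, 7261], [216, 0, 15320, 15320, 7258, 6930, 15322, 15322, 6931, 7259], [209, 1, 7259, 15321, 15325, 7258], [216, 0, 15326, 15326, 6930, 7260, 15321, 15321, 7261, 6931], [218, 4, 14664, 14626, 15326, 14627], [117, 1, 9925, 15330, 11116], [118, 0, 14725, 15330, 7059], [209, 1, 14903, 15330, 7059, 12107], [210, 1, 14904, 15330, 11373, 6366], [117, 3, 12105, 15336, 14906], [118, 2, 7564, 15336, 6892], [217, 2, 6677, 11532, 15336, 14853], [226, 2, 6674, 11532, 15336, 6892], [157, 1, 15337, 11609, 15345], [226, 0, 14855, 15348, 14906, 12022], [242, 1, 4812, 6920, 15348], [239, 2, 8862, 15352, 7411], [237, 3, 14635,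 7414, 15354], [242, 0, 12809, 12806, 15354], [117, 3, 6277, 15350, 14792], [217, 0, 14910, 15342, 12463, 14847], [218, 2, 14963, 15340, 14932, 14918], [158, 2, 15282, 14937, 15364], [81, 3, 15022, 15366, 12164, 6274, 12023], [217, 2, 15022, 15366, 15281, 12391], [241, 2, 15366, 12176, 15056], [242, 1, 15366, 12178, 3096], [235, 2, 1865, 15374, 15023], [237, 2, 6530, 15374, 8912], [234, 2, 15378, 13754], [236, 0, 15239, 15034, 15378], [69, 1, 4785, 6528, 15382], [70, 2, 1865, 6531, 15382], [97, 3, 13831, 13834, 15386], [189, 4, 14644, 15385, 15386, 1877, 1852, 13946, 13932], [205, 4, 15386, 15388, 13885, 6047, 5808, 7414, 7301], [238, 3, 8037, 13560, 15386], [237, 0, 5635, 15394, 13402], [117, 3, 12882, 7550, 15392], [202, 2, 7278, 15392, 13861, 13856], [117, 3, 15400, 6442, 15401], [22, 1, 13932, 15390], [186, 4, 13751, 5832, 1864, 15388], [78, 2, 15406, 13770, 7665], [217, 0, 7671, 7686, 7670, 15408], [117, 3, 8667, 15410, 7070], [239, 0, 7918, 15380, 10186], [238, 3, 10181, 15414, 14049], [240, 1, 15028, 15376, 6052],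 [217, 0, 12006, 15288, 12007, 12017], [157, 0, 15267, 15278, 14993], [217, 2, 10491, 14993, 15422, 14928], [209, 1, 8050, 15424, 8076, 8160], [117, 3, 11468, 15426, 7488], [217, 0, 12834, 15276, 6645, 12202], [226, 0, 13245, 15226, 13406, 14290], [209, 3, 14697, 14875, 14876, 13205], [240, 1, 14600, 14764, 5803], [226, 2, 13125, 14000, 13416, 13124], [210, 3, 6525, 2488, 2495, 12784], [0, 0], [99, 3, 1813, 1795, 6543, 7391, 15442], [30, 2, 15444, 6000], [69, 2, 15444, 2148, 13760], [70, 1, 15444, 2172, 13840], [98, 2, 15444, 1815, 6543], [194, 3, 15444, 2148, 2297, 7666], [201, 2, 15444, 1813, 1809, 15445], [238, 1, 15444, 10152, 13805], [209, 3, 15456, 15453, 7406, 15452], [0, 0], [193, 2, 4510, 1853, 6543, 15462], [30, 2, 15464, 5880], [97, 1, 15464, 5368, 15465], [201, 2, 15464, 5368, 5367, 15465], [157, 2, 15463, 7406, 15462], [0, 0], [195, 3, 2458, 2963, 1865, 1853, 6543, 15462, 15474], [30, 2, 15476, 5639], [69, 2, 15476, 2921, 13243], [70, 1, 15476, 2486, 12881], [97, 1, 15476, 2331, 6330], [98, 2, 15476, 2333,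 7666], [194, 3, 15476, 2921, 1841, 6543], [201, 2, 15476, 2331, 2327, 15477], [237, 2, 15476, 11489, 8148], [238, 1, 15476, 10787, 12047], [209, 3, 15490, 15487, 7687, 15486], [0, 0], [197, 4, 2963, 1865, 1853, 6543, 6540, 5957, 15498], [70, 1, 15500, 4513, 15465], [97, 1, 15500, 5865, 5649], [98, 2, 15500, 15504, 15499], [193, 1, 15500, 2963, 1865, 6531], [194, 3, 15500, 3099, 1834, 13243], [158, 3, 13281, 15441, 15510], [159, 0, 15508, 15511, 15440, 13280, 15510], [0, 0], [241, 2, 1829, 7151, 15516], [242, 2, 15518, 1834, 12021], [157, 0, 12190, 15351, 15520], [53, 2, 15522, 15426], [0, 0], [0, 0], [0, 0], [0, 0], [0, 0], [0, 0], [0, 0], [0, 0], [0, 0], [0, 0], [0, 0], [0, 0], [0, 0], [0, 0], [0, 0], [0, 0], [0, 0], [0, 0], [0, 0], [0, 0], [0, 0], [0, 0], [0, 0], [0, 0], [243, 31, 14906, 7150, 7151, 14171, 6866, 15155, 15166, 13461, 14778, 15526, 15528, 15530, 15532, 15534, 15536, 15538, 15540, 15542, 15544, 15546, 15548, 15550, 15552, 15554, 15556, 15558, 15560, 15562, 15564, 15566, 15568, 15570, 15572], [21, 2, 15574,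 14853], [74, 4, 15527, 6919, 15576, 15574, 14861], [78, 0, 15574, 15349, 14852], [80, 4, 15577, 15348, 15580, 15574, 15349], [217, 0, 15574, 15337, 11605, 11531], [236, 3, 15574, 15352, 5161], [243, 14, 15572, 15574, 14906, 7150, 1791, 5495, 2083, 2591, 778, 2817, 450, 3131, 6040, 6035, 5955, 13667, 6796, 14497, 14500, 15045, 15044, 13863, 2083, 2110, 5469, 14650, 14567, 14608, 15167, 14461, 14206, 14108, 6809, 14983], [8, 0, 15573, 15589], [16, 0, 15570, 15589, 14982], [7, 0, 15568, 15593, 6808], [4, 0, 15566, 15595, 14109], [7, 0, 15564, 15597, 14207]]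
def dJ39 : List (List ℕ) := [[15, 0, 15562, 15599, 14395], [8, 0, 15560, 15601, 14429], [3, 0, 15558, 15603, 6818], [8, 0, 15556, 15605, 6820], [15, 0, 15554, 15607, 6870], [7, 0, 15552, 15609, 6867], [4, 0, 15550, 15611, 6865], [7, 0, 15548, 15613, 14053], [16, 0, 15546, 15615, 14060], [8, 0, 15544, 15617, 5829], [3, 0, 15542, 15619, 5813], [8, 0, 15540, 15621, 6048], [16, 0, 15538, 15623, 15418], [7, 0, 15536, 15625, 15003], [3, 0, 15534, 15627], [69, 3, 15579, 14860, 15575], [193, 3, 14767, 14860, 15580, 15630], [196, 3, 14860, 15349, 15582, 15630, 15579, 14766, 15633], [237, 0, 5056, 15586, 15630], [233, 2, 15636, 6790], [243, 32, 15639, 15638, 15636, 2317, 2987, 5372, 5306, 4834, 6007, 5992, 13667, 14222, 15158, 15165, 13713, 2489, 2160, 5470, 14849, 7208, 14867, 14872, 13635, 7108, 13650, 13541, 13887, 6047, 4692, 5620, 14647, 14669, 14958], [243, 20, 15529, 15636, 2302, 2288, 5468, 3053, 451, 2816, 779, 2590, 2082, 5494, 1790, 14169, 14168, 7151, 14907, 15575, 15591, 14982, 6808, 14109, 14207, 14395, 14429, 6818,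 6820, 6870, 6867, 6865, 14053, 15416, 6897, 14924], [7, 0, 15528, 15643], [15, 0, 15531, 15643, 7211], [7, 0, 15533, 15647], [37, 1, 7208, 15648], [109, 1, 6515, 14891, 15648], [110, 2, 14689, 14893, 15648], [118, 2, 7209, 15362, 15648], [120, 0, 15362, 15648, 15656, 15363, 15651], [202, 3, 14705, 14901, 8904, 15648], [226, 2, 12467, 14847, 15362, 15648], [78, 3, 15662, 12971, 14989], [241, 0, 15662, 11510, 15454], [242, 3, 15662, 11508, 15212], [248, 7, 15591, 15664, 15650, 14848, 5468, 2111, 2082, 13862, 14501, 14496, 6797, 13668, 14697, 14694, 6833, 14635, 6048, 6055, 6033, 13483, 15167, 15154, 6867, 14170, 14907, 15575, 15591, 14981, 13745, 6454, 13734, 13705, 13901, 13898, 13712, 7781, 15668, 15649, 15648, 15629, 15002, 15030, 13542, 13512, 6847], [243, 22, 14918, 8800, 15373, 14066, 14225, 7180, 14461, 14208, 14593, 14594, 14621, 14620, 14827, 6614, 14895, 14896, 14171, 14158, 13383, 6470, 15017, 15037, 15034, 7213, 7211, 7209, 14857, 14858, 13657, 7109, 13535, 13540, 15670], [117, 1, 6642, 15271, 15644], [0, 0],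 [0, 0], [0, 0], [0, 0], [0, 0], [0, 0], [0, 0], [247, 10, 6893, 14853, 14854, 13784, 13735, 6455, 13744, 6806, 6808, 14109, 14207, 14395, 14429, 6818, 6820, 6822, 6824, 6826, 14599, 14602, 6832, 14695, 14696, 6838, 5954, 6034, 6041, 3130, 451, 2816, 779, 2590, 2082, 5494, 1790, 1791, 7823, 7821, 15676, 15678, 15680, 15682, 15684, 15686, 15688], [233, 2, 15690, 6894], [239, 3, 15690, 14898, 15676], [241, 3, 15690, 15346, 6673], [243, 1, 15684, 15686, 15688, 15690, 6893, 14853, 14854, 13679, 6797, 6795, 6793, 6791, 2302, 2288, 5468, 3132, 6040, 6035, 5955, 6839, 14697, 14694, 6833, 14635, 6048, 6055, 6033, 6602, 14778, 15526, 15645, 7211, 7210], [243, 17, 15684, 15686, 15688, 15690, 6893, 14853, 14854, 13784, 13735, 6455, 13744, 6806, 6808, 14109, 14207, 14395, 14394, 14460, 15166, 14609, 14566, 14851, 15651, 15665, 15590, 15671, 6846, 13513, 13543, 15031, 15003, 15628, 15649], [248, 44, 15685, 15684, 15686, 15688, 15690, 6893, 14853, 14854, 13784, 13735, 6455, 13744, 14980, 15590, 15574, 14906, 7150, 1791, 5495, 2083,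 5746, 5826, 5825, 4730, 6844, 6846, 13513, 13543, 13887, 6049, 5812, 5828, 14061, 14052, 6864, 6866, 6868, 6824, 6826, 14599, 7868, 9956, 9958, 14572, 14677], [235, 3, 15701, 14910, 15691], [238, 0, 15701, 8905, 15691], [97, 2, 15694, 15706, 15683], [237, 3, 15708, 15677, 7831, 15702], [4, 0, 15687, 15710], [8, 0, 15684, 15710], [15, 0, 15702, 15710], [233, 2, 15716, 14836], [236, 0, 15713, 15716, 14672, 15676], [3, 0, 15712, 15721], [7, 0, 15689, 15721], [237, 2, 15680, 15716, 14674], [242, 0, 15716, 12685, 12935], [236, 0, 15727, 6512, 15717], [21, 1, 15722, 15730], [78, 2, 12774, 15728, 15730], [82, 3, 12724, 12774, 15728, 15730, 15732], [235, 2, 14922, 15718, 15730], [236, 1, 15733, 15738, 14918], [202, 2, 15680, 15714, 15683, 15681], [225, 4, 15735, 15742, 15734, 12776], [158, 1, 15734, 15744, 15735], [209, 1, 9056, 15744, 12776, 9057], [218, 2, 12724, 15744, 15735, 15732], [118, 2, 15725, 15750, 6670], [218, 4, 15728, 15730, 15746, 15731], [118, 0, 15715, 15754, 12757], [78, 0, 12752, 15696, 15704], [0, 0], [209,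 2, 5553, 1889, 6456, 15760], [46, 2, 15762, 5594], [97, 2, 15762, 5536, 15763], [185, 2, 15762, 5537, 5534, 15763], [210, 3, 15762, 5492, 2133, 7530], [157, 3, 15771, 7533, 15770], [0, 0], [213, 4, 2130, 1901, 1889, 6456, 6459, 5686, 15774], [98, 1, 15776, 5599, 5597], [99, 3, 15776, 5596, 5598, 15777, 15775], [110, 1, 15776, 5493, 15763], [209, 1, 15776, 2130, 1901, 13769], [210, 3, 15776, 2135, 1837, 7659], [157, 3, 13774, 13770, 15786], [158, 0, 15784, 15788, 15786], [0, 0], [239, 2, 6457, 5354, 15792], [234, 2, 15794, 6452], [235, 1, 15794, 6455, 15795], [237, 1, 15794, 6451, 6428], [238, 2, 15794, 7294, 7272], [240, 2, 15794, 6459, 5696], [241, 1, 15794, 6461, 15795], [248, 43, 15794, 13734, 13735, 6455, 13744, 14980, 15590, 15574, 14906, 14171, 6866, 15155, 15166, 13461, 14778, 15526, 15645, 7211, 15648, 15629, 15002, 15419, 6049, 5812, 5828, 14985, 6897, 14924, 15644, 15636, 2302, 2288, 5468, 3132, 6040, 6035, 5955, 13667, 6796, 14497, 14500, 13415, 14146, 14096, 13596], [37, 1, 8667, 15808], [117, 1, 7028, 15411,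 15808], [0, 0], [0, 0], [0, 0], [243, 12, 6509, 14594, 14612, 15176, 14465, 13407, 14152, 14066, 6591, 13938, 7297, 13903, 13910, 14159, 14154, 13404, 6575, 4732, 5790, 5809, 5355, 5354, 5627, 1009, 2815, 453, 6426, 7194, 7422, 7428, 15814, 15816, 15818], [37, 2, 15820, 6510], [109, 3, 15820, 7864, 14718], [110, 0, 15820, 14862, 14816], [117, 3, 15820, 12284, 11426], [202, 1, 15820, 7840, 14727, 15655], [243, 1, 15816, 15818, 15820, 14763, 2357, 2109, 5467, 14105, 14098, 13426, 10148, 10150, 14705, 14702, 9925, 14565, 14562, 14522, 14199, 14426, 14245, 14240, 14177, 13755, 7237, 7418, 13876, 13561, 14259, 14254, 14260, 13360, 13361], [243, 9, 15820, 15578, 15641, 15378, 6522, 6449, 7194, 7196, 14803, 14767, 6510, 14882, 7488, 7490, 7492, 7494, 13404, 13394, 14231, 14238, 14689, 14682, 7349, 7347, 7346, 14758, 13874, 15404, 6589, 13910, 15171, 15148, 14131], [243, 19, 15037, 6624, 14259, 14254, 14260, 15832, 15816, 15818, 15820, 6509, 14594, 14612, 15176, 14465, 14464, 14415, 14411, 14341, 14383, 6493, 14198, 14523, 14563,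 14530, 1898, 5551, 1900, 6935, 14858, 15576, 15672, 14883, 15822], [244, 21, 14928, 6618, 14977, 14123, 14219, 14222, 14465, 6577, 14512, 7344, 14653, 14759, 14758, 13874, 15404, 6589, 13910, 15171, 15148, 14131, 15834, 15820, 15578, 15641, 15378, 6522, 6449, 7194, 13478, 6630, 13644, 6626, 15832], [245, 7, 15820, 15578, 15641, 15381, 14177, 14172, 14259, 7330, 14355, 14369, 14411, 14414, 14223, 14218, 14122, 14123, 14219, 14222, 14465, 6577, 14512, 7344, 7345, 14513, 6576, 14464, 14223, 14218, 14122, 13931, 1900, 2170, 5471, 14105, 6490, 14194, 14198, 7445, 2319, 2290, 1913, 5354, 6046, 6057, 5994], [235, 2, 14984, 6009, 15840, 15819], [4, 0, 15819, 15842], [8, 0, 15816, 15842], [237, 1, 9930, 6000, 15840], [241, 1, 12842, 6002, 15840], [118, 0, 6897, 15423, 15846], [120, 3, 15423, 15846, 15852, 15422, 15839], [227, 0, 12210, 13169, 14993, 15846, 15838, 15423, 15853], [243, 15, 14909, 7822, 1809, 2172, 5466, 3053, 426, 414, 452, 2907, 2896, 2149, 1811, 14169, 14158, 13383, 6470, 15017, 15016, 13839, 4835, 4694, 5808,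 15436, 6506, 15123, 15164, 14477, 6580, 13963, 6592, 15416, 15846], [21, 2, 15858, 14805], [0, 0], [0, 0], [245, 19, 13938, 7297, 13903, 13902, 7296, 13939, 6590, 14067, 14153, 13406, 13407, 14152, 14066, 6591, 13938, 7297, 13903, 13910, 14159, 14154, 13404, 6575, 4732, 5790, 5809, 5355, 1888, 5548, 1809, 9931, 14705, 14702, 9925, 14633, 1898, 5551, 1900, 13722, 15141, 15147, 7181, 14238, 14726, 15862, 15864], [234, 2, 15866, 6590], [235, 1, 15866, 13932, 7355], [237, 1, 15866, 13936, 14975], [238, 2, 15866, 13934, 14945], [239, 1, 15866, 13947, 15374], [240, 2, 15866, 13959, 14985], [241, 1, 15866, 13943, 15867], [248, 42, 15864, 15866, 13938, 13939, 13932, 7388, 7355, 14689, 14682, 7349, 14758, 13874, 15404, 6589, 13910, 15171, 15148, 14131, 15834, 15820, 15578, 15641, 15378, 6522, 6449, 7194, 13478, 6630, 13644, 6626, 15832, 15838, 14928, 6618, 14974, 1900, 2170, 5471, 14105, 6490, 14194, 14198, 7474, 6875, 6872], [233, 1, 6568, 15882], [236, 2, 13467, 13383, 15882], [237, 1, 15639, 6842, 15882], [238, 2, 15671, 6872,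 15882], [239, 1, 15833, 13385, 15882], [241, 1, 15883, 6571, 15882], [218, 4, 15894, 15863, 14728, 15862], [117, 1, 15865, 15896, 15864], [0, 0], [0, 0], [0, 0], [0, 0], [0, 0], [0, 0], [0, 0], [0, 0], [0, 0], [0, 0], [0, 0], [0, 0], [0, 0], [0, 0], [0, 0], [0, 0], [247, 18, 13405, 14155, 14158, 13911, 13902, 7296, 13939, 15867, 15865, 15863, 14727, 14239, 7180, 15146, 15140, 13723, 1901, 5550, 1899, 14632, 9924, 14703, 14704, 9930, 1808, 5549, 1889, 1888, 14975, 15900, 15902, 15904, 15906, 15908, 15910, 15912, 15914, 15916, 15918, 15920, 15922, 15924, 15926, 15928, 15930], [234, 2, 15932, 6575], [235, 1, 15932, 13394, 13461], [236, 2, 15932, 14512, 14572], [240, 2, 15932, 6877, 15670], [241, 1, 15932, 12865, 11876], [243, 12, 15930, 15932, 13405, 14155, 14158, 13911, 13902, 7296, 13939, 15867, 15865, 15863, 14727, 14239, 7180, 15146, 15140, 13723, 1901, 5550, 1899, 14632, 14633, 14531, 14562, 14522, 14199, 14426, 14245, 14240, 14177, 15380, 7213, 14926], [4, 0, 15928, 15945, 14927], [7, 0, 15931, 15945], [7, 0, 15926,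 15947, 7212], [15, 0, 15924, 15951, 15378], [8, 0, 15922, 15953, 7237], [3, 0, 15920, 15955, 7418], [8, 0, 15918, 15957, 13876], [15, 0, 15916, 15959, 13561], [7, 0, 15914, 15961, 14259], [4, 0, 15912, 15963, 14254], [7, 0, 15910, 15965, 14260], [10, 0, 15908, 15967, 14503], [6, 0, 15906, 15969, 14498], [6, 0, 15904, 15971, 7472], [16, 0, 15902, 15973, 15933], [3, 0, 15938, 15974], [4, 0, 15936, 15974], [8, 0, 15948, 15974], [9, 0, 15940, 15974], [14, 0, 15942, 15974], [15, 0, 15934, 15974], [16, 0, 15933, 15974], [210, 1, 15982, 15585, 11577, 6994], [0, 0], [243, 10, 14952, 14817, 14826, 14599, 14605, 15172, 14471, 14190, 14045, 14052, 14078, 5374, 1771, 2898, 13712, 7781, 7779, 14549, 14556, 4730, 5160, 4811, 5307, 5306, 5622, 779, 3056, 451, 2907, 2898, 5664, 2302, 15992], [37, 2, 15994, 8005], [110, 0, 15994, 8917, 15640]]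
def dJ40 : List (List ℕ) := [[117, 3, 15994, 14940, 12276], [202, 1, 15994, 15874, 15865, 15892], [243, 1, 15994, 14952, 14817, 14824, 15811, 15798, 15809, 13597, 14549, 14544, 8016, 8018, 7821, 14673, 14676, 14573, 14566, 7811, 14534, 14476, 14217, 13812, 6808, 14116, 4820, 5117, 4822, 13838, 14191, 14186, 14535, 14542, 14543], [235, 1, 14850, 7811, 16004], [236, 2, 15207, 15126, 16004], [241, 1, 11845, 14753, 16004], [0, 0], [0, 0], [0, 0], [0, 0], [0, 0], [0, 0], [245, 18, 15375, 5374, 1771, 2898, 2899, 1770, 5375, 14079, 14053, 14044, 14191, 14190, 14045, 14052, 14078, 5374, 1771, 2898, 13712, 7781, 7779, 14549, 14556, 4730, 5160, 4811, 5307, 5375, 1853, 1791, 7823, 7821, 14673, 14676, 14646, 5631, 4785, 4820, 13706, 16012, 16014, 16016, 16018, 16020, 16022], [37, 2, 16024, 8801], [109, 3, 16024, 15876, 15865], [110, 0, 16024, 8855, 15846], [118, 0, 16024, 15365, 8800], [120, 4, 16027, 15364, 16032, 16024, 15365], [225, 0, 16024, 15366, 13014, 15284], [243, 11, 14855, 13657, 16012, 16014, 16016, 16018, 16020, 16022,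 16024, 15373, 14053, 14044, 14191, 14470, 15173, 14604, 14598, 14621, 15811, 15798, 15809, 13597, 13596, 15247, 15002, 8007, 8005, 15718, 15714, 15705, 15725, 15741, 16026], [244, 18, 16022, 16024, 15373, 14053, 14044, 14191, 14470, 15173, 14604, 14598, 14621, 15811, 15798, 15809, 13597, 15009, 15008, 14549, 14544, 8016, 8021, 1790, 1852, 5374, 1755, 779, 3056, 451, 5624, 5628, 5963, 5954, 8391, 14817], [4, 0, 16023, 16041], [7, 0, 16020, 16041, 14816], [16, 0, 16018, 16045, 13635], [7, 0, 16016, 16047], [37, 1, 16013, 7109, 16048], [4, 0, 16014, 16050], [8, 0, 16048, 16050], [109, 1, 14131, 8484, 16055], [110, 2, 14223, 8482, 16055], [117, 1, 7108, 13629, 16055], [118, 2, 16012, 16060, 16055], [202, 3, 14245, 14246, 14228, 16055], [225, 2, 6847, 13549, 13631, 16055], [248, 44, 6847, 6846, 13513, 13543, 13887, 6049, 5812, 5828, 14985, 6897, 14924, 15644, 15636, 2302, 2288, 5468, 3132, 6040, 6035, 5955, 13667, 6796, 14497, 14500, 13863, 2083, 2110, 5469, 14650, 14567, 14608, 15167, 14461, 14206, 14108, 6809, 14983, 15590,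 15574, 14906, 7826, 7825, 8392, 13635, 16055], [69, 3, 15976, 14813, 16042], [235, 0, 14638, 14825, 16042], [236, 3, 6826, 14827, 16042], [0, 0], [0, 0], [0, 0], [0, 0], [247, 18, 14548, 7778, 7780, 13713, 2899, 1770, 5375, 15374, 16025, 16043, 14816, 13635, 16055, 16052, 16013, 13707, 4821, 4784, 5630, 14647, 14677, 14672, 7820, 7822, 1790, 1852, 5374, 5375, 15374, 16025, 16074, 14515, 7473, 14539, 14534, 14187, 14190, 13839, 4823, 5116, 4821, 16076, 16078, 16080, 16082], [234, 2, 16084, 14556], [235, 1, 16084, 14544, 13471], [236, 2, 16084, 6504, 14602], [237, 1, 16084, 7851, 16004], [238, 2, 16084, 14546, 15832], [239, 1, 16084, 14552, 15670], [240, 2, 16084, 14550, 15989], [243, 9, 16078, 16080, 16082, 16084, 14548, 7778, 7780, 13713, 2899, 1770, 5375, 15374, 16025, 16043, 14816, 13635, 16055, 16052, 16013, 13707, 4821, 4784, 5630, 14647, 14646, 14649, 14566, 7811, 14534, 14476, 14217, 13812, 6808], [248, 42, 16082, 16084, 14548, 14549, 14544, 8016, 8021, 1790, 1852, 5374, 5306, 4810, 5161, 4731, 14557, 14548, 7778,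 7780, 13713, 2899, 1770, 5375, 14079, 14053, 14044, 14191, 14470, 15173, 14604, 14598, 14827, 14816, 14953, 15995, 16005, 14534, 14187, 14190, 15017, 15041, 14956, 7821, 14709, 9945, 7401], [235, 2, 16103, 14695, 16102, 16081], [3, 0, 16080, 16105], [7, 0, 16083, 16105], [16, 0, 16102, 16105], [238, 2, 14889, 7401, 16111], [239, 1, 6617, 14874, 16111], [240, 2, 14883, 7837, 16111], [241, 1, 16110, 14700, 16111], [110, 0, 16078, 16116, 7488], [112, 1, 6619, 16115, 16116, 7488, 16120], [113, 3, 16109, 16116, 15673, 15591, 16120], [209, 1, 16116, 15427, 11469, 11472], [117, 3, 6346, 16126, 16079], [118, 2, 12673, 16126, 16108], [226, 2, 12673, 15299, 16126, 16108], [225, 0, 16078, 16119, 16079, 16128], [77, 2, 10483, 10495, 16134], [193, 2, 15232, 8111, 11992, 16134], [194, 2, 15366, 12170, 10495, 16134], [0, 0], [213, 3, 5947, 5434, 2377, 2883, 5724, 6213, 16142], [46, 2, 16144, 5947], [97, 2, 16144, 5943, 16145], [185, 2, 16144, 5942, 5941, 16145], [210, 3, 16144, 5950, 5919, 15792], [240, 1, 16144, 5944, 10585], [241,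 1, 16155, 10594, 16154], [0, 0], [247, 3, 6693, 11558, 11577, 6994, 6996, 12536, 12591, 7002, 7004, 7006, 11885, 6389, 13196, 13127, 11535, 11526, 12186, 6401, 12178, 5342, 1398, 1878, 10666, 10668, 13182, 13170, 11377, 6366, 13198, 13169, 10335, 6132, 6141, 4805, 13063, 6978, 6980, 6982, 6984, 1800, 2138, 2883, 2882, 12640, 16158], [234, 2, 16160, 6339], [235, 1, 16160, 10498, 10469], [236, 2, 16160, 11578, 13050], [237, 1, 16160, 6693, 10736], [238, 2, 16160, 11580, 11534], [239, 1, 16160, 11586, 11508], [240, 2, 16160, 11584, 12055], [241, 1, 16160, 6341, 16161], [243, 12, 16160, 6240, 6242, 6244, 6246, 10361, 6223, 10397, 12626, 13125, 13181, 13177, 12153, 12144, 13206, 11424, 13200, 7070, 12735, 12829, 12989, 12988, 12977, 6277, 6275, 6273, 6369, 6367, 6365, 6363, 11877, 7741, 13249], [117, 1, 6581, 15222, 16178], [0, 0], [209, 2, 2154, 2897, 6445, 16182], [46, 2, 16184, 3105], [97, 2, 16184, 2122, 6204], [98, 1, 16184, 2105, 7530], [109, 2, 16184, 2366, 12784], [110, 1, 16184, 2967, 12585], [185, 2, 16184, 2105,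 2101, 16185], [239, 2, 16184, 3124, 6187], [240, 1, 16184, 5715, 7544], [241, 1, 16201, 7549, 16200], [0, 0], [211, 3, 5846, 2494, 2489, 2897, 6445, 16182, 16204], [46, 2, 16206, 5861], [97, 2, 16206, 5851, 16207], [109, 2, 16206, 5852, 15504], [185, 2, 16206, 5850, 5845, 16207], [210, 3, 16206, 5852, 2903, 6445], [240, 1, 16206, 5856, 15763], [241, 1, 16219, 15772, 16218], [0, 0], [215, 5, 2152, 2154, 2897, 6445, 6447, 5771, 6106, 16222], [97, 2, 16224, 6108, 6112], [98, 1, 16224, 16226, 16223], [109, 2, 16224, 5855, 16207], [110, 1, 16224, 2456, 15504], [209, 1, 16224, 2152, 2967, 12585], [210, 3, 16224, 5855, 5848, 7239], [158, 0, 12587, 12588, 16236], [160, 3, 12588, 16236, 16238, 12589, 16234], [0, 0], [247, 3, 14499, 14515, 14551, 6503, 14480, 14440, 13863, 1899, 1862, 5376, 15374, 8801, 14919, 15673, 15671, 13541, 13534, 7108, 13707, 5693, 5738, 5831, 14985, 15846, 15858, 14909, 8019, 14250, 15156, 15177, 6798, 13773, 15407, 8666, 14825, 6614, 14895, 14896, 7150, 1810, 2148, 2897, 2896, 14987, 16242], [234, 2,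 16244, 7445], [235, 1, 16244, 13426, 13459], [236, 2, 16244, 14523, 14564], [237, 1, 16244, 14499, 16075], [238, 2, 16244, 7472, 15989], [239, 1, 16244, 14539, 16004], [240, 2, 16244, 7474, 15638], [241, 1, 16244, 12565, 12566], [244, 27, 16244, 14099, 14094, 10149, 13485, 6639, 6638, 5372, 1748, 1888, 14975, 15900, 15976, 14669, 6516, 6544, 15241, 15393, 7273, 13903, 13894, 6566, 6568, 14269, 14272, 13407, 15395, 2960, 5661, 2489, 14987, 10137, 14931], [117, 1, 12124, 15305, 16262], [0, 0], [247, 4, 13271, 13269, 13265, 13261, 13267, 11863, 12900, 13003, 13004, 6409, 5342, 1398, 1878, 11327, 6363, 11362, 6958, 12935, 12693, 12690, 6264, 12760, 12512, 12971, 12972, 13065, 6978, 6980, 6982, 6984, 1800, 2138, 2883, 2894, 441, 407, 419, 3049, 5463, 2147, 1798, 1799, 9605, 13033, 16266], [30, 2, 16268, 13271], [70, 1, 16268, 11867, 13270], [71, 3, 16268, 13271, 11866, 16269, 16271], [98, 2, 16268, 13164, 11263], [193, 1, 16268, 15104, 14436, 14483], [201, 2, 16268, 13157, 11272, 16269], [238, 1, 16268, 11277, 9522], [157,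 2, 13822, 14495, 16278], [0, 0], [0, 0], [0, 0], [0, 0], [0, 0], [0, 0], [247, 9, 15701, 7209, 14857, 14858, 6921, 5693, 5738, 5831, 14061, 6593, 13962, 6581, 14351, 14383, 14287, 6494, 14394, 14208, 14593, 14594, 14827, 6614, 14895, 14896, 7150, 1810, 2148, 2897, 2906, 453, 415, 427, 3052, 5467, 2173, 1808, 1809, 9931, 14705, 16286, 16288, 16290, 16292, 16294, 16296], [37, 2, 16298, 15715], [109, 3, 16298, 15683, 15714], [110, 0, 16298, 16302, 16301], [118, 0, 16298, 15757, 6265], [243, 3, 16296, 16298, 15701, 7209, 14857, 14858, 13657, 7109, 13535, 13540, 6845, 4712, 4774, 5621, 5353, 2896, 2149, 1811, 7151, 14897, 14894, 6615, 14824, 8667, 15406, 13772, 13785, 14792, 16009, 15997, 14837, 14836, 15718, 16300], [3, 0, 16296, 16308], [7, 0, 16299, 16308], [7, 0, 16300, 16308, 16295], [9, 0, 16302, 16308], [10, 0, 16304, 16308], [12, 0, 16306, 16308], [7, 0, 16295, 16314], [10, 0, 16292, 16314, 16319], [3, 0, 16325, 16311, 16324], [7, 0, 16313, 16324], [8, 0, 16322, 16324], [9, 0, 16317, 16324], [10, 0, 16319, 16324],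 [12, 0, 16321, 16324], [157, 1, 16336, 15312, 16337], [194, 3, 16290, 16326, 16338, 16291], [198, 5, 16288, 16290, 16326, 16326, 16338, 16291, 16289], [194, 0, 16341, 16289, 16342, 16288], [69, 2, 16288, 16344, 16289], [97, 1, 16290, 16334, 15681], [101, 2, 16288, 16290, 16334, 15681, 15679], [102, 2, 16334, 15708, 15678, 16348, 16289], [187, 2, 15704, 16333, 16334, 15708, 15678, 15732, 16350], [201, 2, 16290, 16334, 16331, 16291], [203, 3, 16288, 16290, 16334, 15682, 15715, 15681, 15679], [239, 2, 16334, 15716, 14691], [240, 1, 16334, 15719, 10188], [237, 2, 16112, 16362, 16291], [234, 2, 16364, 16110], [38, 1, 15725, 16358], [118, 0, 12727, 15751, 16358], [225, 4, 16341, 16357, 16340, 16356], [0, 0], [197, 3, 6177, 3424, 2143, 2139, 6022, 11043, 16374], [30, 2, 16376, 6177], [70, 1, 16376, 6174, 16228], [97, 1, 16376, 6170, 16377], [194, 3, 16376, 6172, 4927, 7421], [201, 2, 16376, 6170, 6165, 16377], [225, 4, 16385, 7429, 16384, 16386], [0, 0], [237, 2, 6023, 9605, 16390], [234, 2, 16392, 13209], [236, 2, 16392, 6126,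 12846], [238, 2, 16392, 11043, 11056]]
def dJ41 : List (List ℕ) := [[239, 1, 16392, 6017, 6689], [240, 2, 16392, 6019, 8991], [241, 1, 16392, 6025, 15436], [243, 8, 16392, 6015, 6072, 6067, 1916, 1886, 2299, 2328, 10787, 12861, 12858, 13179, 12945, 6233, 6201, 13235, 12483, 7745, 7743, 7741, 13113, 13106, 13088, 13018, 10471, 10470, 6770, 5711, 5754, 6134, 12846, 13128, 13191], [243, 12, 16392, 6012, 5982, 5709, 5712, 3127, 3110, 793, 6221, 10360, 10336, 6336, 6338, 12435, 12428, 12432, 12246, 12480, 12714, 13033, 16266, 16267, 6386, 13131, 10258, 13047, 6770, 4889, 5910, 5903, 12872, 9804, 13278], [117, 1, 7780, 15116, 16408], [0, 0], [241, 2, 1904, 9605, 16412], [242, 2, 16414, 1903, 13722], [157, 0, 16417, 15135, 16416], [0, 0], [0, 0], [243, 13, 4805, 5132, 4889, 12856, 6362, 6364, 6366, 12555, 12550, 6267, 6265, 6263, 12432, 12238, 12376, 12382, 13125, 13181, 13177, 9604, 9605, 12153, 12144, 13206, 11424, 13203, 13290, 10619, 13132, 9807, 16408, 16420, 16422], [234, 2, 16424, 12822], [235, 1, 16424, 6140, 12846],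 [236, 3, 16424, 6027, 16393, 16420], [4, 0, 16428, 16431], [8, 0, 16422, 16431], [15, 0, 16426, 16431], [16, 0, 16425, 16431], [237, 1, 16438, 5066, 12719], [238, 2, 16438, 12818, 11827], [239, 1, 16438, 12820, 11825], [241, 1, 16438, 4806, 14557], [157, 2, 16279, 14492, 16446], [158, 1, 13822, 14555, 16446], [0, 0], [247, 4, 13154, 13263, 13267, 16274, 16281, 16267, 6385, 6383, 6381, 10355, 10361, 6223, 10397, 6254, 12377, 12239, 12433, 6262, 6264, 6266, 12551, 12552, 6272, 6274, 6276, 6278, 6280, 13071, 13072, 6286, 6315, 6308, 6292, 6195, 419, 3112, 3127, 3125, 2967, 1851, 1800, 1801, 6985, 6983, 16452], [30, 2, 16454, 13154], [69, 2, 16454, 11271, 13155], [70, 1, 16454, 16458, 16457], [97, 1, 16454, 13162, 11263], [98, 2, 16454, 13156, 16269], [194, 3, 16454, 11271, 15192, 8613], [201, 2, 16454, 13162, 13158, 16455], [238, 1, 16454, 13141, 9502], [209, 3, 16468, 16465, 16449, 16445], [225, 4, 13665, 14222, 16466, 16468], [0, 0], [195, 3, 3436, 2353, 2161, 2149, 15445, 15455, 16476], [30, 2, 16478, 6158], [69, 2, 16478,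 3438, 15778], [97, 1, 16478, 5458, 16479], [194, 3, 16478, 3438, 2137, 15445], [201, 2, 16478, 5458, 5457, 16479], [225, 4, 16487, 15457, 16486, 16488], [0, 0], [199, 5, 2337, 2296, 2149, 15445, 15447, 6003, 5798, 16492], [69, 2, 16494, 3441, 16479], [70, 1, 16494, 2345, 15778], [98, 2, 16494, 5800, 5806], [100, 1, 16493, 5801, 16500, 16494, 5800], [193, 1, 16494, 2337, 2298, 7077], [194, 3, 16494, 3441, 3434, 13840], [157, 0, 15409, 15411, 16506], [158, 3, 16504, 16508, 16506], [117, 2, 16510, 7029, 16142], [0, 0], [0, 0], [0, 0], [0, 0], [0, 0], [0, 0], [0, 0], [0, 0], [0, 0], [0, 0], [0, 0], [243, 13, 13875, 13897, 6588, 6590, 6592, 14127, 14130, 14455, 14450, 6497, 6495, 6493, 6491, 14149, 14150, 15415, 16242, 16251, 14724, 9930, 9931, 10151, 16514, 16516, 16518, 16520, 16522, 16524, 16526, 16528, 16530, 16532, 16534], [234, 2, 16536, 6583], [235, 1, 16536, 15404, 15867], [236, 2, 16536, 15391, 7355], [237, 1, 16536, 13857, 14978], [238, 2, 16536, 13883, 15418], [240, 2, 16536, 13845, 15245], [241, 1, 16536, 13794,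 16537], [247, 41, 16534, 16536, 13875, 13897, 6588, 6589, 13910, 15171, 6868, 7874, 14482, 8603, 6491, 14149, 14150, 13763, 2897, 1773, 1912, 13722, 6475, 6473, 6471, 6569, 6566, 6465, 6463, 6429, 6523, 6539, 6544, 6517, 6515, 6513, 6511, 14763, 2961, 1865, 5377, 6639, 15329, 16248, 16263, 14889, 14688, 16542], [4, 0, 16542, 16552, 16533], [4, 0, 16540, 16552], [5, 0, 16546, 16552], [6, 0, 16544, 16552], [8, 0, 16534, 16552], [9, 0, 16548, 16552], [13, 0, 16553, 16551, 16552], [15, 0, 16538, 16552], [16, 0, 16537, 16552], [4, 0, 16533, 16554], [7, 0, 16530, 16554, 14689], [16, 0, 16528, 16575, 14888], [8, 0, 16526, 16577, 16262], [3, 0, 16524, 16579, 16249], [8, 0, 16522, 16581, 15328], [15, 0, 16520, 16583, 13458], [8, 0, 16518, 16585], [38, 1, 16515, 10149, 16586], [3, 0, 16516, 16588], [7, 0, 16586, 16588], [109, 3, 15173, 10160, 16593], [110, 0, 15170, 10159, 16593], [118, 0, 6978, 13328, 16593], [201, 3, 16058, 15177, 13672, 16593], [226, 4, 14264, 12793, 13451, 16593], [243, 9, 14258, 14173, 14176, 15380, 15640,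 15579, 15821, 15841, 5995, 6056, 6047, 5627, 1008, 999, 758, 7270, 13939, 13932, 7388, 14237, 14230, 13395, 13405, 7495, 7494, 15395, 2958, 2094, 2080, 14531, 14563, 14520, 16593], [243, 25, 14355, 14369, 14411, 14414, 14223, 14218, 14122, 14976, 14977, 13931, 1900, 2170, 5471, 15245, 15019, 14964, 14705, 16286, 16359, 15733, 15742, 15738, 7488, 7490, 7492, 15376, 2958, 2094, 2080, 14531, 14563, 14520, 16593], [237, 3, 16606, 8607, 14388], [241, 3, 16606, 15221, 7330], [217, 0, 16573, 14730, 16572, 16567], [210, 3, 16565, 16563, 16612, 16564], [0, 0], [0, 0], [0, 0], [0, 0], [0, 0], [0, 0], [247, 10, 6615, 14808, 14792, 6934, 1913, 1772, 2896, 13762, 14151, 14148, 6490, 6492, 6494, 6496, 14451, 14452, 6502, 6504, 6506, 6508, 6510, 6512, 6514, 6516, 6545, 6538, 6522, 6427, 427, 3055, 3065, 2396, 2959, 1877, 1810, 1811, 7151, 14897, 15691, 16616, 16618, 16620, 16622, 16624, 16626], [233, 2, 16628, 6616], [235, 3, 16628, 14866, 15700], [236, 0, 16628, 14895, 15691], [237, 0, 16628, 8056, 15691, 16616], [3, 0, 16632, 16637],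 [4, 0, 16634, 16637], [8, 0, 16626, 16637], [15, 0, 16629, 16637], [16, 0, 16630, 16637], [237, 1, 16619, 16646, 8910, 15698], [5, 0, 16618, 16649], [9, 0, 16621, 16649, 16333], [8, 0, 16623, 16653, 16328], [3, 0, 16625, 16655, 16639], [7, 0, 16642, 16657], [239, 1, 16646, 16115, 16365], [240, 2, 16646, 8051, 15739], [242, 2, 16646, 15264, 12555], [157, 0, 16665, 15749, 16664], [0, 0], [197, 3, 5928, 2956, 2987, 1863, 5050, 14640, 16668], [30, 2, 16670, 5928], [70, 1, 16670, 5915, 11099], [97, 1, 16670, 5925, 5929], [98, 2, 16670, 16676, 16673], [194, 3, 16670, 5927, 4756, 6301], [201, 2, 16670, 5925, 2954, 16495], [202, 2, 16670, 5951, 16145, 16149], [117, 1, 15811, 16152, 16684], [118, 2, 6292, 16142, 16684], [0, 0], [213, 3, 5607, 2079, 2082, 1899, 5119, 7411, 16690], [46, 2, 16692, 5607], [98, 1, 16692, 5068, 5606], [99, 3, 16692, 5607, 5069, 16693, 16695], [110, 1, 16692, 4923, 10585], [185, 2, 16692, 5068, 2158, 16225], [186, 2, 16692, 6173, 16377, 16382], [210, 3, 16692, 4931, 4759, 12854], [157, 3, 12804, 12807,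 16706], [158, 0, 16690, 16708, 16706], [0, 0], [239, 2, 5118, 14531, 16712], [234, 2, 16714, 15353], [235, 1, 16714, 5161, 6844], [236, 2, 16714, 5116, 13706], [237, 1, 16714, 5657, 14765], [238, 2, 16714, 6563, 14652], [241, 1, 16714, 4812, 13706], [242, 2, 16714, 4817, 6844], [247, 2, 16714, 5657, 6553, 6548, 5631, 4785, 4820, 13706, 16012, 16053, 16054, 13632, 5955, 5962, 5629, 5353, 2898, 5664, 2302, 15992, 15994, 14952, 14817, 14824, 15811, 15798, 15809, 15247, 15002, 8007, 8005, 14837, 14676, 14624, 14778, 15128, 7781, 7779, 14549, 14556, 4730, 5160, 4811, 4810, 16715], [0, 0], [241, 2, 1823, 14531, 16732], [242, 2, 16734, 1827, 6985], [0, 0], [29, 1, 5060, 16738], [69, 2, 16670, 5927, 16738], [70, 1, 11098, 5892, 16738], [97, 1, 5061, 5370, 16738], [98, 2, 16741, 16746, 16738], [193, 1, 12738, 5897, 5892, 16738], [194, 3, 13687, 4799, 4750, 16738], [201, 2, 15779, 5596, 4833, 16738], [206, 3, 15782, 15779, 5493, 5541, 16749, 16746, 16738], [117, 3, 16756, 15771, 12741], [118, 0, 16756, 15761, 13734], [0, 0], [233,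 2, 16735, 16762], [241, 3, 16764, 1827, 7062], [242, 0, 16764, 1823, 14632], [157, 2, 14665, 15331, 16768], [158, 1, 16766, 16770, 16768], [0, 0], [235, 2, 4502, 16735, 16774], [239, 1, 16776, 5365, 16777], [241, 1, 16776, 4498, 13484], [242, 2, 16776, 4496, 12795], [158, 3, 15061, 13341, 16782], [217, 0, 6819, 15091, 6749, 16782], [0, 0], [237, 2, 5061, 16735, 16788], [240, 2, 16790, 5371, 16735], [241, 1, 16790, 4751, 6574], [242, 2, 16790, 4756, 12867], [157, 0, 16797, 13325, 16796]]
def dJ42 : List (List ℕ) := [[0, 0], [239, 2, 16748, 16735, 16800], [237, 1, 16802, 16739, 16791], [238, 2, 16802, 16740, 16735], [240, 2, 16802, 16746, 16791], [241, 1, 16802, 16752, 6799], [242, 2, 16802, 16750, 11825], [0, 0], [0, 0], [0, 0], [0, 0], [0, 0], [0, 0], [0, 0], [0, 0], [0, 0], [0, 0], [0, 0], [0, 0], [0, 0], [0, 0], [0, 0], [0, 0], [0, 0], [0, 0], [0, 0], [0, 0], [0, 0], [0, 0], [0, 0], [0, 0], [0, 0], [0, 0], [0, 0], [0, 0], [0, 0], [0, 0], [243, 32, 16734, 16735, 16762, 16814, 16816, 16818, 16820, 16822, 16824, 16826,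 16828, 16830, 16832, 16834, 16836, 16838, 16840, 16842, 16844, 16846, 16848, 16850, 16852, 16854, 16856, 16858, 16860, 16862, 16864, 16866, 16868, 16870, 16872], [201, 1, 16874, 16806, 16801, 16875], [226, 2, 16874, 16733, 14526, 14411], [61, 1, 14375, 16878], [77, 3, 14340, 16878, 16873], [79, 4, 16882, 14340, 16878, 16880, 13039], [157, 2, 16733, 14526, 16878], [157, 0, 12052, 15200, 16884], [194, 4, 16872, 16880, 13102, 16884], [53, 2, 16888, 15067], [118, 2, 16870, 16888, 12417], [120, 4, 14198, 16892, 16888, 12417, 16894], [117, 1, 11117, 16773, 16814], [118, 2, 9925, 16771, 16814], [225, 2, 16815, 16770, 16768, 16814], [217, 4, 16902, 16898, 12766, 16899, 16816], [3, 0, 16816, 16904], [7, 0, 16819, 16904], [226, 2, 16909, 16902, 16898, 11244], [228, 5, 16909, 16902, 16898, 15332, 14704, 14725, 16768], [231, 8, 12073, 16910, 16913, 16814, 16902, 16902, 16815, 16912], [54, 2, 16914, 15335], [157, 3, 16917, 16910, 16914], [241, 1, 10150, 16918, 16820], [242, 3, 2137, 9931, 16918], [234, 1, 16821, 16922], [246, 26,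 16870, 16872, 16874, 16762, 16814, 16907, 16908, 16922, 5493, 5534, 5541, 16765, 16814, 16907, 16908, 16922, 5493, 5534, 5541, 16735, 16875, 16873, 16871, 16869, 16867, 16865, 16863, 16861, 16859, 16857, 16855, 16853, 16851, 16849, 16847, 16846, 16848, 16850, 16852, 16854, 16856, 16858, 16859, 16857, 16855], [243, 17, 16843, 16841, 16839, 16837, 16835, 16833, 16831, 16829, 16827, 16825, 16823, 16821, 16909, 16906, 16815, 16763, 16762, 16764, 5540, 5535, 5492, 16923, 16909, 16906, 16815, 16763, 16875, 16873, 16871, 16927, 16854, 16856, 16858], [244, 20, 16852, 16854, 16856, 16858, 16860, 16862, 16864, 16866, 16868, 16870, 16872, 16874, 16734, 16765, 16764, 5540, 5535, 5492, 16923, 16909, 16906, 16815, 16763, 16875, 16873, 16871, 16927, 16854, 16856, 16858, 16860, 16862, 16864, 16866], [7, 0, 16866, 16930, 16851], [16, 0, 16869, 16930], [4, 0, 16864, 16933, 16849], [7, 0, 16862, 16937, 16847], [16, 0, 16860, 16939], [241, 3, 7081, 2128, 16924], [158, 1, 16942, 15216, 15094], [225, 0, 16823, 16942, 13012, 14335], [61, 1,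 14337, 16946], [77, 2, 16879, 14368, 16946], [78, 2, 16882, 6818, 16946, 16824], [3, 0, 16873, 16953], [5, 0, 16952, 16890, 16953], [7, 0, 16870, 16953], [11, 0, 16889, 16953], [12, 0, 16892, 16953], [13, 0, 16884, 16953], [14, 0, 16883, 16953], [157, 2, 16782, 16786, 16946], [158, 1, 15060, 14335, 16946], [193, 2, 16947, 14369, 7881, 16946], [118, 2, 16822, 16970, 6626], [225, 0, 16827, 16966, 14428, 15089], [232, 5, 16959, 16966, 14348, 15201, 14244, 15168, 13481, 16976], [117, 1, 16978, 16896, 6491], [118, 2, 16978, 16895, 7047], [225, 2, 16978, 16896, 15077, 15168], [242, 0, 16238, 13478, 16984, 16828], [8, 0, 16831, 16986, 16231], [15, 0, 16828, 16986], [3, 0, 16833, 16989, 16214], [8, 0, 16835, 16993, 16213], [16, 0, 16837, 16995], [241, 3, 13755, 15508, 16996], [242, 0, 11732, 15510, 16996], [157, 0, 17000, 13304, 16881], [158, 3, 17000, 13303, 16736], [226, 1, 16839, 17000, 13092, 16736, 16887], [4, 0, 16950, 17006, 16840], [4, 0, 16954, 17006], [5, 0, 17007, 16877, 17006], [8, 0, 16875, 17006], [11, 0, 17003,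 17006], [12, 0, 16887, 17006], [13, 0, 16881, 17006], [14, 0, 16878, 17006], [4, 0, 16840, 17008], [8, 0, 16843, 17008], [227, 4, 16838, 17018, 17004, 17000, 13107, 6982, 16736], [38, 1, 16822, 17026], [117, 3, 12793, 16969, 17026], [118, 0, 14258, 16971, 17026], [0, 0], [0, 0], [0, 0], [0, 0], [0, 0], [0, 0], [0, 0], [247, 10, 16838, 17025, 17026, 16929, 16859, 16857, 16855, 16853, 16851, 16849, 16847, 16940, 16859, 16857, 16855, 16926, 16959, 17011, 17014, 16762, 16814, 16907, 16908, 16922, 5493, 5534, 5541, 16765, 16814, 16907, 16908, 16922, 5493, 5534, 5541, 5540, 5857, 5854, 17036, 17038, 17040, 17042, 17044, 17046, 17048], [233, 2, 17050, 16997], [241, 3, 17050, 17000, 13094], [242, 0, 17050, 16998, 15380], [243, 1, 17044, 17046, 17048, 17050, 16838, 17025, 17026, 16844, 16846, 16848, 16850, 16934, 16959, 17011, 17014, 16734, 5540, 5535, 5492, 16923, 16909, 16906, 16815, 16764, 5540, 5535, 5492, 16924, 16822, 16824, 16826, 16991, 16990], [244, 32, 17059, 17058, 17044, 17046, 17048, 17050, 16838, 17025, 17026, 16844,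 16846, 16848, 16850, 16934, 16959, 17011, 17014, 16762, 16814, 16907, 16908, 16820, 16822, 16824, 16826, 17058, 17044, 17046, 17048, 17053, 16212, 16215, 16230], [238, 0, 17039, 17037, 16226, 17060], [7, 0, 17045, 17062], [9, 0, 17042, 17062], [15, 0, 17060, 17062], [16, 0, 17058, 17062], [239, 3, 17037, 16225, 17069], [240, 1, 16222, 17069, 17066], [241, 3, 12591, 16241, 17069], [242, 0, 7197, 16239, 17069], [158, 3, 17078, 15430, 15851], [54, 1, 15828, 17080], [117, 1, 15821, 17080, 17064], [119, 1, 17084, 15821, 17080, 17082, 11427], [217, 1, 17047, 17087, 13221, 13223, 17086], [3, 0, 17046, 17089], [7, 0, 17049, 17089], [228, 3, 17078, 14806, 14778, 14769, 12284, 17086, 17092], [117, 1, 17093, 17087, 6758], [119, 2, 6511, 17085, 17087, 6758, 17096], [212, 6, 17067, 17064, 17092, 17098, 12283, 12237, 12287], [54, 1, 12287, 17100], [158, 0, 12286, 15314, 17100], [160, 3, 15314, 17100, 17104, 15315, 17103], [197, 2, 17038, 17040, 17106, 12499, 12613, 11308, 12570], [198, 4, 17106, 9705, 9215, 12208, 12197, 17077, 17039],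 [97, 1, 17038, 17072, 17110], [210, 3, 13205, 9563, 17103, 17112], [213, 2, 14874, 7836, 17099, 17093, 17065, 17066, 17112], [157, 3, 17116, 14878, 16000], [202, 3, 17065, 17066, 17041, 17064], [0, 0], [29, 1, 5609, 17122], [69, 2, 15500, 3099, 17122], [70, 1, 15464, 4514, 17122], [97, 1, 5608, 5604, 17122], [98, 2, 17125, 17130, 17122], [193, 1, 12880, 4509, 4514, 17122], [194, 3, 15386, 1877, 1828, 17122], [201, 2, 16697, 5607, 1911, 17122], [206, 3, 16700, 16697, 4923, 4852, 17133, 17130, 17122], [117, 3, 17140, 10593, 12883], [118, 0, 17140, 10583, 15392], [0, 0], [233, 2, 15519, 17146], [241, 3, 17148, 1834, 13085], [242, 0, 17148, 1829, 14169], [158, 1, 14166, 14165, 17152], [159, 3, 17150, 17153, 14164, 14167, 17152], [0, 0], [235, 2, 4514, 15519, 17158], [239, 1, 17160, 5368, 17161], [241, 1, 17160, 4510, 15374], [242, 2, 17160, 4508, 12179], [225, 1, 17165, 16025, 16033, 17164], [0, 0], [237, 2, 17123, 15519, 17170], [235, 1, 17172, 17126, 17052], [240, 2, 17172, 17130, 15519], [241, 1, 17172, 17136, 15239],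 [242, 2, 17172, 17134, 12886], [157, 0, 14914, 15236, 17180], [53, 2, 17182, 15990], [0, 0], [239, 2, 5604, 15519, 17186], [237, 1, 17188, 17125, 17173], [238, 2, 17188, 5609, 15519], [240, 2, 17188, 17133, 17173], [241, 1, 17188, 4745, 16076], [242, 2, 17188, 4749, 6344]]
def dJ43 : List (List ℕ) := [[157, 0, 16134, 16128, 17198], [158, 3, 17196, 17200, 17198], [0, 0], [0, 0], [0, 0], [0, 0], [0, 0], [0, 0], [0, 0], [0, 0], [0, 0], [0, 0], [0, 0], [0, 0], [0, 0], [0, 0], [0, 0], [0, 0], [0, 0], [0, 0], [0, 0], [0, 0], [0, 0], [0, 0], [0, 0], [0, 0], [0, 0], [0, 0], [0, 0], [0, 0], [0, 0], [0, 0], [243, 32, 15518, 15519, 17146, 17204, 17206, 17208, 17210, 17212, 17214, 17216, 17218, 17220, 17222, 17224, 17226, 17228, 17230, 17232, 17234, 17236, 17238, 17240, 17242, 17244, 17246, 17248, 17250, 17252, 17254, 17256, 17258, 17260, 17262], [117, 1, 17264, 15525, 15673], [118, 2, 17264, 15522, 11527], [201, 1, 17264, 17192, 17187, 17265], [69, 3, 17262, 17270, 17263], [217, 1, 17262, 17267, 15577, 15582, 17266], [4, 0, 17262,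 17274], [8, 0, 17265, 17274], [11, 0, 17268, 17274], [12, 0, 17266, 17274], [226, 2, 14858, 15582, 17283, 17261], [228, 3, 15521, 6276, 12972, 11531, 15584, 17283, 17261], [117, 1, 17260, 17282, 15591], [119, 2, 6674, 17281, 17282, 15591, 17288], [158, 0, 17290, 15347, 15342], [78, 1, 17109, 12396, 17292], [241, 2, 16413, 12153, 17292], [242, 2, 1904, 12151, 17292, 17259], [7, 0, 17256, 17298, 5489], [16, 0, 17259, 17298], [4, 0, 17254, 17301, 5530], [7, 0, 17252, 17305, 5539], [15, 0, 17250, 17307, 17149], [8, 0, 17248, 17309, 17204], [3, 0, 17246, 17311, 17206], [8, 0, 17244, 17313, 17208], [16, 0, 17242, 17315], [234, 1, 17211, 17316], [245, 41, 17211, 17209, 17207, 17205, 17147, 17279, 17276, 17261, 17303, 5489, 5530, 5539, 15519, 17279, 17276, 17261, 17303, 5489, 5530, 5539, 17149, 17204, 17206, 17208, 17316, 17241, 17239, 17237, 17236, 17238, 17240, 17318, 17212, 17214, 17216, 17217, 17215, 17213, 17319, 17241, 17239, 17237, 17235, 17233, 17231, 17229], [16, 0, 17226, 17320, 17319], [15, 0, 17316, 17322], [16, 0,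 17319, 17322], [117, 1, 6867, 17155, 17204], [118, 2, 6683, 17157, 17204], [225, 2, 6683, 14165, 17152, 17204], [226, 2, 6867, 14166, 17157, 17204], [77, 3, 17207, 17334, 15155], [79, 5, 6685, 17333, 17334, 15155, 17336], [194, 4, 17207, 17334, 8537, 17336], [69, 1, 17206, 17340, 17207], [157, 2, 17338, 15150, 15102], [158, 1, 17338, 17344, 17337], [226, 2, 17209, 17338, 15150, 15166], [230, 3, 13449, 15167, 17336, 17338, 15150, 17346, 17208], [231, 8, 17350, 13449, 14231, 7180, 17336, 17338, 12900, 13178], [54, 1, 13491, 17352], [78, 3, 17350, 12859, 16796], [241, 0, 17324, 17350, 6688, 5980], [7, 0, 17224, 17359, 5951], [15, 0, 17325, 17359], [16, 0, 17327, 17359], [4, 0, 17222, 17361, 5941], [7, 0, 17220, 17367, 5948], [15, 0, 17218, 17369], [242, 2, 17211, 17350, 6761], [62, 1, 6767, 17372], [157, 0, 17056, 17097, 17372], [158, 3, 14917, 12283, 17372], [225, 4, 13225, 6758, 17372, 17212], [54, 2, 17380, 15675], [158, 2, 17380, 13225, 17086], [217, 2, 17380, 12128, 13224, 17381, 17214], [4, 0, 17214, 17386], [8, 0,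 17217, 17386], [117, 3, 6643, 17381, 17390], [119, 4, 17392, 6643, 17381, 17383, 15645], [121, 4, 17378, 12536, 6643, 17381, 17390], [228, 4, 15823, 6511, 15635, 15674, 17381, 17213, 17397], [61, 2, 17398, 15850], [193, 0, 17385, 17120, 17384, 17388], [0, 0], [0, 0], [0, 0], [0, 0], [0, 0], [0, 0], [0, 0], [0, 0], [0, 0], [0, 0], [0, 0], [245, 15, 17391, 17388, 17213, 17211, 17209, 17207, 17205, 17204, 17206, 17208, 17363, 5951, 5941, 5948, 5949, 5940, 5950, 17362, 17209, 17207, 17205, 17148, 5538, 5531, 5488, 17302, 17260, 17277, 17278, 15518, 5538, 5531, 5488, 16415, 17404, 17406, 17408, 17410, 17412, 17414, 17416, 17418, 17420, 17422, 17424], [234, 2, 17426, 17371], [241, 1, 17426, 17401, 11805], [242, 2, 17426, 17398, 15835], [157, 0, 17433, 14003, 17432], [225, 3, 16419, 16417, 6475, 17432], [226, 2, 14131, 17432, 17434, 17425], [228, 3, 17405, 16417, 15141, 14131, 17432, 17434, 17434, 17425], [4, 0, 17422, 17440], [8, 0, 17425, 17440], [13, 0, 17439, 17440], [230, 3, 17446, 14131, 17432, 17431, 13313, 13313, 6384],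 [231, 8, 17446, 15144, 13032, 13176, 13999, 17432, 17436, 17404], [218, 3, 17407, 17450, 17446, 15147, 17346], [4, 0, 17406, 17453], [8, 0, 17409, 17453], [38, 1, 17209, 17456], [117, 3, 7180, 17346, 17456], [118, 0, 12901, 17344, 17456], [226, 4, 17462, 12901, 17339, 17456], [241, 1, 17411, 17464, 17410], [22, 2, 17206, 17454, 17442], [3, 0, 17442, 17468], [7, 0, 17420, 17468], [69, 3, 17455, 17341, 17454], [37, 1, 17204, 17472], [117, 1, 15171, 17329, 17472], [118, 2, 13027, 17331, 17472], [225, 2, 17473, 17330, 17333, 17472], [242, 0, 17418, 17482, 17419], [0, 0], [0, 0], [0, 0], [0, 0], [0, 0], [0, 0], [0, 0], [0, 0], [0, 0], [0, 0], [0, 0], [247, 14, 17457, 17454, 17405, 16414, 5489, 5530, 5539, 17149, 17204, 17206, 17208, 17210, 17212, 17389, 17390, 17427, 17445, 17471, 17472, 17419, 17417, 17415, 17413, 17411, 17457, 17454, 17405, 16414, 5489, 5530, 5539, 5538, 3931, 5430, 17486, 17488, 17490, 17492, 17494, 17496, 17498, 17500, 17502, 17504, 17506], [233, 2, 17508, 17410], [241, 3, 17508, 17465, 17509], [243, 29,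 17502, 17504, 17506, 17511, 17510, 17508, 17457, 17454, 17405, 17297, 17260, 17277, 17278, 15518, 5538, 5531, 5488, 17302, 17260, 17277, 17278, 15518, 5538, 5531, 5488, 16415, 17404, 17455, 17456, 17410, 17412, 17414, 17416], [243, 21, 17500, 17502, 17504, 17506, 17508, 17457, 17454, 17405, 16414, 5489, 5530, 5539, 17149, 17148, 15519, 17279, 17276, 17261, 17303, 5489, 5530, 5539, 17149, 17204, 17206, 17208, 17363, 5951, 5941, 5948, 17428, 17445, 17471, 17472], [7, 0, 17498, 17517, 17473], [15, 0, 17501, 17517], [4, 0, 17496, 17519, 17470], [7, 0, 17494, 17523, 17444], [9, 0, 17492, 17525], [202, 2, 17445, 17474, 17444, 17526, 17491], [5, 0, 17488, 17528], [6, 0, 17491, 17528], [240, 1, 16503, 17428, 17526], [97, 1, 17532, 17527, 17530], [45, 2, 17536, 17526], [98, 3, 17536, 17530, 17539], [197, 2, 17540, 17531, 17431, 13180, 12955, 13011, 7033], [197, 5, 10258, 13008, 11909, 11801, 17430, 17532, 17540], [62, 2, 17544, 13767], [78, 1, 17544, 10258, 16943], [61, 1, 13823, 17542], [241, 1, 17521, 17482, 17520], [0, 0],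 [0, 0], [243, 24, 11329, 12384, 12209, 12210, 6718, 6674, 6676, 13067, 12020, 12021, 13087, 6682, 6684, 6686, 6761, 6759, 12129, 6642, 12599, 12594, 6749, 6747, 11777, 6683, 13076, 12959, 12962, 6647, 6645, 6643, 10736, 17554, 17556], [38, 0, 17558, 10668, 17554], [4, 0, 17556, 17561], [8, 0, 17559, 17561], [109, 1, 17564, 12815, 6389], [110, 2, 17564, 12863, 7741], [118, 2, 17564, 13315, 10669], [120, 1, 17555, 13314, 17570, 17564, 13315], [201, 1, 17564, 13135, 11891, 10694], [202, 3, 17564, 12863, 9855, 9809], [226, 2, 17564, 10795, 13298, 8116], [229, 4, 17564, 17570, 17573, 10750, 13189, 8116, 15209], [247, 1, 17564, 10667, 10393, 10415, 6089, 2376, 5670, 2969, 12569, 12595, 12592, 13136, 11768, 13122, 12955, 12958, 12177, 13014, 12720, 8213, 11414, 12967, 12964, 12813, 12816, 12385, 12339, 8158, 11544, 13015, 12166, 13066, 11612, 5185, 4587, 5904, 12698, 12450, 11997, 12157, 11376, 13099, 13096, 8117, 8116], [233, 1, 13101, 17582], [0, 0], [247, 2, 17587, 13283, 12371, 12583, 16194, 16196, 16193, 12997, 12949, 13220,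 11426, 11521, 12756, 6668, 6670, 6720, 12211, 12208, 12385, 11328, 17565, 17562, 17555, 10740, 2308, 2346, 5472, 3048, 439, 2806, 791, 3074, 2182, 5498, 1784, 7062, 11116, 12767, 11244, 12076, 1883, 5544, 2175, 2174, 17586], [243, 7, 17588, 17587, 2183, 2120, 5473, 12969, 12966, 12411, 12416, 12054, 12681, 12485, 8159, 13144, 2175, 2918, 5341, 12795, 6747, 12655, 12656, 12054, 12451, 12446, 6759, 13146, 13147, 13226, 13292, 13185, 8116, 17582, 17564], [243, 23, 13099, 17582, 17555, 10749, 13292, 13227, 11426, 13214, 12211, 13212, 13213, 13211, 11053, 12579, 16194, 16199, 6190, 6183, 6190, 16198, 16193, 15480, 15491, 15495, 12657, 12654, 6746, 12794, 5340, 2919, 2174, 17586, 17588], [243, 29, 17588, 17592, 13099, 13100, 13101, 17582, 17555, 10749, 13292, 6731, 2377, 2142, 5474, 12969, 8274, 13152, 13137, 11057, 11052, 12797, 12800, 7538, 6191, 6182, 6191, 7539, 12883, 15482, 15490, 15493, 12681, 12485, 8159], [237, 3, 12247, 8163, 17594], [238, 0, 6394, 12251, 17594]]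
def dJ44 : List (List ℕ) := [[239, 3, 16436, 12504, 17594], [240, 0, 12750, 8161, 17594], [241, 3, 11329, 12249, 17594], [242, 0, 11377, 15262, 17594], [157, 0, 17606, 13297, 15209], [158, 3, 17606, 13298, 13188], [0, 0], [233, 2, 12795, 17612], [235, 3, 17614, 1846, 10846], [236, 0, 17614, 1843, 7062], [237, 3, 17614, 5058, 12856], [238, 0, 17614, 6298, 12652], [239, 3, 17614, 6138, 10412], [240, 0, 17614, 10399, 6254], [241, 3, 17614, 1860, 6639], [247, 9, 17614, 5338, 1759, 2884, 13147, 6758, 12447, 12450, 15492, 15490, 15481, 16192, 16201, 12801, 12796, 11053, 11056, 13136, 13153, 8275, 12968, 5475, 2143, 2376, 6730, 13293, 10748, 17554, 17583, 13098, 17593, 17589, 17587, 2175, 2918, 5341, 5340, 12179, 13014, 11545, 12679, 11664, 12542, 12125, 17616], [210, 1, 17625, 15318, 17624, 17630], [0, 0], [0, 0], [0, 0], [0, 0], [0, 0], [0, 0], [0, 0], [0, 0], [243, 13, 5472, 2121, 2182, 13145, 8077, 10491, 6647, 13211, 11052, 12797, 12800, 16200, 16193, 15480, 15491, 15495, 12657, 12654, 6746, 12794, 12795, 17612, 17630,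 17619, 11116, 17634, 17636, 17638, 17640, 17642, 17644, 17646, 17648], [234, 2, 17650, 12969], [235, 1, 17650, 2347, 12093], [236, 2, 17650, 2355, 12077], [237, 1, 17650, 5777, 12843], [238, 2, 17650, 7663, 12977], [240, 2, 17650, 6319, 12013], [241, 1, 17650, 2353, 15245], [243, 17, 17650, 5475, 2143, 2376, 13147, 11426, 13214, 12211, 13211, 11053, 12579, 16194, 16201, 12883, 15482, 15490, 15495, 15494, 15493, 12681, 12485, 8159, 13144, 2175, 2918, 5341, 17615, 17630, 17619, 11116, 11248, 12083, 17654, 17649], [4, 0, 17656, 17667, 17647], [4, 0, 17654, 17667], [5, 0, 17660, 17667], [6, 0, 17658, 17667], [8, 0, 17648, 17667], [9, 0, 17662, 17667], [14, 0, 17664, 17667], [15, 0, 17652, 17667], [16, 0, 17651, 17667], [4, 0, 17647, 17668], [7, 0, 17644, 17668, 11245], [16, 0, 17642, 17689, 17634], [7, 0, 17640, 17691], [37, 1, 17637, 17692], [243, 5, 12083, 17671, 17676, 17684, 5475, 2143, 2376, 6730, 13293, 10748, 17554, 17583, 13098, 17593, 17589, 17595, 8158, 12484, 12680, 12055, 12417, 12410, 12967, 17683, 17676, 17687,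 11245, 11248, 11249, 17634, 17692, 17639, 17637], [247, 1, 17696, 12083, 12092, 5644, 7669, 15486, 15491, 15483, 12882, 16200, 16195, 12578, 11052, 11056, 13057, 13054, 12793, 12794, 5338, 1759, 2884, 6730, 13292, 13185, 8116, 17582, 17564, 17590, 17588, 17595, 8077, 10491, 6647, 13212, 13136, 13153, 8275, 17683, 17677, 17670, 12082, 17697, 17636, 17638, 17693, 17692], [4, 0, 17638, 17698], [8, 0, 17695, 17698, 17692, 17698], [3, 0, 17700, 17703], [7, 0, 17636, 17703], [247, 6, 17706, 17705, 17706, 17696, 12083, 17671, 17676, 17682, 8274, 13152, 13137, 11057, 11052, 12797, 12800, 7538, 6191, 6182, 6191, 7539, 12883, 15482, 15490, 15493, 12681, 12485, 8159, 17594, 17588, 17592, 13099, 13100, 13272, 13277, 13272, 17585, 17564, 17590, 17588, 17589, 17595, 8158, 12729, 12929, 12930], [202, 3, 17707, 17709, 12931, 12693], [209, 3, 17707, 17709, 15745, 17708], [217, 4, 17713, 17704, 17712, 17705], [30, 1, 9271, 17710], [97, 3, 12755, 12758, 17710], [157, 2, 17680, 16615, 17681], [0, 0], [243, 6, 16557, 16562, 16570, 15400,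 6432, 6462, 14759, 14727, 15870, 15865, 15883, 14269, 14272, 13407, 15395, 2960, 5661, 2489, 14987, 10137, 14931, 16262, 16244, 14099, 14094, 10149, 13485, 13484, 13459, 15328, 14627, 9924, 17722], [38, 2, 17724, 15865], [109, 1, 17724, 15877, 8801], [110, 2, 17724, 15879, 6897], [117, 1, 17724, 15899, 17725], [201, 1, 17724, 15873, 16123, 16078], [202, 3, 17724, 15879, 10181, 10137], [225, 2, 17724, 15899, 15880, 17725], [243, 7, 17724, 15866, 6589, 13896, 13874, 6583, 6581, 6579, 6577, 6575, 4713, 5167, 5693, 5696, 2959, 1877, 1810, 9931, 14725, 16250, 16243, 14986, 2897, 1773, 1912, 6935, 6934, 13722, 6475, 6473, 6471, 15882, 17726], [243, 13, 17724, 16557, 16562, 16570, 15400, 6432, 6462, 14652, 14584, 14617, 15141, 14455, 14451, 15099, 14397, 16607, 16515, 13765, 14151, 15415, 15414, 13763, 2488, 5660, 2961, 15377, 15024, 14951, 14873, 16645, 16658, 16640, 16369], [0, 0], [241, 2, 2963, 15377, 17744], [235, 1, 17746, 4513, 17161], [236, 2, 17746, 3099, 15519], [238, 2, 17746, 15501, 17052], [240, 2, 17746, 15504,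 17052], [242, 2, 17746, 2459, 11489], [158, 3, 14935, 15306, 17756], [217, 0, 14808, 15351, 6275, 17756], [118, 3, 17760, 6614, 17117], [0, 0], [0, 0], [233, 2, 17764, 17766], [235, 3, 17768, 1875, 16765], [237, 3, 17768, 5929, 17364], [239, 3, 17768, 5924, 17364], [241, 3, 17768, 1873, 10846], [242, 0, 17768, 2956, 16246], [158, 1, 16261, 16265, 17778], [159, 3, 17776, 17779, 16264, 16260, 17778], [241, 3, 16245, 17778, 17767], [62, 2, 17784, 12565], [77, 2, 17784, 14523, 16732], [78, 1, 17784, 13426, 16780], [157, 2, 17784, 16963, 16964], [158, 1, 17784, 15066, 12052], [193, 2, 17784, 13426, 10162, 17348], [210, 2, 17354, 7510, 6630, 17794], [0, 0], [0, 0], [0, 0], [0, 0], [0, 0], [0, 0], [0, 0], [0, 0], [0, 0], [0, 0], [0, 0], [0, 0], [0, 0], [0, 0], [0, 0], [0, 0], [0, 0], [0, 0], [0, 0], [0, 0], [0, 0], [0, 0], [0, 0], [0, 0], [0, 0], [0, 0], [0, 0], [0, 0], [0, 0], [0, 0], [243, 32, 17765, 17764, 17766, 17800, 17802, 17804, 17806, 17808, 17810, 17812, 17814, 17816, 17818, 17820, 17822, 17824, 17826, 17828, 17830,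 17832, 17834, 17836, 17838, 17840, 17842, 17844, 17846, 17848, 17850, 17852, 17854, 17856, 17858], [110, 2, 17860, 17798, 17459], [117, 1, 17860, 17795, 14244], [118, 2, 17860, 17793, 13040], [226, 2, 17860, 17784, 16963, 16958], [218, 4, 16896, 15077, 15079, 17864, 17859], [3, 0, 17859, 17870], [8, 0, 17856, 17870, 16979], [16, 0, 17854, 17875, 17071], [7, 0, 17852, 17877, 17095], [4, 0, 17850, 17879, 17174], [8, 0, 17848, 17881], [110, 0, 17286, 17176, 17882], [117, 3, 15981, 17184, 17882], [118, 0, 6994, 17183, 17882], [226, 4, 15257, 15037, 17178, 17882], [62, 2, 17890, 15359], [77, 2, 17890, 12197, 17077], [193, 2, 17890, 12209, 9214, 17292], [241, 2, 17890, 12809, 16709], [242, 0, 17846, 17890, 12817], [78, 1, 16977, 6391, 17900], [157, 2, 17544, 13323, 17900], [194, 2, 16413, 10775, 12811, 17900], [225, 2, 17544, 13130, 13320, 17900, 17845], [3, 0, 17842, 17908, 17549], [8, 0, 17845, 17908], [8, 0, 17840, 17911, 17031], [15, 0, 17838, 17915, 16844], [8, 0, 17836, 17917], [241, 2, 16708, 11885, 17900], [240, 2,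 17920, 16695, 16415], [38, 1, 16847, 17918], [246, 8, 17767, 17861, 17873, 16979, 16991, 16233, 17127, 17138, 17139, 17126, 16232, 16990, 16978, 17872, 17860, 17861, 17873, 16979, 17071, 17095, 17174, 17882, 17899, 17139, 17126, 16232, 17069, 17095, 17174, 17882, 17847, 17913, 17549, 17031, 16844, 17918, 17835, 17833, 17831, 17829, 17827, 17825, 17823, 17821, 17819, 17817], [8, 0, 17817, 17926, 17800], [16, 0, 17814, 17926, 17768], [3, 0, 17819, 17929, 17802], [8, 0, 17812, 17931, 2954], [8, 0, 17821, 17933, 17804], [3, 0, 17810, 17935, 2345], [16, 0, 17823, 17937], [8, 0, 17808, 17939, 2135], [15, 0, 17806, 17943, 16765], [7, 0, 17804, 17945, 16912], [15, 0, 17941, 17945, 16763], [3, 0, 17802, 17947], [7, 0, 17825, 17949, 17028], [3, 0, 17827, 17953], [248, 44, 17801, 17800, 17951, 16913, 16764, 2134, 2344, 2955, 17764, 17861, 17873, 16979, 17071, 17095, 17174, 17882, 17847, 17913, 17549, 17031, 16844, 17918, 17835, 17833, 17831, 17829, 17955, 17029, 16762, 16912, 17950, 17801, 17767, 17861, 17873, 16979, 16991, 16233,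 17127, 17138, 16695, 5069, 16696, 17921, 17913], [234, 1, 17486, 17956], [237, 3, 17427, 17530, 17956], [240, 0, 17427, 17537, 17956], [241, 3, 12090, 17545, 17956], [242, 0, 15414, 17546, 17956], [158, 3, 17966, 15303, 15250], [159, 0, 17966, 15251, 15302, 17967, 17964], [77, 1, 13089, 17001, 17954], [78, 2, 14173, 16999, 17954], [217, 2, 6980, 17021, 17016, 17954], [218, 2, 14521, 15065, 16999, 17954], [235, 2, 17175, 17050, 17954], [236, 1, 17126, 16996, 17954], [238, 0, 17982, 17123, 17149], [239, 3, 17982, 17130, 17149], [110, 0, 17476, 17986, 17828], [210, 1, 17988, 17480, 10778, 13057], [239, 3, 17831, 17988, 17419], [53, 1, 16598, 17990], [158, 2, 17032, 13061, 17990], [217, 1, 17032, 10574, 13059, 17990]]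
def dJ45 : List (List ℕ) := [[235, 3, 17831, 17998, 16844], [242, 0, 17831, 17996, 16844], [0, 0], [0, 0], [0, 0], [0, 0], [0, 0], [0, 0], [0, 0], [0, 0], [0, 0], [0, 0], [0, 0], [245, 18, 16928, 17030, 17548, 17912, 17913, 17549, 17031, 16844, 17918, 17835, 17833, 17832, 17834, 17919, 16845, 17030, 17548, 17912, 17846, 17883, 17175, 17094, 17070, 16978, 17872, 17860, 17765, 2954, 2345, 2135, 16735, 17028, 17954, 17828, 18004, 18006, 18008, 18010, 18012, 18014, 18016, 18018, 18020, 18022, 18024], [37, 2, 18026, 16859], [243, 17, 18020, 18022, 18024, 18026, 16941, 17918, 17835, 17833, 17831, 17829, 17955, 17029, 16734, 2134, 2344, 2955, 17769, 17768, 17764, 17861, 17873, 16979, 17071, 17095, 17174, 17882, 17847, 17913, 17549, 17031, 16844, 17918, 17835, 17833], [8, 0, 18018, 18031, 17832], [16, 0, 18021, 18031], [3, 0, 18016, 18033, 17834], [8, 0, 18014, 18037, 17919], [15, 0, 18012, 18039, 16940], [7, 0, 18010, 18041, 18027], [4, 0, 18024, 18042, 18009], [7, 0, 18027, 18042], [8, 0, 18028, 18042], [7, 0, 18022, 18045,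 18007], [15, 0, 18034, 18051], [235, 3, 18052, 18001, 16940], [239, 3, 18052, 17993, 17514], [242, 0, 18052, 18003, 16940], [247, 1, 17860, 17765, 16672, 16670, 5925, 2954, 2345, 2135, 16735, 17028, 17954, 17828, 18004, 18006, 18008, 18046, 16928, 17030, 17548, 17912, 17920, 17139, 17126, 16232, 16990, 16978, 17872, 17860, 17766, 17800, 17951, 16913, 16763, 17028, 17954, 17828, 17830, 17832, 17834, 17919, 16940, 18047, 18009, 18007, 18006], [243, 33, 16853, 16852, 16926, 16979, 17903, 17913, 17487, 2955, 1875, 2134, 16924, 17031, 17999, 17829, 17980, 17882, 17895, 17095, 17053, 16232, 16702, 17139, 17173, 17882, 17895, 17095, 17050, 17029, 17788, 17861, 18061, 18007, 18055, 18047], [3, 0, 18008, 18062], [7, 0, 18047, 18062], [7, 0, 18049, 18062, 16854], [4, 0, 16856, 18069], [8, 0, 16859, 18069], [239, 3, 18060, 17863, 17509], [242, 0, 18060, 17869, 16927], [226, 0, 16855, 18076, 18007, 18059], [117, 3, 18066, 18078, 18072], [118, 2, 18072, 18078, 16855], [158, 1, 18059, 18080, 18076], [210, 3, 18056, 18006, 18084, 18057],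 [118, 0, 17503, 18086, 17502], [226, 4, 18088, 17503, 17552, 17502], [218, 2, 17505, 18089, 18091, 17504], [117, 3, 17507, 18092, 17506], [110, 1, 18074, 18007, 18057], [37, 2, 17503, 18096, 17507], [4, 0, 17504, 18098], [8, 0, 17507, 18098], [0, 0], [247, 5, 17799, 17861, 17873, 16979, 17071, 17095, 17174, 17882, 17899, 17139, 17126, 16232, 17069, 17095, 17174, 17882, 17847, 17913, 17549, 17031, 16929, 18067, 18064, 18007, 18052, 17832, 17834, 17919, 16940, 18067, 18064, 18007, 18005, 17829, 17955, 17029, 16734, 2134, 2344, 2955, 2954, 17959, 17801, 17767, 18104], [69, 2, 18106, 17357, 16804], [97, 1, 18106, 17799, 17797], [98, 2, 18106, 18110, 18105], [193, 1, 18106, 17349, 14609, 7871], [194, 3, 18106, 17357, 16797, 9855], [238, 1, 18106, 17363, 16671], [157, 0, 15054, 14618, 18116], [53, 2, 18120, 15163], [202, 3, 17458, 18110, 18105, 17861], [238, 0, 18060, 18124, 17509], [0, 0], [235, 2, 2159, 16415, 18128], [234, 2, 18130, 17036], [237, 1, 18130, 16226, 16990], [240, 2, 18130, 16225, 16990], [241, 1, 18130, 2157,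 12640], [242, 2, 18130, 2287, 14543], [158, 3, 14752, 15074, 18140], [159, 0, 18138, 18141, 15075, 14753, 18140], [0, 0], [237, 2, 5068, 16415, 18146], [238, 2, 18148, 16696, 17921], [239, 1, 18148, 5607, 16415], [240, 2, 18148, 16693, 17921], [241, 1, 18148, 4924, 16439], [242, 2, 18148, 4927, 14557], [157, 0, 17550, 14555, 18158], [225, 1, 17543, 13290, 16451, 18156], [0, 0], [0, 0], [0, 0], [0, 0], [0, 0], [0, 0], [0, 0], [0, 0], [0, 0], [0, 0], [0, 0], [0, 0], [0, 0], [0, 0], [0, 0], [0, 0], [0, 0], [243, 31, 17436, 16414, 16415, 17297, 17286, 17750, 17763, 17037, 2456, 3099, 1910, 17302, 17286, 17750, 17763, 18132, 18164, 18166, 18168, 18170, 18172, 18174, 18176, 18178, 18180, 18182, 18184, 18186, 18188, 18190, 18192, 18194, 18196], [69, 3, 18198, 17530, 17549], [77, 3, 18198, 17433, 6473], [78, 0, 18198, 17431, 13180], [217, 0, 18198, 17435, 18199, 18205], [236, 3, 18198, 17429, 5805], [240, 0, 16925, 5596, 18208], [110, 2, 18196, 18210, 17031], [209, 3, 18196, 18210, 16975, 13385], [54, 1, 13389, 18214], [118,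 0, 6471, 18214, 18196], [157, 3, 18215, 6570, 18214], [217, 3, 17482, 17478, 13383, 18214], [235, 1, 18194, 18222, 17520], [77, 1, 18225, 17553, 18224], [217, 2, 18225, 17553, 18087, 18224], [118, 0, 18192, 18228, 18193], [226, 4, 18230, 18192, 18226, 18193], [239, 1, 16928, 18212, 18195], [109, 3, 18192, 18234, 18067], [110, 0, 16979, 18136, 18164], [117, 3, 14537, 18143, 18164], [118, 0, 16159, 18145, 18164], [226, 4, 18242, 16159, 18138, 18164], [217, 3, 18167, 18244, 18242, 16167, 17463], [4, 0, 18166, 18247], [7, 0, 18169, 18247, 17458], [15, 0, 18171, 18251, 17363], [8, 0, 18173, 18253, 5921], [3, 0, 18175, 18255, 5805], [8, 0, 18177, 18257, 4833], [16, 0, 18179, 18259, 16791], [8, 0, 18181, 18261], [110, 0, 17029, 16792, 18262], [117, 3, 18263, 16798, 18262], [225, 0, 12861, 16796, 18262, 18266], [226, 4, 13495, 13404, 16794, 18262], [77, 2, 18183, 18270, 14155, 17152], [4, 0, 18182, 18273], [7, 0, 18185, 18273, 17477], [16, 0, 18187, 18277, 17520], [8, 0, 18189, 18279, 18096], [4, 0, 18191, 18281], [193, 2, 18270,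 14152, 14145, 16999], [241, 2, 18270, 15395, 2962], [242, 1, 18270, 7495, 17744], [246, 0, 18165, 18129, 17437, 17429, 5920, 5927, 4832, 18208, 18197, 18222, 17476, 17147, 17287, 17294, 17762, 17763, 17295, 17286, 17146, 17477, 18223, 18196, 18197, 18222, 17476, 17148, 1910, 2158, 2456, 17747, 17763, 17295, 17286, 15518, 1910, 2158, 2456, 18286, 18263, 17356, 17459, 17509, 18097, 18224, 18193], [70, 0, 18064, 18127, 18282], [238, 2, 18291, 18292, 16926], [0, 0], [0, 0], [0, 0], [0, 0], [0, 0], [0, 0], [0, 0], [0, 0], [0, 0], [0, 0], [245, 19, 18262, 18275, 17477, 17476, 18274, 18263, 16790, 4832, 5804, 5920, 5921, 5805, 4833, 16791, 18262, 18275, 17477, 17520, 18096, 18282, 18192, 18194, 18196, 18198, 17436, 16414, 1911, 3098, 2457, 18131, 18164, 18249, 17458, 17210, 17397, 18296, 18298, 18300, 18302, 18304, 18306, 18308, 18310, 18312, 18314], [234, 2, 18316, 16790], [235, 1, 18316, 17356, 17210], [237, 1, 18316, 16789, 16762], [240, 2, 18316, 16793, 16762], [241, 1, 18316, 16795, 15989], [242, 2, 18316, 16797, 11876],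 [157, 0, 15230, 15254, 18328], [164, 6, 15236, 15230, 17178, 17182, 15990, 15984, 18328], [225, 4, 15358, 12572, 18328, 18315], [54, 2, 18334, 15339], [157, 1, 18334, 17892, 17888], [158, 2, 18334, 15358, 15257], [209, 2, 18334, 14909, 9932, 16915], [218, 4, 18334, 15358, 12197, 17393, 18296], [8, 0, 18315, 18345, 18298], [9, 0, 18342, 18345], [11, 0, 18336, 18345], [12, 0, 18335, 18345], [13, 0, 18340, 18345], [14, 0, 18338, 18345], [4, 0, 18320, 18347], [6, 0, 18322, 18347], [9, 0, 18324, 18347], [11, 0, 18331, 18347], [12, 0, 18333, 18347], [13, 0, 18328, 18347], [14, 0, 18326, 18347], [16, 0, 18318, 18347, 18300], [16, 0, 18317, 18347], [16, 0, 18300, 18372], [243, 9, 18298, 18358, 17397, 17371, 5920, 5927, 4832, 18208, 18197, 18222, 17476, 17148, 1910, 2158, 2456, 17747, 17763, 17295, 17286, 15518, 1910, 2158, 2456, 18286, 18287, 17747, 17763, 17295, 17286, 17146, 17477, 18223, 18196], [244, 24, 18298, 18358, 17397, 17371, 5920, 5927, 4832, 18208, 18378, 18379, 18197, 18222, 17476, 17148, 1910, 2158, 2456, 18286,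 18263, 17356, 17459, 17509, 18097, 18224, 18193, 18290, 18165, 18129, 17437, 17429, 5920, 5927, 4832], [237, 1, 16922, 5599, 18380], [0, 0], [0, 0], [0, 0], [247, 18, 18193, 18283, 18097, 17521, 17476, 18274, 18263, 18375, 18299, 18297, 17396, 17365, 5921, 5805, 4833, 18376, 18299, 18297, 17396, 17211, 17459, 18248, 18165, 18130, 2456, 3099, 1910, 1911, 15519, 17287, 17296, 17907, 18150, 18153, 17437, 18199, 18197, 18195, 18193, 18283, 18097, 17515, 18384, 18386, 18388], [234, 2, 18390, 18194], [235, 1, 18390, 18225, 17515], [240, 2, 18390, 18234, 16941], [241, 1, 18390, 18227, 18391]]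
def dJ46 : List (List ℕ) := [[110, 0, 17919, 18396, 18389], [37, 1, 17416, 18384], [110, 2, 17833, 17993, 18384], [0, 0], [0, 0], [243, 11, 14261, 7330, 14396, 15098, 14450, 14454, 15140, 14616, 14585, 7346, 14727, 15870, 15865, 15884, 6567, 13895, 13902, 7271, 780, 2586, 3064, 2396, 2397, 5695, 5690, 5961, 5993, 15840, 15823, 14913, 14884, 18406, 18408], [22, 2, 18410, 6628], [69, 1, 18410, 14547, 6504], [70, 2, 18410, 14533, 7810], [78, 2, 18410, 13358, 12811], [83, 3, 18410, 6628, 16984, 16977, 12592, 12811, 17900], [185, 1, 18410, 13385, 6873, 16718], [186, 3, 18410, 14533, 14538, 14523], [218, 2, 18410, 16974, 16920, 13765], [219, 3, 18410, 6628, 16984, 16977, 15088, 14362, 15098], [235, 3, 18410, 15832, 15858, 18406], [3, 0, 18412, 18431], [4, 0, 18411, 18431], [5, 0, 18416, 18431], [6, 0, 18414, 18431], [8, 0, 18408, 18431], [9, 0, 18424, 18431], [10, 0, 18422, 18431], [11, 0, 18428, 18431], [12, 0, 18426, 18431], [13, 0, 18418, 18431], [14, 0, 18420, 18431], [242, 1, 18452, 17920, 16710], [0, 0], [0, 0], [243,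 11, 6346, 12927, 12763, 13250, 12550, 12554, 12113, 11998, 12990, 11805, 13177, 15133, 16158, 16163, 6337, 10337, 10361, 6220, 792, 3111, 3126, 3125, 3124, 5713, 5708, 5983, 6013, 16393, 16409, 13279, 9805, 18456, 18458], [22, 2, 18460, 10494], [69, 1, 18460, 11993, 8110], [70, 2, 18460, 11481, 6274], [185, 1, 18460, 11529, 11581, 11578], [186, 3, 18460, 11481, 12134, 17671], [217, 2, 18460, 17198, 17200, 18461], [235, 3, 18460, 10701, 13191, 18456], [3, 0, 18462, 18475], [4, 0, 18461, 18475], [5, 0, 18466, 18475], [6, 0, 18464, 18475], [8, 0, 18458, 18475], [9, 0, 18470, 18475], [10, 0, 18468, 18475], [11, 0, 18474, 18472, 18475], [240, 1, 18488, 12012, 6316], [0, 0], [237, 2, 15779, 16923, 18494], [238, 2, 18496, 15781, 18380], [239, 1, 18496, 15776, 16923], [240, 2, 18496, 15775, 18380], [241, 1, 18496, 15788, 12977], [242, 2, 18496, 15790, 14980], [157, 0, 17292, 17289, 18506], [158, 3, 15346, 15429, 18506], [205, 2, 16815, 16912, 18383, 18502, 18501, 16913, 16814], [0, 0], [0, 0], [0, 0], [243, 21, 18007, 18055,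 18067, 16926, 16979, 17903, 17913, 17956, 17801, 17771, 16912, 16922, 16923, 16820, 17031, 17999, 17829, 17982, 17138, 16703, 16233, 16996, 17029, 17788, 17861, 18061, 18007, 18055, 18067, 16853, 18514, 18516, 18518], [233, 2, 18520, 18060], [236, 0, 18520, 18065, 16853], [238, 0, 18520, 18127, 17511], [239, 3, 18520, 18075, 17511], [248, 3, 18520, 18007, 18055, 18067, 16926, 16979, 17903, 17913, 17487, 2955, 1875, 2134, 16924, 17031, 17999, 17829, 17980, 17882, 17895, 17095, 17050, 17029, 17788, 17861, 18522, 18519, 18517, 18515, 16934, 16979, 17903, 17913, 17956, 17801, 17771, 16912, 18500, 18499, 18382, 16820, 17031, 16844, 17918, 17919, 18000, 17832], [3, 0, 18524, 18531, 17834], [6, 0, 18526, 18531], [10, 0, 18528, 18531, 18405], [15, 0, 18521, 18531], [16, 0, 18522, 18531], [8, 0, 17918, 18532, 18514], [7, 0, 17925, 18532, 16851], [10, 0, 18400, 18532], [4, 0, 18387, 18536], [8, 0, 18403, 18536, 17412], [8, 0, 18384, 18536], [10, 0, 18405, 18536], [8, 0, 18514, 18542], [3, 0, 16848, 18544], [7, 0, 16851, 18544],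 [3, 0, 17414, 18551], [7, 0, 17417, 18551], [231, 8, 17466, 17466, 17412, 18564, 17485, 17485, 18565, 17413], [121, 2, 18565, 17413, 18566, 17412, 18564], [121, 5, 18564, 18553, 18567, 18552, 18565], [225, 0, 18564, 17485, 18565, 18570], [217, 2, 18395, 17485, 18568, 18394], [118, 0, 18388, 18574, 18389], [217, 4, 18576, 18549, 18566, 18548], [243, 9, 18165, 18129, 17437, 17426, 17396, 18359, 18299, 18381, 4833, 5926, 5921, 17370, 17396, 18359, 18299, 18379, 18197, 18222, 17476, 17147, 17287, 17294, 17762, 17746, 17747, 18288, 18263, 17356, 17459, 17410, 18552, 18394, 18389], [244, 16, 18192, 18225, 18096, 17508, 17458, 17357, 18262, 18287, 2457, 2159, 1911, 17149, 17477, 18223, 18196, 18378, 18381, 18380, 18298, 18358, 17397, 17427, 17436, 18128, 18164, 18291, 18192, 18225, 18096, 17511, 18552, 18394, 18389], [237, 3, 18582, 18292, 16853], [0, 0], [247, 6, 17094, 17894, 17883, 17981, 17828, 17998, 17030, 16925, 2135, 1874, 2954, 17486, 17912, 17902, 16978, 16927, 18066, 18054, 18006, 18060, 17860, 17789, 17028, 16997,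 16232, 16702, 17139, 17983, 17828, 17998, 17030, 16821, 16913, 17770, 17800, 17958, 2955, 1875, 2134, 2135, 16735, 17028, 17051, 17752, 18586], [46, 2, 18588, 17754], [97, 0, 18591, 18586, 18588], [109, 2, 18588, 17094, 17066], [185, 2, 18588, 17752, 17751, 17186], [209, 1, 18588, 17097, 6759, 13216], [210, 3, 18588, 17094, 17081, 15825], [240, 1, 18588, 17053, 15507], [241, 1, 10307, 4794, 18602], [242, 2, 6838, 5957, 18602], [0, 0], [241, 2, 3424, 12719, 18608], [235, 1, 18610, 3428, 18131], [236, 2, 18610, 3426, 16415], [239, 1, 18610, 5455, 18611], [242, 2, 18610, 3422, 14650], [157, 0, 14749, 14747, 18618], [158, 3, 18608, 18620, 18618], [0, 0], [237, 2, 6109, 18131, 18624], [234, 2, 18626, 17075], [235, 1, 18626, 6103, 18149], [238, 2, 18626, 16228, 16990], [239, 1, 18626, 16222, 16990], [240, 2, 18626, 6112, 18131], [241, 1, 18626, 6098, 16393], [242, 2, 18626, 6101, 15436], [158, 3, 15100, 15196, 18640], [217, 0, 12981, 15181, 14604, 18640], [0, 0], [0, 0], [0, 0], [0, 0], [0, 0], [0, 0], [0, 0], [0, 0], [0, 0],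 [0, 0], [0, 0], [0, 0], [0, 0], [0, 0], [0, 0], [0, 0], [0, 0], [0, 0], [0, 0], [0, 0], [0, 0], [0, 0], [0, 0], [0, 0], [0, 0], [0, 0], [0, 0], [0, 0], [0, 0], [0, 0], [243, 32, 18130, 18131, 18133, 18646, 18648, 18650, 18652, 18654, 18656, 18658, 18660, 18662, 18664, 18666, 18668, 18670, 18672, 18674, 18676, 18678, 18680, 18682, 18684, 18686, 18688, 18690, 18692, 18694, 18696, 18698, 18700, 18702, 18704], [38, 2, 18706, 18164], [110, 2, 18706, 18137, 16827], [117, 1, 18706, 18142, 14534], [118, 2, 18706, 18144, 8279], [201, 1, 18706, 18135, 18136, 18707], [225, 2, 18706, 18142, 14752, 8279], [226, 2, 18706, 18139, 15074, 14534], [247, 1, 18706, 18130, 16226, 16229, 16222, 16231, 16214, 16213, 17052, 17093, 17090, 17065, 17068, 16231, 16214, 16213, 16996, 16838, 17025, 17026, 16844, 16846, 18559, 18560, 16852, 16854, 18071, 18072, 16941, 16846, 18559, 18560, 16934, 16959, 17011, 17014, 16734, 5540, 5535, 5492, 16924, 16822, 16824, 16826, 16827], [236, 3, 16824, 18722, 18705], [237, 1, 18724, 16972, 18725], [241, 1, 18724,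 16947, 14338], [242, 2, 18724, 16948, 11768], [158, 3, 14288, 14276, 18730], [159, 0, 18728, 18731, 14277, 14289, 18730], [225, 3, 18216, 15438, 9419, 18730], [230, 3, 18203, 14001, 13123, 18730, 18729, 14276, 18733, 18703], [8, 0, 18703, 18738], [16, 0, 18700, 18738, 18209], [7, 0, 18698, 18743, 4843], [4, 0, 18696, 18745, 5129], [7, 0, 18694, 18747, 4844], [15, 0, 18692, 18749, 18376], [7, 0, 18690, 18751], [37, 1, 18298, 18752], [109, 1, 16815, 18363, 18752], [117, 1, 12156, 18365, 18752], [118, 2, 7821, 18367, 18752], [201, 1, 18753, 18360, 18363, 18752], [248, 44, 17065, 17064, 17091, 17092, 17050, 16838, 17025, 17026, 16929, 18073, 18070, 16855, 16926, 16959, 17011, 17014, 16734, 5540, 5535, 5492, 16924, 16822, 16824, 16826, 17071, 17064, 17091, 17092, 17050, 16838, 17025, 17026, 16844, 16846, 18559, 18560, 16934, 16959, 17011, 17014, 16800, 16807, 16788, 18375, 18752], [235, 1, 18688, 18764, 17091, 18765], [4, 0, 18688, 18766], [5, 0, 18767, 18763, 18766], [8, 0, 18755, 18766, 18687], [8, 0, 18752, 18766], [9,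 0, 18757, 18766], [11, 0, 18759, 18766], [12, 0, 18761, 18766], [16, 0, 18765, 18766], [8, 0, 18687, 18772], [15, 0, 18684, 18772, 18381], [7, 0, 18682, 18787, 4843], [4, 0, 18680, 18789, 5129], [7, 0, 18678, 18791, 4844], [16, 0, 18676, 18793, 16791], [7, 0, 18674, 18795], [37, 1, 18263, 18796]]
def dJ47 : List (List ℕ) := [[109, 1, 17014, 16792, 18796], [117, 1, 18797, 16799, 18796], [201, 1, 18797, 16789, 16792, 18796], [225, 2, 6577, 13493, 16794, 18796], [226, 2, 7740, 16796, 16798, 18796], [243, 6, 18651, 18649, 18647, 18132, 18707, 18705, 18741, 18378, 18784, 18769, 18774, 18374, 18796, 18673, 18671, 18669, 18667, 18665, 18663, 18661, 18659, 18657, 18655, 18653, 18651, 18649, 18647, 18132, 18133, 17037, 5855, 5844, 5852, 17747], [8, 0, 18650, 18811], [16, 0, 18653, 18811, 18288], [7, 0, 18655, 18815, 18799], [4, 0, 18672, 18816], [5, 0, 18817, 18805, 18816], [7, 0, 18799, 18816], [8, 0, 18796, 18816], [9, 0, 18801, 18816], [11, 0, 18817, 18803, 18816], [13, 0, 18809, 18816], [14, 0, 18807, 18816], [248, 44, 17014,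 17015, 17010, 16958, 16935, 18561, 18558, 16847, 16845, 17027, 17024, 16839, 16997, 16212, 16215, 16230, 17069, 17064, 17091, 17092, 17053, 16212, 16215, 16230, 16990, 16827, 16825, 16823, 16925, 5493, 5534, 5541, 16765, 16814, 16907, 16908, 16922, 5493, 5534, 5541, 16749, 16740, 5060, 16791, 18825], [235, 1, 18819, 18834, 17010, 18722], [4, 0, 18704, 18836], [5, 0, 18837, 18717, 18836], [8, 0, 18708, 18836, 18671], [8, 0, 18707, 18836], [9, 0, 18710, 18836], [11, 0, 18714, 18836], [12, 0, 18712, 18836], [13, 0, 18718, 18836], [14, 0, 18720, 18836], [16, 0, 18722, 18836], [8, 0, 18671, 18842], [16, 0, 18668, 18842, 18581], [8, 0, 18666, 18861], [236, 2, 18657, 18834, 17025, 18725], [3, 0, 18838, 18864], [5, 0, 18865, 18727, 18864], [7, 0, 18740, 18864], [7, 0, 18737, 18864, 18658], [11, 0, 18735, 18864], [12, 0, 18733, 18864], [13, 0, 18730, 18864], [14, 0, 18728, 18864], [16, 0, 18725, 18864], [7, 0, 18658, 18872], [15, 0, 18661, 18872, 18392], [7, 0, 18663, 18887], [37, 1, 18863, 18388, 18888], [3, 0, 18664, 18891],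 [7, 0, 18862, 18891], [109, 1, 16847, 18396, 18888], [117, 1, 18889, 18574, 18888], [225, 2, 18889, 18574, 18398, 18888], [185, 4, 18892, 18896, 18559, 18897], [202, 1, 18888, 18902, 18889, 18397], [69, 3, 18001, 18904, 18395], [237, 3, 16941, 18904, 18390], [238, 2, 16844, 18904, 18393], [70, 0, 18223, 18910, 17999], [238, 2, 18005, 18912, 17520], [109, 1, 17026, 18212, 18884], [38, 1, 18647, 17762, 18812], [3, 0, 18648, 18918], [7, 0, 18812, 18918], [110, 0, 17092, 17754, 18923], [117, 3, 8212, 17759, 18923], [118, 0, 14817, 17761, 18923], [97, 0, 18924, 17120, 18925], [248, 44, 18072, 18073, 18070, 16855, 16926, 16959, 17011, 17014, 16762, 16814, 16907, 16908, 16820, 16822, 16824, 16826, 16991, 16231, 16214, 16213, 16996, 16838, 17025, 17026, 16929, 18073, 18070, 16855, 16926, 16959, 17011, 17014, 16734, 5540, 5535, 5492, 16924, 16822, 16824, 16826, 18634, 18633, 18134, 18133, 18646], [237, 3, 18933, 18930, 18932], [0, 0], [0, 0], [0, 0], [0, 0], [0, 0], [0, 0], [247, 9, 18290, 18858, 18819, 18824, 18375, 18775, 18768,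 18785, 18381, 4843, 5129, 4844, 18376, 18775, 18768, 18785, 18379, 18871, 18866, 18844, 18133, 18646, 18921, 18922, 17746, 5853, 5845, 5854, 17036, 18646, 18921, 18922, 17746, 5853, 5845, 5854, 5855, 5858, 5583, 18936, 18938, 18940, 18942, 18944, 18946], [37, 2, 18948, 18192], [109, 3, 18948, 18237, 16854], [117, 3, 18948, 18230, 18949], [225, 0, 18948, 18232, 18949, 18954], [243, 3, 18946, 18948, 18290, 18858, 18819, 18824, 16790, 4845, 5128, 4842, 18208, 18871, 18866, 18844, 18130, 5855, 5844, 5852, 17747, 18923, 18920, 18647, 17037, 5855, 5844, 5852, 18286, 18823, 18656, 18885, 18392, 18393, 18195, 18950], [3, 0, 18946, 18958], [7, 0, 18949, 18958], [7, 0, 18950, 18958, 18945], [9, 0, 18952, 18958], [11, 0, 18959, 18954, 18958], [13, 0, 18959, 18957, 18958], [7, 0, 18945, 18964], [10, 0, 18942, 18964, 18234], [6, 0, 18940, 18975, 18909], [5, 0, 18938, 18977], [29, 1, 18909, 18978], [97, 1, 18908, 18235, 18978], [98, 2, 18981, 18982, 18978], [238, 2, 18390, 18978, 18937], [30, 2, 11000, 18986, 18905], [3, 0, 18001,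 18988, 11020], [5, 0, 18905, 18988], [8, 0, 16847, 18988, 10995], [7, 0, 18557, 18988, 10993], [10, 0, 18397, 18988], [15, 0, 16844, 18988], [16, 0, 16941, 18988], [5, 0, 18906, 18991], [8, 0, 17833, 18991, 11011], [9, 0, 17992, 18991], [15, 0, 17830, 18991], [16, 0, 18052, 18991], [10, 0, 18896, 18995], [6, 0, 18585, 18997], [10, 0, 18547, 18997], [15, 0, 16853, 18997], [16, 0, 16935, 18997], [6, 0, 18535, 19007], [9, 0, 18554, 19007], [15, 0, 18539, 19007], [16, 0, 18541, 19007], [70, 0, 5585, 18986, 18395], [97, 3, 11001, 10997, 18986], [204, 1, 19017, 10967, 5588, 18986, 18993, 10993, 10965], [204, 2, 19017, 10992, 11000, 18986, 18389, 19019, 10965], [70, 2, 5587, 19038, 18549], [188, 5, 19027, 10979, 10967, 19038, 19019, 10965, 5586], [201, 4, 5593, 19038, 18895, 18902], [239, 2, 19044, 3956, 15763], [240, 1, 19044, 5859, 16207], [109, 1, 5573, 19042, 17412], [110, 0, 5579, 19042, 18552], [111, 1, 19050, 5573, 19042, 19027, 10983], [201, 1, 17413, 19040, 19042, 17412], [239, 2, 16144, 10951, 19054], [240, 1, 10584,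 10953, 19054], [201, 1, 18973, 18908, 18235, 18972], [0, 0], [239, 2, 5632, 15245, 19064], [234, 2, 19066, 15397], [235, 1, 19066, 4785, 16076], [236, 2, 19066, 5963, 6839], [237, 1, 19066, 15385, 15239], [238, 2, 19066, 5635, 15377], [240, 2, 19066, 14645, 16571], [241, 1, 19066, 4783, 18492], [243, 8, 19066, 5629, 4676, 4810, 15353, 14906, 14962, 16025, 16074, 6825, 14436, 14206, 15396, 5630, 4786, 6032, 14945, 8005, 14920, 16026, 16074, 14500, 15046, 8017, 13472, 13473, 13471, 15324, 15317, 6832, 16111, 16079, 19070], [209, 3, 19082, 19079, 16612, 19078], [0, 0], [235, 2, 3440, 17959, 19086], [236, 2, 19088, 3438, 16923], [239, 1, 19088, 5458, 19089], [241, 1, 19088, 3436, 17685], [242, 2, 19088, 3434, 15245], [157, 0, 19097, 16614, 19096], [225, 3, 19099, 19097, 15018, 19096], [0, 0], [237, 2, 16494, 17959, 19102], [234, 2, 19104, 17535], [235, 1, 19104, 16499, 18497], [238, 2, 19104, 16493, 17370], [239, 1, 19104, 16503, 17370], [240, 2, 19104, 16501, 17959], [241, 1, 19104, 16505, 13201], [242, 2, 19104, 16507,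 15247], [157, 0, 16010, 14995, 19118], [164, 6, 16000, 16010, 17108, 17116, 14876, 14990, 19118], [0, 0], [0, 0], [0, 0], [0, 0], [0, 0], [0, 0], [0, 0], [0, 0], [0, 0], [0, 0], [0, 0], [0, 0], [0, 0], [0, 0], [0, 0], [0, 0], [0, 0], [0, 0], [0, 0], [0, 0], [0, 0], [0, 0], [0, 0], [0, 0], [0, 0], [0, 0], [0, 0], [0, 0], [0, 0], [0, 0], [243, 32, 17958, 17959, 17957, 19124, 19126, 19128, 19130, 19132, 19134, 19136, 19138, 19140, 19142, 19144, 19146, 19148, 19150, 19152, 19154, 19156, 19158, 19160, 19162, 19164, 19166, 19168, 19170, 19172, 19174, 19176, 19178, 19180, 19182], [38, 2, 19184, 17801], [110, 2, 19184, 17962, 17391], [117, 1, 19184, 17971, 12082], [118, 2, 19184, 17969, 10137], [201, 1, 19184, 17960, 17963, 19185], [225, 2, 19184, 17971, 17965, 19185], [247, 1, 19184, 17958, 5807, 16492, 16503, 5949, 5940, 5950, 17362, 17209, 17207, 17205, 17148, 5538, 5531, 5488, 17302, 17260, 17277, 17278, 15518, 5538, 5531, 5488, 16415, 17404, 17455, 17456, 17410, 17412, 18563, 18564, 17514, 17502, 18101, 18102, 17511, 17412,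 18563, 18564, 17514, 17502, 18101, 18102, 18103]]
def dJ48 : List (List ℕ) := [[235, 1, 19182, 19199, 18100, 19198], [4, 0, 19182, 19200], [5, 0, 19201, 19195, 19200], [8, 0, 19186, 19200, 19181], [8, 0, 19185, 19200], [9, 0, 19188, 19200], [11, 0, 19192, 19200], [12, 0, 19190, 19200], [13, 0, 19201, 19196, 19200], [16, 0, 19198, 19200], [8, 0, 19181, 19206], [16, 0, 19178, 19206, 17768], [7, 0, 19176, 19223, 5429], [4, 0, 19174, 19225, 5425], [7, 0, 19172, 19227, 5430], [15, 0, 19170, 19229, 17486], [8, 0, 19168, 19231, 19124], [3, 0, 19166, 19233, 19126], [8, 0, 19164, 19235, 19128], [16, 0, 19162, 19237], [237, 3, 19219, 19204, 19218], [234, 1, 19131, 19238], [245, 41, 19131, 19129, 19127, 19125, 17956, 19209, 19202, 19221, 17768, 5429, 5425, 5430, 17959, 19209, 19202, 19221, 17768, 5429, 5425, 5430, 17486, 19124, 19126, 19128, 19238, 19161, 19159, 19157, 19156, 19158, 19160, 19242, 19132, 19134, 19136, 19137, 19135, 19133, 19243, 19161, 19159, 19157, 19155, 19153, 19151, 19149], [16, 0, 19146, 19244, 19243], [15,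 0, 19238, 19246], [37, 1, 17913, 19124], [109, 1, 17444, 17537, 19124], [117, 1, 17912, 17904, 19124], [118, 2, 19251, 19254, 19124], [201, 1, 19125, 17531, 17537, 19124], [225, 2, 6388, 13322, 17545, 19124], [230, 3, 15096, 6388, 18451, 18452, 19257, 19254, 19124], [248, 44, 17444, 17445, 17471, 17472, 17520, 17502, 18101, 18102, 17508, 17457, 17454, 17405, 17297, 17260, 17277, 17278, 15518, 5538, 5531, 5488, 17302, 17260, 17277, 17278, 17146, 17204, 17206, 17208, 17210, 17212, 17389, 17390, 17371, 5949, 5940, 5950, 17364, 17212, 17389, 17390, 19112, 19111, 17961, 17957, 19124], [235, 0, 19127, 19264, 17471], [237, 1, 19267, 17343, 19266], [241, 1, 6870, 17335, 19266], [242, 2, 11777, 17333, 19266], [247, 2, 17980, 17171, 17192, 17187, 17279, 17276, 17261, 17303, 5489, 5530, 5539, 15519, 17279, 17276, 17261, 17296, 17404, 17455, 17456, 17509, 18103, 18100, 17503, 17515, 18565, 18562, 17413, 17510, 18103, 18100, 17503, 17521, 17473, 17470, 17444, 17426, 17391, 17388, 17213, 17211, 17209, 17207, 17205, 17204, 19266], [38,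 2, 19129, 19274, 17828], [8, 0, 19128, 19277], [16, 0, 19131, 19277, 18004], [15, 0, 19248, 19277, 19011], [8, 0, 19133, 19281], [7, 0, 19144, 19283, 11013], [4, 0, 19142, 19287, 10947], [7, 0, 19140, 19289, 10982], [16, 0, 19138, 19291, 19028], [7, 0, 19136, 19293], [110, 2, 19274, 17987, 17204], [117, 1, 19274, 17976, 13137], [118, 2, 19274, 17978, 10148], [37, 1, 19285, 18006, 19294], [4, 0, 19134, 19302], [8, 0, 19294, 19302], [109, 1, 18102, 18074, 19307], [117, 1, 18007, 18085, 19307], [118, 2, 19284, 19310, 19307], [201, 1, 19306, 18127, 18074, 19307], [225, 2, 18072, 18080, 18076, 19307], [248, 44, 17278, 17279, 17276, 17261, 17303, 5489, 5530, 5539, 15519, 17279, 17276, 17261, 17303, 5489, 5530, 5539, 17149, 17204, 17206, 17208, 17363, 5951, 5941, 5948, 17370, 17391, 17388, 17213, 17365, 5951, 5941, 5948, 17428, 17445, 17471, 17472, 17419, 18565, 18562, 17413, 19043, 19041, 19025, 19028, 19307], [0, 0], [0, 0], [0, 0], [0, 0], [0, 0], [0, 0], [0, 0], [0, 0], [0, 0], [0, 0], [245, 14, 18061, 19307, 19304, 19285,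 18005, 19278, 19127, 19125, 19124, 19126, 19279, 19011, 11013, 10947, 10982, 10983, 10946, 11012, 19010, 19278, 19127, 19125, 17487, 5431, 5424, 5428, 17769, 19220, 19203, 19208, 17958, 5431, 5424, 5428, 17764, 19320, 19322, 19324, 19326, 19328, 19330, 19332, 19334, 19336, 19338], [38, 0, 19340, 17860, 19320], [4, 0, 19338, 19343], [8, 0, 19341, 19343], [110, 2, 19346, 17863, 17457], [117, 1, 19346, 17865, 15168], [118, 2, 19346, 17867, 12967], [201, 1, 19346, 18124, 17862, 19347], [225, 2, 19346, 17865, 15082, 6494], [226, 2, 19346, 17869, 16895, 7047], [248, 5, 19345, 19346, 19031, 10983, 10946, 11012, 19010, 19278, 19127, 19125, 17956, 19209, 19202, 19221, 17767, 19320, 19322, 19324, 19326, 19328, 19330, 19332, 19334, 19336, 19345, 19346, 18061, 19307, 19304, 19285, 18005, 19278, 19127, 19125, 17536, 17530, 17541, 17534, 16513, 16155, 17141, 17140, 10590, 16700, 17921, 19251], [3, 0, 19344, 19361], [8, 0, 19336, 19361, 19250], [15, 0, 19334, 19365, 17920], [7, 0, 19332, 19367, 16701], [4, 0, 19330, 19369, 10591], [7,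 0, 19328, 19371, 17141], [15, 0, 19326, 19373, 17983], [8, 0, 19324, 19375, 19275], [4, 0, 19322, 19377], [236, 3, 17207, 19266, 19378], [0, 0], [0, 0], [0, 0], [0, 0], [0, 0], [0, 0], [0, 0], [0, 0], [0, 0], [0, 0], [247, 13, 17981, 19275, 19378, 19321, 17765, 5429, 5425, 5430, 17486, 19124, 19126, 19279, 18004, 19284, 19305, 19306, 18060, 19347, 19363, 19250, 17920, 16701, 10591, 17141, 17983, 19275, 19378, 19321, 17765, 5429, 5425, 5430, 5431, 3949, 5573, 19382, 19384, 19386, 19388, 19390, 19392, 19394, 19396, 19398, 19400], [38, 2, 19402, 17882], [110, 2, 19402, 17177, 17279], [117, 1, 19402, 17185, 15901], [118, 2, 19402, 17182, 8159], [201, 1, 19402, 17171, 17176, 19403], [225, 2, 19402, 17185, 18371, 18775], [243, 23, 19400, 19402, 17981, 19275, 19378, 19321, 17765, 5429, 5425, 5430, 17486, 17487, 17959, 19209, 19202, 19221, 17768, 5429, 5425, 5430, 17486, 19124, 19126, 19279, 19011, 11013, 10947, 10982, 19030, 19347, 19363, 19250, 17846, 19404], [4, 0, 19400, 19416], [5, 0, 19417, 19413, 19416], [8, 0, 19404,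 19416, 19399], [8, 0, 19403, 19416], [9, 0, 19406, 19416], [11, 0, 19410, 19416], [12, 0, 19408, 19416], [13, 0, 19414, 19416], [8, 0, 19399, 19422], [15, 0, 19396, 19422, 17847], [7, 0, 19394, 19437, 19251], [4, 0, 19392, 19439, 19362], [7, 0, 19390, 19441, 19346], [10, 0, 19388, 19443, 17863], [6, 0, 19386, 19445, 18125], [5, 0, 19384, 19447], [29, 1, 18125, 19448], [97, 1, 18124, 17862, 19448], [98, 2, 19451, 19452, 19448], [201, 2, 18106, 17799, 17861, 19448], [117, 1, 19456, 18123, 15165], [118, 2, 19456, 18120, 9804], [241, 0, 19432, 18782, 17384], [0, 0], [247, 5, 18236, 18192, 18225, 18096, 17508, 17458, 17357, 18262, 18287, 2457, 2159, 1911, 17149, 17477, 18223, 18196, 18378, 18298, 18358, 17397, 17427, 17436, 18128, 18164, 18581, 18388, 18395, 18553, 17411, 17458, 17357, 18262, 18289, 17763, 17295, 17286, 15518, 1910, 2158, 2456, 2457, 18131, 18164, 18291, 19464], [97, 1, 19466, 18236, 18292], [98, 2, 19466, 19468, 19465], [201, 2, 19466, 18236, 18192, 18978], [238, 1, 19466, 19021, 10967], [209, 3, 19472, 19471,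 18230, 19470], [0, 0], [233, 2, 18611, 19478], [235, 3, 19480, 3426, 17302], [236, 0, 19480, 3428, 17036], [239, 3, 19480, 5454, 19481], [241, 3, 19480, 3422, 14849], [242, 0, 19480, 3424, 12712], [225, 1, 19491, 6662, 12471, 19490], [0, 0], [237, 2, 6177, 18611, 19494], [235, 1, 19496, 6174, 18627], [236, 2, 19496, 6172, 18149], [239, 1, 19496, 6170, 19497], [241, 1, 19496, 6168, 12846], [242, 2, 19496, 6166, 13473], [157, 0, 13787, 15181, 19506], [53, 2, 19508, 15188], [0, 0], [0, 0], [0, 0], [0, 0], [0, 0], [0, 0], [0, 0], [0, 0], [0, 0], [0, 0], [0, 0], [0, 0], [0, 0], [0, 0], [0, 0], [0, 0], [0, 0], [0, 0], [0, 0], [0, 0], [0, 0], [0, 0], [0, 0], [0, 0], [0, 0], [0, 0], [0, 0], [243, 32, 18610, 18611, 19478, 19492, 19485, 18646, 19512, 19514, 19516, 19518, 19520, 19522, 19524, 19526, 19528, 19530, 19532, 19534, 19536, 19538, 19540, 19542, 19544, 19546, 19548, 19550, 19552, 19554, 19556, 19558, 19560, 19562, 19564], [109, 1, 19566, 18617, 19567], [117, 1, 19566, 18622, 12481], [118, 2, 19566, 18620, 14585], [225,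 2, 19566, 18622, 18608, 19567], [217, 3, 19574, 19573, 14611, 17479], [22, 2, 18222, 19576, 19565], [3, 0, 19565, 19578], [8, 0, 19562, 19578, 18884], [15, 0, 19560, 19583], [233, 1, 18883, 19584], [237, 1, 19585, 18869, 19584], [239, 1, 18882, 18917, 19584], [240, 2, 19587, 19590, 19584], [241, 1, 13141, 18879, 19584], [242, 2, 14471, 18881, 19584], [247, 3, 18986, 18993, 18998, 18888, 18893, 18894, 18582, 18963, 18960, 18973, 18391, 18888, 18893, 18894, 18580, 18858, 18819, 18824, 16790, 4845, 5128, 4842, 18380, 18784, 18769, 18774, 18377, 4845, 5128, 4842, 18208, 18871, 18866, 18844, 18130, 5855, 5844, 5852, 18286, 18823, 18656, 18885, 18884, 19584, 19559]]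
def dJ49 : List (List ℕ) := [[234, 2, 19598, 18936], [236, 1, 19556, 19598, 5580], [237, 1, 19598, 18986, 18393], [238, 2, 19598, 11001, 19000], [239, 1, 19598, 10996, 19000], [240, 2, 19598, 19035, 18393], [242, 2, 19598, 4041, 19602], [194, 2, 19612, 19605, 19580, 19575], [97, 1, 19615, 19569, 19614], [201, 3, 19495, 18617, 19567, 19614, 19555], [7, 0, 19555, 19618], [15, 0, 19552, 19618, 19496], [8, 0, 19550, 19623, 6165], [3, 0, 19548, 19625, 6174], [8, 0, 19546, 19627, 6111], [15, 0, 19544, 19629, 4934], [7, 0, 19542, 19631, 4844], [4, 0, 19540, 19633, 5893], [7, 0, 19538, 19635, 5886], [15, 0, 19536, 19637], [235, 1, 17363, 5915, 19638], [236, 2, 16790, 5893, 19638], [238, 2, 16776, 5894, 19638], [239, 1, 19639, 5890, 19638], [241, 1, 12706, 5897, 19638], [242, 2, 14648, 5889, 19638], [157, 2, 19650, 14744, 14654], [158, 1, 19650, 19652, 19648], [225, 1, 19650, 7344, 19572, 19575], [226, 3, 19534, 19650, 14744, 12702, 18608], [3, 0, 19532, 19659, 18613], [8, 0, 19535, 19659], [8, 0, 19530, 19661, 18845], [15, 0,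 19528, 19665], [233, 1, 18857, 19666], [236, 2, 19585, 18866, 19666], [237, 1, 19667, 18841, 19666], [239, 1, 18856, 18847, 19666], [240, 2, 19669, 19674, 19666], [241, 1, 13139, 18853, 19666], [242, 2, 14477, 18855, 19666], [247, 3, 18626, 6109, 16226, 16224, 5855, 5844, 5852, 17747, 18923, 18920, 18647, 17037, 5855, 5844, 5852, 18286, 18823, 18656, 18885, 18392, 18888, 18893, 18894, 18582, 18963, 18960, 18973, 18391, 18888, 18893, 18894, 18580, 18858, 18819, 18824, 16790, 4845, 5128, 4842, 18208, 18871, 18866, 18844, 18845, 19666, 19527], [4, 0, 19524, 19682, 19498], [7, 0, 19527, 19682], [8, 0, 19522, 19685], [38, 1, 19621, 19688], [109, 3, 19689, 19502, 19688], [117, 3, 11272, 19510, 19688], [118, 0, 6809, 19509, 19688], [121, 5, 13158, 11272, 19510, 19688, 19690], [122, 0, 14123, 6809, 19509, 19688, 19690], [201, 3, 19647, 19663, 19494, 19688], [226, 4, 14504, 13129, 19504, 19688], [228, 0, 13345, 13116, 13129, 19504, 19688, 19690, 19612], [53, 2, 19706, 13345], [118, 2, 19559, 19706, 14501], [120, 4, 13117, 19708,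 19706, 14501, 19710], [230, 4, 13073, 15118, 15111, 19708, 19706, 14501, 19705], [77, 0, 19714, 12747, 16812], [78, 3, 19714, 12663, 18116], [222, 4, 19670, 19712, 14505, 19705, 19714, 12663, 14619], [241, 0, 19714, 6286, 11104], [242, 2, 19520, 19714, 6403], [62, 1, 16037, 19724], [158, 3, 17167, 15281, 19724], [225, 3, 19518, 19728, 17167, 6400, 19724], [7, 0, 19518, 19730], [12, 0, 19729, 19730], [13, 0, 19724, 19730], [14, 0, 19727, 19730], [16, 0, 19521, 19730], [241, 0, 11105, 6404, 19737], [77, 3, 19516, 19736, 12187], [79, 5, 16039, 19739, 19736, 12187, 19744], [194, 4, 19516, 19736, 7064, 16766], [30, 1, 18360, 19748], [97, 3, 18361, 18362, 19748], [98, 0, 19751, 19752, 19748], [185, 1, 19517, 19752, 19748, 19516], [202, 4, 18503, 18382, 16913, 19748], [207, 1, 18499, 18382, 16909, 16815, 19748, 19750, 19755, 19515], [208, 0, 18770, 18770, 18785, 18298, 18360, 19748, 19758, 19761], [237, 0, 16740, 16765, 19748], [238, 3, 16807, 16762, 19748], [45, 2, 19762, 18776], [97, 0, 19762, 18771, 19763], [185, 0, 19762,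 18768, 19763, 19771], [210, 1, 19762, 18780, 7827, 14907], [211, 5, 19758, 19761, 19762, 18778, 15261, 7827, 15340], [54, 1, 15340, 19776], [117, 1, 12104, 19776, 19515], [157, 3, 19780, 11533, 17281], [241, 0, 19317, 19318, 19782], [240, 3, 19768, 19784, 18967], [237, 1, 16776, 11100, 19722], [53, 1, 14619, 19720], [0, 0], [0, 0], [0, 0], [0, 0], [0, 0], [245, 15, 10939, 10998, 10995, 6116, 6110, 6175, 6164, 6165, 6174, 6111, 4934, 4844, 5893, 5886, 5887, 5892, 4845, 4935, 6110, 6175, 6164, 19497, 19620, 19556, 19558, 19585, 18885, 19580, 19566, 18610, 5453, 3428, 5855, 5858, 5583, 5580, 5555, 19602, 19691, 19717, 19792, 19794, 19796, 19798, 19800], [235, 1, 19802, 10998, 19000], [236, 2, 19802, 11018, 19010], [237, 1, 19802, 11003, 19602], [239, 1, 19802, 10940, 19803], [241, 1, 19802, 11014, 19010], [242, 2, 19802, 10986, 19000], [157, 0, 15221, 17035, 19814], [158, 3, 10578, 17033, 19814], [117, 2, 19800, 19818, 13019, 16785], [3, 0, 19798, 19821, 16775], [8, 0, 19801, 19821], [8, 0, 19796, 19823, 17015], [16, 0,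 19794, 19827], [234, 1, 18834, 19828], [235, 3, 19668, 17011, 19828], [236, 0, 19586, 17024, 19828], [237, 3, 19829, 17012, 19828], [239, 3, 18835, 18826, 19828], [240, 0, 19831, 19838, 19828], [241, 3, 14415, 17023, 19828], [242, 0, 16453, 17021, 19828], [158, 3, 19844, 16473, 16812], [202, 1, 19656, 19644, 19824, 19810], [0, 0], [247, 15, 19805, 17027, 19587, 19559, 19557, 19621, 19496, 6165, 6174, 6111, 6117, 10994, 10999, 10938, 19803, 19825, 16775, 17015, 19828, 19793, 19716, 19690, 19603, 5554, 5581, 5582, 5859, 5854, 3429, 5452, 5453, 18611, 19662, 19639, 5895, 11100, 11103, 11107, 16745, 16756, 16218, 16230, 16380, 16386, 19850], [37, 2, 19852, 19825], [109, 3, 19852, 19810, 19853], [117, 3, 19852, 19816, 14396], [118, 0, 19852, 19818, 13046], [201, 3, 19856, 19852, 19848, 19566], [202, 1, 19852, 19809, 19621, 19502], [225, 0, 19852, 19813, 19278, 19299], [245, 39, 16827, 19669, 19687, 19498, 19688, 19723, 11107, 16745, 16756, 16218, 16230, 16380, 16386, 19850, 19852, 19805, 17027, 18883, 18885, 19580, 19566,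 18610, 5453, 3428, 5855, 5856, 5541, 4503, 5362, 5363, 4502, 5540, 3957, 5583, 5580, 5555, 5554, 5581, 5582, 3956, 5541, 4503, 5362, 16777, 19854], [22, 2, 19868, 17903], [78, 2, 19868, 16985, 6629], [0, 0], [233, 2, 19089, 19874], [235, 3, 19876, 3438, 16924], [236, 0, 19876, 3440, 17486], [239, 3, 19876, 5459, 19877], [241, 3, 19876, 3434, 14105], [242, 0, 19876, 3436, 12969], [157, 2, 19356, 19353, 19886], [158, 1, 13480, 15198, 19886], [0, 0], [237, 2, 16478, 19089, 19892], [235, 1, 19894, 16496, 19105], [236, 2, 19894, 16483, 18497], [239, 1, 19894, 16485, 19895], [241, 1, 19894, 16477, 11511], [242, 2, 19894, 16487, 15666], [157, 0, 19489, 15659, 19904], [117, 0, 19906, 19493, 19907], [0, 0], [0, 0], [0, 0], [0, 0], [0, 0], [0, 0], [0, 0], [0, 0], [0, 0], [0, 0], [0, 0], [0, 0], [0, 0], [0, 0], [0, 0], [0, 0], [0, 0], [0, 0], [0, 0], [0, 0], [0, 0], [0, 0], [0, 0], [0, 0], [0, 0], [0, 0], [0, 0], [243, 29, 19208, 19086, 19100, 19088, 19089, 19874, 19910, 19912, 19914, 19916, 19918, 19920, 19922, 19924, 19926, 19928,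 19930, 19932, 19934, 19936, 19938, 19940, 19942, 19944, 19946, 19948, 19950, 19952, 19954, 19956, 19958, 19960, 19962], [234, 2, 19964, 19218], [235, 1, 19964, 19202, 19965], [237, 1, 19964, 19205, 19965], [240, 2, 19964, 19210, 19462], [241, 1, 19964, 19217, 19965], [247, 17, 19930, 19932, 19934, 19936, 19938, 19940, 19942, 19944, 19946, 19948, 19950, 19952, 19954, 19956, 19958, 19960, 19962, 19964, 19208, 19086, 19100, 19088, 5457, 3440, 5431, 3930, 5539, 4515, 5366, 5367, 17161, 17169, 17160, 5880, 15466, 15469, 15471, 17129, 17140, 16154, 16512, 16497, 16488, 19895, 19908, 19897], [4, 0, 19928, 19977, 19896], [7, 0, 19931, 19977], [7, 0, 19926, 19979, 19909], [15, 0, 19924, 19983], [248, 43, 19962, 19964, 19208, 19209, 19202, 19221, 17768, 5429, 5425, 5430, 17959, 19209, 19202, 19221, 17768, 5429, 5425, 5430, 17486, 19124, 19126, 19279, 19011, 11013, 10947, 10982, 19028, 19307, 19304, 19285, 19013, 11013, 10947, 10982, 19030, 19347, 19363, 19250, 17920, 16701, 10591, 17141, 17130, 17122, 17124, 17189], [3, 0, 19960,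 19987], [7, 0, 19963, 19987], [110, 2, 17278, 17186, 19990], [117, 1, 6347, 17201, 19990], [118, 2, 16079, 17203, 19990], [21, 1, 18597, 19988]]
def dJ50 : List (List ℕ) := [[69, 1, 17159, 17192, 19988], [77, 1, 18478, 17198, 19988], [78, 2, 19071, 17196, 19988], [185, 1, 19989, 17187, 17192, 19988], [217, 2, 19989, 17197, 17203, 19988], [235, 2, 5878, 17189, 19988], [118, 0, 19958, 20008, 19959], [209, 0, 20006, 20009, 20007, 20008, 19959], [3, 0, 19999, 20015], [4, 0, 19988, 20015], [5, 0, 20001, 20015], [8, 0, 19958, 20015], [9, 0, 20014, 20007, 20015], [13, 0, 20003, 20015], [14, 0, 20005, 20015], [15, 0, 20011, 20015, 19957], [8, 0, 19954, 20030, 5869], [15, 0, 19957, 20030], [3, 0, 19952, 20033, 5878], [8, 0, 19950, 20037, 4853], [15, 0, 19948, 20039, 10953], [7, 0, 19946, 20041, 10982], [4, 0, 19944, 20043, 10981], [7, 0, 19942, 20045, 10930], [15, 0, 19940, 20047], [235, 1, 19021, 10961, 20048], [236, 2, 19029, 10981, 20048], [239, 1, 20049, 10932, 20048], [241, 1, 19021, 10957, 20048], [242, 2, 19029, 10975,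 20048], [245, 41, 19318, 17278, 17158, 17169, 17160, 5367, 4514, 5538, 3931, 5430, 3441, 5456, 19089, 19101, 19087, 19209, 19965, 19991, 20019, 20022, 20035, 5869, 5878, 4853, 10953, 10982, 10981, 10930, 10931, 10980, 10983, 10950, 5948, 6157, 6146, 6147, 6156, 5949, 10951, 10982, 10981, 10930, 20048, 19939, 19937, 19935], [7, 0, 19935, 20060, 19306], [15, 0, 19932, 20060], [4, 0, 19937, 20063, 20053], [3, 0, 20051, 20066], [4, 0, 20053, 20066], [7, 0, 19938, 20066], [9, 0, 20067, 20055, 20066], [13, 0, 20057, 20066], [14, 0, 20059, 20066], [16, 0, 20048, 20066], [233, 1, 19319, 20064], [235, 1, 20065, 19304, 20064], [237, 1, 20065, 19315, 20064], [239, 1, 19218, 19309, 20064], [242, 2, 18932, 19317, 20064], [157, 2, 20090, 18928, 14938], [158, 1, 20090, 18926, 11408], [209, 2, 17380, 6642, 12198, 20094], [233, 1, 19895, 19984], [236, 2, 19106, 19896, 19984], [238, 2, 19875, 19892, 19984], [239, 1, 19985, 19901, 19984], [241, 1, 15668, 19904, 19984], [242, 2, 11509, 19902, 19984], [157, 2, 20108, 15224, 15100], [158,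 1, 20108, 18645, 18641], [226, 2, 19922, 20108, 15224, 14206], [61, 1, 15054, 20114], [77, 3, 14109, 20114, 19921], [79, 4, 20118, 14109, 20114, 20116, 13190], [157, 2, 14615, 14619, 20114], [158, 1, 19679, 19721, 20114], [241, 2, 20028, 19069, 20114], [242, 1, 5872, 15397, 20114], [236, 3, 19920, 20128, 5878], [239, 3, 20128, 5875, 20129], [234, 1, 17188, 20130], [237, 3, 17982, 17124, 20130], [238, 0, 17148, 5608, 20130], [239, 3, 17148, 5605, 20130], [240, 0, 17982, 17132, 20130], [110, 2, 19918, 20142, 19275], [112, 4, 17205, 20141, 20142, 19275, 20144], [202, 3, 19918, 20142, 20137, 19919], [209, 3, 19918, 20142, 17978, 10161], [210, 1, 20142, 17976, 8135, 13072], [53, 1, 15179, 20152], [118, 2, 12984, 20152, 19919], [226, 2, 6824, 14506, 20152, 19919], [61, 2, 20158, 15105], [241, 0, 19916, 20158, 6823, 19271], [7, 0, 19914, 20163, 19274], [15, 0, 19917, 20163], [3, 0, 19912, 20165], [242, 3, 20158, 6869, 17335], [21, 1, 17954, 20168], [69, 1, 19921, 20136, 20168], [77, 1, 12042, 17973, 20168], [78, 2, 13644, 17975,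 20168], [185, 1, 20169, 20143, 20136, 20168], [217, 2, 6818, 14336, 17977, 20168], [218, 2, 6749, 13340, 17975, 20168], [236, 1, 17129, 17983, 20168], [0, 0], [0, 0], [0, 0], [0, 0], [0, 0], [0, 0], [0, 0], [0, 0], [245, 15, 6147, 6156, 5949, 5944, 4852, 5879, 5868, 5869, 5878, 4853, 10953, 10982, 10981, 10930, 10931, 10980, 10983, 10952, 4852, 5879, 5868, 20034, 20023, 20018, 19990, 19964, 19208, 19086, 19100, 19088, 5457, 3440, 5431, 3949, 5573, 5570, 5559, 20188, 20190, 20192, 20194, 20196, 20198, 20200, 20202], [235, 1, 20204, 6156, 17370], [236, 2, 20204, 6154, 18380], [237, 1, 20204, 16480, 19895], [238, 2, 20204, 6159, 19089], [239, 1, 20204, 6152, 20205], [241, 1, 20204, 6150, 10334], [242, 2, 20204, 6148, 14985], [225, 2, 20217, 13168, 15278, 20216, 20203], [3, 0, 20208, 20221], [3, 0, 20206, 20221, 20201], [5, 0, 20212, 20221], [6, 0, 20210, 20221], [7, 0, 20202, 20221], [9, 0, 20220, 20215, 20221], [13, 0, 20218, 20221], [14, 0, 20216, 20221], [16, 0, 20205, 20221], [3, 0, 20201, 20224], [8, 0, 20198, 20224,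 17391], [16, 0, 20196, 20243], [234, 1, 19463, 20244], [235, 3, 20245, 17389, 20244], [237, 3, 20245, 17402, 20244], [239, 3, 19219, 19210, 20244], [240, 0, 20064, 20096, 20244], [109, 3, 20194, 20254, 19306], [111, 5, 18103, 20253, 20254, 19306, 20256], [97, 2, 20258, 18126, 18075], [98, 1, 20258, 20260, 20257], [185, 1, 20192, 20258, 20260, 20193], [186, 2, 20258, 18282, 18292, 19468], [189, 3, 20192, 20258, 20260, 20263, 20071, 20068, 19468], [192, 0, 20264, 20264, 20269, 20266, 20258, 18074, 18065, 20069], [210, 3, 20258, 18103, 18088, 20253], [239, 2, 20258, 17508, 19455], [240, 1, 20258, 17511, 19043], [235, 2, 20189, 5571, 20276, 20193], [3, 0, 20268, 20278], [4, 0, 20193, 20278], [6, 0, 20270, 20278], [8, 0, 20190, 20278], [9, 0, 20279, 20265, 20278], [241, 1, 19475, 4055, 20276], [242, 2, 20189, 4046, 20276], [62, 1, 20291, 20292], [0, 0], [0, 0], [0, 0], [0, 0], [247, 16, 18103, 19966, 19991, 20019, 20022, 20035, 5869, 5878, 4853, 5945, 5948, 6157, 6146, 20239, 20230, 20241, 17391, 20244, 20195, 20283, 20286,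 20189, 5558, 5571, 5572, 3948, 5430, 3441, 5456, 5457, 19089, 19100, 19088, 6158, 16480, 16485, 16489, 16496, 16513, 19059, 17413, 20296, 20298, 20300, 20302], [22, 2, 20304, 18282], [69, 1, 20304, 20260, 20283], [70, 2, 20304, 18126, 20071], [77, 1, 20304, 17512, 20305], [185, 1, 20304, 18074, 18127, 20305], [217, 2, 20304, 17512, 18095, 20305], [236, 1, 20304, 17511, 20296], [235, 3, 20318, 20307, 18583], [237, 3, 20318, 20311, 20080], [238, 0, 20318, 20309, 20189], [239, 3, 20318, 20314, 20319], [241, 3, 20318, 20312, 20319], [217, 0, 20321, 18577, 20320, 20328], [209, 0, 20327, 20330, 20326, 20331, 20298], [7, 0, 20298, 20332], [16, 0, 20301, 20332, 20318], [3, 0, 20306, 20336], [4, 0, 20305, 20336], [5, 0, 20310, 20336], [6, 0, 20308, 20336], [8, 0, 20302, 20336], [9, 0, 20337, 20315, 20336], [11, 0, 20337, 20316, 20336], [13, 0, 20337, 20313, 20336], [16, 0, 20318, 20336], [0, 0], [243, 9, 19250, 19870, 19852, 19802, 10938, 11018, 11013, 10950, 5950, 5915, 5887, 19638, 19657, 19577, 17473, 19266, 19279, 19806, 19825,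 16776, 5362, 4500, 5429, 3930, 3931, 3949, 5577, 5574, 5554, 19602, 19621, 19501, 20356], [234, 2, 20358, 19264], [235, 1, 20358, 19126, 20166], [237, 1, 20358, 19259, 20359], [240, 2, 20358, 19252, 19265], [241, 1, 20358, 19260, 16282], [242, 2, 20358, 19262, 14452], [248, 43, 20358, 19125, 19124, 19126, 19279, 18004, 19284, 19305, 19306, 18060, 19347, 19363, 19250, 17846, 19434, 19419, 19424, 17172, 17140, 10590, 16700, 17898, 19434, 19419, 19424, 17981, 19275, 19378, 19321, 17766, 19220, 19203, 19208, 17958, 5431, 5424, 5428, 17769, 19220, 19203, 19208, 17962, 17961, 19102, 19107], [240, 2, 20360, 20367, 20359], [209, 1, 20374, 17450, 17444, 17526], [210, 3, 20374, 17405, 16418, 18152], [0, 0], [0, 0], [0, 0], [0, 0], [0, 0], [0, 0], [0, 0], [0, 0], [245, 19, 19657, 19577, 17473, 17472, 19576, 19656, 19639, 5886, 5914, 5951, 5950, 5915, 5887, 19638, 19657, 19577, 17473, 19266, 19279, 19806, 19825, 16776, 5362, 4500, 5429, 3930, 5488, 3427, 5453, 18611, 19662, 19640, 17209, 19381, 19321, 17791, 19854, 20380, 20382,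 20384, 20386, 20388, 20390, 20392, 20394], [234, 2, 20396, 19639]]
def dJ51 : List (List ℕ) := [[235, 1, 20396, 19642, 18375], [236, 2, 20396, 19640, 17210], [238, 2, 20396, 19703, 19741], [239, 1, 20396, 19647, 20397], [241, 1, 20396, 19650, 14572], [242, 2, 20396, 19648, 11875], [225, 1, 20394, 20409, 14669, 14658, 20408], [4, 0, 20402, 20412, 20393], [4, 0, 20400, 20412], [5, 0, 20404, 20412], [8, 0, 20394, 20412], [9, 0, 20413, 20407, 20412], [13, 0, 20410, 20412], [14, 0, 20408, 20412], [15, 0, 20398, 20412], [16, 0, 20397, 20412], [4, 0, 20393, 20414], [7, 0, 20390, 20414, 17212], [16, 0, 20388, 20435, 19462], [8, 0, 20386, 20437, 19435], [4, 0, 20384, 20439], [22, 1, 17894, 20440], [70, 0, 19483, 17896, 20440], [77, 3, 12208, 17891, 20440], [78, 0, 15858, 17892, 20440], [235, 0, 16704, 17898, 20440], [236, 3, 20381, 19871, 17846, 20440], [3, 0, 20440, 20452], [4, 0, 20443, 20452], [5, 0, 20445, 20452], [7, 0, 20382, 20452], [13, 0, 20449, 20452], [14, 0, 20447, 20452], [15, 0, 20451, 20452], [239, 3, 20466, 16382,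 20467], [157, 2, 20464, 15277, 20237], [0, 0], [0, 0], [0, 0], [0, 0], [0, 0], [0, 0], [0, 0], [0, 0], [247, 18, 19824, 19807, 19278, 19267, 17472, 19576, 19656, 20431, 20420, 20433, 17212, 19462, 19435, 20455, 20460, 20381, 19855, 17790, 19320, 19380, 17208, 19641, 19663, 18610, 5452, 3426, 5489, 5488, 16415, 17404, 20360, 20365, 20365, 20374, 17405, 18614, 19567, 20472, 20474, 20476, 20478, 20480, 20482, 20484, 20486], [234, 2, 20488, 16776], [235, 1, 20488, 16775, 16762], [236, 2, 20488, 17790, 17766], [237, 1, 20488, 19789, 19741], [238, 2, 20488, 19645, 20431], [239, 1, 20488, 16779, 20489], [241, 1, 20488, 16781, 13459], [242, 2, 20488, 16783, 17612], [157, 0, 20505, 17633, 20504], [225, 4, 20507, 20505, 17630, 20504, 20487], [4, 0, 20494, 20509, 20485], [4, 0, 20492, 20509], [5, 0, 20498, 20509], [6, 0, 20496, 20509], [8, 0, 20486, 20509], [9, 0, 20508, 20501, 20509], [11, 0, 20508, 20507, 20509], [13, 0, 20504, 20509], [14, 0, 20502, 20509], [15, 0, 20490, 20509], [16, 0, 20489, 20509], [4, 0, 20485, 20510], [7,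 0, 20482, 20510, 19220], [15, 0, 20480, 20535, 19218], [8, 0, 20478, 20537, 17503], [4, 0, 20476, 20539], [22, 1, 18225, 20540], [77, 3, 20541, 17552, 20540], [217, 0, 20541, 18086, 20540, 20544], [236, 3, 20473, 19577, 17520, 20540], [3, 0, 20540, 20548], [4, 0, 20543, 20548], [7, 0, 20474, 20548], [11, 0, 20549, 20547, 20548], [13, 0, 20549, 20544, 20548], [185, 1, 20552, 18983, 18979, 20553], [0, 0], [243, 9, 18785, 20223, 20230, 20238, 6146, 6154, 4843, 6118, 10963, 10961, 10931, 20081, 20073, 20068, 16854, 18933, 18922, 17749, 17168, 17160, 5366, 4512, 5853, 5856, 5857, 5858, 5593, 5590, 5558, 20188, 20286, 20280, 20562], [234, 2, 20564, 18782], [235, 1, 20564, 18768, 20565], [237, 1, 20564, 18771, 20565], [239, 1, 20564, 19763, 19784], [240, 2, 20564, 18776, 19787], [241, 1, 20564, 19433, 20247], [248, 43, 20564, 18774, 18775, 18768, 18785, 18379, 18871, 18866, 18844, 18133, 18646, 18921, 18922, 18288, 18823, 18656, 18885, 18392, 18888, 18893, 18894, 18580, 18858, 18819, 18824, 18375, 18775, 18768, 18785, 18379,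 18871, 18866, 18844, 18130, 5855, 5844, 5852, 18286, 18823, 18656, 18885, 18213, 18911, 19604, 19601], [117, 1, 19472, 19476, 20578], [118, 2, 20562, 20580, 20578], [0, 0], [0, 0], [0, 0], [0, 0], [0, 0], [0, 0], [0, 0], [0, 0], [245, 19, 20073, 20068, 16854, 16855, 20069, 20072, 20080, 10930, 10960, 10962, 10963, 10961, 10931, 20081, 20073, 20068, 16854, 18933, 18922, 17749, 17168, 17160, 5366, 4512, 5853, 5856, 5492, 3439, 5457, 19089, 19100, 19091, 16909, 19787, 18962, 20339, 20347, 20584, 20586, 20588, 20590, 20592, 20594, 20596, 20598], [234, 2, 20600, 20080], [235, 1, 20600, 20070, 18060], [236, 2, 20600, 20068, 16926], [237, 1, 20600, 20343, 20584], [239, 1, 20600, 20075, 20601], [241, 1, 20600, 20078, 18060], [242, 2, 20600, 20076, 16926], [157, 0, 12423, 16894, 20614], [158, 3, 15084, 16897, 20614], [194, 0, 18245, 18295, 20614, 20609], [196, 0, 20620, 18245, 18245, 18295, 20614, 20613, 18124], [225, 4, 20182, 16967, 16958, 20614, 20599], [4, 0, 20596, 20624, 20172], [7, 0, 20599, 20624], [7, 0, 20594, 20627,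 16838], [16, 0, 20592, 20631, 18835], [8, 0, 20590, 20633, 18822], [4, 0, 20588, 20635], [22, 1, 18274, 20636], [70, 0, 20172, 18284, 20636], [75, 6, 20175, 20172, 17954, 20137, 20138, 18274, 20636], [77, 3, 14153, 18271, 20636], [78, 0, 10783, 18269, 20636], [189, 5, 20642, 20175, 20172, 17954, 17987, 18274, 20636], [217, 0, 20637, 18266, 20636, 20644], [223, 1, 10783, 13079, 14165, 17155, 18274, 20636, 20644, 20650], [235, 0, 4512, 18286, 20636], [236, 3, 17748, 18288, 20636], [248, 3, 20335, 20321, 18895, 19047, 15782, 16482, 16489, 19895, 19909, 19899, 19761, 19513, 18922, 17749, 17168, 17160, 5366, 4512, 5853, 5858, 5593, 5590, 5558, 20188, 20286, 20280, 20562, 20564, 18785, 20223, 20230, 20238, 6146, 6154, 4843, 5595, 5536, 5536, 5857, 5852, 18286, 18823, 18822, 20636, 20587], [239, 3, 20658, 20327, 20659], [241, 3, 20658, 20329, 20659], [217, 0, 16164, 18243, 20621, 20662], [53, 2, 20664, 14029], [37, 1, 19910, 20628], [0, 0], [0, 0], [0, 0], [0, 0], [0, 0], [0, 0], [0, 0], [0, 0], [0, 0], [0, 0], [0, 0], [0, 0],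 [0, 0], [0, 0], [247, 17, 20656, 17169, 17748, 18923, 18932, 16855, 20069, 20072, 20601, 20629, 20172, 16838, 18835, 18822, 20636, 20587, 20585, 20346, 20338, 18963, 19786, 16908, 19090, 19101, 19088, 5456, 3438, 5493, 5492, 16923, 16909, 20670, 20672, 20674, 20676, 20678, 20680, 20682, 20684, 20686, 20688, 20690, 20692, 20694, 20696], [37, 2, 20698, 20587], [109, 3, 20698, 20649, 20699], [117, 3, 20698, 20652, 12959], [118, 0, 20698, 20651, 14053], [201, 3, 20702, 20698, 20640, 19911], [202, 1, 20698, 20642, 19922, 20104], [225, 0, 20698, 20644, 14053, 14056], [230, 6, 20713, 14057, 20706, 20698, 20646, 15056, 14053], [243, 17, 20698, 20638, 17204, 19266, 19274, 20168, 19911, 19876, 5457, 3440, 5431, 3930, 5539, 4515, 5366, 20655, 20654, 17161, 17168, 17159, 17279, 19319, 19306, 20071, 20073, 20080, 10931, 10980, 10983, 10950, 5948, 6157, 6146], [244, 24, 20698, 20638, 17204, 20170, 19918, 19920, 19922, 19985, 19894, 19895, 19908, 19897, 19980, 20082, 17278, 17158, 17169, 17160, 5367, 4514, 5538, 3951, 5573, 5570, 5559,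 20188, 20287, 20282, 20194, 20245, 17390, 20240, 20231], [245, 1, 20680, 20682, 20684, 20686, 20688, 20690, 20692, 20694, 20696, 20698, 20654, 5366, 4512, 5853, 5856, 5492, 3439, 5457, 19877, 20669, 20607, 16959, 16958, 20606, 20668, 19875, 19100, 19091, 16909, 16908, 19090, 19101, 19874, 20669, 20607, 16959, 18857, 18859, 20621, 20700, 20719, 20231, 20222, 18784, 18782, 17092], [4, 0, 20681, 20721], [7, 0, 20678, 20721, 17093], [9, 0, 20676, 20725], [245, 26, 20685, 20683, 20723, 17093, 17092, 20722, 20682, 20684, 20686, 20688, 20690, 20692, 20694, 20696, 20698, 20656, 17169, 17748, 18923, 18932, 16855, 20069, 20072, 20601, 20629, 20172, 16838, 18835, 18822, 20636, 20587, 20658, 20335, 20321, 18895, 19049, 16213, 15503, 15471, 20187, 19911, 19879, 16822, 16823, 19878, 19910], [7, 0, 20687, 20729, 19911], [16, 0, 20684, 20729], [4, 0, 20689, 20731, 19879], [7, 0, 20691, 20735, 16822], [16, 0, 20693, 20737, 18883], [8, 0, 20695, 20739, 18870], [4, 0, 20697, 20741], [247, 24, 17445, 19265, 19125, 19880, 20669, 20603, 10931,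 10980, 10983, 10950, 5948, 6157, 6146, 20716, 20698, 20638, 17204, 20170, 19918, 19920, 19922, 19923, 20128, 5868, 20129, 20175, 20641, 20648, 20587, 20623, 17457, 19381, 19346, 20604, 20629, 20186, 15471, 17129, 17140, 19061, 17413, 20296, 20335, 20659, 20700], [234, 1, 20187, 20732], [235, 3, 17981, 20168, 20732], [236, 0, 20723, 17050, 20173, 20732], [4, 0, 20749, 20750], [8, 0, 20682, 20750], [15, 0, 20732, 20750], [16, 0, 20747, 20750], [237, 3, 20657, 20640, 20757], [238, 0, 20127, 20175, 20757], [239, 3, 20756, 20180, 20757], [241, 3, 6633, 20179, 20757], [242, 0, 12055, 20177, 20757], [157, 0, 20768, 12455, 20425], [45, 1, 18924, 20726], [97, 2, 20674, 20727, 17121, 20726], [6, 0, 20674, 20774, 20673], [9, 0, 20773, 20774, 20777], [10, 0, 20726, 20774, 20777], [5, 0, 20672, 20777], [109, 2, 17067, 17064, 20781], [110, 1, 18588, 17093, 20781], [185, 2, 20780, 17120, 17090, 20781], [209, 1, 7836, 17099, 17093, 20781], [210, 3, 9745, 11427, 17086, 20781], [239, 2, 20574, 20567, 20781], [241, 1, 20794, 18971, 20795],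 [0, 0]]
def dJ52 : List (List ℕ) := [[243, 10, 19718, 19689, 19496, 6164, 6172, 4923, 10953, 11012, 11019, 10939, 19803, 19853, 19871, 19251, 20359, 20357, 19500, 19620, 19603, 5555, 5575, 5576, 3948, 3949, 3950, 5488, 3427, 5453, 18611, 19662, 19640, 17209, 20798], [37, 2, 20800, 19457], [109, 3, 20800, 18113, 19320], [110, 0, 20800, 18111, 17209], [117, 3, 20800, 18120, 16406], [118, 0, 20800, 18123, 14217], [202, 1, 20800, 18106, 17209, 20806], [225, 0, 20800, 18115, 14599, 15197], [247, 14, 20800, 19718, 19689, 19496, 6164, 6172, 4923, 10953, 11012, 11019, 10939, 19803, 19853, 19871, 19251, 20359, 20357, 19500, 19620, 19603, 5555, 5575, 5576, 3948, 5428, 4501, 5363, 20529, 20518, 20533, 19220, 19221, 17768, 5429, 3930, 5532, 5532, 10586, 16700, 16705, 16387, 19850, 19855, 17790, 19320], [235, 1, 20167, 19378, 20816], [236, 2, 20358, 19362, 20816], [241, 1, 14395, 19356, 20816], [0, 0], [0, 0], [0, 0], [0, 0], [0, 0], [0, 0], [0, 0], [0, 0], [0, 0], [0, 0], [0, 0], [245, 19, 19853, 19871, 19251, 19250, 19870, 19852,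 19802, 10938, 11018, 11013, 11012, 11019, 10939, 19803, 19853, 19871, 19251, 20359, 20357, 19500, 19620, 19603, 5555, 5575, 5576, 3948, 5428, 4501, 5363, 16777, 19824, 19807, 19278, 20166, 20824, 20826, 20828, 20830, 20832, 20834, 20836, 20838, 20840, 20842, 20844], [234, 2, 20846, 19802], [235, 1, 20846, 19805, 16929], [236, 2, 20846, 19807, 18004], [238, 2, 20846, 19848, 20472], [239, 1, 20846, 19811, 20847], [241, 1, 20846, 19813, 18004], [242, 2, 20846, 19815, 16929], [243, 9, 20846, 19825, 16775, 17015, 19828, 19793, 19716, 19690, 19603, 5554, 5581, 5582, 3956, 5541, 4503, 5362, 16777, 19854, 19868, 16827, 19669, 19687, 19498, 19688, 19723, 19722, 19741, 19732, 19517, 19515, 19784, 18072, 20850, 20845], [4, 0, 20852, 20863, 20843], [4, 0, 20850, 20863], [5, 0, 20854, 20863], [8, 0, 20844, 20863], [9, 0, 20862, 20857, 20863], [13, 0, 20860, 20863], [14, 0, 20858, 20863], [15, 0, 20848, 20863], [16, 0, 20847, 20863], [4, 0, 20843, 20864], [7, 0, 20840, 20864, 19284], [16, 0, 20838, 20885, 20064], [7, 0, 20836, 20887],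 [37, 1, 19980, 20888], [109, 1, 19220, 20089, 20888], [110, 2, 17212, 20097, 20888], [117, 1, 8004, 20092, 20888], [118, 2, 12132, 20094, 20888], [201, 1, 19220, 19205, 20089, 20888], [202, 3, 17212, 20097, 20086, 20888], [225, 2, 14816, 18929, 20091, 20888], [226, 2, 12392, 10886, 20094, 20888], [243, 5, 19742, 11106, 16674, 16685, 16155, 16700, 16705, 16387, 20467, 20461, 20454, 19434, 19463, 17213, 20432, 20421, 20428, 5886, 5914, 5951, 10951, 11012, 11019, 10939, 20879, 20870, 20883, 19284, 19318, 19319, 20064, 20888, 20835, 20833], [7, 0, 20833, 20908, 19733], [15, 0, 20830, 20908, 19740], [3, 0, 20835, 20911], [7, 0, 20828, 20913, 19690], [3, 0, 20826, 20917], [21, 1, 19557, 20918], [69, 1, 19806, 19809, 20918], [70, 2, 19576, 19614, 20918], [78, 2, 19556, 19613, 20918], [80, 0, 19613, 20918, 20926, 19612, 20921], [185, 1, 19806, 19811, 19809, 20918], [186, 3, 19576, 19614, 19616, 20918], [217, 2, 13071, 15118, 19699, 20918], [218, 2, 15047, 19707, 19613, 20918], [235, 2, 5574, 19602, 20918], [118, 3, 20936, 14250,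 20155], [21, 1, 19516, 20914], [235, 2, 19718, 19741, 20914], [236, 1, 16675, 19743, 20914], [218, 4, 20076, 18064, 18084, 20882], [0, 0], [0, 0], [0, 0], [247, 18, 19621, 19501, 20356, 20358, 19250, 19870, 19852, 20881, 20870, 20883, 19284, 20064, 20888, 20915, 19732, 19740, 19690, 20918, 20825, 20167, 19279, 19806, 19825, 16776, 5362, 4500, 5429, 5428, 17764, 19320, 19380, 17340, 17340, 19348, 19321, 17791, 19854, 20380, 20461, 20454, 19434, 20247, 20950, 20952, 20954], [234, 2, 20956, 19603], [235, 1, 20956, 19556, 19601], [237, 1, 20956, 19615, 20472], [238, 2, 20956, 19808, 20881], [239, 1, 20956, 19617, 20957], [241, 1, 20956, 19612, 19601], [243, 17, 20956, 19691, 19717, 19792, 19829, 17014, 16774, 19824, 20881, 20871, 20866, 18073, 19785, 19514, 19516, 19733, 19740, 19741, 19742, 11107, 16745, 16756, 16218, 16230, 16380, 16386, 20467, 20460, 20456, 17064, 20566, 20579, 20960, 20955], [4, 0, 20960, 20971], [5, 0, 20964, 20971], [6, 0, 20962, 20971], [8, 0, 20954, 20971], [9, 0, 20970, 20967, 20971], [14, 0, 20968,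 20971], [15, 0, 20958, 20971], [16, 0, 20957, 20971], [236, 1, 20952, 20986, 20918], [242, 2, 20986, 20927, 20988], [62, 2, 20990, 20982], [77, 2, 20990, 20953, 20993], [159, 3, 20990, 20982, 19477, 20295, 20293], [159, 0, 20293, 20290, 19476, 20992, 20990], [164, 3, 20990, 20982, 20581, 20582, 20295, 20293, 20273], [193, 2, 20990, 20972, 18980, 18058], [194, 2, 20990, 20976, 20550, 17552], [226, 3, 20990, 20998, 20287, 20293], [241, 2, 20990, 20984, 4032], [239, 3, 17515, 19052, 21008], [240, 0, 19013, 11017, 21008], [0, 0], [29, 1, 11002, 21014], [69, 2, 18993, 10999, 21014], [70, 1, 19005, 11019, 21014], [97, 1, 21015, 10940, 21014], [193, 1, 21015, 11014, 11019, 21014], [201, 2, 21015, 10940, 10939, 21014], [237, 2, 20869, 20878, 21014], [238, 1, 19849, 19802, 21014], [225, 4, 21024, 21027, 21025, 21026], [0, 0], [233, 2, 20188, 21034], [236, 0, 21036, 5571, 19382], [237, 3, 21036, 20324, 20659], [238, 0, 21036, 10969, 20602], [239, 3, 21036, 5560, 21037], [241, 3, 21036, 4046, 19382], [243, 18, 21039, 20802, 20799,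 17456, 20622, 20586, 20654, 5367, 4514, 5538, 3951, 5573, 5570, 5559, 21037, 21036, 20188, 20287, 20282, 20194, 20245, 17390, 20240, 20231, 20238, 6147, 6156, 5949, 5944, 4852, 5879, 5868, 20129], [243, 32, 21035, 21034, 21036, 5558, 5571, 5572, 3950, 5539, 4515, 5366, 20655, 20587, 20623, 17457, 20798, 20803, 21038, 21049, 20126, 20023, 20018, 19990, 19967, 18102, 20341, 20346, 20584, 20700, 20744, 17445, 20360, 20373, 20101], [117, 3, 6507, 20112, 21050], [118, 0, 13267, 20110, 21050], [0, 0], [0, 0], [0, 0], [245, 19, 19688, 19719, 20801, 20800, 19718, 19689, 19496, 6164, 6172, 4923, 4922, 6173, 6165, 19497, 19688, 19719, 20801, 20799, 17208, 19641, 19663, 18610, 5452, 3426, 5489, 3951, 5577, 5574, 5554, 19602, 19621, 19501, 20356, 20361, 17405, 18614, 19567, 20472, 20555, 20550, 17502, 19966, 21056, 21058, 21060], [234, 2, 21062, 19496], [235, 1, 21062, 19499, 18629], [237, 1, 21062, 19495, 19478], [238, 2, 21062, 19864, 20380], [239, 1, 21062, 19503, 21063], [241, 1, 21062, 19505, 12621], [242, 2, 21062, 19507, 13471],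 [243, 9, 21062, 19620, 19556, 19558, 19585, 18885, 19580, 19566, 18610, 5453, 3428, 5855, 5858, 5583, 5580, 5555, 19602, 19691, 19717, 19792, 19830, 18824, 19643, 19657, 21031, 21030, 20472, 20554, 20552, 18972, 20795, 20784, 21066, 21061], [4, 0, 21066, 21079], [5, 0, 21070, 21079], [6, 0, 21068, 21079], [8, 0, 21060, 21079], [9, 0, 21078, 21073, 21079], [13, 0, 21076, 21079], [14, 0, 21074, 21079], [15, 0, 21064, 21079], [16, 0, 21063, 21079], [236, 1, 21058, 21096, 19501], [233, 1, 18149, 21098], [235, 1, 18628, 18631, 21098], [237, 1, 17847, 18150, 21098], [238, 2, 17296, 18146, 21098], [239, 1, 17847, 18154, 21098], [240, 2, 17296, 18152, 21098], [241, 1, 16084, 18158, 21098], [242, 2, 16437, 18156, 21098], [157, 2, 21114, 16131, 16132], [158, 1, 21114, 21116, 21112], [219, 3, 21080, 21103, 21114, 16133, 21118, 21102, 21081], [226, 3, 21114, 16131, 16125, 17196], [0, 0], [245, 17, 19923, 20126, 20022, 20016, 20787, 20786, 20017, 20023, 20035, 5868, 5876, 5862, 5863, 5877, 5869, 20034, 20022, 20016, 20787, 20671,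 16908, 19090, 19101, 19088, 5456, 3438, 5493, 3957, 5593, 5590, 5558, 20188, 20286, 20280, 20562, 20567, 17092, 20722, 20755, 20756, 19911, 19879, 16822, 19587, 21124], [22, 2, 21126, 20100], [69, 1, 21126, 20102, 19879], [70, 2, 21126, 20710, 20743], [77, 1, 21126, 20108, 12981], [78, 2, 21126, 20106, 13812], [185, 1, 21126, 20105, 20102, 19879], [186, 3, 21126, 20710, 20703, 20743], [217, 2, 21126, 20108, 15224, 14437], [218, 2, 21126, 20113, 16404, 16397], [235, 2, 21126, 20098, 16483], [236, 1, 21126, 19985, 19899], [118, 1, 19709, 10695, 21144], [0, 0], [247, 13, 19668, 16958, 20606, 20668, 19875, 19100, 19091, 16909, 20670, 20786, 20017, 20023, 20127, 19922, 21127, 21125, 19586, 16823, 19878, 19910, 20757, 20754, 20723, 17093, 20566, 20563, 20281, 20287, 20189, 5559, 5591, 5592, 5593, 19474, 20562, 20564, 18771, 18771, 19763, 19760, 19898, 19908, 19984, 21050, 21152], [38, 2, 21154, 19687], [109, 1, 21154, 19676, 16958], [110, 2, 21154, 19674, 18859], [117, 1, 21154, 19721, 6793], [118, 2, 21154, 19790, 9809], [201,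 1, 21154, 19673, 19676, 16958], [202, 3, 21154, 19674, 18840, 18859], [225, 2, 21154, 19721, 20114, 21048], [226, 2, 21154, 19680, 18122, 19457], [247, 10, 21154, 19833, 19793, 19767, 19515, 19773, 19760, 18496, 15783, 15769, 16757, 19765, 19515, 19773, 19760, 21148, 21125, 19671, 19687, 18629, 20785, 20788, 20786, 18603, 5862, 5676, 6110, 17075, 20785, 20788, 20786, 18603, 5862, 5676, 6110, 6111, 6117, 10994, 19002, 18981, 18979, 18983, 20578, 20569, 20563], [247, 1, 5592, 5859, 5850, 5850, 5861, 5863, 5877, 5869, 20034, 20022, 20016, 20787, 20671, 16908, 19090, 19101, 19088, 5456, 3438, 5493, 3957, 5593, 5590, 5558, 20188, 20286, 20280, 20562, 20567, 17092, 20722, 20755, 20758, 15470, 15502, 16212, 16219, 15782, 16482, 16489, 20099, 21050, 21152, 21154, 21155], [235, 3, 21176, 5586, 19382], [0, 0], [243, 31, 20940, 20938, 20939, 20988, 21007, 20267, 19473, 18937, 5589, 5586, 5578, 21008, 21007, 20267, 19473, 19600, 21151, 21129, 18163, 18148, 4931, 4796, 6096, 18627, 21156, 21179, 19456, 20945, 20890, 19109, 19759,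 19766, 21180], [21, 2, 21182, 19920], [69, 3, 21182, 20138, 18274], [70, 0, 21182, 20136, 17955], [77, 3, 21182, 20121, 10705], [78, 0, 21182, 20118, 14219], [186, 1, 21182, 20140, 18274, 18285], [187, 4, 21195, 18284, 21186, 21182, 20142, 17987, 18274], [217, 0, 21182, 20153, 12747, 16812]]
def dJ53 : List (List ℕ) := [[235, 0, 21182, 20134, 18596], [236, 3, 21182, 20131, 4796], [243, 14, 19834, 19559, 19598, 5582, 5567, 5593, 19474, 20562, 20568, 20579, 18937, 5582, 5567, 5593, 21177, 21154, 19833, 19793, 16802, 16803, 19767, 19515, 19773, 19760, 21148, 21125, 19671, 19687, 18626, 6111, 5677, 5863, 21202], [117, 3, 21181, 21198, 21204], [0, 0], [0, 0], [0, 0], [0, 0], [245, 11, 6847, 16718, 16730, 16714, 4822, 5822, 5829, 7246, 15325, 16088, 16109, 16108, 16089, 15324, 13470, 15172, 15160, 14217, 14216, 15161, 15173, 13471, 15325, 16088, 16109, 16365, 16357, 16345, 16357, 16364, 16079, 19070, 19082, 19066, 5629, 4676, 4810, 16715, 16730, 16721, 16012, 21208, 21210, 21212, 21214], [233, 0, 21216, 16069, 21208], [8, 0,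 21214, 21219], [15, 0, 21217, 21219], [235, 3, 21222, 13512, 21223], [237, 3, 21222, 14257, 7330], [238, 0, 21222, 14197, 6492], [239, 3, 21222, 14491, 14453], [240, 0, 21222, 6879, 14377], [241, 3, 21222, 16067, 16068], [242, 0, 21222, 21234, 21209], [247, 1, 21222, 6847, 6845, 5057, 6559, 11090, 11093, 13780, 13735, 15795, 15809, 15450, 15456, 15666, 15650, 16007, 15994, 14944, 6041, 5737, 5826, 7246, 15324, 15317, 6832, 16111, 16079, 19070, 19082, 19069, 6793, 14606, 7781, 15668, 15649, 14910, 6893, 16716, 16731, 16719, 6846, 21223, 21220, 21213, 21211, 21210], [3, 0, 21213, 21238, 21224], [7, 0, 21220, 21241], [226, 0, 21242, 21235, 6847, 16728], [0, 0], [0, 0], [243, 27, 16055, 16068, 6847, 16718, 16730, 16714, 16715, 16717, 6892, 14911, 15648, 15669, 7780, 14607, 6792, 19068, 19083, 19071, 16078, 16110, 6833, 15316, 15325, 13470, 8016, 15047, 14501, 16075, 16027, 14921, 8004, 21246, 21248], [22, 2, 21250, 13535], [69, 1, 21250, 14229, 14224], [70, 2, 21250, 13620, 14213], [77, 1, 21250, 13630, 13534], [78, 2, 21250,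 21258, 21253], [185, 1, 21250, 8483, 13660, 14240], [186, 3, 21250, 13620, 10154, 13765], [217, 2, 21250, 13630, 13548, 16718], [218, 2, 21250, 16061, 21236, 21225], [235, 2, 21250, 13632, 6034], [236, 2, 21250, 13634, 14953, 21246], [3, 0, 21252, 21273], [4, 0, 21251, 21273], [5, 0, 21256, 21273], [6, 0, 21254, 21273], [8, 0, 21248, 21273], [9, 0, 21264, 21273], [10, 0, 21262, 21273], [11, 0, 21266, 21273], [12, 0, 21268, 21273], [13, 0, 21260, 21273], [14, 0, 21258, 21273], [15, 0, 21270, 21273], [0, 0], [53, 1, 16337, 21298], [157, 1, 21299, 16339, 21298], [209, 2, 21299, 16330, 16335, 21298], [217, 1, 21299, 16327, 16339, 21298], [185, 4, 21306, 21305, 21307, 21304], [0, 0], [119, 3, 21299, 16336, 6264, 15756, 21310], [109, 1, 21312, 21304, 21313], [118, 2, 21312, 21300, 6264], [201, 1, 21312, 21308, 21304, 21313], [225, 2, 21312, 21299, 16338, 16328], [226, 2, 21312, 21303, 21300, 6264], [0, 0], [123, 4, 21312, 21299, 16336, 6264, 12756, 15755, 21324], [38, 2, 21326, 21312], [109, 1, 21326, 21315, 21327], [118, 2,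 21326, 21317, 12756], [201, 1, 21326, 21319, 21315, 21327], [225, 2, 21326, 21311, 15758, 12756], [226, 2, 21326, 21323, 15756, 15715], [0, 0], [77, 2, 21323, 12752, 21340], [69, 1, 21342, 21319, 21343], [78, 2, 21342, 21321, 15705], [185, 1, 21342, 21315, 21319, 21343], [217, 2, 21342, 21323, 15756, 15705], [218, 2, 21342, 21311, 15758, 12752], [0, 0], [81, 3, 21342, 21323, 12752, 13250, 21354], [22, 2, 21356, 21342], [69, 1, 21356, 21345, 21357], [78, 2, 21356, 21347, 16641], [185, 1, 21356, 21349, 21345, 21357], [217, 2, 21356, 21341, 21352, 21357], [209, 4, 21364, 21367, 21365, 21366], [0, 0], [241, 2, 21323, 12760, 21370], [237, 1, 21372, 21319, 21373], [239, 1, 21372, 21315, 21373], [242, 2, 21372, 21321, 15701], [157, 0, 19905, 15656, 21378], [158, 3, 19489, 15362, 21378], [225, 3, 21382, 19489, 7208, 21378], [0, 0], [241, 2, 21355, 12552, 21386], [236, 2, 21388, 21359, 21373], [237, 1, 21388, 21361, 21389], [239, 1, 21388, 21365, 21389], [242, 2, 21388, 21363, 16644], [157, 0, 14991, 14877, 21396], [158, 3, 17108,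 17116, 21396], [0, 0], [81, 3, 21390, 21387, 12509, 11668, 21402], [22, 2, 21404, 21390], [69, 1, 21404, 21375, 21405], [78, 2, 21404, 21379, 14910], [185, 1, 21404, 21377, 21375, 21405], [217, 2, 21404, 21371, 12514, 12971], [218, 2, 21404, 21382, 19489, 14857], [236, 1, 21404, 21372, 21343], [0, 0], [225, 2, 19981, 19122, 21386, 21420], [62, 2, 21422, 20090], [77, 2, 21422, 20084, 21423], [157, 2, 21422, 20093, 14949], [158, 1, 21422, 20095, 10887], [193, 2, 21422, 20085, 20086, 21423], [209, 2, 21431, 6658, 12400, 21430], [0, 0], [227, 3, 8004, 15995, 19121, 19122, 21386, 21420, 21436], [62, 2, 21438, 14934], [157, 2, 21438, 15306, 15235], [158, 1, 21438, 20897, 20906], [193, 2, 21438, 14920, 8922, 21439], [226, 3, 21438, 15306, 6273, 21386], [241, 2, 21438, 15718, 21338], [239, 3, 21451, 21330, 21450], [0, 0], [241, 2, 21387, 6369, 21454], [234, 2, 21456, 21388], [237, 1, 21456, 21393, 21457], [239, 1, 21456, 21395, 21457], [242, 2, 21456, 21397, 6616], [157, 0, 17891, 17886, 21464], [158, 3, 15248, 15425, 21464],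 [0, 0], [53, 1, 15350, 21470], [117, 2, 21417, 14793, 21470], [157, 1, 19776, 19746, 21470], [158, 2, 15427, 12190, 21470], [209, 2, 21471, 14792, 6609, 21470], [218, 3, 21445, 14823, 14808, 21470], [69, 1, 21482, 21446, 21483], [0, 0], [119, 3, 21471, 15351, 13066, 15345, 21486], [38, 2, 21488, 21474], [109, 1, 21488, 21480, 21489], [118, 2, 21488, 21472, 13066], [201, 1, 21488, 21485, 21480, 21489], [225, 2, 21488, 21471, 19747, 19515], [226, 2, 21488, 21478, 15524, 17279], [77, 2, 21501, 17277, 21500], [241, 2, 21422, 20082, 21500], [0, 0], [221, 3, 19734, 17159, 15517, 12022, 15350, 21470, 21506], [54, 2, 21508, 19734], [117, 2, 21508, 19732, 21509], [157, 1, 21508, 19738, 16035], [158, 2, 21508, 19736, 15285], [209, 2, 21508, 19733, 19756, 21509], [218, 3, 21508, 19736, 12391, 21444], [69, 3, 21521, 21447, 21520], [0, 0], [53, 1, 15255, 21524], [117, 2, 21468, 15037, 21524], [157, 1, 17183, 17179, 21524], [158, 2, 15236, 15230, 21524], [209, 2, 21525, 15036, 15039, 21524], [193, 2, 21532, 14912, 14723, 21533], [241,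 2, 21532, 14886, 21514], [0, 0], [119, 3, 21525, 15254, 6362, 15252, 21540], [38, 2, 21542, 21528], [109, 1, 21542, 21534, 21543], [118, 2, 21542, 21526, 6362], [201, 1, 21542, 21536, 21534, 21543], [225, 2, 21542, 21525, 17178, 19425], [226, 2, 21542, 21532, 18367, 18775], [77, 2, 21555, 18769, 21554], [0, 0], [221, 3, 20771, 20416, 18370, 15984, 15255, 21524, 21558], [54, 2, 21560, 20771], [117, 2, 21560, 20755, 21561], [157, 1, 21560, 20766, 14663], [158, 2, 21560, 20768, 12683], [209, 2, 21560, 20754, 20765, 21561], [241, 0, 21441, 12687, 21568], [242, 3, 21337, 12934, 21568], [237, 1, 21574, 21335, 21575], [0, 0], [223, 4, 14666, 14625, 15977, 15984, 15255, 21524, 21558, 21578], [54, 2, 21580, 14666], [157, 1, 21580, 17054, 17098], [158, 2, 21580, 15233, 15311], [209, 2, 21580, 12949, 9034, 21581], [218, 3, 21580, 15233, 15035, 21524], [69, 3, 21591, 21537, 21590], [235, 0, 21506, 21538, 21590], [0, 0], [77, 2, 21455, 13173, 21596]]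
def dJ54 : List (List ℕ) := [[69, 1, 21598, 21461, 21599], [78, 2, 21598, 21465, 14927], [185, 1, 21598, 21463, 21461, 21599], [217, 2, 21598, 21455, 15338, 14805], [218, 2, 21598, 21468, 15248, 12837], [235, 2, 21598, 21459, 21359], [236, 1, 21598, 21456, 21391], [117, 2, 21580, 12990, 21608], [0, 0], [81, 3, 21598, 21455, 13173, 13214, 21616], [22, 2, 21618, 21598], [69, 1, 21618, 21601, 21619], [78, 2, 21618, 21603, 14925], [185, 1, 21618, 21605, 21601, 21619], [217, 2, 21618, 21597, 17083, 20457], [218, 2, 21618, 21609, 17400, 20240], [235, 2, 21618, 21611, 21343], [236, 1, 21618, 21613, 21405], [117, 2, 21631, 20230, 21630], [0, 0], [161, 3, 14771, 14769, 12284, 17086, 21638], [54, 2, 21640, 14771], [117, 2, 21640, 12948, 21581], [118, 1, 21640, 7596, 21608], [158, 2, 21640, 12014, 17381], [209, 2, 21640, 7596, 12951, 21641], [217, 1, 21640, 11557, 12015, 21641], [185, 4, 21652, 21651, 21653, 21650], [244, 20, 21542, 21558, 21564, 21572, 21449, 21406, 21475, 21595, 21644, 21652, 21647, 21613, 21372, 21373, 21385,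 21390, 21420, 21505, 21488, 21506, 21512, 21538, 21543, 21556, 21545, 21456, 21448, 21483, 21474, 21634, 21637, 21618, 21646], [0, 0], [79, 3, 21339, 15729, 12775, 15735, 21658], [69, 1, 21660, 21335, 21661], [78, 2, 21660, 21337, 12775], [185, 1, 21660, 21331, 21335, 21661], [217, 2, 21660, 21339, 21324, 21661], [235, 2, 21660, 21575, 21578], [236, 1, 21660, 21450, 21483], [209, 4, 21666, 21669, 21667, 21668], [0, 0], [83, 4, 21660, 21339, 15729, 12775, 12725, 15737, 21676], [22, 2, 21678, 21660], [69, 1, 21678, 21663, 21679], [78, 2, 21678, 21665, 12725], [185, 1, 21678, 21667, 21663, 21679], [217, 2, 21678, 21659, 15746, 15732], [218, 2, 21678, 21668, 21665, 12725], [235, 2, 21678, 21671, 21591], [236, 1, 21678, 21673, 21506], [243, 26, 21342, 21327, 21450, 21437, 21427, 21421, 21388, 21389, 21457, 21529, 21590, 21615, 21611, 21312, 21306, 21328, 21450, 21449, 21406, 21475, 21595, 21644, 21652, 21647, 21613, 21385, 21390, 21420, 21505, 21488, 21506, 21512, 21694], [0, 0], [121, 3, 21697, 21691, 6670, 12762, 21698],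 [38, 2, 21700, 21697], [109, 1, 21700, 21349, 21701], [118, 2, 21700, 21351, 16369], [201, 1, 21700, 21345, 21349, 21701], [225, 2, 21700, 21353, 21340, 21701], [243, 15, 21700, 21632, 21637, 21618, 21646, 21656, 21542, 21558, 21564, 21572, 21449, 21406, 21475, 21595, 21644, 21652, 21647, 21613, 21612, 21611, 21327, 21680, 21696, 21418, 21490, 21503, 21488, 21595, 21615, 21598, 21529, 21692, 21702], [243, 29, 21700, 21357, 21368, 21458, 21459, 21389, 21420, 21426, 21436, 21451, 21326, 21343, 21697, 21695, 21513, 21507, 21489, 21504, 21421, 21391, 21384, 21372, 21327, 21680, 21696, 21418, 21490, 21503, 21488, 21672, 21675, 21660, 21329], [0, 0], [163, 4, 20948, 20078, 18077, 18081, 18078, 19317, 21716], [54, 2, 21718, 20948], [117, 2, 21718, 20871, 21719], [158, 2, 21718, 20874, 18078], [209, 2, 21718, 20870, 20872, 21719], [217, 1, 21718, 20866, 20875, 21719], [185, 4, 21728, 21727, 21729, 21726], [241, 0, 21425, 18932, 21724], [242, 3, 21499, 19784, 21724], [0, 0], [241, 2, 21555, 20565, 21736], [234, 2, 21738, 21657],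 [235, 1, 21738, 21556, 21739], [237, 1, 21738, 21551, 21739], [239, 1, 21738, 21547, 21739], [242, 2, 21738, 21553, 20247], [157, 0, 20991, 21001, 21748], [158, 3, 20293, 20273, 21748], [225, 3, 21752, 20293, 20194, 21748], [0, 0], [233, 1, 21715, 21756], [235, 3, 21758, 21712, 21759], [237, 3, 21758, 21708, 21759], [239, 3, 21758, 21704, 21759], [241, 3, 21758, 21711, 21759], [247, 2, 21757, 21308, 21308, 21304, 21313, 21358, 21369, 21389, 21448, 21483, 21474, 21634, 21637, 21618, 21646, 21740, 21754, 21742, 21754, 21738, 21545, 21620, 21637, 21633, 21697, 21681, 21326, 21373, 21385, 21390, 21420, 21733, 21722, 21728, 21722, 21734, 21491, 21404, 21385, 21372, 21312, 21306, 21328, 21329, 21756], [225, 4, 21767, 21769, 21766, 21768]]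
def dJS : List (List ℕ) := List.flatten [dJ0, dJ1, dJ2, dJ3, dJ4, dJ5, dJ6, dJ7, dJ8, dJ9, dJ10, dJ11, dJ12, dJ13, dJ14, dJ15, dJ16, dJ17, dJ18, dJ19, dJ20, dJ21, dJ22, dJ23, dJ24, dJ25, dJ26, dJ27, dJ28, dJ29, dJ30, dJ31, dJ32, dJ33, dJ34, dJ35, dJ36, dJ37, dJ38, dJ39, dJ40, dJ41, dJ42, dJ43, dJ44, dJ45, dJ46, dJ47, dJ48, dJ49, dJ50, dJ51, dJ52, dJ53, dJ54]
def dLive_0 : BT := .node (.node (.node (.node (.node (.node (.node (.leaf 0) (.leaf 1579)) (.leaf 836)) (.node (.node (.leaf 640) (.leaf 1871)) (.leaf 1087))) (.node (.node (.node (.leaf 286) (.leaf 1706)) (.leaf 932)) (.node (.node (.leaf 753) (.leaf 2069)) (.leaf 1259)))) (.node (.node (.node (.node (.leaf 105) (.leaf 1655)) (.leaf 876)) (.node (.node (.leaf 718) (.leaf 1988)) (.leaf 1166))) (.node (.node (.node (.leaf 380) (.leaf 1780)) (.leaf 996)) (.node (.node (.leaf 795) (.leaf 2138)) (.leaf 1450))))) (.node (.node (.node (.node (.node (.leaf 27) (.leaf 1618)) (.leaf 855)) (.node (.node (.leaf 656) (.leaf 1916)) (.leaf 1120))) (.node (.node (.node (.leaf 338)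 (.leaf 1740)) (.leaf 958)) (.node (.node (.leaf 775) (.leaf 2117)) (.leaf 1383)))) (.node (.node (.node (.node (.leaf 270) (.leaf 1675)) (.leaf 911)) (.node (.node (.leaf 734) (.leaf 2026)) (.leaf 1214))) (.node (.node (.node (.leaf 581) (.leaf 1811)) (.leaf 1048)) (.node (.node (.leaf 818) (.leaf 2154)) (.leaf 1532)))))) (.node (.node (.node (.node (.node (.node (.leaf 9) (.leaf 1587)) (.leaf 846)) (.node (.node (.leaf 648) (.leaf 1893)) (.leaf 1107))) (.node (.node (.node (.leaf 330) (.leaf 1728)) (.leaf 947)) (.node (.node (.leaf 764) (.leaf 2093)) (.leaf 1309)))) (.node (.node (.node (.node (.leaf 137) (.leaf 1663)) (.leaf 895)) (.node (.node (.leaf 726) (.leaf 2011)) (.leaf 1190))) (.node (.node (.node (.leaf 556) (.leaf 1797)) (.leaf 1010)) (.node (.node (.leaf 804) (.leaf 2146)) (.leaf 1496))))) (.node (.node (.node (.node (.node (.leaf 57) (.leaf 1627)) (.leaf 863)) (.node (.node (.leaf 710) (.leaf 1939)) (.leaf 1142))) (.node (.node (.node (.leaf 361) (.leaf 1749)) (.leaf 984)) (.node (.node (.leaf 787) (.leaf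 2129)) (.leaf 1428)))) (.node (.node (.node (.node (.leaf 278) (.leaf 1697)) (.leaf 922)) (.node (.node (.leaf 742) (.leaf 2050)) (.leaf 1240))) (.node (.node (.node (.leaf 630) (.leaf 1852)) (.leaf 1064)) (.node (.leaf 827) (.leaf 1541))))))
def dLive_1 : BT := .node (.node (.node (.node (.node (.node (.node (.leaf 4) (.leaf 1583)) (.leaf 841)) (.node (.node (.leaf 644) (.leaf 1884)) (.leaf 1092))) (.node (.node (.node (.leaf 290) (.leaf 1715)) (.leaf 938)) (.node (.node (.leaf 759) (.leaf 2080)) (.leaf 1293)))) (.node (.node (.node (.node (.leaf 109) (.leaf 1659)) (.leaf 881)) (.node (.node (.leaf 722) (.leaf 1995)) (.leaf 1174))) (.node (.node (.node (.leaf 405) (.leaf 1791)) (.leaf 1003)) (.node (.node (.leaf 800) (.leaf 2142)) (.leaf 1460))))) (.node (.node (.node (.node (.node (.leaf 47) (.leaf 1622)) (.leaf 859)) (.node (.node (.leaf 706) (.leaf 1933)) (.leaf 1127))) (.node (.node (.node (.leaf 357) (.leaf 1744)) (.leaf 978)) (.node (.node (.leaf 783) (.leaf 2122)) (.leaf 1402)))) (.node (.node (.node (.node (.leaf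 274) (.leaf 1693)) (.leaf 915)) (.node (.node (.leaf 738) (.leaf 2033)) (.leaf 1222))) (.node (.node (.node (.leaf 603) (.leaf 1834)) (.leaf 1055)) (.node (.leaf 823) (.leaf 1536)))))) (.node (.node (.node (.node (.node (.node (.leaf 17) (.leaf 1612)) (.leaf 851)) (.node (.node (.leaf 652) (.leaf 1900)) (.leaf 1114))) (.node (.node (.node (.leaf 334) (.leaf 1735)) (.leaf 953)) (.node (.node (.leaf 769) (.leaf 2108)) (.leaf 1359)))) (.node (.node (.node (.node (.leaf 266) (.leaf 1670)) (.leaf 904)) (.node (.node (.leaf 730) (.leaf 2020)) (.leaf 1196))) (.node (.node (.node (.leaf 569) (.leaf 1807)) (.leaf 1015)) (.node (.node (.leaf 809) (.leaf 2150)) (.leaf 1516))))) (.node (.node (.node (.node (.node (.leaf 66) (.leaf 1650)) (.leaf 871)) (.node (.node (.leaf 714) (.leaf 1983)) (.leaf 1155))) (.node (.node (.node (.leaf 365) (.leaf 1775)) (.leaf 989)) (.node (.node (.leaf 791) (.leaf 2134)) (.leaf 1437)))) (.node (.node (.node (.node (.leaf 282) (.leaf 1701)) (.leaf 927)) (.node (.node (.leaf 747) (.leaf 2058)) (.leaf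 1254))) (.node (.node (.node (.leaf 636) (.leaf 1863)) (.leaf 1077)) (.node (.leaf 832) (.leaf 1551))))))
def dLive_2 : BT := .node dLive_0 dLive_1
def dLive_3 : BT := .node (.node (.node (.node (.node (.node (.node (.leaf 2) (.leaf 1581)) (.leaf 839)) (.node (.node (.leaf 642) (.leaf 1873)) (.leaf 1089))) (.node (.node (.node (.leaf 288) (.leaf 1712)) (.leaf 935)) (.node (.node (.leaf 757) (.leaf 2077)) (.leaf 1288)))) (.node (.node (.node (.node (.leaf 107) (.leaf 1657)) (.leaf 878)) (.node (.node (.leaf 720) (.leaf 1990)) (.leaf 1168))) (.node (.node (.node (.leaf 387) (.leaf 1784)) (.leaf 998)) (.node (.node (.leaf 798) (.leaf 2140)) (.leaf 1455))))) (.node (.node (.node (.node (.node (.leaf 30) (.leaf 1620)) (.leaf 857)) (.node (.node (.leaf 668) (.leaf 1930)) (.leaf 1122))) (.node (.node (.node (.leaf 340) (.leaf 1742)) (.leaf 971)) (.node (.node (.leaf 781) (.leaf 2119)) (.leaf 1399)))) (.node (.node (.node (.node (.leaf 272) (.leaf 1686)) (.leaf 913)) (.node (.node (.leaf 736) (.leaf 2028)) (.leaf 1219))) (.node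 (.node (.node (.leaf 583) (.leaf 1825)) (.leaf 1050)) (.node (.node (.leaf 820) (.leaf 2156)) (.leaf 1534)))))) (.node (.node (.node (.node (.node (.node (.leaf 13) (.leaf 1591)) (.leaf 848)) (.node (.node (.leaf 650) (.leaf 1895)) (.leaf 1112))) (.node (.node (.node (.leaf 332) (.leaf 1732)) (.leaf 949)) (.node (.node (.leaf 766) (.leaf 2102)) (.leaf 1349)))) (.node (.node (.node (.node (.leaf 257) (.leaf 1668)) (.leaf 897)) (.node (.node (.leaf 728) (.leaf 2015)) (.leaf 1193))) (.node (.node (.node (.leaf 566) (.leaf 1799)) (.leaf 1012)) (.node (.node (.leaf 807) (.leaf 2148)) (.leaf 1509))))) (.node (.node (.node (.node (.node (.leaf 64) (.leaf 1644)) (.leaf 869)) (.node (.node (.leaf 712) (.leaf 1965)) (.leaf 1147))) (.node (.node (.node (.leaf 363) (.leaf 1771)) (.leaf 986)) (.node (.node (.leaf 789) (.leaf 2132)) (.leaf 1431)))) (.node (.node (.node (.node (.leaf 280) (.leaf 1699)) (.leaf 925)) (.node (.node (.leaf 745) (.leaf 2053)) (.leaf 1244))) (.node (.node (.node (.leaf 634) (.leaf 1854)) (.leaf 1066)) (.node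 (.leaf 829) (.leaf 1544))))))
def dLive_4 : BT := .node (.node (.node (.node (.node (.node (.node (.leaf 7) (.leaf 1585)) (.leaf 844)) (.node (.node (.leaf 646) (.leaf 1887)) (.leaf 1096))) (.node (.node (.node (.leaf 328) (.leaf 1721)) (.leaf 945)) (.node (.node (.leaf 762) (.leaf 2087)) (.leaf 1306)))) (.node (.node (.node (.node (.leaf 133) (.leaf 1661)) (.leaf 883)) (.node (.node (.leaf 724) (.leaf 2009)) (.leaf 1176))) (.node (.node (.node (.leaf 458) (.leaf 1794)) (.leaf 1006)) (.node (.node (.leaf 802) (.leaf 2144)) (.leaf 1494))))) (.node (.node (.node (.node (.node (.leaf 55) (.leaf 1625)) (.leaf 861)) (.node (.node (.leaf 708) (.leaf 1935)) (.leaf 1136))) (.node (.node (.node (.leaf 359) (.leaf 1746)) (.leaf 982)) (.node (.node (.leaf 785) (.leaf 2124)) (.leaf 1404)))) (.node (.node (.node (.node (.leaf 276) (.leaf 1695)) (.leaf 919)) (.node (.node (.leaf 740) (.leaf 2046)) (.leaf 1237))) (.node (.node (.node (.leaf 628) (.leaf 1841)) (.leaf 1057)) (.node (.leaf 825) (.leaf 1538)))))) (.node (.node (.node (.node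 (.node (.node (.leaf 24) (.leaf 1614)) (.leaf 853)) (.node (.node (.leaf 654) (.leaf 1904)) (.leaf 1117))) (.node (.node (.node (.leaf 336) (.leaf 1738)) (.leaf 955)) (.node (.node (.leaf 772) (.leaf 2114)) (.leaf 1367)))) (.node (.node (.node (.node (.leaf 268) (.leaf 1673)) (.leaf 909)) (.node (.node (.leaf 732) (.leaf 2022)) (.leaf 1212))) (.node (.node (.node (.leaf 571) (.leaf 1809)) (.leaf 1046)) (.node (.node (.leaf 816) (.leaf 2152)) (.leaf 1529))))) (.node (.node (.node (.node (.node (.leaf 68) (.leaf 1653)) (.leaf 874)) (.node (.node (.leaf 716) (.leaf 1986)) (.leaf 1162))) (.node (.node (.node (.leaf 368) (.leaf 1777)) (.leaf 991)) (.node (.node (.leaf 793) (.leaf 2136)) (.leaf 1448)))) (.node (.node (.node (.node (.leaf 284) (.leaf 1704)) (.leaf 929)) (.node (.node (.leaf 749) (.leaf 2062)) (.leaf 1257))) (.node (.node (.node (.leaf 638) (.leaf 1869)) (.leaf 1081)) (.node (.leaf 834) (.leaf 1577))))))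
def dLive_5 : BT := .node dLive_3 dLive_4
def dLive_6 : BT := .node dLive_2 dLive_5
def dLive_7 : BT := .node (.node (.node (.node (.node (.node (.node (.leaf 1) (.leaf 1580)) (.leaf 837)) (.node (.node (.leaf 641) (.leaf 1872)) (.leaf 1088))) (.node (.node (.node (.leaf 287) (.leaf 1707)) (.leaf 934)) (.node (.node (.leaf 756) (.leaf 2071)) (.leaf 1260)))) (.node (.node (.node (.node (.leaf 106) (.leaf 1656)) (.leaf 877)) (.node (.node (.leaf 719) (.leaf 1989)) (.leaf 1167))) (.node (.node (.node (.leaf 385) (.leaf 1783)) (.leaf 997)) (.node (.node (.leaf 797) (.leaf 2139)) (.leaf 1454))))) (.node (.node (.node (.node (.node (.leaf 29) (.leaf 1619)) (.leaf 856)) (.node (.node (.leaf 661) (.leaf 1926)) (.leaf 1121))) (.node (.node (.node (.leaf 339) (.leaf 1741)) (.leaf 962)) (.node (.node (.leaf 780) (.leaf 2118)) (.leaf 1388)))) (.node (.node (.node (.node (.leaf 271) (.leaf 1684)) (.leaf 912)) (.node (.node (.leaf 735) (.leaf 2027)) (.leaf 1218))) (.node (.node (.node (.leaf 582) (.leaf 1824)) (.leaf 1049)) (.node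 (.node (.leaf 819) (.leaf 2155)) (.leaf 1533)))))) (.node (.node (.node (.node (.node (.node (.leaf 10) (.leaf 1588)) (.leaf 847)) (.node (.node (.leaf 649) (.leaf 1894)) (.leaf 1111))) (.node (.node (.node (.leaf 331) (.leaf 1731)) (.leaf 948)) (.node (.node (.leaf 765) (.leaf 2101)) (.leaf 1338)))) (.node (.node (.node (.node (.leaf 203) (.leaf 1667)) (.leaf 896)) (.node (.node (.leaf 727) (.leaf 2014)) (.leaf 1191))) (.node (.node (.node (.leaf 557) (.leaf 1798)) (.leaf 1011)) (.node (.node (.leaf 806) (.leaf 2147)) (.leaf 1505))))) (.node (.node (.node (.node (.node (.leaf 63) (.leaf 1643)) (.leaf 868)) (.node (.node (.leaf 711) (.leaf 1963)) (.leaf 1143))) (.node (.node (.node (.leaf 362) (.leaf 1770)) (.leaf 985)) (.node (.node (.leaf 788) (.leaf 2131)) (.leaf 1430)))) (.node (.node (.node (.node (.leaf 279) (.leaf 1698)) (.leaf 924)) (.node (.node (.leaf 743) (.leaf 2052)) (.leaf 1242))) (.node (.node (.node (.leaf 632) (.leaf 1853)) (.leaf 1065)) (.node (.leaf 828) (.leaf 1543))))))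
def dLive_8 : BT := .node (.node (.node (.node (.node (.node (.node (.leaf 6) (.leaf 1584)) (.leaf 842)) (.node (.node (.leaf 645) (.leaf 1885)) (.leaf 1093))) (.node (.node (.node (.leaf 291) (.leaf 1720)) (.leaf 944)) (.node (.node (.leaf 761) (.leaf 2081)) (.leaf 1299)))) (.node (.node (.node (.node (.leaf 110) (.leaf 1660)) (.leaf 882)) (.node (.node (.leaf 723) (.leaf 1999)) (.leaf 1175))) (.node (.node (.node (.leaf 406) (.leaf 1792)) (.leaf 1005)) (.node (.node (.leaf 801) (.leaf 2143)) (.leaf 1479))))) (.node (.node (.node (.node (.node (.leaf 48) (.leaf 1624)) (.leaf 860)) (.node (.node (.leaf 707) (.leaf 1934)) (.leaf 1132))) (.node (.node (.node (.leaf 358) (.leaf 1745)) (.leaf 981)) (.node (.node (.leaf 784) (.leaf 2123)) (.leaf 1403)))) (.node (.node (.node (.node (.leaf 275) (.leaf 1694)) (.leaf 918)) (.node (.node (.leaf 739) (.leaf 2036)) (.leaf 1236))) (.node (.node (.node (.leaf 614) (.leaf 1840)) (.leaf 1056)) (.node (.leaf 824) (.leaf 1537)))))) (.node (.node (.node (.node (.node (.node (.leaf 18)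 (.leaf 1613)) (.leaf 852)) (.node (.node (.leaf 653) (.leaf 1901)) (.leaf 1115))) (.node (.node (.node (.leaf 335) (.leaf 1737)) (.leaf 954)) (.node (.node (.leaf 771) (.leaf 2112)) (.leaf 1364)))) (.node (.node (.node (.node (.leaf 267) (.leaf 1672)) (.leaf 905)) (.node (.node (.leaf 731) (.leaf 2021)) (.leaf 1208))) (.node (.node (.node (.leaf 570) (.leaf 1808)) (.leaf 1035)) (.node (.node (.leaf 814) (.leaf 2151)) (.leaf 1517))))) (.node (.node (.node (.node (.node (.leaf 67) (.leaf 1651)) (.leaf 873)) (.node (.node (.leaf 715) (.leaf 1985)) (.leaf 1159))) (.node (.node (.node (.leaf 367) (.leaf 1776)) (.leaf 990)) (.node (.node (.leaf 792) (.leaf 2135)) (.leaf 1444)))) (.node (.node (.node (.node (.leaf 283) (.leaf 1703)) (.leaf 928)) (.node (.node (.leaf 748) (.leaf 2060)) (.leaf 1256))) (.node (.node (.node (.leaf 637) (.leaf 1868)) (.leaf 1080)) (.node (.leaf 833) (.leaf 1576))))))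
def dLive_9 : BT := .node dLive_7 dLive_8
def dLive_10 : BT := .node (.node (.node (.node (.node (.node (.node (.leaf 3) (.leaf 1582)) (.leaf 840)) (.node (.node (.leaf 643) (.leaf 1883)) (.leaf 1090))) (.node (.node (.node (.leaf 289) (.leaf 1713)) (.leaf 936)) (.node (.node (.leaf 758) (.leaf 2079)) (.leaf 1292)))) (.node (.node (.node (.node (.leaf 108) (.leaf 1658)) (.leaf 880)) (.node (.node (.leaf 721) (.leaf 1992)) (.leaf 1169))) (.node (.node (.node (.leaf 388) (.leaf 1786)) (.leaf 999)) (.node (.node (.leaf 799) (.leaf 2141)) (.leaf 1458))))) (.node (.node (.node (.node (.node (.leaf 40) (.leaf 1621)) (.leaf 858)) (.node (.node (.leaf 669) (.leaf 1932)) (.leaf 1126))) (.node (.node (.node (.leaf 341) (.leaf 1743)) (.leaf 972)) (.node (.node (.leaf 782) (.leaf 2120)) (.leaf 1401)))) (.node (.node (.node (.node (.leaf 273) (.leaf 1692)) (.leaf 914)) (.node (.node (.leaf 737) (.leaf 2029)) (.leaf 1220))) (.node (.node (.node (.leaf 602) (.leaf 1833)) (.leaf 1054)) (.node (.node (.leaf 822) (.leaf 2157)) (.leaf 1535))))))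 (.node (.node (.node (.node (.node (.node (.leaf 14) (.leaf 1611)) (.leaf 850)) (.node (.node (.leaf 651) (.leaf 1896)) (.leaf 1113))) (.node (.node (.node (.leaf 333) (.leaf 1733)) (.leaf 952)) (.node (.node (.leaf 768) (.leaf 2103)) (.leaf 1358)))) (.node (.node (.node (.node (.leaf 265) (.leaf 1669)) (.leaf 903)) (.node (.node (.leaf 729) (.leaf 2019)) (.leaf 1195))) (.node (.node (.node (.leaf 568) (.leaf 1805)) (.leaf 1014)) (.node (.node (.leaf 808) (.leaf 2149)) (.leaf 1514))))) (.node (.node (.node (.node (.node (.leaf 65) (.leaf 1649)) (.leaf 870)) (.node (.node (.leaf 713) (.leaf 1975)) (.leaf 1148))) (.node (.node (.node (.leaf 364) (.leaf 1773)) (.leaf 987)) (.node (.node (.leaf 790) (.leaf 2133)) (.leaf 1433)))) (.node (.node (.node (.node (.leaf 281) (.leaf 1700)) (.leaf 926)) (.node (.node (.leaf 746) (.leaf 2056)) (.leaf 1253))) (.node (.node (.node (.leaf 635) (.leaf 1855)) (.leaf 1067)) (.node (.leaf 830) (.leaf 1546))))))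
def dLive_11 : BT := .node (.node (.node (.node (.node (.node (.node (.leaf 8) (.leaf 1586)) (.leaf 845)) (.node (.node (.leaf 647) (.leaf 1889)) (.leaf 1104))) (.node (.node (.node (.leaf 329) (.leaf 1723)) (.leaf 946)) (.node (.node (.leaf 763) (.leaf 2088)) (.leaf 1308)))) (.node (.node (.node (.node (.leaf 134) (.leaf 1662)) (.leaf 893)) (.node (.node (.leaf 725) (.leaf 2010)) (.leaf 1184))) (.node (.node (.node (.leaf 459) (.leaf 1795)) (.leaf 1009)) (.node (.node (.leaf 803) (.leaf 2145)) (.leaf 1495))))) (.node (.node (.node (.node (.node (.leaf 56) (.leaf 1626)) (.leaf 862)) (.node (.node (.leaf 709) (.leaf 1936)) (.leaf 1138))) (.node (.node (.node (.leaf 360) (.leaf 1747)) (.leaf 983)) (.node (.node (.leaf 786) (.leaf 2125)) (.leaf 1405)))) (.node (.node (.node (.node (.leaf 277) (.leaf 1696)) (.leaf 920)) (.node (.node (.leaf 741) (.leaf 2049)) (.leaf 1239))) (.node (.node (.node (.leaf 629) (.leaf 1842)) (.leaf 1062)) (.node (.leaf 826) (.leaf 1539)))))) (.node (.node (.node (.node (.node (.node (.leaf 26)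 (.leaf 1615)) (.leaf 854)) (.node (.node (.leaf 655) (.leaf 1908)) (.leaf 1119))) (.node (.node (.node (.leaf 337) (.leaf 1739)) (.leaf 956)) (.node (.node (.leaf 773) (.leaf 2115)) (.leaf 1368)))) (.node (.node (.node (.node (.leaf 269) (.leaf 1674)) (.leaf 910)) (.node (.node (.leaf 733) (.leaf 2023)) (.leaf 1213))) (.node (.node (.node (.leaf 580) (.leaf 1810)) (.leaf 1047)) (.node (.node (.leaf 817) (.leaf 2153)) (.leaf 1530))))) (.node (.node (.node (.node (.node (.leaf 69) (.leaf 1654)) (.leaf 875)) (.node (.node (.leaf 717) (.leaf 1987)) (.leaf 1164))) (.node (.node (.node (.leaf 372) (.leaf 1779)) (.leaf 992)) (.node (.node (.leaf 794) (.leaf 2137)) (.leaf 1449)))) (.node (.node (.node (.node (.leaf 285) (.leaf 1705)) (.leaf 931)) (.node (.node (.leaf 752) (.leaf 2063)) (.leaf 1258))) (.node (.node (.node (.leaf 639) (.leaf 1870)) (.leaf 1083)) (.node (.leaf 835) (.leaf 1578))))))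
def dLive_12 : BT := .node dLive_10 dLive_11
def dLive_13 : BT := .node dLive_9 dLive_12
def dLive_14 : BT := .node dLive_6 dLive_13
def dLive : BT := dLive_14
def dPos_0 : BT := .node (.node (.node (.node (.node (.node (.node (.leaf 0) (.leaf 0)) (.leaf 0)) (.node (.leaf 0) (.leaf 500))) (.node (.node (.leaf 0) (.leaf 0)) (.node (.leaf 203) (.leaf 613)))) (.node (.node (.node (.leaf 0) (.leaf 0)) (.node (.leaf 128) (.leaf 0))) (.node (.node (.leaf 0) (.leaf 0)) (.node (.leaf 297) (.leaf 0))))) (.node (.node (.node (.node (.node (.leaf 26) (.leaf 717)) (.leaf 385)) (.node (.leaf 0) (.leaf 0))) (.node (.node (.leaf 0) (.leaf 0)) (.node (.leaf 252) (.leaf 0)))) (.node (.node (.node (.leaf 0) (.leaf 0)) (.node (.leaf 0) (.leaf 584))) (.node (.node (.leaf 0) (.leaf 0)) (.node (.leaf 0) (.leaf 0)))))) (.node (.node (.node (.node (.node (.node (.leaf 0) (.leaf 708)) (.leaf 373)) (.node (.leaf 0) (.leaf 0))) (.node (.node (.leaf 66) (.leaf 0)) (.node (.leaf 228) (.leaf 625)))) (.node (.node (.node (.leaf 0) (.leaf 423)) (.node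 (.leaf 0) (.leaf 567))) (.node (.node (.leaf 0) (.leaf 0)) (.node (.leaf 317) (.leaf 0))))) (.node (.node (.node (.node (.node (.leaf 0) (.leaf 742)) (.leaf 400)) (.node (.leaf 0) (.leaf 0))) (.node (.node (.leaf 0) (.leaf 0)) (.node (.leaf 0) (.leaf 0)))) (.node (.node (.node (.leaf 0) (.leaf 0)) (.node (.leaf 178) (.leaf 0))) (.node (.node (.leaf 0) (.leaf 0)) (.node (.leaf 351) (.leaf 0))))))
def dPos_1 : BT := .node (.node (.node (.node (.node (.node (.node (.leaf 0) (.leaf 0)) (.leaf 0)) (.node (.leaf 0) (.leaf 0))) (.node (.node (.leaf 50) (.leaf 0)) (.node (.leaf 213) (.leaf 621)))) (.node (.node (.node (.leaf 0) (.leaf 418)) (.node (.leaf 144) (.leaf 0))) (.node (.node (.leaf 0) (.leaf 0)) (.node (.leaf 305) (.leaf 663))))) (.node (.node (.node (.node (.node (.leaf 0) (.leaf 0)) (.leaf 391)) (.node (.leaf 0) (.leaf 0))) (.node (.node (.leaf 78) (.leaf 0)) (.node (.leaf 266) (.leaf 641)))) (.node (.node (.node (.leaf 0) (.leaf 0)) (.node (.leaf 162) (.leaf 596))) (.node (.node (.leaf 0) (.leaf 0)) (.node (.leaf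 0) (.leaf 0)))))) (.node (.node (.node (.node (.node (.node (.leaf 21) (.leaf 0)) (.leaf 0)) (.node (.leaf 0) (.leaf 517))) (.node (.node (.leaf 0) (.leaf 0)) (.node (.leaf 238) (.leaf 629)))) (.node (.node (.node (.leaf 0) (.leaf 0)) (.node (.leaf 0) (.leaf 578))) (.node (.node (.leaf 0) (.leaf 0)) (.node (.leaf 325) (.leaf 0))))) (.node (.node (.node (.node (.leaf 0) (.leaf 406)) (.node (.leaf 0) (.leaf 0))) (.node (.node (.leaf 94) (.leaf 0)) (.node (.leaf 291) (.leaf 654)))) (.node (.node (.node (.leaf 0) (.leaf 0)) (.node (.leaf 191) (.leaf 605))) (.node (.node (.leaf 0) (.leaf 0)) (.node (.leaf 0) (.leaf 0))))))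
def dPos_2 : BT := .node dPos_0 dPos_1
def dPos_3 : BT := .node (.node (.node (.node (.node (.node (.node (.leaf 7) (.leaf 699)) (.leaf 0)) (.node (.leaf 0) (.leaf 506))) (.node (.node (.leaf 0) (.leaf 450)) (.node (.leaf 0) (.leaf 0)))) (.node (.node (.node (.leaf 0) (.leaf 0)) (.node (.leaf 136) (.leaf 557))) (.node (.node (.leaf 0) (.leaf 0)) (.node (.leaf 300) (.leaf 0))))) (.node (.node (.node (.node (.node (.leaf 0) (.leaf 723)) (.leaf 390)) (.node (.leaf 0) (.leaf 0))) (.node (.node (.leaf 70) (.leaf 0)) (.node (.leaf 259) (.leaf 0)))) (.node (.node (.node (.leaf 0) (.leaf 0)) (.node (.leaf 154) (.leaf 0))) (.node (.node (.leaf 0) (.leaf 0)) (.node (.leaf 0) (.leaf 675)))))) (.node (.node (.node (.node (.node (.node (.leaf 19) (.leaf 711)) (.leaf 376)) (.node (.leaf 0) (.leaf 509))) (.node (.node (.leaf 0) (.leaf 0)) (.node (.leaf 235) (.leaf 0)))) (.node (.node (.node (.leaf 0) (.leaf 0)) (.node (.leaf 0) (.leaf 574))) (.node (.node (.leaf 0) (.leaf 478)) (.node (.leaf 323) (.leaf 0))))) (.node (.node (.node (.node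 (.node (.leaf 0) (.leaf 750)) (.leaf 0)) (.node (.leaf 0) (.leaf 0))) (.node (.node (.leaf 87) (.leaf 0)) (.node (.leaf 0) (.leaf 651)))) (.node (.node (.node (.leaf 0) (.leaf 445)) (.node (.leaf 0) (.leaf 0))) (.node (.node (.leaf 0) (.leaf 0)) (.node (.leaf 0) (.leaf 0))))))
def dPos_4 : BT := .node (.node (.node (.node (.node (.node (.node (.leaf 14) (.leaf 0)) (.leaf 368)) (.node (.leaf 0) (.leaf 0))) (.node (.node (.leaf 58) (.leaf 0)) (.node (.leaf 221) (.leaf 0)))) (.node (.node (.node (.leaf 0) (.leaf 422)) (.node (.leaf 0) (.leaf 0))) (.node (.node (.leaf 0) (.leaf 0)) (.node (.leaf 311) (.leaf 0))))) (.node (.node (.node (.node (.node (.leaf 0) (.leaf 734)) (.leaf 394)) (.node (.leaf 0) (.leaf 533))) (.node (.node (.leaf 0) (.leaf 463)) (.node (.leaf 273) (.leaf 0)))) (.node (.node (.node (.leaf 0) (.leaf 440)) (.node (.leaf 170) (.leaf 0))) (.node (.node (.leaf 0) (.leaf 488)) (.node (.leaf 344) (.leaf 0)))))) (.node (.node (.node (.node (.node (.node (.leaf 23) (.leaf 0)) (.leaf 381)) (.node (.leaf 107) (.leaf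 0))) (.node (.node (.leaf 0) (.leaf 0)) (.node (.leaf 245) (.leaf 0)))) (.node (.node (.node (.leaf 0) (.leaf 429)) (.node (.leaf 0) (.leaf 581))) (.node (.node (.leaf 0) (.leaf 0)) (.node (.leaf 331) (.leaf 0))))) (.node (.node (.node (.node (.leaf 0) (.leaf 0)) (.node (.leaf 121) (.leaf 545))) (.node (.node (.leaf 0) (.leaf 0)) (.node (.leaf 0) (.leaf 0)))) (.node (.node (.node (.leaf 0) (.leaf 0)) (.node (.leaf 0) (.leaf 610))) (.node (.node (.leaf 0) (.leaf 0)) (.node (.leaf 0) (.leaf 0))))))
def dPos_5 : BT := .node dPos_3 dPos_4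
def dPos_6 : BT := .node dPos_2 dPos_5
def dPos_7 : BT := .node (.node (.node (.node (.node (.node (.node (.leaf 4) (.leaf 697)) (.leaf 0)) (.node (.leaf 0) (.leaf 0))) (.node (.node (.leaf 0) (.leaf 0)) (.node (.leaf 206) (.leaf 0)))) (.node (.node (.node (.leaf 0) (.leaf 0)) (.node (.leaf 132) (.leaf 554))) (.node (.node (.leaf 99) (.leaf 0)) (.node (.leaf 0) (.leaf 0))))) (.node (.node (.node (.node (.node (.leaf 30) (.leaf 0)) (.leaf 388)) (.node (.leaf 111) (.leaf 0))) (.node (.node (.leaf 0) (.leaf 0)) (.node (.leaf 256) (.leaf 0)))) (.node (.node (.node (.leaf 0) (.leaf 435)) (.node (.leaf 150) (.leaf 586))) (.node (.node (.leaf 0) (.leaf 0)) (.node (.leaf 0) (.leaf 672)))))) (.node (.node (.node (.node (.node (.node (.leaf 0) (.leaf 0)) (.leaf 0)) (.node (.leaf 0) (.leaf 0))) (.node (.node (.leaf 0) (.leaf 0)) (.node (.leaf 232) (.leaf 0)))) (.node (.node (.node (.leaf 0) (.leaf 0)) (.node (.leaf 0) (.leaf 571))) (.node (.node (.leaf 0) (.leaf 477)) (.node (.leaf 320) (.leaf 0))))) (.node (.node (.node (.node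 (.node (.leaf 0) (.leaf 746)) (.leaf 0)) (.node (.leaf 0) (.leaf 0))) (.node (.node (.leaf 0) (.leaf 0)) (.node (.leaf 281) (.leaf 0)))) (.node (.node (.node (.leaf 0) (.leaf 0)) (.node (.leaf 182) (.leaf 0))) (.node (.node (.leaf 0) (.leaf 0)) (.node (.leaf 352) (.leaf 684))))))
def dPos_8 : BT := .node (.node (.node (.node (.node (.node (.node (.leaf 0) (.leaf 0)) (.leaf 0)) (.node (.leaf 0) (.leaf 0))) (.node (.node (.leaf 54) (.leaf 0)) (.node (.leaf 217) (.leaf 0)))) (.node (.node (.node (.leaf 0) (.leaf 0)) (.node (.leaf 0) (.leaf 561))) (.node (.node (.leaf 0) (.leaf 472)) (.node (.leaf 0) (.leaf 0))))) (.node (.node (.node (.node (.node (.leaf 0) (.leaf 730)) (.leaf 0)) (.node (.leaf 0) (.leaf 530))) (.node (.node (.leaf 82) (.leaf 461)) (.node (.leaf 269) (.leaf 0)))) (.node (.node (.node (.leaf 0) (.leaf 437)) (.node (.leaf 166) (.leaf 0))) (.node (.node (.leaf 0) (.leaf 0)) (.node (.leaf 0) (.leaf 0)))))) (.node (.node (.node (.node (.node (.node (.leaf 0) (.leaf 0)) (.leaf 0)) (.node (.leaf 0) (.leaf 521)))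 (.node (.node (.leaf 0) (.leaf 0)) (.node (.leaf 242) (.leaf 0)))) (.node (.node (.node (.leaf 0) (.leaf 0)) (.node (.leaf 0) (.leaf 0))) (.node (.node (.leaf 0) (.leaf 484)) (.node (.leaf 329) (.leaf 0))))) (.node (.node (.node (.node (.leaf 0) (.leaf 0)) (.node (.leaf 118) (.leaf 0))) (.node (.node (.leaf 95) (.leaf 0)) (.node (.leaf 0) (.leaf 655)))) (.node (.node (.node (.leaf 0) (.leaf 0)) (.node (.leaf 193) (.leaf 608))) (.node (.node (.leaf 0) (.leaf 0)) (.node (.leaf 362) (.leaf 693))))))
def dPos_9 : BT := .node dPos_7 dPos_8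
def dPos_10 : BT := .node (.node (.node (.node (.node (.node (.node (.leaf 0) (.leaf 701)) (.leaf 0)) (.node (.leaf 0) (.leaf 0))) (.node (.node (.leaf 46) (.leaf 451)) (.node (.leaf 209) (.leaf 0)))) (.node (.node (.node (.leaf 0) (.leaf 415)) (.node (.leaf 140) (.leaf 0))) (.node (.node (.leaf 0) (.leaf 0)) (.node (.leaf 0) (.leaf 659))))) (.node (.node (.node (.node (.node (.leaf 0) (.leaf 726)) (.leaf 0)) (.node (.leaf 0) (.leaf 524))) (.node (.node (.leaf 74) (.leaf 0)) (.node (.leaf 262) (.leaf 637)))) (.node (.node (.node (.leaf 0) (.leaf 0)) (.node (.leaf 158) (.leaf 592))) (.node (.node (.leaf 0) (.leaf 0)) (.node (.leaf 339) (.leaf 0)))))) (.node (.node (.node (.node (.node (.node (.leaf 0) (.leaf 0)) (.leaf 0)) (.node (.leaf 104) (.leaf 513))) (.node (.node (.leaf 0) (.leaf 0)) (.node (.leaf 0) (.leaf 0)))) (.node (.node (.node (.leaf 0) (.leaf 428)) (.node (.leaf 0) (.leaf 0))) (.node (.node (.leaf 0) (.leaf 0)) (.node (.leaf 0) (.leaf 0))))) (.node (.node (.node (.node (.node (.leaf 35) (.leaf 754)) (.leaf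 405)) (.node (.leaf 0) (.leaf 538))) (.node (.node (.leaf 91) (.leaf 465)) (.node (.leaf 288) (.leaf 652)))) (.node (.node (.node (.leaf 0) (.leaf 449)) (.node (.leaf 189) (.leaf 0))) (.node (.node (.leaf 0) (.leaf 492)) (.node (.leaf 0) (.leaf 690))))))
def dPos_11 : BT := .node (.node (.node (.node (.node (.node (.node (.leaf 0) (.leaf 0)) (.leaf 0)) (.node (.leaf 0) (.leaf 0))) (.node (.node (.leaf 62) (.leaf 455)) (.node (.leaf 0) (.leaf 0)))) (.node (.node (.node (.leaf 0) (.leaf 0)) (.node (.leaf 146) (.leaf 563))) (.node (.node (.leaf 0) (.leaf 0)) (.node (.leaf 313) (.leaf 0))))) (.node (.node (.node (.node (.node (.leaf 0) (.leaf 738)) (.leaf 0)) (.node (.leaf 0) (.leaf 0))) (.node (.node (.leaf 0) (.leaf 0)) (.node (.leaf 277) (.leaf 644)))) (.node (.node (.node (.leaf 0) (.leaf 442)) (.node (.leaf 174) (.leaf 0))) (.node (.node (.leaf 0) (.leaf 0)) (.node (.leaf 0) (.leaf 0)))))) (.node (.node (.node (.node (.node (.node (.leaf 0) (.leaf 716)) (.leaf 0)) (.node (.leaf 0) (.leaf 0))) (.node (.node (.leaf 0)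 (.leaf 0)) (.node (.leaf 249) (.leaf 632)))) (.node (.node (.node (.leaf 0) (.leaf 430)) (.node (.leaf 0) (.leaf 0))) (.node (.node (.leaf 0) (.leaf 0)) (.node (.leaf 335) (.leaf 0))))) (.node (.node (.node (.node (.leaf 0) (.leaf 411)) (.node (.leaf 124) (.leaf 549))) (.node (.node (.leaf 96) (.leaf 470)) (.node (.leaf 0) (.leaf 656)))) (.node (.node (.node (.leaf 0) (.leaf 0)) (.node (.leaf 200) (.leaf 0))) (.node (.node (.leaf 0) (.leaf 496)) (.node (.leaf 0) (.leaf 0))))))
def dPos_12 : BT := .node dPos_10 dPos_11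
def dPos_13 : BT := .node dPos_9 dPos_12
def dPos_14 : BT := .node dPos_6 dPos_13
def dPos_15 : BT := .node (.node (.node (.node (.node (.node (.node (.leaf 2) (.leaf 696)) (.leaf 0)) (.node (.leaf 0) (.leaf 502))) (.node (.node (.leaf 0) (.leaf 0)) (.node (.leaf 0) (.leaf 614)))) (.node (.node (.node (.leaf 0) (.leaf 0)) (.node (.leaf 130) (.leaf 0))) (.node (.node (.leaf 0) (.leaf 0)) (.node (.leaf 0) (.leaf 0))))) (.node (.node (.node (.node (.node (.leaf 28) (.leaf 718)) (.leaf 387)) (.node (.leaf 0) (.leaf 0))) (.node (.node (.leaf 0) (.leaf 0)) (.node (.leaf 254) (.leaf 0)))) (.node (.node (.node (.leaf 0) (.leaf 433)) (.node (.leaf 148) (.leaf 0))) (.node (.node (.leaf 0) (.leaf 0)) (.node (.leaf 337) (.leaf 670)))))) (.node (.node (.node (.node (.node (.node (.leaf 0) (.leaf 0)) (.leaf 0)) (.node (.leaf 0) (.leaf 0))) (.node (.node (.leaf 68) (.leaf 0)) (.node (.leaf 230) (.leaf 0)))) (.node (.node (.node (.leaf 0) (.leaf 0)) (.node (.leaf 0) (.leaf 569))) (.node (.node (.leaf 0) (.leaf 0)) (.node (.leaf 0) (.leaf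 0))))) (.node (.node (.node (.node (.node (.leaf 0) (.leaf 744)) (.leaf 402)) (.node (.leaf 0) (.leaf 0))) (.node (.node (.leaf 0) (.leaf 0)) (.node (.leaf 0) (.leaf 0)))) (.node (.node (.node (.leaf 0) (.leaf 0)) (.node (.leaf 180) (.leaf 0))) (.node (.node (.leaf 0) (.leaf 0)) (.node (.leaf 0) (.leaf 0))))))
def dPos_16 : BT := .node (.node (.node (.node (.node (.node (.node (.leaf 13) (.leaf 0)) (.leaf 0)) (.node (.leaf 0) (.leaf 0))) (.node (.node (.leaf 52) (.leaf 0)) (.node (.leaf 215) (.leaf 623)))) (.node (.node (.node (.leaf 0) (.leaf 0)) (.node (.leaf 0) (.leaf 0))) (.node (.node (.leaf 0) (.leaf 0)) (.node (.leaf 307) (.leaf 0))))) (.node (.node (.node (.node (.node (.leaf 0) (.leaf 0)) (.leaf 0)) (.node (.leaf 0) (.leaf 528))) (.node (.node (.leaf 80) (.leaf 0)) (.node (.leaf 267) (.leaf 0)))) (.node (.node (.node (.leaf 0) (.leaf 0)) (.node (.leaf 164) (.leaf 598))) (.node (.node (.leaf 0) (.leaf 0)) (.node (.leaf 340) (.leaf 0)))))) (.node (.node (.node (.node (.node (.node (.leaf 0) (.leaf 0)) (.leaf 0))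 (.node (.leaf 0) (.leaf 519))) (.node (.node (.leaf 0) (.leaf 0)) (.node (.leaf 240) (.leaf 631)))) (.node (.node (.node (.leaf 0) (.leaf 0)) (.node (.leaf 0) (.leaf 0))) (.node (.node (.leaf 0) (.leaf 483)) (.node (.leaf 327) (.leaf 0))))) (.node (.node (.node (.node (.leaf 0) (.leaf 407)) (.node (.leaf 0) (.leaf 540))) (.node (.node (.leaf 0) (.leaf 0)) (.node (.leaf 293) (.leaf 0)))) (.node (.node (.node (.leaf 0) (.leaf 0)) (.node (.leaf 0) (.leaf 0))) (.node (.node (.leaf 0) (.leaf 0)) (.node (.leaf 360) (.leaf 0))))))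
def dPos_17 : BT := .node dPos_15 dPos_16
def dPos_18 : BT := .node (.node (.node (.node (.node (.node (.node (.leaf 9) (.leaf 700)) (.leaf 0)) (.node (.leaf 0) (.leaf 507))) (.node (.node (.leaf 44) (.leaf 0)) (.node (.leaf 0) (.leaf 0)))) (.node (.node (.node (.leaf 0) (.leaf 414)) (.node (.leaf 138) (.leaf 559))) (.node (.node (.leaf 0) (.leaf 0)) (.node (.leaf 0) (.leaf 658))))) (.node (.node (.node (.node (.node (.leaf 0) (.leaf 724)) (.leaf 0)) (.node (.leaf 0) (.leaf 0))) (.node (.node (.leaf 72) (.leaf 0)) (.node (.leaf 261) (.leaf 0)))) (.node (.node (.node (.leaf 0) (.leaf 0)) (.node (.leaf 156) (.leaf 590))) (.node (.node (.leaf 102) (.leaf 0)) (.node (.leaf 0) (.leaf 0)))))) (.node (.node (.node (.node (.node (.node (.leaf 0) (.leaf 0)) (.leaf 378)) (.node (.leaf 0) (.leaf 511))) (.node (.node (.leaf 0) (.leaf 0)) (.node (.leaf 0) (.leaf 628)))) (.node (.node (.node (.leaf 0) (.leaf 0)) (.node (.leaf 0) (.leaf 576))) (.node (.node (.leaf 0) (.leaf 480)) (.node (.leaf 324) (.leaf 0))))) (.node (.node (.node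 (.node (.node (.leaf 33) (.leaf 752)) (.leaf 0)) (.node (.leaf 0) (.leaf 0))) (.node (.node (.leaf 89) (.leaf 0)) (.node (.leaf 286) (.leaf 0)))) (.node (.node (.node (.leaf 0) (.leaf 447)) (.node (.leaf 187) (.leaf 601))) (.node (.node (.leaf 0) (.leaf 491)) (.node (.leaf 0) (.leaf 688))))))
def dPos_19 : BT := .node (.node (.node (.node (.node (.node (.node (.leaf 15) (.leaf 0)) (.leaf 370)) (.node (.leaf 0) (.leaf 0))) (.node (.node (.leaf 60) (.leaf 454)) (.node (.leaf 223) (.leaf 0)))) (.node (.node (.node (.leaf 0) (.leaf 0)) (.node (.leaf 0) (.leaf 0))) (.node (.node (.leaf 0) (.leaf 0)) (.node (.leaf 312) (.leaf 0))))) (.node (.node (.node (.node (.node (.leaf 0) (.leaf 736)) (.leaf 396)) (.node (.leaf 115) (.leaf 535))) (.node (.node (.leaf 0) (.leaf 0)) (.node (.leaf 275) (.leaf 0)))) (.node (.node (.node (.leaf 0) (.leaf 441)) (.node (.leaf 172) (.leaf 0))) (.node (.node (.leaf 0) (.leaf 0)) (.node (.leaf 346) (.leaf 679)))))) (.node (.node (.node (.node (.node (.node (.leaf 0) (.leaf 0)) (.leaf 0)) (.node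 (.leaf 109) (.leaf 0))) (.node (.node (.leaf 0) (.leaf 457)) (.node (.leaf 247) (.leaf 0)))) (.node (.node (.node (.leaf 0) (.leaf 0)) (.node (.leaf 0) (.leaf 0))) (.node (.node (.leaf 0) (.leaf 0)) (.node (.leaf 333) (.leaf 0))))) (.node (.node (.node (.node (.leaf 0) (.leaf 0)) (.node (.leaf 122) (.leaf 547))) (.node (.node (.leaf 0) (.leaf 468)) (.node (.leaf 0) (.leaf 0)))) (.node (.node (.node (.leaf 0) (.leaf 0)) (.node (.leaf 198) (.leaf 611))) (.node (.node (.leaf 0) (.leaf 495)) (.node (.leaf 0) (.leaf 0))))))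
def dPos_20 : BT := .node dPos_18 dPos_19
def dPos_21 : BT := .node dPos_17 dPos_20
def dPos_22 : BT := .node (.node (.node (.node (.node (.node (.node (.leaf 5) (.leaf 0)) (.leaf 0)) (.node (.leaf 0) (.leaf 0))) (.node (.node (.leaf 0) (.leaf 0)) (.node (.leaf 0) (.leaf 617)))) (.node (.node (.node (.leaf 39) (.leaf 0)) (.node (.leaf 134) (.leaf 556))) (.node (.node (.leaf 0) (.leaf 0)) (.node (.leaf 0) (.leaf 657))))) (.node (.node (.node (.node (.node (.leaf 0) (.leaf 721)) (.leaf 0)) (.node (.leaf 113) (.leaf 0))) (.node (.node (.leaf 0) (.leaf 0)) (.node (.leaf 0) (.leaf 0)))) (.node (.node (.node (.leaf 0) (.leaf 436)) (.node (.leaf 152) (.leaf 0))) (.node (.node (.leaf 0) (.leaf 0)) (.node (.leaf 0) (.leaf 674)))))) (.node (.node (.node (.node (.node (.node (.leaf 0) (.leaf 0)) (.leaf 375)) (.node (.leaf 0) (.leaf 0))) (.node (.node (.leaf 0) (.leaf 0)) (.node (.leaf 233) (.leaf 0)))) (.node (.node (.node (.leaf 0) (.leaf 424)) (.node (.leaf 0) (.leaf 0))) (.node (.node (.leaf 0) (.leaf 0)) (.node (.leaf 321) (.leaf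 0))))) (.node (.node (.node (.node (.node (.leaf 0) (.leaf 748)) (.leaf 403)) (.node (.leaf 117) (.leaf 0))) (.node (.node (.leaf 85) (.leaf 0)) (.node (.leaf 283) (.leaf 649)))) (.node (.node (.node (.leaf 0) (.leaf 444)) (.node (.leaf 184) (.leaf 0))) (.node (.node (.leaf 0) (.leaf 0)) (.node (.leaf 354) (.leaf 686))))))
def dPos_23 : BT := .node (.node (.node (.node (.node (.node (.node (.leaf 0) (.leaf 0)) (.leaf 366)) (.node (.leaf 0) (.leaf 0))) (.node (.node (.leaf 56) (.leaf 0)) (.node (.leaf 219) (.leaf 0)))) (.node (.node (.node (.leaf 0) (.leaf 420)) (.node (.leaf 0) (.leaf 562))) (.node (.node (.leaf 101) (.leaf 473)) (.node (.leaf 309) (.leaf 0))))) (.node (.node (.node (.node (.node (.leaf 0) (.leaf 732)) (.leaf 0)) (.node (.leaf 0) (.leaf 532))) (.node (.node (.leaf 0) (.leaf 0)) (.node (.leaf 271) (.leaf 0)))) (.node (.node (.node (.leaf 0) (.leaf 0)) (.node (.leaf 168) (.leaf 0))) (.node (.node (.leaf 0) (.leaf 486)) (.node (.leaf 342) (.leaf 0)))))) (.node (.node (.node (.node (.node (.node (.leaf 0)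 (.leaf 714)) (.leaf 0)) (.node (.leaf 106) (.leaf 0))) (.node (.node (.leaf 0) (.leaf 0)) (.node (.leaf 243) (.leaf 0)))) (.node (.node (.node (.leaf 0) (.leaf 0)) (.node (.leaf 0) (.leaf 0))) (.node (.node (.leaf 0) (.leaf 0)) (.node (.leaf 0) (.leaf 0))))) (.node (.node (.node (.node (.leaf 0) (.leaf 408)) (.node (.leaf 120) (.leaf 543))) (.node (.node (.leaf 0) (.leaf 0)) (.node (.leaf 0) (.leaf 0)))) (.node (.node (.node (.leaf 0) (.leaf 0)) (.node (.leaf 195) (.leaf 0))) (.node (.node (.leaf 0) (.leaf 0)) (.node (.leaf 363) (.leaf 0))))))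
def dPos_24 : BT := .node dPos_22 dPos_23
def dPos_25 : BT := .node (.node (.node (.node (.node (.node (.node (.leaf 11) (.leaf 702)) (.leaf 0)) (.node (.leaf 0) (.leaf 0))) (.node (.node (.leaf 48) (.leaf 0)) (.node (.leaf 211) (.leaf 0)))) (.node (.node (.node (.leaf 0) (.leaf 416)) (.node (.leaf 142) (.leaf 0))) (.node (.node (.leaf 0) (.leaf 0)) (.node (.leaf 303) (.leaf 661))))) (.node (.node (.node (.node (.node (.leaf 0) (.leaf 0)) (.leaf 0)) (.node (.leaf 0) (.leaf 526))) (.node (.node (.leaf 76) (.leaf 459)) (.node (.leaf 264) (.leaf 639)))) (.node (.node (.node (.leaf 0) (.leaf 0)) (.node (.leaf 160) (.leaf 594))) (.node (.node (.leaf 0) (.leaf 0)) (.node (.leaf 0) (.leaf 0)))))) (.node (.node (.node (.node (.node (.node (.leaf 0) (.leaf 0)) (.leaf 0)) (.node (.leaf 0) (.leaf 515))) (.node (.node (.leaf 0) (.leaf 0)) (.node (.leaf 237) (.leaf 0)))) (.node (.node (.node (.leaf 0) (.leaf 0)) (.node (.leaf 0) (.leaf 0))) (.node (.node (.leaf 0) (.leaf 481)) (.node (.leaf 0) (.leaf 0))))) (.node (.node (.node (.node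 (.leaf 37) (.leaf 0)) (.node (.leaf 0) (.leaf 0))) (.node (.node (.leaf 0) (.leaf 0)) (.node (.leaf 290) (.leaf 0)))) (.node (.node (.node (.leaf 0) (.leaf 0)) (.node (.leaf 0) (.leaf 0))) (.node (.node (.leaf 0) (.leaf 0)) (.node (.leaf 358) (.leaf 0))))))
def dPos_26 : BT := .node (.node (.node (.node (.node (.node (.node (.leaf 18) (.leaf 0)) (.leaf 371)) (.node (.leaf 0) (.leaf 0))) (.node (.node (.leaf 64) (.leaf 0)) (.node (.leaf 226) (.leaf 0)))) (.node (.node (.node (.leaf 0) (.leaf 0)) (.node (.leaf 0) (.leaf 565))) (.node (.node (.leaf 0) (.leaf 0)) (.node (.leaf 315) (.leaf 0))))) (.node (.node (.node (.node (.node (.leaf 0) (.leaf 740)) (.leaf 0)) (.node (.leaf 0) (.leaf 0))) (.node (.node (.leaf 0) (.leaf 0)) (.node (.leaf 279) (.leaf 0)))) (.node (.node (.node (.leaf 0) (.leaf 0)) (.node (.leaf 176) (.leaf 0))) (.node (.node (.leaf 0) (.leaf 0)) (.node (.leaf 349) (.leaf 681)))))) (.node (.node (.node (.node (.node (.node (.leaf 0) (.leaf 0)) (.leaf 0)) (.node (.leaf 0) (.leaf 0))) (.node (.node (.leaf 0)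 (.leaf 0)) (.node (.leaf 251) (.leaf 634)))) (.node (.node (.node (.leaf 0) (.leaf 432)) (.node (.leaf 0) (.leaf 0))) (.node (.node (.leaf 0) (.leaf 0)) (.node (.leaf 336) (.leaf 0))))) (.node (.node (.node (.node (.leaf 0) (.leaf 0)) (.node (.leaf 126) (.leaf 551))) (.node (.node (.leaf 0) (.leaf 0)) (.node (.leaf 0) (.leaf 0)))) (.node (.node (.node (.leaf 0) (.leaf 0)) (.node (.leaf 202) (.leaf 0))) (.node (.node (.leaf 0) (.leaf 498)) (.node (.leaf 0) (.leaf 694))))))
def dPos_27 : BT := .node dPos_25 dPos_26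
def dPos_28 : BT := .node dPos_24 dPos_27
def dPos_29 : BT := .node dPos_21 dPos_28
def dPos_30 : BT := .node dPos_14 dPos_29
def dPos_31 : BT := .node (.node (.node (.node (.node (.node (.node (.leaf 1) (.leaf 695)) (.leaf 0)) (.node (.leaf 0) (.leaf 501))) (.node (.node (.leaf 42) (.leaf 0)) (.node (.leaf 204) (.leaf 0)))) (.node (.node (.node (.leaf 0) (.leaf 0)) (.node (.leaf 129) (.leaf 0))) (.node (.node (.leaf 97) (.leaf 0)) (.node (.leaf 298) (.leaf 0))))) (.node (.node (.node (.node (.node (.leaf 27) (.leaf 0)) (.leaf 386)) (.node (.leaf 0) (.leaf 0))) (.node (.node (.leaf 0) (.leaf 0)) (.node (.leaf 253) (.leaf 0)))) (.node (.node (.node (.leaf 0) (.leaf 0)) (.node (.leaf 0) (.leaf 0))) (.node (.node (.leaf 0) (.leaf 0)) (.node (.leaf 0) (.leaf 669)))))) (.node (.node (.node (.node (.node (.node (.leaf 0) (.leaf 709)) (.leaf 374)) (.node (.leaf 0) (.leaf 0))) (.node (.node (.leaf 67) (.leaf 0)) (.node (.leaf 229) (.leaf 626)))) (.node (.node (.node (.leaf 0) (.leaf 0)) (.node (.leaf 0) (.leaf 568))) (.node (.node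 (.leaf 0) (.leaf 0)) (.node (.leaf 318) (.leaf 0))))) (.node (.node (.node (.node (.node (.leaf 0) (.leaf 743)) (.leaf 401)) (.node (.leaf 0) (.leaf 0))) (.node (.node (.leaf 0) (.leaf 0)) (.node (.leaf 0) (.leaf 647)))) (.node (.node (.node (.leaf 0) (.leaf 0)) (.node (.leaf 179) (.leaf 0))) (.node (.node (.leaf 0) (.leaf 489)) (.node (.leaf 0) (.leaf 0))))))
def dPos_32 : BT := .node (.node (.node (.node (.node (.node (.node (.leaf 12) (.leaf 0)) (.leaf 0)) (.node (.leaf 0) (.leaf 0))) (.node (.node (.leaf 51) (.leaf 0)) (.node (.leaf 214) (.leaf 622)))) (.node (.node (.node (.leaf 0) (.leaf 419)) (.node (.leaf 0) (.leaf 0))) (.node (.node (.leaf 0) (.leaf 0)) (.node (.leaf 306) (.leaf 0))))) (.node (.node (.node (.node (.node (.leaf 0) (.leaf 728)) (.leaf 0)) (.node (.leaf 0) (.leaf 0))) (.node (.node (.leaf 79) (.leaf 0)) (.node (.leaf 0) (.leaf 642)))) (.node (.node (.node (.leaf 0) (.leaf 0)) (.node (.leaf 163) (.leaf 597))) (.node (.node (.leaf 0) (.leaf 0)) (.node (.leaf 0) (.leaf 0)))))) (.node (.node (.node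 (.node (.node (.node (.leaf 0) (.leaf 0)) (.leaf 0)) (.node (.leaf 0) (.leaf 518))) (.node (.node (.leaf 0) (.leaf 0)) (.node (.leaf 239) (.leaf 630)))) (.node (.node (.node (.leaf 0) (.leaf 0)) (.node (.leaf 0) (.leaf 579))) (.node (.node (.leaf 0) (.leaf 0)) (.node (.leaf 326) (.leaf 0))))) (.node (.node (.node (.node (.leaf 0) (.leaf 0)) (.node (.leaf 0) (.leaf 539))) (.node (.node (.leaf 0) (.leaf 0)) (.node (.leaf 292) (.leaf 0)))) (.node (.node (.node (.leaf 0) (.leaf 0)) (.node (.leaf 192) (.leaf 606))) (.node (.node (.leaf 0) (.leaf 0)) (.node (.leaf 359) (.leaf 692))))))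
def dPos_33 : BT := .node dPos_31 dPos_32
def dPos_34 : BT := .node (.node (.node (.node (.node (.node (.node (.leaf 8) (.leaf 0)) (.leaf 0)) (.node (.leaf 0) (.leaf 0))) (.node (.node (.leaf 43) (.leaf 0)) (.node (.leaf 0) (.leaf 0)))) (.node (.node (.node (.leaf 40) (.leaf 0)) (.node (.leaf 137) (.leaf 558))) (.node (.node (.leaf 0) (.leaf 0)) (.node (.leaf 301) (.leaf 0))))) (.node (.node (.node (.node (.node (.leaf 0) (.leaf 0)) (.leaf 0)) (.node (.leaf 0) (.leaf 0))) (.node (.node (.leaf 71) (.leaf 0)) (.node (.leaf 260) (.leaf 0)))) (.node (.node (.node (.leaf 0) (.leaf 0)) (.node (.leaf 155) (.leaf 589))) (.node (.node (.leaf 0) (.leaf 0)) (.node (.leaf 0) (.leaf 0)))))) (.node (.node (.node (.node (.node (.node (.leaf 0) (.leaf 0)) (.leaf 377)) (.node (.leaf 0) (.leaf 510))) (.node (.node (.leaf 0) (.leaf 0)) (.node (.leaf 236) (.leaf 627)))) (.node (.node (.node (.leaf 0) (.leaf 426)) (.node (.leaf 0) (.leaf 575))) (.node (.node (.leaf 0) (.leaf 479)) (.node (.leaf 0) (.leaf 0))))) (.node (.node (.node (.node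 (.node (.leaf 32) (.leaf 751)) (.leaf 0)) (.node (.leaf 0) (.leaf 0))) (.node (.node (.leaf 88) (.leaf 0)) (.node (.leaf 285) (.leaf 0)))) (.node (.node (.node (.leaf 0) (.leaf 446)) (.node (.leaf 186) (.leaf 0))) (.node (.node (.leaf 0) (.leaf 0)) (.node (.leaf 0) (.leaf 0))))))
def dPos_35 : BT := .node (.node (.node (.node (.node (.node (.node (.leaf 0) (.leaf 0)) (.leaf 369)) (.node (.leaf 0) (.leaf 0))) (.node (.node (.leaf 59) (.leaf 0)) (.node (.leaf 222) (.leaf 0)))) (.node (.node (.node (.leaf 0) (.leaf 0)) (.node (.leaf 0) (.leaf 0))) (.node (.node (.leaf 0) (.leaf 475)) (.node (.leaf 0) (.leaf 0))))) (.node (.node (.node (.node (.node (.leaf 0) (.leaf 735)) (.leaf 395)) (.node (.leaf 0) (.leaf 534))) (.node (.node (.leaf 0) (.leaf 0)) (.node (.leaf 274) (.leaf 0)))) (.node (.node (.node (.leaf 0) (.leaf 0)) (.node (.leaf 171) (.leaf 0))) (.node (.node (.leaf 0) (.leaf 0)) (.node (.leaf 345) (.leaf 678)))))) (.node (.node (.node (.node (.node (.node (.leaf 24) (.leaf 0)) (.leaf 382)) (.node (.leaf 108) (.leaf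 0))) (.node (.node (.leaf 0) (.leaf 0)) (.node (.leaf 246) (.leaf 0)))) (.node (.node (.node (.leaf 0) (.leaf 0)) (.node (.leaf 0) (.leaf 582))) (.node (.node (.leaf 0) (.leaf 0)) (.node (.leaf 332) (.leaf 0))))) (.node (.node (.node (.node (.leaf 0) (.leaf 0)) (.node (.leaf 0) (.leaf 546))) (.node (.node (.leaf 0) (.leaf 467)) (.node (.leaf 0) (.leaf 0)))) (.node (.node (.node (.leaf 0) (.leaf 0)) (.node (.leaf 197) (.leaf 0))) (.node (.node (.leaf 0) (.leaf 494)) (.node (.leaf 0) (.leaf 0))))))
def dPos_36 : BT := .node dPos_34 dPos_35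
def dPos_37 : BT := .node dPos_33 dPos_36
def dPos_38 : BT := .node (.node (.node (.node (.node (.node (.node (.leaf 0) (.leaf 698)) (.leaf 0)) (.node (.leaf 0) (.leaf 504))) (.node (.node (.leaf 0) (.leaf 0)) (.node (.leaf 207) (.leaf 616)))) (.node (.node (.node (.leaf 38) (.leaf 0)) (.node (.leaf 133) (.leaf 555))) (.node (.node (.leaf 0) (.leaf 0)) (.node (.leaf 0) (.leaf 0))))) (.node (.node (.node (.node (.node (.leaf 31) (.leaf 720)) (.leaf 389)) (.node (.leaf 112) (.leaf 0))) (.node (.node (.leaf 0) (.leaf 458)) (.node (.leaf 257) (.leaf 0)))) (.node (.node (.node (.leaf 0) (.leaf 0)) (.node (.leaf 151) (.leaf 587))) (.node (.node (.leaf 0) (.leaf 0)) (.node (.leaf 0) (.leaf 673)))))) (.node (.node (.node (.node (.node (.node (.leaf 0) (.leaf 0)) (.leaf 0)) (.node (.leaf 0) (.leaf 0))) (.node (.node (.leaf 0) (.leaf 0)) (.node (.leaf 0) (.leaf 0)))) (.node (.node (.node (.leaf 0) (.leaf 0)) (.node (.leaf 0) (.leaf 572))) (.node (.node (.leaf 0) (.leaf 0)) (.node (.leaf 0) (.leaf 0))))) (.node (.node (.node (.node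 (.node (.leaf 0) (.leaf 747)) (.leaf 0)) (.node (.leaf 0) (.leaf 0))) (.node (.node (.leaf 84) (.leaf 0)) (.node (.leaf 282) (.leaf 648)))) (.node (.node (.node (.leaf 0) (.leaf 443)) (.node (.leaf 183) (.leaf 0))) (.node (.node (.leaf 0) (.leaf 490)) (.node (.leaf 353) (.leaf 685))))))
def dPos_39 : BT := .node (.node (.node (.node (.node (.node (.node (.leaf 0) (.leaf 704)) (.leaf 0)) (.node (.leaf 0) (.leaf 0))) (.node (.node (.leaf 55) (.leaf 0)) (.node (.leaf 218) (.leaf 0)))) (.node (.node (.node (.leaf 0) (.leaf 0)) (.node (.leaf 145) (.leaf 0))) (.node (.node (.leaf 100) (.leaf 0)) (.node (.leaf 0) (.leaf 0))))) (.node (.node (.node (.node (.node (.leaf 0) (.leaf 731)) (.leaf 0)) (.node (.leaf 0) (.leaf 531))) (.node (.node (.leaf 83) (.leaf 0)) (.node (.leaf 270) (.leaf 0)))) (.node (.node (.node (.leaf 0) (.leaf 438)) (.node (.leaf 167) (.leaf 600))) (.node (.node (.leaf 0) (.leaf 0)) (.node (.leaf 341) (.leaf 0)))))) (.node (.node (.node (.node (.node (.node (.leaf 0) (.leaf 713)) (.leaf 380)) (.node (.leaf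 0) (.leaf 0))) (.node (.node (.leaf 0) (.leaf 0)) (.node (.leaf 0) (.leaf 0)))) (.node (.node (.node (.leaf 0) (.leaf 0)) (.node (.leaf 0) (.leaf 0))) (.node (.node (.leaf 0) (.leaf 0)) (.node (.leaf 330) (.leaf 0))))) (.node (.node (.node (.node (.leaf 0) (.leaf 0)) (.node (.leaf 119) (.leaf 542))) (.node (.node (.leaf 0) (.leaf 0)) (.node (.leaf 0) (.leaf 0)))) (.node (.node (.node (.leaf 0) (.leaf 0)) (.node (.leaf 194) (.leaf 0))) (.node (.node (.leaf 0) (.leaf 0)) (.node (.leaf 0) (.leaf 0))))))
def dPos_40 : BT := .node dPos_38 dPos_39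
def dPos_41 : BT := .node (.node (.node (.node (.node (.node (.node (.leaf 10) (.leaf 0)) (.leaf 0)) (.node (.leaf 0) (.leaf 0))) (.node (.node (.leaf 47) (.leaf 452)) (.node (.leaf 210) (.leaf 619)))) (.node (.node (.node (.leaf 0) (.leaf 0)) (.node (.leaf 141) (.leaf 0))) (.node (.node (.leaf 0) (.leaf 0)) (.node (.leaf 302) (.leaf 660))))) (.node (.node (.node (.node (.node (.leaf 0) (.leaf 727)) (.leaf 0)) (.node (.leaf 0) (.leaf 525))) (.node (.node (.leaf 75) (.leaf 0)) (.node (.leaf 263) (.leaf 638)))) (.node (.node (.node (.leaf 0) (.leaf 0)) (.node (.leaf 159) (.leaf 593))) (.node (.node (.leaf 0) (.leaf 0)) (.node (.leaf 0) (.leaf 0)))))) (.node (.node (.node (.node (.node (.node (.leaf 0) (.leaf 712)) (.leaf 0)) (.node (.leaf 105) (.leaf 514))) (.node (.node (.leaf 0) (.leaf 0)) (.node (.leaf 0) (.leaf 0)))) (.node (.node (.node (.leaf 0) (.leaf 0)) (.node (.leaf 0) (.leaf 0))) (.node (.node (.leaf 0) (.leaf 0)) (.node (.leaf 0) (.leaf 666))))) (.node (.node (.node (.node (.node (.leaf 36) (.leaf 755)) (.leaf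 0)) (.node (.leaf 0) (.leaf 0))) (.node (.node (.leaf 92) (.leaf 0)) (.node (.leaf 289) (.leaf 653)))) (.node (.node (.node (.leaf 0) (.leaf 0)) (.node (.leaf 190) (.leaf 603))) (.node (.node (.leaf 0) (.leaf 493)) (.node (.leaf 357) (.leaf 691))))))
def dPos_42 : BT := .node (.node (.node (.node (.node (.node (.node (.leaf 17) (.leaf 706)) (.leaf 0)) (.node (.leaf 0) (.leaf 0))) (.node (.node (.leaf 63) (.leaf 456)) (.node (.leaf 225) (.leaf 0)))) (.node (.node (.node (.leaf 0) (.leaf 0)) (.node (.leaf 147) (.leaf 564))) (.node (.node (.leaf 0) (.leaf 476)) (.node (.leaf 314) (.leaf 0))))) (.node (.node (.node (.node (.node (.leaf 0) (.leaf 739)) (.leaf 398)) (.node (.leaf 0) (.leaf 0))) (.node (.node (.leaf 0) (.leaf 0)) (.node (.leaf 278) (.leaf 645)))) (.node (.node (.node (.leaf 0) (.leaf 0)) (.node (.leaf 175) (.leaf 0))) (.node (.node (.leaf 0) (.leaf 0)) (.node (.leaf 348) (.leaf 0)))))) (.node (.node (.node (.node (.node (.node (.leaf 0) (.leaf 0)) (.leaf 0)) (.node (.leaf 0) (.leaf 0))) (.node (.node (.leaf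 0) (.leaf 0)) (.node (.leaf 250) (.leaf 633)))) (.node (.node (.node (.leaf 0) (.leaf 431)) (.node (.leaf 0) (.leaf 0))) (.node (.node (.leaf 0) (.leaf 0)) (.node (.leaf 0) (.leaf 0))))) (.node (.node (.node (.node (.leaf 0) (.leaf 0)) (.node (.leaf 125) (.leaf 550))) (.node (.node (.leaf 0) (.leaf 471)) (.node (.leaf 295) (.leaf 0)))) (.node (.node (.node (.leaf 0) (.leaf 0)) (.node (.leaf 201) (.leaf 0))) (.node (.node (.leaf 0) (.leaf 497)) (.node (.leaf 0) (.leaf 0))))))
def dPos_43 : BT := .node dPos_41 dPos_42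
def dPos_44 : BT := .node dPos_40 dPos_43
def dPos_45 : BT := .node dPos_37 dPos_44
def dPos_46 : BT := .node (.node (.node (.node (.node (.node (.node (.leaf 3) (.leaf 0)) (.leaf 0)) (.node (.leaf 0) (.leaf 503))) (.node (.node (.leaf 0) (.leaf 0)) (.node (.leaf 205) (.leaf 615)))) (.node (.node (.node (.leaf 0) (.leaf 412)) (.node (.leaf 131) (.leaf 553))) (.node (.node (.leaf 98) (.leaf 0)) (.node (.leaf 0) (.leaf 0))))) (.node (.node (.node (.node (.node (.leaf 29) (.leaf 719)) (.leaf 0)) (.node (.leaf 0) (.leaf 0))) (.node (.node (.leaf 0) (.leaf 0)) (.node (.leaf 255) (.leaf 0)))) (.node (.node (.node (.leaf 0) (.leaf 434)) (.node (.leaf 149) (.leaf 585))) (.node (.node (.leaf 0) (.leaf 0)) (.node (.leaf 0) (.leaf 671)))))) (.node (.node (.node (.node (.node (.node (.leaf 0) (.leaf 0)) (.leaf 0)) (.node (.leaf 0) (.leaf 0))) (.node (.node (.leaf 69) (.leaf 0)) (.node (.leaf 231) (.leaf 0)))) (.node (.node (.node (.leaf 0) (.leaf 0)) (.node (.leaf 0) (.leaf 570))) (.node (.node (.leaf 0) (.leaf 0)) (.node (.leaf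 319) (.leaf 0))))) (.node (.node (.node (.node (.node (.leaf 0) (.leaf 745)) (.leaf 0)) (.node (.leaf 0) (.leaf 0))) (.node (.node (.leaf 0) (.leaf 0)) (.node (.leaf 0) (.leaf 0)))) (.node (.node (.node (.leaf 0) (.leaf 0)) (.node (.leaf 181) (.leaf 0))) (.node (.node (.leaf 0) (.leaf 0)) (.node (.leaf 0) (.leaf 683))))))
def dPos_47 : BT := .node (.node (.node (.node (.node (.node (.node (.leaf 0) (.leaf 0)) (.leaf 0)) (.node (.leaf 0) (.leaf 0))) (.node (.node (.leaf 53) (.leaf 453)) (.node (.leaf 216) (.leaf 624)))) (.node (.node (.node (.leaf 0) (.leaf 0)) (.node (.leaf 0) (.leaf 0))) (.node (.node (.leaf 0) (.leaf 0)) (.node (.leaf 308) (.leaf 664))))) (.node (.node (.node (.node (.node (.leaf 0) (.leaf 729)) (.leaf 392)) (.node (.leaf 0) (.leaf 529))) (.node (.node (.leaf 81) (.leaf 0)) (.node (.leaf 268) (.leaf 0)))) (.node (.node (.node (.leaf 0) (.leaf 0)) (.node (.leaf 165) (.leaf 599))) (.node (.node (.leaf 0) (.leaf 0)) (.node (.leaf 0) (.leaf 0)))))) (.node (.node (.node (.node (.node (.node (.leaf 0) (.leaf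 0)) (.leaf 0)) (.node (.leaf 0) (.leaf 520))) (.node (.node (.leaf 0) (.leaf 0)) (.node (.leaf 241) (.leaf 0)))) (.node (.node (.node (.leaf 0) (.leaf 0)) (.node (.leaf 0) (.leaf 580))) (.node (.node (.leaf 0) (.leaf 0)) (.node (.leaf 328) (.leaf 0))))) (.node (.node (.node (.node (.leaf 0) (.leaf 0)) (.node (.leaf 0) (.leaf 541))) (.node (.node (.leaf 0) (.leaf 0)) (.node (.leaf 294) (.leaf 0)))) (.node (.node (.node (.leaf 0) (.leaf 0)) (.node (.leaf 0) (.leaf 607))) (.node (.node (.leaf 0) (.leaf 0)) (.node (.leaf 361) (.leaf 0))))))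
def dPos_48 : BT := .node dPos_46 dPos_47
def dPos_49 : BT := .node (.node (.node (.node (.node (.node (.node (.leaf 0) (.leaf 0)) (.leaf 365)) (.node (.leaf 0) (.leaf 0))) (.node (.node (.leaf 45) (.leaf 0)) (.node (.leaf 0) (.leaf 0)))) (.node (.node (.node (.leaf 0) (.leaf 0)) (.node (.leaf 139) (.leaf 560))) (.node (.node (.leaf 0) (.leaf 0)) (.node (.leaf 0) (.leaf 0))))) (.node (.node (.node (.node (.node (.leaf 0) (.leaf 725)) (.leaf 0)) (.node (.leaf 0) (.leaf 523))) (.node (.node (.leaf 73) (.leaf 0)) (.node (.leaf 0) (.leaf 0)))) (.node (.node (.node (.leaf 41) (.leaf 0)) (.node (.leaf 157) (.leaf 591))) (.node (.node (.leaf 103) (.leaf 0)) (.node (.leaf 338) (.leaf 676)))))) (.node (.node (.node (.node (.node (.node (.leaf 0) (.leaf 0)) (.leaf 379)) (.node (.leaf 0) (.leaf 512))) (.node (.node (.leaf 0) (.leaf 0)) (.node (.leaf 0) (.leaf 0)))) (.node (.node (.node (.leaf 0) (.leaf 427)) (.node (.leaf 0) (.leaf 577))) (.node (.node (.leaf 0) (.leaf 0)) (.node (.leaf 0) (.leaf 665))))) (.node (.node (.node (.node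 (.node (.leaf 34) (.leaf 753)) (.leaf 0)) (.node (.leaf 0) (.leaf 537))) (.node (.node (.leaf 90) (.leaf 0)) (.node (.leaf 287) (.leaf 0)))) (.node (.node (.node (.leaf 0) (.leaf 448)) (.node (.leaf 188) (.leaf 602))) (.node (.node (.leaf 0) (.leaf 0)) (.node (.leaf 356) (.leaf 689))))))
def dPos_50 : BT := .node (.node (.node (.node (.node (.node (.node (.leaf 16) (.leaf 0)) (.leaf 0)) (.node (.leaf 0) (.leaf 0))) (.node (.node (.leaf 61) (.leaf 0)) (.node (.leaf 224) (.leaf 0)))) (.node (.node (.node (.leaf 0) (.leaf 0)) (.node (.leaf 0) (.leaf 0))) (.node (.node (.leaf 0) (.leaf 0)) (.node (.leaf 0) (.leaf 0))))) (.node (.node (.node (.node (.node (.leaf 0) (.leaf 737)) (.leaf 397)) (.node (.leaf 116) (.leaf 536))) (.node (.node (.leaf 0) (.leaf 0)) (.node (.leaf 276) (.leaf 643)))) (.node (.node (.node (.leaf 0) (.leaf 0)) (.node (.leaf 173) (.leaf 0))) (.node (.node (.leaf 0) (.leaf 0)) (.node (.leaf 347) (.leaf 680)))))) (.node (.node (.node (.node (.node (.node (.leaf 0) (.leaf 0)) (.leaf 383)) (.node (.leaf 110)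 (.leaf 0))) (.node (.node (.leaf 0) (.leaf 0)) (.node (.leaf 248) (.leaf 0)))) (.node (.node (.node (.leaf 0) (.leaf 0)) (.node (.leaf 0) (.leaf 583))) (.node (.node (.leaf 0) (.leaf 0)) (.node (.leaf 334) (.leaf 0))))) (.node (.node (.node (.node (.leaf 0) (.leaf 410)) (.node (.leaf 123) (.leaf 548))) (.node (.node (.leaf 0) (.leaf 469)) (.node (.leaf 0) (.leaf 0)))) (.node (.node (.node (.leaf 0) (.leaf 0)) (.node (.leaf 199) (.leaf 0))) (.node (.node (.leaf 0) (.leaf 0)) (.node (.leaf 0) (.leaf 0))))))
def dPos_51 : BT := .node dPos_49 dPos_50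
def dPos_52 : BT := .node dPos_48 dPos_51
def dPos_53 : BT := .node (.node (.node (.node (.node (.node (.node (.leaf 6) (.leaf 0)) (.leaf 0)) (.node (.leaf 0) (.leaf 505))) (.node (.node (.leaf 0) (.leaf 0)) (.node (.leaf 208) (.leaf 618)))) (.node (.node (.node (.leaf 0) (.leaf 413)) (.node (.leaf 135) (.leaf 0))) (.node (.node (.leaf 0) (.leaf 0)) (.node (.leaf 299) (.leaf 0))))) (.node (.node (.node (.node (.node (.leaf 0) (.leaf 722)) (.leaf 0)) (.node (.leaf 114) (.leaf 0))) (.node (.node (.leaf 0) (.leaf 0)) (.node (.leaf 258) (.leaf 636)))) (.node (.node (.node (.leaf 0) (.leaf 0)) (.node (.leaf 153) (.leaf 588))) (.node (.node (.leaf 0) (.leaf 485)) (.node (.leaf 0) (.leaf 0)))))) (.node (.node (.node (.node (.node (.node (.leaf 0) (.leaf 710)) (.leaf 0)) (.node (.leaf 0) (.leaf 0))) (.node (.node (.leaf 0) (.leaf 0)) (.node (.leaf 234) (.leaf 0)))) (.node (.node (.node (.leaf 0) (.leaf 425)) (.node (.leaf 0) (.leaf 573))) (.node (.node (.leaf 0) (.leaf 0)) (.node (.leaf 322) (.leaf 0))))) (.node (.node (.node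 (.node (.node (.leaf 0) (.leaf 749)) (.leaf 404)) (.node (.leaf 0) (.leaf 0))) (.node (.node (.leaf 86) (.leaf 464)) (.node (.leaf 284) (.leaf 650)))) (.node (.node (.node (.leaf 0) (.leaf 0)) (.node (.leaf 185) (.leaf 0))) (.node (.node (.leaf 0) (.leaf 0)) (.node (.leaf 355) (.leaf 687))))))
def dPos_54 : BT := .node (.node (.node (.node (.node (.node (.node (.leaf 0) (.leaf 705)) (.leaf 367)) (.node (.leaf 0) (.leaf 0))) (.node (.node (.leaf 57) (.leaf 0)) (.node (.leaf 220) (.leaf 0)))) (.node (.node (.node (.leaf 0) (.leaf 421)) (.node (.leaf 0) (.leaf 0))) (.node (.node (.leaf 0) (.leaf 474)) (.node (.leaf 310) (.leaf 0))))) (.node (.node (.node (.node (.node (.leaf 0) (.leaf 733)) (.leaf 393)) (.node (.leaf 0) (.leaf 0))) (.node (.node (.leaf 0) (.leaf 462)) (.node (.leaf 272) (.leaf 0)))) (.node (.node (.node (.leaf 0) (.leaf 439)) (.node (.leaf 169) (.leaf 0))) (.node (.node (.leaf 0) (.leaf 487)) (.node (.leaf 343) (.leaf 0)))))) (.node (.node (.node (.node (.node (.node (.leaf 22) (.leaf 715)) (.leaf 0)) (.node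 (.leaf 0) (.leaf 522))) (.node (.node (.leaf 0) (.leaf 0)) (.node (.leaf 244) (.leaf 0)))) (.node (.node (.node (.leaf 0) (.leaf 0)) (.node (.leaf 0) (.leaf 0))) (.node (.node (.leaf 0) (.leaf 0)) (.node (.leaf 0) (.leaf 667))))) (.node (.node (.node (.node (.leaf 0) (.leaf 409)) (.node (.leaf 0) (.leaf 544))) (.node (.node (.leaf 0) (.leaf 466)) (.node (.leaf 0) (.leaf 0)))) (.node (.node (.node (.leaf 0) (.leaf 0)) (.node (.leaf 196) (.leaf 609))) (.node (.node (.leaf 0) (.leaf 0)) (.node (.leaf 364) (.leaf 0))))))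
def dPos_55 : BT := .node dPos_53 dPos_54
def dPos_56 : BT := .node (.node (.node (.node (.node (.node (.node (.leaf 0) (.leaf 703)) (.leaf 0)) (.node (.leaf 0) (.leaf 508))) (.node (.node (.leaf 49) (.leaf 0)) (.node (.leaf 212) (.leaf 620)))) (.node (.node (.node (.leaf 0) (.leaf 417)) (.node (.leaf 143) (.leaf 0))) (.node (.node (.leaf 0) (.leaf 0)) (.node (.leaf 304) (.leaf 662))))) (.node (.node (.node (.node (.node (.leaf 0) (.leaf 0)) (.leaf 0)) (.node (.leaf 0) (.leaf 527))) (.node (.node (.leaf 77) (.leaf 460)) (.node (.leaf 265) (.leaf 640)))) (.node (.node (.node (.leaf 0) (.leaf 0)) (.node (.leaf 161) (.leaf 595))) (.node (.node (.leaf 0) (.leaf 0)) (.node (.leaf 0) (.leaf 677)))))) (.node (.node (.node (.node (.node (.node (.leaf 20) (.leaf 0)) (.leaf 0)) (.node (.leaf 0) (.leaf 516))) (.node (.node (.leaf 0) (.leaf 0)) (.node (.leaf 0) (.leaf 0)))) (.node (.node (.node (.leaf 0) (.leaf 0)) (.node (.leaf 0) (.leaf 0))) (.node (.node (.leaf 0) (.leaf 482)) (.node (.leaf 0) (.leaf 0))))) (.node (.node (.node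 (.node (.leaf 0) (.leaf 0)) (.node (.leaf 0) (.leaf 0))) (.node (.node (.leaf 93) (.leaf 0)) (.node (.leaf 0) (.leaf 0)))) (.node (.node (.node (.leaf 0) (.leaf 0)) (.node (.leaf 0) (.leaf 604))) (.node (.node (.leaf 0) (.leaf 0)) (.node (.leaf 0) (.leaf 0))))))
def dPos_57 : BT := .node (.node (.node (.node (.node (.node (.node (.leaf 0) (.leaf 707)) (.leaf 372)) (.node (.leaf 0) (.leaf 0))) (.node (.node (.leaf 65) (.leaf 0)) (.node (.leaf 227) (.leaf 0)))) (.node (.node (.node (.leaf 0) (.leaf 0)) (.node (.leaf 0) (.leaf 566))) (.node (.node (.leaf 0) (.leaf 0)) (.node (.leaf 316) (.leaf 0))))) (.node (.node (.node (.node (.node (.leaf 0) (.leaf 741)) (.leaf 399)) (.node (.leaf 0) (.leaf 0))) (.node (.node (.leaf 0) (.leaf 0)) (.node (.leaf 280) (.leaf 646)))) (.node (.node (.node (.leaf 0) (.leaf 0)) (.node (.leaf 177) (.leaf 0))) (.node (.node (.leaf 0) (.leaf 0)) (.node (.leaf 350) (.leaf 682)))))) (.node (.node (.node (.node (.node (.node (.leaf 25) (.leaf 0)) (.leaf 384)) (.node (.leaf 0) (.leaf 0))) (.node (.node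 (.leaf 0) (.leaf 0)) (.node (.leaf 0) (.leaf 635)))) (.node (.node (.node (.leaf 0) (.leaf 0)) (.node (.leaf 0) (.leaf 0))) (.node (.node (.leaf 0) (.leaf 0)) (.node (.leaf 0) (.leaf 668))))) (.node (.node (.node (.node (.leaf 0) (.leaf 0)) (.node (.leaf 127) (.leaf 552))) (.node (.node (.leaf 0) (.leaf 0)) (.node (.leaf 296) (.leaf 0)))) (.node (.node (.node (.leaf 0) (.leaf 0)) (.node (.leaf 0) (.leaf 612))) (.node (.node (.leaf 0) (.leaf 499)) (.node (.leaf 0) (.leaf 0))))))
def dPos_58 : BT := .node dPos_56 dPos_57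
def dPos_59 : BT := .node dPos_55 dPos_58
def dPos_60 : BT := .node dPos_52 dPos_59
def dPos_61 : BT := .node dPos_45 dPos_60
def dPos_62 : BT := .node dPos_30 dPos_61
def dPos : BT := dPos_62
def dFin_0 : BT := .node (.node (.node (.node (.node (.node (.node (.leaf 0) (.leaf 17110)) (.leaf 17331)) (.node (.node (.leaf 4931) (.leaf 21330)) (.leaf 13095))) (.node (.node (.node (.leaf 2122) (.leaf 18962)) (.leaf 15516)) (.node (.leaf 11786) (.leaf 11866)))) (.node (.node (.node (.node (.leaf 788) (.leaf 17757)) (.leaf 6883)) (.node (.leaf 6198) (.leaf 9935))) (.node (.node (.node (.leaf 3952) (.leaf 20127)) (.leaf 7677)) (.node (.leaf 14227) (.leaf 16264))))) (.node (.node (.node (.node (.node (.leaf 2990) (.leaf 20375)) (.leaf 6807)) (.node (.node (.leaf 5932) (.leaf 21649)) (.leaf 8995))) (.node (.node (.node (.leaf 6319) (.leaf 19790)) (.leaf 14608)) (.node (.leaf 13766) (.leaf 16755)))) (.node (.node (.node (.node (.leaf 16735) (.leaf 18198)) (.leaf 12540)) (.node (.leaf 11801) (.leaf 10750))) (.node (.node (.node (.leaf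 5879) (.leaf 20709)) (.leaf 14495)) (.node (.leaf 14261) (.leaf 16762)))))) (.node (.node (.node (.node (.node (.node (.leaf 190) (.leaf 19990)) (.leaf 12564)) (.node (.node (.leaf 13892) (.leaf 21472)) (.leaf 8280))) (.node (.node (.node (.leaf 5471) (.leaf 19452)) (.leaf 15381)) (.node (.leaf 16182) (.leaf 15631)))) (.node (.node (.node (.node (.leaf 1742) (.leaf 19013)) (.leaf 12450)) (.node (.leaf 12239) (.leaf 19298))) (.node (.node (.node (.leaf 6344) (.leaf 20433)) (.leaf 7642)) (.node (.leaf 6607) (.leaf 16467))))) (.node (.node (.node (.node (.node (.leaf 422) (.leaf 18087)) (.leaf 14694)) (.node (.leaf 6076) (.leaf 13218))) (.node (.node (.node (.leaf 3123) (.leaf 19885)) (.leaf 8858)) (.node (.leaf 6508) (.leaf 16029)))) (.node (.node (.node (.node (.leaf 2299) (.leaf 19494)) (.leaf 15202)) (.node (.leaf 12384) (.leaf 19000))) (.node (.node (.node (.leaf 5134) (.leaf 21123)) (.leaf 19681)) (.node (.leaf 12468) (.leaf 17011))))))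
def dFin_1 : BT := .node (.node (.node (.node (.node (.node (.node (.leaf 943) (.leaf 17055)) (.leaf 6781)) (.node (.node (.leaf 5729) (.leaf 21407)) (.leaf 11406))) (.node (.node (.node (.leaf 2156) (.leaf 20359)) (.leaf 15324)) (.node (.leaf 11399) (.leaf 15461)))) (.node (.node (.node (.node (.leaf 1764) (.leaf 17829)) (.leaf 15267)) (.node (.leaf 12453) (.leaf 14964))) (.node (.node (.node (.leaf 5588) (.leaf 20232)) (.leaf 12926)) (.node (.leaf 20666) (.leaf 16379))))) (.node (.node (.node (.node (.node (.leaf 2931) (.leaf 18223)) (.leaf 14417)) (.node (.node (.leaf 6001) (.leaf 21755)) (.leaf 19116))) (.node (.node (.node (.leaf 3099) (.leaf 19614)) (.leaf 14731)) (.node (.leaf 14451) (.leaf 15884)))) (.node (.node (.node (.node (.leaf 13946) (.leaf 18575)) (.leaf 13214)) (.node (.leaf 14637) (.leaf 10939))) (.node (.node (.node (.leaf 5917) (.leaf 20874)) (.leaf 7849)) (.node (.leaf 12591) (.leaf 16809)))))) (.node (.node (.node (.node (.node (.node (.leaf 3946) (.leaf 17365)) (.leaf 14222)) (.node (.node (.leaf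 5876) (.leaf 21576)) (.leaf 15413))) (.node (.node (.node (.leaf 6790) (.leaf 19772)) (.leaf 11088)) (.node (.leaf 6843) (.leaf 21658)))) (.node (.node (.node (.node (.leaf 1809) (.leaf 18238)) (.leaf 11768)) (.node (.leaf 15748) (.leaf 13282))) (.node (.node (.node (.leaf 4708) (.leaf 20664)) (.leaf 13246)) (.node (.leaf 15264) (.leaf 16658))))) (.node (.node (.node (.node (.node (.leaf 746) (.leaf 17621)) (.leaf 13548)) (.node (.leaf 6147) (.leaf 11881))) (.node (.node (.node (.leaf 5536) (.leaf 21048)) (.leaf 18271)) (.node (.leaf 7391) (.leaf 16167)))) (.node (.node (.node (.node (.leaf 1909) (.leaf 18878)) (.leaf 9476)) (.node (.leaf 13020) (.leaf 11428))) (.node (.node (.node (.leaf 4829) (.leaf 21203)) (.leaf 14250)) (.node (.leaf 12520) (.leaf 17034))))))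
def dFin_2 : BT := .node dFin_0 dFin_1
def dFin_3 : BT := .node (.node (.node (.node (.node (.node (.node (.leaf 34) (.leaf 17112)) (.leaf 6761)) (.node (.node (.leaf 5686) (.leaf 21363)) (.leaf 8992))) (.node (.node (.node (.leaf 6204) (.leaf 19098)) (.leaf 7422)) (.node (.leaf 17900) (.leaf 11272)))) (.node (.node (.node (.node (.leaf 1397) (.leaf 19086)) (.leaf 8863)) (.node (.leaf 6328) (.leaf 15082))) (.node (.node (.node (.leaf 5580) (.leaf 20261)) (.leaf 15336)) (.node (.leaf 13902) (.leaf 16287))))) (.node (.node (.node (.node (.node (.leaf 2776) (.leaf 17466)) (.leaf 14314)) (.node (.node (.leaf 10951) (.leaf 21712)) (.leaf 9518))) (.node (.node (.node (.leaf 2373) (.leaf 20987)) (.leaf 7348)) (.node (.leaf 14286) (.leaf 15852)))) (.node (.node (.node (.node (.leaf 5058) (.leaf 18775)) (.leaf 13281)) (.node (.leaf 10777) (.leaf 13191))) (.node (.node (.node (.leaf 4888) (.leaf 20930)) (.leaf 15129)) (.node (.leaf 17794) (.leaf 19645)))))) (.node (.node (.node (.node (.node (.node (.leaf 172) (.leaf 17345)) (.leaf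 14593)) (.node (.node (.leaf 6136) (.leaf 21694)) (.leaf 14817))) (.node (.node (.node (.leaf 2292) (.leaf 20295)) (.leaf 7279)) (.node (.leaf 15795) (.leaf 16096)))) (.node (.node (.node (.node (.leaf 1773) (.leaf 18624)) (.leaf 12473)) (.node (.leaf 6264) (.leaf 10539))) (.node (.node (.node (.leaf 4696) (.leaf 20519)) (.leaf 14823)) (.node (.leaf 14863) (.leaf 16590))))) (.node (.node (.node (.node (.node (.leaf 462) (.leaf 17508)) (.leaf 6846)) (.node (.leaf 6120) (.leaf 15117))) (.node (.node (.node (.leaf 18611) (.leaf 20362)) (.leaf 15027)) (.node (.leaf 14674) (.leaf 16118)))) (.node (.node (.node (.node (.leaf 2083) (.leaf 18924)) (.leaf 12424)) (.node (.leaf 15338) (.leaf 11087))) (.node (.node (.node (.leaf 7411) (.leaf 21143)) (.leaf 14951)) (.node (.leaf 15728) (.leaf 17029))))))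
def dFin_4 : BT := .node (.node (.node (.node (.node (.node (.node (.leaf 5334) (.leaf 17748)) (.leaf 11895)) (.node (.node (.leaf 5776) (.leaf 21449)) (.leaf 19886))) (.node (.node (.node (.leaf 3429) (.leaf 19204)) (.leaf 15657)) (.node (.leaf 11418) (.leaf 15493)))) (.node (.node (.node (.node (.leaf 1804) (.leaf 17888)) (.leaf 15046)) (.node (.leaf 10477) (.leaf 16514))) (.node (.node (.node (.leaf 4506) (.leaf 20352)) (.leaf 17675)) (.node (.leaf 14455) (.leaf 18152))))) (.node (.node (.node (.node (.node (.leaf 3076) (.leaf 19124)) (.leaf 19705)) (.node (.leaf 6038) (.leaf 12006))) (.node (.node (.node (.leaf 2899) (.leaf 19810)) (.leaf 16245)) (.node (.leaf 14554) (.leaf 16092)))) (.node (.node (.node (.node (.leaf 2962) (.leaf 18457)) (.leaf 13291)) (.node (.leaf 12498) (.leaf 10989))) (.node (.node (.node (.leaf 19067) (.leaf 21020)) (.leaf 14709)) (.node (.leaf 9253) (.leaf 16919)))))) (.node (.node (.node (.node (.node (.node (.leaf 5121) (.leaf 21107)) (.leaf 16760)) (.node (.node (.leaf 5905) (.leaf 21604))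 (.leaf 15355))) (.node (.node (.node (.leaf 15477) (.leaf 19732)) (.leaf 16603)) (.node (.leaf 7899) (.leaf 16641)))) (.node (.node (.node (.node (.leaf 1817) (.leaf 18233)) (.leaf 12081)) (.node (.leaf 11486) (.leaf 10765))) (.node (.node (.node (.leaf 4827) (.leaf 20603)) (.leaf 12702)) (.node (.leaf 15032) (.leaf 16707))))) (.node (.node (.node (.node (.node (.leaf 779) (.leaf 17678)) (.leaf 14168)) (.node (.leaf 6193) (.leaf 9950))) (.node (.node (.node (.leaf 5557) (.leaf 20093)) (.leaf 7540)) (.node (.leaf 16794) (.leaf 16213)))) (.node (.node (.node (.node (.leaf 2591) (.leaf 18769)) (.leaf 8485)) (.node (.leaf 13011) (.leaf 15208))) (.node (.node (.node (.leaf 5081) (.leaf 21309)) (.leaf 15237)) (.node (.leaf 12973) (.leaf 18933))))))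
def dFin_5 : BT := .node dFin_3 dFin_4
def dFin_6 : BT := .node dFin_2 dFin_5
def dFin_7 : BT := .node (.node (.node (.node (.node (.node (.node (.leaf 30) (.leaf 17064)) (.leaf 17339)) (.node (.node (.leaf 5860) (.leaf 21351)) (.leaf 13096))) (.node (.node (.node (.leaf 5469) (.leaf 19079)) (.leaf 14236)) (.node (.leaf 13318) (.leaf 13155)))) (.node (.node (.node (.node (.leaf 5287) (.leaf 17766)) (.leaf 14859)) (.node (.leaf 10339) (.leaf 17144))) (.node (.node (.node (.leaf 3956) (.leaf 20280)) (.leaf 12159)) (.node (.leaf 13883) (.leaf 20368))))) (.node (.node (.node (.node (.node (.leaf 283) (.leaf 17462)) (.leaf 14437)) (.node (.node (.leaf 6060) (.leaf 21671)) (.leaf 13015))) (.node (.node (.node (.leaf 2374) (.leaf 19648)) (.leaf 7846)) (.node (.leaf 14104) (.leaf 15805)))) (.node (.node (.node (.node (.leaf 2918) (.leaf 18382)) (.leaf 16234)) (.node (.leaf 13072) (.leaf 12621))) (.node (.node (.node (.leaf 16738) (.leaf 20800)) (.leaf 15213)) (.node (.leaf 7511) (.leaf 20513)))))) (.node (.node (.node (.node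 (.node (.node (.leaf 588) (.leaf 20147)) (.leaf 13226)) (.node (.node (.leaf 5793) (.leaf 21499)) (.leaf 16440))) (.node (.node (.node (.leaf 12743) (.leaf 19428)) (.leaf 7297)) (.node (.leaf 6439) (.leaf 15650)))) (.node (.node (.node (.node (.leaf 5306) (.leaf 18109)) (.leaf 9175)) (.node (.leaf 12671) (.leaf 13061))) (.node (.node (.node (.leaf 4677) (.leaf 20977)) (.leaf 13777)) (.node (.leaf 14793) (.leaf 19895))))) (.node (.node (.node (.node (.node (.leaf 595) (.leaf 18091)) (.leaf 7152)) (.node (.leaf 12427) (.leaf 9870))) (.node (.node (.node (.leaf 5718) (.leaf 19984)) (.leaf 7489)) (.node (.leaf 14913) (.leaf 17203)))) (.node (.node (.node (.node (.leaf 13937) (.leaf 19686)) (.leaf 19358)) (.node (.leaf 11372) (.leaf 12797))) (.node (.node (.node (.leaf 5187) (.leaf 21088)) (.leaf 15718)) (.node (.leaf 12514) (.leaf 18134))))))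
def dFin_8 : BT := .node (.node (.node (.node (.node (.node (.node (.leaf 1394) (.leaf 17173)) (.leaf 13019)) (.node (.node (.leaf 5755) (.leaf 21433)) (.leaf 17759))) (.node (.node (.node (.leaf 12719) (.leaf 19305)) (.leaf 14842)) (.node (.leaf 12168) (.leaf 15474)))) (.node (.node (.node (.node (.leaf 5179) (.leaf 17923)) (.leaf 15417)) (.node (.leaf 12259) (.leaf 10162))) (.node (.node (.node (.leaf 5364) (.leaf 20330)) (.leaf 13220)) (.node (.leaf 14058) (.leaf 16407))))) (.node (.node (.node (.node (.node (.leaf 5308) (.leaf 17530)) (.leaf 14446)) (.node (.node (.leaf 6015) (.leaf 21765)) (.leaf 13208))) (.node (.node (.node (.leaf 12881) (.leaf 21205)) (.leaf 7392)) (.node (.leaf 14488) (.leaf 15976)))) (.node (.node (.node (.node (.leaf 1855) (.leaf 18450)) (.leaf 7079)) (.node (.leaf 10701) (.leaf 19054))) (.node (.node (.node (.leaf 5889) (.leaf 21009)) (.leaf 14677)) (.node (.leaf 10490) (.leaf 16898)))))) (.node (.node (.node (.node (.node (.node (.leaf 5230) (.leaf 20240)) (.leaf 8493)) (.node (.node (.leaf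 11099) (.leaf 21615)) (.leaf 19597))) (.node (.node (.node (.leaf 2917) (.leaf 19749)) (.leaf 15064)) (.node (.leaf 6471) (.leaf 15716)))) (.node (.node (.node (.node (.leaf 1803) (.leaf 18267)) (.leaf 12791)) (.node (.leaf 21386) (.leaf 13001))) (.node (.node (.node (.leaf 4715) (.leaf 20646)) (.leaf 9855)) (.node (.leaf 14977) (.leaf 16679))))) (.node (.node (.node (.node (.node (.leaf 6178) (.leaf 17706)) (.leaf 20645)) (.node (.leaf 6171) (.leaf 14520))) (.node (.node (.node (.leaf 5428) (.leaf 20104)) (.leaf 13461)) (.node (.leaf 15441) (.leaf 16189)))) (.node (.node (.node (.node (.leaf 5258) (.leaf 19047)) (.leaf 11116)) (.node (.leaf 16164) (.leaf 15067))) (.node (.node (.node (.leaf 18380) (.leaf 21274)) (.leaf 8160)) (.node (.leaf 11559) (.leaf 18076))))))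
def dFin_9 : BT := .node dFin_7 dFin_8
def dFin_10 : BT := .node (.node (.node (.node (.node (.node (.node (.leaf 212) (.leaf 17084)) (.leaf 13199)) (.node (.node (.leaf 5702) (.leaf 21612)) (.leaf 12125))) (.node (.node (.node (.leaf 2133) (.leaf 19119)) (.leaf 7253)) (.node (.leaf 12598) (.leaf 13164)))) (.node (.node (.node (.node (.leaf 1759) (.leaf 20137)) (.leaf 18511)) (.node (.leaf 12435) (.leaf 16362))) (.node (.node (.node (.leaf 19041) (.leaf 20950)) (.leaf 21093)) (.node (.leaf 13959) (.leaf 16326))))) (.node (.node (.node (.node (.node (.leaf 2498) (.leaf 19060)) (.leaf 6820)) (.node (.node (.leaf 5982) (.leaf 21731)) (.leaf 18217))) (.node (.node (.node (.leaf 13147) (.leaf 19671)) (.leaf 14893)) (.node (.leaf 14364) (.leaf 15850)))) (.node (.node (.node (.node (.leaf 2966) (.leaf 19019)) (.leaf 12886)) (.node (.leaf 7650) (.leaf 10968))) (.node (.node (.node (.leaf 5647) (.leaf 20896)) (.leaf 7810)) (.node (.leaf 13225) (.leaf 18825)))))) (.node (.node (.node (.node (.node (.node (.leaf 5479) (.leaf 17350))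 (.leaf 13403)) (.node (.node (.leaf 14985) (.leaf 21557)) (.leaf 15389))) (.node (.node (.node (.leaf 2336) (.leaf 19480)) (.leaf 13876)) (.node (.leaf 6465) (.leaf 15750)))) (.node (.node (.node (.node (.leaf 5988) (.leaf 18162)) (.leaf 13058)) (.node (.leaf 12758) (.leaf 12981))) (.node (.node (.node (.leaf 5808) (.leaf 20575)) (.leaf 12779)) (.node (.leaf 14876) (.leaf 16558))))) (.node (.node (.node (.node (.node (.leaf 2907) (.leaf 17592)) (.leaf 14491)) (.node (.leaf 12844) (.leaf 15107))) (.node (.node (.node (.leaf 5530) (.leaf 20138)) (.leaf 15371)) (.node (.leaf 14668) (.leaf 16087)))) (.node (.node (.node (.node (.leaf 13720) (.leaf 18828)) (.leaf 17671)) (.node (.leaf 13665) (.leaf 11107))) (.node (.node (.node (.leaf 4839) (.leaf 21171)) (.leaf 8027)) (.node (.leaf 12728) (.leaf 19839))))))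
def dFin_11 : BT := .node (.node (.node (.node (.node (.node (.node (.leaf 2824) (.leaf 17190)) (.leaf 16969)) (.node (.node (.leaf 5787) (.leaf 21462)) (.leaf 8276))) (.node (.node (.node (.leaf 13840) (.leaf 19321)) (.leaf 15269)) (.node (.leaf 6416) (.leaf 17158)))) (.node (.node (.node (.node (.leaf 1738) (.leaf 20612)) (.leaf 12188)) (.node (.leaf 6247) (.leaf 10745))) (.node (.node (.node (.leaf 5192) (.leaf 20361)) (.leaf 13081)) (.node (.leaf 16248) (.leaf 16450))))) (.node (.node (.node (.node (.node (.leaf 427) (.leaf 17538)) (.leaf 14827)) (.node (.leaf 6079) (.leaf 16390))) (.node (.node (.node (.leaf 3050) (.leaf 19859)) (.leaf 15157)) (.node (.leaf 16404) (.leaf 16013)))) (.node (.node (.node (.node (.leaf 17764) (.leaf 18597)) (.leaf 7092)) (.node (.leaf 9342) (.leaf 10975))) (.node (.node (.node (.leaf 4797) (.leaf 21041)) (.leaf 18781)) (.node (.leaf 6659) (.leaf 16925)))))) (.node (.node (.node (.node (.node (.node (.leaf 107) (.leaf 17261)) (.leaf 13770)) (.node (.node (.leaf 16676) (.leaf 21629)) (.leaf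 15023))) (.node (.node (.node (.leaf 5431) (.leaf 19693)) (.leaf 7331)) (.node (.leaf 15134) (.leaf 15767)))) (.node (.node (.node (.node (.leaf 1822) (.leaf 18391)) (.leaf 8159)) (.node (.leaf 13194) (.leaf 13315))) (.node (.node (.node (.leaf 14557) (.leaf 20723)) (.leaf 12705)) (.node (.leaf 13374) (.leaf 16729))))) (.node (.node (.node (.node (.node (.leaf 794) (.leaf 17732)) (.leaf 15526)) (.node (.leaf 6208) (.leaf 14704))) (.node (.node (.node (.leaf 3944) (.leaf 20076)) (.leaf 7660)) (.node (.leaf 14464) (.leaf 16223)))) (.node (.node (.node (.node (.leaf 2109) (.leaf 18980)) (.leaf 16063)) (.node (.leaf 6384) (.leaf 13255))) (.node (.node (.node (.leaf 5112) (.leaf 21327)) (.leaf 12024)) (.node (.leaf 9010) (.leaf 17872))))))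
def dFin_12 : BT := .node dFin_10 dFin_11
def dFin_13 : BT := .node dFin_9 dFin_12
def dFin_14 : BT := .node dFin_6 dFin_13
def dFin_15 : BT := .node (.node (.node (.node (.node (.node (.node (.leaf 8) (.leaf 17119)) (.leaf 13025)) (.node (.node (.leaf 18149) (.leaf 21357)) (.leaf 11797))) (.node (.node (.node (.leaf 2103) (.leaf 20795)) (.leaf 7180)) (.node (.leaf 13174) (.leaf 15196)))) (.node (.node (.node (.node (.leaf 3114) (.leaf 17861)) (.leaf 8898)) (.node (.leaf 6227) (.leaf 15240))) (.node (.node (.node (.leaf 5593) (.leaf 19973)) (.leaf 11511)) (.node (.leaf 18241) (.leaf 16271))))) (.node (.node (.node (.node (.node (.leaf 89) (.leaf 20622)) (.leaf 14112)) (.node (.node (.leaf 7639) (.leaf 21675)) (.leaf 10880))) (.node (.node (.node (.leaf 5661) (.leaf 19703)) (.leaf 14744)) (.node (.leaf 14098) (.leaf 18497)))) (.node (.node (.node (.node (.leaf 5605) (.leaf 18218)) (.leaf 12578)) (.node (.leaf 21134) (.leaf 10694))) (.node (.node (.node (.leaf 4759) (.leaf 20715)) (.leaf 7894)) (.node (.leaf 15832) (.leaf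 16746)))))) (.node (.node (.node (.node (.node (.node (.leaf 574) (.leaf 20135)) (.leaf 6758)) (.node (.node (.leaf 6157) (.leaf 21496)) (.leaf 15074))) (.node (.node (.node (.leaf 14650) (.leaf 19419)) (.leaf 8025)) (.node (.leaf 15800) (.leaf 15634)))) (.node (.node (.node (.node (.leaf 5375) (.leaf 18075)) (.leaf 12699)) (.node (.leaf 12261) (.leaf 10743))) (.node (.node (.node (.leaf 4716) (.leaf 20770)) (.leaf 12732)) (.node (.leaf 19747) (.leaf 16489))))) (.node (.node (.node (.node (.node (.leaf 3057) (.leaf 19241)) (.leaf 12289)) (.node (.leaf 6083) (.leaf 12695))) (.node (.node (.node (.leaf 5689) (.leaf 19908)) (.leaf 21479)) (.node (.leaf 7864) (.leaf 19070)))) (.node (.node (.node (.node (.leaf 2077) (.leaf 18619)) (.leaf 9521)) (.node (.leaf 11326) (.leaf 19008))) (.node (.node (.node (.leaf 4882) (.leaf 21100)) (.leaf 15996)) (.node (.leaf 11668) (.leaf 16960))))))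
def dFin_16 : BT := .node (.node (.node (.node (.node (.node (.node (.leaf 200) (.leaf 17140)) (.leaf 13189)) (.node (.node (.leaf 5745) (.leaf 21415)) (.leaf 13207))) (.node (.node (.node (.leaf 5462) (.leaf 19297)) (.leaf 7247)) (.node (.leaf 20094) (.leaf 15467)))) (.node (.node (.node (.node (.leaf 1740) (.leaf 18004)) (.leaf 6897)) (.node (.leaf 12214) (.leaf 16615))) (.node (.node (.node (.leaf 19474) (.leaf 20321)) (.leaf 9057)) (.node (.leaf 14048) (.leaf 16385))))) (.node (.node (.node (.node (.node (.leaf 368) (.leaf 17478)) (.leaf 14481)) (.node (.node (.leaf 6003) (.leaf 21741)) (.leaf 12232))) (.node (.node (.node (.leaf 2903) (.leaf 19575)) (.leaf 7384)) (.node (.leaf 14452) (.leaf 15879)))) (.node (.node (.node (.node (.leaf 2986) (.leaf 18436)) (.leaf 17083)) (.node (.leaf 6346) (.leaf 19803))) (.node (.node (.node (.leaf 14640) (.leaf 21007)) (.leaf 14749)) (.node (.leaf 9206) (.leaf 16906)))))) (.node (.node (.node (.node (.node (.node (.leaf 5293) (.leaf 20097)) (.leaf 13666)) (.node (.node (.leaf 5882)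 (.leaf 21569)) (.leaf 8687))) (.node (.node (.node (.leaf 2330) (.leaf 19780)) (.leaf 14172)) (.node (.leaf 6570) (.leaf 16331)))) (.node (.node (.node (.node (.leaf 7823) (.leaf 18275)) (.leaf 13108)) (.node (.leaf 12511) (.leaf 13238))) (.node (.node (.node (.leaf 5160) (.leaf 20640)) (.leaf 15432)) (.node (.leaf 6619) (.leaf 16644))))) (.node (.node (.node (.node (.node (.leaf 748) (.leaf 17629)) (.leaf 14145)) (.node (.leaf 20239) (.leaf 16444))) (.node (.node (.node (.leaf 3854) (.leaf 20128)) (.leaf 14231)) (.node (.leaf 15382) (.leaf 16180)))) (.node (.node (.node (.node (.leaf 3103) (.leaf 18894)) (.leaf 16910)) (.node (.leaf 13016) (.leaf 13091))) (.node (.node (.node (.leaf 4833) (.leaf 21231)) (.leaf 8021)) (.node (.leaf 15429) (.leaf 19467))))))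
def dFin_17 : BT := .node dFin_15 dFin_16
def dFin_18 : BT := .node (.node (.node (.node (.node (.node (.node (.leaf 16) (.leaf 17090)) (.leaf 9317)) (.node (.node (.leaf 5726) (.leaf 21385)) (.leaf 10794))) (.node (.node (.node (.leaf 2344) (.leaf 19111)) (.leaf 12587)) (.node (.leaf 12594) (.leaf 13151)))) (.node (.node (.node (.node (.leaf 6419) (.leaf 17969)) (.leaf 14894)) (.node (.leaf 6326) (.leaf 16262))) (.node (.node (.node (.leaf 4057) (.leaf 20290)) (.leaf 11308)) (.node (.leaf 13910) (.leaf 16660))))) (.node (.node (.node (.node (.node (.leaf 400) (.leaf 18564)) (.leaf 16967)) (.node (.node (.leaf 5966) (.leaf 21707)) (.leaf 12479))) (.node (.node (.node (.leaf 2885) (.leaf 19611)) (.leaf 14758)) (.node (.leaf 20619) (.leaf 15848)))) (.node (.node (.node (.node (.leaf 1860) (.leaf 18377)) (.leaf 12882)) (.node (.leaf 6308) (.leaf 19713))) (.node (.node (.node (.leaf 12867) (.leaf 20942)) (.leaf 8576)) (.node (.leaf 6692) (.leaf 16783)))))) (.node (.node (.node (.node (.node (.node (.leaf 5529) (.leaf 18107))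 (.leaf 21162)) (.node (.node (.leaf 5829) (.leaf 21535)) (.leaf 13635))) (.node (.node (.node (.leaf 7666) (.leaf 19492)) (.leaf 7285)) (.node (.leaf 6546) (.leaf 15722)))) (.node (.node (.node (.node (.leaf 1849) (.leaf 18141)) (.leaf 8139)) (.node (.leaf 6263) (.leaf 10587))) (.node (.node (.node (.leaf 5209) (.leaf 20528)) (.leaf 12105)) (.node (.leaf 14866) (.leaf 16598))))) (.node (.node (.node (.node (.node (.leaf 453) (.leaf 17569)) (.leaf 15670)) (.node (.leaf 10959) (.leaf 11898))) (.node (.node (.node (.leaf 5459) (.leaf 20151)) (.leaf 15369)) (.node (.leaf 21566) (.leaf 16125)))) (.node (.node (.node (.node (.leaf 14978) (.leaf 18656)) (.leaf 12201)) (.node (.leaf 6407) (.leaf 11096))) (.node (.node (.node (.leaf 5166) (.leaf 21169)) (.leaf 14942)) (.node (.leaf 6670) (.leaf 16997))))))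
def dFin_19 : BT := .node (.node (.node (.node (.node (.node (.node (.leaf 187) (.leaf 19735)) (.leaf 6748)) (.node (.node (.leaf 5798) (.leaf 21451)) (.leaf 13040))) (.node (.node (.node (.leaf 2151) (.leaf 19216)) (.leaf 8911)) (.node (.leaf 6405) (.leaf 15507)))) (.node (.node (.node (.node (.leaf 1852) (.leaf 19448)) (.leaf 13345)) (.node (.leaf 10361) (.leaf 10153))) (.node (.node (.node (.leaf 4591) (.leaf 20357)) (.leaf 17400)) (.node (.leaf 6923) (.leaf 16421))))) (.node (.node (.node (.node (.node (.leaf 404) (.leaf 17487)) (.leaf 14595)) (.node (.leaf 6057) (.leaf 15420))) (.node (.node (.node (.leaf 13712) (.leaf 19871)) (.leaf 13983)) (.node (.leaf 18439) (.leaf 16010)))) (.node (.node (.node (.node (.leaf 2954) (.leaf 18503)) (.leaf 7031)) (.node (.leaf 16131) (.leaf 10984))) (.node (.node (.node (.leaf 5666) (.leaf 21033)) (.leaf 14954)) (.node (.leaf 11411) (.leaf 17031)))))) (.node (.node (.node (.node (.node (.node (.leaf 4704) (.leaf 17284)) (.leaf 13751)) (.node (.node (.leaf 12707) (.leaf 21621)) (.leaf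 17728))) (.node (.node (.node (.leaf 2965) (.leaf 19742)) (.leaf 14355)) (.node (.leaf 15126) (.leaf 15753)))) (.node (.node (.node (.node (.leaf 5050) (.leaf 18972)) (.leaf 18357)) (.node (.leaf 13068) (.leaf 17590))) (.node (.node (.node (.leaf 4733) (.leaf 20778)) (.leaf 11875)) (.node (.leaf 21524) (.leaf 16725))))) (.node (.node (.node (.node (.node (.leaf 1754) (.leaf 17740)) (.leaf 8688)) (.node (.leaf 6218) (.leaf 16768))) (.node (.node (.node (.leaf 5591) (.leaf 20285)) (.leaf 7550)) (.node (.leaf 13407) (.leaf 19048)))) (.node (.node (.node (.node (.leaf 7530) (.leaf 18778)) (.leaf 13650)) (.node (.leaf 20712) (.leaf 13158))) (.node (.node (.node (.leaf 4885) (.leaf 21302)) (.leaf 11992)) (.node (.leaf 13065) (.leaf 18985))))))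
def dFin_20 : BT := .node dFin_18 dFin_19
def dFin_21 : BT := .node dFin_17 dFin_20
def dFin_22 : BT := .node (.node (.node (.node (.node (.node (.node (.leaf 26) (.leaf 17068)) (.leaf 13179)) (.node (.node (.leaf 5682) (.leaf 21360)) (.leaf 13296))) (.node (.node (.node (.leaf 3053) (.leaf 19091)) (.leaf 8550)) (.node (.leaf 8320) (.leaf 15192)))) (.node (.node (.node (.node (.leaf 993) (.leaf 17775)) (.leaf 6921)) (.node (.leaf 6320) (.leaf 16065))) (.node (.node (.node (.leaf 11016) (.leaf 21753)) (.leaf 11525)) (.node (.leaf 13795) (.leaf 16359))))) (.node (.node (.node (.node (.node (.leaf 5421) (.leaf 19025)) (.leaf 18643)) (.node (.node (.leaf 5950) (.leaf 21686)) (.leaf 12731))) (.node (.node (.node (.leaf 6333) (.leaf 19691)) (.leaf 14736)) (.node (.leaf 8602) (.leaf 15858)))) (.node (.node (.node (.node (.leaf 1839) (.leaf 18354)) (.leaf 12871)) (.node (.leaf 11900) (.leaf 11893))) (.node (.node (.node (.leaf 4756) (.leaf 20799)) (.leaf 7781)) (.node (.leaf 14240) (.leaf 16772)))))) (.node (.node (.node (.node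 (.node (.node (.leaf 5326) (.leaf 17207)) (.leaf 12237)) (.node (.node (.leaf 7243) (.leaf 21513)) (.leaf 18608))) (.node (.node (.node (.leaf 2288) (.leaf 19465)) (.leaf 7298)) (.node (.leaf 13744) (.leaf 15669)))) (.node (.node (.node (.node (.leaf 5724) (.leaf 18120)) (.leaf 12971)) (.node (.leaf 12440) (.leaf 13124))) (.node (.node (.node (.leaf 4747) (.leaf 20558)) (.leaf 17622)) (.node (.leaf 6934) (.leaf 16501))))) (.node (.node (.node (.node (.node (.leaf 2808) (.leaf 18103)) (.leaf 18607)) (.node (.leaf 6112) (.leaf 13279))) (.node (.node (.node (.leaf 5453) (.leaf 20180)) (.leaf 14982)) (.node (.leaf 12283) (.leaf 17734)))) (.node (.node (.node (.node (.leaf 1895) (.leaf 18629)) (.leaf 7047)) (.node (.leaf 13173) (.leaf 11055))) (.node (.node (.node (.leaf 16439) (.leaf 21129)) (.leaf 10185)) (.node (.leaf 12928) (.leaf 16985))))))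
def dFin_23 : BT := .node (.node (.node (.node (.node (.node (.node (.leaf 43) (.leaf 20141)) (.leaf 6770)) (.node (.node (.leaf 5781) (.leaf 21425)) (.leaf 11909))) (.node (.node (.node (.leaf 6524) (.leaf 19310)) (.leaf 14910)) (.node (.leaf 15367) (.leaf 15491)))) (.node (.node (.node (.node (.leaf 3007) (.leaf 17895)) (.leaf 15039)) (.node (.leaf 9221) (.leaf 16780))) (.node (.node (.node (.leaf 4512) (.leaf 20342)) (.leaf 21641)) (.node (.leaf 15140) (.leaf 16395))))) (.node (.node (.node (.node (.node (.leaf 6144) (.leaf 17433)) (.leaf 14498)) (.node (.leaf 16393) (.leaf 13204))) (.node (.node (.node (.leaf 3096) (.leaf 19829)) (.leaf 14199)) (.node (.leaf 6504) (.leaf 17184)))) (.node (.node (.node (.node (.leaf 15387) (.leaf 18485)) (.leaf 16504)) (.node (.leaf 7024) (.leaf 10978))) (.node (.node (.node (.leaf 5629) (.leaf 20980)) (.leaf 14646)) (.node (.leaf 15279) (.leaf 18494)))))) (.node (.node (.node (.node (.node (.node (.leaf 119) (.leaf 17395)) (.leaf 13781)) (.node (.node (.leaf 5896) (.leaf 21594)) (.leaf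 14885))) (.node (.node (.node (.leaf 2324) (.leaf 19745)) (.leaf 8600)) (.node (.leaf 13839) (.leaf 15683)))) (.node (.node (.node (.node (.leaf 2148) (.leaf 18292)) (.leaf 13307)) (.node (.leaf 6273) (.leaf 11631))) (.node (.node (.node (.leaf 5645) (.leaf 20668)) (.leaf 12864)) (.node (.leaf 8064) (.leaf 16703))))) (.node (.node (.node (.node (.node (.leaf 752) (.leaf 17696)) (.leaf 6866)) (.node (.leaf 6183) (.leaf 14526))) (.node (.node (.node (.leaf 3949) (.leaf 20084)) (.leaf 7529)) (.node (.leaf 14514) (.leaf 16202)))) (.node (.node (.node (.node (.leaf 2080) (.leaf 18846)) (.leaf 7063)) (.node (.leaf 14029) (.leaf 13274))) (.node (.node (.node (.leaf 5595) (.leaf 21288)) (.leaf 11996)) (.node (.leaf 11530) (.leaf 16855))))))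
def dFin_24 : BT := .node dFin_22 dFin_23
def dFin_25 : BT := .node (.node (.node (.node (.node (.node (.node (.leaf 37) (.leaf 18592)) (.leaf 15274)) (.node (.node (.leaf 6084) (.leaf 21394)) (.leaf 11249))) (.node (.node (.node (.leaf 6143) (.leaf 19250)) (.leaf 12203)) (.node (.leaf 12563) (.leaf 15449)))) (.node (.node (.node (.node (.leaf 1845) (.leaf 17972)) (.leaf 8909)) (.node (.leaf 16161) (.leaf 10187))) (.node (.node (.node (.leaf 4054) (.leaf 20245)) (.leaf 12727)) (.node (.leaf 13962) (.leaf 21298))))) (.node (.node (.node (.node (.node (.leaf 5233) (.leaf 19052)) (.leaf 14338)) (.node (.node (.leaf 5975) (.leaf 21725)) (.leaf 13148))) (.node (.node (.node (.leaf 3063) (.leaf 19711)) (.leaf 15870)) (.node (.leaf 15093) (.leaf 15864)))) (.node (.node (.node (.node (.leaf 12569) (.leaf 21019)) (.leaf 12802)) (.node (.leaf 6299) (.leaf 10956))) (.node (.node (.node (.leaf 4773) (.leaf 20868)) (.leaf 18143)) (.node (.leaf 6643) (.leaf 18375)))))) (.node (.node (.node (.node (.node (.node (.leaf 158) (.leaf 17397))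 (.leaf 20114)) (.node (.node (.leaf 16207) (.leaf 21549)) (.leaf 13923))) (.node (.node (.node (.leaf 2317) (.leaf 19502)) (.leaf 18454)) (.node (.leaf 6573) (.leaf 15679)))) (.node (.node (.node (.node (.leaf 1881) (.leaf 21098)) (.leaf 13137)) (.node (.leaf 6267) (.leaf 15224))) (.node (.node (.node (.leaf 5627) (.leaf 20620)) (.leaf 7768)) (.node (.leaf 8059) (.leaf 16566))))) (.node (.node (.node (.node (.node (.leaf 520) (.leaf 17611)) (.leaf 13534)) (.node (.leaf 6169) (.leaf 9809))) (.node (.node (.node (.leaf 5547) (.leaf 20121)) (.leaf 8037)) (.node (.leaf 6633) (.leaf 16147)))) (.node (.node (.node (.node (.leaf 2158) (.leaf 18868)) (.leaf 17970)) (.node (.leaf 13013) (.leaf 19722))) (.node (.node (.node (.leaf 5655) (.leaf 21181)) (.leaf 13476)) (.node (.leaf 12925) (.leaf 19804))))))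
def dFin_26 : BT := .node (.node (.node (.node (.node (.node (.node (.leaf 2314) (.leaf 17181)) (.leaf 9464)) (.node (.node (.leaf 10334) (.leaf 21506)) (.leaf 8339))) (.node (.node (.node (.leaf 2352) (.leaf 20816)) (.leaf 7213)) (.node (.leaf 6449) (.leaf 15522)))) (.node (.node (.node (.node (.leaf 1752) (.leaf 18006)) (.leaf 12190)) (.node (.leaf 10398) (.leaf 12811))) (.node (.node (.node (.leaf 4707) (.leaf 20469)) (.leaf 12229)) (.node (.leaf 15326) (.leaf 16457))))) (.node (.node (.node (.node (.node (.leaf 6426) (.leaf 18224)) (.leaf 14819)) (.node (.leaf 12370) (.leaf 16412))) (.node (.node (.node (.leaf 3113) (.leaf 20103)) (.leaf 15139)) (.node (.leaf 6507) (.leaf 21208)))) (.node (.node (.node (.node (.leaf 5610) (.leaf 18601)) (.leaf 13003)) (.node (.leaf 15985) (.leaf 10995))) (.node (.node (.node (.leaf 4789) (.leaf 21047)) (.leaf 8613)) (.node (.leaf 12643) (.leaf 19593)))))) (.node (.node (.node (.node (.node (.node (.leaf 5680) (.leaf 19319)) (.leaf 14215)) (.node (.node (.leaf 6034) (.leaf 21655))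 (.leaf 16032))) (.node (.node (.node (.leaf 17959) (.leaf 19833)) (.leaf 21232)) (.node (.leaf 7934) (.leaf 15773)))) (.node (.node (.node (.node (.leaf 5540) (.leaf 18213)) (.leaf 11544)) (.node (.leaf 15361) (.leaf 16168))) (.node (.node (.node (.leaf 5600) (.leaf 21561)) (.leaf 7778)) (.node (.leaf 17975) (.leaf 17015))))) (.node (.node (.node (.node (.node (.leaf 2586) (.leaf 17753)) (.leaf 14770)) (.node (.leaf 6232) (.leaf 17722))) (.node (.node (.node (.leaf 5565) (.leaf 20023)) (.leaf 15789)) (.node (.leaf 14201) (.leaf 16251)))) (.node (.node (.node (.node (.leaf 2141) (.leaf 20983)) (.leaf 7155)) (.node (.leaf 12611) (.leaf 13262))) (.node (.node (.node (.leaf 4891) (.leaf 21373)) (.leaf 12990)) (.node (.leaf 13022) (.leaf 16895))))))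
def dFin_27 : BT := .node dFin_25 dFin_26
def dFin_28 : BT := .node dFin_24 dFin_27
def dFin_29 : BT := .node dFin_21 dFin_28
def dFin_30 : BT := .node dFin_14 dFin_29
def dFin_31 : BT := .node (.node (.node (.node (.node (.node (.node (.leaf 4) (.leaf 17073)) (.leaf 11776)) (.node (.node (.leaf 5705) (.leaf 21337)) (.leaf 11745))) (.node (.node (.node (.leaf 16185) (.leaf 18968)) (.leaf 14224)) (.node (.leaf 17448) (.leaf 11268)))) (.node (.node (.node (.node (.leaf 5748) (.leaf 17789)) (.leaf 7260)) (.node (.leaf 7536) (.leaf 12073))) (.node (.node (.node (.leaf 5566) (.leaf 19970)) (.leaf 7687)) (.node (.leaf 14537) (.leaf 16247))))) (.node (.node (.node (.node (.node (.leaf 2978) (.leaf 17446)) (.leaf 14120)) (.node (.node (.leaf 8391) (.leaf 21679)) (.leaf 8997))) (.node (.node (.node (.leaf 3437) (.leaf 19668)) (.leaf 14566)) (.node (.leaf 14094) (.leaf 15787)))) (.node (.node (.node (.node (.leaf 17122) (.leaf 18197)) (.leaf 14917)) (.node (.leaf 8137) (.leaf 16433))) (.node (.node (.node (.leaf 4853) (.leaf 20703))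 (.leaf 13596)) (.node (.leaf 13342) (.leaf 16740)))))) (.node (.node (.node (.node (.node (.node (.leaf 183) (.leaf 17200)) (.leaf 12129)) (.node (.node (.leaf 6024) (.leaf 21672)) (.leaf 8279))) (.node (.node (.node (.leaf 2163) (.leaf 21172)) (.leaf 13694)) (.node (.leaf 6428) (.leaf 15998)))) (.node (.node (.node (.node (.leaf 1771) (.leaf 20262)) (.leaf 12454)) (.node (.leaf 12376) (.leaf 13213))) (.node (.node (.node (.leaf 11085) (.leaf 20421)) (.leaf 7644)) (.node (.leaf 6928) (.leaf 16483))))) (.node (.node (.node (.node (.node (.leaf 599) (.leaf 17515)) (.leaf 14696)) (.node (.leaf 6093) (.leaf 20793))) (.node (.node (.node (.leaf 5713) (.leaf 19899)) (.leaf 16117)) (.node (.leaf 14860) (.leaf 19739)))) (.node (.node (.node (.node (.leaf 1887) (.leaf 18616)) (.leaf 12945)) (.node (.leaf 15252) (.leaf 19004))) (.node (.node (.node (.leaf 5138) (.leaf 21117)) (.leaf 14923)) (.node (.leaf 19490) (.leaf 16958))))))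
def dFin_32 : BT := .node (.node (.node (.node (.node (.node (.node (.leaf 957) (.leaf 17128)) (.leaf 6772)) (.node (.node (.leaf 5741) (.leaf 21475)) (.leaf 11408))) (.node (.node (.node (.leaf 2147) (.leaf 19268)) (.leaf 15320)) (.node (.leaf 12133) (.leaf 15666)))) (.node (.node (.node (.node (.leaf 5716) (.leaf 17994)) (.leaf 6898)) (.node (.leaf 12244) (.leaf 15018))) (.node (.node (.node (.leaf 4059) (.leaf 20234)) (.leaf 12931)) (.node (.leaf 6591) (.leaf 16382))))) (.node (.node (.node (.node (.node (.leaf 366) (.leaf 17476)) (.leaf 15094)) (.node (.node (.leaf 5997) (.leaf 21750)) (.leaf 12230))) (.node (.node (.node (.leaf 2457) (.leaf 19568)) (.leaf 14239)) (.node (.leaf 15215) (.leaf 15875)))) (.node (.node (.node (.node (.leaf 4511) (.leaf 18393)) (.leaf 11427)) (.node (.leaf 18479) (.leaf 10936))) (.node (.node (.node (.leaf 10306) (.leaf 20995)) (.leaf 7845)) (.node (.leaf 9214) (.leaf 16813)))))) (.node (.node (.node (.node (.node (.node (.leaf 2828) (.leaf 17402)) (.leaf 15143)) (.node (.node (.leaf 5869)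 (.leaf 21571)) (.leaf 14620))) (.node (.node (.node (.leaf 6330) (.leaf 19760)) (.leaf 11050)) (.node (.leaf 13384) (.leaf 15730)))) (.node (.node (.node (.node (.leaf 5484) (.leaf 18245)) (.leaf 13102)) (.node (.leaf 12552) (.leaf 12697))) (.node (.node (.node (.leaf 4803) (.leaf 20658)) (.leaf 13245)) (.node (.leaf 6620) (.leaf 16666))))) (.node (.node (.node (.node (.node (.leaf 759) (.leaf 17625)) (.leaf 13887)) (.node (.leaf 6160) (.leaf 9852))) (.node (.node (.node (.leaf 15763) (.leaf 20124)) (.leaf 13395)) (.node (.leaf 15462) (.leaf 16159)))) (.node (.node (.node (.node (.leaf 16415) (.leaf 18892)) (.leaf 12107)) (.node (.leaf 6377) (.leaf 15292))) (.node (.node (.node (.leaf 5804) (.leaf 21227)) (.leaf 15182)) (.node (.leaf 11468) (.leaf 16929))))))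
def dFin_33 : BT := .node dFin_31 dFin_32
def dFin_34 : BT := .node (.node (.node (.node (.node (.node (.node (.leaf 742) (.leaf 17104)) (.leaf 12570)) (.node (.node (.leaf 5696) (.leaf 21405)) (.leaf 8127))) (.node (.node (.node (.leaf 3043) (.leaf 19874)) (.leaf 7195)) (.node (.leaf 12592) (.leaf 19695)))) (.node (.node (.node (.node (.leaf 1003) (.leaf 19209)) (.leaf 15580)) (.node (.leaf 15484) (.leaf 14930))) (.node (.node (.node (.leaf 5582) (.leaf 20257)) (.leaf 10470)) (.node (.leaf 13906) (.leaf 16289))))) (.node (.node (.node (.node (.node (.leaf 5445) (.leaf 18562)) (.leaf 14430)) (.node (.node (.leaf 5965) (.leaf 21703)) (.leaf 14288))) (.node (.node (.node (.leaf 5669) (.leaf 19607)) (.leaf 14728)) (.node (.leaf 6494) (.leaf 15815)))) (.node (.node (.node (.node (.leaf 6138) (.leaf 18364)) (.leaf 15482)) (.node (.leaf 14507) (.leaf 13129))) (.node (.node (.node (.leaf 4761) (.leaf 20928)) (.leaf 14188)) (.node (.leaf 6635) (.leaf 16778)))))) (.node (.node (.node (.node (.node (.node (.leaf 3040) (.leaf 19381))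 (.leaf 14209)) (.node (.node (.leaf 5823) (.leaf 21537)) (.leaf 14720))) (.node (.node (.node (.leaf 14543) (.leaf 19483)) (.leaf 7281)) (.node (.leaf 6552) (.leaf 15583)))) (.node (.node (.node (.node (.leaf 2896) (.leaf 18137)) (.leaf 11508)) (.node (.leaf 16337) (.leaf 10589))) (.node (.node (.node (.leaf 6436) (.leaf 20522)) (.leaf 12768)) (.node (.leaf 20905) (.leaf 16592))))) (.node (.node (.node (.node (.node (.leaf 2814) (.leaf 17577)) (.leaf 13507)) (.node (.leaf 10963) (.leaf 9806))) (.node (.node (.node (.leaf 16479) (.leaf 20824)) (.leaf 14991)) (.node (.leaf 14691) (.leaf 16091)))) (.node (.node (.node (.node (.leaf 5496) (.leaf 20091)) (.leaf 12449)) (.node (.leaf 12555) (.leaf 11091))) (.node (.node (.node (.leaf 4817) (.leaf 21147)) (.leaf 15025)) (.node (.leaf 6669) (.leaf 17005))))))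
def dFin_35 : BT := .node (.node (.node (.node (.node (.node (.node (.leaf 194) (.leaf 17168)) (.leaf 19273)) (.node (.node (.leaf 5775) (.leaf 21443)) (.leaf 13038))) (.node (.node (.node (.leaf 5855) (.leaf 19210)) (.leaf 7210)) (.node (.leaf 15285) (.leaf 15499)))) (.node (.node (.node (.node (.leaf 1818) (.leaf 17899)) (.leaf 14501)) (.node (.leaf 10336) (.leaf 13326))) (.node (.node (.node (.leaf 17161) (.leaf 20821)) (.leaf 12951)) (.node (.leaf 6637) (.leaf 16417))))) (.node (.node (.node (.node (.node (.leaf 444) (.leaf 17905)) (.leaf 14612)) (.node (.leaf 6042) (.leaf 13048))) (.node (.node (.node (.leaf 2495) (.leaf 19815)) (.leaf 8629)) (.node (.leaf 16085) (.leaf 16256)))) (.node (.node (.node (.node (.leaf 1875) (.leaf 18499)) (.leaf 16285)) (.node (.leaf 12502) (.leaf 19020))) (.node (.node (.node (.leaf 13686) (.leaf 21027)) (.leaf 21533)) (.node (.leaf 12395) (.leaf 17548)))))) (.node (.node (.node (.node (.node (.node (.leaf 5147) (.leaf 21111)) (.leaf 6799)) (.node (.node (.leaf 5901) (.leaf 21603))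 (.leaf 8922))) (.node (.node (.node (.leaf 2333) (.leaf 21509)) (.leaf 14285)) (.node (.leaf 13998) (.leaf 16369)))) (.node (.node (.node (.node (.leaf 9931) (.leaf 20553)) (.leaf 11576)) (.node (.leaf 8147) (.leaf 15226))) (.node (.node (.node (.leaf 5790) (.leaf 20782)) (.leaf 19654)) (.node (.leaf 6623) (.leaf 17921))))) (.node (.node (.node (.node (.node (.leaf 764) (.leaf 19094)) (.leaf 8537)) (.node (.leaf 7539) (.leaf 14902))) (.node (.node (.node (.leaf 4032) (.leaf 20082)) (.leaf 12801)) (.node (.leaf 14273) (.leaf 16217)))) (.node (.node (.node (.node (.leaf 2104) (.leaf 18785)) (.leaf 21295)) (.node (.leaf 13007) (.leaf 13167))) (.node (.node (.node (.leaf 4922) (.leaf 21305)) (.leaf 10479)) (.node (.leaf 15345) (.leaf 18909))))))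
def dFin_36 : BT := .node dFin_34 dFin_35
def dFin_37 : BT := .node dFin_33 dFin_36
def dFin_38 : BT := .node (.node (.node (.node (.node (.node (.node (.leaf 28) (.leaf 17081)) (.leaf 12859)) (.node (.node (.leaf 5936) (.leaf 21418)) (.leaf 13098))) (.node (.node (.node (.leaf 2165) (.leaf 20029)) (.leaf 8614)) (.node (.leaf 16282) (.leaf 13268)))) (.node (.node (.node (.node (.leaf 985) (.leaf 17773)) (.leaf 21486)) (.node (.leaf 12940) (.leaf 15239))) (.node (.node (.node (.leaf 11023) (.leaf 20287)) (.leaf 17292)) (.node (.leaf 13845) (.leaf 16347))))) (.node (.node (.node (.node (.node (.leaf 5359) (.leaf 17410)) (.leaf 14206)) (.node (.node (.leaf 5941) (.leaf 21682)) (.leaf 15283))) (.node (.node (.node (.leaf 14765) (.leaf 20918)) (.leaf 14589)) (.node (.leaf 14196) (.leaf 15806)))) (.node (.node (.node (.node (.leaf 2174) (.leaf 18348)) (.leaf 11827)) (.node (.leaf 20935) (.leaf 17574))) (.node (.node (.node (.leaf 5371) (.leaf 20809)) (.leaf 14607)) (.node (.leaf 13481) (.leaf 16814)))))) (.node (.node (.node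 (.node (.node (.node (.leaf 592) (.leaf 17334)) (.leaf 6765)) (.node (.node (.leaf 17370) (.leaf 21521)) (.leaf 12716))) (.node (.node (.node (.leaf 2179) (.leaf 20247)) (.leaf 13939)) (.node (.leaf 6454) (.leaf 15658)))) (.node (.node (.node (.node (.leaf 1763) (.leaf 19457)) (.leaf 12684)) (.node (.leaf 9068) (.leaf 13181))) (.node (.node (.node (.leaf 4810) (.leaf 20560)) (.leaf 11825)) (.node (.leaf 21416) (.leaf 16493))))) (.node (.node (.node (.node (.node (.leaf 3131) (.leaf 20341)) (.leaf 8396)) (.node (.leaf 16228) (.leaf 15054))) (.node (.node (.node (.leaf 3426) (.leaf 20174)) (.leaf 17288)) (.node (.leaf 15822) (.leaf 16101)))) (.node (.node (.node (.node (.leaf 13769) (.leaf 18644)) (.leaf 12408)) (.node (.leaf 11325) (.leaf 11053))) (.node (.node (.node (.leaf 5685) (.leaf 21090)) (.leaf 8046)) (.node (.leaf 12516) (.leaf 18634))))))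
def dFin_39 : BT := .node (.node (.node (.node (.node (.node (.node (.leaf 44) (.leaf 17984)) (.leaf 19819)) (.node (.node (.leaf 6134) (.leaf 21435)) (.leaf 11603))) (.node (.node (.node (.leaf 13760) (.leaf 19285)) (.leaf 14846)) (.node (.leaf 12172) (.leaf 15481)))) (.node (.node (.node (.node (.leaf 10928) (.leaf 18453)) (.leaf 10176)) (.node (.leaf 12226) (.leaf 10158))) (.node (.node (.node (.leaf 4496) (.leaf 20355)) (.leaf 12948)) (.node (.leaf 15147) (.leaf 16410))))) (.node (.node (.node (.node (.node (.leaf 5310) (.leaf 17526)) (.leaf 6869)) (.node (.node (.leaf 6021) (.leaf 21767)) (.leaf 12171))) (.node (.node (.node (.leaf 5782) (.leaf 19847)) (.leaf 14523)) (.node (.leaf 16278) (.leaf 15901)))) (.node (.node (.node (.node (.leaf 13484) (.leaf 18476)) (.leaf 7074)) (.node (.leaf 8233) (.leaf 10944))) (.node (.node (.node (.leaf 5963) (.leaf 20974)) (.leaf 14659)) (.node (.leaf 6647) (.leaf 19787)))))) (.node (.node (.node (.node (.node (.node (.leaf 126) (.leaf 17391)) (.leaf 16810)) (.node (.node (.leaf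 5891) (.leaf 21583)) (.leaf 14805))) (.node (.node (.node (.leaf 2319) (.leaf 19754)) (.leaf 13755)) (.node (.leaf 13416) (.leaf 16650)))) (.node (.node (.node (.node (.leaf 1905) (.leaf 18287)) (.leaf 13093)) (.node (.leaf 6274) (.leaf 15286))) (.node (.node (.node (.leaf 6844) (.leaf 20607)) (.leaf 7775)) (.node (.leaf 16561) (.leaf 16681))))) (.node (.node (.node (.node (.node (.leaf 770) (.leaf 17713)) (.leaf 6865)) (.node (.leaf 6166) (.leaf 14562))) (.node (.node (.node (.leaf 5432) (.leaf 20106)) (.leaf 16190)) (.node (.leaf 15379) (.leaf 16187)))) (.node (.node (.node (.node (.leaf 2095) (.leaf 18840)) (.leaf 15331)) (.node (.leaf 6380) (.leaf 15494))) (.node (.node (.node (.leaf 5130) (.leaf 21283)) (.leaf 15263)) (.node (.leaf 11528) (.leaf 18071))))))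
def dFin_40 : BT := .node dFin_38 dFin_39
def dFin_41 : BT := .node (.node (.node (.node (.node (.node (.node (.leaf 774) (.leaf 18783)) (.leaf 13169)) (.node (.node (.leaf 5753) (.leaf 21392)) (.leaf 19215))) (.node (.node (.node (.leaf 16923) (.leaf 19362)) (.leaf 7263)) (.node (.leaf 9469) (.leaf 20160)))) (.node (.node (.node (.node (.leaf 5339) (.leaf 17987)) (.leaf 6894)) (.node (.leaf 12256) (.leaf 10183))) (.node (.node (.node (.leaf 10976) (.leaf 21000)) (.leaf 12923)) (.node (.leaf 13942) (.leaf 16328))))) (.node (.node (.node (.node (.node (.leaf 5175) (.leaf 19032)) (.leaf 14334)) (.node (.node (.leaf 6013) (.leaf 21727)) (.leaf 12383))) (.node (.node (.node (.leaf 2589) (.leaf 21124)) (.leaf 14692)) (.node (.leaf 8567) (.leaf 15863)))) (.node (.node (.node (.node (.leaf 2970) (.leaf 18579)) (.leaf 12798)) (.node (.leaf 6287) (.leaf 10933))) (.node (.node (.node (.leaf 4782) (.leaf 20946)) (.leaf 14534)) (.node (.leaf 6644) (.leaf 16798)))))) (.node (.node (.node (.node (.node (.node (.leaf 5412) (.leaf 18359))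 (.leaf 13591)) (.node (.node (.leaf 5851) (.leaf 21545)) (.leaf 15409))) (.node (.node (.node (.leaf 5658) (.leaf 19864)) (.leaf 16690)) (.node (.leaf 6567) (.leaf 15677)))) (.node (.node (.node (.node (.leaf 1786) (.leaf 18160)) (.leaf 13153)) (.node (.leaf 21322) (.leaf 12665))) (.node (.node (.node (.leaf 4771) (.leaf 21736)) (.leaf 9876)) (.node (.leaf 6616) (.leaf 16564))))) (.node (.node (.node (.node (.node (.leaf 525) (.leaf 17589)) (.leaf 16067)) (.node (.leaf 10410) (.leaf 9810))) (.node (.node (.node (.leaf 5488) (.leaf 20142)) (.leaf 7494)) (.node (.leaf 14663) (.leaf 16149)))) (.node (.node (.node (.node (.leaf 1907) (.leaf 19831)) (.leaf 12082)) (.node (.leaf 12043) (.leaf 11109))) (.node (.node (.node (.leaf 13706) (.leaf 21182)) (.leaf 10160)) (.node (.leaf 12549) (.leaf 17020))))))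
def dFin_42 : BT := .node (.node (.node (.node (.node (.node (.node (.leaf 47) (.leaf 17177)) (.leaf 17612)) (.node (.node (.leaf 6129) (.leaf 21465)) (.leaf 9500))) (.node (.node (.node (.leaf 5633) (.leaf 19353)) (.leaf 15035)) (.node (.leaf 6420) (.leaf 17279)))) (.node (.node (.node (.node (.leaf 7151) (.leaf 18055)) (.leaf 12507)) (.node (.leaf 10392) (.leaf 17545))) (.node (.node (.node (.leaf 4764) (.leaf 20458)) (.leaf 17481)) (.node (.leaf 15328) (.leaf 16436))))) (.node (.node (.node (.node (.node (.leaf 410) (.leaf 17550)) (.leaf 15357)) (.node (.leaf 15418) (.leaf 9609))) (.node (.node (.node (.leaf 5252) (.leaf 20380)) (.leaf 15177)) (.node (.leaf 15123) (.leaf 16060)))) (.node (.node (.node (.node (.leaf 6095) (.leaf 18595)) (.leaf 16943)) (.node (.leaf 12630) (.leaf 10999))) (.node (.node (.node (.leaf 6096) (.leaf 21045)) (.leaf 8019)) (.node (.leaf 21401) (.leaf 16973)))))) (.node (.node (.node (.node (.node (.node (.leaf 111) (.leaf 17280)) (.leaf 13817)) (.node (.node (.leaf 5981) (.leaf 21633)) (.leaf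 8801))) (.node (.node (.node (.leaf 2341) (.leaf 19714)) (.leaf 7881)) (.node (.leaf 15206) (.leaf 15765)))) (.node (.node (.node (.node (.leaf 4503) (.leaf 19604)) (.leaf 15990)) (.node (.leaf 6277) (.leaf 11329))) (.node (.node (.node (.leaf 5636) (.leaf 20755)) (.leaf 10883)) (.node (.leaf 8068) (.leaf 16774))))) (.node (.node (.node (.node (.node (.leaf 773) (.leaf 17743)) (.leaf 14779)) (.node (.leaf 6201) (.leaf 16901))) (.node (.node (.node (.leaf 20188) (.leaf 20016)) (.leaf 7656)) (.node (.leaf 13570) (.leaf 16238)))) (.node (.node (.node (.node (.leaf 2356) (.leaf 18982)) (.leaf 13656)) (.node (.leaf 13313) (.leaf 11265))) (.node (.node (.node (.leaf 12998) (.leaf 21317)) (.leaf 11999)) (.node (.leaf 14167) (.leaf 16979))))))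
def dFin_43 : BT := .node dFin_41 dFin_42
def dFin_44 : BT := .node dFin_40 dFin_43
def dFin_45 : BT := .node dFin_37 dFin_44
def dFin_46 : BT := .node (.node (.node (.node (.node (.node (.node (.leaf 12) (.leaf 20457)) (.leaf 12902)) (.node (.node (.leaf 5679) (.leaf 21701)) (.leaf 13186))) (.node (.node (.node (.leaf 2111) (.leaf 19077)) (.leaf 17461)) (.node (.leaf 13131) (.leaf 11863)))) (.node (.node (.node (.node (.leaf 797) (.leaf 17793)) (.leaf 15576)) (.node (.leaf 6228) (.leaf 15393))) (.node (.node (.node (.leaf 4039) (.leaf 19974)) (.leaf 9704)) (.node (.leaf 6582) (.leaf 16277))))) (.node (.node (.node (.node (.node (.leaf 279) (.leaf 17457)) (.leaf 20119)) (.node (.node (.leaf 5976) (.leaf 21669)) (.leaf 12720))) (.node (.node (.node (.leaf 2961) (.leaf 19646)) (.leaf 14572)) (.node (.leaf 16980) (.leaf 15803)))) (.node (.node (.node (.node (.leaf 1834) (.leaf 18209)) (.leaf 16194)) (.node (.leaf 13070) (.leaf 21144))) (.node (.node (.node (.leaf 17189) (.leaf 20818)) (.leaf 13649)) (.node (.leaf 13680)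 (.leaf 16750)))))) (.node (.node (.node (.node (.node (.node (.leaf 5324) (.leaf 17342)) (.leaf 17086)) (.node (.node (.leaf 5949) (.leaf 21492)) (.leaf 11844))) (.node (.node (.node (.leaf 6075) (.leaf 19435)) (.leaf 13335)) (.node (.leaf 6435) (.leaf 15665)))) (.node (.node (.node (.node (.leaf 1857) (.leaf 20079)) (.leaf 12678)) (.node (.leaf 6255) (.leaf 10706))) (.node (.node (.node (.leaf 4750) (.leaf 20428)) (.leaf 12740)) (.node (.leaf 16009) (.leaf 16491))))) (.node (.node (.node (.node (.node (.leaf 451) (.leaf 20253)) (.leaf 16111)) (.node (.leaf 6081) (.leaf 11773))) (.node (.node (.node (.leaf 3135) (.leaf 19906)) (.leaf 7490)) (.node (.leaf 14768) (.leaf 16078)))) (.node (.node (.node (.node (.leaf 12077) (.leaf 19498)) (.leaf 9862)) (.node (.leaf 8264) (.leaf 11015))) (.node (.node (.node (.leaf 6027) (.leaf 21082)) (.leaf 15306)) (.node (.leaf 6663) (.leaf 18857))))))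
def dFin_47 : BT := .node (.node (.node (.node (.node (.node (.node (.leaf 204) (.leaf 17143)) (.leaf 10575)) (.node (.node (.leaf 5750) (.leaf 21634)) (.leaf 11424))) (.node (.node (.node (.leaf 2349) (.leaf 19270)) (.leaf 14840)) (.node (.leaf 10877) (.leaf 15468)))) (.node (.node (.node (.node (.leaf 5177) (.leaf 17906)) (.leaf 15422)) (.node (.leaf 12915) (.leaf 15020))) (.node (.node (.node (.leaf 5894) (.leaf 20334)) (.leaf 15735)) (.node (.leaf 8625) (.leaf 16397))))) (.node (.node (.node (.node (.node (.leaf 5240) (.leaf 17520)) (.leaf 14440)) (.node (.node (.leaf 6126) (.leaf 21763)) (.leaf 17103))) (.node (.node (.node (.leaf 17747) (.leaf 19834)) (.leaf 15442)) (.node (.leaf 7875) (.leaf 15880)))) (.node (.node (.node (.node (.leaf 5372) (.leaf 18442)) (.leaf 11521)) (.node (.leaf 16129) (.leaf 10949))) (.node (.node (.node (.leaf 6549) (.leaf 20997)) (.leaf 14624)) (.node (.leaf 20465) (.leaf 16908)))))) (.node (.node (.node (.node (.node (.node (.leaf 4494) (.leaf 17385)) (.leaf 13672)) (.node (.node (.leaf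 20034) (.leaf 21591)) (.leaf 16595))) (.node (.node (.node (.leaf 2371) (.leaf 19784)) (.leaf 14176)) (.node (.leaf 6472) (.leaf 21324)))) (.node (.node (.node (.node (.leaf 6022) (.leaf 18263)) (.leaf 14375)) (.node (.leaf 11454) (.leaf 12909))) (.node (.node (.node (.leaf 4731) (.leaf 20649)) (.leaf 16470)) (.node (.leaf 19431) (.leaf 16673))))) (.node (.node (.node (.node (.node (.leaf 7270) (.leaf 17704)) (.leaf 14141)) (.node (.leaf 16377) (.leaf 13677))) (.node (.node (.node (.leaf 5425) (.leaf 20710)) (.leaf 17355)) (.node (.leaf 7237) (.leaf 16163)))) (.node (.node (.node (.node (.leaf 3104) (.leaf 18898)) (.leaf 17618)) (.node (.leaf 15056) (.leaf 12417))) (.node (.node (.node (.leaf 4831) (.leaf 21235)) (.leaf 12250)) (.node (.leaf 6719) (.leaf 19468))))))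
def dFin_48 : BT := .node dFin_46 dFin_47
def dFin_49 : BT := .node (.node (.node (.node (.node (.node (.node (.leaf 215) (.leaf 17092)) (.leaf 17891)) (.node (.node (.leaf 7544) (.leaf 21380)) (.leaf 12526))) (.node (.node (.node (.leaf 2135) (.leaf 19115)) (.leaf 13478)) (.node (.leaf 15088) (.leaf 16269)))) (.node (.node (.node (.node (.leaf 1005) (.leaf 17957)) (.leaf 14896)) (.node (.leaf 11578) (.leaf 15304))) (.node (.node (.node (.leaf 19599) (.leaf 20249)) (.leaf 9250)) (.node (.leaf 13934) (.leaf 16341))))) (.node (.node (.node (.node (.node (.leaf 391) (.leaf 18571)) (.leaf 6819)) (.node (.node (.leaf 5957) (.leaf 21715)) (.leaf 9419))) (.node (.node (.node (.leaf 5435) (.leaf 19613)) (.leaf 7401)) (.node (.leaf 6493) (.leaf 15825)))) (.node (.node (.node (.node (.leaf 1851) (.leaf 19017)) (.leaf 15399)) (.node (.leaf 6314) (.leaf 10703))) (.node (.node (.node (.leaf 5643) (.leaf 20890)) (.leaf 18881)) (.node (.leaf 11562) (.leaf 19643)))))) (.node (.node (.node (.node (.node (.node (.leaf 5400) (.leaf 18110))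 (.leaf 15638)) (.node (.node (.leaf 5815) (.leaf 21530)) (.leaf 13831))) (.node (.node (.node (.leaf 2312) (.leaf 21383)) (.leaf 7419)) (.node (.leaf 6555) (.leaf 15724)))) (.node (.node (.node (.node (.leaf 5352) (.leaf 18630)) (.leaf 9012)) (.node (.leaf 11551) (.leaf 10595))) (.node (.node (.node (.leaf 4695) (.leaf 20570)) (.leaf 15341)) (.node (.leaf 14872) (.leaf 16606))))) (.node (.node (.node (.node (.node (.leaf 573) (.leaf 17581)) (.leaf 14257)) (.node (.leaf 6119) (.leaf 9864))) (.node (.node (.node (.leaf 3434) (.leaf 20171)) (.leaf 7493)) (.node (.leaf 14958) (.leaf 21118)))) (.node (.node (.node (.node (.leaf 5837) (.leaf 18822)) (.leaf 16260)) (.node (.leaf 7099) (.leaf 16674))) (.node (.node (.node (.leaf 5693) (.leaf 21161)) (.leaf 15030)) (.node (.leaf 21690) (.leaf 17012))))))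
def dFin_50 : BT := .node (.node (.node (.node (.node (.node (.node (.leaf 2092) (.leaf 20657)) (.leaf 6747)) (.node (.node (.leaf 5785) (.leaf 21460)) (.leaf 15201))) (.node (.node (.node (.leaf 18131) (.leaf 19379)) (.leaf 8919)) (.node (.leaf 6412) (.leaf 15511)))) (.node (.node (.node (.node (.leaf 1791) (.leaf 17863)) (.leaf 13863)) (.node (.leaf 10350) (.leaf 10621))) (.node (.node (.node (.leaf 4592) (.leaf 20379)) (.leaf 13193)) (.node (.leaf 17375) (.leaf 16435))))) (.node (.node (.node (.node (.node (.leaf 414) (.leaf 17533)) (.leaf 20123)) (.node (.leaf 6047) (.leaf 13050))) (.node (.node (.node (.leaf 4588) (.leaf 19852)) (.leaf 15050)) (.node (.leaf 7868) (.leaf 16053)))) (.node (.node (.node (.node (.leaf 1867) (.leaf 18507)) (.leaf 7033)) (.node (.leaf 12823) (.leaf 19026))) (.node (.node (.node (.leaf 5922) (.leaf 21030)) (.leaf 14908)) (.node (.leaf 6660) (.leaf 16975)))))) (.node (.node (.node (.node (.node (.node (.leaf 3029) (.leaf 17277)) (.leaf 13741)) (.node (.node (.leaf 16671) (.leaf 21637)) (.leaf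 21514))) (.node (.node (.node (.leaf 3441) (.leaf 19788)) (.leaf 15218)) (.node (.leaf 6475) (.leaf 15690)))) (.node (.node (.node (.node (.leaf 5119) (.leaf 18229)) (.leaf 12484)) (.node (.leaf 12023) (.leaf 17565))) (.node (.node (.node (.leaf 5202) (.leaf 20796)) (.leaf 17597)) (.node (.leaf 6624) (.leaf 18445))))) (.node (.node (.node (.node (.node (.leaf 988) (.leaf 17727)) (.leaf 15152)) (.node (.leaf 6215) (.leaf 14702))) (.node (.node (.node (.leaf 5558) (.leaf 20074)) (.leaf 16200)) (.node (.leaf 13497) (.leaf 16227)))) (.node (.node (.node (.node (.leaf 2086) (.leaf 20565)) (.leaf 7109)) (.node (.leaf 6383) (.leaf 19699))) (.node (.node (.node (.leaf 5945) (.leaf 21343)) (.leaf 8150)) (.node (.leaf 11795) (.leaf 18058))))))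
def dFin_51 : BT := .node dFin_49 dFin_50
def dFin_52 : BT := .node dFin_48 dFin_51
def dFin_53 : BT := .node (.node (.node (.node (.node (.node (.node (.leaf 19) (.leaf 17041)) (.leaf 13490)) (.node (.node (.leaf 5690) (.leaf 21364)) (.leaf 17582))) (.node (.node (.node (.leaf 2125) (.leaf 19101)) (.leaf 15102)) (.node (.leaf 12814) (.leaf 11271)))) (.node (.node (.node (.node (.leaf 991) (.leaf 17777)) (.leaf 14839)) (.node (.leaf 12013) (.leaf 10075))) (.node (.node (.node (.leaf 4036) (.leaf 21034)) (.leaf 7565)) (.node (.leaf 13894) (.leaf 16370))))) (.node (.node (.node (.node (.node (.leaf 2772) (.leaf 19043)) (.leaf 14460)) (.node (.node (.leaf 6045) (.leaf 21685)) (.leaf 9502))) (.node (.node (.node (.leaf 12784) (.leaf 19700)) (.leaf 14761)) (.node (.leaf 15077) (.leaf 15847)))) (.node (.node (.node (.node (.leaf 12021) (.leaf 20417)) (.leaf 12607)) (.node (.leaf 6986) (.leaf 15110))) (.node (.node (.node (.leaf 5910) (.leaf 20922)) (.leaf 19458)) (.node (.leaf 14244) (.leaf 16764)))))) (.node (.node (.node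 (.node (.node (.node (.leaf 168) (.leaf 17208)) (.leaf 6766)) (.node (.node (.leaf 5835) (.leaf 21511)) (.leaf 14953))) (.node (.node (.node (.leaf 2303) (.leaf 19471)) (.leaf 7272)) (.node (.leaf 15760) (.leaf 15891)))) (.node (.node (.node (.node (.leaf 1768) (.leaf 20945)) (.leaf 12513)) (.node (.leaf 12691) (.leaf 18206))) (.node (.node (.node (.leaf 5622) (.leaf 20533)) (.leaf 11391)) (.node (.leaf 14810) (.leaf 16507))))) (.node (.node (.node (.node (.node (.leaf 443) (.leaf 18095)) (.leaf 16718)) (.node (.leaf 6101) (.leaf 16408))) (.node (.node (.node (.leaf 3430) (.leaf 20176)) (.leaf 8063)) (.node (.leaf 14882) (.leaf 16114)))) (.node (.node (.node (.node (.leaf 5494) (.leaf 18930)) (.leaf 15068)) (.node (.leaf 12113) (.leaf 11056))) (.node (.node (.node (.leaf 6563) (.leaf 21150)) (.leaf 14949)) (.node (.leaf 9167) (.leaf 17954))))))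
def dFin_54 : BT := .node (.node (.node (.node (.node (.node (.node (.leaf 1796) (.leaf 17151)) (.leaf 9522)) (.node (.node (.leaf 5765) (.leaf 21483)) (.leaf 8333))) (.node (.node (.node (.leaf 2297) (.leaf 20064)) (.leaf 15648)) (.node (.leaf 12391) (.leaf 15497)))) (.node (.node (.node (.node (.leaf 5987) (.leaf 17883)) (.leaf 15248)) (.node (.leaf 12175) (.leaf 13765))) (.node (.node (.node (.leaf 5367) (.leaf 20348)) (.leaf 12952)) (.node (.leaf 15137) (.leaf 18146))))) (.node (.node (.node (.node (.node (.leaf 5337) (.leaf 19880)) (.leaf 14519)) (.node (.leaf 6036) (.leaf 10482))) (.node (.node (.node (.leaf 5664) (.leaf 19848)) (.leaf 16963)) (.node (.leaf 6503) (.leaf 15986)))) (.node (.node (.node (.node (.leaf 6052) (.leaf 18490)) (.leaf 10619)) (.node (.leaf 15298) (.leaf 10992))) (.node (.node (.node (.leaf 4777) (.leaf 20991)) (.leaf 7831)) (.node (.leaf 12963) (.leaf 18500)))))) (.node (.node (.node (.node (.node (.node (.leaf 5195) (.leaf 17427)) (.leaf 13735)) (.node (.node (.leaf 5985) (.leaf 21600))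 (.leaf 18353))) (.node (.node (.node (.leaf 7444) (.leaf 20914)) (.leaf 14445)) (.node (.leaf 13808) (.leaf 15758)))) (.node (.node (.node (.node (.leaf 1811) (.leaf 18237)) (.leaf 7061)) (.node (.leaf 20899) (.leaf 12047))) (.node (.node (.node (.leaf 4725) (.leaf 20616)) (.leaf 12700)) (.node (.leaf 14970) (.leaf 17139))))) (.node (.node (.node (.node (.node (.leaf 2817) (.leaf 17672)) (.leaf 14164)) (.node (.leaf 6191) (.leaf 14564))) (.node (.node (.node (.leaf 11002) (.leaf 20888)) (.leaf 7533)) (.node (.leaf 6877) (.leaf 16215)))) (.node (.node (.node (.node (.leaf 2078) (.leaf 18852)) (.leaf 13620)) (.node (.leaf 10355) (.leaf 16462))) (.node (.node (.node (.leaf 4846) (.leaf 21296)) (.leaf 12157)) (.node (.leaf 11604) (.leaf 18083))))))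
def dFin_55 : BT := .node dFin_53 dFin_54
def dFin_56 : BT := .node (.node (.node (.node (.node (.node (.node (.leaf 947) (.leaf 18589)) (.leaf 6721)) (.node (.node (.leaf 5795) (.leaf 21397)) (.leaf 12219))) (.node (.node (.node (.leaf 6088) (.leaf 19254)) (.leaf 16088)) (.node (.leaf 12423) (.leaf 15457)))) (.node (.node (.node (.node (.leaf 4581) (.leaf 17998)) (.leaf 8857)) (.node (.leaf 8163) (.leaf 15251))) (.node (.node (.node (.leaf 5586) (.leaf 20226)) (.leaf 21698)) (.node (.leaf 6592) (.leaf 16361))))) (.node (.node (.node (.node (.node (.leaf 5930) (.leaf 17484)) (.leaf 14405)) (.node (.node (.leaf 6689) (.leaf 21742)) (.leaf 9442))) (.node (.node (.node (.leaf 3108) (.leaf 19586)) (.leaf 14726)) (.node (.leaf 6497) (.leaf 15897)))) (.node (.node (.node (.node (.leaf 6531) (.leaf 18888)) (.leaf 16709)) (.node (.leaf 6297) (.leaf 11018))) (.node (.node (.node (.leaf 5733) (.leaf 20872)) (.leaf 16004)) (.node (.leaf 17393) (.leaf 16807)))))) (.node (.node (.node (.node (.node (.node (.leaf 151) (.leaf 17376))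 (.leaf 14218)) (.node (.node (.leaf 5842) (.leaf 21739)) (.leaf 8667))) (.node (.node (.node (.leaf 2306) (.leaf 19507)) (.leaf 7417)) (.node (.leaf 6568) (.leaf 16348)))) (.node (.node (.node (.node (.leaf 5549) (.leaf 18295)) (.leaf 17977)) (.node (.leaf 12551) (.leaf 10597))) (.node (.node (.node (.leaf 5039) (.leaf 20700)) (.leaf 15058)) (.node (.leaf 8051) (.leaf 16638))))) (.node (.node (.node (.node (.node (.leaf 2746) (.leaf 17595)) (.leaf 13540)) (.node (.leaf 6154) (.leaf 14619))) (.node (.node (.node (.leaf 3931) (.leaf 21184)) (.leaf 13547)) (.node (.leaf 6540) (.leaf 16156)))) (.node (.node (.node (.node (.leaf 1911) (.leaf 18916)) (.leaf 12090)) (.node (.leaf 16785) (.leaf 11439))) (.node (.node (.node (.leaf 13834) (.leaf 21207)) (.leaf 14213)) (.node (.leaf 21340) (.leaf 17027))))))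
def dFin_57 : BT := .node (.node (.node (.node (.node (.node (.node (.leaf 601) (.leaf 20019)) (.leaf 9460)) (.node (.node (.leaf 7414) (.leaf 21489)) (.leaf 14293))) (.node (.node (.node (.leaf 2171) (.leaf 19450)) (.leaf 15311)) (.node (.leaf 6523) (.leaf 17146)))) (.node (.node (.node (.node (.leaf 6456) (.leaf 19313)) (.leaf 12446)) (.node (.leaf 10402) (.leaf 13057))) (.node (.node (.node (.leaf 4660) (.leaf 20462)) (.leaf 7636)) (.node (.leaf 6638) (.leaf 16465))))) (.node (.node (.node (.node (.node (.leaf 3073) (.leaf 18096)) (.leaf 15315)) (.node (.leaf 6071) (.leaf 13231))) (.node (.node (.node (.leaf 3127) (.leaf 19883)) (.leaf 14415)) (.node (.leaf 21053) (.leaf 16252)))) (.node (.node (.node (.node (.leaf 2177) (.leaf 21200)) (.leaf 12901)) (.node (.leaf 12339) (.leaf 10991))) (.node (.node (.node (.leaf 18602) (.leaf 21102)) (.leaf 10072)) (.node (.leaf 11690) (.leaf 16948)))))) (.node (.node (.node (.node (.node (.node (.leaf 3021) (.leaf 17475)) (.leaf 15188)) (.node (.node (.leaf 5955) (.leaf 21651))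 (.leaf 15373))) (.node (.node (.node (.leaf 7663) (.leaf 21155)) (.leaf 17023)) (.node (.leaf 7918) (.leaf 16498)))) (.node (.node (.node (.node (.leaf 1837) (.leaf 18221)) (.leaf 11665)) (.node (.leaf 6278) (.leaf 10770))) (.node (.node (.node (.leaf 4744) (.leaf 20756)) (.leaf 14549)) (.node (.leaf 18435) (.leaf 17019))))) (.node (.node (.node (.node (.node (.leaf 781) (.leaf 17755)) (.leaf 6881)) (.node (.leaf 6210) (.leaf 15661))) (.node (.node (.node (.leaf 10954) (.leaf 20012)) (.leaf 7555)) (.node (.leaf 18855) (.leaf 16243)))) (.node (.node (.node (.node (.leaf 2397) (.leaf 18960)) (.leaf 7826)) (.node (.leaf 13030) (.leaf 15112))) (.node (.node (.node (.leaf 6102) (.leaf 21334)) (.leaf 21581)) (.node (.leaf 13026) (.leaf 19023))))))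
def dFin_58 : BT := .node dFin_56 dFin_57
def dFin_59 : BT := .node dFin_55 dFin_58
def dFin_60 : BT := .node dFin_52 dFin_59
def dFin_61 : BT := .node dFin_45 dFin_60
def dFin_62 : BT := .node dFin_30 dFin_61
def dFin_63 : BT := .node (.node (.node (.node (.node (.node (.node (.leaf 2) (.leaf 18646)) (.leaf 17333)) (.node (.node (.leaf 16693) (.leaf 21333)) (.leaf 13184))) (.node (.node (.node (.leaf 2366) (.leaf 18966)) (.leaf 14171)) (.node (.leaf 13308) (.leaf 13270)))) (.node (.node (.node (.node (.leaf 802) (.leaf 18288)) (.leaf 14865)) (.node (.leaf 6222) (.leaf 16915))) (.node (.node (.node (.leaf 3950) (.leaf 19968)) (.leaf 7673)) (.node (.leaf 7985) (.leaf 17778))))) (.node (.node (.node (.node (.node (.leaf 108) (.leaf 17451)) (.leaf 14109)) (.node (.node (.leaf 6028) (.leaf 21656)) (.leaf 12967))) (.node (.node (.node (.leaf 2351) (.leaf 19678)) (.leaf 7871)) (.node (.leaf 13763) (.leaf 15775)))) (.node (.node (.node (.node (.leaf 4515) (.leaf 18201)) (.leaf 17379)) (.node (.leaf 6280) (.leaf 10740))) (.node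 (.node (.node (.leaf 5609) (.leaf 20698)) (.leaf 13823)) (.node (.leaf 14503) (.leaf 16744)))))) (.node (.node (.node (.node (.node (.node (.leaf 583) (.leaf 17195)) (.leaf 12566)) (.node (.node (.leaf 5797) (.leaf 21476)) (.leaf 11840))) (.node (.node (.node (.leaf 5065) (.leaf 19461)) (.leaf 13383)) (.node (.leaf 6440) (.leaf 15641)))) (.node (.node (.node (.node (.leaf 5354) (.leaf 20071)) (.leaf 9180)) (.node (.leaf 11323) (.leaf 19866))) (.node (.node (.node (.leaf 4774) (.leaf 20418)) (.leaf 7647)) (.node (.leaf 14855) (.leaf 16453))))) (.node (.node (.node (.node (.node (.leaf 424) (.leaf 17552)) (.leaf 9947)) (.node (.leaf 10873) (.leaf 9747))) (.node (.node (.node (.leaf 3119) (.leaf 19876)) (.leaf 15673)) (.node (.leaf 14766) (.leaf 16035)))) (.node (.node (.node (.node (.leaf 7077) (.leaf 19567)) (.leaf 15205)) (.node (.leaf 12633) (.leaf 11021))) (.node (.node (.node (.leaf 4804) (.leaf 21108)) (.leaf 14433)) (.node (.leaf 12470) (.leaf 16956))))))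
def dFin_64 : BT := .node (.node (.node (.node (.node (.node (.node (.leaf 980) (.leaf 17050)) (.leaf 13292)) (.node (.node (.leaf 5739) (.leaf 21408)) (.leaf 18927))) (.node (.node (.node (.leaf 12640) (.leaf 19127)) (.leaf 7258)) (.node (.leaf 12241) (.leaf 15455)))) (.node (.node (.node (.node (.leaf 1878) (.leaf 17988)) (.leaf 15692)) (.node (.leaf 12253) (.leaf 10178))) (.node (.node (.node (.leaf 19036) (.leaf 21630)) (.leaf 12725)) (.node (.leaf 13968) (.leaf 16387))))) (.node (.node (.node (.node (.node (.leaf 326) (.leaf 20925)) (.leaf 15217)) (.node (.node (.leaf 5995) (.leaf 21746)) (.leaf 13203))) (.node (.node (.node (.leaf 15501) (.leaf 19656)) (.leaf 7405)) (.node (.leaf 7861) (.leaf 16557)))) (.node (.node (.node (.node (.leaf 1859) (.leaf 18398)) (.leaf 9275)) (.node (.leaf 12667) (.leaf 10941))) (.node (.node (.node (.leaf 5959) (.leaf 20878)) (.leaf 14585)) (.node (.leaf 12208) (.leaf 21198)))))) (.node (.node (.node (.node (.node (.node (.leaf 65) (.leaf 17389)) (.leaf 8482)) (.node (.node (.leaf 5881)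 (.leaf 21565)) (.leaf 16668))) (.node (.node (.node (.leaf 5672) (.leaf 19770)) (.leaf 7442)) (.node (.leaf 14269) (.leaf 15727)))) (.node (.node (.node (.node (.leaf 1812) (.leaf 18242)) (.leaf 6981)) (.node (.leaf 21354) (.leaf 13234))) (.node (.node (.node (.leaf 4710) (.leaf 20663)) (.leaf 8325)) (.node (.leaf 16647) (.leaf 16663))))) (.node (.node (.node (.node (.node (.leaf 3069) (.leaf 17630)) (.leaf 13631)) (.node (.leaf 6153) (.leaf 12746))) (.node (.node (.node (.leaf 5492) (.leaf 20133)) (.leaf 15395)) (.node (.leaf 7406) (.leaf 16171)))) (.node (.node (.node (.node (.leaf 1903) (.leaf 19584)) (.leaf 7058)) (.node (.leaf 10783) (.leaf 15332))) (.node (.node (.node (.leaf 15242) (.leaf 21225)) (.leaf 10154)) (.node (.leaf 9150) (.leaf 17997))))))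
def dFin_65 : BT := .node dFin_63 dFin_64
def dFin_66 : BT := .node (.node (.node (.node (.node (.node (.node (.leaf 23) (.leaf 17101)) (.leaf 12197)) (.node (.node (.leaf 5700) (.leaf 21389)) (.leaf 13171))) (.node (.node (.node (.leaf 2145) (.leaf 19097)) (.leaf 7245)) (.node (.leaf 12816) (.leaf 13156)))) (.node (.node (.node (.node (.leaf 999) (.leaf 19102)) (.leaf 19774)) (.node (.leaf 6337) (.leaf 14389))) (.node (.node (.node (.leaf 11001) (.leaf 20194)) (.leaf 11533)) (.node (.leaf 13929) (.leaf 16344))))) (.node (.node (.node (.node (.node (.leaf 5437) (.leaf 17510)) (.leaf 14383)) (.node (.node (.leaf 5960) (.leaf 21708)) (.leaf 18877))) (.node (.node (.node (.leaf 12010) (.leaf 19557)) (.leaf 14845)) (.node (.leaf 21228) (.leaf 15856)))) (.node (.node (.node (.node (.leaf 5340) (.leaf 18362)) (.leaf 12997)) (.node (.leaf 20152) (.leaf 10781))) (.node (.node (.node (.leaf 12854) (.leaf 20936)) (.leaf 14186)) (.node (.leaf 20179) (.leaf 19854)))))) (.node (.node (.node (.node (.node (.node (.leaf 3420) (.leaf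 17337)) (.leaf 6875)) (.node (.node (.leaf 13473) (.leaf 21558)) (.leaf 15826))) (.node (.node (.node (.leaf 2284) (.leaf 21174)) (.leaf 7300)) (.node (.leaf 13897) (.leaf 17283)))) (.node (.node (.node (.node (.leaf 1777) (.leaf 18845)) (.leaf 19902)) (.node (.leaf 12933) (.leaf 10591))) (.node (.node (.node (.leaf 5620) (.leaf 20520)) (.leaf 12653)) (.node (.leaf 14820) (.leaf 16609))))) (.node (.node (.node (.node (.node (.leaf 2895) (.leaf 17563)) (.leaf 14553)) (.node (.leaf 6122) (.leaf 15114))) (.node (.node (.node (.leaf 3438) (.leaf 20149)) (.leaf 14994)) (.node (.leaf 6514) (.leaf 16365)))) (.node (.node (.node (.node (.leaf 5619) (.leaf 18928)) (.leaf 10855)) (.node (.leaf 21454) (.leaf 11093))) (.node (.node (.node (.leaf 4851) (.leaf 21137)) (.leaf 8045)) (.node (.leaf 12934) (.leaf 21194))))))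
def dFin_67 : BT := .node (.node (.node (.node (.node (.node (.node (.leaf 3039) (.leaf 20761)) (.leaf 16944)) (.node (.node (.leaf 6068) (.leaf 21453)) (.leaf 12968))) (.node (.node (.node (.leaf 6108) (.leaf 19221)) (.leaf 15272)) (.node (.leaf 12213) (.leaf 17127)))) (.node (.node (.node (.node (.leaf 1736) (.leaf 17893)) (.leaf 13587)) (.node (.leaf 10469) (.leaf 14163))) (.node (.node (.node (.leaf 4508) (.leaf 20584)) (.leaf 7597)) (.node (.leaf 15979) (.leaf 16418))))) (.node (.node (.node (.node (.node (.leaf 419) (.leaf 17536)) (.leaf 16075)) (.node (.leaf 6063) (.leaf 9632))) (.node (.node (.node (.leaf 7239) (.leaf 19816)) (.leaf 14038)) (.node (.leaf 16446) (.leaf 15994)))) (.node (.node (.node (.node (.leaf 15377) (.leaf 19108)) (.leaf 7097)) (.node (.leaf 12500) (.leaf 10970))) (.node (.node (.node (.leaf 4799) (.leaf 21016)) (.leaf 18367)) (.node (.leaf 12393) (.leaf 16820)))))) (.node (.node (.node (.node (.node (.node (.leaf 125) (.leaf 17286)) (.leaf 16753)) (.node (.node (.leaf 5909) (.leaf 21607))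 (.leaf 14921))) (.node (.node (.node (.leaf 2329) (.leaf 19756)) (.leaf 16605)) (.node (.leaf 14002) (.leaf 15706)))) (.node (.node (.node (.node (.leaf 1885) (.leaf 18290)) (.leaf 6994)) (.node (.leaf 12167) (.leaf 13316))) (.node (.node (.node (.leaf 6992) (.leaf 20789)) (.leaf 9466)) (.node (.leaf 19074) (.leaf 16710))))) (.node (.node (.node (.node (.node (.leaf 762) (.leaf 17721)) (.leaf 15148)) (.node (.leaf 6188) (.leaf 9924))) (.node (.node (.node (.leaf 3942) (.leaf 21423)) (.leaf 7543)) (.node (.leaf 15989) (.leaf 16209)))) (.node (.node (.node (.node (.leaf 2101) (.leaf 18770)) (.leaf 13628)) (.node (.leaf 12958) (.leaf 13101))) (.node (.node (.node (.leaf 5083) (.leaf 21313)) (.leaf 15230)) (.node (.leaf 9020) (.leaf 20867))))))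
def dFin_68 : BT := .node dFin_66 dFin_67
def dFin_69 : BT := .node dFin_65 dFin_68
def dFin_70 : BT := .node (.node (.node (.node (.node (.node (.node (.leaf 591) (.leaf 17066)) (.leaf 12906)) (.node (.node (.leaf 6031) (.leaf 21347)) (.leaf 11906))) (.node (.node (.node (.leaf 5617) (.leaf 19085)) (.leaf 15154)) (.node (.leaf 19261) (.leaf 13265)))) (.node (.node (.node (.node (.leaf 5766) (.leaf 17771)) (.leaf 6932)) (.node (.leaf 6322) (.leaf 17137))) (.node (.node (.node (.leaf 5585) (.leaf 20345)) (.leaf 15343)) (.node (.leaf 15400) (.leaf 16267))))) (.node (.node (.node (.node (.node (.leaf 5280) (.leaf 17465)) (.leaf 14483)) (.node (.node (.leaf 8991) (.leaf 21681)) (.leaf 9309))) (.node (.node (.node (.leaf 2491) (.leaf 20431)) (.leaf 7345)) (.node (.leaf 14194) (.leaf 15812)))) (.node (.node (.node (.node (.leaf 13243) (.leaf 18298)) (.leaf 16241)) (.node (.leaf 8134) (.leaf 13114))) (.node (.node (.node (.leaf 4845) (.leaf 20805)) (.leaf 15458)) (.node (.leaf 19350) (.leaf 18361)))))) (.node (.node (.node (.node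 (.node (.node (.leaf 175) (.leaf 17328)) (.leaf 12629)) (.node (.node (.leaf 6004) (.leaf 21735)) (.leaf 12481))) (.node (.node (.node (.leaf 2181) (.leaf 19432)) (.leaf 7293)) (.node (.leaf 6430) (.leaf 15652)))) (.node (.node (.node (.node (.leaf 1761) (.leaf 18105)) (.leaf 12457)) (.node (.leaf 12432) (.leaf 10576))) (.node (.node (.node (.leaf 4680) (.leaf 20554)) (.leaf 13782)) (.node (.leaf 6609) (.leaf 16497))))) (.node (.node (.node (.node (.node (.leaf 433) (.leaf 19219)) (.leaf 14719)) (.node (.leaf 6175) (.leaf 15163))) (.node (.node (.node (.leaf 3133) (.leaf 20172)) (.leaf 16120)) (.node (.leaf 14723) (.leaf 17196)))) (.node (.node (.node (.node (.leaf 1900) (.leaf 18637)) (.leaf 12658)) (.node (.leaf 15261) (.leaf 11045))) (.node (.node (.node (.leaf 5602) (.leaf 21121)) (.leaf 8006)) (.node (.leaf 21370) (.leaf 16827))))))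
def dFin_71 : BT := .node (.node (.node (.node (.node (.node (.node (.leaf 2751) (.leaf 20639)) (.leaf 6775)) (.node (.node (.leaf 5759) (.leaf 21436)) (.leaf 14935))) (.node (.node (.node (.leaf 2160) (.leaf 19314)) (.leaf 15362)) (.node (.leaf 6400) (.leaf 20759)))) (.node (.node (.node (.node (.leaf 1711) (.leaf 19257)) (.leaf 15837)) (.node (.leaf 12224) (.leaf 10148))) (.node (.node (.node (.leaf 4504) (.leaf 20329)) (.leaf 9630)) (.node (.leaf 14060) (.leaf 16403))))) (.node (.node (.node (.node (.node (.leaf 365) (.leaf 17445)) (.leaf 15105)) (.node (.node (.leaf 6019) (.leaf 21771)) (.leaf 10495))) (.node (.node (.node (.leaf 5342) (.leaf 19840)) (.leaf 7355)) (.node (.leaf 14492) (.leaf 16071)))) (.node (.node (.node (.node (.leaf 4499) (.leaf 18407)) (.leaf 7029)) (.node (.leaf 12668) (.leaf 10973))) (.node (.node (.node (.leaf 14649) (.leaf 20953)) (.leaf 7839)) (.node (.leaf 12065) (.leaf 16903)))))) (.node (.node (.node (.node (.node (.node (.leaf 5205) (.leaf 17961)) (.leaf 13663)) (.node (.node (.leaf 5887)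 (.leaf 21589)) (.leaf 14421))) (.node (.node (.node (.leaf 5049) (.leaf 19515)) (.leaf 16999)) (.node (.leaf 13412) (.leaf 15705)))) (.node (.node (.node (.node (.leaf 1806) (.leaf 18268)) (.leaf 6989)) (.node (.leaf 6369) (.leaf 12916))) (.node (.node (.node (.leaf 4815) (.leaf 20654)) (.leaf 7741)) (.node (.leaf 14956) (.leaf 16686))))) (.node (.node (.node (.node (.node (.leaf 767) (.leaf 17709)) (.leaf 14078)) (.node (.leaf 6162) (.leaf 9958))) (.node (.node (.node (.leaf 5946) (.leaf 20111)) (.leaf 7525)) (.node (.leaf 15508) (.leaf 16193)))) (.node (.node (.node (.node (.leaf 1919) (.leaf 18819)) (.leaf 12147)) (.node (.leaf 6778) (.leaf 12052))) (.node (.node (.node (.leaf 5129) (.leaf 21278)) (.leaf 15259)) (.node (.leaf 6675) (.leaf 16926))))))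
def dFin_72 : BT := .node dFin_70 dFin_71
def dFin_73 : BT := .node (.node (.node (.node (.node (.node (.node (.leaf 756) (.leaf 21638)) (.leaf 9277)) (.node (.node (.leaf 5714) (.leaf 21391)) (.leaf 12543))) (.node (.node (.node (.leaf 2137) (.leaf 19107)) (.leaf 14803)) (.node (.leaf 10879) (.leaf 19510)))) (.node (.node (.node (.node (.leaf 1400) (.leaf 19275)) (.leaf 15346)) (.node (.leaf 11584) (.leaf 10138))) (.node (.node (.node (.leaf 5572) (.leaf 20254)) (.leaf 10413)) (.node (.leaf 13940) (.leaf 16291))))) (.node (.node (.node (.node (.node (.leaf 579) (.leaf 18394)) (.leaf 14381)) (.node (.node (.leaf 6313) (.leaf 21723)) (.leaf 15438))) (.node (.node (.node (.leaf 3054) (.leaf 19588)) (.leaf 14733)) (.node (.leaf 14429) (.leaf 15835)))) (.node (.node (.node (.node (.leaf 12585) (.leaf 18576)) (.leaf 11717)) (.node (.leaf 11082) (.leaf 10931))) (.node (.node (.node (.leaf 5899) (.leaf 20906)) (.leaf 7850)) (.node (.leaf 10736) (.leaf 16793)))))) (.node (.node (.node (.node (.node (.node (.leaf 3844) (.leaf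 17210)) (.leaf 6793)) (.node (.node (.leaf 5845) (.leaf 21550)) (.leaf 15410))) (.node (.node (.node (.leaf 12093) (.leaf 19501)) (.leaf 7408)) (.node (.leaf 6558) (.leaf 21676)))) (.node (.node (.node (.node (.leaf 1799) (.leaf 18155)) (.leaf 13062)) (.node (.leaf 15756) (.leaf 10622))) (.node (.node (.node (.leaf 15792) (.leaf 20580)) (.leaf 13088)) (.node (.leaf 14878) (.leaf 16563))))) (.node (.node (.node (.node (.node (.leaf 5212) (.leaf 17598)) (.leaf 13551)) (.node (.leaf 6133) (.leaf 13256))) (.node (.node (.node (.leaf 5533) (.leaf 19919)) (.leaf 17744)) (.node (.leaf 7395) (.leaf 16151)))) (.node (.node (.node (.node (.leaf 2131) (.leaf 18830)) (.leaf 12119)) (.node (.leaf 6373) (.leaf 11102))) (.node (.node (.node (.leaf 4813) (.leaf 21176)) (.leaf 8016)) (.node (.leaf 13250) (.leaf 17016))))))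
def dFin_74 : BT := .node (.node (.node (.node (.node (.node (.node (.leaf 193) (.leaf 19425)) (.leaf 13451)) (.node (.node (.leaf 10349) (.leaf 21466)) (.leaf 13248))) (.node (.node (.node (.leaf 5466) (.leaf 19349)) (.leaf 15698)) (.node (.leaf 6425) (.leaf 17170)))) (.node (.node (.node (.node (.leaf 1828) (.leaf 19031)) (.leaf 11527)) (.node (.leaf 12622) (.leaf 13323))) (.node (.node (.node (.leaf 4583) (.leaf 20454)) (.leaf 7653)) (.node (.leaf 6605) (.leaf 18156))))) (.node (.node (.node (.node (.node (.leaf 430) (.leaf 20376)) (.leaf 15316)) (.node (.leaf 6051) (.leaf 13176))) (.node (.node (.node (.leaf 5250) (.leaf 19873)) (.leaf 8684)) (.node (.leaf 14602) (.leaf 16056)))) (.node (.node (.node (.node (.leaf 5544) (.leaf 18587)) (.leaf 19860)) (.node (.leaf 6362) (.leaf 19028))) (.node (.node (.node (.leaf 5649) (.leaf 21051)) (.leaf 14968)) (.node (.leaf 12400) (.leaf 16824)))))) (.node (.node (.node (.node (.node (.node (.leaf 5155) (.leaf 19993)) (.leaf 14980)) (.node (.node (.leaf 5919) (.leaf 21625)) (.leaf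 8912))) (.node (.node (.node (.leaf 5800) (.leaf 19696)) (.leaf 14368)) (.node (.leaf 14750) (.leaf 15782)))) (.node (.node (.node (.node (.leaf 14531) (.leaf 19580)) (.leaf 11542)) (.node (.leaf 9027) (.leaf 17605))) (.node (.node (.node (.leaf 4784) (.leaf 20762)) (.leaf 19570)) (.node (.leaf 6626) (.leaf 16717))))) (.node (.node (.node (.node (.node (.leaf 769) (.leaf 17739)) (.leaf 6919)) (.node (.leaf 6196) (.leaf 14901))) (.node (.node (.node (.leaf 4046) (.leaf 20601)) (.leaf 12828)) (.node (.leaf 6579) (.leaf 16237)))) (.node (.node (.node (.node (.leaf 2096) (.leaf 20578)) (.leaf 16726)) (.node (.leaf 11802) (.leaf 13260))) (.node (.node (.node (.leaf 5711) (.leaf 21314)) (.leaf 12055)) (.node (.leaf 17157) (.leaf 21166))))))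
def dFin_75 : BT := .node dFin_73 dFin_74
def dFin_76 : BT := .node dFin_72 dFin_75
def dFin_77 : BT := .node dFin_69 dFin_76
def dFin_78 : BT := .node (.node (.node (.node (.node (.node (.node (.leaf 10) (.leaf 17037)) (.leaf 6686)) (.node (.node (.leaf 5676) (.leaf 21344)) (.leaf 13295))) (.node (.node (.node (.leaf 3124) (.leaf 19073)) (.leaf 14232)) (.node (.leaf 8340) (.leaf 20814)))) (.node (.node (.node (.node (.leaf 793) (.leaf 17798)) (.leaf 13913)) (.node (.leaf 6230) (.leaf 15384))) (.node (.node (.node (.leaf 19045) (.leaf 19994)) (.leaf 12397)) (.node (.leaf 13792) (.leaf 16281))))) (.node (.node (.node (.node (.node (.leaf 5357) (.leaf 18125)) (.leaf 15186)) (.node (.node (.leaf 5973) (.leaf 21666)) (.leaf 11415))) (.node (.node (.node (.leaf 5656) (.leaf 19663)) (.leaf 19651)) (.node (.leaf 14111) (.leaf 15798)))) (.node (.node (.node (.node (.leaf 1833) (.leaf 18203)) (.leaf 12709)) (.node (.leaf 12988) (.leaf 11890))) (.node (.node (.node (.leaf 4749) (.leaf 20717)) (.leaf 14216)) (.node (.leaf 6629)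 (.leaf 16759)))))) (.node (.node (.node (.node (.node (.node (.leaf 49) (.leaf 17470)) (.leaf 13216)) (.node (.node (.leaf 5806) (.leaf 21491)) (.leaf 18138))) (.node (.node (.node (.leaf 5498) (.leaf 19420)) (.leaf 13331)) (.node (.leaf 6462) (.leaf 15636)))) (.node (.node (.node (.node (.leaf 7289) (.leaf 18084)) (.leaf 12533)) (.node (.leaf 10458) (.leaf 12793))) (.node (.node (.node (.leaf 4662) (.leaf 20424)) (.leaf 12736)) (.node (.leaf 13784) (.leaf 16484))))) (.node (.node (.node (.node (.node (.leaf 3061) (.leaf 17503)) (.leaf 14701)) (.node (.leaf 6294) (.leaf 12891))) (.node (.node (.node (.leaf 6040) (.leaf 19900)) (.leaf 15739)) (.node (.leaf 12284) (.leaf 16140)))) (.node (.node (.node (.node (.leaf 2128) (.leaf 19478)) (.leaf 12656)) (.node (.leaf 6365) (.leaf 11009))) (.node (.node (.node (.leaf 11613) (.leaf 21059)) (.leaf 10188)) (.node (.leaf 12523) (.leaf 16964))))))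
def dFin_79 : BT := .node (.node (.node (.node (.node (.node (.node (.leaf 5403) (.leaf 17130)) (.leaf 6731)) (.node (.node (.leaf 5817) (.leaf 21411)) (.leaf 9304))) (.node (.node (.node (.leaf 12710) (.leaf 19301)) (.leaf 14857)) (.node (.leaf 10887) (.leaf 15471)))) (.node (.node (.node (.node (.leaf 1917) (.leaf 17902)) (.leaf 8854)) (.node (.leaf 12216) (.leaf 17681))) (.node (.node (.node (.leaf 4500) (.leaf 20323)) (.leaf 15745)) (.node (.leaf 14052) (.leaf 19850))))) (.node (.node (.node (.node (.node (.leaf 5990) (.leaf 17483)) (.leaf 14457)) (.node (.node (.leaf 15840) (.leaf 21761)) (.leaf 12234))) (.node (.node (.node (.leaf 2459) (.leaf 20472)) (.leaf 7388)) (.node (.leaf 14478) (.leaf 15898)))) (.node (.node (.node (.node (.leaf 5052) (.leaf 18441)) (.leaf 21596)) (.node (.leaf 7023) (.leaf 10947))) (.node (.node (.node (.leaf 5631) (.leaf 21012)) (.leaf 14851)) (.node (.leaf 15277) (.leaf 18512)))))) (.node (.node (.node (.node (.node (.node (.leaf 123) (.leaf 17383)) (.leaf 14497)) (.node (.node (.leaf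 5870) (.leaf 21572)) (.leaf 15173))) (.node (.node (.node (.leaf 2779) (.leaf 19783)) (.leaf 14174)) (.node (.leaf 15882) (.leaf 16335)))) (.node (.node (.node (.node (.leaf 2138) (.leaf 18285)) (.leaf 13305)) (.node (.leaf 12277) (.leaf 12483))) (.node (.node (.node (.leaf 6560) (.leaf 20587)) (.leaf 14291)) (.node (.leaf 8048) (.leaf 16743))))) (.node (.node (.node (.node (.node (.leaf 744) (.leaf 17614)) (.leaf 14066)) (.node (.leaf 6172) (.leaf 13453))) (.node (.node (.node (.leaf 5857) (.leaf 21127)) (.leaf 13638)) (.node (.leaf 6529) (.leaf 16176)))) (.node (.node (.node (.node (.leaf 5772) (.leaf 19015)) (.leaf 12074)) (.node (.leaf 14011) (.leaf 12044))) (.node (.node (.node (.leaf 5597) (.leaf 21291)) (.leaf 12155)) (.node (.leaf 21402) (.leaf 18066))))))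
def dFin_80 : BT := .node dFin_78 dFin_79
def dFin_81 : BT := .node (.node (.node (.node (.node (.node (.node (.leaf 2729) (.leaf 17121)) (.leaf 15257)) (.node (.node (.leaf 5708) (.leaf 21376)) (.leaf 11377))) (.node (.node (.node (.leaf 15778) (.leaf 19980)) (.leaf 12589)) (.node (.leaf 12596) (.leaf 16272)))) (.node (.node (.node (.node (.leaf 1007) (.leaf 17966)) (.leaf 8904)) (.node (.leaf 6338) (.leaf 10190))) (.node (.node (.node (.leaf 4041) (.leaf 20275)) (.leaf 12616)) (.node (.leaf 15405) (.leaf 16373))))) (.node (.node (.node (.node (.node (.leaf 5268) (.leaf 19050)) (.leaf 14350)) (.node (.node (.leaf 5970) (.leaf 21711)) (.leaf 13134))) (.node (.node (.node (.leaf 5653) (.leaf 19706)) (.leaf 14682)) (.node (.leaf 15084) (.leaf 15820)))) (.node (.node (.node (.node (.leaf 12795) (.leaf 18549)) (.leaf 12884)) (.node (.leaf 6310) (.leaf 15053))) (.node (.node (.node (.leaf 4768) (.leaf 20900)) (.leaf 14276)) (.node (.leaf 12539) (.leaf 20531)))))) (.node (.node (.node (.node (.node (.node (.leaf 161) (.leaf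 17459)) (.leaf 14739)) (.node (.node (.leaf 5832) (.leaf 21526)) (.leaf 15450))) (.node (.node (.node (.leaf 2309) (.leaf 19487)) (.leaf 7274)) (.node (.leaf 6550) (.leaf 15709)))) (.node (.node (.node (.node (.leaf 2904) (.leaf 18133)) (.leaf 6978)) (.node (.leaf 12752) (.leaf 10593))) (.node (.node (.node (.leaf 5625) (.leaf 20568)) (.leaf 9051)) (.node (.leaf 8056) (.leaf 16611))))) (.node (.node (.node (.node (.node (.leaf 457) (.leaf 17571)) (.leaf 13512)) (.node (.leaf 10942) (.leaf 13133))) (.node (.node (.node (.leaf 3432) (.leaf 20158)) (.leaf 8042)) (.node (.leaf 14836) (.leaf 16099)))) (.node (.node (.node (.node (.leaf 2291) (.leaf 18820)) (.leaf 17783)) (.node (.leaf 12893) (.leaf 14509))) (.node (.node (.node (.leaf 13901) (.leaf 21157)) (.leaf 14947)) (.node (.leaf 12765) (.leaf 17025))))))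
def dFin_82 : BT := .node (.node (.node (.node (.node (.node (.node (.leaf 2282) (.leaf 17167)) (.leaf 9463)) (.node (.node (.leaf 12843) (.leaf 21599)) (.leaf 13042))) (.node (.node (.node (.leaf 2287) (.leaf 19965)) (.leaf 15644)) (.node (.leaf 6415) (.leaf 15514)))) (.node (.node (.node (.node (.leaf 6543) (.leaf 19347)) (.leaf 15048)) (.node (.leaf 10346) (.leaf 12965))) (.node (.node (.node (.leaf 5184) (.leaf 20367)) (.leaf 11805)) (.node (.leaf 14667) (.leaf 16443))))) (.node (.node (.node (.node (.node (.leaf 6194) (.leaf 20101)) (.leaf 14597)) (.node (.leaf 6058) (.leaf 12016))) (.node (.node (.node (.leaf 3100) (.leaf 19863)) (.leaf 15185)) (.node (.leaf 14598) (.leaf 15993)))) (.node (.node (.node (.node (.leaf 5924) (.leaf 18508)) (.leaf 10259)) (.node (.leaf 21115) (.leaf 10983))) (.node (.node (.node (.leaf 5257) (.leaf 21024)) (.leaf 7825)) (.node (.leaf 10417) (.leaf 21138)))))) (.node (.node (.node (.node (.node (.node (.leaf 4836) (.leaf 17303)) (.leaf 13772)) (.node (.node (.leaf 5927) (.leaf 21622))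 (.leaf 15364))) (.node (.node (.node (.leaf 11489) (.leaf 19719)) (.leaf 14399)) (.node (.leaf 15131) (.leaf 15697)))) (.node (.node (.node (.node (.leaf 1898) (.leaf 18234)) (.leaf 10537)) (.node (.leaf 15350) (.leaf 12413))) (.node (.node (.node (.leaf 4737) (.leaf 20790)) (.leaf 10902)) (.node (.leaf 17178) (.leaf 16731))))) (.node (.node (.node (.node (.node (.leaf 2807) (.leaf 17737)) (.leaf 15175)) (.node (.leaf 6293) (.leaf 14633))) (.node (.node (.node (.leaf 20324) (.leaf 20072)) (.leaf 7548)) (.node (.leaf 6878) (.leaf 16380)))) (.node (.node (.node (.node (.leaf 2088) (.leaf 21554)) (.leaf 13697)) (.node (.leaf 12960) (.leaf 13163))) (.node (.node (.node (.leaf 4848) (.leaf 21756)) (.leaf 12681)) (.node (.leaf 13076) (.leaf 18078))))))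
def dFin_83 : BT := .node dFin_81 dFin_82
def dFin_84 : BT := .node dFin_80 dFin_83
def dFin_85 : BT := .node (.node (.node (.node (.node (.node (.node (.leaf 14) (.leaf 21081)) (.leaf 16400)) (.node (.node (.leaf 5742) (.leaf 21369)) (.leaf 17578))) (.node (.node (.node (.leaf 2121) (.leaf 19892)) (.leaf 17346)) (.node (.leaf 6389) (.leaf 13143)))) (.node (.node (.node (.node (.leaf 3120) (.leaf 17780)) (.leaf 14853)) (.node (.leaf 6325) (.leaf 15168))) (.node (.node (.node (.leaf 4049) (.leaf 20293)) (.leaf 12100)) (.node (.leaf 16571) (.leaf 16354))))) (.node (.node (.node (.node (.node (.leaf 250) (.leaf 17412)) (.leaf 15100)) (.node (.node (.leaf 16145) (.leaf 21689)) (.leaf 13120))) (.node (.node (.node (.leaf 2969) (.leaf 19616)) (.leaf 7346)) (.node (.leaf 16897) (.leaf 16002)))) (.node (.node (.node (.node (.leaf 1841) (.leaf 18379)) (.leaf 7003)) (.node (.leaf 12663) (.leaf 19708))) (.node (.node (.node (.leaf 16791) (.leaf 20920)) (.leaf 13683)) (.node (.leaf 13661) (.leaf 16767)))))) (.node (.node (.node (.node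 (.node (.node (.leaf 3036) (.leaf 17341)) (.leaf 17096)) (.node (.node (.leaf 5827) (.leaf 21519)) (.leaf 11850))) (.node (.node (.node (.leaf 5054) (.leaf 19473)) (.leaf 7286)) (.node (.leaf 6459) (.leaf 15574)))) (.node (.node (.node (.node (.leaf 1869) (.leaf 18117)) (.leaf 11575)) (.node (.leaf 12442) (.leaf 10572))) (.node (.node (.node (.leaf 4666) (.leaf 21029)) (.leaf 12399)) (.node (.leaf 14808) (.leaf 16508))))) (.node (.node (.node (.node (.node (.leaf 441) (.leaf 20259)) (.leaf 13669)) (.node (.leaf 6105) (.leaf 11904))) (.node (.node (.node (.leaf 5454) (.leaf 20184)) (.leaf 15628)) (.node (.leaf 21584) (.leaf 16108)))) (.node (.node (.node (.node (.leaf 14975) (.leaf 18920)) (.leaf 9859)) (.node (.leaf 9053) (.leaf 16374))) (.node (.node (.node (.leaf 5116) (.leaf 21133)) (.leaf 14940)) (.node (.leaf 12693) (.leaf 17071))))))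
def dFin_86 : BT := .node (.node (.node (.node (.node (.node (.node (.leaf 199) (.leaf 17154)) (.leaf 13197)) (.node (.node (.leaf 5761) (.leaf 21505)) (.leaf 8274))) (.node (.node (.node (.leaf 2155) (.leaf 21716)) (.leaf 8906)) (.node (.leaf 12176) (.leaf 15487)))) (.node (.node (.node (.node (.leaf 1842) (.leaf 17897)) (.leaf 21469)) (.node (.leaf 6245) (.leaf 13459))) (.node (.node (.node (.leaf 15465) (.leaf 20347)) (.leaf 12014)) (.node (.leaf 7856) (.leaf 18128))))) (.node (.node (.node (.node (.node (.leaf 5734) (.leaf 17429)) (.leaf 6825)) (.node (.leaf 6054) (.leaf 18598))) (.node (.node (.node (.leaf 12179) (.leaf 19807)) (.leaf 7474)) (.node (.leaf 14546) (.leaf 18371)))) (.node (.node (.node (.node (.leaf 2958) (.leaf 18486)) (.leaf 13201)) (.node (.leaf 16126) (.leaf 10967))) (.node (.node (.node (.leaf 14645) (.leaf 20998)) (.leaf 14673)) (.node (.leaf 20237) (.leaf 16913)))))) (.node (.node (.node (.node (.node (.node (.leaf 4658) (.leaf 17398)) (.leaf 13778)) (.node (.node (.leaf 19638) (.leaf 21619))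 (.leaf 14904))) (.node (.node (.node (.leaf 2957) (.leaf 19764)) (.leaf 14258)) (.node (.leaf 14126) (.leaf 21310)))) (.node (.node (.node (.node (.leaf 15445) (.leaf 18192)) (.leaf 14529)) (.node (.leaf 12134) (.leaf 13079))) (.node (.node (.node (.leaf 4723) (.leaf 20610)) (.leaf 11876)) (.node (.leaf 21540) (.leaf 16699))))) (.node (.node (.node (.node (.node (.leaf 6221) (.leaf 17687)) (.leaf 14253)) (.node (.leaf 6180) (.leaf 16732))) (.node (.node (.node (.leaf 5575) (.leaf 20086)) (.leaf 7534)) (.node (.leaf 6576) (.leaf 16199)))) (.node (.node (.node (.node (.leaf 5612) (.leaf 18848)) (.leaf 21277)) (.node (.leaf 9556) (.leaf 13272))) (.node (.node (.node (.leaf 4840) (.leaf 21292)) (.leaf 9701)) (.node (.leaf 11534) (.leaf 20572))))))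
def dFin_87 : BT := .node dFin_85 dFin_86
def dFin_88 : BT := .node (.node (.node (.node (.node (.node (.node (.leaf 210) (.leaf 17094)) (.leaf 21616)) (.node (.node (.leaf 6213) (.leaf 21398)) (.leaf 11396))) (.node (.node (.node (.leaf 2376) (.leaf 19252)) (.leaf 7197)) (.node (.leaf 15087) (.leaf 15447)))) (.node (.node (.node (.node (.leaf 1746) (.leaf 17982)) (.leaf 15839)) (.node (.leaf 6242) (.leaf 15303))) (.node (.node (.node (.leaf 20276) (.leaf 20222)) (.leaf 11626)) (.node (.leaf 21281) (.leaf 16338))))) (.node (.node (.node (.node (.node (.leaf 375) (.leaf 18568)) (.leaf 15098)) (.node (.node (.leaf 5979) (.leaf 21732)) (.leaf 11405))) (.node (.node (.node (.leaf 3067) (.leaf 19594)) (.leaf 8392)) (.node (.leaf 14394) (.leaf 15892)))) (.node (.node (.node (.node (.leaf 1864) (.leaf 18987)) (.leaf 12804)) (.node (.leaf 7071) (.leaf 20081))) (.node (.node (.node (.leaf 5641) (.leaf 20871)) (.leaf 14752)) (.node (.leaf 12198) (.leaf 19716)))))) (.node (.node (.node (.node (.node (.node (.leaf 5504) (.leaf 20895))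 (.leaf 15396)) (.node (.node (.leaf 5848) (.leaf 21553)) (.leaf 13881))) (.node (.node (.node (.leaf 2304) (.leaf 19508)) (.leaf 7303)) (.node (.leaf 6556) (.leaf 15742)))) (.node (.node (.node (.node (.leaf 8123) (.leaf 18249)) (.leaf 9007)) (.node (.leaf 12755) (.leaf 20109))) (.node (.node (.node (.leaf 5143) (.leaf 20608)) (.leaf 13303)) (.node (.leaf 15981) (.leaf 16568))))) (.node (.node (.node (.node (.node (.leaf 5952) (.leaf 17606)) (.leaf 13579)) (.node (.leaf 12846) (.leaf 9861))) (.node (.node (.node (.leaf 3852) (.leaf 20131)) (.leaf 13404)) (.node (.leaf 6538) (.leaf 16153)))) (.node (.node (.node (.node (.leaf 5069) (.leaf 18870)) (.leaf 17965)) (.node (.leaf 7094) (.leaf 12766))) (.node (.node (.node (.leaf 4835) (.leaf 21197)) (.leaf 13471)) (.node (.leaf 21352) (.leaf 18911))))))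
def dFin_89 : BT := .node (.node (.node (.node (.node (.node (.node (.leaf 2891) (.leaf 17981)) (.leaf 12375)) (.node (.node (.leaf 5812) (.leaf 21484)) (.leaf 15223))) (.node (.node (.node (.leaf 15245) (.leaf 21038)) (.leaf 8916)) (.node (.leaf 6450) (.leaf 15521)))) (.node (.node (.node (.node (.leaf 1888) (.leaf 18057)) (.leaf 12745)) (.node (.leaf 10400) (.leaf 10774))) (.node (.node (.node (.leaf 4726) (.leaf 20471)) (.leaf 10391)) (.node (.leaf 20527) (.leaf 16469))))) (.node (.node (.node (.node (.node (.leaf 3070) (.leaf 21004)) (.leaf 12286)) (.node (.leaf 6067) (.leaf 12153))) (.node (.node (.node (.leaf 3117) (.leaf 19910)) (.leaf 19843)) (.node (.leaf 14601) (.leaf 16043)))) (.node (.node (.node (.node (.leaf 1896) (.leaf 18604)) (.leaf 11753)) (.node (.leaf 12857) (.leaf 10997))) (.node (.node (.node (.leaf 4795) (.leaf 21036)) (.leaf 15165)) (.node (.leaf 12462) (.leaf 16970)))))) (.node (.node (.node (.node (.node (.node (.leaf 2953) (.leaf 17455)) (.leaf 14115)) (.node (.node (.leaf 5968) (.leaf 21645))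 (.leaf 17164))) (.node (.node (.node (.leaf 2355) (.leaf 19672)) (.leaf 15063)) (.node (.leaf 14150) (.leaf 16218)))) (.node (.node (.node (.node (.leaf 16749) (.leaf 18215)) (.leaf 6997)) (.node (.leaf 18504) (.leaf 10669))) (.node (.node (.node (.leaf 4753) (.leaf 20768)) (.leaf 7893)) (.node (.leaf 13560) (.leaf 16800))))) (.node (.node (.node (.node (.node (.leaf 3058) (.leaf 17763)) (.leaf 15633)) (.node (.leaf 6203) (.leaf 14960))) (.node (.node (.node (.leaf 5577) (.leaf 20024)) (.leaf 12977)) (.node (.leaf 18851) (.leaf 16255)))) (.node (.node (.node (.node (.leaf 2098) (.leaf 18937)) (.leaf 14907)) (.node (.leaf 13028) (.leaf 15109))) (.node (.node (.node (.leaf 10328) (.leaf 21661)) (.leaf 12992)) (.node (.leaf 11783) (.leaf 17868))))))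
def dFin_90 : BT := .node dFin_88 dFin_89
def dFin_91 : BT := .node dFin_87 dFin_90
def dFin_92 : BT := .node dFin_84 dFin_91
def dFin_93 : BT := .node dFin_77 dFin_92
def dFin_94 : BT := .node (.node (.node (.node (.node (.node (.node (.leaf 6) (.leaf 17116)) (.leaf 6685)) (.node (.node (.leaf 4927) (.leaf 21575)) (.leaf 8116))) (.node (.node (.node (.leaf 2153) (.leaf 18970)) (.leaf 14228)) (.node (.leaf 6386) (.leaf 11267)))) (.node (.node (.node (.node (.leaf 3111) (.leaf 17797)) (.leaf 15323)) (.node (.leaf 10397) (.leaf 10151))) (.node (.node (.node (.leaf 5568) (.leaf 21056)) (.leaf 16476)) (.node (.leaf 14101) (.leaf 16275))))) (.node (.node (.node (.node (.node (.leaf 2980) (.leaf 19265)) (.leaf 6809)) (.node (.node (.leaf 6090) (.leaf 21662)) (.leaf 15080))) (.node (.node (.node (.leaf 17685) (.leaf 19640)) (.leaf 14587)) (.node (.leaf 14096) (.leaf 15790)))) (.node (.node (.node (.node (.leaf 5538) (.leaf 18210)) (.leaf 12773)) (.node (.leaf 20157) (.leaf 11887))) (.node (.node (.node (.leaf 17133) (.leaf 20705))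 (.leaf 13812)) (.node (.leaf 13358) (.leaf 16756)))))) (.node (.node (.node (.node (.node (.node (.leaf 570) (.leaf 17199)) (.leaf 12161)) (.node (.node (.leaf 15436) (.leaf 21503)) (.leaf 8322))) (.node (.node (.node (.leaf 2169) (.leaf 19383)) (.leaf 14159)) (.node (.leaf 6433) (.leaf 15674)))) (.node (.node (.node (.node (.leaf 1774) (.leaf 19307)) (.leaf 14657)) (.node (.leaf 17626) (.leaf 13055))) (.node (.node (.node (.leaf 4713) (.leaf 20422)) (.leaf 7607)) (.node (.leaf 21470) (.leaf 16481))))) (.node (.node (.node (.node (.node (.leaf 5730) (.leaf 18101)) (.leaf 14875)) (.node (.leaf 10414) (.leaf 15294))) (.node (.node (.node (.leaf 5737) (.leaf 20229)) (.leaf 15524)) (.node (.leaf 6510) (.leaf 16072)))) (.node (.node (.node (.node (.leaf 5115) (.leaf 18620)) (.leaf 12654)) (.node (.leaf 12249) (.leaf 11011))) (.node (.node (.node (.leaf 4818) (.leaf 21112)) (.leaf 8921)) (.node (.leaf 12713) (.leaf 19677))))))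
def dFin_95 : BT := .node (.node (.node (.node (.node (.node (.node (.leaf 952) (.leaf 17124)) (.leaf 15210)) (.node (.node (.leaf 5831) (.leaf 21412)) (.leaf 11412))) (.node (.node (.node (.leaf 5067) (.leaf 19279)) (.leaf 10465)) (.node (.leaf 8309) (.leaf 15502)))) (.node (.node (.node (.node (.leaf 1821) (.leaf 19812)) (.leaf 10181)) (.node (.leaf 12334) (.leaf 19064))) (.node (.node (.node (.leaf 4061) (.leaf 20718)) (.leaf 12777)) (.node (.leaf 14044) (.leaf 16389))))) (.node (.node (.node (.node (.node (.leaf 325) (.leaf 20933)) (.leaf 6822)) (.node (.node (.leaf 6010) (.leaf 21749)) (.leaf 9706))) (.node (.node (.node (.leaf 15504) (.leaf 19573)) (.leaf 13933)) (.node (.leaf 15096) (.leaf 17725)))) (.node (.node (.node (.node (.leaf 15374) (.leaf 18432)) (.leaf 9744)) (.node (.leaf 11481) (.leaf 10986))) (.node (.node (.node (.leaf 4786) (.leaf 21003)) (.leaf 14746)) (.node (.leaf 12210) (.leaf 19767)))))) (.node (.node (.node (.node (.node (.node (.leaf 130) (.leaf 17213)) (.leaf 21192)) (.node (.node (.leaf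 5875) (.leaf 21563)) (.leaf 15160))) (.node (.node (.node (.leaf 2327) (.leaf 19762)) (.leaf 13361)) (.node (.leaf 13388) (.leaf 15681)))) (.node (.node (.node (.node (.leaf 1893) (.leaf 18581)) (.leaf 6982)) (.node (.leaf 12509) (.leaf 13237))) (.node (.node (.node (.leaf 11537) (.leaf 20637)) (.leaf 7772)) (.node (.leaf 15872) (.leaf 16665))))) (.node (.node (.node (.node (.node (.leaf 784) (.leaf 17632)) (.leaf 14153)) (.node (.leaf 6148) (.leaf 12748))) (.node (.node (.node (.leaf 5501) (.leaf 20116)) (.leaf 13675)) (.node (.leaf 6517) (.leaf 16175)))) (.node (.node (.node (.node (.leaf 4584) (.leaf 18903)) (.leaf 15334)) (.node (.leaf 13005) (.leaf 17634))) (.node (.node (.node (.leaf 5598) (.leaf 21242)) (.leaf 13806)) (.node (.leaf 11472) (.leaf 18064))))))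
def dFin_96 : BT := .node dFin_94 dFin_95
def dFin_97 : BT := .node (.node (.node (.node (.node (.node (.node (.leaf 25) (.leaf 17074)) (.leaf 12572)) (.node (.node (.leaf 5721) (.leaf 21374)) (.leaf 13298))) (.node (.node (.node (.leaf 3048) (.leaf 19896)) (.leaf 7240)) (.node (.leaf 8319) (.leaf 15191)))) (.node (.node (.node (.node (.leaf 1009) (.leaf 17962)) (.leaf 15352)) (.node (.leaf 6343) (.leaf 16113))) (.node (.node (.node (.leaf 19035) (.leaf 20273)) (.leaf 12612)) (.node (.leaf 13908) (.leaf 16357))))) (.node (.node (.node (.node (.node (.leaf 529) (.leaf 19056)) (.leaf 20183)) (.node (.node (.leaf 5993) (.leaf 21704)) (.leaf 13140))) (.node (.node (.node (.leaf 10343) (.leaf 19558)) (.leaf 14735)) (.node (.leaf 14393) (.leaf 15845)))) (.node (.node (.node (.node (.leaf 2984) (.leaf 18368)) (.leaf 12878)) (.node (.leaf 6403) (.leaf 10709))) (.node (.node (.node (.leaf 4763) (.leaf 20988)) (.leaf 14190)) (.node (.leaf 11556) (.leaf 16786)))))) (.node (.node (.node (.node (.node (.node (.leaf 57) (.leaf 17357))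 (.leaf 14541)) (.node (.node (.leaf 5839) (.leaf 21543)) (.leaf 14938))) (.node (.node (.node (.leaf 2346) (.leaf 21085)) (.leaf 10582)) (.node (.leaf 13874) (.leaf 15587)))) (.node (.node (.node (.node (.leaf 6445) (.leaf 18144)) (.leaf 13052)) (.node (.leaf 15313) (.leaf 16700))) (.node (.node (.node (.leaf 4779) (.leaf 20524)) (.leaf 9047)) (.node (.leaf 14824) (.leaf 16596))))) (.node (.node (.node (.node (.node (.leaf 2818) (.leaf 17555)) (.leaf 13655)) (.node (.leaf 6125) (.leaf 13233))) (.node (.node (.node (.leaf 5457) (.leaf 20145)) (.leaf 15008)) (.node (.leaf 14660) (.leaf 16095)))) (.node (.node (.node (.node (.leaf 1891) (.leaf 19512)) (.leaf 7054)) (.node (.leaf 10704) (.leaf 11095))) (.node (.node (.node (.leaf 16715) (.leaf 21179)) (.leaf 8041)) (.node (.leaf 9162) (.leaf 17000))))))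
def dFin_98 : BT := .node (.node (.node (.node (.node (.node (.node (.leaf 2775) (.leaf 17162)) (.leaf 11276)) (.node (.node (.leaf 6106) (.leaf 21441)) (.leaf 11767))) (.node (.node (.node (.leaf 16225) (.leaf 19212)) (.leaf 14925)) (.node (.leaf 16036) (.leaf 16232)))) (.node (.node (.node (.node (.leaf 6985) (.leaf 20604)) (.leaf 13415)) (.node (.leaf 10340) (.leaf 10206))) (.node (.node (.node (.leaf 4587) (.leaf 20364)) (.leaf 21608)) (.node (.leaf 14807) (.leaf 17297))))) (.node (.node (.node (.node (.node (.leaf 408) (.leaf 17547)) (.leaf 9956)) (.node (.leaf 14945) (.leaf 18489))) (.node (.node (.node (.leaf 2493) (.leaf 20881)) (.leaf 14123)) (.node (.leaf 14605) (.leaf 16001)))) (.node (.node (.node (.node (.leaf 5929) (.leaf 19759)) (.leaf 17542)) (.node (.leaf 12504) (.leaf 10981))) (.node (.node (.node (.leaf 5675) (.leaf 21022)) (.leaf 14886)) (.node (.leaf 21430) (.leaf 21130)))))) (.node (.node (.node (.node (.node (.node (.leaf 116) (.leaf 17290)) (.leaf 15407)) (.node (.node (.leaf 5907) (.leaf 21611))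 (.leaf 16026))) (.node (.node (.node (.leaf 2335) (.leaf 19736)) (.leaf 8607)) (.node (.leaf 13825) (.leaf 15695)))) (.node (.node (.node (.node (.leaf 1862) (.leaf 18978)) (.leaf 15425)) (.node (.leaf 13066) (.leaf 10786))) (.node (.node (.node (.leaf 7421) (.leaf 20786)) (.leaf 14654)) (.node (.leaf 15043) (.leaf 16721))))) (.node (.node (.node (.node (.node (.leaf 761) (.leaf 17682)) (.leaf 15170)) (.node (.leaf 6217) (.leaf 16771))) (.node (.node (.node (.leaf 19602) (.leaf 20068)) (.leaf 7547)) (.node (.leaf 14182) (.leaf 16220)))) (.node (.node (.node (.node (.leaf 2090) (.leaf 18776)) (.leaf 13632)) (.node (.leaf 14057) (.leaf 11263))) (.node (.node (.node (.leaf 10585) (.leaf 21300)) (.leaf 8110)) (.node (.leaf 11608) (.leaf 18073))))))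
def dFin_99 : BT := .node dFin_97 dFin_98
def dFin_100 : BT := .node dFin_96 dFin_99
def dFin_101 : BT := .node (.node (.node (.node (.node (.node (.node (.leaf 402) (.leaf 17078)) (.leaf 6691)) (.node (.node (.leaf 6117) (.leaf 21359)) (.leaf 13111))) (.node (.node (.node (.leaf 2116) (.leaf 19069)) (.leaf 15166)) (.node (.leaf 6390) (.leaf 15195)))) (.node (.node (.node (.node (.leaf 2811) (.leaf 17800)) (.leaf 15348)) (.node (.leaf 6316) (.leaf 15079))) (.node (.node (.node (.leaf 5579) (.leaf 20288)) (.leaf 12150)) (.node (.leaf 15403) (.leaf 16352))))) (.node (.node (.node (.node (.node (.leaf 3010) (.leaf 20296)) (.leaf 14210)) (.node (.node (.leaf 5943) (.leaf 21696)) (.leaf 14937))) (.node (.node (.node (.leaf 5671) (.leaf 19808)) (.leaf 14743)) (.node (.leaf 6491) (.leaf 15797)))) (.node (.node (.node (.node (.leaf 7659) (.leaf 18350)) (.leaf 7004)) (.node (.leaf 15121) (.leaf 13116))) (.node (.node (.node (.leaf 5191) (.leaf 20822)) (.leaf 8486)) (.node (.leaf 13474) (.leaf 19753)))))) (.node (.node (.node (.node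 (.node (.node (.leaf 596) (.leaf 19266)) (.leaf 11382)) (.node (.node (.leaf 5825) (.leaf 21523)) (.leaf 18623))) (.node (.node (.node (.leaf 17586) (.leaf 20266)) (.leaf 7291)) (.node (.leaf 7294) (.leaf 15662)))) (.node (.node (.node (.node (.leaf 2882) (.leaf 18113)) (.leaf 12686)) (.node (.leaf 12438) (.leaf 10543))) (.node (.node (.node (.leaf 7282) (.leaf 20556)) (.leaf 12491)) (.node (.leaf 12149) (.leaf 16513))))) (.node (.node (.node (.node (.node (.leaf 2804) (.leaf 18126)) (.leaf 15435)) (.node (.leaf 6111) (.leaf 12873))) (.node (.node (.node (.leaf 6176) (.leaf 20628)) (.leaf 14988)) (.node (.leaf 7837) (.leaf 16106)))) (.node (.node (.node (.node (.leaf 5552) (.leaf 18641)) (.leaf 9495)) (.node (.leaf 11374) (.leaf 11049))) (.node (.node (.node (.leaf 4925) (.leaf 21094)) (.leaf 8005)) (.node (.leaf 12775) (.leaf 16983))))))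
def dFin_102 : BT := .node (.node (.node (.node (.node (.node (.node (.leaf 197) (.leaf 17204)) (.leaf 10578)) (.node (.node (.leaf 6224) (.leaf 21429)) (.leaf 13009))) (.node (.node (.node (.leaf 2488) (.leaf 19308)) (.leaf 14848)) (.node (.leaf 15281) (.leaf 15479)))) (.node (.node (.node (.node (.leaf 6114) (.leaf 17846)) (.leaf 15037)) (.node (.leaf 10499) (.leaf 13329))) (.node (.node (.node (.leaf 16777) (.leaf 20338)) (.leaf 9034)) (.node (.leaf 7876) (.leaf 18638))))) (.node (.node (.node (.node (.node (.leaf 356) (.leaf 17434)) (.leaf 6826)) (.node (.node (.leaf 6099) (.leaf 21758)) (.leaf 9563))) (.node (.node (.node (.leaf 2913) (.leaf 19844)) (.leaf 7472)) (.node (.leaf 6599) (.leaf 15982)))) (.node (.node (.node (.node (.leaf 1877) (.leaf 18480)) (.leaf 16511)) (.node (.leaf 12672) (.leaf 10952))) (.node (.node (.node (.leaf 5635) (.leaf 20979)) (.leaf 20427)) (.node (.leaf 9203) (.leaf 17950)))))) (.node (.node (.node (.node (.node (.node (.leaf 82) (.leaf 19112)) (.leaf 13678)) (.node (.node (.leaf 5884)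 (.leaf 21587)) (.leaf 8901))) (.node (.node (.node (.leaf 2321) (.leaf 19777)) (.leaf 14254)) (.node (.leaf 14001) (.leaf 15715)))) (.node (.node (.node (.node (.leaf 9605) (.leaf 18283)) (.leaf 9606)) (.node (.leaf 8148) (.leaf 15291))) (.node (.node (.node (.leaf 5768) (.leaf 21042)) (.leaf 13324)) (.node (.leaf 15040) (.leaf 18118))))) (.node (.node (.node (.node (.node (.leaf 750) (.leaf 17715)) (.leaf 14243)) (.node (.leaf 19497) (.leaf 16712))) (.node (.node (.node (.leaf 5840) (.leaf 20098)) (.leaf 7552)) (.node (.leaf 14512) (.leaf 16204)))) (.node (.node (.node (.node (.leaf 2114) (.leaf 18859)) (.leaf 14664)) (.node (.leaf 6379) (.leaf 13276))) (.node (.node (.node (.leaf 4842) (.leaf 21284)) (.leaf 13144)) (.node (.leaf 15584) (.leaf 18935))))))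
def dFin_103 : BT := .node dFin_101 dFin_102
def dFin_104 : BT := .node (.node (.node (.node (.node (.node (.node (.leaf 897) (.leaf 17174)) (.leaf 12919)) (.node (.node (.leaf 5756) (.leaf 21420)) (.leaf 15301))) (.node (.node (.node (.leaf 2142) (.leaf 19258)) (.leaf 15430)) (.node (.leaf 6393) (.leaf 11779)))) (.node (.node (.node (.node (.leaf 5762) (.leaf 17978)) (.leaf 14928)) (.node (.leaf 6340) (.leaf 10137))) (.node (.node (.node (.leaf 4051) (.leaf 20576)) (.leaf 17717)) (.node (.leaf 15867) (.leaf 16332))))) (.node (.node (.node (.node (.node (.leaf 371) (.leaf 18553)) (.leaf 16946)) (.node (.node (.leaf 6016) (.leaf 21721)) (.leaf 12117))) (.node (.node (.node (.leaf 3065) (.leaf 19590)) (.leaf 14888)) (.node (.leaf 19889) (.leaf 15888)))) (.node (.node (.node (.node (.leaf 2972) (.leaf 18582)) (.leaf 7007)) (.node (.leaf 12735) (.leaf 10934))) (.node (.node (.node (.leaf 18492) (.leaf 20883)) (.leaf 14538)) (.node (.leaf 12465) (.leaf 16797)))))) (.node (.node (.node (.node (.node (.node (.leaf 5502) (.leaf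 20903)) (.leaf 19720)) (.node (.node (.leaf 5852) (.leaf 21546)) (.leaf 15247))) (.node (.node (.node (.leaf 5056) (.leaf 19620)) (.leaf 12807)) (.node (.leaf 7424) (.leaf 15732)))) (.node (.node (.node (.node (.leaf 1788) (.leaf 18159)) (.leaf 13105)) (.node (.leaf 12760) (.leaf 16172))) (.node (.node (.node (.leaf 5215) (.leaf 20567)) (.leaf 13107)) (.node (.leaf 14927) (.leaf 16612))))) (.node (.node (.node (.node (.node (.leaf 5239) (.leaf 17602)) (.leaf 16069)) (.node (.leaf 6131) (.leaf 9857))) (.node (.node (.node (.leaf 5490) (.leaf 20154)) (.leaf 14155)) (.node (.leaf 20767) (.leaf 16684)))) (.node (.node (.node (.node (.leaf 13722) (.leaf 18866)) (.leaf 12131)) (.node (.leaf 6375) (.leaf 11105))) (.node (.node (.node (.leaf 6007) (.leaf 21187)) (.leaf 15180)) (.node (.leaf 12762) (.leaf 18835))))))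
def dFin_105 : BT := .node (.node (.node (.node (.node (.node (.node (.leaf 184) (.leaf 17182)) (.leaf 12558)) (.node (.node (.leaf 6151) (.leaf 21459)) (.leaf 16178))) (.node (.node (.node (.leaf 2167) (.leaf 19357)) (.leaf 16139)) (.node (.leaf 6453) (.leaf 17186)))) (.node (.node (.node (.node (.leaf 1749) (.leaf 18915)) (.leaf 15426)) (.node (.leaf 10394) (.leaf 10237))) (.node (.node (.node (.leaf 5638) (.leaf 20460)) (.leaf 7649)) (.node (.leaf 6930) (.leaf 16459))))) (.node (.node (.node (.node (.node (.leaf 412) (.leaf 17534)) (.leaf 6832)) (.node (.leaf 6073) (.leaf 13301))) (.node (.node (.node (.leaf 2503) (.leaf 19879)) (.leaf 16059)) (.node (.leaf 16722) (.leaf 21236)))) (.node (.node (.node (.node (.leaf 1882) (.leaf 18591)) (.leaf 7081)) (.node (.leaf 15255) (.leaf 18992))) (.node (.node (.node (.leaf 5864) (.leaf 21054)) (.leaf 15159)) (.node (.leaf 17108) (.leaf 16823)))))) (.node (.node (.node (.node (.node (.node (.leaf 5199) (.leaf 21500)) (.leaf 14134)) (.node (.node (.leaf 17362) (.leaf 21652)) (.leaf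 15876))) (.node (.node (.node (.leaf 2343) (.leaf 19741)) (.leaf 14411)) (.node (.leaf 14148) (.leaf 15771)))) (.node (.node (.node (.node (.leaf 5060) (.leaf 18884)) (.leaf 14914)) (.node (.leaf 13045) (.leaf 13182))) (.node (.node (.node (.leaf 4820) (.leaf 20765)) (.leaf 12247)) (.node (.leaf 13341) (.leaf 16788))))) (.node (.node (.node (.node (.node (.leaf 1023) (.leaf 17751)) (.leaf 7265)) (.node (.leaf 7526) (.leaf 13287))) (.node (.node (.node (.leaf 5562) (.leaf 20020)) (.leaf 13774)) (.node (.leaf 6580) (.leaf 16990)))) (.node (.node (.node (.node (.leaf 5615) (.leaf 19477)) (.leaf 14962)) (.node (.leaf 17430) (.leaf 13267))) (.node (.node (.node (.leaf 4887) (.leaf 21321)) (.leaf 18483)) (.node (.leaf 13084) (.leaf 21158))))))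
def dFin_106 : BT := .node dFin_104 dFin_105
def dFin_107 : BT := .node dFin_103 dFin_106
def dFin_108 : BT := .node dFin_100 dFin_107
def dFin_109 : BT := .node (.node (.node (.node (.node (.node (.node (.leaf 33) (.leaf 17039)) (.leaf 15150)) (.node (.node (.leaf 5863) (.leaf 21348)) (.leaf 12789))) (.node (.node (.node (.leaf 2113) (.leaf 19083)) (.leaf 14234)) (.node (.leaf 17566) (.leaf 16460)))) (.node (.node (.node (.node (.leaf 5283) (.leaf 17787)) (.leaf 6885)) (.node (.leaf 7520) (.leaf 13861))) (.node (.node (.node (.leaf 3954) (.leaf 19967)) (.leaf 12144)) (.node (.leaf 15391) (.leaf 16449))))) (.node (.node (.node (.node (.node (.leaf 5289) (.leaf 19455)) (.leaf 14116)) (.node (.node (.leaf 5934) (.leaf 21665)) (.leaf 9307))) (.node (.node (.node (.leaf 5803) (.leaf 19653)) (.leaf 14611)) (.node (.leaf 14102) (.leaf 15810)))) (.node (.node (.node (.node (.leaf 15519) (.leaf 18297)) (.leaf 12582)) (.node (.leaf 8132) (.leaf 19504))) (.node (.node (.node (.leaf 5893) (.leaf 20812)) (.leaf 20810)) (.node (.leaf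 6630) (.leaf 16803)))))) (.node (.node (.node (.node (.node (.node (.leaf 171) (.leaf 17472)) (.leaf 13222)) (.node (.node (.leaf 16502) (.leaf 21495)) (.leaf 12714))) (.node (.node (.node (.leaf 2183) (.leaf 19426)) (.leaf 13466)) (.node (.leaf 6442) (.leaf 15830)))) (.node (.node (.node (.node (.leaf 1751) (.leaf 18060)) (.leaf 6959)) (.node (.leaf 12429) (.leaf 17033))) (.node (.node (.node (.leaf 6574) (.leaf 20550)) (.leaf 12821)) (.node (.leaf 7250) (.leaf 16487))))) (.node (.node (.node (.node (.node (.leaf 454) (.leaf 18088)) (.leaf 16137)) (.node (.leaf 6087) (.leaf 9804))) (.node (.node (.node (.leaf 5771) (.leaf 19905)) (.leaf 8060)) (.node (.leaf 14763) (.leaf 16122)))) (.node (.node (.node (.node (.leaf 5550) (.leaf 18633)) (.leaf 15070)) (.node (.leaf 6366) (.leaf 19010))) (.node (.node (.node (.leaf 12818) (.leaf 21087)) (.leaf 21439)) (.node (.leaf 9177) (.leaf 19869))))))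
def dFin_110 : BT := .node (.node (.node (.node (.node (.node (.node (.leaf 1734) (.leaf 17134)) (.leaf 6733)) (.node (.node (.leaf 5747) (.leaf 21427)) (.leaf 8219))) (.node (.node (.node (.leaf 3425) (.leaf 20166)) (.leaf 7208)) (.node (.leaf 12164) (.leaf 15473)))) (.node (.node (.node (.node (.leaf 1707) (.leaf 17913)) (.leaf 14992)) (.node (.leaf 12222) (.leaf 13427))) (.node (.node (.node (.leaf 5363) (.leaf 20327)) (.leaf 10436)) (.node (.leaf 20706) (.leaf 16399))))) (.node (.node (.node (.node (.node (.leaf 5323) (.leaf 20745)) (.leaf 14469)) (.node (.node (.leaf 11043) (.leaf 21769)) (.leaf 17107))) (.node (.node (.node (.leaf 2487) (.leaf 19837)) (.leaf 7403)) (.node (.leaf 14484) (.leaf 15869)))) (.node (.node (.node (.node (.leaf 13924) (.leaf 18446)) (.leaf 7671)) (.node (.leaf 16134) (.leaf 11012))) (.node (.node (.node (.leaf 4781) (.leaf 20993)) (.leaf 14813)) (.node (.leaf 13211) (.leaf 19768)))))) (.node (.node (.node (.node (.node (.node (.leaf 1020) (.leaf 19462)) (.leaf 6797)) (.node (.node (.leaf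 5914) (.leaf 21593)) (.leaf 15179))) (.node (.node (.node (.leaf 6640) (.leaf 19516)) (.leaf 21287)) (.node (.leaf 14146) (.leaf 21338)))) (.node (.node (.node (.node (.leaf 1801) (.leaf 18264)) (.leaf 13112)) (.node (.leaf 19123) (.leaf 12910))) (.node (.node (.node (.leaf 4734) (.leaf 20652)) (.leaf 7742)) (.node (.leaf 14973) (.leaf 16683))))) (.node (.node (.node (.node (.node (.leaf 754) (.leaf 17711)) (.leaf 20650)) (.node (.leaf 6165) (.leaf 12750))) (.node (.node (.node (.leaf 5426) (.leaf 19923)) (.leaf 17348)) (.node (.leaf 6527) (.leaf 16197)))) (.node (.node (.node (.node (.leaf 5254) (.leaf 18901)) (.leaf 7067)) (.node (.leaf 6409) (.leaf 12050))) (.node (.node (.node (.leaf 4825) (.leaf 21222)) (.leaf 8077)) (.node (.leaf 6676) (.leaf 18081))))))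
def dFin_111 : BT := .node dFin_109 dFin_110
def dFin_112 : BT := .node (.node (.node (.node (.node (.node (.node (.leaf 5279) (.leaf 20781)) (.leaf 12809)) (.node (.node (.leaf 5706) (.leaf 21379)) (.leaf 12528))) (.node (.node (.node (.leaf 15777) (.leaf 19120)) (.leaf 15860)) (.node (.leaf 16976) (.leaf 13160)))) (.node (.node (.node (.node (.leaf 1745) (.leaf 20168)) (.leaf 14898)) (.node (.leaf 11580) (.leaf 15309))) (.node (.node (.node (.leaf 5570) (.leaf 20251)) (.leaf 15319)) (.node (.leaf 6589) (.leaf 16367))))) (.node (.node (.node (.node (.node (.leaf 5866) (.leaf 18572)) (.leaf 14352)) (.node (.node (.leaf 6839) (.leaf 21728)) (.leaf 9499))) (.node (.node (.node (.leaf 2369) (.leaf 19601)) (.leaf 14688)) (.node (.leaf 14362) (.leaf 15829)))) (.node (.node (.node (.node (.leaf 5913) (.leaf 18388)) (.leaf 15228)) (.node (.leaf 11040) (.leaf 10960))) (.node (.node (.node (.leaf 5902) (.leaf 20892)) (.leaf 14470)) (.node (.leaf 17381) (.leaf 16804)))))) (.node (.node (.node (.node (.node (.node (.leaf 152) (.leaf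 17353)) (.leaf 6794)) (.node (.node (.leaf 5821) (.leaf 21539)) (.leaf 15808))) (.node (.node (.node (.leaf 2294) (.leaf 19489)) (.leaf 7412)) (.node (.leaf 14652) (.leaf 16350)))) (.node (.node (.node (.node (.leaf 5543) (.leaf 18151)) (.leaf 17990)) (.node (.leaf 12756) (.leaf 16154))) (.node (.node (.node (.leaf 4699) (.leaf 20563)) (.leaf 14932)) (.node (.leaf 14881) (.leaf 16573))))) (.node (.node (.node (.node (.node (.leaf 577) (.leaf 17584)) (.leaf 13543)) (.node (.leaf 6141) (.leaf 15072))) (.node (.node (.node (.leaf 19089) (.leaf 19920)) (.leaf 15029)) (.node (.leaf 6840) (.leaf 16132)))) (.node (.node (.node (.node (.leaf 1913) (.leaf 18826)) (.leaf 10847)) (.node (.leaf 16475) (.leaf 11101))) (.node (.node (.node (.leaf 5168) (.leaf 21165)) (.leaf 14545)) (.node (.leaf 15737) (.leaf 16839))))))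
def dFin_113 : BT := .node (.node (.node (.node (.node (.node (.node (.leaf 2983) (.leaf 20753)) (.leaf 11889)) (.node (.node (.leaf 5788) (.leaf 21529)) (.leaf 14349))) (.node (.node (.node (.leaf 2173) (.leaf 19354)) (.leaf 15270)) (.node (.leaf 6423) (.leaf 17052)))) (.node (.node (.node (.node (.leaf 1794) (.leaf 17867)) (.leaf 12186)) (.node (.leaf 10352) (.leaf 12813))) (.node (.node (.node (.leaf 5188) (.leaf 20371)) (.leaf 8124)) (.node (.leaf 6603) (.leaf 17601))))) (.node (.node (.node (.node (.node (.leaf 6410) (.leaf 20372)) (.leaf 18114)) (.node (.leaf 13884) (.leaf 15133))) (.node (.node (.node (.leaf 5651) (.leaf 19857)) (.leaf 13931)) (.node (.leaf 20112) (.leaf 16601)))) (.node (.node (.node (.node (.leaf 1873) (.leaf 21148)) (.leaf 13047)) (.node (.leaf 11362) (.leaf 11007))) (.node (.node (.node (.leaf 13483) (.leaf 21152)) (.leaf 9932)) (.node (.leaf 12615) (.leaf 16920)))))) (.node (.node (.node (.node (.node (.node (.leaf 5237) (.leaf 17273)) (.leaf 15784)) (.node (.node (.leaf 5921) (.leaf 21626))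 (.leaf 15740))) (.node (.node (.node (.leaf 16495) (.leaf 19689)) (.leaf 15221)) (.node (.leaf 7922) (.leaf 15769)))) (.node (.node (.node (.node (.leaf 1831) (.leaf 18226)) (.leaf 12535)) (.node (.leaf 13087) (.leaf 12863))) (.node (.node (.node (.leaf 4807) (.leaf 20671)) (.leaf 7745)) (.node (.leaf 13645) (.leaf 21244))))) (.node (.node (.node (.node (.node (.leaf 791) (.leaf 17731)) (.leaf 6871)) (.node (.leaf 16142) (.leaf 9945))) (.node (.node (.node (.leaf 5560) (.leaf 20949)) (.leaf 7665)) (.node (.leaf 18833) (.leaf 16231)))) (.node (.node (.node (.node (.leaf 3075) (.leaf 20973)) (.leaf 8488)) (.node (.leaf 8329) (.leaf 15119))) (.node (.node (.node (.leaf 5094) (.leaf 21318)) (.leaf 12683)) (.node (.leaf 6682) (.leaf 19003))))))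
def dFin_114 : BT := .node dFin_112 dFin_113
def dFin_115 : BT := .node dFin_111 dFin_114
def dFin_116 : BT := .node (.node (.node (.node (.node (.node (.node (.leaf 21) (.leaf 20785)) (.leaf 13449)) (.node (.node (.leaf 5699) (.leaf 21367)) (.leaf 10772))) (.node (.node (.node (.leaf 5473) (.leaf 19092)) (.leaf 14409)) (.node (.leaf 13321) (.leaf 16455)))) (.node (.node (.node (.node (.leaf 994) (.leaf 17768)) (.leaf 6892)) (.node (.leaf 6235) (.leaf 17864))) (.node (.node (.node (.leaf 20939) (.leaf 20283)) (.leaf 9223)) (.node (.leaf 13898) (.leaf 16343))))) (.node (.node (.node (.node (.node (.leaf 252) (.leaf 18567)) (.leaf 14340)) (.node (.node (.leaf 5938) (.leaf 21693)) (.leaf 13122))) (.node (.node (.node (.leaf 5847) (.leaf 20927)) (.leaf 7841)) (.node (.leaf 14426) (.leaf 16030)))) (.node (.node (.node (.node (.leaf 1846) (.leaf 19751)) (.leaf 15513)) (.node (.leaf 12985) (.leaf 13253))) (.node (.node (.node (.leaf 6301) (.leaf 20941)) (.leaf 14741)) (.node (.leaf 14246) (.leaf 17790)))))) (.node (.node (.node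 (.node (.node (.node (.leaf 5379) (.leaf 20806)) (.leaf 6763)) (.node (.node (.leaf 5819) (.leaf 21517)) (.leaf 8395))) (.node (.node (.node (.leaf 2322) (.leaf 20583)) (.leaf 7277)) (.node (.leaf 6460) (.leaf 15591)))) (.node (.node (.node (.node (.leaf 2892) (.leaf 18612)) (.leaf 11587)) (.node (.leaf 9270) (.leaf 18204))) (.node (.node (.node (.leaf 4693) (.leaf 20514)) (.leaf 21444)) (.node (.leaf 6614) (.leaf 19105))))) (.node (.node (.node (.node (.node (.leaf 448) (.leaf 17513)) (.leaf 6872)) (.node (.leaf 18627) (.leaf 9867))) (.node (.node (.node (.leaf 3422) (.leaf 20186)) (.leaf 15002)) (.node (.leaf 6513) (.leaf 19997)))) (.node (.node (.node (.node (.leaf 13856) (.leaf 18922)) (.leaf 12420)) (.node (.leaf 11437) (.leaf 14638))) (.node (.node (.node (.leaf 4822) (.leaf 21141)) (.leaf 21246)) (.node (.leaf 15755) (.leaf 21188))))))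
def dFin_117 : BT := .node (.node (.node (.node (.node (.node (.node (.leaf 2074) (.leaf 17148)) (.leaf 13127)) (.node (.node (.leaf 5778) (.leaf 21447)) (.leaf 15199))) (.node (.node (.node (.leaf 14987) (.leaf 19203)) (.leaf 14890)) (.node (.leaf 7064) (.leaf 15489)))) (.node (.node (.node (.node (.leaf 1785) (.leaf 17884)) (.leaf 15016)) (.node (.leaf 15289) (.leaf 13805))) (.node (.node (.node (.leaf 5369) (.leaf 20350)) (.leaf 12834)) (.node (.leaf 15144) (.leaf 17437))))) (.node (.node (.node (.node (.node (.leaf 406) (.leaf 17541)) (.leaf 14504)) (.node (.leaf 6033) (.leaf 10481))) (.node (.node (.node (.leaf 5662) (.leaf 19825)) (.leaf 17785)) (.node (.leaf 14550) (.leaf 16006)))) (.node (.node (.node (.node (.leaf 1871) (.leaf 19080)) (.leaf 12957)) (.node (.leaf 12921) (.leaf 10965))) (.node (.node (.node (.leaf 5873) (.leaf 20984)) (.leaf 7820)) (.node (.leaf 10890) (.leaf 16917)))))) (.node (.node (.node (.node (.node (.node (.leaf 5223) (.leaf 17294)) (.leaf 13705)) (.node (.node (.leaf 12739) (.leaf 21646))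 (.leaf 15358))) (.node (.node (.node (.leaf 2921) (.leaf 20517)) (.leaf 14264)) (.node (.leaf 14130) (.leaf 15701)))) (.node (.node (.node (.node (.leaf 1815) (.leaf 18230)) (.leaf 12837)) (.node (.leaf 15235) (.leaf 12861))) (.node (.node (.node (.leaf 4728) (.leaf 20615)) (.leaf 9850)) (.node (.leaf 15044) (.leaf 16695))))) (.node (.node (.node (.node (.node (.leaf 2821) (.leaf 17677)) (.leaf 17152)) (.node (.leaf 6184) (.leaf 14626))) (.node (.node (.node (.leaf 5554) (.leaf 20088)) (.leaf 7522)) (.node (.leaf 13492) (.leaf 16211)))) (.node (.node (.node (.node (.leaf 2084) (.leaf 19666)) (.leaf 16055)) (.node (.leaf 12954) (.leaf 17608))) (.node (.node (.node (.leaf 4935) (.leaf 21306)) (.leaf 12114)) (.node (.leaf 9030) (.leaf 19317))))))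
def dFin_118 : BT := .node dFin_116 dFin_117
def dFin_119 : BT := .node (.node (.node (.node (.node (.node (.node (.leaf 208) (.leaf 17098)) (.leaf 10748)) (.node (.node (.leaf 5723) (.leaf 21457)) (.leaf 8212))) (.node (.node (.node (.leaf 2339) (.leaf 19262)) (.leaf 7199)) (.node (.leaf 6394) (.leaf 15453)))) (.node (.node (.node (.node (.leaf 1399) (.leaf 18912)) (.leaf 15855)) (.node (.leaf 6241) (.leaf 15414))) (.node (.node (.node (.leaf 19038) (.leaf 20230)) (.leaf 15296)) (.node (.leaf 14138) (.leaf 16704))))) (.node (.node (.node (.node (.node (.leaf 4932) (.leaf 17418)) (.leaf 14397)) (.node (.node (.leaf 6008) (.leaf 21744)) (.leaf 17115))) (.node (.node (.node (.leaf 5695) (.leaf 19577)) (.leaf 15655)) (.node (.leaf 14448) (.leaf 15894)))) (.node (.node (.node (.node (.leaf 5377) (.leaf 18999)) (.leaf 11885)) (.node (.leaf 16689) (.leaf 21014))) (.node (.node (.node (.leaf 7073) (.leaf 21719)) (.leaf 14617)) (.node (.leaf 17077) (.leaf 19792)))))) (.node (.node (.node (.node (.node (.node (.leaf 3940) (.leaf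 17373)) (.leaf 14220)) (.node (.node (.leaf 5858) (.leaf 21578)) (.leaf 14642))) (.node (.node (.node (.leaf 2359) (.leaf 21097)) (.leaf 7429)) (.node (.leaf 14583) (.leaf 15746)))) (.node (.node (.node (.node (.leaf 7387) (.leaf 18165)) (.leaf 14337)) (.node (.leaf 17719) (.leaf 13241))) (.node (.node (.node (.leaf 4721) (.leaf 20661)) (.leaf 11732)) (.node (.leaf 17887) (.leaf 16617))))) (.node (.node (.node (.node (.node (.leaf 2748) (.leaf 17617)) (.leaf 13595)) (.node (.leaf 6159) (.leaf 14614))) (.node (.node (.node (.leaf 5534) (.leaf 20643)) (.leaf 13495)) (.node (.leaf 6544) (.leaf 19059)))) (.node (.node (.node (.node (.leaf 5606) (.leaf 18874)) (.leaf 7057)) (.node (.leaf 15061) (.leaf 11244))) (.node (.node (.node (.leaf 4928) (.leaf 21191)) (.leaf 14248)) (.node (.leaf 6672) (.leaf 19608))))))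
def dFin_120 : BT := .node (.node (.node (.node (.node (.node (.node (.leaf 2726) (.leaf 17193)) (.leaf 15090)) (.node (.node (.leaf 6048) (.leaf 21481)) (.leaf 13138))) (.node (.node (.node (.leaf 5811) (.leaf 20802)) (.leaf 17056)) (.node (.leaf 6447) (.leaf 15579)))) (.node (.node (.node (.node (.leaf 1825) (.leaf 20877)) (.leaf 12493)) (.node (.leaf 12626) (.leaf 10779))) (.node (.node (.node (.leaf 4740) (.leaf 20466)) (.leaf 7640)) (.node (.leaf 16039) (.leaf 16473))))) (.node (.node (.node (.node (.node (.leaf 439) (.leaf 21011)) (.leaf 14635)) (.node (.leaf 6065) (.leaf 12913))) (.node (.node (.node (.leaf 6187) (.leaf 19890)) (.leaf 14918)) (.node (.leaf 15124) (.leaf 16024)))) (.node (.node (.node (.node (.leaf 10666) (.leaf 18615)) (.leaf 9872)) (.node (.leaf 11353) (.leaf 11004))) (.node (.node (.node (.leaf 5132) (.leaf 21104)) (.leaf 18122)) (.node (.leaf 12466) (.leaf 18883)))))) (.node (.node (.node (.node (.node (.node (.leaf 104) (.leaf 17405)) (.leaf 13787)) (.node (.node (.leaf 5998) (.leaf 21643))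 (.leaf 12411))) (.node (.node (.node (.leaf 5475) (.leaf 19674)) (.leaf 14376)) (.node (.leaf 18449) (.leaf 15781)))) (.node (.node (.node (.node (.leaf 1827) (.leaf 18195)) (.leaf 12536)) (.node (.leaf 12978) (.leaf 17572))) (.node (.node (.node (.leaf 16076) (.leaf 20743)) (.leaf 13409)) (.node (.leaf 14533) (.leaf 16737))))) (.node (.node (.node (.node (.node (.leaf 783) (.leaf 17760)) (.leaf 15887)) (.node (.leaf 6207) (.leaf 14725))) (.node (.node (.node (.leaf 4035) (.leaf 20026)) (.leaf 7668)) (.node (.leaf 14476) (.leaf 16259)))) (.node (.node (.node (.node (.leaf 2119) (.leaf 19062)) (.leaf 19779)) (.node (.leaf 13032) (.leaf 13258))) (.node (.node (.node (.leaf 16696) (.leaf 21329)) (.leaf 15233)) (.node (.leaf 9005) (.leaf 19484))))))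
def dFin_121 : BT := .node dFin_119 dFin_120
def dFin_122 : BT := .node dFin_118 dFin_121
def dFin_123 : BT := .node dFin_115 dFin_122
def dFin_124 : BT := .node dFin_108 dFin_123
def dFin_125 : BT := .node dFin_93 dFin_124
def dFin_126 : BT := .node dFin_62 dFin_125
def dFin_127 : BT := .node (.node (.node (.node (.node (.node (.node (.leaf 1) (.leaf 17038)) (.leaf 15174)) (.node (.node (.leaf 4923) (.leaf 21331)) (.leaf 12996))) (.node (.node (.node (.leaf 2105) (.leaf 18973)) (.leaf 12022)) (.node (.leaf 13109) (.leaf 16274)))) (.node (.node (.node (.node (.leaf 5281) (.leaf 17745)) (.leaf 6884)) (.node (.leaf 6197) (.leaf 9933))) (.node (.node (.node (.leaf 3947) (.leaf 20035)) (.leaf 7676)) (.node (.leaf 13963) (.leaf 17781))))) (.node (.node (.node (.node (.node (.leaf 2991) (.leaf 19253)) (.leaf 14983)) (.node (.node (.leaf 5931) (.leaf 21639)) (.leaf 8993))) (.node (.node (.node (.leaf 5646) (.leaf 19721)) (.leaf 14513)) (.node (.leaf 17546) (.leaf 15783)))) (.node (.node (.node (.node (.leaf 16765) (.leaf 20742))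 (.leaf 12542)) (.node (.leaf 11908) (.leaf 13187))) (.node (.node (.node (.leaf 4796) (.leaf 20711)) (.leaf 14555)) (.node (.leaf 6627) (.leaf 16734)))))) (.node (.node (.node (.node (.node (.node (.leaf 191) (.leaf 21122)) (.leaf 17786)) (.node (.node (.leaf 5802) (.leaf 21471)) (.leaf 15132))) (.node (.node (.node (.leaf 5468) (.leaf 19454)) (.leaf 15378)) (.node (.leaf 16216) (.leaf 15889)))) (.node (.node (.node (.node (.leaf 1741) (.leaf 18005)) (.leaf 6958)) (.node (.leaf 12215) (.leaf 13327))) (.node (.node (.node (.leaf 10702) (.leaf 20416)) (.leaf 11048)) (.node (.leaf 6636) (.leaf 19845))))) (.node (.node (.node (.node (.node (.leaf 442) (.leaf 18086)) (.leaf 14695)) (.node (.leaf 6061) (.leaf 12233))) (.node (.node (.node (.leaf 3122) (.leaf 19887)) (.leaf 8920)) (.node (.leaf 14764) (.leaf 16031)))) (.node (.node (.node (.node (.leaf 2354) (.leaf 19862)) (.leaf 17463)) (.node (.leaf 6363) (.leaf 19002))) (.node (.node (.node (.leaf 6323) (.leaf 21057)) (.leaf 15193)) (.node (.leaf 9181) (.leaf 16825))))))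
def dFin_128 : BT := .node (.node (.node (.node (.node (.node (.node (.leaf 942) (.leaf 17057)) (.leaf 6732)) (.node (.node (.leaf 5731) (.leaf 21404)) (.leaf 12235))) (.node (.node (.node (.leaf 2285) (.leaf 19264)) (.leaf 15325)) (.node (.leaf 10891) (.leaf 15460)))) (.node (.node (.node (.node (.leaf 1401) (.leaf 19278)) (.leaf 21624)) (.node (.leaf 12469) (.leaf 10139))) (.node (.node (.node (.leaf 5592) (.leaf 20233)) (.leaf 11630)) (.node (.leaf 14028) (.leaf 16376))))) (.node (.node (.node (.node (.node (.leaf 3028) (.leaf 19576)) (.leaf 14398)) (.node (.node (.leaf 15446) (.leaf 21754)) (.leaf 14990))) (.node (.node (.node (.leaf 4513) (.leaf 19849)) (.leaf 14730)) (.node (.leaf 14450) (.leaf 15883)))) (.node (.node (.node (.node (.leaf 5833) (.leaf 18574)) (.leaf 13172)) (.node (.leaf 16680) (.leaf 10938))) (.node (.node (.node (.leaf 4770) (.leaf 20876)) (.leaf 18437)) (.node (.leaf 12599) (.leaf 16801)))))) (.node (.node (.node (.node (.node (.node (.leaf 3955) (.leaf 17211)) (.leaf 6796)) (.node (.node (.leaf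 5878) (.leaf 21577)) (.leaf 16687))) (.node (.node (.node (.leaf 15637) (.leaf 19773)) (.leaf 7425)) (.node (.leaf 6873) (.leaf 15734)))) (.node (.node (.node (.node (.leaf 1790) (.leaf 21160)) (.leaf 13150)) (.node (.leaf 15749) (.leaf 12371))) (.node (.node (.node (.leaf 4724) (.leaf 20667)) (.leaf 13249)) (.node (.leaf 21464) (.leaf 16659))))) (.node (.node (.node (.node (.node (.leaf 747) (.leaf 17623)) (.leaf 13550)) (.node (.leaf 6146) (.leaf 12666))) (.node (.node (.node (.leaf 5537) (.leaf 19922)) (.leaf 15227)) (.node (.leaf 15452) (.leaf 16165)))) (.node (.node (.node (.node (.leaf 2079) (.leaf 18880)) (.leaf 12064)) (.node (.leaf 10478) (.leaf 11436))) (.node (.node (.node (.leaf 4824) (.leaf 21201)) (.leaf 8017)) (.node (.leaf 11669) (.leaf 17032))))))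
def dFin_129 : BT := .node dFin_127 dFin_128
def dFin_130 : BT := .node (.node (.node (.node (.node (.node (.node (.leaf 5288) (.leaf 17067)) (.leaf 6688)) (.node (.node (.leaf 5684) (.leaf 21355)) (.leaf 8125))) (.node (.node (.node (.leaf 3051) (.leaf 19099)) (.leaf 7418)) (.node (.leaf 18451) (.leaf 13159)))) (.node (.node (.node (.node (.leaf 1918) (.leaf 17951)) (.leaf 14903)) (.node (.leaf 6331) (.leaf 15076))) (.node (.node (.node (.leaf 5584) (.leaf 20263)) (.leaf 19781)) (.node (.leaf 6588) (.leaf 17742))))) (.node (.node (.node (.node (.node (.leaf 2778) (.leaf 17467)) (.leaf 14353)) (.node (.node (.leaf 5944) (.leaf 21713)) (.leaf 11892))) (.node (.node (.node (.leaf 2368) (.leaf 19603)) (.leaf 14727)) (.node (.leaf 14287) (.leaf 15854)))) (.node (.node (.node (.node (.leaf 6298) (.leaf 18299)) (.leaf 15510)) (.node (.leaf 7652) (.leaf 10705))) (.node (.node (.node (.leaf 5709) (.leaf 20932)) (.leaf 13713)) (.node (.leaf 15200) (.leaf 19789)))))) (.node (.node (.node (.node (.node (.node (.leaf 173) (.leaf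 17347)) (.leaf 14606)) (.node (.node (.leaf 6167) (.leaf 21538)) (.leaf 14873))) (.node (.node (.node (.leaf 2283) (.leaf 20291)) (.leaf 15802)) (.node (.leaf 6452) (.leaf 15983)))) (.node (.node (.node (.node (.leaf 1770) (.leaf 18135)) (.leaf 12515)) (.node (.leaf 12692) (.leaf 10536))) (.node (.node (.node (.leaf 4681) (.leaf 20518)) (.leaf 20907)) (.node (.leaf 14818) (.leaf 16591))))) (.node (.node (.node (.node (.node (.leaf 575) (.leaf 17511)) (.leaf 13541)) (.node (.leaf 6121) (.leaf 19460))) (.node (.node (.node (.leaf 19481) (.leaf 20819)) (.leaf 8040)) (.node (.leaf 7830) (.leaf 16119)))) (.node (.node (.node (.node (.leaf 1899) (.leaf 20779)) (.leaf 12426)) (.node (.leaf 18351) (.leaf 11084))) (.node (.node (.node (.leaf 5118) (.leaf 21145)) (.leaf 8007)) (.node (.leaf 21336) (.leaf 16838))))))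
def dFin_131 : BT := .node (.node (.node (.node (.node (.node (.node (.leaf 5336) (.leaf 17159)) (.leaf 9519)) (.node (.node (.leaf 7661) (.leaf 21437)) (.leaf 14103))) (.node (.node (.node (.leaf 2159) (.leaf 19205)) (.leaf 15363)) (.node (.leaf 6401) (.leaf 15495)))) (.node (.node (.node (.node (.leaf 1787) (.leaf 17886)) (.leaf 14039)) (.node (.leaf 10476) (.leaf 10149))) (.node (.node (.node (.leaf 4505) (.leaf 20353)) (.leaf 9026)) (.node (.leaf 6598) (.leaf 17922))))) (.node (.node (.node (.node (.node (.leaf 6181) (.leaf 17912)) (.leaf 14506)) (.node (.leaf 6526) (.leaf 11579))) (.node (.node (.node (.leaf 2489) (.leaf 19811)) (.leaf 7445)) (.node (.leaf 14493) (.leaf 16003)))) (.node (.node (.node (.node (.leaf 2964) (.leaf 18493)) (.leaf 13290)) (.node (.leaf 12613) (.leaf 10958))) (.node (.node (.node (.leaf 15397) (.leaf 21018)) (.leaf 14899)) (.node (.leaf 11352) (.leaf 16911)))))) (.node (.node (.node (.node (.node (.node (.leaf 5120) (.leaf 17896)) (.leaf 13776)) (.node (.node (.leaf 5903) (.leaf 21605))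 (.leaf 18406))) (.node (.node (.node (.leaf 5639) (.leaf 19733)) (.leaf 15220)) (.node (.leaf 8484) (.leaf 15704)))) (.node (.node (.node (.node (.leaf 1807) (.leaf 18232)) (.leaf 11574)) (.node (.leaf 11488) (.leaf 10771))) (.node (.node (.node (.leaf 4828) (.leaf 20600)) (.leaf 7744)) (.node (.leaf 15034) (.leaf 16691))))) (.node (.node (.node (.node (.node (.leaf 758) (.leaf 18487)) (.leaf 14170)) (.node (.leaf 6192) (.leaf 14811))) (.node (.node (.node (.leaf 5556) (.leaf 20095)) (.leaf 7541)) (.node (.leaf 12865) (.leaf 16230)))) (.node (.node (.node (.node (.leaf 5746) (.leaf 18768)) (.leaf 8483)) (.node (.leaf 12956) (.leaf 17580))) (.node (.node (.node (.leaf 5080) (.leaf 21308)) (.leaf 18365)) (.node (.leaf 13067) (.leaf 19785))))))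
def dFin_132 : BT := .node dFin_130 dFin_131
def dFin_133 : BT := .node dFin_129 dFin_132
def dFin_134 : BT := .node (.node (.node (.node (.node (.node (.node (.leaf 31) (.leaf 17095)) (.leaf 15103)) (.node (.node (.leaf 16208) (.leaf 21353)) (.leaf 13097))) (.node (.node (.node (.leaf 5467) (.leaf 19065)) (.leaf 14238)) (.node (.leaf 13320) (.leaf 16456)))) (.node (.node (.node (.node (.leaf 803) (.leaf 17765)) (.leaf 14854)) (.node (.leaf 6234) (.leaf 15398))) (.node (.node (.node (.leaf 5859) (.leaf 20282)) (.leaf 12146)) (.node (.leaf 13857) (.leaf 16279))))) (.node (.node (.node (.node (.node (.leaf 282) (.leaf 17460)) (.leaf 14479)) (.node (.node (.leaf 6086) (.leaf 21673)) (.leaf 11419))) (.node (.node (.node (.leaf 5433) (.leaf 19650)) (.leaf 16724)) (.node (.leaf 15021) (.leaf 15793)))) (.node (.node (.node (.node (.leaf 2920) (.leaf 18498)) (.leaf 12586)) (.node (.leaf 6281) (.leaf 12847))) (.node (.node (.node (.leaf 5061) (.leaf 20803)) (.leaf 20107)) (.node (.leaf 13682) (.leaf 17770)))))) (.node (.node (.node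 (.node (.node (.node (.leaf 590) (.leaf 19296)) (.leaf 13146)) (.node (.node (.leaf 5794) (.leaf 21501)) (.leaf 8318))) (.node (.node (.node (.leaf 5603) (.leaf 19430)) (.leaf 7296)) (.node (.leaf 6438) (.leaf 15649)))) (.node (.node (.node (.node (.leaf 1755) (.leaf 19718)) (.leaf 9069)) (.node (.leaf 12529) (.leaf 10579))) (.node (.node (.node (.leaf 4694) (.leaf 20869)) (.leaf 16758)) (.node (.leaf 14858) (.leaf 20099))))) (.node (.node (.node (.node (.node (.leaf 425) (.leaf 18090)) (.leaf 6841)) (.node (.leaf 10416) (.leaf 9873))) (.node (.node (.node (.leaf 5241) (.leaf 19894)) (.leaf 15590)) (.node (.leaf 6512) (.leaf 16128)))) (.node (.node (.node (.node (.leaf 6037) (.leaf 21156)) (.leaf 15092)) (.node (.leaf 12158) (.leaf 12579))) (.node (.node (.node (.leaf 4805) (.leaf 21089)) (.leaf 14837)) (.node (.leaf 12471) (.leaf 18632))))))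
def dFin_135 : BT := .node (.node (.node (.node (.node (.node (.node (.leaf 1743) (.leaf 17983)) (.leaf 13046)) (.node (.node (.leaf 5752) (.leaf 21432)) (.leaf 14821))) (.node (.node (.node (.leaf 12712) (.leaf 19304)) (.leaf 14844)) (.node (.leaf 12170) (.leaf 15463)))) (.node (.node (.node (.node (.leaf 5178) (.leaf 18154)) (.leaf 14984)) (.node (.leaf 12258) (.leaf 13673))) (.node (.node (.node (.leaf 5365) (.leaf 20331)) (.leaf 11557)) (.node (.leaf 20714) (.leaf 16409))))) (.node (.node (.node (.node (.node (.leaf 327) (.leaf 17532)) (.leaf 21142)) (.node (.node (.leaf 6012) (.leaf 21764)) (.leaf 16394))) (.node (.node (.node (.leaf 5640) (.leaf 19793)) (.leaf 7393)) (.node (.leaf 14490) (.leaf 15978)))) (.node (.node (.node (.node (.leaf 1856) (.leaf 18452)) (.leaf 7076)) (.node (.leaf 6345) (.leaf 10955))) (.node (.node (.node (.leaf 5906) (.leaf 20989)) (.leaf 14669)) (.node (.leaf 12835) (.leaf 16900)))))) (.node (.node (.node (.node (.node (.node (.leaf 896) (.leaf 18296)) (.leaf 7923)) (.node (.node (.leaf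 5895) (.leaf 21644)) (.leaf 15190))) (.node (.node (.node (.leaf 2987) (.leaf 19750)) (.leaf 15062)) (.node (.leaf 14191) (.leaf 15719)))) (.node (.node (.node (.node (.leaf 1805) (.leaf 18266)) (.leaf 12559)) (.node (.leaf 14879) (.leaf 12914))) (.node (.node (.node (.leaf 4711) (.leaf 20644)) (.leaf 9462)) (.node (.leaf 14974) (.leaf 16677))))) (.node (.node (.node (.node (.node (.leaf 3077) (.leaf 17707)) (.leaf 15057)) (.node (.leaf 6170) (.leaf 14522))) (.node (.node (.node (.leaf 5430) (.leaf 20105)) (.leaf 13482)) (.node (.leaf 15515) (.leaf 16191)))) (.node (.node (.node (.node (.leaf 2747) (.leaf 19049)) (.leaf 7059)) (.node (.leaf 13002) (.leaf 16961))) (.node (.node (.node (.leaf 18208) (.leaf 21276)) (.leaf 12505)) (.node (.leaf 11581) (.leaf 20077))))))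
def dFin_136 : BT := .node dFin_134 dFin_135
def dFin_137 : BT := .node (.node (.node (.node (.node (.node (.node (.leaf 213) (.leaf 17087)) (.leaf 13215)) (.node (.node (.leaf 5701) (.leaf 21372)) (.leaf 12083))) (.node (.node (.node (.leaf 2130) (.leaf 19117)) (.leaf 7198)) (.node (.leaf 11826) (.leaf 13157)))) (.node (.node (.node (.node (.leaf 1398) (.leaf 17985)) (.leaf 15342)) (.node (.leaf 6240) (.leaf 14889))) (.node (.node (.node (.leaf 10985) (.leaf 20195)) (.leaf 10464)) (.node (.leaf 13947) (.leaf 16327))))) (.node (.node (.node (.node (.node (.leaf 5208) (.leaf 19058)) (.leaf 14354)) (.node (.node (.leaf 5984) (.leaf 21730)) (.leaf 13389))) (.node (.node (.node (.leaf 6730) (.leaf 19835)) (.leaf 14690)) (.node (.leaf 14404) (.leaf 17399)))) (.node (.node (.node (.node (.leaf 2968) (.leaf 19037)) (.leaf 13021)) (.node (.leaf 7651) (.leaf 20322))) (.node (.node (.node (.leaf 6317) (.leaf 20898)) (.leaf 15127)) (.node (.leaf 12015) (.leaf 18262)))))) (.node (.node (.node (.node (.node (.node (.leaf 5485) (.leaf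 17349)) (.leaf 13375)) (.node (.node (.leaf 14061) (.leaf 21556)) (.leaf 13885))) (.node (.node (.node (.leaf 2296) (.leaf 19479)) (.leaf 7301)) (.node (.leaf 13895) (.leaf 21688)))) (.node (.node (.node (.node (.leaf 7637) (.leaf 20356)) (.leaf 13060)) (.node (.leaf 9166) (.leaf 10618))) (.node (.node (.node (.leaf 6046) (.leaf 20573)) (.leaf 12772)) (.node (.leaf 17117) (.leaf 16560))))) (.node (.node (.node (.node (.node (.leaf 5624) (.leaf 17591)) (.leaf 6879)) (.node (.leaf 6142) (.leaf 15115))) (.node (.node (.node (.leaf 5531) (.leaf 20136)) (.leaf 21442)) (.node (.leaf 6515) (.leaf 16084)))) (.node (.node (.node (.node (.leaf 5169) (.leaf 18829)) (.leaf 7056)) (.node (.leaf 21190) (.leaf 11106))) (.node (.node (.node (.leaf 4819) (.leaf 21173)) (.leaf 15130)) (.node (.leaf 12730) (.leaf 18827))))))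
def dFin_138 : BT := .node (.node (.node (.node (.node (.node (.node (.leaf 2829) (.leaf 17171)) (.leaf 13340)) (.node (.node (.leaf 6132) (.leaf 21463)) (.leaf 13142))) (.node (.node (.node (.leaf 5654) (.leaf 19346)) (.leaf 21602)) (.node (.leaf 6418) (.leaf 17750)))) (.node (.node (.node (.node (.leaf 1737) (.leaf 17869)) (.leaf 12492)) (.node (.leaf 10354) (.leaf 10764))) (.node (.node (.node (.leaf 5194) (.leaf 20358)) (.leaf 13027)) (.node (.leaf 14627) (.leaf 16448))))) (.node (.node (.node (.node (.node (.leaf 452) (.leaf 17527)) (.leaf 14621)) (.node (.leaf 6044) (.leaf 10775))) (.node (.node (.node (.leaf 6202) (.leaf 19861)) (.leaf 15158)) (.node (.leaf 18640) (.leaf 16054)))) (.node (.node (.node (.node (.leaf 17769) (.leaf 20017)) (.leaf 7095)) (.node (.leaf 17620) (.leaf 10971))) (.node (.node (.node (.leaf 5877) (.leaf 21043)) (.leaf 15260)) (.node (.leaf 12398) (.leaf 16821)))))) (.node (.node (.node (.node (.node (.node (.leaf 106) (.leaf 17278)) (.leaf 15791)) (.node (.node (.leaf 5925) (.leaf 21631))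 (.leaf 14963))) (.node (.node (.node (.leaf 2955) (.leaf 19692)) (.leaf 16607)) (.node (.leaf 15135) (.leaf 15766)))) (.node (.node (.node (.node (.leaf 1819) (.leaf 18194)) (.leaf 6995)) (.node (.leaf 12970) (.leaf 17570))) (.node (.node (.node (.leaf 16086) (.leaf 20752)) (.leaf 12717)) (.node (.leaf 8036) (.leaf 16727))))) (.node (.node (.node (.node (.node (.leaf 771) (.leaf 17733)) (.leaf 14767)) (.node (.leaf 6209) (.leaf 9925))) (.node (.node (.node (.leaf 3943) (.leaf 20078)) (.leaf 7662)) (.node (.leaf 14377) (.leaf 16224)))) (.node (.node (.node (.node (.leaf 2094) (.leaf 18979)) (.leaf 13629)) (.node (.leaf 13177) (.leaf 13252))) (.node (.node (.node (.leaf 10341) (.leaf 21312)) (.leaf 20769)) (.node (.leaf 9013) (.leaf 20606))))))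
def dFin_139 : BT := .node dFin_137 dFin_138
def dFin_140 : BT := .node dFin_136 dFin_139
def dFin_141 : BT := .node dFin_133 dFin_140
def dFin_142 : BT := .node (.node (.node (.node (.node (.node (.node (.leaf 9) (.leaf 17109)) (.leaf 13031)) (.node (.node (.leaf 21101) (.leaf 21342)) (.leaf 11803))) (.node (.node (.node (.leaf 2099) (.leaf 19786)) (.leaf 14230)) (.node (.leaf 13196) (.leaf 20110)))) (.node (.node (.node (.node (.leaf 3072) (.leaf 19320)) (.leaf 8899)) (.node (.leaf 6225) (.leaf 15383))) (.node (.node (.node (.leaf 5583) (.leaf 19992)) (.leaf 10596)) (.node (.leaf 16181) (.leaf 16268))))) (.node (.node (.node (.node (.node (.leaf 2982) (.leaf 18248)) (.leaf 14114)) (.node (.node (.leaf 5989) (.leaf 21674)) (.leaf 12421))) (.node (.node (.node (.leaf 5659) (.leaf 19644)) (.leaf 19652)) (.node (.leaf 6490) (.leaf 21146)))) (.node (.node (.node (.node (.leaf 17131) (.leaf 18207)) (.leaf 11716)) (.node (.leaf 13786) (.leaf 13128))) (.node (.node (.node (.leaf 4746) (.leaf 20713)) (.leaf 13804)) (.node (.leaf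 13360) (.leaf 16748)))))) (.node (.node (.node (.node (.node (.node (.leaf 576) (.leaf 17188)) (.leaf 11426)) (.node (.node (.leaf 5805) (.leaf 21497)) (.leaf 18145))) (.node (.node (.node (.leaf 14849) (.leaf 19418)) (.leaf 10159)) (.node (.leaf 7278) (.leaf 15632)))) (.node (.node (.node (.node (.leaf 5373) (.leaf 20256)) (.leaf 11874)) (.node (.leaf 12260) (.leaf 16170))) (.node (.node (.node (.leaf 4736) (.leaf 21562)) (.leaf 12734)) (.node (.leaf 12191) (.leaf 16488))))) (.node (.node (.node (.node (.node (.leaf 3055) (.leaf 19240)) (.leaf 20791)) (.node (.leaf 6085) (.leaf 12443))) (.node (.node (.node (.leaf 5740) (.leaf 19909)) (.leaf 14933)) (.node (.leaf 14862) (.leaf 16136)))) (.node (.node (.node (.node (.leaf 1908) (.leaf 18609)) (.leaf 8341)) (.node (.leaf 11328) (.leaf 11017))) (.node (.node (.node (.leaf 4802) (.leaf 21099)) (.leaf 8004)) (.node (.leaf 12508) (.leaf 16962))))))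
def dFin_143 : BT := .node (.node (.node (.node (.node (.node (.node (.leaf 201) (.leaf 17138)) (.leaf 10751)) (.node (.node (.leaf 7290) (.leaf 21417)) (.leaf 12721))) (.node (.node (.node (.leaf 5474) (.leaf 20144)) (.leaf 13470)) (.node (.leaf 14941) (.leaf 15464)))) (.node (.node (.node (.node (.leaf 1395) (.leaf 19011)) (.leaf 15846)) (.node (.leaf 6243) (.leaf 16614))) (.node (.node (.node (.leaf 21177) (.leaf 20297)) (.leaf 17708)) (.node (.leaf 14135) (.leaf 16375))))) (.node (.node (.node (.node (.node (.leaf 369) (.leaf 17480)) (.leaf 14436)) (.node (.node (.leaf 6005) (.leaf 21738)) (.leaf 9562))) (.node (.node (.node (.leaf 2971) (.leaf 19574)) (.leaf 7386)) (.node (.leaf 14454) (.leaf 15877)))) (.node (.node (.node (.node (.leaf 1863) (.leaf 18438)) (.leaf 15828)) (.node (.leaf 12503) (.leaf 20879))) (.node (.node (.node (.leaf 5051) (.leaf 20951)) (.leaf 18618)) (.node (.leaf 12212) (.leaf 16907)))))) (.node (.node (.node (.node (.node (.node (.leaf 5292) (.leaf 19211)) (.leaf 13668)) (.node (.node (.leaf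 5867) (.leaf 21567)) (.leaf 8685))) (.node (.node (.node (.leaf 2313) (.leaf 19775)) (.leaf 14241)) (.node (.leaf 6571) (.leaf 15714)))) (.node (.node (.node (.node (.leaf 8020) (.leaf 20636)) (.leaf 13110)) (.node (.leaf 9151) (.leaf 13239))) (.node (.node (.node (.leaf 5167) (.leaf 20642)) (.leaf 15433)) (.node (.leaf 15900) (.leaf 16646))))) (.node (.node (.node (.node (.node (.leaf 743) (.leaf 20525)) (.leaf 14121)) (.node (.leaf 20716) (.leaf 17603))) (.node (.node (.node (.leaf 3853) (.leaf 20126)) (.leaf 15167)) (.node (.leaf 6539) (.leaf 18243)))) (.node (.node (.node (.node (.leaf 4590) (.leaf 18889)) (.leaf 12072)) (.node (.leaf 6378) (.leaf 12042))) (.node (.node (.node (.leaf 4843) (.leaf 21233)) (.leaf 8018)) (.node (.leaf 17291) (.leaf 18293))))))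
def dFin_144 : BT := .node dFin_142 dFin_143
def dFin_145 : BT := .node (.node (.node (.node (.node (.node (.node (.leaf 15) (.leaf 17091)) (.leaf 12631)) (.node (.node (.leaf 5758) (.leaf 21384)) (.leaf 17607))) (.node (.node (.node (.leaf 3439) (.leaf 19103)) (.leaf 16236)) (.node (.leaf 6392) (.leaf 13141)))) (.node (.node (.node (.node (.leaf 3062) (.leaf 17971)) (.leaf 14911)) (.node (.leaf 6327) (.leaf 10136))) (.node (.node (.node (.leaf 4038) (.leaf 20292)) (.leaf 12614)) (.node (.leaf 13912) (.leaf 16349))))) (.node (.node (.node (.node (.node (.leaf 401) (.leaf 17413)) (.leaf 14348)) (.node (.node (.leaf 5996) (.leaf 21699)) (.leaf 13192))) (.node (.node (.node (.leaf 2377) (.leaf 19609)) (.leaf 7347)) (.node (.leaf 15086) (.leaf 15831)))) (.node (.node (.node (.node (.leaf 4497) (.leaf 18374)) (.leaf 7006)) (.node (.leaf 12733) (.leaf 14505))) (.node (.node (.node (.leaf 12856) (.leaf 20915)) (.leaf 14468)) (.node (.leaf 11558) (.leaf 16781)))))) (.node (.node (.node (.node (.node (.node (.leaf 5528) (.leaf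 17796)) (.leaf 15073)) (.node (.node (.leaf 5830) (.leaf 21534)) (.leaf 8390))) (.node (.node (.node (.leaf 5644) (.leaf 19493)) (.leaf 7284)) (.node (.leaf 6548) (.leaf 15733)))) (.node (.node (.node (.node (.leaf 2902) (.leaf 18139)) (.leaf 11752)) (.node (.leaf 12694) (.leaf 10584))) (.node (.node (.node (.leaf 5253) (.leaf 20530)) (.leaf 12145)) (.node (.leaf 14895) (.leaf 17995))))) (.node (.node (.node (.node (.node (.leaf 450) (.leaf 17567)) (.leaf 6845)) (.node (.leaf 10990) (.leaf 17576))) (.node (.node (.node (.leaf 5458) (.leaf 20156)) (.leaf 15022)) (.node (.leaf 12685) (.leaf 16109)))) (.node (.node (.node (.node (.leaf 13862) (.leaf 18818)) (.leaf 8308)) (.node (.leaf 6374) (.leaf 11083))) (.node (.node (.node (.leaf 5117) (.leaf 21167)) (.leaf 21428)) (.node (.leaf 12726) (.leaf 17051))))))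
def dFin_146 : BT := .node (.node (.node (.node (.node (.node (.node (.leaf 186) (.leaf 21510)) (.leaf 12790)) (.node (.node (.leaf 6002) (.leaf 21573)) (.leaf 8275))) (.node (.node (.node (.leaf 2152) (.leaf 19217)) (.leaf 8908)) (.node (.leaf 6402) (.leaf 15505)))) (.node (.node (.node (.node (.leaf 1876) (.leaf 18124)) (.leaf 19707)) (.node (.leaf 10395) (.leaf 10150))) (.node (.node (.node (.leaf 4589) (.leaf 20373)) (.leaf 15851)) (.node (.leaf 7262) (.leaf 16432))))) (.node (.node (.node (.node (.node (.leaf 405) (.leaf 17956)) (.leaf 14599)) (.node (.leaf 6055) (.leaf 15421))) (.node (.node (.node (.leaf 6880) (.leaf 19868)) (.leaf 14113)) (.node (.leaf 7848) (.leaf 17118)))) (.node (.node (.node (.node (.leaf 5429) (.leaf 18501)) (.leaf 13202)) (.node (.leaf 21116) (.leaf 19024))) (.node (.node (.node (.leaf 7241) (.leaf 21032)) (.leaf 14957)) (.node (.leaf 10886) (.leaf 16822)))))) (.node (.node (.node (.node (.node (.node (.leaf 4714) (.leaf 17293)) (.leaf 13761)) (.node (.node (.leaf 12698) (.leaf 21618)) (.leaf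 8856))) (.node (.node (.node (.leaf 2458) (.leaf 19740)) (.leaf 14396)) (.node (.leaf 14616) (.leaf 21350)))) (.node (.node (.node (.node (.leaf 13880) (.leaf 18193)) (.leaf 15249)) (.node (.leaf 9021) (.leaf 10773))) (.node (.node (.node (.leaf 4730) (.leaf 20780)) (.leaf 12706)) (.node (.leaf 15254) (.leaf 16723))))) (.node (.node (.node (.node (.node (.leaf 5623) (.leaf 17741)) (.leaf 16597)) (.node (.leaf 7542) (.leaf 14665))) (.node (.node (.node (.leaf 5571) (.leaf 20343)) (.leaf 10592)) (.node (.leaf 6577) (.leaf 16219)))) (.node (.node (.node (.node (.leaf 4593) (.leaf 18780)) (.leaf 16720)) (.node (.leaf 14059) (.leaf 13161))) (.node (.node (.node (.leaf 4850) (.leaf 21303)) (.leaf 8149)) (.node (.leaf 11612) (.leaf 18235))))))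
def dFin_147 : BT := .node dFin_145 dFin_146
def dFin_148 : BT := .node dFin_144 dFin_147
def dFin_149 : BT := .node (.node (.node (.node (.node (.node (.node (.leaf 27) (.leaf 17070)) (.leaf 6687)) (.node (.node (.leaf 5738) (.leaf 21361)) (.leaf 13294))) (.node (.node (.node (.leaf 3132) (.leaf 19087)) (.leaf 10074)) (.node (.leaf 11886) (.leaf 19679)))) (.node (.node (.node (.node (.leaf 992) (.leaf 20893)) (.leaf 13657)) (.node (.leaf 6321) (.leaf 16608))) (.node (.node (.node (.leaf 19053) (.leaf 20999)) (.leaf 11605)) (.node (.leaf 13794) (.leaf 16368))))) (.node (.node (.node (.node (.node (.leaf 5420) (.leaf 19040)) (.leaf 15225)) (.node (.node (.leaf 5948) (.leaf 21687)) (.leaf 11545))) (.node (.node (.node (.leaf 5135) (.leaf 19621)) (.leaf 14737)) (.node (.leaf 14200) (.leaf 15861)))) (.node (.node (.node (.node (.leaf 1836) (.leaf 18356)) (.leaf 13242)) (.node (.leaf 13254) (.leaf 11894))) (.node (.node (.node (.leaf 4751) (.leaf 20817)) (.leaf 15164)) (.node (.leaf 13644) (.leaf 16770)))))) (.node (.node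 (.node (.node (.node (.node (.leaf 56) (.leaf 17454)) (.leaf 11407)) (.node (.node (.leaf 5836) (.leaf 21512)) (.leaf 14748))) (.node (.node (.node (.leaf 2290) (.leaf 19466)) (.leaf 7299)) (.node (.leaf 13734) (.leaf 15667)))) (.node (.node (.node (.node (.leaf 6214) (.leaf 18123)) (.leaf 12116)) (.node (.leaf 12441) (.leaf 13123))) (.node (.node (.node (.leaf 4760) (.leaf 20559)) (.leaf 9343)) (.node (.leaf 15207) (.leaf 16503))))) (.node (.node (.node (.node (.node (.leaf 2810) (.leaf 18097)) (.leaf 10483)) (.node (.leaf 16222) (.leaf 13278))) (.node (.node (.node (.leaf 5452) (.leaf 20181)) (.leaf 14981)) (.node (.leaf 17099) (.leaf 16112)))) (.node (.node (.node (.node (.leaf 1890) (.leaf 18626)) (.leaf 12416)) (.node (.leaf 13198) (.leaf 11054))) (.node (.node (.node (.leaf 12822) (.leaf 21126)) (.leaf 8917)) (.node (.leaf 12930) (.leaf 16977))))))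
def dFin_150 : BT := .node (.node (.node (.node (.node (.node (.node (.leaf 5401) (.leaf 17986)) (.leaf 10471)) (.node (.node (.leaf 6130) (.leaf 21422)) (.leaf 8328))) (.node (.node (.node (.leaf 6039) (.leaf 19312)) (.leaf 14867)) (.node (.leaf 17166) (.leaf 15490)))) (.node (.node (.node (.node (.leaf 2930) (.leaf 20455)) (.leaf 8065)) (.node (.leaf 12160) (.leaf 13450))) (.node (.node (.node (.leaf 4514) (.leaf 20344)) (.leaf 14771)) (.node (.leaf 14131) (.leaf 16392))))) (.node (.node (.node (.node (.node (.leaf 6163) (.leaf 17431)) (.leaf 14515)) (.node (.leaf 13209) (.leaf 13217))) (.node (.node (.node (.leaf 4509) (.leaf 19830)) (.leaf 14099)) (.node (.leaf 14544) (.leaf 15991)))) (.node (.node (.node (.node (.leaf 5634) (.leaf 18484)) (.leaf 15408)) (.node (.leaf 11473) (.leaf 10961))) (.node (.node (.node (.leaf 5630) (.leaf 20981)) (.leaf 14573)) (.node (.leaf 15276) (.leaf 18383)))))) (.node (.node (.node (.node (.node (.node (.leaf 118) (.leaf 17392)) (.leaf 13922)) (.node (.node (.leaf 5888) (.leaf 21670))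 (.leaf 14909))) (.node (.node (.node (.leaf 2315) (.leaf 19746)) (.leaf 14256)) (.node (.leaf 15017) (.leaf 16333)))) (.node (.node (.node (.node (.leaf 2172) (.leaf 19464)) (.leaf 13302)) (.node (.leaf 12132) (.leaf 12920))) (.node (.node (.node (.leaf 7669) (.leaf 20629)) (.leaf 16796)) (.node (.leaf 15042) (.leaf 16705))))) (.node (.node (.node (.node (.node (.leaf 753) (.leaf 17635)) (.leaf 14158)) (.node (.leaf 6182) (.leaf 15065))) (.node (.node (.node (.leaf 3930) (.leaf 20085)) (.leaf 7531)) (.node (.leaf 7473) (.leaf 16203)))) (.node (.node (.node (.node (.leaf 2082) (.leaf 19675)) (.leaf 7060)) (.node (.leaf 20665) (.leaf 11262))) (.node (.node (.node (.leaf 15764) (.leaf 21290)) (.leaf 11998)) (.node (.leaf 11532) (.leaf 18072))))))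
def dFin_151 : BT := .node dFin_149 dFin_150
def dFin_152 : BT := .node (.node (.node (.node (.node (.node (.node (.leaf 2727) (.leaf 17752)) (.leaf 15278)) (.node (.node (.leaf 5732) (.leaf 21395)) (.leaf 17697))) (.node (.node (.node (.leaf 12799) (.leaf 19125)) (.leaf 17079)) (.node (.leaf 12597) (.leaf 15451)))) (.node (.node (.node (.node (.leaf 2912) (.leaf 17974)) (.leaf 8058)) (.node (.leaf 6339) (.leaf 10184))) (.node (.node (.node (.leaf 4047) (.leaf 20246)) (.leaf 12763)) (.node (.leaf 14225) (.leaf 16336))))) (.node (.node (.node (.node (.node (.leaf 324) (.leaf 19009)) (.leaf 14420)) (.node (.node (.leaf 5971) (.leaf 21717)) (.leaf 9477))) (.node (.node (.node (.leaf 6417) (.leaf 19712)) (.leaf 16572)) (.node (.leaf 19356) (.leaf 17726)))) (.node (.node (.node (.node (.leaf 10846) (.leaf 18395)) (.leaf 12855)) (.node (.leaf 6300) (.leaf 10974))) (.node (.node (.node (.leaf 4769) (.leaf 20975)) (.leaf 15075)) (.node (.leaf 12537) (.leaf 16790)))))) (.node (.node (.node (.node (.node (.node (.leaf 159) (.leaf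 17212)) (.leaf 15055)) (.node (.node (.leaf 5861) (.leaf 21541)) (.leaf 14639))) (.node (.node (.node (.leaf 2302) (.leaf 19503)) (.leaf 15354)) (.node (.leaf 6572) (.leaf 15680)))) (.node (.node (.node (.node (.leaf 2178) (.leaf 18148)) (.leaf 6979)) (.node (.leaf 13251) (.leaf 18645))) (.node (.node (.node (.leaf 5355) (.leaf 20623)) (.leaf 11796)) (.node (.leaf 8910) (.leaf 16567))))) (.node (.node (.node (.node (.node (.leaf 521) (.leaf 17609)) (.leaf 21275)) (.node (.leaf 6137) (.leaf 12664))) (.node (.node (.node (.leaf 5497) (.leaf 20118)) (.leaf 13402)) (.node (.leaf 6516) (.leaf 16144)))) (.node (.node (.node (.node (.leaf 3427) (.leaf 18869)) (.leaf 15302)) (.node (.leaf 13018) (.leaf 19743))) (.node (.node (.node (.leaf 13830) (.leaf 21204)) (.leaf 19506)) (.node (.leaf 12764) (.leaf 17999))))))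
def dFin_153 : BT := .node (.node (.node (.node (.node (.node (.node (.leaf 2334) (.leaf 17179)) (.leaf 9853)) (.node (.node (.leaf 12961) (.leaf 21482)) (.leaf 9865))) (.node (.node (.node (.leaf 3435) (.leaf 19380)) (.leaf 15640)) (.node (.leaf 6448) (.leaf 15525)))) (.node (.node (.node (.node (.leaf 1776) (.leaf 19284)) (.leaf 19744)) (.node (.leaf 10411) (.leaf 12593))) (.node (.node (.node (.leaf 4722) (.leaf 20468)) (.leaf 7606)) (.node (.leaf 15327) (.leaf 16454))))) (.node (.node (.node (.node (.node (.leaf 6431) (.leaf 20551)) (.leaf 7865)) (.node (.leaf 6074) (.leaf 14751))) (.node (.node (.node (.leaf 3110) (.leaf 20708)) (.leaf 15142)) (.node (.leaf 14594) (.leaf 16068)))) (.node (.node (.node (.node (.leaf 12803) (.leaf 18599)) (.leaf 16166)) (.node (.leaf 18369) (.leaf 10993))) (.node (.node (.node (.leaf 5255) (.leaf 21170)) (.leaf 8686)) (.node (.leaf 11845) (.leaf 18917)))))) (.node (.node (.node (.node (.node (.node (.leaf 5703) (.leaf 20083)) (.leaf 6808)) (.node (.node (.leaf 6056) (.leaf 21654))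 (.leaf 15365))) (.node (.node (.node (.leaf 17486) (.leaf 19670)) (.leaf 7860)) (.node (.leaf 14049) (.leaf 15772)))) (.node (.node (.node (.node (.leaf 2134) (.leaf 19610)) (.leaf 12729)) (.node (.leaf 21414) (.leaf 10742))) (.node (.node (.node (.leaf 13740) (.leaf 20771)) (.leaf 13816)) (.node (.leaf 15060) (.leaf 17028))))) (.node (.node (.node (.node (.node (.leaf 3056) (.leaf 18586)) (.leaf 21642)) (.node (.leaf 13235) (.leaf 16286))) (.node (.node (.node (.leaf 5564) (.leaf 20022)) (.leaf 13771)) (.node (.leaf 14211) (.leaf 16249)))) (.node (.node (.node (.node (.leaf 2340) (.leaf 20992)) (.leaf 7153)) (.node (.leaf 11804) (.leaf 11266))) (.node (.node (.node (.leaf 4883) (.leaf 21610)) (.leaf 12949)) (.node (.leaf 6684) (.leaf 16896))))))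
def dFin_154 : BT := .node dFin_152 dFin_153
def dFin_155 : BT := .node dFin_151 dFin_154
def dFin_156 : BT := .node dFin_148 dFin_155
def dFin_157 : BT := .node dFin_141 dFin_156
def dFin_158 : BT := .node (.node (.node (.node (.node (.node (.node (.leaf 5) (.leaf 17113)) (.leaf 11778)) (.node (.node (.leaf 4929) (.leaf 21339)) (.leaf 8138))) (.node (.node (.node (.leaf 3105) (.leaf 18969)) (.leaf 14226)) (.node (.leaf 15145) (.leaf 13266)))) (.node (.node (.node (.node (.leaf 2590) (.leaf 17791)) (.leaf 6931)) (.node (.leaf 6219) (.leaf 16918))) (.node (.node (.node (.leaf 5567) (.leaf 19971)) (.leaf 7686)) (.node (.leaf 6581) (.leaf 16244))))) (.node (.node (.node (.node (.node (.leaf 2979) (.leaf 17449)) (.leaf 14175)) (.node (.node (.leaf 13633) (.leaf 21660)) (.leaf 16402))) (.node (.node (.node (.leaf 2353) (.leaf 19667)) (.leaf 7344)) (.node (.leaf 14149) (.leaf 15785)))) (.node (.node (.node (.node (.leaf 5608) (.leaf 18871)) (.leaf 21586)) (.node (.leaf 9011) (.leaf 16396))) (.node (.node (.node (.leaf 4930)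 (.leaf 20702)) (.leaf 15009)) (.node (.leaf 16974) (.leaf 16739)))))) (.node (.node (.node (.node (.node (.node (.leaf 182) (.leaf 17202)) (.leaf 13221)) (.node (.node (.leaf 6100) (.leaf 21595)) (.leaf 16158))) (.node (.node (.node (.leaf 2164) (.leaf 21046)) (.leaf 13696)) (.node (.leaf 6427) (.leaf 16258)))) (.node (.node (.node (.node (.leaf 1748) (.leaf 18127)) (.leaf 12456)) (.node (.leaf 12377) (.leaf 11057))) (.node (.node (.node (.leaf 5048) (.leaf 20420)) (.leaf 7645)) (.node (.leaf 6608) (.leaf 16496))))) (.node (.node (.node (.node (.node (.leaf 432) (.leaf 17521)) (.leaf 6833)) (.node (.leaf 6091) (.leaf 12288))) (.node (.node (.node (.leaf 3125) (.leaf 19897)) (.leaf 8050)) (.node (.leaf 7840) (.leaf 16037)))) (.node (.node (.node (.node (.leaf 1883) (.leaf 18617)) (.leaf 13051)) (.node (.leaf 21548) (.leaf 11022))) (.node (.node (.node (.leaf 7657) (.leaf 21119)) (.leaf 14920)) (.node (.leaf 14847) (.leaf 16826))))))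
def dFin_159 : BT := .node (.node (.node (.node (.node (.node (.node (.leaf 2749) (.leaf 17126)) (.leaf 7096)) (.node (.node (.leaf 5743) (.leaf 21490)) (.leaf 11410))) (.node (.node (.node (.leaf 2143) (.leaf 19269)) (.leaf 15321)) (.node (.leaf 12276) (.leaf 15459)))) (.node (.node (.node (.node (.leaf 7546) (.leaf 17991)) (.leaf 15844)) (.node (.leaf 12245) (.leaf 15019))) (.node (.node (.node (.leaf 4056) (.leaf 20236)) (.leaf 9163)) (.node (.leaf 15868) (.leaf 16383))))) (.node (.node (.node (.node (.node (.leaf 367) (.leaf 17473)) (.leaf 19271)) (.node (.node (.leaf 5999) (.leaf 21752)) (.leaf 12499))) (.node (.node (.node (.leaf 5853) (.leaf 19569)) (.leaf 7354)) (.node (.leaf 18447) (.leaf 15873)))) (.node (.node (.node (.node (.leaf 3097) (.leaf 18390)) (.leaf 11383)) (.node (.leaf 10494) (.leaf 10935))) (.node (.node (.node (.leaf 6372) (.leaf 20952)) (.leaf 14588)) (.node (.leaf 9707) (.leaf 16811)))))) (.node (.node (.node (.node (.node (.node (.leaf 953) (.leaf 17403)) (.leaf 13662)) (.node (.node (.leaf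 5868) (.leaf 21570)) (.leaf 14825))) (.node (.node (.node (.leaf 5038) (.leaf 19514)) (.leaf 16384)) (.node (.leaf 14518) (.leaf 15723)))) (.node (.node (.node (.node (.leaf 1789) (.leaf 18244)) (.leaf 13104)) (.node (.leaf 12554) (.leaf 12711))) (.node (.node (.node (.leaf 4890) (.leaf 20585)) (.leaf 7740)) (.node (.leaf 14955) (.leaf 16667))))) (.node (.node (.node (.node (.node (.leaf 780) (.leaf 17627)) (.leaf 15031)) (.node (.leaf 6145) (.leaf 9851))) (.node (.node (.node (.leaf 5594) (.leaf 20122)) (.leaf 14609)) (.node (.leaf 15488) (.leaf 16179)))) (.node (.node (.node (.node (.leaf 17302) (.leaf 18893)) (.leaf 12115)) (.node (.leaf 6406) (.leaf 15293))) (.node (.node (.node (.leaf 6155) (.leaf 21229)) (.leaf 20937)) (.node (.leaf 6674) (.leaf 19001))))))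
def dFin_160 : BT := .node dFin_158 dFin_159
def dFin_161 : BT := .node (.node (.node (.node (.node (.node (.node (.leaf 751) (.leaf 17106)) (.leaf 11309)) (.node (.node (.leaf 5694) (.leaf 21390)) (.leaf 9608))) (.node (.node (.node (.leaf 2117) (.leaf 19088)) (.leaf 7236)) (.node (.leaf 6391) (.leaf 15187)))) (.node (.node (.node (.node (.leaf 2819) (.leaf 17801)) (.leaf 15349)) (.node (.leaf 7672) (.leaf 14931))) (.node (.node (.node (.leaf 5589) (.leaf 20258)) (.leaf 10329)) (.node (.leaf 13907) (.leaf 16290))))) (.node (.node (.node (.node (.node (.leaf 5413) (.leaf 18563)) (.leaf 8566)) (.node (.node (.leaf 6541) (.leaf 21700)) (.leaf 18879))) (.node (.node (.node (.leaf 5670) (.leaf 19605)) (.leaf 14729)) (.node (.leaf 14382) (.leaf 15833)))) (.node (.node (.node (.node (.leaf 10399) (.leaf 18366)) (.leaf 7005)) (.node (.leaf 19715) (.leaf 13117))) (.node (.node (.node (.leaf 4758) (.leaf 20926)) (.leaf 14183)) (.node (.leaf 6632) (.leaf 16779)))))) (.node (.node (.node (.node (.node (.node (.leaf 3042) (.leaf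 20798)) (.leaf 6792)) (.node (.node (.leaf 6009) (.leaf 21536)) (.leaf 18929))) (.node (.node (.node (.leaf 15992) (.leaf 19485)) (.leaf 7283)) (.node (.leaf 6562) (.leaf 15581)))) (.node (.node (.node (.node (.leaf 2898) (.leaf 18636)) (.leaf 11510)) (.node (.leaf 21301) (.leaf 10588))) (.node (.node (.node (.leaf 5616) (.leaf 20523)) (.leaf 13206)) (.node (.leaf 14822) (.leaf 16515))))) (.node (.node (.node (.node (.node (.leaf 2816) (.leaf 17575)) (.leaf 13549)) (.node (.leaf 10994) (.leaf 13259))) (.node (.node (.node (.leaf 6158) (.leaf 19918)) (.leaf 19118)) (.node (.leaf 14891) (.leaf 16089)))) (.node (.node (.node (.node (.leaf 1897) (.leaf 21424)) (.leaf 12189)) (.node (.leaf 6368) (.leaf 11089))) (.node (.node (.node (.leaf 4812) (.leaf 21149)) (.leaf 15003)) (.node (.leaf 12724) (.leaf 17017))))))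
def dFin_162 : BT := .node (.node (.node (.node (.node (.node (.node (.leaf 195) (.leaf 17169)) (.leaf 15095)) (.node (.node (.leaf 12606) (.leaf 21445)) (.leaf 13152))) (.node (.node (.node (.leaf 2456) (.leaf 20089)) (.leaf 15700)) (.node (.leaf 15280) (.leaf 15500)))) (.node (.node (.node (.node (.leaf 1826) (.leaf 17847)) (.leaf 14441)) (.node (.leaf 10338) (.leaf 19300))) (.node (.node (.node (.leaf 20655) (.leaf 20363)) (.leaf 12993)) (.node (.leaf 6604) (.leaf 16413))))) (.node (.node (.node (.node (.node (.leaf 423) (.leaf 19255)) (.leaf 6827)) (.node (.leaf 6029) (.leaf 13049))) (.node (.node (.node (.leaf 5849) (.leaf 19813)) (.leaf 21279)) (.node (.leaf 14556) (.leaf 15999)))) (.node (.node (.node (.node (.leaf 4501) (.leaf 18495)) (.leaf 16451)) (.node (.leaf 12673) (.leaf 19022))) (.node (.node (.node (.leaf 5053) (.leaf 21026)) (.leaf 14915)) (.node (.leaf 12401) (.leaf 19878)))))) (.node (.node (.node (.node (.node (.node (.leaf 83) (.leaf 17885)) (.leaf 13785)) (.node (.node (.leaf 5898) (.leaf 21597))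 (.leaf 8859))) (.node (.node (.node (.leaf 2331) (.leaf 19734)) (.leaf 14284)) (.node (.leaf 17432) (.leaf 15725)))) (.node (.node (.node (.node (.leaf 10152) (.leaf 18225)) (.leaf 7022)) (.node (.leaf 18481) (.leaf 18269))) (.node (.node (.node (.leaf 5824) (.leaf 20783)) (.leaf 14745)) (.node (.leaf 15036) (.leaf 17898))))) (.node (.node (.node (.node (.node (.leaf 757) (.leaf 17680)) (.leaf 7877)) (.node (.leaf 16198) (.leaf 14905))) (.node (.node (.node (.leaf 4040) (.leaf 20065)) (.leaf 12883)) (.node (.leaf 6578) (.leaf 16205)))) (.node (.node (.node (.node (.leaf 2124) (.leaf 18774)) (.leaf 13630)) (.node (.leaf 13017) (.leaf 13166))) (.node (.node (.node (.leaf 4852) (.leaf 21304)) (.leaf 12887)) (.node (.leaf 21494) (.leaf 18981))))))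
def dFin_163 : BT := .node dFin_161 dFin_162
def dFin_164 : BT := .node dFin_160 dFin_163
def dFin_165 : BT := .node (.node (.node (.node (.node (.node (.node (.leaf 29) (.leaf 17082)) (.leaf 12701)) (.node (.node (.leaf 4933) (.leaf 21632)) (.leaf 8117))) (.node (.node (.node (.leaf 2166) (.leaf 19081)) (.leaf 8536)) (.node (.leaf 6387) (.leaf 13263)))) (.node (.node (.node (.node (.leaf 2805) (.leaf 20901)) (.leaf 15344)) (.node (.leaf 6233) (.leaf 13561))) (.node (.node (.node (.leaf 19033) (.leaf 20286)) (.leaf 12148)) (.node (.leaf 14644) (.leaf 16346))))) (.node (.node (.node (.node (.node (.leaf 5286) (.leaf 17509)) (.leaf 14208)) (.node (.node (.leaf 5940) (.leaf 21683)) (.leaf 15284))) (.node (.node (.node (.leaf 14762) (.leaf 19556)) (.leaf 14586)) (.node (.leaf 8601) (.leaf 15807)))) (.node (.node (.node (.node (.leaf 2091) (.leaf 18502)) (.leaf 12590)) (.node (.leaf 15183) (.leaf 11899))) (.node (.node (.node (.leaf 16747) (.leaf 20811)) (.leaf 15122)) (.node (.leaf 16984) (.leaf 16912)))))) (.node (.node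 (.node (.node (.node (.node (.leaf 594) (.leaf 17332)) (.leaf 7066)) (.node (.node (.leaf 17428) (.leaf 21507)) (.leaf 9467))) (.node (.node (.node (.leaf 2176) (.leaf 19463)) (.leaf 13903)) (.node (.leaf 6455) (.leaf 15656)))) (.node (.node (.node (.node (.leaf 1765) (.leaf 20801)) (.leaf 21568)) (.node (.leaf 9176) (.leaf 12955))) (.node (.node (.node (.leaf 4834) (.leaf 20561)) (.leaf 12744)) (.node (.leaf 15360) (.leaf 16494))))) (.node (.node (.node (.node (.node (.leaf 3052) (.leaf 18282)) (.leaf 15824)) (.node (.leaf 6109) (.leaf 20117))) (.node (.node (.node (.leaf 3428) (.leaf 20641)) (.leaf 15428)) (.node (.leaf 6511) (.leaf 16077)))) (.node (.node (.node (.node (.leaf 5601) (.leaf 18642)) (.leaf 12410)) (.node (.leaf 15262) (.leaf 11052))) (.node (.node (.node (.leaf 4830) (.leaf 21092)) (.leaf 15874)) (.node (.leaf 12761) (.leaf 18136))))))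
def dFin_166 : BT := .node (.node (.node (.node (.node (.node (.node (.leaf 3037) (.leaf 20139)) (.leaf 15219)) (.node (.node (.leaf 5786) (.leaf 21434)) (.leaf 12687))) (.node (.node (.node (.leaf 5838) (.leaf 19306)) (.leaf 19488)) (.node (.leaf 12174) (.leaf 15483)))) (.node (.node (.node (.node (.leaf 10937) (.leaf 17901)) (.leaf 8062)) (.node (.leaf 12228) (.leaf 10161))) (.node (.node (.node (.leaf 4498) (.leaf 20659)) (.leaf 7596)) (.node (.leaf 15149) (.leaf 20808))))) (.node (.node (.node (.node (.node (.leaf 5311) (.leaf 17537)) (.leaf 6823)) (.node (.node (.leaf 6011) (.leaf 21766)) (.leaf 9700))) (.node (.node (.node (.leaf 10347) (.leaf 21206)) (.leaf 13426)) (.node (.leaf 20370) (.leaf 15980)))) (.node (.node (.node (.node (.leaf 6639) (.leaf 18478)) (.leaf 7072)) (.node (.leaf 12670) (.leaf 10943))) (.node (.node (.node (.leaf 4785) (.leaf 20976)) (.leaf 14661)) (.node (.leaf 13168) (.leaf 20670)))))) (.node (.node (.node (.node (.node (.node (.leaf 127) (.leaf 17396)) (.leaf 13676)) (.node (.node (.leaf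 5890) (.leaf 21580)) (.leaf 15859))) (.node (.node (.node (.leaf 2316) (.leaf 19752)) (.leaf 15380)) (.node (.leaf 18219) (.leaf 15707)))) (.node (.node (.node (.node (.leaf 1906) (.leaf 18289)) (.leaf 6983)) (.node (.leaf 12165) (.leaf 15287))) (.node (.node (.node (.leaf 15586) (.leaf 20605)) (.leaf 12862)) (.node (.leaf 8044) (.leaf 16669))))) (.node (.node (.node (.node (.node (.leaf 796) (.leaf 17712)) (.leaf 14154)) (.node (.leaf 6168) (.leaf 14563))) (.node (.node (.node (.leaf 5434) (.leaf 20108)) (.leaf 7527)) (.node (.leaf 13754) (.leaf 16184)))) (.node (.node (.node (.node (.leaf 2110) (.leaf 18841)) (.leaf 16773)) (.node (.leaf 13004) (.leaf 12054))) (.node (.node (.node (.leaf 5131) (.leaf 21282)) (.leaf 12248)) (.node (.leaf 11577) (.leaf 18070))))))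
def dFin_167 : BT := .node dFin_165 dFin_166
def dFin_168 : BT := .node (.node (.node (.node (.node (.node (.node (.leaf 760) (.leaf 20566)) (.leaf 12211)) (.node (.node (.leaf 5720) (.leaf 21393)) (.leaf 15305))) (.node (.node (.node (.leaf 16924) (.leaf 19126)) (.leaf 7264)) (.node (.leaf 17599) (.leaf 15104)))) (.node (.node (.node (.node (.leaf 5343) (.leaf 20143)) (.leaf 15691)) (.node (.leaf 12257) (.leaf 10180))) (.node (.node (.node (.leaf 19042) (.leaf 20272)) (.leaf 12922)) (.node (.leaf 13943) (.leaf 16330))))) (.node (.node (.node (.node (.node (.leaf 5174) (.leaf 19005)) (.leaf 16787)) (.node (.node (.leaf 5972) (.leaf 21726)) (.leaf 12627))) (.node (.node (.node (.leaf 3060) (.leaf 19559)) (.leaf 14693)) (.node (.leaf 14392) (.leaf 15886)))) (.node (.node (.node (.node (.leaf 1848) (.leaf 18578)) (.leaf 12845)) (.node (.leaf 6404) (.leaf 10932))) (.node (.node (.node (.leaf 5871) (.leaf 20944)) (.leaf 14536)) (.node (.leaf 12196) (.leaf 16799)))))) (.node (.node (.node (.node (.node (.node (.leaf 64) (.leaf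 20432)) (.leaf 14110)) (.node (.node (.leaf 5850) (.leaf 21542)) (.leaf 16506))) (.node (.node (.node (.leaf 5665) (.leaf 19495)) (.leaf 12805)) (.node (.leaf 6566) (.leaf 15741)))) (.node (.node (.node (.node (.leaf 1802) (.leaf 20378)) (.leaf 6980)) (.node (.leaf 15759) (.leaf 13132))) (.node (.node (.node (.leaf 5918) (.leaf 20577)) (.leaf 11794)) (.node (.leaf 16645) (.leaf 19078))))) (.node (.node (.node (.node (.node (.leaf 524) (.leaf 17588)) (.leaf 21234)) (.node (.leaf 6139) (.leaf 12662))) (.node (.node (.node (.leaf 5539) (.leaf 20140)) (.leaf 15376)) (.node (.leaf 14658) (.leaf 16148)))) (.node (.node (.node (.node (.leaf 1902) (.leaf 18834)) (.leaf 7055)) (.node (.leaf 13089) (.leaf 11108))) (.node (.node (.node (.leaf 6920) (.leaf 21185)) (.leaf 8024)) (.node (.leaf 11550) (.leaf 17022))))))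
def dFin_169 : BT := .node (.node (.node (.node (.node (.node (.node (.leaf 2773) (.leaf 17194)) (.leaf 12794)) (.node (.node (.leaf 5780) (.leaf 21455)) (.leaf 8324))) (.node (.node (.node (.leaf 13844) (.leaf 19351)) (.leaf 14959)) (.node (.leaf 6421) (.leaf 17287)))) (.node (.node (.node (.node (.leaf 14169) (.leaf 20882)) (.leaf 8161)) (.node (.leaf 10415) (.leaf 13767))) (.node (.node (.node (.leaf 4772) (.leaf 21083)) (.leaf 13330)) (.node (.leaf 15329) (.leaf 16438))))) (.node (.node (.node (.node (.node (.leaf 409) (.leaf 17543)) (.leaf 14841)) (.node (.leaf 13886) (.leaf 9607))) (.node (.node (.node (.leaf 2499) (.leaf 19851)) (.leaf 14223)) (.node (.leaf 14592) (.leaf 16062)))) (.node (.node (.node (.node (.leaf 10393) (.leaf 20787)) (.leaf 10207)) (.node (.leaf 12632) (.leaf 11020))) (.node (.node (.node (.leaf 5862) (.leaf 21044)) (.leaf 7822)) (.node (.leaf 14995) (.leaf 16972)))))) (.node (.node (.node (.node (.node (.node (.leaf 110) (.leaf 17282)) (.leaf 13813)) (.node (.node (.leaf 5923) (.leaf 21635))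 (.leaf 16025))) (.node (.node (.node (.leaf 2338) (.leaf 19704)) (.leaf 14315)) (.node (.leaf 13723) (.leaf 15762)))) (.node (.node (.node (.node (.leaf 1874) (.leaf 18910)) (.leaf 17183)) (.node (.leaf 12972) (.leaf 10667))) (.node (.node (.node (.leaf 6528) (.leaf 20754)) (.leaf 10882)) (.node (.leaf 13413) (.leaf 17788))))) (.node (.node (.node (.node (.node (.leaf 775) (.leaf 17723)) (.leaf 14802)) (.node (.leaf 6200) (.leaf 15333))) (.node (.node (.node (.leaf 21037) (.leaf 20018)) (.leaf 7658)) (.node (.leaf 14189) (.leaf 16240)))) (.node (.node (.node (.node (.leaf 2959) (.leaf 18984)) (.leaf 13707)) (.node (.leaf 13312) (.leaf 13275))) (.node (.node (.node (.leaf 5114) (.leaf 21311)) (.leaf 8111)) (.node (.leaf 17150) (.leaf 16959))))))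
def dFin_170 : BT := .node dFin_168 dFin_169
def dFin_171 : BT := .node dFin_167 dFin_170
def dFin_172 : BT := .node dFin_164 dFin_171
def dFin_173 : BT := .node (.node (.node (.node (.node (.node (.node (.leaf 17) (.leaf 17894)) (.leaf 13043)) (.node (.node (.leaf 5678) (.leaf 21697)) (.leaf 13188))) (.node (.node (.node (.leaf 2108) (.leaf 19075)) (.leaf 15203)) (.node (.leaf 6388) (.leaf 12659)))) (.node (.node (.node (.node (.leaf 795) (.leaf 17795)) (.leaf 14852)) (.node (.leaf 6229) (.leaf 13877))) (.node (.node (.node (.leaf 4058) (.leaf 19975)) (.leaf 9215)) (.node (.leaf 16569) (.leaf 16464))))) (.node (.node (.node (.node (.node (.leaf 278) (.leaf 17458)) (.leaf 15052)) (.node (.node (.leaf 6018) (.leaf 21668)) (.leaf 12769))) (.node (.node (.node (.leaf 2357) (.leaf 19647)) (.leaf 14648)) (.node (.leaf 15071) (.leaf 15801)))) (.node (.node (.node (.node (.leaf 1829) (.leaf 18378)) (.leaf 7002)) (.node (.leaf 13071) (.leaf 14447))) (.node (.node (.node (.leaf 20130) (.leaf 20820)) (.leaf 14233)) (.node (.leaf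 8026) (.leaf 16752)))))) (.node (.node (.node (.node (.node (.node (.leaf 3020) (.leaf 17343)) (.leaf 12285)) (.node (.node (.leaf 5920) (.leaf 21493)) (.leaf 12641))) (.node (.node (.node (.leaf 13283) (.leaf 19424)) (.leaf 13334)) (.node (.leaf 6437) (.leaf 15629)))) (.node (.node (.node (.node (.leaf 1858) (.leaf 18077)) (.leaf 11664)) (.node (.leaf 12382) (.leaf 10573))) (.node (.node (.node (.leaf 4762) (.leaf 20430)) (.leaf 12829)) (.node (.leaf 14856) (.leaf 16490))))) (.node (.node (.node (.node (.node (.leaf 426) (.leaf 19309)) (.leaf 16366)) (.node (.leaf 6078) (.leaf 9877))) (.node (.node (.node (.leaf 6446) (.leaf 21381)) (.leaf 15664)) (.node (.leaf 15635) (.leaf 16124)))) (.node (.node (.node (.node (.leaf 7080) (.leaf 18631)) (.leaf 8338)) (.node (.leaf 12217) (.leaf 11005))) (.node (.node (.node (.leaf 6140) (.leaf 21084)) (.leaf 20897)) (.node (.leaf 12512) (.leaf 19669))))))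
def dFin_174 : BT := .node (.node (.node (.node (.node (.node (.node (.leaf 205) (.leaf 17145)) (.leaf 13053)) (.node (.node (.leaf 5735) (.leaf 21419)) (.leaf 8213))) (.node (.node (.node (.leaf 2144) (.leaf 19272)) (.leaf 8900)) (.node (.leaf 6395) (.leaf 15469)))) (.node (.node (.node (.node (.leaf 5176) (.leaf 18150)) (.leaf 15853)) (.node (.leaf 6244) (.leaf 15244))) (.node (.node (.node (.leaf 11100) (.leaf 20335)) (.leaf 21664)) (.node (.leaf 14139) (.leaf 16420))))) (.node (.node (.node (.node (.node (.leaf 5722) (.leaf 17419)) (.leaf 6824)) (.node (.node (.leaf 6026) (.leaf 21762)) (.leaf 12287))) (.node (.node (.node (.leaf 18286) (.leaf 19832)) (.leaf 7390)) (.node (.leaf 14482) (.leaf 15881)))) (.node (.node (.node (.node (.leaf 5376) (.leaf 18444)) (.leaf 12517)) (.node (.leaf 17201) (.leaf 10948))) (.node (.node (.node (.leaf 5064) (.leaf 21001)) (.leaf 15977)) (.node (.leaf 15857) (.leaf 16815)))))) (.node (.node (.node (.node (.node (.node (.leaf 4507) (.leaf 21648)) (.leaf 13674)) (.node (.node (.leaf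 20129) (.leaf 21579)) (.leaf 8689))) (.node (.node (.node (.leaf 2372) (.leaf 19513)) (.leaf 14177)) (.node (.leaf 14045) (.leaf 15754)))) (.node (.node (.node (.node (.leaf 11044) (.leaf 18823)) (.leaf 17021)) (.node (.leaf 12541) (.leaf 12908))) (.node (.node (.node (.leaf 4712) (.leaf 20648)) (.leaf 13113)) (.node (.leaf 15258) (.leaf 16670))))) (.node (.node (.node (.node (.node (.leaf 7275) (.leaf 17705)) (.leaf 8624)) (.node (.leaf 6177) (.leaf 16812))) (.node (.node (.node (.leaf 5424) (.leaf 20102)) (.leaf 13491)) (.node (.leaf 6522) (.leaf 16160)))) (.node (.node (.node (.node (.leaf 16186) (.leaf 18899)) (.leaf 10854)) (.node (.leaf 20647) (.leaf 12657))) (.node (.node (.node (.leaf 5687) (.leaf 21237)) (.leaf 8162)) (.node (.leaf 6673) (.leaf 18236))))))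
def dFin_175 : BT := .node dFin_173 dFin_174
def dFin_176 : BT := .node (.node (.node (.node (.node (.node (.node (.leaf 214) (.leaf 17065)) (.leaf 15359)) (.node (.node (.leaf 5717) (.leaf 21382)) (.leaf 12527))) (.node (.node (.node (.leaf 5493) (.leaf 19113)) (.leaf 7196)) (.node (.leaf 19891) (.leaf 13271)))) (.node (.node (.node (.node (.leaf 995) (.leaf 17958)) (.leaf 6893)) (.node (.leaf 10498) (.leaf 19213))) (.node (.node (.node (.leaf 18936) (.leaf 20248)) (.leaf 17624)) (.node (.leaf 13936) (.leaf 16340))))) (.node (.node (.node (.node (.node (.leaf 390) (.leaf 18570)) (.leaf 14369)) (.node (.node (.leaf 5958) (.leaf 21759)) (.leaf 13125))) (.node (.node (.node (.leaf 2375) (.leaf 20929)) (.leaf 9944)) (.node (.leaf 14388) (.leaf 15827)))) (.node (.node (.node (.node (.leaf 1847) (.leaf 19039)) (.leaf 17142)) (.node (.leaf 6315) (.leaf 10700))) (.node (.node (.node (.leaf 12870) (.leaf 20889)) (.leaf 14289)) (.node (.leaf 12130) (.leaf 17356)))))) (.node (.node (.node (.node (.node (.node (.leaf 5402) (.leaf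 17799)) (.leaf 6791)) (.node (.node (.leaf 5816) (.leaf 21532)) (.leaf 13841))) (.node (.node (.node (.leaf 2332) (.leaf 19907)) (.leaf 7302)) (.node (.leaf 6554) (.leaf 16358)))) (.node (.node (.node (.node (.leaf 2906) (.leaf 19500)) (.leaf 8136)) (.node (.leaf 12754) (.leaf 10594))) (.node (.node (.node (.leaf 4692) (.leaf 20571)) (.leaf 19776)) (.node (.leaf 6615) (.leaf 16604))))) (.node (.node (.node (.node (.node (.leaf 449) (.leaf 17579)) (.leaf 14197)) (.node (.leaf 6116) (.leaf 9863))) (.node (.node (.node (.leaf 3436) (.leaf 20167)) (.leaf 15024)) (.node (.leaf 15033) (.leaf 16130)))) (.node (.node (.node (.node (.leaf 7244) (.leaf 18824)) (.leaf 17776)) (.node (.leaf 6773) (.leaf 16745))) (.node (.node (.node (.leaf 4821) (.leaf 21159)) (.leaf 15419)) (.node (.leaf 15751) (.leaf 17013))))))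
def dFin_177 : BT := .node (.node (.node (.node (.node (.node (.node (.leaf 2102) (.leaf 17160)) (.leaf 12792)) (.node (.node (.leaf 5779) (.leaf 21461)) (.leaf 17792))) (.node (.node (.node (.leaf 17036) (.leaf 19363)) (.leaf 10191)) (.node (.leaf 6411) (.leaf 15509)))) (.node (.node (.node (.node (.leaf 1810) (.leaf 19453)) (.leaf 15045)) (.node (.leaf 10351) (.leaf 10542))) (.node (.node (.node (.leaf 7528) (.leaf 20377)) (.leaf 10903)) (.node (.leaf 6767) (.leaf 16434))))) (.node (.node (.node (.node (.node (.leaf 415) (.leaf 17540)) (.leaf 15194)) (.node (.leaf 6049) (.leaf 12012))) (.node (.node (.node (.leaf 3102) (.leaf 19855)) (.leaf 15049)) (.node (.leaf 14600) (.leaf 16052)))) (.node (.node (.node (.node (.leaf 1868) (.leaf 18505)) (.leaf 13010)) (.node (.leaf 16437) (.leaf 10977))) (.node (.node (.node (.leaf 5978) (.leaf 21028)) (.leaf 7821)) (.node (.leaf 12396) (.leaf 16945)))))) (.node (.node (.node (.node (.node (.node (.leaf 3006) (.leaf 17276)) (.leaf 13768)) (.node (.node (.leaf 5928) (.leaf 21636))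 (.leaf 14936))) (.node (.node (.node (.leaf 2345) (.leaf 19702)) (.leaf 19817)) (.node (.leaf 15141) (.leaf 15693)))) (.node (.node (.node (.node (.leaf 7409) (.leaf 18228)) (.leaf 6996)) (.node (.leaf 15520) (.leaf 10668))) (.node (.node (.node (.leaf 4729) (.leaf 20797)) (.leaf 9468)) (.node (.leaf 15238) (.leaf 16713))))) (.node (.node (.node (.node (.node (.leaf 2809) (.leaf 17724)) (.leaf 17335)) (.node (.leaf 6212) (.leaf 14703))) (.node (.node (.node (.leaf 5559) (.leaf 20075)) (.leaf 7538)) (.node (.leaf 13496) (.leaf 16229)))) (.node (.node (.node (.node (.leaf 2085) (.leaf 18782)) (.leaf 16012)) (.node (.leaf 13180) (.leaf 15184))) (.node (.node (.node (.leaf 10953) (.leaf 21358)) (.leaf 11585)) (.node (.leaf 11772) (.leaf 20875))))))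
def dFin_178 : BT := .node dFin_176 dFin_177
def dFin_179 : BT := .node dFin_175 dFin_178
def dFin_180 : BT := .node (.node (.node (.node (.node (.node (.node (.leaf 18) (.leaf 17111)) (.leaf 17352)) (.node (.node (.leaf 5692) (.leaf 21365)) (.leaf 13100))) (.node (.node (.node (.leaf 2123) (.leaf 19100)) (.leaf 17336)) (.node (.leaf 7774) (.leaf 16458)))) (.node (.node (.node (.node (.leaf 990) (.leaf 17779)) (.leaf 14861)) (.node (.leaf 12944) (.leaf 10073))) (.node (.node (.node (.leaf 4033) (.leaf 20189)) (.leaf 12104)) (.node (.leaf 13896) (.leaf 21706))))) (.node (.node (.node (.node (.node (.leaf 2774) (.leaf 19027)) (.leaf 14395)) (.node (.node (.leaf 6080) (.leaf 21677)) (.leaf 9501))) (.node (.node (.node (.leaf 5774) (.leaf 19698)) (.leaf 15862)) (.node (.leaf 15085) (.leaf 15838)))) (.node (.node (.node (.node (.leaf 13085) (.leaf 18358)) (.leaf 12785)) (.node (.leaf 6690) (.leaf 15120))) (.node (.node (.node (.leaf 5983) (.leaf 20924)) (.leaf 15116)) (.node (.leaf 6631) (.leaf 16763)))))) (.node (.node (.node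 (.node (.node (.node (.leaf 169) (.leaf 17456)) (.leaf 17372)) (.node (.node (.leaf 13928) (.leaf 21508)) (.leaf 14950))) (.node (.node (.node (.leaf 2318) (.leaf 19469)) (.leaf 7271)) (.node (.leaf 7535) (.leaf 15630)))) (.node (.node (.node (.node (.leaf 2890) (.leaf 18119)) (.leaf 12467)) (.node (.leaf 12690) (.leaf 13417))) (.node (.node (.node (.leaf 5307) (.leaf 20512)) (.leaf 12394)) (.node (.leaf 14812) (.leaf 16505))))) (.node (.node (.node (.node (.node (.leaf 445) (.leaf 18094)) (.leaf 13651)) (.node (.leaf 6098) (.leaf 9805))) (.node (.node (.node (.leaf 3421) (.leaf 20178)) (.leaf 10179)) (.node (.leaf 15726) (.leaf 16116)))) (.node (.node (.node (.node (.leaf 5551) (.leaf 18931)) (.leaf 16894)) (.node (.leaf 6367) (.leaf 13210))) (.node (.node (.node (.leaf 5657) (.leaf 21125)) (.leaf 14939)) (.node (.leaf 12932) (.leaf 20173))))))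
def dFin_181 : BT := .node (.node (.node (.node (.node (.node (.node (.leaf 1816) (.leaf 17153)) (.leaf 9520)) (.node (.node (.leaf 5767) (.leaf 21520)) (.leaf 9871))) (.node (.node (.node (.leaf 2342) (.leaf 19318)) (.leaf 7209)) (.node (.leaf 12187) (.leaf 15496)))) (.node (.node (.node (.node (.leaf 6311) (.leaf 19434)) (.leaf 18355)) (.node (.leaf 9202) (.leaf 14095))) (.node (.node (.node (.leaf 5366) (.leaf 20349)) (.leaf 12011)) (.node (.leaf 15136) (.leaf 17907))))) (.node (.node (.node (.node (.node (.leaf 3011) (.leaf 17549)) (.leaf 14502)) (.node (.leaf 13935) (.leaf 18605))) (.node (.node (.node (.leaf 5660) (.leaf 19809)) (.leaf 15066)) (.node (.leaf 14548) (.leaf 15988)))) (.node (.node (.node (.node (.leaf 15388) (.leaf 18491)) (.leaf 12979)) (.node (.leaf 15299) (.leaf 10962))) (.node (.node (.node (.leaf 4778) (.leaf 20982)) (.leaf 14722)) (.node (.leaf 10335) (.leaf 18349)))))) (.node (.node (.node (.node (.node (.node (.leaf 4667) (.leaf 17371)) (.leaf 13773)) (.node (.node (.leaf 5911) (.leaf 21601))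 (.leaf 15339))) (.node (.node (.node (.leaf 16246) (.leaf 19517)) (.leaf 8577)) (.node (.leaf 7895) (.leaf 21320)))) (.node (.node (.node (.node (.leaf 1808) (.leaf 19470)) (.leaf 6984)) (.node (.leaf 15307) (.leaf 10780))) (.node (.node (.node (.leaf 4727) (.leaf 20618)) (.leaf 7743)) (.node (.leaf 14969) (.leaf 16701))))) (.node (.node (.node (.node (.node (.leaf 998) (.leaf 17674)) (.leaf 17155)) (.node (.leaf 6190) (.leaf 14530))) (.node (.node (.node (.leaf 21017) (.leaf 19981)) (.leaf 7532)) (.node (.leaf 14551) (.leaf 16214)))) (.node (.node (.node (.node (.leaf 2076) (.leaf 18854)) (.leaf 14229)) (.node (.leaf 10468) (.leaf 16276))) (.node (.node (.node (.leaf 4837) (.leaf 21247)) (.leaf 12112)) (.node (.leaf 6677) (.leaf 18079))))))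
def dFin_182 : BT := .node dFin_180 dFin_181
def dFin_183 : BT := .node (.node (.node (.node (.node (.node (.node (.leaf 946) (.leaf 17754)) (.leaf 6718)) (.node (.node (.leaf 5796) (.leaf 21387)) (.leaf 8265))) (.node (.node (.node (.leaf 6296) (.leaf 19256)) (.leaf 15317)) (.node (.leaf 10881) (.leaf 15456)))) (.node (.node (.node (.node (.leaf 1022) (.leaf 19806)) (.leaf 17730)) (.node (.leaf 12240) (.leaf 17967))) (.node (.node (.node (.leaf 5590) (.leaf 20228)) (.leaf 16371)) (.node (.leaf 14067) (.leaf 16363))))) (.node (.node (.node (.node (.node (.leaf 5935) (.leaf 17485)) (.leaf 14449)) (.node (.node (.leaf 6762) (.leaf 21743)) (.leaf 13205))) (.node (.node (.node (.leaf 2981) (.leaf 19585)) (.leaf 14689)) (.node (.leaf 15099) (.leaf 15896)))) (.node (.node (.node (.node (.leaf 5637) (.leaf 18389)) (.leaf 12806)) (.node (.leaf 6295) (.leaf 10998))) (.node (.node (.node (.leaf 6082) (.leaf 20873)) (.leaf 14542)) (.node (.leaf 15271) (.leaf 16805)))))) (.node (.node (.node (.node (.node (.node (.leaf 150) (.leaf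 17378)) (.leaf 6795)) (.node (.node (.leaf 5841) (.leaf 21657)) (.leaf 15811))) (.node (.node (.node (.leaf 2777) (.leaf 19505)) (.leaf 7420)) (.node (.leaf 15885) (.leaf 16662)))) (.node (.node (.node (.node (.leaf 5495) (.leaf 21168)) (.leaf 13328)) (.node (.leaf 12550) (.leaf 11509))) (.node (.node (.node (.leaf 6329) (.leaf 20586)) (.leaf 17001)) (.node (.leaf 16115) (.leaf 16640))))) (.node (.node (.node (.node (.node (.leaf 5214) (.leaf 17587)) (.leaf 13542)) (.node (.leaf 6156) (.leaf 19791))) (.node (.node (.node (.leaf 3951) (.leaf 19921)) (.leaf 13408)) (.node (.leaf 6542) (.leaf 16157)))) (.node (.node (.node (.node (.leaf 5489) (.leaf 19591)) (.leaf 12092)) (.node (.leaf 14335) (.leaf 12911))) (.node (.node (.node (.leaf 5618) (.leaf 21199)) (.leaf 15047)) (.node (.leaf 15696) (.leaf 17030))))))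
def dFin_184 : BT := .node (.node (.node (.node (.node (.node (.node (.leaf 48) (.leaf 18596)) (.leaf 12562)) (.node (.node (.leaf 5810) (.leaf 21474)) (.leaf 18853))) (.node (.node (.node (.leaf 2289) (.leaf 19449)) (.leaf 17377)) (.node (.leaf 7194) (.leaf 15518)))) (.node (.node (.node (.node (.leaf 5698) (.leaf 18085)) (.leaf 11363)) (.node (.leaf 10403) (.leaf 13136))) (.node (.node (.node (.leaf 4659) (.leaf 20464)) (.leaf 7638)) (.node (.leaf 13458) (.leaf 16463))))) (.node (.node (.node (.node (.node (.leaf 3116) (.leaf 17502)) (.leaf 17105)) (.node (.leaf 12583) (.leaf 13230))) (.node (.node (.node (.leaf 3126) (.leaf 19882)) (.leaf 14465)) (.node (.leaf 15108) (.leaf 16070)))) (.node (.node (.node (.node (.leaf 1880) (.leaf 18603)) (.leaf 13178)) (.node (.leaf 6364) (.leaf 10988))) (.node (.node (.node (.leaf 21202) (.leaf 21058)) (.leaf 8551)) (.node (.leaf 12464) (.leaf 16947)))))) (.node (.node (.node (.node (.node (.node (.leaf 5356) (.leaf 17474)) (.leaf 19509)) (.node (.node (.leaf 5994) (.leaf 21650))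 (.leaf 15375))) (.node (.node (.node (.leaf 5777) (.leaf 19687)) (.leaf 14374)) (.node (.leaf 21285) (.leaf 16482)))) (.node (.node (.node (.node (.leaf 1824) (.leaf 18220)) (.leaf 12534)) (.node (.leaf 12976) (.leaf 10744))) (.node (.node (.node (.leaf 4741) (.leaf 20758)) (.leaf 14485)) (.node (.leaf 6628) (.leaf 17004))))) (.node (.node (.node (.node (.node (.leaf 778) (.leaf 18590)) (.leaf 15128)) (.node (.leaf 6211) (.leaf 15849))) (.node (.node (.node (.leaf 19051) (.leaf 20013)) (.leaf 7670)) (.node (.leaf 14292) (.leaf 16263)))) (.node (.node (.node (.node (.leaf 5697) (.leaf 18961)) (.leaf 9934)) (.node (.leaf 11782) (.leaf 15106))) (.node (.node (.node (.leaf 6173) (.leaf 21335)) (.leaf 14666)) (.node (.leaf 6683) (.leaf 16927))))))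
def dFin_185 : BT := .node dFin_183 dFin_184
def dFin_186 : BT := .node dFin_182 dFin_185
def dFin_187 : BT := .node dFin_179 dFin_186
def dFin_188 : BT := .node dFin_172 dFin_187
def dFin_189 : BT := .node dFin_157 dFin_188
def dFin_190 : BT := .node (.node (.node (.node (.node (.node (.node (.leaf 3) (.leaf 17762)) (.leaf 15153)) (.node (.node (.leaf 5607) (.leaf 21325)) (.leaf 13183))) (.node (.node (.node (.leaf 2967) (.leaf 20574)) (.leaf 7150)) (.node (.leaf 13309) (.leaf 16270)))) (.node (.node (.node (.node (.leaf 5358) (.leaf 17746)) (.leaf 14864)) (.node (.leaf 6223) (.leaf 15335))) (.node (.node (.node (.leaf 3948) (.leaf 19969)) (.leaf 15486)) (.node (.leaf 13586) (.leaf 16261))))) (.node (.node (.node (.node (.node (.leaf 109) (.leaf 17450)) (.leaf 14219)) (.node (.node (.leaf 6050) (.leaf 21740)) (.leaf 13041))) (.node (.node (.node (.leaf 2348) (.leaf 19680)) (.leaf 9959)) (.node (.leaf 15415) (.leaf 15776)))) (.node (.node (.node (.node (.leaf 3098) (.leaf 21132)) (.leaf 15310)) (.node (.leaf 12984) (.leaf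 10737))) (.node (.node (.node (.leaf 17125) (.leaf 20701)) (.leaf 17551)) (.node (.leaf 13385) (.leaf 16742)))))) (.node (.node (.node (.node (.node (.node (.leaf 589) (.leaf 17187)) (.leaf 12568)) (.node (.node (.leaf 5792) (.leaf 21478)) (.leaf 8321))) (.node (.node (.node (.leaf 6547) (.leaf 19459)) (.leaf 14610)) (.node (.leaf 6441) (.leaf 15645)))) (.node (.node (.node (.node (.leaf 1744) (.leaf 18065)) (.leaf 12452)) (.node (.leaf 9252) (.leaf 13359))) (.node (.node (.node (.leaf 4798) (.leaf 20515)) (.leaf 7646)) (.node (.leaf 14792) (.leaf 16471))))) (.node (.node (.node (.node (.node (.leaf 593) (.leaf 17553)) (.leaf 7400)) (.node (.leaf 10876) (.leaf 9745))) (.node (.node (.node (.leaf 3109) (.leaf 19875)) (.leaf 7488)) (.node (.leaf 15578) (.leaf 16033)))) (.node (.node (.node (.node (.leaf 5789) (.leaf 19662)) (.leaf 15204)) (.node (.leaf 9316) (.leaf 11019))) (.node (.node (.node (.leaf 5185) (.leaf 21110)) (.leaf 14477)) (.node (.leaf 12472) (.leaf 16957))))))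
def dFin_191 : BT := .node (.node (.node (.node (.node (.node (.node (.leaf 1004) (.leaf 17053)) (.leaf 13293)) (.node (.node (.leaf 5736) (.leaf 21409)) (.leaf 14721))) (.node (.node (.node (.leaf 12642) (.leaf 19378)) (.leaf 7261)) (.node (.leaf 12251) (.leaf 16486)))) (.node (.node (.node (.node (.leaf 1886) (.leaf 20931)) (.leaf 6895)) (.node (.leaf 12252) (.leaf 10177))) (.node (.node (.node (.leaf 10964) (.leaf 20470)) (.leaf 12774)) (.node (.leaf 13969) (.leaf 16386))))) (.node (.node (.node (.node (.node (.leaf 5236) (.leaf 18913)) (.leaf 19858)) (.node (.node (.leaf 5992) (.leaf 21747)) (.leaf 13200))) (.node (.node (.node (.leaf 5648) (.leaf 19566)) (.leaf 7404)) (.node (.leaf 21230) (.leaf 15871)))) (.node (.node (.node (.node (.leaf 1854) (.leaf 18399)) (.leaf 9052)) (.node (.leaf 12652) (.leaf 10940))) (.node (.node (.node (.leaf 4794) (.leaf 20880)) (.leaf 14567)) (.node (.leaf 6645) (.leaf 19846)))))) (.node (.node (.node (.node (.node (.node (.leaf 5444) (.leaf 17388)) (.leaf 7898)) (.node (.node (.leaf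 15466) (.leaf 21564)) (.leaf 14636))) (.node (.node (.node (.leaf 5668) (.leaf 19771)) (.leaf 7443)) (.node (.leaf 6470) (.leaf 15738)))) (.node (.node (.node (.node (.leaf 1795) (.leaf 18240)) (.leaf 13039)) (.node (.leaf 16664) (.leaf 12941))) (.node (.node (.node (.leaf 4705) (.leaf 20662)) (.leaf 9503)) (.node (.leaf 6617) (.leaf 16661))))) (.node (.node (.node (.node (.node (.leaf 6413) (.leaf 17631)) (.leaf 21293)) (.node (.leaf 6152) (.leaf 9811))) (.node (.node (.node (.leaf 5541) (.leaf 20132)) (.leaf 7495)) (.node (.leaf 7407) (.leaf 16169)))) (.node (.node (.node (.node (.leaf 1904) (.leaf 18882)) (.leaf 11245)) (.node (.leaf 13077) (.leaf 16899))) (.node (.node (.node (.leaf 13838) (.leaf 21224)) (.leaf 14252)) (.node (.leaf 12522) (.leaf 19814))))))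
def dFin_192 : BT := .node dFin_190 dFin_191
def dFin_193 : BT := .node (.node (.node (.node (.node (.node (.node (.leaf 22) (.leaf 17102)) (.leaf 12209)) (.node (.node (.leaf 5681) (.leaf 21458)) (.leaf 13099))) (.node (.node (.node (.leaf 2350) (.leaf 19095)) (.leaf 7242)) (.node (.leaf 11884) (.leaf 13162)))) (.node (.node (.node (.node (.leaf 2815) (.leaf 17960)) (.leaf 15337)) (.node (.leaf 6336) (.leaf 14427))) (.node (.node (.node (.leaf 18986) (.leaf 21006)) (.leaf 11609)) (.node (.leaf 13925) (.leaf 16345))))) (.node (.node (.node (.node (.node (.leaf 5843) (.leaf 17411)) (.leaf 14428)) (.node (.node (.leaf 5962) (.leaf 21709)) (.leaf 14277))) (.node (.node (.node (.leaf 12788) (.leaf 20921)) (.leaf 7838)) (.node (.leaf 8606) (.leaf 20463)))) (.node (.node (.node (.node (.leaf 5338) (.leaf 19755)) (.leaf 11733)) (.node (.leaf 15178) (.leaf 12045))) (.node (.node (.node (.leaf 5611) (.leaf 20934)) (.leaf 14272)) (.node (.leaf 12053) (.leaf 19824)))))) (.node (.node (.node (.node (.node (.node (.leaf 3433) (.leaf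 17338)) (.leaf 6842)) (.node (.node (.leaf 7246) (.leaf 21590)) (.leaf 8397))) (.node (.node (.node (.leaf 2286) (.leaf 19475)) (.leaf 15392)) (.node (.leaf 6464) (.leaf 15585)))) (.node (.node (.node (.node (.leaf 1775) (.leaf 18164)) (.leaf 15663)) (.node (.leaf 12759) (.leaf 10590))) (.node (.node (.node (.leaf 5628) (.leaf 20521)) (.leaf 11880)) (.node (.leaf 17761) (.leaf 16600))))) (.node (.node (.node (.node (.node (.leaf 2502) (.leaf 17562)) (.leaf 6876)) (.node (.leaf 6123) (.leaf 15113))) (.node (.node (.node (.leaf 3440) (.leaf 20148)) (.leaf 21399)) (.node (.leaf 14676) (.leaf 16110)))) (.node (.node (.node (.node (.leaf 13860) (.leaf 18926)) (.leaf 17616)) (.node (.leaf 15265) (.leaf 11092))) (.node (.node (.node (.leaf 4886) (.leaf 21135)) (.leaf 16559)) (.node (.leaf 11602) (.leaf 18265))))))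
def dFin_194 : BT := .node (.node (.node (.node (.node (.node (.node (.leaf 45) (.leaf 20021)) (.leaf 13343)) (.node (.node (.leaf 5773) (.leaf 21452)) (.leaf 17683))) (.node (.node (.node (.leaf 16226) (.leaf 19208)) (.leaf 21378)) (.node (.leaf 12223) (.leaf 15503)))) (.node (.node (.node (.node (.leaf 1735) (.leaf 17890)) (.leaf 13578)) (.node (.leaf 6246) (.leaf 10155))) (.node (.node (.node (.leaf 4510) (.leaf 20354)) (.leaf 12991)) (.node (.leaf 14625) (.leaf 16419))))) (.node (.node (.node (.node (.node (.leaf 440) (.leaf 17539)) (.leaf 14508)) (.node (.leaf 6030) (.leaf 9631))) (.node (.node (.node (.leaf 5667) (.leaf 19818)) (.leaf 14212)) (.node (.leaf 18158) (.leaf 15997)))) (.node (.node (.node (.node (.leaf 15394) (.leaf 19898)) (.leaf 7098)) (.node (.leaf 11691) (.leaf 10957))) (.node (.node (.node (.leaf 4787) (.leaf 21015)) (.leaf 15236)) (.node (.leaf 6658) (.leaf 16922)))))) (.node (.node (.node (.node (.node (.node (.leaf 124) (.leaf 17260)) (.leaf 13783)) (.node (.node (.leaf 12696) (.leaf 21609))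 (.leaf 14919))) (.node (.node (.node (.leaf 2326) (.leaf 19757)) (.leaf 7330)) (.node (.leaf 14003) (.leaf 16616)))) (.node (.node (.node (.node (.leaf 2136) (.leaf 18583)) (.leaf 8076)) (.node (.leaf 6275) (.leaf 13317))) (.node (.node (.node (.leaf 10538) (.leaf 20788)) (.leaf 12704)) (.node (.leaf 8043) (.leaf 16708))))) (.node (.node (.node (.node (.node (.leaf 782) (.leaf 17720)) (.leaf 15155)) (.node (.leaf 6189) (.leaf 14724))) (.node (.node (.node (.leaf 3941) (.leaf 20090)) (.leaf 7537)) (.node (.leaf 6575) (.leaf 16206)))) (.node (.node (.node (.node (.leaf 2120) (.leaf 18771)) (.leaf 16061)) (.node (.leaf 6381) (.leaf 17585))) (.node (.node (.node (.leaf 5082) (.leaf 21328)) (.leaf 17180)) (.node (.leaf 13044) (.leaf 18054))))))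
def dFin_195 : BT := .node dFin_193 dFin_194
def dFin_196 : BT := .node dFin_192 dFin_195
def dFin_197 : BT := .node (.node (.node (.node (.node (.node (.node (.leaf 582) (.leaf 17072)) (.leaf 11862)) (.node (.node (.leaf 6064) (.leaf 21341)) (.leaf 8133))) (.node (.node (.node (.leaf 6434) (.leaf 19084)) (.leaf 15146)) (.node (.leaf 15097) (.leaf 11269)))) (.node (.node (.node (.node (.leaf 3074) (.leaf 20532)) (.leaf 6929)) (.node (.leaf 6332) (.leaf 15229))) (.node (.node (.node (.leaf 5574) (.leaf 20284)) (.leaf 18509)) (.node (.leaf 13875) (.leaf 16283))))) (.node (.node (.node (.node (.node (.leaf 5282) (.leaf 17464)) (.leaf 14456)) (.node (.node (.leaf 11413) (.leaf 21678)) (.leaf 12917))) (.node (.node (.node (.leaf 2358) (.leaf 19639)) (.leaf 14584)) (.node (.leaf 14195) (.leaf 16152)))) (.node (.node (.node (.node (.leaf 5642) (.leaf 18784)) (.leaf 12588)) (.node (.leaf 9004) (.leaf 13115))) (.node (.node (.node (.leaf 4832) (.leaf 20807)) (.leaf 15668)) (.node (.leaf 15198) (.leaf 19748)))))) (.node (.node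 (.node (.node (.node (.node (.leaf 174) (.leaf 17330)) (.leaf 12447)) (.node (.node (.leaf 5799) (.leaf 21504)) (.leaf 12703))) (.node (.node (.node (.leaf 5500) (.leaf 21552)) (.leaf 7295)) (.node (.leaf 6429) (.leaf 15654)))) (.node (.node (.node (.node (.leaf 1758) (.leaf 18106)) (.leaf 12682)) (.node (.leaf 12434) (.leaf 11535))) (.node (.node (.node (.leaf 4698) (.leaf 20555)) (.leaf 16751)) (.node (.leaf 6933) (.leaf 16499))))) (.node (.node (.node (.node (.node (.leaf 597) (.leaf 19966)) (.leaf 14697)) (.node (.leaf 6103) (.leaf 18121))) (.node (.node (.node (.leaf 3130) (.leaf 20169)) (.leaf 8049)) (.node (.leaf 14675) (.leaf 16135)))) (.node (.node (.node (.node (.leaf 1889) (.leaf 18635)) (.leaf 12907)) (.node (.leaf 18779) (.leaf 11042))) (.node (.node (.node (.leaf 12820) (.leaf 21120)) (.leaf 14952)) (.node (.leaf 15273) (.leaf 16978))))))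
def dFin_198 : BT := .node (.node (.node (.node (.node (.node (.node (.leaf 956) (.leaf 18274)) (.leaf 7093)) (.node (.node (.leaf 5757) (.leaf 21421)) (.leaf 21440))) (.node (.node (.node (.leaf 2149) (.leaf 19315)) (.leaf 15659)) (.node (.leaf 13014) (.leaf 20187)))) (.node (.node (.node (.node (.leaf 1710) (.leaf 17904)) (.leaf 6899)) (.node (.leaf 12225) (.leaf 16593))) (.node (.node (.node (.leaf 4495) (.leaf 20328)) (.leaf 9031)) (.node (.leaf 15416) (.leaf 16401))))) (.node (.node (.node (.node (.node (.leaf 364) (.leaf 17436)) (.leaf 20159)) (.node (.node (.leaf 6017) (.leaf 21770)) (.leaf 18477))) (.node (.node (.node (.leaf 5341) (.leaf 19838)) (.leaf 14237)) (.node (.leaf 14494) (.leaf 16254)))) (.node (.node (.node (.node (.leaf 1861) (.leaf 18455)) (.leaf 7070)) (.node (.leaf 12669) (.leaf 11008))) (.node (.node (.node (.leaf 14647) (.leaf 20972)) (.leaf 14843)) (.node (.leaf 13149) (.leaf 16902)))))) (.node (.node (.node (.node (.node (.node (.leaf 5213) (.leaf 19110)) (.leaf 15138)) (.node (.node (.leaf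 5886) (.leaf 21588)) (.leaf 14471))) (.node (.node (.node (.leaf 11086) (.leaf 19758)) (.leaf 15059)) (.node (.leaf 13414) (.leaf 16639)))) (.node (.node (.node (.node (.leaf 1797) (.leaf 18270)) (.leaf 6987)) (.node (.leaf 12553) (.leaf 12918))) (.node (.node (.node (.leaf 4816) (.leaf 20656)) (.leaf 12860)) (.node (.leaf 6621) (.leaf 16688))))) (.node (.node (.node (.node (.node (.leaf 792) (.leaf 17718)) (.leaf 15372)) (.node (.leaf 6161) (.leaf 9957))) (.node (.node (.node (.leaf 16146) (.leaf 20113)) (.leaf 7524)) (.node (.leaf 13280) (.leaf 16195)))) (.node (.node (.node (.node (.leaf 1916) (.leaf 18867)) (.leaf 11373)) (.node (.leaf 6780) (.leaf 20177))) (.node (.node (.node (.leaf 5128) (.leaf 21280)) (.leaf 19429)) (.node (.leaf 11526) (.leaf 19021))))))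
def dFin_199 : BT := .node dFin_197 dFin_198
def dFin_200 : BT := .node (.node (.node (.node (.node (.node (.node (.leaf 768) (.leaf 17384)) (.leaf 9274)) (.node (.node (.leaf 5712) (.leaf 21406)) (.leaf 11455))) (.node (.node (.node (.leaf 2129) (.leaf 19104)) (.leaf 14806)) (.node (.leaf 12409) (.leaf 15189)))) (.node (.node (.node (.node (.leaf 1762) (.leaf 17828)) (.leaf 21410)) (.node (.leaf 11586) (.leaf 14961))) (.node (.node (.node (.leaf 5578) (.leaf 20252)) (.leaf 12620)) (.node (.leaf 13941) (.leaf 16353))))) (.node (.node (.node (.node (.node (.leaf 600) (.leaf 21021)) (.leaf 14416)) (.node (.node (.leaf 5986) (.leaf 21722)) (.leaf 15439))) (.node (.node (.node (.leaf 2587) (.leaf 19589)) (.leaf 14732)) (.node (.leaf 6495) (.leaf 15841)))) (.node (.node (.node (.node (.leaf 6070) (.leaf 18577)) (.leaf 12796)) (.node (.leaf 11104) (.leaf 10930))) (.node (.node (.node (.leaf 5251) (.leaf 20904)) (.leaf 14532)) (.node (.leaf 6641) (.leaf 16808)))))) (.node (.node (.node (.node (.node (.node (.leaf 3855) (.leaf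 17363)) (.leaf 14207)) (.node (.node (.leaf 5844) (.leaf 21551)) (.leaf 16509))) (.node (.node (.node (.leaf 10236) (.leaf 19499)) (.leaf 7410)) (.node (.leaf 6561) (.leaf 15736)))) (.node (.node (.node (.node (.leaf 1784) (.leaf 18153)) (.leaf 13064)) (.node (.leaf 21316) (.leaf 10620))) (.node (.node (.node (.leaf 5614) (.leaf 20582)) (.leaf 13090)) (.node (.leaf 21396) (.leaf 16562))))) (.node (.node (.node (.node (.node (.leaf 528) (.leaf 17596)) (.leaf 13506)) (.node (.leaf 6135) (.leaf 9807))) (.node (.node (.node (.leaf 5532) (.leaf 20940)) (.leaf 15234)) (.node (.leaf 15653) (.leaf 16150)))) (.node (.node (.node (.node (.leaf 2089) (.leaf 18832)) (.leaf 12080)) (.node (.leaf 10480) (.leaf 11103))) (.node (.node (.node (.leaf 4814) (.leaf 21175)) (.leaf 15172)) (.node (.leaf 12753) (.leaf 17018))))))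
def dFin_201 : BT := .node (.node (.node (.node (.node (.node (.node (.leaf 192) (.leaf 17882)) (.leaf 16782)) (.node (.node (.leaf 5783) (.leaf 21468)) (.leaf 13121))) (.node (.node (.node (.leaf 5470) (.leaf 20804)) (.leaf 7211)) (.node (.leaf 6424) (.leaf 17192)))) (.node (.node (.node (.node (.leaf 1840) (.leaf 18061)) (.leaf 11469)) (.node (.leaf 10390) (.leaf 13319))) (.node (.node (.node (.leaf 4580) (.leaf 20456)) (.leaf 10778)) (.node (.leaf 6606) (.leaf 16447))))) (.node (.node (.node (.node (.node (.leaf 456) (.leaf 18161)) (.leaf 16090)) (.node (.leaf 6043) (.leaf 13033))) (.node (.node (.node (.leaf 5900) (.leaf 19867)) (.leaf 8612)) (.node (.leaf 15437) (.leaf 16058)))) (.node (.node (.node (.node (.leaf 5542) (.leaf 18593)) (.leaf 15216)) (.node (.leaf 12573) (.leaf 19030))) (.node (.node (.node (.leaf 15498) (.leaf 21049)) (.leaf 14972)) (.node (.leaf 11390) (.leaf 17024)))))) (.node (.node (.node (.node (.node (.node (.leaf 5146) (.leaf 19427)) (.leaf 6806)) (.node (.node (.leaf 5916) (.leaf 21617)) (.leaf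 16141))) (.node (.node (.node (.leaf 16500) (.leaf 19694)) (.leaf 14341)) (.node (.leaf 16416) (.leaf 16757)))) (.node (.node (.node (.node (.leaf 14632) (.leaf 18222)) (.leaf 7025)) (.node (.leaf 17673) (.leaf 10795))) (.node (.node (.node (.leaf 5961) (.leaf 20760)) (.leaf 14742)) (.node (.leaf 14259) (.leaf 16714))))) (.node (.node (.node (.node (.node (.leaf 765) (.leaf 17738)) (.leaf 6882)) (.node (.leaf 6195) (.leaf 14708))) (.node (.node (.node (.leaf 4060) (.leaf 20080)) (.leaf 7553)) (.node (.leaf 14187) (.leaf 16235)))) (.node (.node (.node (.node (.leaf 2112) (.leaf 19472)) (.leaf 13654)) (.node (.leaf 7769) (.leaf 13261))) (.node (.node (.node (.leaf 4889) (.leaf 21315)) (.leaf 15492)) (.node (.leaf 14165) (.leaf 18294))))))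
def dFin_202 : BT := .node dFin_200 dFin_201
def dFin_203 : BT := .node dFin_199 dFin_202
def dFin_204 : BT := .node dFin_196 dFin_203
def dFin_205 : BT := .node (.node (.node (.node (.node (.node (.node (.leaf 11) (.leaf 18132)) (.leaf 12900)) (.node (.node (.leaf 5677) (.leaf 21345)) (.leaf 13299))) (.node (.node (.node (.leaf 5715) (.leaf 19071)) (.leaf 14247)) (.node (.leaf 9523) (.leaf 15101)))) (.node (.node (.node (.node (.leaf 790) (.leaf 18112)) (.leaf 13467)) (.node (.leaf 6231) (.leaf 15386))) (.node (.node (.node (.leaf 6124) (.leaf 19996)) (.leaf 12463)) (.node (.leaf 13793) (.leaf 16280))))) (.node (.node (.node (.node (.node (.leaf 5325) (.leaf 19451)) (.leaf 19697)) (.node (.node (.leaf 6014) (.leaf 21667)) (.leaf 8990))) (.node (.node (.node (.leaf 6553) (.leaf 19657)) (.leaf 14655)) (.node (.leaf 14100) (.leaf 15799)))) (.node (.node (.node (.node (.leaf 1830) (.leaf 18205)) (.leaf 12819)) (.node (.leaf 6279) (.leaf 11888))) (.node (.node (.node (.leaf 4745) (.leaf 20719)) (.leaf 7780)) (.node (.leaf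 18433) (.leaf 16761)))))) (.node (.node (.node (.node (.node (.node (.leaf 578) (.leaf 17206)) (.leaf 9443)) (.node (.node (.leaf 16492) (.leaf 21488)) (.leaf 14753))) (.node (.node (.node (.leaf 5545) (.leaf 19421)) (.leaf 17479)) (.node (.leaf 15401) (.leaf 15639)))) (.node (.node (.node (.node (.leaf 5744) (.leaf 19311)) (.leaf 12485)) (.node (.leaf 10459) (.leaf 13126))) (.node (.node (.node (.leaf 4661) (.leaf 20426)) (.leaf 12738)) (.node (.leaf 13679) (.leaf 16485))))) (.node (.node (.node (.node (.node (.leaf 3059) (.leaf 18102)) (.leaf 14700)) (.node (.leaf 6089) (.leaf 13190))) (.node (.node (.node (.leaf 5674) (.leaf 19901)) (.leaf 14883)) (.node (.leaf 17085) (.leaf 16138)))) (.node (.node (.node (.node (.leaf 1884) (.leaf 18610)) (.leaf 7046)) (.node (.leaf 12154) (.leaf 11006))) (.node (.node (.node (.leaf 13063) (.leaf 21080)) (.leaf 8918)) (.node (.leaf 12510) (.leaf 16966))))))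
def dFin_206 : BT := .node (.node (.node (.node (.node (.node (.node (.leaf 42) (.leaf 17132)) (.leaf 13227)) (.node (.node (.leaf 5818) (.leaf 21403)) (.leaf 9046))) (.node (.node (.node (.leaf 5908) (.leaf 19299)) (.leaf 16007)) (.node (.leaf 11409) (.leaf 15470)))) (.node (.node (.node (.node (.leaf 1396) (.leaf 19870)) (.leaf 15878)) (.node (.leaf 12218) (.leaf 19096))) (.node (.node (.node (.leaf 4502) (.leaf 20325)) (.leaf 15744)) (.node (.leaf 6593) (.leaf 20467))))) (.node (.node (.node (.node (.node (.leaf 6020) (.leaf 17482)) (.leaf 7874)) (.node (.node (.leaf 13824) (.leaf 21760)) (.leaf 12236))) (.node (.node (.node (.leaf 2963) (.leaf 21031)) (.leaf 7389)) (.node (.leaf 14480) (.leaf 15899)))) (.node (.node (.node (.node (.leaf 13779) (.leaf 18440)) (.leaf 15268)) (.node (.leaf 11529) (.leaf 10946))) (.node (.node (.node (.leaf 5621) (.leaf 21010)) (.leaf 14651)) (.node (.leaf 15275) (.leaf 18513)))))) (.node (.node (.node (.node (.node (.node (.leaf 122) (.leaf 17380)) (.leaf 14613)) (.node (.node (.leaf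 5872) (.leaf 21574)) (.leaf 14251))) (.node (.node (.node (.leaf 2307) (.leaf 21498)) (.leaf 14144)) (.node (.leaf 6569) (.leaf 15682)))) (.node (.node (.node (.node (.leaf 2146) (.leaf 21186)) (.leaf 13306)) (.node (.leaf 6272) (.leaf 12335))) (.node (.node (.node (.leaf 5057) (.leaf 20699)) (.leaf 18831)) (.node (.leaf 16123) (.leaf 16675))))) (.node (.node (.node (.node (.node (.leaf 745) (.leaf 17613)) (.leaf 14053)) (.node (.leaf 6174) (.leaf 16472))) (.node (.node (.node (.leaf 3957) (.leaf 20100)) (.leaf 7510)) (.node (.leaf 6530) (.leaf 16177)))) (.node (.node (.node (.node (.leaf 6066) (.leaf 19044)) (.leaf 12076)) (.node (.leaf 20653) (.leaf 12046))) (.node (.node (.node (.leaf 15774) (.leaf 21245)) (.leaf 12338)) (.node (.leaf 15347) (.leaf 16854))))))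
def dFin_207 : BT := .node dFin_205 dFin_206
def dFin_208 : BT := .node (.node (.node (.node (.node (.node (.node (.leaf 36) (.leaf 17120)) (.leaf 21467)) (.node (.node (.leaf 5710) (.leaf 21377)) (.leaf 8122))) (.node (.node (.node (.leaf 5599) (.leaf 20891)) (.leaf 16239)) (.node (.leaf 9461) (.leaf 11867)))) (.node (.node (.node (.node (.leaf 1006) (.leaf 17964)) (.leaf 8057)) (.node (.leaf 16162) (.leaf 10189))) (.node (.node (.node (.leaf 4037) (.leaf 20277)) (.leaf 12617)) (.node (.leaf 13932) (.leaf 16372))))) (.node (.node (.node (.node (.node (.leaf 5269) (.leaf 19055)) (.leaf 14432)) (.node (.node (.leaf 5953) (.leaf 21710)) (.leaf 9494))) (.node (.node (.node (.leaf 7075) (.leaf 19709)) (.leaf 14683)) (.node (.leaf 15083) (.leaf 15823)))) (.node (.node (.node (.node (.leaf 17615) (.leaf 20320)) (.leaf 12999)) (.node (.leaf 6312) (.leaf 20120))) (.node (.node (.node (.leaf 4765) (.leaf 20902)) (.leaf 18875)) (.node (.leaf 6642) (.leaf 16776)))))) (.node (.node (.node (.node (.node (.node (.leaf 160) (.leaf 17209))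 (.leaf 14740)) (.node (.node (.leaf 13958) (.leaf 21525)) (.leaf 15406))) (.node (.node (.node (.leaf 2328) (.leaf 19486)) (.leaf 7273)) (.node (.leaf 6551) (.leaf 15678)))) (.node (.node (.node (.node (.leaf 1769) (.leaf 18130)) (.leaf 13056)) (.node (.leaf 6266) (.leaf 10583))) (.node (.node (.node (.leaf 5353) (.leaf 20569)) (.leaf 11429)) (.node (.leaf 8907) (.leaf 16602))))) (.node (.node (.node (.node (.node (.leaf 455) (.leaf 17573)) (.leaf 13513)) (.node (.leaf 6115) (.leaf 9808))) (.node (.node (.node (.leaf 3431) (.leaf 20161)) (.leaf 19076)) (.node (.leaf 15717) (.leaf 16097)))) (.node (.node (.node (.node (.leaf 2170) (.leaf 18821)) (.leaf 16265)) (.node (.leaf 12892) (.leaf 16073))) (.node (.node (.node (.leaf 5663) (.leaf 21154)) (.leaf 14948)) (.node (.leaf 11627) (.leaf 17010))))))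
def dFin_209 : BT := .node (.node (.node (.node (.node (.node (.node (.leaf 2295) (.leaf 17165)) (.leaf 9856)) (.node (.node (.leaf 12610) (.leaf 21620)) (.leaf 9866))) (.node (.node (.node (.leaf 2157) (.leaf 19218)) (.leaf 7212)) (.node (.leaf 6414) (.leaf 15512)))) (.node (.node (.node (.node (.leaf 5964) (.leaf 17860)) (.leaf 13807)) (.node (.leaf 10348) (.leaf 10258))) (.node (.node (.node (.leaf 5186) (.leaf 20374)) (.leaf 12842)) (.node (.leaf 21582) (.leaf 16441))))) (.node (.node (.node (.node (.node (.leaf 6199) (.leaf 21128)) (.leaf 7869)) (.node (.leaf 13882) (.leaf 12017))) (.node (.node (.node (.leaf 4586) (.leaf 19865)) (.leaf 19701)) (.node (.leaf 6506) (.leaf 16005)))) (.node (.node (.node (.node (.leaf 16678) (.leaf 18510)) (.leaf 13008)) (.node (.leaf 16133) (.leaf 11010))) (.node (.node (.node (.leaf 4788) (.leaf 21025)) (.leaf 8394)) (.node (.leaf 12425) (.leaf 18211)))))) (.node (.node (.node (.node (.node (.node (.leaf 4849) (.leaf 17296)) (.leaf 13745)) (.node (.node (.leaf 5915) (.leaf 21623))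 (.leaf 16034))) (.node (.node (.node (.leaf 10787) (.leaf 19717)) (.leaf 14380)) (.node (.leaf 13681) (.leaf 21346)))) (.node (.node (.node (.node (.leaf 2081) (.leaf 18983)) (.leaf 6993)) (.node (.leaf 21473) (.leaf 13135))) (.node (.node (.node (.leaf 4735) (.leaf 20792)) (.leaf 12478)) (.node (.leaf 15231) (.leaf 16730))))) (.node (.node (.node (.node (.node (.leaf 984) (.leaf 17735)) (.leaf 17329)) (.node (.leaf 7028) (.leaf 14565))) (.node (.node (.node (.leaf 10969) (.leaf 20073)) (.leaf 7549)) (.node (.leaf 14489) (.leaf 16702)))) (.node (.node (.node (.node (.leaf 2132) (.leaf 19433)) (.leaf 8487)) (.node (.leaf 12962) (.leaf 13165))) (.node (.node (.node (.leaf 4847) (.leaf 21714)) (.leaf 12451)) (.node (.leaf 13078) (.leaf 18080))))))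
def dFin_210 : BT := .node dFin_208 dFin_209
def dFin_211 : BT := .node dFin_207 dFin_210
def dFin_212 : BT := .node (.node (.node (.node (.node (.node (.node (.leaf 13) (.leaf 21103)) (.leaf 8996)) (.node (.node (.leaf 5688) (.leaf 21368)) (.leaf 15209))) (.node (.node (.node (.leaf 2118) (.leaf 20227)) (.leaf 15151)) (.node (.leaf 12812) (.leaf 13139)))) (.node (.node (.node (.node (.leaf 6185) (.leaf 17782)) (.leaf 15575)) (.node (.leaf 6324) (.leaf 14245))) (.node (.node (.node (.leaf 4034) (.leaf 20294)) (.leaf 9220)) (.node (.leaf 6583) (.leaf 16351))))) (.node (.node (.node (.node (.node (.leaf 251) (.leaf 18552)) (.leaf 20823)) (.node (.node (.leaf 5947) (.leaf 21691)) (.leaf 13247))) (.node (.node (.node (.leaf 2367) (.leaf 19617)) (.leaf 14653)) (.node (.leaf 15069) (.leaf 16094)))) (.node (.node (.node (.node (.leaf 1835) (.leaf 18381)) (.leaf 16192)) (.node (.leaf 12747) (.leaf 13344))) (.node (.node (.node (.leaf 18376) (.leaf 20919)) (.leaf 13639)) (.node (.leaf 14242) (.leaf 16769)))))) (.node (.node (.node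 (.node (.node (.node (.leaf 3038) (.leaf 17340)) (.leaf 12282)) (.node (.node (.leaf 5828) (.leaf 21518)) (.leaf 12718))) (.node (.node (.node (.leaf 7416) (.leaf 20562)) (.leaf 7287)) (.node (.leaf 6457) (.leaf 15577)))) (.node (.node (.node (.node (.leaf 1870) (.leaf 18115)) (.leaf 12118)) (.node (.leaf 6262) (.leaf 10708))) (.node (.node (.node (.leaf 5193) (.leaf 20473)) (.leaf 12392)) (.node (.leaf 16042) (.leaf 16510))))) (.node (.node (.node (.node (.node (.leaf 438) (.leaf 18074)) (.leaf 6838)) (.node (.leaf 6107) (.leaf 11907))) (.node (.node (.node (.leaf 5455) (.leaf 20182)) (.leaf 7491)) (.node (.leaf 14916) (.leaf 16079)))) (.node (.node (.node (.node (.leaf 13930) (.leaf 18921)) (.leaf 8323)) (.node (.leaf 9276) (.leaf 11051))) (.node (.node (.node (.leaf 5161) (.leaf 21131)) (.leaf 20092)) (.node (.leaf 12757) (.leaf 16991))))))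
def dFin_213 : BT := .node (.node (.node (.node (.node (.node (.node (.leaf 198) (.leaf 17156)) (.leaf 12655)) (.node (.node (.leaf 5751) (.leaf 21733)) (.leaf 12966))) (.node (.node (.node (.leaf 2150) (.leaf 19316)) (.leaf 8905)) (.node (.leaf 12178) (.leaf 15485)))) (.node (.node (.node (.node (.leaf 1850) (.leaf 21105)) (.leaf 15256)) (.node (.leaf 13000) (.leaf 13485))) (.node (.node (.node (.leaf 5880) (.leaf 20346)) (.leaf 13223)) (.node (.leaf 16057) (.leaf 18614))))) (.node (.node (.node (.node (.node (.leaf 5760) (.leaf 17426)) (.leaf 14500)) (.node (.leaf 6035) (.leaf 15434))) (.node (.node (.node (.leaf 6408) (.leaf 19805)) (.leaf 14539)) (.node (.leaf 7851) (.leaf 15984)))) (.node (.node (.node (.node (.leaf 2960) (.leaf 18488)) (.leaf 7030)) (.node (.leaf 19995) (.leaf 19016))) (.node (.node (.node (.leaf 5632) (.leaf 21751)) (.leaf 14912)) (.node (.leaf 14993) (.leaf 16909)))))) (.node (.node (.node (.node (.node (.node (.leaf 4663) (.leaf 17401)) (.leaf 13687)) (.node (.node (.leaf 20429) (.leaf 21598))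 (.leaf 8862))) (.node (.node (.node (.leaf 2973) (.leaf 19766)) (.leaf 14260)) (.node (.leaf 6473) (.leaf 15757)))) (.node (.node (.node (.node (.leaf 6000) (.leaf 18963)) (.leaf 16736)) (.node (.leaf 11563) (.leaf 10782))) (.node (.node (.node (.leaf 4720) (.leaf 20611)) (.leaf 12866)) (.node (.leaf 15253) (.leaf 16697))))) (.node (.node (.node (.node (.node (.leaf 7523) (.leaf 17670)) (.leaf 14162)) (.node (.leaf 6179) (.leaf 14528))) (.node (.node (.node (.leaf 5581) (.leaf 20087)) (.leaf 15770)) (.node (.leaf 13405) (.leaf 16201)))) (.node (.node (.node (.node (.leaf 7280) (.leaf 18850)) (.leaf 13535)) (.node (.leaf 9557) (.leaf 13273))) (.node (.node (.node (.leaf 4838) (.leaf 21294)) (.leaf 12169)) (.node (.leaf 11536) (.leaf 18967))))))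
def dFin_214 : BT := .node dFin_212 dFin_213
def dFin_215 : BT := .node (.node (.node (.node (.node (.node (.node (.leaf 211) (.leaf 17093)) (.leaf 15266)) (.node (.node (.leaf 5725) (.leaf 21400)) (.leaf 11398))) (.node (.node (.node (.leaf 2883) (.leaf 20366)) (.leaf 13475)) (.node (.leaf 20617) (.leaf 15444)))) (.node (.node (.node (.node (.leaf 1021) (.leaf 17980)) (.leaf 6896)) (.node (.leaf 12238) (.leaf 17968))) (.node (.node (.node (.leaf 19382) (.leaf 20241)) (.leaf 12924)) (.node (.leaf 8628) (.leaf 16339))))) (.node (.node (.node (.node (.node (.leaf 374) (.leaf 18569)) (.leaf 14363)) (.node (.node (.leaf 5980) (.leaf 21734)) (.leaf 11425))) (.node (.node (.node (.leaf 3066) (.leaf 19596)) (.leaf 7824)) (.node (.leaf 14408) (.leaf 16028)))) (.node (.node (.node (.node (.leaf 1853) (.leaf 18993)) (.leaf 16706)) (.node (.leaf 6292) (.leaf 20602))) (.node (.node (.node (.leaf 12879) (.leaf 20870)) (.leaf 18140)) (.node (.leaf 12200) (.leaf 18108)))))) (.node (.node (.node (.node (.node (.node (.leaf 5505) (.leaf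 17774)) (.leaf 19068)) (.node (.node (.leaf 5846) (.leaf 21555)) (.leaf 14641))) (.node (.node (.node (.leaf 2320) (.leaf 19511)) (.leaf 7423)) (.node (.leaf 6557) (.leaf 15743)))) (.node (.node (.node (.node (.leaf 11375) (.leaf 20621)) (.leaf 8135)) (.node (.leaf 12548) (.leaf 15212))) (.node (.node (.node (.leaf 5095) (.leaf 21040)) (.leaf 13304)) (.node (.leaf 6618) (.leaf 16570))))) (.node (.node (.node (.node (.node (.leaf 5974) (.leaf 17604)) (.leaf 7984)) (.node (.leaf 10412) (.leaf 9858))) (.node (.node (.node (.leaf 3845) (.leaf 20134)) (.leaf 13406)) (.node (.leaf 15241) (.leaf 16143)))) (.node (.node (.node (.node (.leaf 16698) (.leaf 18885)) (.leaf 15250)) (.node (.leaf 6774) (.leaf 12767))) (.node (.node (.node (.leaf 4823) (.leaf 21195)) (.leaf 13472)) (.node (.leaf 15752) (.leaf 19606))))))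
def dFin_216 : BT := .node (.node (.node (.node (.node (.node (.node (.leaf 2905) (.leaf 17172)) (.leaf 12595)) (.node (.node (.leaf 5791) (.leaf 21485)) (.leaf 18849))) (.node (.node (.node (.leaf 14105) (.leaf 21178)) (.leaf 10186)) (.node (.leaf 7292) (.leaf 15517)))) (.node (.node (.node (.node (.leaf 1912) (.leaf 21013)) (.leaf 12751)) (.node (.leaf 10401) (.leaf 16398))) (.node (.node (.node (.leaf 4709) (.leaf 21628)) (.leaf 13240)) (.node (.leaf 17628) (.leaf 16468))))) (.node (.node (.node (.node (.node (.leaf 3112) (.leaf 18914)) (.leaf 17100)) (.node (.leaf 6069) (.leaf 9604))) (.node (.node (.node (.leaf 3115) (.leaf 20669)) (.leaf 16466)) (.node (.leaf 14596) (.leaf 16038)))) (.node (.node (.node (.node (.leaf 5546) (.leaf 18606)) (.leaf 11744)) (.node (.leaf 11877) (.leaf 18998))) (.node (.node (.node (.leaf 5956) (.leaf 21035)) (.leaf 14217)) (.node (.leaf 6661) (.leaf 16968)))))) (.node (.node (.node (.node (.node (.node (.leaf 88) (.leaf 17471)) (.leaf 13982)) (.node (.node (.leaf 7385) (.leaf 21647))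 (.leaf 15366))) (.node (.node (.node (.leaf 2347) (.leaf 19673)) (.leaf 14527)) (.node (.leaf 14151) (.leaf 19046)))) (.node (.node (.node (.node (.leaf 5370) (.leaf 18216)) (.leaf 12532)) (.node (.leaf 14989) (.leaf 17554))) (.node (.node (.node (.leaf 5189) (.leaf 20766)) (.leaf 14097)) (.node (.leaf 6625) (.leaf 16792))))) (.node (.node (.node (.node (.node (.leaf 2588) (.leaf 18923)) (.leaf 14769)) (.node (.leaf 6205) (.leaf 14965))) (.node (.node (.node (.leaf 5573) (.leaf 20025)) (.leaf 12989)) (.node (.leaf 15222) (.leaf 16253)))) (.node (.node (.node (.node (.leaf 2093) (.leaf 19600)) (.leaf 14897)) (.node (.leaf 13023) (.leaf 21055))) (.node (.node (.node (.leaf 6771) (.leaf 21680)) (.leaf 9035)) (.node (.leaf 13024) (.leaf 20614))))))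
def dFin_217 : BT := .node dFin_215 dFin_216
def dFin_218 : BT := .node dFin_214 dFin_217
def dFin_219 : BT := .node dFin_211 dFin_218
def dFin_220 : BT := .node dFin_204 dFin_219
def dFin_221 : BT := .node (.node (.node (.node (.node (.node (.node (.leaf 7) (.leaf 17114)) (.leaf 13029)) (.node (.node (.leaf 4924) (.leaf 21450)) (.leaf 13170))) (.node (.node (.node (.leaf 2154) (.leaf 18971)) (.leaf 14249)) (.node (.leaf 16266) (.leaf 13269)))) (.node (.node (.node (.node (.leaf 3071) (.leaf 18104)) (.leaf 15322)) (.node (.leaf 10360) (.leaf 9930))) (.node (.node (.node (.leaf 5569) (.leaf 19991)) (.leaf 15454)) (.node (.leaf 13590) (.leaf 16273))))) (.node (.node (.node (.node (.node (.leaf 3118) (.leaf 20360)) (.leaf 14122)) (.node (.node (.leaf 6072) (.leaf 21663)) (.leaf 17866))) (.node (.node (.node (.leaf 12969) (.leaf 19642)) (.leaf 7844)) (.node (.leaf 14147) (.leaf 15788)))) (.node (.node (.node (.node (.leaf 1910) (.leaf 21140)) (.leaf 10437)) (.node (.leaf 15181) (.leaf 11841))) (.node (.node (.node (.leaf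 5604) (.leaf 20707)) (.leaf 7779)) (.node (.leaf 19872) (.leaf 16754)))))) (.node (.node (.node (.node (.node (.node (.leaf 572) (.leaf 17197)) (.leaf 12101)) (.node (.node (.leaf 14634) (.leaf 21502)) (.leaf 9860))) (.node (.node (.node (.leaf 3423) (.leaf 20274)) (.leaf 15171)) (.node (.leaf 6432) (.leaf 17382)))) (.node (.node (.node (.node (.leaf 1753) (.leaf 18007)) (.leaf 20425)) (.node (.leaf 9251) (.leaf 10574))) (.node (.node (.node (.leaf 4732) (.leaf 20423)) (.leaf 12227)) (.node (.leaf 15351) (.leaf 16478))))) (.node (.node (.node (.node (.node (.leaf 3049) (.leaf 18100)) (.leaf 7836)) (.node (.leaf 6094) (.leaf 15295))) (.node (.node (.node (.leaf 5683) (.leaf 19893)) (.leaf 15427)) (.node (.leaf 15821) (.leaf 16074)))) (.node (.node (.node (.node (.leaf 12885) (.leaf 18622)) (.leaf 13175)) (.node (.leaf 11324) (.leaf 11013))) (.node (.node (.node (.leaf 4841) (.leaf 21114)) (.leaf 8923)) (.node (.leaf 11851) (.leaf 18847))))))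
def dFin_222 : BT := .node (.node (.node (.node (.node (.node (.node (.leaf 2825) (.leaf 17123)) (.leaf 17610)) (.node (.node (.leaf 5826) (.leaf 21413)) (.leaf 11414))) (.node (.node (.node (.leaf 12708) (.leaf 19274)) (.leaf 21091)) (.node (.leaf 12199) (.leaf 17129)))) (.node (.node (.node (.node (.leaf 1832) (.leaf 17996)) (.leaf 8061)) (.node (.leaf 12246) (.leaf 16565))) (.node (.node (.node (.leaf 4055) (.leaf 20238)) (.leaf 12776)) (.node (.leaf 14127) (.leaf 16388))))) (.node (.node (.node (.node (.node (.leaf 5238) (.leaf 17989)) (.leaf 6870)) (.node (.node (.leaf 5991) (.leaf 21737)) (.leaf 9705))) (.node (.node (.node (.leaf 5865) (.leaf 19571)) (.leaf 15390)) (.node (.leaf 19263) (.leaf 15865)))) (.node (.node (.node (.node (.leaf 14079) (.leaf 18434)) (.leaf 8218)) (.node (.leaf 11993) (.leaf 11014))) (.node (.node (.node (.leaf 4775) (.leaf 21005)) (.leaf 18621)) (.node (.leaf 6646) (.leaf 16802)))))) (.node (.node (.node (.node (.node (.node (.leaf 131) (.leaf 17390)) (.leaf 13664)) (.node (.node (.leaf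 5874) (.leaf 21560)) (.leaf 15156))) (.node (.node (.node (.leaf 2308) (.leaf 19769)) (.leaf 15814)) (.node (.leaf 18214) (.leaf 15708)))) (.node (.node (.node (.node (.leaf 1894) (.leaf 18291)) (.leaf 13106)) (.node (.leaf 12521) (.leaf 13236))) (.node (.node (.node (.leaf 10577) (.leaf 20638)) (.leaf 17568)) (.node (.leaf 8047) (.leaf 21362))))) (.node (.node (.node (.node (.node (.leaf 763) (.leaf 17633)) (.leaf 6864)) (.node (.leaf 6150) (.leaf 12749))) (.node (.node (.node (.leaf 5553) (.leaf 20115)) (.leaf 10163)) (.node (.leaf 6634) (.leaf 16173)))) (.node (.node (.node (.node (.leaf 3101) (.leaf 18902)) (.leaf 16916)) (.node (.leaf 12959) (.leaf 11248))) (.node (.node (.node (.leaf 15780) (.leaf 21243)) (.leaf 15051)) (.node (.leaf 11543) (.leaf 20069))))))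
def dFin_223 : BT := .node dFin_221 dFin_222
def dFin_224 : BT := .node (.node (.node (.node (.node (.node (.node (.leaf 24) (.leaf 18628)) (.leaf 12385)) (.node (.node (.leaf 5754) (.leaf 21375)) (.leaf 13297))) (.node (.node (.node (.leaf 5728) (.leaf 19109)) (.leaf 7238)) (.node (.leaf 16442) (.leaf 19595)))) (.node (.node (.node (.node (.leaf 1008) (.leaf 19114)) (.leaf 16716)) (.node (.leaf 6342) (.leaf 17736))) (.node (.node (.node (.leaf 10996) (.leaf 20996)) (.leaf 12231)) (.node (.leaf 13909) (.leaf 16356))))) (.node (.node (.node (.node (.node (.leaf 5204) (.leaf 19057)) (.leaf 15091)) (.node (.node (.leaf 5954) (.leaf 21705)) (.leaf 11769))) (.node (.node (.node (.leaf 5113) (.leaf 21151)) (.leaf 14734)) (.node (.leaf 14431) (.leaf 15836)))) (.node (.node (.node (.node (.leaf 1844) (.leaf 18370)) (.leaf 12880)) (.node (.leaf 6286) (.leaf 10707))) (.node (.node (.node (.leaf 4757) (.leaf 20938)) (.leaf 14268)) (.node (.leaf 12128) (.leaf 16784)))))) (.node (.node (.node (.node (.node (.node (.leaf 5322) (.leaf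 19641)) (.leaf 7475)) (.node (.node (.leaf 13750) (.leaf 21528)) (.leaf 14946))) (.node (.node (.node (.leaf 2298) (.leaf 20459)) (.leaf 7551)) (.node (.leaf 6463) (.leaf 15671)))) (.node (.node (.node (.node (.leaf 3134) (.leaf 18142)) (.leaf 13054)) (.node (.leaf 15312) (.leaf 17141))) (.node (.node (.node (.leaf 4780) (.leaf 20526)) (.leaf 9306)) (.node (.leaf 14826) (.leaf 16594))))) (.node (.node (.node (.node (.node (.leaf 2820) (.leaf 17564)) (.leaf 16728)) (.node (.leaf 19014) (.leaf 13232))) (.node (.node (.node (.leaf 5456) (.leaf 20146)) (.leaf 15246)) (.node (.leaf 14662) (.leaf 16093)))) (.node (.node (.node (.node (.leaf 1892) (.leaf 18932)) (.leaf 12124)) (.node (.leaf 12890) (.leaf 11094))) (.node (.node (.node (.leaf 15353) (.leaf 21153)) (.leaf 15028)) (.node (.leaf 12929) (.leaf 16998))))))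
def dFin_225 : BT := .node (.node (.node (.node (.node (.node (.node (.leaf 46) (.leaf 17163)) (.leaf 11777)) (.node (.node (.leaf 5770) (.leaf 21438)) (.leaf 13103))) (.node (.node (.node (.leaf 6113) (.leaf 19214)) (.leaf 14926)) (.node (.leaf 19737) (.leaf 16212)))) (.node (.node (.node (.node (.leaf 7062) (.leaf 17873)) (.leaf 8069)) (.node (.leaf 10342) (.leaf 16921))) (.node (.node (.node (.leaf 4585) (.leaf 20365)) (.leaf 15431)) (.node (.leaf 14778) (.leaf 16414))))) (.node (.node (.node (.node (.node (.leaf 403) (.leaf 17544)) (.leaf 7870)) (.node (.leaf 21297) (.leaf 17679))) (.node (.node (.node (.leaf 2490) (.leaf 19802)) (.leaf 14214)) (.node (.leaf 6505) (.leaf 19121)))) (.node (.node (.node (.node (.leaf 16672) (.leaf 19761)) (.leaf 13822)) (.node (.leaf 12506) (.leaf 10979))) (.node (.node (.node (.leaf 6032) (.leaf 21023)) (.leaf 15676)) (.node (.leaf 14943) (.leaf 18200)))))) (.node (.node (.node (.node (.node (.node (.leaf 117) (.leaf 17289)) (.leaf 15448)) (.node (.node (.leaf 5897) (.leaf 21613))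 (.leaf 8800))) (.node (.node (.node (.leaf 2325) (.leaf 19738)) (.leaf 21226)) (.node (.leaf 15834) (.leaf 16355)))) (.node (.node (.node (.node (.leaf 2916) (.leaf 18908)) (.leaf 17889)) (.node (.leaf 6276) (.leaf 11487))) (.node (.node (.node (.leaf 5055) (.leaf 20784)) (.leaf 19649)) (.node (.leaf 15038) (.leaf 16719))))) (.node (.node (.node (.node (.node (.leaf 772) (.leaf 17684)) (.leaf 6867)) (.node (.leaf 6216) (.leaf 15330))) (.node (.node (.node (.leaf 20985) (.leaf 20070)) (.leaf 7545)) (.node (.leaf 13571) (.leaf 16221)))) (.node (.node (.node (.node (.leaf 2182) (.leaf 19763)) (.leaf 13634)) (.node (.leaf 20704) (.leaf 11264))) (.node (.node (.node (.leaf 5491) (.leaf 21299)) (.leaf 11997)) (.node (.leaf 11531) (.leaf 18067))))))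
def dFin_226 : BT := .node dFin_224 dFin_225
def dFin_227 : BT := .node dFin_223 dFin_226
def dFin_228 : BT := .node (.node (.node (.node (.node (.node (.node (.leaf 411) (.leaf 17076)) (.leaf 6988)) (.node (.node (.leaf 4934) (.leaf 21356)) (.leaf 11787))) (.node (.node (.node (.leaf 3041) (.leaf 19066)) (.leaf 7181)) (.node (.leaf 12810) (.leaf 20125)))) (.node (.node (.node (.node (.leaf 989) (.leaf 19220)) (.leaf 15582)) (.node (.leaf 6318) (.leaf 15078))) (.node (.node (.node (.leaf 5576) (.leaf 20289)) (.leaf 12152)) (.node (.leaf 15402) (.leaf 16288))))) (.node (.node (.node (.node (.node (.leaf 5335) (.leaf 18548)) (.leaf 8603)) (.node (.node (.leaf 5942) (.leaf 21702)) (.leaf 21516))) (.node (.node (.node (.leaf 5673) (.leaf 19615)) (.leaf 19572)) (.node (.leaf 14198) (.leaf 15794)))) (.node (.node (.node (.node (.leaf 5139) (.leaf 18352)) (.leaf 15480)) (.node (.leaf 15118) (.leaf 10695))) (.node (.node (.node (.leaf 4752) (.leaf 20815)) (.leaf 13695)) (.node (.leaf 13479) (.leaf 18363)))))) (.node (.node (.node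 (.node (.node (.node (.leaf 598) (.leaf 20170)) (.leaf 6759)) (.node (.node (.leaf 5813) (.leaf 21522)) (.leaf 14747))) (.node (.node (.node (.leaf 13145) (.leaf 20281)) (.leaf 7288)) (.node (.leaf 6451) (.leaf 19904)))) (.node (.node (.node (.node (.leaf 2884) (.leaf 18111)) (.leaf 12935)) (.node (.leaf 12439) (.leaf 10623))) (.node (.node (.node (.leaf 5613) (.leaf 20557)) (.leaf 12390)) (.node (.leaf 17285) (.leaf 16682))))) (.node (.node (.node (.node (.node (.leaf 2806) (.leaf 20260)) (.leaf 18600)) (.node (.leaf 6097) (.leaf 18456))) (.node (.node (.node (.leaf 16378) (.leaf 19911)) (.leaf 18506)) (.node (.leaf 14880) (.leaf 16107)))) (.node (.node (.node (.node (.leaf 2180) (.leaf 18639)) (.leaf 12412)) (.node (.leaf 11376) (.leaf 11041))) (.node (.node (.node (.leaf 4806) (.leaf 21096)) (.leaf 15995)) (.node (.leaf 6668) (.leaf 16981))))))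
def dFin_229 : BT := .node (.node (.node (.node (.node (.node (.node (.leaf 196) (.leaf 17477)) (.leaf 13059)) (.node (.node (.leaf 5763) (.leaf 21431)) (.leaf 12964))) (.node (.node (.node (.leaf 2897) (.leaf 20255)) (.leaf 14850)) (.node (.leaf 15282) (.leaf 15476)))) (.node (.node (.node (.node (.leaf 10945) (.leaf 17920)) (.leaf 15041)) (.node (.leaf 12007) (.leaf 17979))) (.node (.node (.node (.leaf 20529) (.leaf 20340)) (.leaf 12950)) (.node (.leaf 8615) (.leaf 16405))))) (.node (.node (.node (.node (.node (.leaf 357) (.leaf 17435)) (.leaf 14496)) (.node (.node (.leaf 6025) (.leaf 21757)) (.leaf 13219))) (.node (.node (.node (.leaf 2985) (.leaf 19842)) (.leaf 14499)) (.node (.leaf 14453) (.leaf 16098)))) (.node (.node (.node (.node (.leaf 1865) (.leaf 18482)) (.leaf 15411)) (.node (.leaf 6347) (.leaf 10950))) (.node (.node (.node (.leaf 15385) (.leaf 20978)) (.leaf 14656)) (.node (.leaf 12173) (.leaf 19090)))))) (.node (.node (.node (.node (.node (.node (.leaf 5154) (.leaf 17963)) (.leaf 6798)) (.node (.node (.leaf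 5883) (.leaf 21585)) (.leaf 15356))) (.node (.node (.node (.leaf 2323) (.leaf 19778)) (.leaf 14255)) (.node (.leaf 18202) (.leaf 16329)))) (.node (.node (.node (.node (.leaf 12151) (.leaf 20339)) (.leaf 8126)) (.node (.leaf 11480) (.leaf 15290))) (.node (.node (.node (.leaf 5784) (.leaf 20609)) (.leaf 13325)) (.node (.leaf 6622) (.leaf 20947))))) (.node (.node (.node (.node (.node (.leaf 749) (.leaf 17714)) (.leaf 14221)) (.node (.leaf 21095) (.leaf 18443))) (.node (.node (.node (.leaf 5436) (.leaf 19985)) (.leaf 12741)) (.node (.leaf 13394) (.leaf 16183)))) (.node (.node (.node (.node (.leaf 2097) (.leaf 18844)) (.leaf 16766)) (.node (.leaf 13006) (.leaf 13277))) (.node (.node (.node (.leaf 4844) (.leaf 21286)) (.leaf 17594)) (.node (.leaf 17281) (.leaf 18934))))))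
def dFin_230 : BT := .node dFin_228 dFin_229
def dFin_231 : BT := .node (.node (.node (.node (.node (.node (.node (.leaf 5222) (.leaf 20722)) (.leaf 9308)) (.node (.node (.leaf 5727) (.leaf 21448)) (.leaf 15300))) (.node (.node (.node (.leaf 2139) (.leaf 19259)) (.leaf 21606)) (.node (.leaf 12374) (.leaf 11277)))) (.node (.node (.node (.node (.leaf 6226) (.leaf 17976)) (.leaf 14924)) (.node (.leaf 6341) (.leaf 16242))) (.node (.node (.node (.leaf 4048) (.leaf 21748)) (.leaf 9271)) (.node (.leaf 6590) (.leaf 16334))))) (.node (.node (.node (.node (.node (.leaf 370) (.leaf 18565)) (.leaf 14336)) (.node (.node (.leaf 5977) (.leaf 21718)) (.leaf 13195))) (.node (.node (.node (.leaf 3064) (.leaf 19592)) (.leaf 16360)) (.node (.leaf 15089) (.leaf 15890)))) (.node (.node (.node (.node (.leaf 1872) (.leaf 18580)) (.leaf 12800)) (.node (.leaf 6309) (.leaf 10929))) (.node (.node (.node (.leaf 12872) (.leaf 20866)) (.leaf 14540)) (.node (.leaf 12501) (.leaf 16795)))))) (.node (.node (.node (.node (.node (.node (.leaf 5503) (.leaf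 17772)) (.leaf 14618)) (.node (.node (.leaf 5854) (.leaf 21547)) (.leaf 13597))) (.node (.node (.node (.leaf 6559) (.leaf 19688)) (.leaf 16711)) (.node (.leaf 11090) (.leaf 15731)))) (.node (.node (.node (.node (.leaf 5478) (.leaf 18157)) (.leaf 11766)) (.node (.leaf 11520) (.leaf 12051))) (.node (.node (.node (.leaf 5259) (.leaf 20564)) (.leaf 13092)) (.node (.leaf 14929) (.leaf 16613))))) (.node (.node (.node (.node (.node (.leaf 5232) (.leaf 17600)) (.leaf 21223)) (.node (.leaf 6128) (.leaf 9854))) (.node (.node (.node (.leaf 10586) (.leaf 20153)) (.leaf 14152)) (.node (.leaf 12025) (.leaf 16512)))) (.node (.node (.node (.node (.leaf 6935) (.leaf 18657)) (.leaf 12135)) (.node (.leaf 6376) (.leaf 11097))) (.node (.node (.node (.leaf 5822) (.leaf 21189)) (.leaf 20150)) (.node (.leaf 6671) (.leaf 19828))))))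
def dFin_232 : BT := .node (.node (.node (.node (.node (.node (.node (.leaf 185) (.leaf 17185)) (.leaf 6749)) (.node (.node (.leaf 5820) (.leaf 21456)) (.leaf 8278))) (.node (.node (.node (.leaf 2162) (.leaf 19359)) (.leaf 8913)) (.node (.leaf 15796) (.leaf 17176)))) (.node (.node (.node (.node (.leaf 1772) (.leaf 21002)) (.leaf 15523)) (.node (.leaf 10396) (.leaf 12091))) (.node (.node (.node (.leaf 15478) (.leaf 20461)) (.leaf 7648)) (.node (.leaf 7259) (.leaf 16461))))) (.node (.node (.node (.node (.node (.leaf 413) (.leaf 19106)) (.leaf 14718)) (.node (.leaf 6092) (.leaf 13300))) (.node (.node (.node (.leaf 2893) (.leaf 19881)) (.leaf 7857)) (.node (.leaf 7847) (.leaf 16066)))) (.node (.node (.node (.node (.leaf 1879) (.leaf 18588)) (.leaf 12075)) (.node (.leaf 21527) (.leaf 11000))) (.node (.node (.node (.leaf 15506) (.leaf 21052)) (.leaf 15161)) (.node (.leaf 16011) (.leaf 17026)))))) (.node (.node (.node (.node (.node (.node (.leaf 5203) (.leaf 19782)) (.leaf 7935)) (.node (.node (.leaf 17364) (.leaf 21653)) (.leaf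 8855))) (.node (.node (.node (.leaf 2337) (.leaf 19723)) (.leaf 14410)) (.node (.leaf 13764) (.leaf 15761)))) (.node (.node (.node (.node (.leaf 16741) (.leaf 18196)) (.leaf 21531)) (.node (.leaf 13069) (.leaf 10749))) (.node (.node (.node (.leaf 5691) (.leaf 20764)) (.leaf 12482)) (.node (.leaf 16971) (.leaf 16806))))) (.node (.node (.node (.node (.node (.leaf 4582) (.leaf 17749)) (.leaf 6922)) (.node (.leaf 16188) (.leaf 13286))) (.node (.node (.node (.leaf 5563) (.leaf 20763)) (.leaf 15786)) (.node (.leaf 14535) (.leaf 17069)))) (.node (.node (.node (.node (.leaf 15804) (.leaf 20581)) (.leaf 15368)) (.node (.leaf 13999) (.leaf 13264))) (.node (.node (.node (.leaf 4884) (.leaf 21323)) (.leaf 8146)) (.node (.leaf 13086) (.leaf 18239))))))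
def dFin_233 : BT := .node dFin_231 dFin_232
def dFin_234 : BT := .node dFin_230 dFin_233
def dFin_235 : BT := .node dFin_227 dFin_234
def dFin_236 : BT := .node (.node (.node (.node (.node (.node (.node (.leaf 32) (.leaf 17040)) (.leaf 17344)) (.node (.node (.leaf 6110) (.leaf 21349)) (.leaf 12953))) (.node (.node (.node (.leaf 2115) (.leaf 19082)) (.leaf 14235)) (.node (.leaf 7773) (.leaf 11270)))) (.node (.node (.node (.node (.leaf 789) (.leaf 17784)) (.leaf 6918)) (.node (.leaf 6220) (.leaf 13835))) (.node (.node (.node (.leaf 3953) (.leaf 19964)) (.leaf 7564)) (.node (.leaf 15404) (.leaf 16284))))) (.node (.node (.node (.node (.node (.leaf 5278) (.leaf 17862)) (.leaf 16100)) (.node (.node (.leaf 5933) (.leaf 21659)) (.leaf 9305))) (.node (.node (.node (.leaf 14643) (.leaf 19655)) (.leaf 14582)) (.node (.leaf 19884) (.leaf 15809)))) (.node (.node (.node (.node (.leaf 17149) (.leaf 20223)) (.leaf 12584)) (.node (.leaf 11905) (.leaf 13477))) (.node (.node (.node (.leaf 5926) (.leaf 20813)) (.leaf 16411)) (.node (.leaf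 15169) (.leaf 19765)))))) (.node (.node (.node (.node (.node (.node (.leaf 170) (.leaf 17205)) (.leaf 13224)) (.node (.node (.leaf 5801) (.leaf 21487)) (.leaf 8281))) (.node (.node (.node (.leaf 2175) (.leaf 19972)) (.leaf 13911)) (.node (.leaf 6443) (.leaf 15660)))) (.node (.node (.node (.node (.leaf 1747) (.leaf 19029)) (.leaf 12680)) (.node (.leaf 12428) (.leaf 14265))) (.node (.node (.node (.leaf 15987) (.leaf 20552)) (.leaf 12742)) (.node (.leaf 7252) (.leaf 16477))))) (.node (.node (.node (.node (.node (.leaf 431) (.leaf 18089)) (.leaf 19072)) (.node (.leaf 6077) (.leaf 16406))) (.node (.node (.node (.leaf 6104) (.leaf 19903)) (.leaf 10182)) (.node (.leaf 6509) (.leaf 16121)))) (.node (.node (.node (.node (.leaf 5548) (.leaf 18625)) (.leaf 16982)) (.node (.leaf 12156) (.leaf 19012))) (.node (.node (.node (.leaf 5066) (.leaf 21086)) (.leaf 14934)) (.node (.leaf 9174) (.leaf 17903))))))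
def dFin_237 : BT := .node (.node (.node (.node (.node (.node (.node (.leaf 1739) (.leaf 17136)) (.leaf 6779)) (.node (.node (.leaf 5749) (.leaf 21426)) (.leaf 9746))) (.node (.node (.node (.leaf 2168) (.leaf 19267)) (.leaf 15651)) (.node (.leaf 12166) (.leaf 15472)))) (.node (.node (.node (.node (.leaf 1706) (.leaf 19251)) (.leaf 20235)) (.node (.leaf 9207) (.leaf 14521))) (.node (.node (.node (.leaf 5362) (.leaf 20326)) (.leaf 12778)) (.node (.leaf 14056) (.leaf 16391))))) (.node (.node (.node (.node (.node (.leaf 5327) (.leaf 18199)) (.leaf 14444)) (.node (.node (.leaf 6023) (.leaf 21768)) (.leaf 15314))) (.node (.node (.node (.leaf 2919) (.leaf 19836)) (.leaf 7402)) (.node (.leaf 6502) (.leaf 15866)))) (.node (.node (.node (.node (.leaf 5834) (.leaf 18448)) (.leaf 7664)) (.node (.leaf 17198) (.leaf 10982))) (.node (.node (.node (.leaf 4776) (.leaf 20990)) (.leaf 9951)) (.node (.leaf 13212) (.leaf 18777)))))) (.node (.node (.node (.node (.node (.node (.leaf 1750) (.leaf 20244)) (.leaf 15176)) (.node (.node (.leaf 5892)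 (.leaf 21592)) (.leaf 20155))) (.node (.node (.node (.leaf 10741) (.leaf 20943)) (.leaf 7919)) (.node (.leaf 7892) (.leaf 15729)))) (.node (.node (.node (.node (.leaf 1798) (.leaf 21196)) (.leaf 16452)) (.node (.leaf 16000) (.leaf 12912))) (.node (.node (.node (.leaf 4717) (.leaf 20651)) (.leaf 12858)) (.node (.leaf 14971) (.leaf 16685))))) (.node (.node (.node (.node (.node (.leaf 755) (.leaf 17716)) (.leaf 14010)) (.node (.leaf 6164) (.leaf 11824))) (.node (.node (.node (.leaf 5427) (.leaf 21050)) (.leaf 13448)) (.node (.leaf 6525) (.leaf 16196)))) (.node (.node (.node (.node (.leaf 5256) (.leaf 18900)) (.leaf 7065)) (.node (.leaf 12177) (.leaf 16174))) (.node (.node (.node (.leaf 4826) (.leaf 21209)) (.leaf 8158)) (.node (.leaf 11524) (.leaf 18082))))))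
def dFin_238 : BT := .node dFin_236 dFin_237
def dFin_239 : BT := .node (.node (.node (.node (.node (.node (.node (.leaf 35) (.leaf 18925)) (.leaf 12817)) (.node (.node (.leaf 5704) (.leaf 21371)) (.leaf 8232))) (.node (.node (.node (.leaf 5596) (.leaf 19122)) (.leaf 14804)) (.node (.leaf 13480) (.leaf 11273)))) (.node (.node (.node (.node (.leaf 5626) (.leaf 17955)) (.leaf 14900)) (.node (.leaf 6693) (.leaf 15308))) (.node (.node (.node (.leaf 5587) (.leaf 20250)) (.leaf 15318)) (.node (.leaf 13938) (.leaf 16364))))) (.node (.node (.node (.node (.node (.leaf 5885) (.leaf 18573)) (.leaf 7880)) (.node (.node (.leaf 13667) (.leaf 21729)) (.leaf 11891))) (.node (.node (.node (.leaf 2370) (.leaf 19598)) (.leaf 7349)) (.node (.leaf 6496) (.leaf 17080)))) (.node (.node (.node (.node (.leaf 12737) (.leaf 18895)) (.leaf 17135)) (.node (.leaf 7643) (.leaf 10980))) (.node (.node (.node (.leaf 5650) (.leaf 20894)) (.leaf 14339)) (.node (.leaf 15675) (.leaf 16789)))))) (.node (.node (.node (.node (.node (.node (.leaf 153) (.leaf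 17354)) (.leaf 14108)) (.node (.node (.leaf 6149) (.leaf 21692)) (.leaf 8666))) (.node (.node (.node (.leaf 2293) (.leaf 19491)) (.leaf 7415)) (.node (.leaf 14759) (.leaf 15694)))) (.node (.node (.node (.node (.leaf 5499) (.leaf 18147)) (.leaf 16599)) (.node (.leaf 6265) (.leaf 19061))) (.node (.node (.node (.leaf 4697) (.leaf 20579)) (.leaf 21477)) (.node (.leaf 14874) (.leaf 16556))))) (.node (.node (.node (.node (.node (.leaf 463) (.leaf 17583)) (.leaf 6847)) (.node (.leaf 6127) (.leaf 21164))) (.node (.node (.node (.leaf 19877) (.leaf 21183)) (.leaf 15026)) (.node (.leaf 7154) (.leaf 21113)))) (.node (.node (.node (.node (.leaf 1901) (.leaf 19841)) (.leaf 12567)) (.node (.leaf 13452) (.leaf 11098))) (.node (.node (.node (.leaf 13704) (.leaf 21163)) (.leaf 14604)) (.node (.leaf 21684) (.leaf 17014))))))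
def dFin_240 : BT := .node (.node (.node (.node (.node (.node (.node (.leaf 2952) (.leaf 17175)) (.leaf 9498)) (.node (.node (.leaf 7078) (.leaf 21544)) (.leaf 16965))) (.node (.node (.node (.leaf 2161) (.leaf 19355)) (.leaf 17394)) (.node (.leaf 6422) (.leaf 16996)))) (.node (.node (.node (.node (.leaf 1814) (.leaf 17865)) (.leaf 12490)) (.node (.leaf 10353) (.leaf 13130))) (.node (.node (.node (.leaf 5190) (.leaf 20369)) (.leaf 8994)) (.node (.leaf 13460) (.leaf 16445))))) (.node (.node (.node (.node (.node (.leaf 3068) (.leaf 18163)) (.leaf 14615)) (.node (.leaf 6053) (.leaf 12715))) (.node (.node (.node (.leaf 5904) (.leaf 19856)) (.leaf 14976)) (.node (.leaf 15197) (.leaf 16064)))) (.node (.node (.node (.node (.leaf 2956) (.leaf 18496)) (.leaf 13012)) (.node (.leaf 12628) (.leaf 10972))) (.node (.node (.node (.leaf 6602) (.leaf 21039)) (.leaf 7827)) (.node (.leaf 12571) (.leaf 16942)))))) (.node (.node (.node (.node (.node (.node (.leaf 5309) (.leaf 17272)) (.leaf 13775)) (.node (.node (.leaf 5951) (.leaf 21627))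 (.leaf 14887))) (.node (.node (.node (.leaf 5807) (.leaf 19690)) (.leaf 16610)) (.node (.leaf 8489) (.leaf 15768)))) (.node (.node (.node (.node (.leaf 1820) (.leaf 18227)) (.leaf 12679)) (.node (.leaf 12020) (.leaf 12815))) (.node (.node (.node (.leaf 4926) (.leaf 20794)) (.leaf 12480)) (.node (.leaf 14173) (.leaf 21289))))) (.node (.node (.node (.node (.node (.leaf 766) (.leaf 17729)) (.leaf 6868)) (.node (.leaf 15813) (.leaf 9946))) (.node (.node (.node (.leaf 5561) (.leaf 21720)) (.leaf 7554)) (.node (.leaf 14290) (.leaf 16233)))) (.node (.node (.node (.node (.leaf 5764) (.leaf 20994)) (.leaf 8492)) (.node (.leaf 11800) (.leaf 15111))) (.node (.node (.node (.leaf 5133) (.leaf 21319)) (.leaf 12455)) (.node (.leaf 13080) (.leaf 16928))))))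
def dFin_241 : BT := .node dFin_239 dFin_240
def dFin_242 : BT := .node dFin_238 dFin_241
def dFin_243 : BT := .node (.node (.node (.node (.node (.node (.node (.leaf 20) (.leaf 18594)) (.leaf 17351)) (.node (.node (.leaf 6458) (.leaf 21366)) (.leaf 17593))) (.node (.node (.node (.leaf 5463) (.leaf 19093)) (.leaf 14461)) (.node (.leaf 13322) (.leaf 13154)))) (.node (.node (.node (.node (.leaf 981) (.leaf 17767)) (.leaf 14906)) (.node (.leaf 10337) (.leaf 15081))) (.node (.node (.node (.leaf 21008) (.leaf 20267)) (.leaf 12106)) (.node (.leaf 13900) (.leaf 16342))))) (.node (.node (.node (.node (.node (.leaf 253) (.leaf 18566)) (.leaf 6818)) (.node (.node (.leaf 5937) (.leaf 21695)) (.leaf 9418))) (.node (.node (.node (.leaf 2494) (.leaf 19612)) (.leaf 14838)) (.node (.leaf 6492) (.leaf 15893)))) (.node (.node (.node (.node (.leaf 1843) (.leaf 18360)) (.leaf 15440)) (.node (.leaf 13073) (.leaf 11901))) (.node (.node (.node (.leaf 5059) (.leaf 20825)) (.leaf 15125)) (.node (.leaf 13648) (.leaf 16775)))))) (.node (.node (.node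 (.node (.node (.node (.leaf 5378) (.leaf 19348)) (.leaf 6760)) (.node (.node (.leaf 5814) (.leaf 21515)) (.leaf 8393))) (.node (.node (.node (.leaf 2305) (.leaf 19476)) (.leaf 7276)) (.node (.leaf 6461) (.leaf 15672)))) (.node (.node (.node (.node (.leaf 2894) (.leaf 18129)) (.leaf 8151)) (.node (.leaf 17710) (.leaf 14000))) (.node (.node (.node (.leaf 4676) (.leaf 20516)) (.leaf 15370)) (.node (.leaf 14816) (.leaf 17535))))) (.node (.node (.node (.node (.node (.leaf 571) (.leaf 17512)) (.leaf 6874)) (.node (.leaf 17075) (.leaf 12903))) (.node (.node (.node (.leaf 3424) (.leaf 20757)) (.leaf 7492)) (.node (.leaf 14672) (.leaf 16127)))) (.node (.node (.node (.node (.leaf 6059) (.leaf 18647)) (.leaf 12422)) (.node (.leaf 9050) (.leaf 13780))) (.node (.node (.node (.leaf 4811) (.leaf 21139)) (.leaf 14944)) (.node (.leaf 21332) (.leaf 18284))))))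
def dFin_244 : BT := .node (.node (.node (.node (.node (.node (.node (.leaf 2087) (.leaf 17147)) (.leaf 6746)) (.node (.node (.leaf 5769) (.leaf 21446)) (.leaf 19352))) (.node (.node (.node (.leaf 13762) (.leaf 19202)) (.leaf 14892)) (.node (.leaf 6764) (.leaf 15475)))) (.node (.node (.node (.node (.leaf 1800) (.leaf 21109)) (.leaf 15243)) (.node (.leaf 15288) (.leaf 13809))) (.node (.node (.node (.leaf 5368) (.leaf 20351)) (.leaf 12836)) (.node (.leaf 17447) (.leaf 17404))))) (.node (.node (.node (.node (.node (.leaf 407) (.leaf 17531)) (.leaf 19710)) (.node (.leaf 6041) (.leaf 10307))) (.node (.node (.node (.leaf 13899) (.leaf 19853)) (.leaf 12565)) (.node (.leaf 14552) (.leaf 16008)))) (.node (.node (.node (.node (.leaf 1866) (.leaf 20027)) (.leaf 7032)) (.node (.leaf 12927) (.leaf 19018))) (.node (.node (.node (.leaf 4783) (.leaf 20986)) (.leaf 14884)) (.node (.leaf 11397) (.leaf 16914)))))) (.node (.node (.node (.node (.node (.node (.leaf 5231) (.leaf 19482)) (.leaf 13721)) (.node (.node (.leaf 5912) (.leaf 21614))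 (.leaf 17892))) (.node (.node (.node (.leaf 2486) (.leaf 20419)) (.leaf 17035)) (.node (.leaf 6474) (.leaf 15699)))) (.node (.node (.node (.node (.leaf 1813) (.leaf 18231)) (.leaf 10491)) (.node (.leaf 17756) (.leaf 13244))) (.node (.node (.node (.leaf 5198) (.leaf 20613)) (.leaf 9465)) (.node (.leaf 14979) (.leaf 16692))))) (.node (.node (.node (.node (.node (.leaf 1002) (.leaf 17676)) (.leaf 14166)) (.node (.leaf 6186) (.leaf 16250))) (.node (.node (.node (.leaf 5555) (.leaf 20096)) (.leaf 7521)) (.node (.leaf 13493) (.leaf 16210)))) (.node (.node (.node (.node (.leaf 2075) (.leaf 18856)) (.leaf 7108)) (.node (.leaf 6382) (.leaf 15211))) (.node (.node (.node (.leaf 6118) (.leaf 21307)) (.leaf 9222)) (.node (.leaf 9633) (.leaf 21724))))))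
def dFin_245 : BT := .node dFin_243 dFin_244
def dFin_246 : BT := .node (.node (.node (.node (.node (.node (.node (.leaf 209) (.leaf 17097)) (.leaf 13185)) (.node (.node (.leaf 5719) (.leaf 21388)) (.leaf 11404))) (.node (.node (.node (.leaf 2140) (.leaf 19260)) (.leaf 7251)) (.node (.leaf 10872) (.leaf 15443)))) (.node (.node (.node (.node (.leaf 1760) (.leaf 20923)) (.leaf 15423)) (.node (.leaf 12433) (.leaf 14986))) (.node (.node (.node (.leaf 10966) (.leaf 20231)) (.leaf 15297)) (.node (.leaf 14140) (.leaf 16381))))) (.node (.node (.node (.node (.node (.leaf 5939) (.leaf 17514)) (.leaf 6821)) (.node (.node (.leaf 6006) (.leaf 21745)) (.leaf 14877))) (.node (.node (.node (.leaf 2396) (.leaf 19581)) (.leaf 7394)) (.node (.leaf 14365) (.leaf 15895)))) (.node (.node (.node (.node (.leaf 5374) (.leaf 19034)) (.leaf 12808)) (.node (.leaf 15412) (.leaf 11003))) (.node (.node (.node (.leaf 5652) (.leaf 20948)) (.leaf 7811)) (.node (.leaf 12202) (.leaf 21180)))))) (.node (.node (.node (.node (.node (.node (.leaf 3945) (.leaf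 17374)) (.leaf 13660)) (.node (.node (.leaf 5856) (.leaf 21559)) (.leaf 13893))) (.node (.node (.node (.leaf 2492) (.leaf 19496)) (.leaf 7428)) (.node (.leaf 13382) (.leaf 15747)))) (.node (.node (.node (.node (.leaf 5969) (.leaf 18858)) (.leaf 16949)) (.node (.leaf 9056) (.leaf 12623))) (.node (.node (.node (.leaf 4706) (.leaf 20660)) (.leaf 13094)) (.node (.leaf 15424) (.leaf 16651))))) (.node (.node (.node (.node (.node (.leaf 2750) (.leaf 17619)) (.leaf 13546)) (.node (.leaf 16480) (.leaf 18116))) (.node (.node (.node (.leaf 5535) (.leaf 20175)) (.leaf 13494)) (.node (.leaf 6545) (.leaf 16155)))) (.node (.node (.node (.node (.leaf 16694) (.leaf 18876)) (.leaf 17686)) (.node (.leaf 17973) (.leaf 11117))) (.node (.node (.node (.leaf 5707) (.leaf 21193)) (.leaf 13621)) (.node (.leaf 6720) (.leaf 18212))))))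
def dFin_247 : BT := .node (.node (.node (.node (.node (.node (.node (.leaf 2728) (.leaf 17191)) (.leaf 20185)) (.node (.node (.leaf 5809) (.leaf 21480)) (.leaf 8277))) (.node (.node (.node (.leaf 7413) (.leaf 19456)) (.leaf 15232)) (.node (.leaf 6444) (.leaf 15527)))) (.node (.node (.node (.node (.leaf 1838) (.leaf 18059)) (.leaf 12448)) (.node (.leaf 6254) (.leaf 10776))) (.node (.node (.node (.leaf 4748) (.leaf 20381)) (.leaf 7641)) (.node (.leaf 14809) (.leaf 16474))))) (.node (.node (.node (.node (.node (.leaf 418) (.leaf 18056)) (.leaf 14603)) (.node (.leaf 6062) (.leaf 11438))) (.node (.node (.node (.leaf 3121) (.leaf 19888)) (.leaf 14922)) (.node (.leaf 14738) (.leaf 16027)))) (.node (.node (.node (.node (.leaf 11327) (.leaf 18613)) (.leaf 8332)) (.node (.leaf 11322) (.leaf 10987))) (.node (.node (.node (.leaf 5142) (.leaf 21106)) (.leaf 15162)) (.node (.leaf 6662) (.leaf 19587)))))) (.node (.node (.node (.node (.node (.node (.leaf 105) (.leaf 17444)) (.leaf 21136)) (.node (.node (.leaf 5967) (.leaf 21640)) (.leaf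 10878))) (.node (.node (.node (.leaf 5472) (.leaf 19676)) (.leaf 14414)) (.node (.leaf 15214) (.leaf 15779)))) (.node (.node (.node (.node (.leaf 1823) (.leaf 18392)) (.leaf 12538)) (.node (.leaf 12980) (.leaf 13314))) (.node (.node (.node (.leaf 14117) (.leaf 20744)) (.leaf 13594)) (.node (.leaf 14547) (.leaf 16733))))) (.node (.node (.node (.node (.node (.leaf 785) (.leaf 17758)) (.leaf 14760)) (.node (.leaf 6206) (.leaf 14705))) (.node (.node (.node (.leaf 4050) (.leaf 20028)) (.leaf 7667)) (.node (.leaf 14351) (.leaf 16257)))) (.node (.node (.node (.node (.leaf 2100) (.leaf 19063)) (.leaf 15340)) (.node (.leaf 6385) (.leaf 13257))) (.node (.node (.node (.leaf 5068) (.leaf 21326)) (.leaf 17054)) (.node (.leaf 9006) (.leaf 17295))))))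
def dFin_248 : BT := .node dFin_246 dFin_247
def dFin_249 : BT := .node dFin_245 dFin_248
def dFin_250 : BT := .node dFin_242 dFin_249
def dFin_251 : BT := .node dFin_235 dFin_250
def dFin_252 : BT := .node dFin_220 dFin_251
def dFin_253 : BT := .node dFin_189 dFin_252
def dFin_254 : BT := .node dFin_126 dFin_253
def dFin : BT := dFin_254
theorem chk_all : chkAll dD dJS 0 = true := by decide +kernel
theorem chk_fin : chkFin dD 756 dJS.length dLive dPos dFin = true := by decide +kernel
end Cfsg.Agent.Lib.Helper66.G23Pres
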