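import Cfsg.Agent.Lib.Helper66.TCE

set_option autoImplicit false
set_option maxRecDepth 100000
namespace Cfsg.Agent.Lib.Helper66.G23Up
open Cfsg.Agent.Lib.Helper66.TCE
def dF_1 : BT := .node (.node (.node (.node (.node (.node (.node (.leaf 1610628638) (.leaf 4246113055492)) (.leaf 2833605349144)) (.node (.leaf 2069100504350) (.leaf 2612951317022))) (.node (.node (.leaf 1131724152348) (.leaf 3265249665298)) (.node (.leaf 2364380059273) (.leaf 2373507216134)))) (.node (.node (.node (.node (.leaf 469225180422) (.leaf 2733747741835)) (.leaf 2608119622919)) (.node (.leaf 1760400140184) (.leaf 3629785101469))) (.node (.node (.leaf 1981054137618) (.leaf 3506841633304)) (.node (.leaf 2612414480655) (.leaf 4043175743883))))) (.node (.node (.node (.node (.node (.leaf 348966176018) (.leaf 4364761478531)) (.leaf 2635499886473)) (.node (.leaf 101468605448) (.leaf 2840584737792))) (.node (.node (.leaf 1561757858313) (.leaf 3383898051348)) (.node (.leaf 2490007883535) (.leaf 3952444596497)))) (.node (.node (.node (.leaf 745177003661) (.leaf 3172907846426)) (.node (.leaf 833760964373)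 (.leaf 3734474954254))) (.node (.node (.leaf 421981069979) (.leaf 3186866506245)) (.node (.leaf 2725694270099) (.leaf 3897683808395)))))) (.node (.node (.node (.node (.node (.node (.leaf 12348076044) (.leaf 4305168869507)) (.leaf 2918967844613)) (.node (.leaf 1054951824780) (.leaf 2568928079360))) (.node (.node (.leaf 1319629017988) (.leaf 3325379221786)) (.node (.leaf 2423435874692) (.leaf 3903052460933)))) (.node (.node (.node (.leaf 557809010576) (.leaf 3130495034268)) (.node (.leaf 571767835275) (.leaf 3584687957653))) (.node (.node (.leaf 173946217228) (.leaf 3559454995337)) (.node (.leaf 2642479266453) (.leaf 3010236178056))))) (.node (.node (.node (.node (.node (.leaf 437549897616) (.leaf 4402879214859)) (.leaf 3034395118106)) (.node (.leaf 458487762701) (.leaf 2675765206789))) (.node (.node (.leaf 1812476398350) (.leaf 3454228271489)) (.node (.leaf 2559264247705) (.leaf 4015258508300)))) (.node (.node (.node (.leaf 934692480768) (.leaf 2519535959572)) (.node (.leaf 651224971530) (.leaf 3787625187217))) (.node (.node (.leaf 1287953596803) (.leaf 1120987129357))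 (.node (.leaf 2783139471493) (.leaf 3979288197406))))))
def dF_8 : BT := .node (.node (.node (.node (.node (.node (.node (.leaf 11274291856) (.leaf 4262219186577)) (.leaf 2850248351501)) (.node (.leaf 91804989470) (.leaf 3278134242055))) (.node (.node (.leaf 1160715188613) (.leaf 2452427105415)) (.node (.leaf 2368675028509) (.leaf 3359202211975)))) (.node (.node (.node (.node (.leaf 477278333333) (.leaf 4440997242884)) (.leaf 3077344748183)) (.node (.leaf 1315870919055) (.leaf 2486786929932))) (.node (.node (.leaf 2018635110538) (.leaf 3511136601618)) (.node (.leaf 2636573677465) (.leaf 4031364644246))))) (.node (.node (.node (.node (.node (.leaf 368830404620) (.leaf 4367445766787)) (.leaf 2982855498267)) (.node (.leaf 426812672644) (.leaf 3486440537758))) (.node (.node (.leaf 1620276798851) (.leaf 2976413145731)) (.node (.leaf 2506114014853) (.leaf 3967476985741)))) (.node (.node (.node (.leaf 692563658263) (.leaf 3178276556826)) (.node (.leaf 1832877759638) (.leaf 3589519809300))) (.node (.node (.leaf 1855963223437) (.leaf 2491618054668)) (.node (.leaf 2732136722579)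 (.leaf 4149476268174)))))) (.node (.node (.node (.node (.node (.node (.leaf 221190868612) (.leaf 3927748624000)) (.leaf 2909304165776)) (.node (.leaf 1968705781656) (.leaf 2724083612417))) (.node (.node (.leaf 1350767536768) (.leaf 3320547267587)) (.node (.leaf 2421288390419) (.leaf 3860102788119)))) (.node (.node (.node (.leaf 505732541060) (.leaf 3144453235213)) (.node (.leaf 1396401584775) (.leaf 3693672539788))) (.node (.node (.leaf 1097364176286) (.leaf 3563749802369)) (.node (.leaf 2675765263386) (.leaf 4119948360977))))) (.node (.node (.node (.node (.node (.leaf 476204612620) (.leaf 4406100625813)) (.leaf 3024731439376)) (.node (.leaf 30601690772) (.leaf 3310883620510))) (.node (.node (.leaf 1833414601617) (.leaf 3458523239708)) (.node (.leaf 2383707459861) (.leaf 4007205442579)))) (.node (.node (.node (.leaf 967441614099) (.leaf 3228742434691)) (.node (.leaf 2333241539593) (.leaf 3549254504343))) (.node (.node (.leaf 617401696003) (.leaf 2434710150790)) (.node (.leaf 2682744613507) (.leaf 4206921469467))))))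
def dF_16 : BT := .node (.node (.node (.node (.node (.node (.node (.leaf 94489303058) (.leaf 4252555507857)) (.leaf 2830384122896)) (.node (.leaf 881005382814) (.leaf 768799837470))) (.node (.node (.leaf 1149440896669) (.leaf 3267934007701)) (.node (.leaf 2366527544349) (.leaf 2661806898590)))) (.node (.node (.node (.node (.leaf 351650552852) (.leaf 4438849758745)) (.leaf 3079492285466)) (.node (.leaf 690416157455) (.leaf 2350958589580))) (.node (.node (.leaf 2004676078107) (.leaf 3504694108181)) (.node (.leaf 2581812817031) (.leaf 4034048960904))))) (.node (.node (.node (.node (.node (.leaf 125627876116) (.leaf 4365834877963)) (.leaf 2805688094231)) (.node (.leaf 17179922974) (.leaf 2565170047116))) (.node (.node (.leaf 1592896375808) (.leaf 3350075301141)) (.node (.leaf 2496987207065) (.leaf 3875135185684)))) (.node (.node (.node (.leaf 756988166419) (.leaf 2950106417300)) (.node (.leaf 346818688261) (.leaf 3713000118036))) (.node (.node (.leaf 2055142081815) (.leaf 2768643952896)) (.node (.leaf 2737505432979) (.leaf 4152697494417)))))) (.node (.node (.node (.node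 (.node (.node (.leaf 205621608452) (.leaf 3744675641367)) (.leaf 2918967844504)) (.node (.leaf 409096117387) (.leaf 3481608694401))) (.node (.node (.leaf 1347009439493) (.leaf 3316252414098)) (.node (.leaf 2424509616667) (.leaf 3899831234585)))) (.node (.node (.node (.leaf 573915023109) (.leaf 3127273767959)) (.node (.leaf 1161789179542) (.leaf 2438468561822))) (.node (.node (.leaf 41876445080) (.leaf 3560528737295)) (.node (.leaf 2670933367446) (.leaf 3760781716737))))) (.node (.node (.node (.node (.node (.leaf 150860836246) (.leaf 4359392855831)) (.leaf 3038153169418)) (.node (.leaf 371514682503) (.leaf 2471217473289))) (.node (.node (.leaf 1826972148865) (.leaf 2489471242114)) (.node (.leaf 2563022344976) (.leaf 4010426668827)))) (.node (.node (.node (.leaf 953482967059) (.leaf 3222836684309)) (.node (.leaf 2330557184665) (.leaf 3795141381893))) (.node (.node (.leaf 447750516126) (.leaf 2434173269250)) (.node (.leaf 2783676342414) (.leaf 4202626489093))))))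
def dF_23 : BT := .node (.node (.node (.node (.node (.node (.node (.leaf 44560296339) (.leaf 4255239863198)) (.leaf 2854006448780)) (.node (.leaf 879931625758) (.leaf 643708992519))) (.node (.node (.leaf 1181653159059) (.leaf 3279208312348)) (.node (.leaf 699543363586) (.leaf 2954401547522)))) (.node (.node (.node (.node (.leaf 342523745410) (.leaf 4443681597831)) (.leaf 3089155964189)) (.node (.leaf 636729053454) (.leaf 3636227553939))) (.node (.node (.leaf 2025077562897) (.leaf 3515431421836)) (.node (.leaf 2634426193305) (.leaf 4056060707227))))) (.node (.node (.node (.node (.node (.leaf 370977835907) (.leaf 3916474346247)) (.leaf 2432562813318)) (.node (.leaf 333934012702) (.leaf 2597382070174))) (.node (.node (.leaf 1635309187869) (.leaf 3386582381186)) (.node (.leaf 2501282175387) (.leaf 3960497662106)))) (.node (.node (.node (.leaf 765578103068) (.leaf 2960306967063)) (.node (.leaf 768262728963) (.leaf 3592741035156))) (.node (.node (.leaf 456877476889) (.leaf 2821794228739)) (.node (.leaf 2549600542742) (.leaf 4155381849625)))))) (.node (.node (.node (.node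 (.node (.node (.leaf 230854497551) (.leaf 4323959344135)) (.leaf 2927020910105)) (.node (.leaf 20938399518) (.leaf 2978023773086))) (.node (.node (.leaf 1367410539015) (.leaf 3328063564807)) (.node (.leaf 2418067164175) (.leaf 3735011861252)))) (.node (.node (.node (.leaf 617401696128) (.leaf 3140158712985)) (.node (.leaf 1504312612363) (.leaf 3696357110419))) (.node (.node (.leaf 936303109406) (.leaf 3293167024385)) (.node (.leaf 2681133973776) (.leaf 4118874618905))))) (.node (.node (.node (.node (.node (.leaf 474593999376) (.leaf 4409321851780)) (.leaf 2843269073943)) (.node (.leaf 339302607262) (.leaf 2407866699268))) (.node (.node (.leaf 1838246440989) (.leaf 3457449359879)) (.node (.leaf 2579665347227) (.leaf 4003984216335)))) (.node (.node (.node (.leaf 982474003340) (.leaf 3228742434585)) (.node (.leaf 2334852152989) (.leaf 3157338739084))) (.node (.node (.leaf 670551986318) (.leaf 2490544790533)) (.node (.leaf 2791729408019) (.leaf 4204773829506))))))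
def dF_32 : BT := .node (.node (.node (.node (.node (.node (.node (.leaf 20937970578) (.leaf 4243965566854)) (.leaf 2831994736019)) (.node (.leaf 210990402334) (.leaf 2467459318538))) (.node (.node (.leaf 1138703475973) (.leaf 2510409164693)) (.node (.leaf 2365453802269) (.leaf 3843996646532)))) (.node (.node (.node (.node (.leaf 129385973399) (.leaf 4423817373057)) (.leaf 2759517220996)) (.node (.leaf 1766842592654) (.leaf 3153043730692))) (.node (.node (.leaf 1989107203340) (.leaf 3505767891215)) (.node (.leaf 2404108566932) (.leaf 3559455110046))))) (.node (.node (.node (.node (.node (.leaf 346281820817) (.leaf 4365298067209)) (.leaf 2802466867988)) (.node (.leaf 82141269147) (.leaf 2738579303326))) (.node (.node (.leaf 1580548324246) (.leaf 3380676825108)) (.node (.leaf 2499134691229) (.leaf 3953518338589)))) (.node (.node (.node (.leaf 745176963845) (.leaf 3172370975376)) (.node (.leaf 1693291260436) (.leaf 3731790316938))) (.node (.node (.leaf 923955165699) (.leaf 2643553184141)) (.node (.leaf 2724083613717) (.leaf 4136054494861)))))) (.node (.node (.node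 (.node (.node (.node (.leaf 195421058578) (.leaf 4297652677004)) (.leaf 2911451649948)) (.node (.leaf 2250026133278) (.leaf 2959233306753))) (.node (.node (.leaf 1330903307797) (.leaf 3319473640345)) (.node (.leaf 2426120229788) (.leaf 3903052460828)))) (.node (.node (.node (.leaf 569620173580) (.leaf 3129958163216)) (.node (.leaf 533112941332) (.leaf 3686156560669))) (.node (.node (.leaf 2105071348884) (.leaf 3559454994837)) (.node (.leaf 2668785939855) (.leaf 4001836755714))))) (.node (.node (.node (.node (.node (.leaf 125627897750) (.leaf 4404489670407)) (.leaf 3032784504985)) (.node (.leaf 45634462878) (.leaf 2590939631496))) (.node (.node (.leaf 20938400155) (.leaf 3453691400344)) (.node (.leaf 2566780442259) (.leaf 4012037281948)))) (.node (.node (.node (.leaf 943819288461) (.leaf 3226058079378)) (.node (.leaf 2329483441926) (.leaf 3788698759812))) (.node (.node (.leaf 2162516357016) (.leaf 2308545720839)) (.node (.leaf 2781528858267) (.leaf 4152160635398))))))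
def dF_39 : BT := .node (.node (.node (.node (.node (.node (.node (.leaf 49929006737) (.leaf 4005594889623)) (.leaf 2848637738264)) (.node (.leaf 143344567695) (.leaf 2349884816286))) (.node (.node (.leaf 1061394068367) (.leaf 2890513732102)) (.node (.leaf 2023467032341) (.leaf 3850439042177)))) (.node (.node (.node (.node (.leaf 478352075413) (.leaf 4442070984454)) (.leaf 3085934738048)) (.node (.leaf 1189706224654) (.leaf 3635153811865))) (.node (.node (.leaf 2022393207709) (.leaf 3117610225182)) (.node (.leaf 2636036806426) (.leaf 4059818760196))))) (.node (.node (.node (.node (.node (.leaf 368830404498) (.leaf 4007742400918)) (.leaf 2985002982417)) (.node (.leaf 47244787230) (.leaf 2598455826206))) (.node (.node (.leaf 1630477327641) (.leaf 3390877477140)) (.node (.leaf 2506114014748) (.leaf 3966403243537)))) (.node (.node (.node (.leaf 763967489939) (.leaf 3182571525137)) (.node (.leaf 2025077517572) (.leaf 3740380535706))) (.node (.node (.leaf 281320562459) (.leaf 2682744541315)) (.node (.leaf 2729989238415) (.leaf 4153234365458)))))) (.node (.node (.node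 (.node (.node (.node (.leaf 231391418259) (.leaf 4325569969307)) (.leaf 2924336555013)) (.node (.leaf 1118302291230) (.leaf 3100967125022))) (.node (.node (.leaf 133681181342) (.leaf 3329674190221)) (.node (.leaf 2419677777296) (.leaf 2615636014468)))) (.node (.node (.node (.leaf 612032872837) (.leaf 3133716260509)) (.node (.leaf 1314797192726) (.leaf 3695283368344))) (.node (.node (.leaf 988379596830) (.leaf 3563213092997)) (.node (.leaf 2678449618578) (.leaf 4104915971869))))) (.node (.node (.node (.node (.node (.leaf 478352096657) (.leaf 3693672925960)) (.leaf 2472828127367)) (.node (.leaf 108984966302) (.leaf 3048890602270))) (.node (.node (.leaf 476741807627) (.leaf 3460133852818)) (.node (.leaf 2381559933449) (.leaf 4005594829456)))) (.node (.node (.node (.leaf 965831000976) (.leaf 3230889918749)) (.node (.leaf 2333778410905) (.leaf 3789235800344))) (.node (.node (.leaf 945430169246) (.leaf 2550674284420)) (.node (.leaf 2788508181786) (.leaf 4205847727368))))))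
def dF_47 : BT := .node (.node (.node (.node (.node (.node (.node (.leaf 41875941137) (.leaf 4248260539548)) (.leaf 2845416404742)) (.node (.leaf 2134598995102) (.leaf 2466385571223))) (.node (.node (.leaf 1149440880537) (.leaf 3264175798150)) (.node (.leaf 2366527544598) (.leaf 2814278235934)))) (.node (.node (.node (.node (.leaf 350576789123) (.leaf 4439923493892)) (.leaf 3079492285457)) (.node (.leaf 1280437430415) (.leaf 3631932416278))) (.node (.node (.leaf 477815592218) (.leaf 3514894698897)) (.node (.leaf 2624225643661) (.leaf 3232500726154))))) (.node (.node (.node (.node (.node (.leaf 245350065282) (.leaf 3153043908873)) (.leaf 2985002982541)) (.node (.leaf 472983564574) (.leaf 2696166399006))) (.node (.node (.leaf 1607391893892) (.leaf 3397856812177)) (.node (.leaf 2494839722897) (.leaf 2989835052043)))) (.node (.node (.node (.leaf 760209392659) (.leaf 3184182134797)) (.node (.leaf 616864825111) (.leaf 3738769922589))) (.node (.node (.leaf 911070387102) (.leaf 3593277666564)) (.node (.leaf 2731062980507) (.leaf 4152697494294)))))) (.node (.node (.node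 (.node (.node (.node (.leaf 213674667655) (.leaf 4312148131206)) (.leaf 2914136005139)) (.node (.leaf 11274317470) (.leaf 3139084867722))) (.node (.node (.leaf 1336808878874) (.leaf 3320547382414)) (.node (.leaf 2422899003544) (.leaf 3900368105617)))) (.node (.node (.node (.leaf 578746981249) (.leaf 3124052541719)) (.node (.leaf 1395327842691) (.leaf 3691525271188))) (.node (.node (.leaf 2174327712259) (.leaf 3559991866757)) (.node (.leaf 2445447643796) (.leaf 4105989714053))))) (.node (.node (.node (.node (.node (.leaf 122943549210) (.leaf 3676493056138)) (.leaf 3027952665618)) (.node (.leaf 109521837342) (.leaf 3570192406790))) (.node (.node (.leaf 1823750924422) (.leaf 3454228247702)) (.node (.leaf 2559264247695) (.leaf 4008816055704)))) (.node (.node (.node (.leaf 966904743172) (.leaf 3225521026438)) (.node (.leaf 2331630926747) (.leaf 3796215124229))) (.node (.node (.leaf 410169531038) (.leaf 2672007109515)) (.node (.leaf 2725694283668) (.leaf 4198868390019))))))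
def dF_54 : BT := .node (.node (.node (.node (.node (.node (.node (.leaf 25232938882) (.leaf 4261145444497)) (.leaf 2854006448667)) (.node (.leaf 89120828160) (.leaf 1121523921950))) (.node (.node (.leaf 1182726651417) (.leaf 3278671441298)) (.node (.leaf 2371359383706) (.leaf 3859565906585)))) (.node (.node (.node (.node (.leaf 46707888149) (.leaf 4443681597834)) (.leaf 3083250382746)) (.node (.leaf 762894048781) (.leaf 3637301296018))) (.node (.node (.leaf 2027225047069) (.leaf 2834141998110)) (.node (.leaf 2635499935375) (.leaf 3745212448645))))) (.node (.node (.node (.node (.node (.leaf 383325922692) (.leaf 4376572571532)) (.leaf 2993056048029)) (.node (.leaf 1694365002267) (.leaf 2507187947661))) (.node (.node (.leaf 1636382930563) (.leaf 3403762393628)) (.node (.leaf 2508798369939) (.leaf 3640522597527)))) (.node (.node (.node (.leaf 767188716552) (.leaf 3176128719622)) (.node (.leaf 694174526982) (.leaf 2573760044683))) (.node (.node (.leaf 1365800046476) (.leaf 2436320762380)) (.node (.leaf 825708115468) (.leaf 4169877367821)))))) (.node (.node (.node (.node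 (.node (.node (.leaf 228170180121) (.leaf 2547453507723)) (.leaf 2922188999299)) (.node (.leaf 17716833676) (.leaf 2633889413790))) (.node (.node (.leaf 472446730392) (.leaf 3334506029469)) (.node (.leaf 2435247037581) (.leaf 3686693484054)))) (.node (.node (.node (.leaf 613643598869) (.leaf 3139621841939)) (.node (.leaf 1569810851200) (.leaf 2486250075019))) (.node (.node (.leaf 468151547269) (.leaf 3580392965889)) (.node (.leaf 2648384847893) (.leaf 4117264005778))))) (.node (.node (.node (.node (.node (.leaf 474057128322) (.leaf 4411469335699)) (.leaf 3028489490582)) (.node (.leaf 1107028203038) (.leaf 3382824450433))) (.node (.node (.leaf 388158108168) (.leaf 3462818208141)) (.node (.leaf 2574833507864) (.leaf 2402498288137)))) (.node (.node (.node (.leaf 991600797450) (.leaf 3235184887055)) (.node (.leaf 1838783430794) (.leaf 1831267586829))) (.node (.node (.leaf 681826492428) (.leaf 2435247007107)) (.node (.leaf 2788508181775) (.leaf 4203163372170))))))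
def dF_64 : BT := .node (.node (.node (.node (.node (.node (.node (.leaf 42412812178) (.leaf 4119411520517)) (.leaf 2840584672659)) (.node (.leaf 409632774026) (.leaf 2521683267464))) (.node (.node (.leaf 1056025354381) (.leaf 3273839589142)) (.node (.leaf 2365453721609) (.leaf 3835406709892)))) (.node (.node (.node (.node (.leaf 443992275719) (.leaf 4422743631126)) (.leaf 2847564049301)) (.node (.leaf 371514759695) (.leaf 3628711359385))) (.node (.node (.leaf 1969242974727) (.leaf 3506841633299)) (.node (.leaf 2581812838933) (.leaf 2615636044426))))) (.node (.node (.node (.node (.node (.leaf 354871757457) (.leaf 4365298426254)) (.leaf 2811056804628)) (.node (.leaf 5905581467) (.leaf 2506651074462))) (.node (.node (.leaf 1575716502921) (.leaf 3381750663702)) (.node (.leaf 2496450336133) (.leaf 3470871388679)))) (.node (.node (.node (.leaf 753230069139) (.leaf 3122978852117)) (.node (.leaf 828392222622) (.leaf 3195456557835))) (.node (.node (.leaf 2247878515481) (.leaf 3339874641801)) (.node (.leaf 2725694270095) (.leaf 2329483875724)))))) (.node (.node (.node (.node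 (.node (.node (.leaf 195421059085) (.leaf 4304095127680)) (.leaf 2920041586588)) (.node (.leaf 1113470536975) (.leaf 1845225966604))) (.node (.node (.leaf 225486099850) (.leaf 3316789285146)) (.node (.leaf 2348810819591) (.leaf 2889977049865)))) (.node (.node (.node (.leaf 562103882907) (.leaf 3129421292184)) (.node (.leaf 1180579388556) (.leaf 3685619689617))) (.node (.node (.leaf 860604539145) (.leaf 3558918124437)) (.node (.leaf 2672544037136) (.leaf 4102231616658))))) (.node (.node (.node (.node (.node (.leaf 447213576326) (.leaf 3014531221123)) (.leaf 3025805181466)) (.node (.leaf 2192581077142) (.leaf 3503620366090))) (.node (.node (.leaf 1756105187077) (.leaf 3454765142428)) (.node (.leaf 2571612254595) (.leaf 4019016605459)))) (.node (.node (.node (.leaf 379567958668) (.leaf 3224984337306)) (.node (.leaf 2328946454548) (.leaf 3511136667650))) (.node (.node (.leaf 1242856339992) (.leaf 2480344204931)) (.node (.leaf 2785823826589) (.leaf 4185446527756))))))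
def dF_71 : BT := .node (.node (.node (.node (.node (.node (.node (.leaf 90194334736) (.leaf 3732864467340)) (.leaf 2849711480348)) (.node (.leaf 593242364825) (.leaf 2331631127198))) (.node (.node (.leaf 1169305125252) (.leaf 3270618285447)) (.node (.leaf 2369211899547) (.leaf 3786551457920)))) (.node (.node (.node (.node (.leaf 493384464533) (.leaf 4440997242896)) (.leaf 3078955407382)) (.node (.leaf 1250372652174) (.leaf 3635690682907))) (.node (.node (.leaf 2020782594305) (.leaf 3511136522241)) (.node (.leaf 2629057482909) (.leaf 4051765736725))))) (.node (.node (.node (.node (.node (.leaf 370441017628) (.leaf 4225711989637)) (.leaf 2821794225431)) (.node (.leaf 181462395166) (.leaf 2607045938846))) (.node (.node (.leaf 227633654934) (.leaf 3394098553734)) (.node (.leaf 2513093338259) (.leaf 3968550727706)))) (.node (.node (.node (.leaf 692026787477) (.leaf 3183645267219)) (.node (.leaf 646393045762) (.leaf 3740380350857))) (.node (.node (.leaf 461172230797) (.leaf 2727305041438)) (.node (.leaf 2731062980497) (.leaf 4154844887425)))))) (.node (.node (.node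 (.node (.node (.node (.leaf 229780805252) (.leaf 4327717453469)) (.leaf 2913062263055)) (.node (.leaf 1864552708254) (.leaf 2695629569546))) (.node (.node (.leaf 1359357473409) (.leaf 2887292555527)) (.node (.leaf 2428267713936) (.leaf 3542275208329)))) (.node (.node (.node (.leaf 603443049092) (.leaf 3142306197149)) (.node (.leaf 1429687492736) (.leaf 3693672755228))) (.node (.node (.leaf 989453118489) (.leaf 3564286834587)) (.node (.leaf 2682207708311) (.leaf 4113505908509))))) (.node (.node (.node (.node (.node (.leaf 475667741469) (.leaf 4408784980505)) (.leaf 3030100149774)) (.node (.leaf 46171337096) (.leaf 2707977496478))) (.node (.node (.leaf 1835025214473) (.leaf 3457449497624)) (.node (.leaf 2392297396501) (.leaf 4014184766096)))) (.node (.node (.node (.leaf 958851677459) (.leaf 2587718567426)) (.node (.leaf 2333778289667) (.leaf 3789772639746))) (.node (.node (.leaf 2239825592845) (.leaf 2645700435870)) (.node (.leaf 2789045052829) (.leaf 4206384598424))))))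
def dF_79 : BT := .node (.node (.node (.node (.node (.node (.node (.leaf 798) (.leaf 4248260414342)) (.leaf 2837363446415)) (.node (.leaf 23622325775) (.leaf 2405182338957))) (.node (.node (.leaf 1149440896659) (.leaf 3266323225748)) (.node (.leaf 2367064415127) (.leaf 3837554088832)))) (.node (.node (.node (.node (.leaf 349503068675) (.leaf 4439386629789)) (.leaf 3080565974423)) (.node (.leaf 1569810920974) (.leaf 2711198971268))) (.node (.node (.leaf 2011118915980) (.leaf 1274532382087)) (.node (.leaf 2619930625929) (.leaf 4047470770688))))) (.node (.node (.node (.node (.node (.leaf 246423807367) (.leaf 4367445910533)) (.leaf 2418067177606)) (.node (.leaf 635655357321) (.leaf 2506650977813))) (.node (.node (.leaf 1599338818585) (.leaf 3395709328026)) (.node (.leaf 2495913464979) (.leaf 2392297726858)))) (.node (.node (.node (.leaf 759135650053) (.leaf 2588792294917)) (.node (.leaf 1899449726592) (.leaf 3738232628231))) (.node (.node (.leaf 890669375771) (.leaf 2794413779456)) (.node (.leaf 2731599851548) (.leaf 4152160623386)))))) (.node (.node (.node (.node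 (.node (.node (.leaf 212064035471) (.leaf 2346126914718)) (.leaf 2910377907864)) (.node (.leaf 884226429726) (.leaf 3381750555136))) (.node (.node (.leaf 1331440171546) (.leaf 3318399898256)) (.node (.leaf 2415919680027) (.leaf 3708705190293)))) (.node (.node (.node (.leaf 519691180289) (.leaf 3076807902339)) (.node (.leaf 1396401611904) (.leaf 3686693268492))) (.node (.node (.leaf 2174327238158) (.leaf 3560528737557)) (.node (.leaf 2677912747652) (.leaf 4103841815565))))) (.node (.node (.node (.node (.node (.leaf 454729770898) (.leaf 3678103668744)) (.leaf 3036542602258)) (.node (.leaf 46171002910) (.leaf 3567508060939))) (.node (.node (.leaf 1828582762257) (.leaf 3450470161943)) (.node (.leaf 2567854184335) (.leaf 4017405992344)))) (.node (.node (.node (.leaf 958314806532) (.leaf 2884071307414)) (.node (.leaf 2327335959316) (.leaf 2836289933197))) (.node (.node (.leaf 453119223326) (.leaf 826245150211)) (.node (.leaf 2780455059348) (.leaf 3922916755331))))))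
def dF_86 : BT := .node (.node (.node (.node (.node (.node (.node (.leaf 39191585938) (.leaf 4255239863069)) (.leaf 2857764545948)) (.node (.leaf 540092271134) (.leaf 2463701441664))) (.node (.node (.leaf 1180579416977) (.leaf 3278134570264)) (.node (.leaf 2371359383305) (.leaf 3856881551493)))) (.node (.node (.node (.node (.leaf 410706259734) (.leaf 4443681598105)) (.leaf 3091840319386)) (.node (.leaf 517006811534) (.leaf 3636764424979))) (.node (.node (.leaf 2025614433936) (.leaf 1701344685726)) (.node (.leaf 2625836256665) (.leaf 4053913223059))))) (.node (.node (.node (.node (.node (.leaf 375272804501) (.leaf 4374961667081)) (.leaf 2988761079820)) (.node (.leaf 518080681222) (.leaf 2388002610956))) (.node (.node (.leaf 1632624833675) (.leaf 3402151780621)) (.node (.leaf 2505040272664) (.leaf 3959960791065)))) (.node (.node (.node (.leaf 766651845149) (.leaf 2521146560533)) (.node (.leaf 1833951186306) (.leaf 3743064890897))) (.node (.node (.leaf 2247878864006) (.leaf 2728378662275)) (.node (.leaf 2668249083396) (.leaf 4161287431181)))))) (.node (.node (.node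 (.node (.node (.node (.leaf 224412045071) (.leaf 3869766564382)) (.leaf 2927020910097)) (.node (.leaf 695248098817) (.leaf 2665027893248))) (.node (.node (.leaf 1279900581516) (.leaf 3335042900613)) (.node (.leaf 1956358179202) (.leaf 3884798804630)))) (.node (.node (.node (.leaf 620086051218) (.leaf 2721936273414)) (.node (.leaf 1503775754519) (.leaf 3696893981465))) (.node (.node (.leaf 889595352192) (.leaf 3571803029249)) (.node (.leaf 2678449562005) (.leaf 4110284682265))))) (.node (.node (.node (.node (.node (.leaf 466004062736) (.leaf 3612605418507)) (.leaf 2892661197187)) (.node (.leaf 530428870558) (.leaf 3506841633438))) (.node (.node (.leaf 1838783312029) (.leaf 2732673766151)) (.node (.leaf 2577517863067) (.leaf 4015258438531)))) (.node (.node (.node (.leaf 13422008461) (.leaf 3229816176659)) (.node (.leaf 2335925895067) (.leaf 3798362608014))) (.node (.node (.leaf 25233094046) (.leaf 2640331629702)) (.node (.leaf 2790118794896) (.leaf 4203700089474))))))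
def dF_95 : BT := .node (.node (.node (.node (.node (.node (.node (.leaf 12348033938) (.leaf 4243965571229)) (.leaf 2838974059536)) (.node (.leaf 469762274718) (.leaf 2759517193118))) (.node (.node (.leaf 1147293412613) (.leaf 3270081491861)) (.node (.leaf 2365990673297) (.leaf 3849902227854)))) (.node (.node (.node (.node (.leaf 127238489218) (.leaf 4438849387272)) (.leaf 3051574998411)) (.node (.leaf 1699733712655) (.leaf 3633542737933))) (.node (.node (.leaf 1996086527245) (.leaf 2524904735110)) (.node (.leaf 2407866664212) (.leaf 4033512090889))))) (.node (.node (.node (.node (.node (.leaf 356482317845) (.leaf 4366372146178)) (.leaf 2965675585813)) (.node (.leaf 82141269144) (.leaf 3033858226048))) (.node (.node (.leaf 1584306439168) (.leaf 3393024972929)) (.node (.leaf 2498060949147) (.leaf 3834332996244)))) (.node (.node (.node (.leaf 11811340292) (.leaf 3119757625877)) (.node (.leaf 47244666244) (.leaf 3733938076292))) (.node (.node (.leaf 1365799806851) (.leaf 3339337648896)) (.node (.leaf 2731599851652) (.leaf 2397666481929)))))) (.node (.node (.node (.node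 (.node (.node (.leaf 197568522139) (.leaf 4316443161741)) (.leaf 2915209747227)) (.node (.leaf 331249433612) (.leaf 3285113717899))) (.node (.node (.leaf 1338419502853) (.leaf 3324842350738)) (.node (.leaf 2417530293148) (.leaf 3901978718749)))) (.node (.node (.node (.leaf 565862076188) (.leaf 3129421252116)) (.node (.leaf 547608465302) (.leaf 3692061842061))) (.node (.node (.leaf 2078764666882) (.leaf 3561065608335)) (.node (.leaf 2637110556053) (.leaf 3195456645897))))) (.node (.node (.node (.node (.node (.leaf 455266642051) (.leaf 4359392855812)) (.leaf 3024194568345)) (.node (.leaf 528281387422) (.leaf 3175592019209))) (.node (.node (.leaf 1775432541194) (.leaf 3452617658259)) (.node (.leaf 2558190505619) (.leaf 4003447345308)))) (.node (.node (.node (.leaf 952409225100) (.leaf 3223910595214)) (.node (.leaf 2330020312980) (.leaf 3788698929308))) (.node (.node (.leaf 751619361048) (.leaf 2361158864407)) (.node (.leaf 2784750084494) (.leaf 4199405274909))))))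
def dF_102 : BT := .node (.node (.node (.node (.node (.node (.node (.leaf 31675391376) (.leaf 4253092091530)) (.leaf 2851858964494)) (.node (.leaf 2118492925086) (.leaf 2610267031454))) (.node (.node (.leaf 1174136964611) (.leaf 3280818923149)) (.node (.leaf 2370285641619) (.leaf 3850439061896)))) (.node (.node (.node (.node (.leaf 40802285847) (.leaf 4442070984450)) (.leaf 3093450932497)) (.node (.leaf 700079836174) (.leaf 2825552476294))) (.node (.node (.leaf 1961726795017) (.leaf 3112778161676)) (.node (.leaf 2627446869786) (.leaf 4059818804508))))) (.node (.node (.node (.node (.node (.leaf 368293480725) (.leaf 2724084050441)) (.leaf 2981781756175)) (.node (.leaf 28991036185) (.leaf 2390149912324))) (.node (.node (.leaf 1633161703699) (.leaf 3340411622421)) (.node (.leaf 2509872112027) (.leaf 3961034533149)))) (.node (.node (.node (.leaf 765041230484) (.leaf 3178813427854)) (.node (.leaf 1836098985476) (.leaf 3741991148818))) (.node (.node (.leaf 2222108795034) (.leaf 2737505374356)) (.node (.leaf 2730526066197) (.leaf 4154308107525)))))) (.node (.node (.node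 (.node (.node (.node (.leaf 224948965777) (.leaf 4323422485145)) (.leaf 2927020910109)) (.node (.leaf 1119913017374) (.leaf 2977486902046))) (.node (.node (.leaf 1351841161484) (.leaf 3331284742019)) (.node (.leaf 2426657100815) (.leaf 3798362633622)))) (.node (.node (.node (.leaf 607738017308) (.leaf 3136937486747)) (.node (.leaf 1388885365120) (.leaf 2691334762249))) (.node (.node (.leaf 222801651870) (.leaf 3565897447705)) (.node (.leaf 2676302134147) (.leaf 4111895295386))))) (.node (.node (.node (.node (.node (.leaf 470299031058) (.leaf 4409321851539)) (.leaf 2763812029062)) (.node (.leaf 30064875779) (.leaf 2617246402050))) (.node (.node (.leaf 1837172696724) (.leaf 3459596822787)) (.node (.leaf 2575370379020) (.leaf 4012574152975)))) (.node (.node (.node (.leaf 976568398875) (.leaf 3229816176667)) (.node (.leaf 1967632449028) (.leaf 3789235741462))) (.node (.node (.leaf 1337882801435) (.leaf 2925947061015)) (.node (.leaf 2787971310745) (.leaf 4205310812800))))))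
def dF_110 : BT := .node (.node (.node (.node (.node (.node (.node (.leaf 19864228496) (.leaf 4258997960452)) (.leaf 2831457655810)) (.node (.leaf 97173699742) (.leaf 3225521289345))) (.node (.node (.leaf 1153198984217) (.leaf 2942053376771)) (.node (.leaf 2368138156950) (.leaf 3834869838749)))) (.node (.node (.node (.node (.leaf 403190172308) (.leaf 4414153697157)) (.leaf 2856153985942)) (.node (.leaf 1450625550094) (.leaf 3433290348425))) (.node (.node (.leaf 22549059215) (.leaf 3512210343706)) (.node (.leaf 2632815580300) (.leaf 4048007641616))))) (.node (.node (.node (.node (.node (.leaf 362924755995) (.leaf 4370667135902)) (.leaf 2985539853468)) (.node (.leaf 30601649304) (.leaf 2690797768077))) (.node (.node (.leaf 1615981830533) (.leaf 3396246199054)) (.node (.leaf 2493765980815) (.leaf 3958887049101)))) (.node (.node (.node (.leaf 761283134739) (.leaf 3180960912029)) (.node (.leaf 826781353988) (.leaf 3738769922710))) (.node (.node (.leaf 913217890442) (.leaf 2491081714206)) (.node (.leaf 2730526109464) (.leaf 4151086785026)))))) (.node (.node (.node (.node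 (.node (.node (.leaf 215822158080) (.leaf 3873524660357)) (.leaf 2917894102416)) (.node (.leaf 2250563004062) (.leaf 3255048977152))) (.node (.node (.leaf 1308354613657) (.leaf 3324305285890)) (.node (.leaf 2429878327059) (.leaf 3898757248905)))) (.node (.node (.node (.leaf 587336917889) (.leaf 3135863744781)) (.node (.leaf 548682203166) (.leaf 3695283368452))) (.node (.node (.leaf 90194756507) (.leaf 1845763044871)) (.node (.leaf 2676839005468) (.leaf 4114579650693))))) (.node (.node (.node (.node (.node (.leaf 467614675981) (.leaf 4406100625687)) (.leaf 3033321376016)) (.node (.leaf 461708995584) (.leaf 2624225713921))) (.node (.node (.leaf 1831803988509) (.leaf 3461207594895)) (.node (.leaf 2386391815062) (.leaf 4015795379219)))) (.node (.node (.node (.leaf 975494679813) (.leaf 2901251152774)) (.node (.leaf 2332167797787) (.leaf 3796751660299))) (.node (.node (.leaf 498753246494) (.leaf 2548526918174)) (.node (.leaf 2787434439811) (.leaf 4204237114373))))))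
def dF_117 : BT := .node (.node (.node (.node (.node (.node (.node (.leaf 43486554247) (.leaf 4265440331268)) (.leaf 2855080190739)) (.node (.leaf 493384482206) (.leaf 2386391815198))) (.node (.node (.leaf 1185947848330) (.leaf 2463164526087)) (.node (.leaf 2369748771209) (.leaf 3859029035534)))) (.node (.node (.node (.node (.leaf 499290045461) (.leaf 4444218469139)) (.leaf 3085934737945)) (.node (.leaf 1903744707855) (.leaf 3128884542594))) (.node (.node (.leaf 478352466184) (.leaf 2019172290846)) (.node (.leaf 2632278709138) (.leaf 4047470772374))))) (.node (.node (.node (.node (.node (.leaf 390305246096) (.leaf 4376572718083)) (.leaf 2991982305945)) (.node (.leaf 651224809502) (.leaf 2942590246686))) (.node (.node (.leaf 1640141026836) (.leaf 3402688651544)) (.node (.leaf 2512556467216) (.leaf 3956202693774)))) (.node (.node (.node (.leaf 769873071379) (.leaf 3182571472661)) (.node (.leaf 1696512487176) (.leaf 3744138632984))) (.node (.node (.leaf 138512875418) (.leaf 2822331007115)) (.node (.leaf 2746095369740) (.leaf 4171487980829)))))) (.node (.node (.node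 (.node (.node (.node (.leaf 238370741889) (.leaf 3723200807552)) (.leaf 2725157329538)) (.node (.leaf 392452724382) (.leaf 2813741058182))) (.node (.node (.leaf 1376537027482) (.leaf 3335579771545)) (.node (.leaf 2434710166428) (.leaf 3906810558094)))) (.node (.node (.node (.leaf 119722361498) (.leaf 3141769326097)) (.node (.leaf 1572495201429) (.leaf 3698504594049))) (.node (.node (.leaf 903017122312) (.leaf 2701535282078)) (.node (.leaf 2492692274695) (.leaf 4108674069138))))) (.node (.node (.node (.node (.node (.leaf 471372767642) (.leaf 4412006016136)) (.leaf 3024194522398)) (.node (.leaf 710817376670) (.leaf 2525978286337))) (.node (.node (.leaf 1831803990663) (.leaf 3471408144780)) (.node (.leaf 2574296636818) (.leaf 4010963540876)))) (.node (.node (.node (.leaf 994822036869) (.leaf 2524904669975)) (.node (.leaf 2336462766106) (.leaf 3799973221149))) (.node (.node (.leaf 1338956234117) (.leaf 2440078902919)) (.node (.leaf 2789581867031) (.leaf 4208532082693))))))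
def dF_128 : BT := .node (.node (.node (.node (.node (.node (.node (.leaf 18) (.leaf 4247723668494)) (.leaf 2844879640979)) (.node (.leaf 926102326657) (.leaf 2580202397697))) (.node (.node (.leaf 1122060476293) (.leaf 3273302730895)) (.node (.leaf 2364380060185) (.leaf 3686156595991)))) (.node (.node (.node (.node (.leaf 356482392212) (.leaf 3123516024075)) (.leaf 2848100920342)) (.node (.leaf 1770063818905) (.leaf 3629248230426))) (.node (.node (.leaf 1976759169298) (.leaf 3484829926421)) (.node (.leaf 2616172570388) (.leaf 2424510002443))))) (.node (.node (.node (.node (.node (.leaf 344671207698) (.leaf 4364761555224)) (.leaf 2814278030868)) (.node (.leaf 169651458562) (.leaf 3063386023454))) (.node (.node (.leaf 1560147246084) (.leaf 2905009311253)) (.node (.leaf 2323577901453) (.leaf 3680787915030)))) (.node (.node (.node (.leaf 749471971973) (.leaf 3173444717465)) (.node (.leaf 331786662024) (.leaf 3730179985934))) (.node (.node (.leaf 28991563163) (.leaf 3240553552777)) (.node (.leaf 2725694270097) (.leaf 3551402070558)))))) (.node (.node (.node (.node (.node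 (.node (.leaf 192736703501) (.leaf 4305168869775)) (.leaf 2814814888194)) (.node (.leaf 1060320318089) (.leaf 3323231778570))) (.node (.node (.leaf 1327145211019) (.leaf 3321084253466)) (.node (.leaf 2427730843012) (.leaf 3903589331864)))) (.node (.node (.node (.leaf 551366558096) (.leaf 3129958163227)) (.node (.leaf 1061930668161) (.leaf 3681861592339))) (.node (.node (.leaf 861677906561) (.leaf 3559454994314)) (.node (.leaf 2672007166099) (.leaf 3730716945540))))) (.node (.node (.node (.node (.node (.leaf 137439060630) (.leaf 4402879397655)) (.leaf 3030100149786)) (.node (.leaf 527744520734) (.leaf 2493229109768))) (.node (.node (.leaf 229244313108) (.leaf 2785823986183)) (.node (.leaf 2395518622725) (.leaf 3708168347399)))) (.node (.node (.node (.leaf 221727910150) (.leaf 3225521208349)) (.node (.leaf 636192585996) (.leaf 3787625187229))) (.node (.node (.leaf 751082608414) (.leaf 2809983023234)) (.node (.leaf 2785823826577) (.leaf 4183835621641))))))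
def dF_135 : BT := .node (.node (.node (.node (.node (.node (.node (.leaf 92341818896) (.leaf 3703873437214)) (.leaf 2852395835539)) (.node (.leaf 421980571162) (.leaf 2516851634696))) (.node (.node (.leaf 1165010156933) (.leaf 2507724671366)) (.node (.leaf 2361158835840) (.leaf 3691525306517)))) (.node (.node (.node (.node (.leaf 478351988116) (.leaf 4441534113949)) (.leaf 2761664704770)) (.node (.leaf 1265941912335) (.leaf 2787434641920))) (.node (.node (.leaf 2019708463745) (.leaf 3514357827854)) (.node (.leaf 2633352451229) (.leaf 3932580396421))))) (.node (.node (.node (.node (.node (.leaf 373125369741) (.leaf 4367445908620)) (.leaf 2984466111384)) (.node (.leaf 856309147934) (.leaf 2451353259396))) (.node (.node (.leaf 1624571767168) (.leaf 3394635574423)) (.node (.leaf 2510408983173) (.leaf 3874061447180)))) (.node (.node (.node (.leaf 691489916310) (.leaf 3179887169945)) (.node (.leaf 1899986236553) (.leaf 3740917406341))) (.node (.node (.leaf 748398159489) (.leaf 2914136022174)) (.node (.leaf 2735357948817) (.leaf 4149476268177)))))) (.node (.node (.node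 (.node (.node (.node (.leaf 225485836932) (.leaf 4276714716821)) (.leaf 2917357231375)) (.node (.leaf 346282204808) (.leaf 3355980871041))) (.node (.node (.leaf 1355062505088) (.leaf 3315178478210)) (.node (.leaf 2416993422099) (.leaf 3542812079237)))) (.node (.node (.node (.leaf 599148080772) (.leaf 2870649516183)) (.node (.leaf 1395864713986) (.leaf 3677566627846))) (.node (.node (.leaf 133680886426) (.leaf 3564286423683)) (.node (.leaf 2678986489624) (.leaf 4117800876829))))) (.node (.node (.node (.node (.node (.leaf 435402423960) (.leaf 3676493056520)) (.leaf 3034395118094)) (.node (.leaf 370441012638) (.leaf 3182034702110))) (.node (.node (.leaf 1833951472669) (.leaf 3457986368667)) (.node (.leaf 2388002428181) (.leaf 4018479734416)))) (.node (.node (.node (.leaf 963146645779) (.leaf 3233037403008)) (.node (.leaf 2333241539859) (.leaf 3797825592969))) (.node (.node (.leaf 619012262533) (.leaf 2415382813463)) (.node (.leaf 2793340021149) (.leaf 4203163372188))))))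
def dF_143 : BT := .node (.node (.node (.node (.node (.node (.node (.leaf 7516213150) (.leaf 3625490282634)) (.leaf 2841658414735)) (.node (.leaf 1806033966750) (.leaf 2359011621918))) (.node (.node (.leaf 1145145928349) (.leaf 3213173187223)) (.node (.leaf 2367064415379) (.leaf 2621004708254)))) (.node (.node (.node (.node (.leaf 442381715334) (.leaf 4439386629766)) (.leaf 3080029156505)) (.node (.leaf 645318990094) (.leaf 3630321972509))) (.node (.node (.leaf 2006823947655) (.leaf 3504157272340)) (.node (.leaf 1828582950918) (.leaf 3553012657822))))) (.node (.node (.node (.node (.node (.leaf 344671154947) (.leaf 4365835297308)) (.leaf 2809983062551)) (.node (.leaf 30601649295) (.leaf 2452963952908))) (.node (.node (.leaf 1597191344128) (.leaf 3396246199069)) (.node (.leaf 2492692238745) (.leaf 3954591950088)))) (.node (.node (.node (.leaf 378494173701) (.leaf 3172907793941)) (.node (.leaf 617401554060) (.leaf 3738233051535))) (.node (.node (.leaf 2101849869978) (.leaf 3441343366411)) (.node (.leaf 2735894819868) (.leaf 4152697494429)))))) (.node (.node (.node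 (.node (.node (.node (.leaf 209916576772) (.leaf 3255049369611)) (.leaf 2914672876184)) (.node (.leaf 346818701726) (.leaf 2469069947904))) (.node (.node (.leaf 114890696094) (.leaf 3322694866576)) (.node (.leaf 2420214648347) (.leaf 3730716897812)))) (.node (.node (.node (.leaf 575525738248) (.leaf 2705293271175)) (.node (.leaf 525596877955) (.leaf 3686693354116))) (.node (.node (.leaf 2114198155524) (.leaf 3554623157505)) (.node (.leaf 2668785883286) (.leaf 4102768487698))))) (.node (.node (.node (.node (.node (.leaf 459024739218) (.leaf 4406100144264)) (.leaf 2572685981448)) (.node (.leaf 126701542558) (.leaf 2507724599435))) (.node (.node (.leaf 1828045878657) (.leaf 2782065888903)) (.node (.leaf 2558727376656) (.leaf 4006131700507)))) (.node (.node (.node (.leaf 955630451217) (.leaf 2518462217492)) (.node (.leaf 2330020313862) (.leaf 2611877892352))) (.node (.node (.leaf 449897998878) (.leaf 2434173290891)) (.node (.leaf 2544768786453) (.leaf 4200479016976))))))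
def dF_150 : BT := .node (.node (.node (.node (.node (.node (.node (.leaf 48318393618) (.leaf 4255239863055)) (.leaf 2858301413645)) (.node (.leaf 2016487613854) (.leaf 2577517686664))) (.node (.node (.leaf 1179505674899) (.leaf 3278671441307)) (.node (.leaf 2370822512669) (.leaf 3030100346119)))) (.node (.node (.node (.node (.leaf 41876039189) (.leaf 4443681598081)) (.leaf 3084860995869)) (.node (.leaf 635655311375) (.leaf 2964602043139))) (.node (.node (.leaf 2022930079363) (.leaf 2580739161997)) (.node (.leaf 2630131224985) (.leaf 4056597578264))))) (.node (.node (.node (.node (.node (.leaf 374199062407) (.leaf 4375498976025)) (.leaf 2817499257108)) (.node (.leaf 616864970774) (.leaf 2743948000780))) (.node (.node (.leaf 1636382929665) (.leaf 3386582372742)) (.node (.leaf 2509335240984) (.leaf 3964792630426)))) (.node (.node (.node (.leaf 760209394069) (.leaf 3179887157524)) (.node (.leaf 768799342848) (.leaf 3633543224714))) (.node (.node (.leaf 368830667137) (.leaf 2641405581827)) (.node (.leaf 2643553021575) (.leaf 4156992462860)))))) (.node (.node (.node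 (.node (.node (.node (.leaf 228707013391) (.leaf 4323959344023)) (.leaf 2927020910099)) (.node (.leaf 331786254982) (.leaf 2869038784000))) (.node (.node (.leaf 1371705211404) (.leaf 2847027239426)) (.node (.leaf 637803222914) (.leaf 3735548731917)))) (.node (.node (.node (.leaf 620622922269) (.leaf 3135863744665)) (.node (.leaf 1319629031829) (.leaf 646393459463))) (.node (.node (.leaf 958314806406) (.leaf 3567508060929)) (.node (.leaf 2680597102735) (.leaf 4114579650585))))) (.node (.node (.node (.node (.node (.leaf 470299031056) (.leaf 4408784980886)) (.leaf 3034931943061)) (.node (.leaf 1513976355614) (.leaf 2856153957910))) (.node (.node (.leaf 1837709569559) (.leaf 3457449485463)) (.node (.leaf 2575907249948) (.leaf 4017942841246)))) (.node (.node (.node (.leaf 986768968461) (.leaf 3234111144979)) (.node (.leaf 2331630927744) (.leaf 3798362544386))) (.node (.node (.leaf 2017024176780) (.leaf 2877628800670)) (.node (.leaf 2787434439699) (.leaf 4204237114249))))))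
def dF_159 : BT := .node (.node (.node (.node (.node (.node (.node (.leaf 16643002258) (.leaf 4243965571217)) (.leaf 2843269027856)) (.node (.leaf 75698798618) (.leaf 2521146418053))) (.node (.node (.leaf 1142998444293) (.leaf 3271155052034)) (.node (.leaf 2364916851460) (.leaf 3848291614852)))) (.node (.node (.node (.node (.leaf 439160436359) (.leaf 4438312887705)) (.leaf 3079492285572)) (.node (.leaf 1771137560974) (.leaf 3626026824205))) (.node (.node (.leaf 1993402171661) (.leaf 3482145571222)) (.node (.leaf 2405719180052) (.leaf 4042102022021))))) (.node (.node (.node (.node (.node (.leaf 138512781076) (.leaf 4366909039377)) (.leaf 2966212456734)) (.node (.leaf 91804947865) (.leaf 2897492923650))) (.node (.node (.leaf 1580548342164) (.leaf 3388730004609)) (.node (.leaf 2494839722909) (.leaf 3424700490379)))) (.node (.node (.node (.leaf 646929628677) (.leaf 3171834104335)) (.node (.leaf 1696512279556) (.leaf 2633889584393))) (.node (.node (.leaf 1366336797077) (.leaf 2645163609101)) (.node (.leaf 2546379386004) (.leaf 3744675597190)))))) (.node (.node (.node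 (.node (.node (.node (.leaf 191126090258) (.leaf 4312148193421)) (.leaf 2919504715547)) (.node (.leaf 109522149130) (.leaf 2523293888010))) (.node (.node (.leaf 1334124534533) (.leaf 3315178672025)) (.node (.leaf 2421825261468) (.leaf 3901978452874)))) (.node (.node (.node (.leaf 570157044508) (.leaf 3129958163214)) (.node (.leaf 1107027947650) (.leaf 3687767173900))) (.node (.node (.leaf 1970316762767) (.leaf 3554086286474)) (.node (.leaf 2639258040213) (.leaf 4100621003539))))) (.node (.node (.node (.node (.node (.leaf 435402413447) (.leaf 4404490012179)) (.leaf 3028489536665)) (.node (.leaf 1103269818757) (.leaf 2592013331336))) (.node (.node (.leaf 1824287793937) (.leaf 3454228259220)) (.node (.leaf 2562485473939) (.leaf 4007742313628)))) (.node (.node (.node (.leaf 948114256781) (.leaf 3224984337296)) (.node (.leaf 2330020313615) (.leaf 3541201438868))) (.node (.node (.leaf 2164126657178) (.leaf 2800856358814)) (.node (.leaf 2781528858265) (.leaf 4202626501145))))))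
def dF_166 : BT := .node (.node (.node (.node (.node (.node (.node (.leaf 35433488657) (.leaf 3047817182603)) (.leaf 2848100867219)) (.node (.leaf 841277202186) (.leaf 2316061919774))) (.node (.node (.leaf 1096827552525) (.leaf 3276523957260)) (.node (.leaf 2032593837956) (.leaf 3678103536130)))) (.node (.node (.node (.node (.leaf 479425817475) (.leaf 4442070984471)) (.leaf 3090229706368)) (.node (.leaf 761283134735) (.leaf 3634616747783))) (.node (.node (.leaf 2023466949505) (.leaf 2459406451085)) (.node (.leaf 2631741838106) (.leaf 4059818804498))))) (.node (.node (.node (.node (.node (.leaf 368830404496) (.leaf 4374425198721)) (.leaf 2986076724495)) (.node (.leaf 1317481554206) (.leaf 2898029995145))) (.node (.node (.leaf 1632087943821) (.leaf 2863133382150)) (.node (.leaf 2501819046428) (.leaf 3956739564829)))) (.node (.node (.node (.leaf 763430619268) (.leaf 3178276556817)) (.node (.leaf 1961189878932) (.leaf 3640522546049))) (.node (.node (.leaf 110595613083) (.leaf 2883534366208)) (.node (.leaf 2732673550358) (.leaf 4153771236495)))))) (.node (.node (.node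 (.node (.node (.node (.leaf 229243934097) (.leaf 4321275000987)) (.leaf 2917357233933)) (.node (.leaf 14495518105) (.leaf 2869038840094))) (.node (.node (.leaf 1355599376007) (.leaf 3331821674259)) (.node (.leaf 2415382808976) (.leaf 3779035280771)))) (.node (.node (.node (.leaf 609348630428) (.leaf 3141232455067)) (.node (.leaf 1324997756182) (.leaf 3693135884185))) (.node (.node (.leaf 957777734665) (.leaf 3563213093129)) (.node (.leaf 2675765263374) (.leaf 4116190263706))))) (.node (.node (.node (.node (.node (.leaf 474593999378) (.leaf 4409858722589)) (.leaf 2857227686918)) (.node (.leaf 22011718549) (.leaf 2906082514061))) (.node (.node (.leaf 1836635827971) (.leaf 3458523239697)) (.node (.leaf 2382096846731) (.leaf 4016869121295)))) (.node (.node (.node (.leaf 961536032656) (.leaf 3234111144987)) (.node (.leaf 2334315281939) (.leaf 3789235800456))) (.node (.node (.leaf 1856500118913) (.leaf 2925946955010)) (.node (.leaf 2792266279065) (.leaf 4053913259405))))))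
def dF_174 : BT := .node (.node (.node (.node (.node (.node (.node (.leaf 24159196816) (.leaf 4254702992132)) (.leaf 2830383888006)) (.node (.leaf 14495518095) (.leaf 3178276605185))) (.node (.node (.leaf 1074278966425) (.leaf 3209951960983)) (.node (.leaf 2368138157457) (.leaf 3837554193946)))) (.node (.node (.node (.node (.leaf 443455404675) (.leaf 4437776017292)) (.leaf 3078955414414)) (.node (.leaf 1503238912015) (.leaf 3132105766537))) (.node (.node (.leaf 2015950284056) (.leaf 3512747214749)) (.node (.leaf 2628520611981) (.leaf 4048007641628))))) (.node (.node (.node (.node (.node (.leaf 126701618179) (.leaf 4356708493589)) (.leaf 2987150466579)) (.node (.leaf 30601649306) (.leaf 2606508849310))) (.node (.node (.leaf 1611686862213) (.leaf 3397319941136)) (.node (.leaf 2498060949135) (.leaf 3705483922051)))) (.node (.node (.node (.leaf 760746263699) (.leaf 3184182138265)) (.node (.leaf 331249435397) (.leaf 3451543984778))) (.node (.node (.leaf 912144128286) (.leaf 3612604961932)) (.node (.leaf 2734821077784) (.leaf 4152160197773)))))) (.node (.node (.node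 (.node (.node (.node (.leaf 122943490060) (.leaf 4312148193307)) (.leaf 2909841036819)) (.node (.leaf 383862816908) (.leaf 2643016093953))) (.node (.node (.leaf 1294932958875) (.leaf 3316252414094)) (.node (.leaf 2418604035224) (.leaf 3898757456007)))) (.node (.node (.node (.leaf 583041949569) (.leaf 2404645388171)) (.node (.leaf 1066762765453) (.leaf 3408057350281))) (.node (.node (.leaf 2174327712406) (.leaf 3562139350425)) (.node (.leaf 2681133973788) (.leaf 4110284682373))))) (.node (.node (.node (.node (.node (.leaf 464393375883) (.leaf 4407711063945)) (.leaf 3023657697298)) (.node (.leaf 22011804446) (.leaf 3333432174472))) (.node (.node (.leaf 1831267117457) (.leaf 3457986368768)) (.node (.leaf 2390686783382) (.leaf 4004521087384)))) (.node (.node (.node (.leaf 971199711493) (.leaf 2700461287815)) (.node (.leaf 2326799088651) (.leaf 3796751995140))) (.node (.node (.leaf 49392307712) (.leaf 2621004604301)) (.node (.leaf 2727841767828) (.leaf 4154308118147))))))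
def dF_181 : BT := .node (.node (.node (.node (.node (.node (.node (.leaf 44560307212) (.leaf 3747896852609)) (.leaf 2854543319704)) (.node (.leaf 114890407454) (.leaf 2332704856478))) (.node (.node (.leaf 1184337514258) (.leaf 3277060828177)) (.node (.leaf 2371359383695) (.leaf 2938832292353)))) (.node (.node (.node (.node (.leaf 47244737415) (.leaf 3732864510730)) (.leaf 3090229706265)) (.node (.leaf 1961726780174) (.leaf 3637301030017))) (.node (.node (.leaf 2023466950679) (.leaf 2593087249803)) (.node (.leaf 2634426144279) (.leaf 4053913222790))))) (.node (.node (.node (.node (.node (.leaf 387620891012) (.leaf 4353487268884)) (.leaf 2992519176986)) (.node (.leaf 438623584030) (.leaf 2564633131010))) (.node (.node (.leaf 1639067283733) (.leaf 3403225522587)) (.node (.leaf 2504503401619) (.leaf 3874061444868)))) (.node (.node (.node (.leaf 768262458500) (.leaf 2381023251969)) (.node (.leaf 1829119379078) (.leaf 2825015631624))) (.node (.node (.leaf 841276944406) (.leaf 2445447755271)) (.node (.leaf 2741800401421) (.leaf 4171487980811)))))) (.node (.node (.node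 (.node (.node (.node (.leaf 234075773569) (.leaf 4329328066693)) (.leaf 2923262722050)) (.node (.leaf 694711229320) (.leaf 2646774370567))) (.node (.node (.leaf 1375463604486) (.leaf 3335042900506)) (.node (.leaf 2437394521619) (.leaf 2808909542923)))) (.node (.node (.node (.leaf 613106727696) (.leaf 3135326873619)) (.node (.leaf 1574642688267) (.leaf 3697967723537))) (.node (.node (.leaf 905164609024) (.leaf 2688113510174)) (.node (.leaf 2677375868948) (.leaf 4112969037458))))) (.node (.node (.node (.node (.node (.leaf 472446515203) (.leaf 4410932464903)) (.leaf 2832531653140)) (.node (.leaf 531502611980) (.leaf 2525441386636))) (.node (.node (.leaf 1840393922966) (.leaf 3467113176461)) (.node (.leaf 2578591605138) (.leaf 4013647873932)))) (.node (.node (.node (.leaf 993211423493) (.leaf 3230889918735)) (.node (.leaf 1963337482389) (.leaf 3784403964679))) (.node (.node (.leaf 2171106107405) (.leaf 3188477043991)) (.node (.leaf 2791729351191) (.leaf 4153234377611))))))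
def dF_191 : BT := .node (.node (.node (.node (.node (.node (.node (.leaf 24696067859) (.leaf 4247723221516)) (.leaf 2836289704339)) (.node (.leaf 925565653406) (.leaf 2522757026188))) (.node (.node (.leaf 470299189896) (.leaf 3272765665158)) (.node (.leaf 2023467031301) (.leaf 3839701678212)))) (.node (.node (.node (.node (.leaf 353261091606) (.leaf 4438312533897)) (.leaf 3069291587079)) (.node (.leaf 1825361536014) (.leaf 3156264957061))) (.node (.node (.leaf 1985885955609) (.leaf 3506304762256)) (.node (.leaf 2522220159874) (.leaf 4042638931202))))) (.node (.node (.node (.node (.node (.leaf 350576789137) (.leaf 4365298426264)) (.leaf 2806761836308)) (.node (.leaf 44560296347) (.leaf 2684355203998))) (.node (.node (.leaf 227633643276) (.leaf 3381750567188)) (.node (.leaf 2346663352461) (.leaf 3953518338579)))) (.node (.node (.node (.leaf 748935100819) (.leaf 3172907846419)) (.node (.leaf 819802303497) (.leaf 3730716749705))) (.node (.node (.leaf 2247878827160) (.leaf 3339337848844)) (.node (.leaf 2725157355798) (.leaf 4147328663435)))))) (.node (.node (.node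 (.node (.node (.node (.leaf 107374230298) (.leaf 4304631855884)) (.leaf 2915746618268)) (.node (.leaf 12884923422) (.leaf 3023657756556))) (.node (.node (.leaf 1266478798605) (.leaf 3323768608665)) (.node (.leaf 2430415198108) (.leaf 3903052460814)))) (.node (.node (.node (.leaf 565325205255) (.leaf 3131031905298)) (.node (.leaf 1545114825758) (.leaf 1129577277703))) (.node (.node (.leaf 2016487660702) (.leaf 3559454995226)) (.node (.leaf 2673080908175) (.leaf 3901978766086))))) (.node (.node (.node (.node (.node (.leaf 129922866070) (.leaf 2348811290253)) (.leaf 3037079473305)) (.node (.leaf 205084797854) (.leaf 2596845220491))) (.node (.node (.leaf 20938400025) (.leaf 3454228271387)) (.node (.leaf 2571075410579) (.leaf 4016332250268)))) (.node (.node (.node (.leaf 929860643733) (.leaf 3224447466265)) (.node (.leaf 2329483442585) (.leaf 2831994963980))) (.node (.node (.leaf 1232655718168) (.leaf 1902134326430)) (.node (.leaf 2781528858269) (.leaf 4202089630213))))))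
def dF_198 : BT := .node (.node (.node (.node (.node (.node (.node (.leaf 45634038417) (.leaf 4019016662400)) (.leaf 2849174609307)) (.node (.leaf 195957965445) (.leaf 2849711240199))) (.node (.node (.leaf 1170378845595) (.leaf 2943663940358)) (.node (.leaf 635655724806) (.leaf 3853123141004)))) (.node (.node (.node (.node (.leaf 345744971394) (.leaf 4441534113416)) (.leaf 3081639769728)) (.node (.leaf 1251446394254) (.leaf 3635153811857))) (.node (.node (.leaf 2021856336657) (.leaf 3518652796293)) (.node (.leaf 2624762514589) (.leaf 4055523836292))))) (.node (.node (.node (.node (.node (.leaf 372588501777) (.leaf 4069482555780)) (.leaf 2983929240339)) (.node (.leaf 24) (.leaf 2446521333377))) (.node (.node (.leaf 1555315420556) (.leaf 2480344422402)) (.node (.leaf 2510408983068) (.leaf 3966403231490)))) (.node (.node (.node (.leaf 763430618899) (.leaf 3182034654098)) (.node (.leaf 1904281592598) (.leaf 3740917406737))) (.node (.node (.leaf 1059783675650) (.leaf 2641942335234)) (.node (.leaf 2734284206735) (.leaf 4154844978589)))))) (.node (.node (.node (.node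 (.node (.node (.leaf 24696117518) (.leaf 4323422485149)) (.leaf 2909304134914)) (.node (.leaf 136902150174) (.leaf 2789581851010))) (.node (.node (.leaf 1363115570562) (.leaf 3318936707587)) (.node (.leaf 2423972745616) (.leaf 3904663073939)))) (.node (.node (.node (.leaf 607738017413) (.leaf 3138011228829)) (.node (.leaf 1322850243350) (.leaf 3695283367681))) (.node (.node (.leaf 445602963461) (.leaf 3564823705617)) (.node (.leaf 2681670844814) (.leaf 4109210940189))))) (.node (.node (.node (.node (.node (.leaf 478888957465) (.leaf 4409321851655)) (.leaf 3025805181454)) (.node (.leaf 1104880699678) (.leaf 3335042900638))) (.node (.node (.leaf 1835562085777) (.leaf 3460670723857)) (.node (.leaf 2558190463383) (.leaf 4009889797776)))) (.node (.node (.node (.leaf 972273453456) (.leaf 3235184887069)) (.node (.leaf 2333778410897) (.leaf 3789772635159))) (.node (.node (.leaf 2049773450651) (.leaf 826781784966)) (.node (.leaf 2792803150106) (.leaf 4206921428103))))))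
def dF_206 : BT := .node (.node (.node (.node (.node (.node (.node (.leaf 6442467486) (.leaf 4248260539538)) (.leaf 2833068478095)) (.node (.leaf 24696067855) (.leaf 2404645585281))) (.node (.node (.leaf 1145145928339) (.leaf 2503429841174)) (.node (.leaf 2367601286415) (.leaf 3837554193936)))) (.node (.node (.node (.node (.leaf 128312252935) (.leaf 4439923500815)) (.leaf 3079492285459)) (.node (.leaf 700616707214) (.leaf 3631932585619))) (.node (.node (.leaf 230854972295) (.leaf 3512210343812)) (.node (.leaf 2414309116054) (.leaf 4051765739008))))) (.node (.node (.node (.node (.node (.leaf 346281820803) (.leaf 4371740878860)) (.leaf 759673051276)) (.node (.leaf 32749632414) (.leaf 3289945521291))) (.node (.node (.leaf 1603096925572) (.leaf 3395172456985)) (.node (.leaf 2499134691217) (.leaf 3955665785869)))) (.node (.node (.node (.leaf 759672521617) (.leaf 3179887170060)) (.node (.leaf 1900523495809) (.leaf 3738769854089))) (.node (.node (.leaf 2175401047066) (.leaf 2862596304139)) (.node (.leaf 2735357948827) (.leaf 4151623752345)))))) (.node (.node (.node (.node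 (.node (.node (.leaf 105763620491) (.leaf 4051765801118)) (.leaf 2918430973459)) (.node (.leaf 630823472015) (.leaf 2705830012416))) (.node (.node (.leaf 1334661396250) (.leaf 3324842350734)) (.node (.leaf 2427193971864) (.leaf 3900367931400)))) (.node (.node (.node (.leaf 577673222927) (.leaf 2615098800899)) (.node (.leaf 1436666893079) (.leaf 3691524973315))) (.node (.node (.leaf 2174864146438) (.leaf 3552475673988)) (.node (.leaf 2682207715972) (.leaf 4103842229787))))) (.node (.node (.node (.node (.node (.leaf 146565867926) (.leaf 4406637496347)) (.leaf 3032247633938)) (.node (.leaf 1622960849536) (.leaf 3568044653959))) (.node (.node (.leaf 1829119633309) (.leaf 3449933290900)) (.node (.leaf 2563559216015) (.leaf 4013111024024)))) (.node (.node (.node (.leaf 962609774852) (.leaf 3120294340483)) (.node (.leaf 2331630925833) (.leaf 2451890359326))) (.node (.node (.leaf 726386856327) (.leaf 2672007105152)) (.node (.leaf 2724083670551) (.leaf 4150013151124))))))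
def dF_213 : BT := .node (.node (.node (.node (.node (.node (.node (.leaf 32749133458) (.leaf 4261145312262)) (.leaf 2853469577628)) (.node (.leaf 423054722846) (.leaf 2517388556545))) (.node (.node (.leaf 1176284448657) (.leaf 3279745001876)) (.node (.leaf 2032593838357) (.leaf 2937221679744)))) (.node (.node (.node (.node (.leaf 500900572692) (.leaf 4443144727059)) (.leaf 3087545351066)) (.node (.leaf 761820005774) (.leaf 3636764419595))) (.node (.node (.leaf 2026688176131) (.leaf 578210673182)) (.node (.leaf 2621541288345) (.leaf 4053376352026))))) (.node (.node (.node (.node (.node (.leaf 379030954372) (.leaf 4374962104987)) (.leaf 2993056044685)) (.node (.leaf 19864625822) (.leaf 2388539299201))) (.node (.node (.leaf 1637993542403) (.leaf 3404299264659)) (.node (.leaf 2500745304344) (.leaf 3964255759385)))) (.node (.node (.node (.leaf 691489917701) (.leaf 2465848856583)) (.node (.leaf 1828582476045) (.leaf 3743064700808))) (.node (.node (.leaf 490163149580) (.leaf 2784750168327)) (.node (.leaf 2551748096404) (.leaf 4165582399500)))))) (.node (.node (.node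 (.node (.node (.node (.leaf 12348083598) (.leaf 4321275000978)) (.leaf 2927020910095)) (.node (.leaf 409095732495) (.leaf 2813204154764))) (.node (.node (.leaf 1373852988815) (.leaf 3337727255705)) (.node (.leaf 1839320324236) (.leaf 3882651366920)))) (.node (.node (.node (.leaf 615791082898) (.leaf 3143379939216)) (.node (.leaf 1316944704663) (.leaf 3697430852495))) (.node (.node (.leaf 890132223360) (.leaf 3576097997569)) (.node (.leaf 2680597046165) (.leaf 4105989713945))))) (.node (.node (.node (.node (.node (.leaf 476741474329) (.leaf 4410932464669)) (.leaf 3032784458902)) (.node (.leaf 1210643994508) (.leaf 2906619844353))) (.node (.node (.leaf 1839320183069) (.leaf 3360812734100)) (.node (.leaf 2579128476184) (.leaf 4014721302408)))) (.node (.node (.node (.leaf 989990183173) (.leaf 3232500531856)) (.node (.leaf 2335389024014) (.leaf 2584497475977))) (.node (.node (.leaf 678068283790) (.leaf 2494839788173)) (.node (.leaf 2792803150095) (.leaf 4203700243216))))))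
def dF_222 : BT := .node (.node (.node (.node (.node (.node (.node (.leaf 1073742083) (.leaf 4250408023821)) (.leaf 2834679091216)) (.node (.leaf 103616087838) (.leaf 2403571806465))) (.node (.node (.leaf 1151588380933) (.leaf 3215320671383)) (.node (.leaf 2366527543947) (.leaf 3457986461982)))) (.node (.node (.node (.node (.leaf 348966197655) (.leaf 4438849757057)) (.leaf 3078955414429)) (.node (.leaf 1692754389134) (.leaf 3205657081862))) (.node (.node (.leaf 2001992108301) (.leaf 3505767850261)) (.node (.leaf 2618856883350) (.leaf 3716221414538))))) (.node (.node (.node (.node (.node (.leaf 129922844436) (.leaf 4366372168336)) (.leaf 2965138654464)) (.node (.leaf 335007747467) (.leaf 2451890025089))) (.node (.node (.leaf 1588601407488) (.leaf 3397319941249)) (.node (.leaf 2493765980827) (.leaf 3725885072128)))) (.node (.node (.node (.leaf 756451295377) (.leaf 3171834051861)) (.node (.leaf 1840930823582) (.leaf 3735011533706))) (.node (.node (.leaf 32749662488) (.leaf 2997351015936)) (.node (.leaf 2735894819972) (.leaf 4150550010380)))))) (.node (.node (.node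 (.node (.node (.node (.leaf 141197098122) (.leaf 4320738063500)) (.leaf 2910914778907)) (.node (.leaf 500364171806) (.leaf 2661806555530))) (.node (.node (.leaf 1342714471173) (.leaf 3320547382418)) (.node (.leaf 2428804584987) (.leaf 3900904976667)))) (.node (.node (.node (.leaf 171798828292) (.leaf 2703145787166)) (.node (.leaf 1107564817045) (.leaf 3359739047559))) (.node (.node (.leaf 2033667088409) (.leaf 3561065608347)) (.node (.leaf 2673080851606) (.leaf 4103305358738))))) (.node (.node (.node (.node (.node (.leaf 459561610373) (.leaf 4328254342915)) (.leaf 3038153051651)) (.node (.leaf 2191507590814) (.leaf 2684892018568))) (.node (.node (.leaf 1760937026700) (.leaf 3453691400335)) (.node (.leaf 2567317313296) (.leaf 4014721637147)))) (.node (.node (.node (.leaf 956703992973) (.leaf 2515240991255)) (.node (.leaf 2326799088262) (.leaf 3790846413571))) (.node (.node (.leaf 753230198935) (.leaf 3003256473091)) (.node (.leaf 2781528858258) (.leaf 4198868403866))))))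
def dF_229 : BT := .node (.node (.node (.node (.node (.node (.node (.leaf 82141271809) (.leaf 4253092319894)) (.leaf 2846490215175)) (.node (.leaf 624381025310) (.leaf 2573223006878))) (.node (.node (.leaf 1178431932928) (.leaf 3227668705172)) (.node (.leaf 2370285229574) (.leaf 3695283405334)))) (.node (.node (.node (.node (.leaf 435402339092) (.leaf 4442607856019)) (.leaf 3093450932509)) (.node (.leaf 1059783448076) (.leaf 2607046015496))) (.node (.node (.leaf 2024540691857) (.leaf 3032784381452)) (.node (.leaf 2623151901466) (.leaf 4055523836188))))) (.node (.node (.node (.node (.node (.leaf 151397686023) (.leaf 4374425233947)) (.leaf 2983929158279)) (.node (.leaf 1667521455006) (.leaf 3032784423297))) (.node (.node (.leaf 1633698574749) (.leaf 3388193121943)) (.node (.leaf 2505577143707) (.leaf 3956202693786)))) (.node (.node (.node (.leaf 766114972423) (.leaf 3180960899604)) (.node (.leaf 1846836390016) (.leaf 3741990842378))) (.node (.node (.leaf 338765853824) (.leaf 2914136029076)) (.node (.leaf 2493765994262) (.leaf 4155381849619)))))) (.node (.node (.node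 (.node (.node (.node (.leaf 220653997457) (.leaf 4151086923038)) (.leaf 2927020910107)) (.node (.leaf 1197222424222) (.leaf 3092377152259))) (.node (.node (.leaf 1364189300507) (.leaf 3305514999042)) (.node (.leaf 2422362132495) (.leaf 3767223766794)))) (.node (.node (.node (.leaf 613106727811) (.leaf 3132642518427)) (.node (.leaf 1449551778580) (.leaf 3696356787331))) (.node (.node (.leaf 221191067678) (.leaf 3565360576654)) (.node (.leaf 2676839005456) (.leaf 4107600327066))))) (.node (.node (.node (.node (.node (.leaf 466004062738) (.leaf 4409858721815)) (.leaf 2584497251079)) (.node (.leaf 1405528578974) (.leaf 2707440611486))) (.node (.node (.leaf 1837709570051) (.leaf 3406983632022)) (.node (.leaf 2579665344397) (.leaf 4008279184655)))) (.node (.node (.node (.leaf 978179035013) (.leaf 3233037402905)) (.node (.leaf 2334852152977) (.leaf 3679714136706))) (.node (.node (.leaf 610422733080) (.leaf 2672543980553)) (.node (.leaf 2555506207253) (.leaf 4205310856334))))))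
def dF_237 : BT := .node (.node (.node (.node (.node (.node (.node (.leaf 15569260176) (.leaf 4157529358726)) (.leaf 825171270412)) (.node (.leaf 467614762270) (.leaf 3225521107083))) (.node (.node (.leaf 1156420220293) (.leaf 2596308327942)) (.node (.leaf 2368675028495) (.leaf 2808372654986)))) (.node (.node (.node (.node (.leaf 346818713478) (.leaf 4408784988288)) (.leaf 2616172688007)) (.node (.leaf 1319092145295) (.leaf 3630321753352))) (.node (.node (.leaf 23085930506) (.leaf 3511673472665)) (.node (.leaf 2316598613894) (.leaf 4047470770563))))) (.node (.node (.node (.node (.node (.leaf 364535436293) (.leaf 4120485290880)) (.leaf 2981244885148)) (.node (.leaf 1969779523224) (.leaf 2889976718741))) (.node (.node (.leaf 1618129020699) (.leaf 3397319848066)) (.node (.leaf 2501819046533) (.leaf 3963182017420)))) (.node (.node (.node (.leaf 694174270977) (.leaf 3182571525146)) (.node (.leaf 1840930823301) (.leaf 1693828619010))) (.node (.node (.leaf 2003602778654) (.leaf 2491081437196)) (.node (.leaf 2736431690899) (.leaf 4151086785046)))))) (.node (.node (.node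 (.node (.node (.node (.leaf 217432719887) (.leaf 4325033098373)) (.leaf 2913599134096)) (.node (.leaf 315680103838) (.leaf 2674691507082))) (.node (.node (.leaf 1348620052486) (.leaf 2893198136967)) (.node (.leaf 2425583358739) (.leaf 2961380881410)))) (.node (.node (.node (.leaf 591631886209) (.leaf 3140158713100)) (.node (.leaf 1104343883911) (.leaf 3693135585676))) (.node (.node (.leaf 987842713600) (.leaf 2965675767434)) (.node (.leaf 2680060231706) (.leaf 4118874619013))))) (.node (.node (.node (.node (.node (.leaf 471909644301) (.leaf 2565707139465)) (.leaf 3029026407696)) (.node (.leaf 30601690882) (.leaf 2867965063436))) (.node (.node (.leaf 1832877730309) (.leaf 3410204858262)) (.node (.leaf 2382096846742) (.leaf 4011500410899)))) (.node (.node (.node (.leaf 973884066579) (.leaf 3042985085703)) (.node (.leaf 2332704668815) (.leaf 2407330074499))) (.node (.node (.leaf 47244787215) (.leaf 2549600555909)) (.node (.leaf 2791729408133) (.leaf 4206921469440))))))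
def dF_244 : BT := .node (.node (.node (.node (.node (.node (.node (.leaf 95563045256) (.leaf 4021701018772)) (.leaf 2855617061776)) (.node (.leaf 922881590814) (.leaf 3042984813314))) (.node (.node (.leaf 1187558739969) (.leaf 3278134388759)) (.node (.leaf 2372433125779) (.leaf 3857418422415)))) (.node (.node (.node (.node (.leaf 48318393606) (.leaf 4426501729037)) (.leaf 3092914008343)) (.node (.leaf 1962800522255) (.leaf 3638375038105))) (.node (.node (.leaf 1954210603285) (.leaf 2557116772382)) (.node (.leaf 2627983740818) (.leaf 4054986962048))))) (.node (.node (.node (.node (.node (.leaf 389231416711) (.leaf 4376035554953)) (.leaf 2827699806871)) (.node (.leaf 1635308922782) (.leaf 2884607997451))) (.node (.node (.leaf 1641751640455) (.leaf 3403762393615)) (.node (.leaf 2508261498896) (.leaf 3958887002118)))) (.node (.node (.node (.leaf 770946719759) (.leaf 3185255880448)) (.node (.leaf 1692754389399) (.leaf 3745749246220))) (.node (.node (.leaf 541166206107) (.leaf 3255048992004)) (.node (.leaf 2750390338061) (.leaf 4167193012509)))))) (.node (.node (.node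 (.node (.node (.node (.leaf 242665710208) (.leaf 2675765658250)) (.leaf 2820720408834)) (.node (.leaf 2239825451934) (.leaf 2539399995670))) (.node (.node (.leaf 1378147947401) (.leaf 3313031193607)) (.node (.leaf 2436320779547) (.leaf 3906810558109)))) (.node (.node (.node (.leaf 9663824783) (.leaf 3137474357777)) (.node (.leaf 1380832343445) (.leaf 3698504594585))) (.node (.node (.leaf 943819303070) (.leaf 2697777184652)) (.node (.leaf 2494302838679) (.leaf 4104379100818))))) (.node (.node (.node (.node (.node (.leaf 470299031047) (.leaf 4406637497857)) (.leaf 2830921040150)) (.node (.leaf 710817234711) (.leaf 2763812155404))) (.node (.node (.leaf 1840930796176) (.leaf 3274913391366)) (.node (.leaf 2575370378896) (.leaf 4010426601613)))) (.node (.node (.node (.leaf 469225414664) (.leaf 2959233237379)) (.node (.leaf 2336462766095) (.leaf 3698504618884))) (.node (.node (.leaf 207232649369) (.leaf 2550137426837)) (.node (.leaf 2789045039253) (.leaf 4212827051013))))))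
def dF_256 : BT := .node (.node (.node (.node (.node (.node (.node (.leaf 5905581442) (.leaf 3885872673795)) (.leaf 2831457864984)) (.node (.leaf 125091062046) (.leaf 2703145787422))) (.node (.node (.leaf 1132797894539) (.leaf 3272765859856)) (.node (.leaf 2364380060177) (.leaf 3834332967695)))) (.node (.node (.node (.node (.leaf 354334908055) (.leaf 3869229720841)) (.leaf 3041911319703)) (.node (.leaf 1765768850585) (.leaf 3627637617309))) (.node (.node (.leaf 1978906653458) (.leaf 3504694149144)) (.node (.leaf 2585570936214) (.leaf 4042102057750))))) (.node (.node (.node (.node (.node (.leaf 346818691858) (.leaf 4364761555216)) (.leaf 2979097361814)) (.node (.leaf 105763742238) (.leaf 2599529790110))) (.node (.node (.leaf 1575179628555) (.leaf 3310883720983)) (.node (.leaf 2487860399375) (.leaf 3335043047686)))) (.node (.node (.node (.leaf 747324487812) (.leaf 3170760362266)) (.node (.leaf 132070280325) (.leaf 3732327470094))) (.node (.node (.leaf 144955464602) (.leaf 3023657736584)) (.node (.leaf 2727841754257) (.leaf 3715684569355)))))) (.node (.node (.node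 (.node (.node (.node (.leaf 190589219340) (.leaf 4304631920516)) (.leaf 2921115328772)) (.node (.leaf 471372892318) (.leaf 2893197958402))) (.node (.node (.leaf 1326071468828) (.leaf 3323231737626)) (.node (.leaf 2425583358853) (.leaf 3903589331858)))) (.node (.node (.node (.leaf 553514042256) (.leaf 3128347550108)) (.node (.leaf 1377611013406) (.leaf 3482682483977))) (.node (.node (.leaf 40802199296) (.leaf 3559454994564)) (.node (.leaf 2673617779216) (.leaf 4100621003655))))) (.node (.node (.node (.node (.node (.leaf 435402413456) (.leaf 4402879399059)) (.leaf 3032247633946)) (.node (.leaf 1520955675806) (.leaf 2549063741192))) (.node (.node (.leaf 1813550267546) (.leaf 3455302013455)) (.node (.leaf 2572685981463) (.leaf 4017405992461)))) (.node (.node (.node (.leaf 925565675532) (.leaf 3227668692509)) (.node (.leaf 108985350411) (.leaf 3531000891287))) (.node (.node (.leaf 1291711592981) (.leaf 701690953997)) (.node (.leaf 2785286955652) (.leaf 4183836015362))))))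
def dF_263 : BT := .node (.node (.node (.node (.node (.node (.node (.leaf 9126807696) (.leaf 4014721696151)) (.leaf 2852395832717)) (.node (.leaf 89657960986) (.leaf 3278134476822))) (.node (.node (.leaf 1162862672772) (.leaf 3215320546310)) (.node (.leaf 2360621964937) (.leaf 3692062177418)))) (.node (.node (.node (.node (.leaf 388694545686) (.leaf 4423817373836)) (.leaf 3076807877140)) (.node (.leaf 1316407790095) (.leaf 3635153811972))) (.node (.node (.leaf 2019171981457) (.leaf 3512747214737)) (.node (.leaf 2635499935389) (.leaf 3740917480350))))) (.node (.node (.node (.node (.node (.leaf 370977888780) (.leaf 4367445766791)) (.leaf 2986613595544)) (.node (.leaf 426812673546) (.leaf 2684355409548))) (.node (.node (.leaf 1622424283009) (.leaf 3395709316503)) (.node (.leaf 2508261499012) (.leaf 3648038793226)))) (.node (.node (.node (.leaf 761820005776) (.leaf 3182034654105)) (.node (.leaf 617938566934) (.leaf 3739843664669))) (.node (.node (.leaf 437013100574) (.leaf 2806761721859)) (.node (.leaf 2729989238419) (.leaf 4150013139218)))))) (.node (.node (.node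 (.node (.node (.node (.leaf 223338352773) (.leaf 4107600379523)) (.leaf 2919504715535)) (.node (.leaf 331249456901) (.leaf 2785823743489))) (.node (.node (.leaf 1352915020929) (.leaf 3314104723074)) (.node (.leaf 2419140906259) (.leaf 3904126202909)))) (.node (.node (.node (.leaf 597000596613) (.leaf 3144453681299)) (.node (.leaf 1437740662679) (.leaf 3692599013378))) (.node (.node (.leaf 1037234834718) (.leaf 2547990198026)) (.node (.leaf 2681133973784) (.leaf 4119948360989))))) (.node (.node (.node (.node (.node (.leaf 478352096781) (.leaf 4408248109465)) (.leaf 3036542602254)) (.node (.leaf 439697386654) (.leaf 2470680560926))) (.node (.node (.leaf 1833951470601) (.leaf 3460133852827)) (.node (.leaf 2385854944021) (.leaf 4005057958419)))) (.node (.node (.node (.leaf 965294129939) (.leaf 3230889918849)) (.node (.leaf 1120987020550) (.leaf 3796214958987))) (.node (.node (.leaf 618475771419) (.leaf 3455838758942)) (.node (.leaf 2794413763225) (.leaf 4205310856348))))))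
def dF_271 : BT := .node (.node (.node (.node (.node (.node (.node (.leaf 69793235218) (.leaf 4207995222150)) (.leaf 2843805898895)) (.node (.leaf 51002786436) (.leaf 2403034775045))) (.node (.node (.leaf 1147293412509) (.leaf 3267396967828)) (.node (.leaf 2032593837195) (.leaf 2532957879198)))) (.node (.node (.node (.node (.leaf 352724294918) (.leaf 4438849758723)) (.leaf 3077344801306)) (.node (.leaf 693637383694) (.leaf 3632469456669))) (.node (.node (.leaf 1947231275905) (.leaf 3231426854918)) (.node (.leaf 2619930675215) (.leaf 4037270187294))))) (.node (.node (.node (.node (.node (.leaf 123480391956) (.leaf 4365835297294)) (.leaf 2807835578391)) (.node (.leaf 2196876303756) (.leaf 2452963873920))) (.node (.node (.leaf 1595043859969) (.leaf 3398393683229)) (.node (.leaf 2494839722905) (.leaf 3879430152982)))) (.node (.node (.node (.leaf 755914424725) (.leaf 3170223478804)) (.node (.leaf 346818614548) (.leaf 3738233016064))) (.node (.node (.leaf 2020245320730) (.leaf 2668785997569)) (.node (.leaf 2737505432987) (.leaf 2739653254026)))))) (.node (.node (.node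 (.node (.node (.node (.leaf 207769092613) (.leaf 4320738129946)) (.leaf 2916820360344)) (.node (.leaf 2124398506270) (.leaf 3309809906176))) (.node (.node (.leaf 113280083742) (.leaf 3324842350736)) (.node (.leaf 2422362132507) (.leaf 3804268212749)))) (.node (.node (.node (.leaf 574988798469) (.leaf 3129421252119)) (.node (.leaf 526133620615) (.leaf 3692062142109))) (.node (.node (.leaf 435402391816) (.leaf 3561065608452)) (.node (.leaf 2432562738836) (.leaf 2961917799688))))) (.node (.node (.node (.node (.node (.leaf 461172223378) (.leaf 4405563754267)) (.leaf 3038153215369)) (.node (.leaf 46707873694) (.leaf 2388002603907))) (.node (.node (.leaf 1827509019905) (.leaf 3400541179541)) (.node (.leaf 2560874860816) (.leaf 4008279184667)))) (.node (.node (.node (.leaf 951335482899) (.leaf 2516314733332)) (.node (.leaf 2330557096961) (.leaf 3797288866052))) (.node (.node (.leaf 445603032094) (.leaf 2434173271303)) (.node (.leaf 2781528858254) (.leaf 3746823096478))))))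
def dF_278 : BT := .node (.node (.node (.node (.node (.node (.node (.leaf 46170909458) (.leaf 4255239162503)) (.leaf 2856153932940)) (.node (.leaf 125628258206) (.leaf 2577517446147))) (.node (.node (.leaf 1180042545948) (.leaf 3277060828188)) (.node (.leaf 2364916932629) (.leaf 3853660325146)))) (.node (.node (.node (.node (.leaf 362387973652) (.leaf 4439923501701)) (.leaf 3087008480029)) (.node (.leaf 635118440334) (.leaf 3636227553949))) (.node (.node (.leaf 2025077561494) (.leaf 3520263409299)) (.node (.leaf 2632278709145) (.leaf 4058745062424))))) (.node (.node (.node (.node (.node (.leaf 121869786138) (.leaf 3916474346243)) (.leaf 2981244845974)) (.node (.leaf 47244685851) (.leaf 2509335227285))) (.node (.node (.leaf 1635846058897) (.leaf 3339337880341)) (.node (.leaf 2511482725144) (.leaf 3962645146266)))) (.node (.node (.node (.leaf 765578101013) (.leaf 3127810691478)) (.node (.leaf 765578386435) (.leaf 3742527531149))) (.node (.node (.leaf 367756896269) (.leaf 2727305041536)) (.node (.leaf 2675228362119) (.leaf 4155381731081)))))) (.node (.node (.node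 (.node (.node (.node (.leaf 176630584856) (.leaf 4323959356175)) (.leaf 2924873425945)) (.node (.leaf 143344539405) (.leaf 2440615758215))) (.node (.node (.leaf 1369558023180) (.leaf 3326989641223)) (.node (.leaf 2415919680015) (.leaf 3885871826444)))) (.node (.node (.node (.leaf 619549180289) (.leaf 3138011228825)) (.node (.leaf 1315870963461) (.leaf 3696356850185))) (.node (.node (.leaf 958314581376) (.leaf 2513093589514)) (.node (.leaf 2678449618575) (.leaf 4116727134745))))) (.node (.node (.node (.node (.node (.leaf 472446515216) (.leaf 4410395593619)) (.leaf 3034931943062)) (.node (.leaf 1069447379348) (.leaf 2407866629399))) (.node (.node (.leaf 1837709569556) (.leaf 3359202120983)) (.node (.leaf 2578054734108) (.leaf 4018479522185)))) (.node (.node (.node (.leaf 984621487500) (.leaf 3235721758096)) (.node (.leaf 2335925893385) (.leaf 3799436350108))) (.node (.node (.leaf 912680710671) (.leaf 2490544645388)) (.node (.leaf 2789581923859) (.leaf 4204236425091))))))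
def dF_287 : BT := .node (.node (.node (.node (.node (.node (.node (.leaf 18790486418) (.leaf 4243965566851)) (.leaf 2845416512016)) (.node (.leaf 121332826395) (.leaf 2467459284757))) (.node (.node (.leaf 1140850960132) (.leaf 2509872293654)) (.node (.leaf 2365453790850) (.leaf 3846144130693)))) (.node (.node (.node (.node (.leaf 127775381909) (.leaf 4418985534869)) (.leaf 3077344801413)) (.node (.leaf 1768990076815) (.leaf 3626027004179))) (.node (.node (.leaf 1991254687500) (.leaf 3483219313302)) (.node (.leaf 2613488172950) (.leaf 3959423938974))))) (.node (.node (.node (.node (.node (.leaf 360777338887) (.leaf 4366908976653)) (.leaf 2967286198934)) (.node (.leaf 94489303066) (.leaf 2598992654750))) (.node (.node (.leaf 1504849543434) (.leaf 3386582520448)) (.node (.leaf 2496987207069) (.leaf 3954055173121)))) (.node (.node (.node (.leaf 745713874951) (.leaf 3173981588495)) (.node (.leaf 634581856268) (.leaf 3732864040585))) (.node (.node (.leaf 923955165314) (.leaf 2439542000781)) (.node (.leaf 2544231901844) (.leaf 4147865562503)))))) (.node (.node (.node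 (.node (.node (.node (.leaf 193273574418) (.leaf 4100621052164)) (.leaf 2909304165788)) (.node (.leaf 110595445388) (.leaf 2523294119693))) (.node (.node (.leaf 1331977050372) (.leaf 3317326156185)) (.node (.leaf 2423972745628) (.leaf 3901978678404)))) (.node (.node (.node (.leaf 571767654413) (.leaf 3127810679056)) (.node (.leaf 532039337493) (.leaf 2358474795270))) (.node (.node (.leaf 1969243020687) (.leaf 3236795577353)) (.node (.leaf 2672007158551) (.leaf 4100621003535))))) (.node (.node (.node (.node (.node (.leaf 124554155670) (.leaf 4404489608459)) (.leaf 3030637020825)) (.node (.leaf 1394253784965) (.leaf 2383707467401))) (.node (.node (.leaf 1823214036621) (.leaf 3451543916184)) (.node (.leaf 2564632958099) (.leaf 4009889797788)))) (.node (.node (.node (.leaf 945966772621) (.leaf 3223910595218)) (.node (.leaf 2329483442696) (.leaf 2827163125899))) (.node (.node (.leaf 251256056603) (.leaf 2032593866526)) (.node (.leaf 2783676342425) (.leaf 2447595489802))))))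
def dF_294 : BT := .node (.node (.node (.node (.node (.node (.node (.leaf 39728456977) (.leaf 4257924218268)) (.leaf 2850248351379)) (.node (.leaf 100394925982) (.leaf 2375654614430))) (.node (.node (.leaf 1063541552527) (.leaf 3061775513095)) (.node (.leaf 2369748770585) (.leaf 3850438819597)))) (.node (.node (.node (.node (.leaf 23622434325) (.leaf 4442070984977)) (.leaf 3088082222209)) (.node (.leaf 1131724152334) (.leaf 3634616940824))) (.node (.node (.leaf 2022930078737) (.leaf 2891050503948)) (.node (.leaf 2633889322266) (.leaf 2682208044296))))) (.node (.node (.node (.node (.node (.leaf 370977888656) (.leaf 4373888334614)) (.leaf 2982855498257)) (.node (.leaf 368293792266) (.leaf 2390686770695))) (.node (.node (.leaf 1631014201868) (.leaf 3390877477143)) (.node (.leaf 2503966530588) (.leaf 3966403243545)))) (.node (.node (.node (.leaf 377957304328) (.leaf 3180424040977)) (.node (.leaf 2024003778708) (.leaf 3740380535695))) (.node (.node (.leaf 1875827196693) (.leaf 2445447815710)) (.node (.leaf 2734821034518) (.leaf 4153234365454)))))) (.node (.node (.node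 (.node (.node (.node (.leaf 231391418257) (.leaf 4323422485147)) (.leaf 2926484039172)) (.node (.leaf 16106428830) (.leaf 2777770680606))) (.node (.node (.leaf 1356136130318) (.leaf 3331821671949)) (.node (.leaf 2417530293136) (.leaf 2521146733952)))) (.node (.node (.node (.leaf 611496114588) (.leaf 3143379939227)) (.node (.leaf 1327682111382) (.leaf 3693135884189))) (.node (.node (.leaf 115964144640) (.leaf 3565360404870)) (.node (.leaf 2676302134418) (.leaf 4118337747866))))) (.node (.node (.node (.node (.node (.leaf 476741483538) (.leaf 4409858722577)) (.leaf 2963528023686)) (.node (.leaf 2190970464789) (.leaf 2906082973700))) (.node (.node (.leaf 1836098954260) (.leaf 3457986368658)) (.node (.leaf 768262884866) (.leaf 4003447345296)))) (.node (.node (.node (.leaf 963683516816) (.leaf 3228742434589)) (.node (.leaf 2326799089152) (.leaf 3789235684107))) (.node (.node (.leaf 151934957441) (.leaf 2550674328589)) (.node (.leaf 2786360697626) (.leaf 4206384598419))))))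
def dF_302 : BT := .node (.node (.node (.node (.node (.node (.node (.leaf 89120592657) (.leaf 3920769284357)) (.leaf 2844879641099)) (.node (.leaf 836444886555) (.leaf 2309619306910))) (.node (.node (.leaf 1095753802651) (.leaf 3263639039381)) (.node (.leaf 2367064415623) (.leaf 3818763712007)))) (.node (.node (.node (.node (.leaf 442381715331) (.leaf 2690798069643)) (.leaf 3077344801297)) (.node (.leaf 1329829566095) (.leaf 3633006327705))) (.node (.node (.leaf 492847977752) (.leaf 3514894698909)) (.node (.leaf 2626373127821) (.leaf 4047470770585))))) (.node (.node (.node (.node (.node (.leaf 230854547202) (.leaf 2539400456458)) (.leaf 2987150463757)) (.node (.leaf 689879286425) (.leaf 2574833493382))) (.node (.node (.leaf 1609539378053) (.leaf 3396246199058)) (.node (.leaf 2492692238737) (.leaf 3955665822749)))) (.node (.node (.node (.leaf 691489916041) (.leaf 3132105659797)) (.node (.leaf 372051553280) (.leaf 3739306452611))) (.node (.node (.leaf 463856495642) (.leaf 3610457744135)) (.node (.leaf 2736968561944) (.leaf 3926674840068)))))) (.node (.node (.node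 (.node (.node (.node (.leaf 141733971852) (.leaf 4312148043659)) (.leaf 2911988520979)) (.node (.leaf 759672521627) (.leaf 2481417982336))) (.node (.node (.leaf 1287953636889) (.leaf 3318399898254)) (.node (.leaf 2420751519384) (.leaf 3874598301726)))) (.node (.node (.node (.leaf 580894465408) (.leaf 3124052541705)) (.node (.leaf 1395864731526) (.leaf 2534031584781))) (.node (.node (.leaf 122943957637) (.leaf 3557844383125)) (.node (.leaf 2682744586907) (.leaf 4108137198212))))) (.node (.node (.node (.node (.node (.leaf 463856578561) (.leaf 4407174367385)) (.leaf 3025805181458)) (.node (.leaf 1070521121431) (.leaf 3480534883082))) (.node (.node (.leaf 1830729923717) (.leaf 3455838884609)) (.node (.leaf 2392834267542) (.leaf 4006668571544)))) (.node (.node (.node (.leaf 969052227333) (.leaf 2901251177603)) (.node (.leaf 2331630638470) (.leaf 3584151113741))) (.node (.node (.leaf 219043451777) (.leaf 2800856358660)) (.node (.leaf 2783676328854) (.leaf 4198868391957))))))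
def dF_309 : BT := .node (.node (.node (.node (.node (.node (.node (.leaf 26306696067) (.leaf 4261145364887)) (.leaf 2856690803864)) (.node (.leaf 89120574873) (.leaf 3562676051230))) (.node (.node (.leaf 15032667801) (.leaf 3279208312337)) (.node (.leaf 2371896094726) (.leaf 3859565906452)))) (.node (.node (.node (.node (.leaf 46707888135) (.leaf 2877629147913)) (.leaf 3092377190425)) (.node (.leaf 2019171981455) (.leaf 2582886824833))) (.node (.node (.leaf 2026688174228) (.leaf 2593087070343)) (.node (.leaf 2635499886359) (.leaf 2650532659336))))) (.node (.node (.node (.node (.node (.leaf 385473406853) (.leaf 4376572718096)) (.leaf 2990908563869)) (.node (.leaf 617402018334) (.leaf 2507187743895))) (.node (.node (.leaf 1639604156179) (.leaf 3401614909468)) (.node (.leaf 2506650885779) (.leaf 3827890545796)))) (.node (.node (.node (.leaf 768799329309) (.leaf 3176129020170)) (.node (.leaf 321586114317) (.leaf 3743601490568))) (.node (.node (.leaf 353261258520) (.leaf 2532957543702)) (.node (.leaf 2739652917261) (.leaf 4124780211461)))))) (.node (.node (.node (.node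 (.node (.node (.leaf 226022696985) (.leaf 2695093008521)) (.leaf 2922188963735)) (.node (.leaf 694174356994) (.leaf 2539936923404))) (.node (.node (.leaf 1374926733333) (.leaf 3337190384666)) (.node (.leaf 2437394518797) (.leaf 3906273687064)))) (.node (.node (.node (.leaf 614180470020) (.leaf 3137474357779)) (.node (.leaf 1272384436363) (.leaf 3697430852484))) (.node (.node (.leaf 755914506270) (.leaf 3582540450048)) (.node (.leaf 2678986482071) (.leaf 4115116521618))))) (.node (.node (.node (.node (.node (.leaf 473520257283) (.leaf 4411469335684)) (.leaf 3026342006422)) (.node (.leaf 499827107742) (.leaf 3382824270476))) (.node (.node (.leaf 1839857054108) (.leaf 3464965692301)) (.node (.leaf 2401424204182) (.leaf 3721590118919)))) (.node (.node (.node (.leaf 992137682054) (.leaf 3233037402895)) (.node (.leaf 2327335960577) (.leaf 3799973221137))) (.node (.node (.leaf 1893006975503) (.leaf 2435247086474)) (.node (.leaf 2786360697615) (.leaf 4203163372179))))))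
def dF_319 : BT := .node (.node (.node (.node (.node (.node (.node (.leaf 88583721619) (.leaf 3770982298014)) (.leaf 2838437188499)) (.node (.leaf 75698850061) (.leaf 2522757059843))) (.node (.node (.leaf 1135482244367) (.leaf 3273302718101)) (.node (.leaf 2364916520071) (.leaf 3837554194053)))) (.node (.node (.node (.node (.leaf 353261165955) (.leaf 4437776013058)) (.leaf 2847027178262)) (.node (.leaf 1823214051854) (.leaf 3626563875225))) (.node (.node (.leaf 1789928093972) (.leaf 3504694149139)) (.node (.leaf 2612414473111) (.leaf 4031364639363))))) (.node (.node (.node (.node (.node (.leaf 352724273297) (.leaf 4353487266197)) (.leaf 2808909320468)) (.node (.leaf 92341818905) (.leaf 2605972020766))) (.node (.node (.leaf 1578400573199) (.leaf 3381750632834)) (.node (.leaf 2498597820292) (.leaf 2392297726467)))) (.node (.node (.node (.leaf 751082584979) (.leaf 3174518459536)) (.node (.leaf 1769526723358) (.leaf 3730179961098))) (.node (.node (.leaf 185221000333) (.leaf 3255586006668)) (.node (.leaf 2727304839958) (.leaf 4146255013643)))))) (.node (.node (.node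 (.node (.node (.node (.leaf 197031672332) (.leaf 4304095127695)) (.leaf 2917894102428)) (.node (.leaf 759672543134) (.leaf 2841657920397))) (.node (.node (.leaf 1329292691222) (.leaf 3314641800986)) (.node (.leaf 2430952069139) (.leaf 3733401252510)))) (.node (.node (.node (.leaf 563177721093) (.leaf 2765959685255)) (.node (.leaf 551366759565) (.leaf 3685619689629))) (.node (.node (.leaf 404800749851) (.leaf 3559991866265)) (.node (.leaf 2670396552976) (.leaf 3732327558295))))) (.node (.node (.node (.node (.node (.leaf 132070350230) (.leaf 2658585806471)) (.leaf 3023657697306)) (.node (.leaf 47244750238) (.leaf 2484639342858))) (.node (.node (.leaf 1820529271192) (.leaf 3452617658268)) (.node (.leaf 2393908009622) (.leaf 4018479734428)))) (.node (.node (.node (.leaf 936303093767) (.leaf 3226594950425)) (.node (.leaf 1842004654475) (.leaf 3531537762324))) (.node (.node (.leaf 1232656094366) (.leaf 2629594354050)) (.node (.leaf 2783676342429) (.leaf 4199942146052))))))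
def dF_326 : BT := .node (.node (.node (.node (.node (.node (.node (.leaf 43486554256) (.leaf 4261145444509)) (.leaf 2851322093467)) (.node (.leaf 610959104923) (.leaf 2849711475840))) (.node (.node (.leaf 1079110812314) (.leaf 3215857517314)) (.node (.leaf 2369748768259) (.leaf 3850975970055)))) (.node (.node (.node (.node (.leaf 493921335573) (.leaf 4440997242519)) (.leaf 3049964385303)) (.node (.leaf 1256815104654) (.leaf 3634616940829))) (.node (.node (.leaf 478352464513) (.leaf 3516505312132)) (.node (.leaf 2626909998749) (.leaf 4053376352131))))) (.node (.node (.node (.node (.node (.leaf 368293533468) (.leaf 4373888362881)) (.leaf 2986076724499)) (.node (.leaf 1630477348894) (.leaf 3157875395486))) (.node (.node (.leaf 1628866710543) (.leaf 3344706590742)) (.node (.leaf 2512556467228) (.leaf 3954592083973)))) (.node (.node (.node (.leaf 762893747869) (.leaf 3183108396174)) (.node (.leaf 1845225778454) (.leaf 3531000880138))) (.node (.node (.leaf 688268982284) (.leaf 2728378649246)) (.node (.leaf 2736431690895) (.leaf 4153234365836)))))) (.node (.node (.node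 (.node (.node (.node (.leaf 231928289413) (.leaf 4325569969309)) (.leaf 2910914778895)) (.node (.leaf 132070668702) (.leaf 2361158863245))) (.node (.node (.leaf 1361504957568) (.leaf 3213710070406)) (.node (.leaf 2426120229776) (.leaf 2895345759370)))) (.node (.node (.node (.leaf 605590533253) (.leaf 3140158712989)) (.node (.leaf 1316944676118) (.leaf 2390150180747))) (.node (.node (.leaf 12885138078) (.leaf 1692217964547)) (.node (.leaf 2682207715859) (.leaf 4111358424349))))) (.node (.node (.node (.node (.node (.leaf 473520257309) (.leaf 4408784790411)) (.leaf 3027952665614)) (.node (.leaf 46170947340) (.leaf 2961380562060))) (.node (.node (.leaf 1835025214739) (.leaf 2828236789507)) (.node (.leaf 2558190463493) (.leaf 4012037281936)))) (.node (.node (.node (.leaf 974420937616) (.leaf 3236258629145)) (.node (.leaf 692564032902) (.leaf 3789772612501))) (.node (.node (.leaf 620623248027) (.leaf 2925410371735)) (.node (.leaf 2786897568669) (.leaf 4204237114264))))))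
def dF_334 : BT := .node (.node (.node (.node (.node (.node (.node (.leaf 536871040) (.leaf 4248796834974)) (.leaf 2835215962255)) (.node (.leaf 434329011480) (.leaf 2466922428677))) (.node (.node (.leaf 1147293412499) (.leaf 3212099445143)) (.node (.leaf 409096199433) (.leaf 3837554103428)))) (.node (.node (.node (.node (.leaf 128849102339) (.leaf 4410395600641)) (.leaf 2856690856981)) (.node (.leaf 637265924494) (.leaf 3631932459393))) (.node (.node (.leaf 2013266397325) (.leaf 3510062645517)) (.node (.leaf 625455237254) (.leaf 4049618254849))))) (.node (.node (.node (.node (.node (.leaf 231928289287) (.leaf 4369593394695)) (.leaf 2859912055942)) (.node (.leaf 48318393625) (.leaf 3289945783042))) (.node (.node (.leaf 1600949441413) (.leaf 3397319941145)) (.node (.leaf 2493765980819) (.leaf 3955128951709)))) (.node (.node (.node (.leaf 759135650589) (.leaf 3177739685895)) (.node (.leaf 1899449292041) (.leaf 3738769453443))) (.node (.node (.leaf 898722408603) (.leaf 3000035239297)) (.node (.leaf 2729452367388) (.leaf 4150013139226)))))) (.node (.node (.node (.node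 (.node (.node (.leaf 152471389708) (.leaf 3555697078942)) (.leaf 2920578457619)) (.node (.leaf 437013389449) (.leaf 2468533076864))) (.node (.node (.leaf 1333050500888) (.leaf 3316252414096)) (.node (.leaf 2429341456024) (.leaf 2659659428232)))) (.node (.node (.node (.leaf 217969727875) (.leaf 3127810578438)) (.node (.leaf 1395864634381) (.leaf 3404299331971))) (.node (.node (.leaf 2174864566408) (.leaf 3561602479385)) (.node (.leaf 2680060231813) (.leaf 4103842229766))))) (.node (.node (.node (.node (.node (.leaf 148713352086) (.leaf 4406637496335)) (.leaf 3034395118098)) (.node (.leaf 1103806965132) (.leaf 2938832223134))) (.node (.node (.leaf 1829119633025) (.leaf 2982318738819)) (.node (.leaf 2565706700175) (.leaf 4015258508184)))) (.node (.node (.node (.leaf 960462290693) (.leaf 3224984182791)) (.node (.leaf 2331094055709) (.leaf 2029909823006))) (.node (.node (.leaf 1279900430618) (.leaf 2645163591582)) (.node (.leaf 2779918218630) (.leaf 4199942145934))))))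
def dF_341 : BT := .node (.node (.node (.node (.node (.node (.node (.leaf 34896617618) (.leaf 4261682256670)) (.leaf 2855617061788)) (.node (.leaf 119185345051) (.leaf 2757369604382))) (.node (.node (.leaf 1178431932817) (.leaf 3280282054415)) (.node (.leaf 2027225129093) (.leaf 3859029035652)))) (.node (.node (.node (.node (.leaf 501974400661) (.leaf 4443144727066)) (.leaf 3089692835226)) (.node (.leaf 774168039695) (.leaf 3614215846679))) (.node (.node (.leaf 2025614433685) (.leaf 1842541760396)) (.node (.leaf 2623688772505) (.leaf 4053913223067))))) (.node (.node (.node (.node (.node (.leaf 376883470213) (.leaf 4374962104975)) (.leaf 2990908563980)) (.node (.leaf 475131149854) (.leaf 2597918940932))) (.node (.node (.leaf 1575716517130) (.leaf 3404299262349)) (.node (.leaf 2502892788504) (.leaf 3962108275225)))) (.node (.node (.node (.leaf 767188716179) (.leaf 3178276387203)) (.node (.leaf 1837709296263) (.leaf 3313031290379))) (.node (.node (.leaf 1490890616345) (.leaf 2728378646028)) (.node (.leaf 2677375846279) (.leaf 4163434915341)))))) (.node (.node (.node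 (.node (.node (.node (.leaf 222264560911) (.leaf 4054987028621)) (.leaf 2924873425937)) (.node (.leaf 160524651806) (.leaf 2427730937374))) (.node (.node (.leaf 112743218956) (.leaf 3337190384772)) (.node (.leaf 2416456550932) (.leaf 3410204964356)))) (.node (.node (.node (.leaf 617938567058) (.leaf 2428267884419)) (.node (.leaf 1379221730326) (.leaf 3696893806986))) (.node (.node (.leaf 889595353230) (.leaf 3573950513408)) (.node (.leaf 2442226417559) (.leaf 4108137198105))))) (.node (.node (.node (.node (.node (.leaf 477815225602) (.leaf 4410932464657)) (.leaf 2519535805059)) (.node (.leaf 1518808175884) (.leaf 2855617061895))) (.node (.node (.leaf 1839320181511) (.leaf 2494839952002)) (.node (.leaf 2575370378907) (.leaf 2400887675787)))) (.node (.node (.node (.leaf 988916441093) (.leaf 3234648016016)) (.node (.leaf 2335389024024) (.leaf 3798362539543))) (.node (.node (.leaf 2170032387998) (.leaf 2640331754508)) (.node (.leaf 2787971310736) (.leaf 4203700138120))))))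
def dF_350 : BT := .node (.node (.node (.node (.node (.node (.node (.leaf 10200549778) (.leaf 4248260539660)) (.leaf 2836826575376)) (.node (.leaf 143881438735) (.leaf 644245681438))) (.node (.node (.leaf 1149440896772) (.leaf 3269544451988)) (.node (.leaf 2365990673309) (.leaf 3648038764948)))) (.node (.node (.node (.node (.leaf 439697307394) (.leaf 4438849687307)) (.leaf 3081102898589)) (.node (.leaf 641560892815) (.leaf 2826626217985))) (.node (.node (.leaf 1997697140492) (.leaf 3506304721302)) (.node (.leaf 2617783141270) (.leaf 3892851944580))))) (.node (.node (.node (.node (.node (.leaf 132070328596) (.leaf 4366371849739)) (.leaf 2965675525377)) (.node (.leaf 335007452935) (.leaf 2514704029076))) (.node (.node (.leaf 1586453923329) (.leaf 3395172457088)) (.node (.leaf 2495913464987) (.leaf 3954055209627)))) (.node (.node (.node (.leaf 756451281802) (.leaf 3172370922902)) (.node (.leaf 46170977538) (.leaf 3733938077845))) (.node (.node (.leaf 31675920408) (.leaf 2622615212801)) (.node (.leaf 2733747335813) (.leaf 1318019078156)))))) (.node (.node (.node (.node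 (.node (.node (.leaf 141197097862) (.leaf 4318590645900)) (.leaf 2913062263067)) (.node (.leaf 157303378206) (.leaf 2423972769546))) (.node (.node (.leaf 1340566987012) (.leaf 3322694866578)) (.node (.leaf 2415382808988) (.leaf 3899831234589)))) (.node (.node (.node (.leaf 563177720966) (.leaf 3127273767956)) (.node (.leaf 526133770764) (.leaf 3692062142097))) (.node (.node (.leaf 2020245350041) (.leaf 3558381253780)) (.node (.leaf 2436857707156) (.leaf 4103305358735))))) (.node (.node (.node (.node (.node (.leaf 457414126212) (.leaf 3736085726976)) (.leaf 2844879687044)) (.node (.leaf 372588599838) (.leaf 2758443329417))) (.node (.node (.leaf 1825361522317) (.leaf 3453154529296)) (.node (.leaf 2569464797456) (.leaf 4016869121307)))) (.node (.node (.node (.leaf 954556709261) (.leaf 2516314733335)) (.node (.leaf 44023970440) (.leaf 1277216803084))) (.node (.node (.leaf 752156466688) (.leaf 2024004148998)) (.node (.leaf 2783676342418) (.leaf 4201015888026))))))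
def dF_357 : BT := .node (.node (.node (.node (.node (.node (.node (.leaf 29527907216) (.leaf 4253092378894)) (.leaf 2849711480334)) (.node (.leaf 518617424654) (.leaf 2319283127710))) (.node (.node (.leaf 1176284448769) (.leaf 2611340898178)) (.node (.leaf 2032056967062) (.leaf 3850439061398)))) (.node (.node (.node (.node (.leaf 494458206613) (.leaf 4028680382857)) (.leaf 2870649504021)) (.node (.leaf 695247996815) (.leaf 3634080069776))) (.node (.node (.leaf 2024003820819) (.leaf 3468723718412)) (.node (.leaf 2625299385626) (.leaf 4057671320348))))) (.node (.node (.node (.node (.node (.leaf 366145996565) (.leaf 3955129051660)) (.leaf 2820720483351)) (.node (.leaf 368293533467) (.leaf 2839510976908))) (.node (.node (.leaf 1633698561288) (.leaf 3389266864023)) (.node (.leaf 2507724627867) (.leaf 3963182017309)))) (.node (.node (.node (.leaf 764504359061) (.leaf 3129958175638)) (.node (.leaf 1961189878935) (.leaf 3741991148828))) (.node (.node (.leaf 2224256718494) (.leaf 2971581321374)) (.node (.leaf 2493766037534) (.leaf 4000226156034)))))) (.node (.node (.node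 (.node (.node (.node (.leaf 222801481617) (.leaf 4321275000985)) (.leaf 2924873425949)) (.node (.leaf 1113470536987) (.leaf 2988761002654))) (.node (.node (.leaf 1363652441606) (.leaf 2464238280323)) (.node (.leaf 2424509616655) (.leaf 3905736816029)))) (.node (.node (.node (.leaf 610422372498) (.leaf 3134790002587)) (.node (.leaf 1322850272791) (.leaf 3692598994069))) (.node (.node (.leaf 12884905349) (.leaf 3565360576666)) (.node (.leaf 2676302077845) (.leaf 4109747811226))))) (.node (.node (.node (.node (.node (.leaf 468151546898) (.leaf 4409858722454)) (.leaf 2586107864194)) (.node (.leaf 30064875797) (.leaf 2470143665280))) (.node (.node (.leaf 1836635827604) (.leaf 3408057374102)) (.node (.leaf 2577517863181) (.leaf 4010426668815)))) (.node (.node (.node (.leaf 924491943428) (.leaf 3235184887065)) (.node (.leaf 1838783430283) (.leaf 3799436149764))) (.node (.node (.leaf 2068027060121) (.leaf 2672544067461)) (.node (.leaf 2793876835351) (.leaf 4205310856325))))))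
def dF_365 : BT := .node (.node (.node (.node (.node (.node (.node (.leaf 17716744336) (.leaf 4261145444613)) (.leaf 2831457372419)) (.node (.leaf 287762836894) (.leaf 3225521127557))) (.node (.node (.leaf 1154272736132) (.leaf 3214246761607)) (.node (.leaf 2367601286662) (.leaf 3834869838739)))) (.node (.node (.node (.node (.leaf 39191693959) (.leaf 4440997243011)) (.leaf 2855617114901)) (.node (.leaf 1320165887375) (.leaf 3630321972481))) (.node (.node (.leaf 2017561352448) (.leaf 3513820956825)) (.node (.leaf 2634963064461) (.leaf 4048007335179))))) (.node (.node (.node (.node (.node (.leaf 141734007562) (.leaf 4107600390400)) (.leaf 2983392369308)) (.node (.leaf 32749182494) (.leaf 2889976842626))) (.node (.node (.leaf 1554241675917) (.leaf 3394098714894)) (.node (.leaf 1846836531853) (.leaf 3961034533261)))) (.node (.node (.node (.leaf 467077875082) (.leaf 3178813427869)) (.node (.leaf 826244755848) (.leaf 3739306502152))) (.node (.node (.leaf 913217890327) (.leaf 2490544843422)) (.node (.leaf 2554969322647) (.leaf 4151086881299)))))) (.node (.node (.node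 (.node (.node (.node (.leaf 216359014413) (.leaf 4322885614212)) (.leaf 2915746618256)) (.node (.leaf 31138940702) (.leaf 2547453115137))) (.node (.node (.leaf 184683911832) (.leaf 3323231587330)) (.node (.leaf 2427730842899) (.leaf 3289945879565)))) (.node (.node (.node (.leaf 589484402048) (.leaf 3138011228941)) (.node (.leaf 548682202886) (.leaf 3695820239376))) (.node (.node (.leaf 463856915077) (.leaf 3563212802819)) (.node (.leaf 2682207715866) (.leaf 4116727134852))))) (.node (.node (.node (.node (.node (.leaf 469762160141) (.leaf 4407711238403)) (.leaf 3031173891856)) (.node (.leaf 46708222473) (.leaf 2919504765704))) (.node (.node (.leaf 1832340859537) (.leaf 2794413922183)) (.node (.leaf 2384244330902) (.leaf 4013647895059)))) (.node (.node (.node (.leaf 925565685018) (.leaf 2900714241670)) (.node (.leaf 2332704668553) (.leaf 3796751835526))) (.node (.node (.leaf 614180334990) (.leaf 644782677022)) (.node (.leaf 2789581923972) (.leaf 4206384598532))))))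
def dF_372 : BT := .node (.node (.node (.node (.node (.node (.node (.leaf 27380423047) (.leaf 4265440412810)) (.leaf 2857764545936)) (.node (.leaf 753229900032) (.leaf 2742337375262))) (.node (.node (.leaf 1186484806657) (.leaf 3278671428630)) (.node (.leaf 1699733873030) (.leaf 3859029035547)))) (.node (.node (.node (.node (.leaf 47781630211) (.leaf 4432944179990)) (.leaf 3083787253785)) (.node (.leaf 2027761918094) (.leaf 3048353905799))) (.node (.node (.leaf 1958505570692) (.leaf 1277216496798)) (.node (.leaf 2630131224978) (.leaf 4052839261833))))) (.node (.node (.node (.node (.node (.leaf 389768375046) (.leaf 4267051051909)) (.leaf 2989834821785)) (.node (.leaf 155692971806) (.leaf 2889440032790))) (.node (.node (.leaf 475131148424) (.leaf 3400541167384)) (.node (.leaf 2510408983056) (.leaf 3804268225685)))) (.node (.node (.node (.leaf 769336200336) (.leaf 2963528193303)) (.node (.leaf 1701344324374) (.leaf 3744138596887))) (.node (.node (.leaf 141197101594) (.leaf 2822330980503)) (.node (.leaf 2748242853900) (.leaf 4169340496669)))))) (.node (.node (.node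 (.node (.node (.node (.leaf 240518226048) (.leaf 4276177846915)) (.leaf 2873870628866)) (.node (.leaf 30065305246) (.leaf 2539400008448))) (.node (.node (.leaf 1377074201868) (.leaf 3333432287385)) (.node (.leaf 2432562682268) (.leaf 3870303336086)))) (.node (.node (.node (.leaf 9663824653) (.leaf 3139621841937)) (.node (.leaf 1561220914709) (.leaf 3698504410251))) (.node (.node (.leaf 941671818910) (.leaf 2699387797918)) (.node (.leaf 2494302887815) (.leaf 4106526584978))))) (.node (.node (.node (.node (.node (.leaf 15032497686) (.leaf 2567317753226)) (.leaf 3024731393302)) (.node (.leaf 1904818185886) (.leaf 2525978229909))) (.node (.node (.leaf 1841467667219) (.leaf 3473554966925)) (.node (.leaf 2577517863056) (.leaf 4010963466644)))) (.node (.node (.node (.leaf 995358908296) (.leaf 2523830927895)) (.node (.leaf 2336999630214) (.leaf 3800509488647))) (.node (.node (.leaf 1285806311963) (.leaf 2440078889751)) (.node (.leaf 2440078960007) (.leaf 4210679566852))))))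
def dF_383 : BT := .node (.node (.node (.node (.node (.node (.node (.leaf 25769809939) (.leaf 3925064250391)) (.leaf 2842732156819)) (.node (.leaf 620086000911) (.leaf 2611877816606))) (.node (.node (.leaf 1058172837900) (.leaf 3271155246735)) (.node (.leaf 2364380047877) (.leaf 3834332654345)))) (.node (.node (.node (.node (.leaf 132607199639) (.leaf 4437776016659)) (.leaf 3041374448660)) (.node (.leaf 1123134215704) (.leaf 3627100746266))) (.node (.node (.leaf 1974611685138) (.leaf 3508452246416)) (.node (.leaf 2583423452054) (.leaf 4031364305290))))) (.node (.node (.node (.node (.node (.leaf 359166725777) (.leaf 4364761428748)) (.leaf 2976949877653)) (.node (.leaf 536871064) (.leaf 2565170044830))) (.node (.node (.leaf 1576253373700) (.leaf 3309809978903)) (.node (.leaf 2494302851972) (.leaf 3952444255112)))) (.node (.node (.node (.leaf 751619456132) (.leaf 3171297233305)) (.node (.leaf 331786228758) (.leaf 3736085562900))) (.node (.node (.leaf 2240899194010) (.leaf 2980708099716)) (.node (.leaf 2727841754255) (.leaf 1896765920158)))))) (.node (.node (.node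 (.node (.node (.node (.leaf 194884187661) (.leaf 4305168869525)) (.leaf 2921652199707)) (.node (.leaf 1119913008286) (.leaf 3323231728396))) (.node (.node (.leaf 1320702760069) (.leaf 3318936769306)) (.node (.leaf 2429878327173) (.leaf 2931852981131)))) (.node (.node (.node (.leaf 140660312836) (.leaf 3131568776344)) (.node (.leaf 1061930800279) (.leaf 2368138471555))) (.node (.node (.leaf 860604537218) (.leaf 3554086286209)) (.node (.leaf 2669859681939) (.leaf 3732327558274))))) (.node (.node (.node (.node (.node (.leaf 133144092310) (.leaf 4404490012292)) (.leaf 3027952665626)) (.node (.leaf 1071057741726) (.leaf 2836289750537))) (.node (.node (.leaf 1819455947919) (.leaf 3404299276822)) (.node (.leaf 2572686023699) (.leaf 2905009463051)))) (.node (.node (.node (.leaf 925565676038) (.leaf 3227131821466)) (.node (.leaf 1829656623383) (.leaf 3788161985284))) (.node (.node (.leaf 751082440346) (.leaf 2423972916096)) (.node (.leaf 2728915509911) (.leaf 4183836014737))))))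
def dF_390 : BT := .node (.node (.node (.node (.node (.node (.node (.leaf 93415560977) (.leaf 1895155335070)) (.leaf 2851858964508)) (.node (.leaf 30601801758) (.leaf 2516851523607))) (.node (.node (.leaf 1167157641093) (.leaf 2507724731906)) (.node (.leaf 2369211899539) (.leaf 3840238549144)))) (.node (.node (.node (.node (.leaf 493384377748) (.leaf 4427575470093)) (.leaf 3075734135060)) (.node (.leaf 1267552525455) (.leaf 3635690682899))) (.node (.node (.leaf 2020245355905) (.leaf 3512210343694)) (.node (.leaf 2631204967069) (.leaf 4048007640213))))) (.node (.node (.node (.node (.node (.leaf 372588501788) (.leaf 4367445907223)) (.leaf 2982318627224)) (.node (.leaf 8053065626) (.leaf 2575370404738))) (.node (.node (.leaf 1626719251329) (.leaf 3394635438342)) (.node (.leaf 2512556467332) (.leaf 3878893285397)))) (.node (.node (.node (.leaf 696321754752) (.leaf 3183645254807)) (.node (.leaf 1954747170947) (.leaf 3740380097927))) (.node (.node (.leaf 245350082444) (.leaf 3414499673118)) (.node (.leaf 2733210464657) (.leaf 3762929212416)))))) (.node (.node (.node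 (.node (.node (.node (.leaf 227633321093) (.leaf 4276177845911)) (.leaf 2915209747215)) (.node (.leaf 725312752539) (.leaf 2823404983454))) (.node (.node (.leaf 1357209989248) (.leaf 3316252276866)) (.node (.leaf 2430415198096) (.leaf 3904663073921)))) (.node (.node (.node (.leaf 601295564933) (.leaf 3144453681309)) (.node (.leaf 1437203772428) (.leaf 3678103498774))) (.node (.node (.leaf 428959961118) (.leaf 3564286834575)) (.node (.leaf 2676839005464) (.leaf 4115653392669))))) (.node (.node (.node (.node (.node (.leaf 477815225629) (.leaf 2452964248073)) (.leaf 3032247633934)) (.node (.leaf 46171334017) (.leaf 2470680560769))) (.node (.node (.leaf 1834488343697) (.leaf 3459596981784)) (.node (.leaf 2390149912341) (.leaf 4016332250256)))) (.node (.node (.node (.leaf 960999161619) (.leaf 3235184887169)) (.node (.leaf 2333241539867) (.leaf 3789772671375))) (.node (.node (.leaf 619012639372) (.leaf 2925410231812)) (.node (.leaf 2791192536989) (.leaf 4204773985307))))))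
def dF_398 : BT := .node (.node (.node (.node (.node (.node (.node (.leaf 83215011870) (.leaf 4248260540574)) (.leaf 2839510930575)) (.node (.leaf 389768470558) (.leaf 2405182527488))) (.node (.node (.leaf 1151588380819) (.leaf 3266860265621)) (.node (.leaf 2367064335361) (.leaf 3460670813189)))) (.node (.node (.node (.node (.leaf 129922866054) (.leaf 4439386629777)) (.leaf 3077881672345)) (.node (.leaf 639413408655) (.leaf 3631395714587))) (.node (.node (.leaf 2008971431820) (.leaf 828392654082)) (.node (.leaf 2619930675228) (.leaf 4034048976905))))) (.node (.node (.node (.node (.node (.leaf 345744897031) (.leaf 3978214498823)) (.leaf 2812130546711)) (.node (.leaf 372051630747) (.leaf 2892661229845))) (.node (.node (.leaf 1524713771270) (.leaf 3397856812186)) (.node (.leaf 2498060949139) (.leaf 3955128951695)))) (.node (.node (.node (.leaf 758598779537) (.leaf 2953864514583)) (.node (.leaf 823560005642) (.leaf 3738233051547))) (.node (.node (.leaf 1053341230747) (.leaf 2828773643648)) (.node (.leaf 2733747335708) (.leaf 4150550010269)))))) (.node (.node (.node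 (.node (.node (.node (.leaf 104153007386) (.leaf 4176319854238)) (.leaf 2912525392024)) (.node (.leaf 207232268813) (.leaf 3231963463937))) (.node (.node (.leaf 117038179230) (.leaf 3320547382416)) (.node (.leaf 2418067164187) (.leaf 3899294363534)))) (.node (.node (.node (.leaf 151934605467) (.leaf 3047816913283)) (.node (.leaf 1550483536258) (.leaf 3686693431694))) (.node (.node (.leaf 2106145090964) (.leaf 2359548507397)) (.node (.leaf 2675765263491) (.leaf 4102768487709))))) (.node (.node (.node (.node (.node (.leaf 456877255058) (.leaf 4406100625299)) (.leaf 3037616344334)) (.node (.leaf 405874845451) (.leaf 2690797871497))) (.node (.node (.leaf 1828045891229) (.leaf 3451007021462)) (.node (.leaf 2570001668495) (.leaf 4003984216347)))) (.node (.node (.node (.leaf 115964345217) (.leaf 2573759920262)) (.node (.leaf 2331094055695) (.leaf 3784403964181))) (.node (.node (.leaf 451508611102) (.leaf 1765232222366)) (.node (.leaf 2782065672471) (.leaf 4150550022147))))))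
def dF_405 : BT := .node (.node (.node (.node (.node (.node (.node (.leaf 50465877778) (.leaf 4255239804054)) (.leaf 2858301416979)) (.node (.leaf 184683625346) (.leaf 2577518092940))) (.node (.node (.leaf 1177358190739) (.leaf 3280282054424)) (.node (.leaf 2371896253835) (.leaf 3854734067332)))) (.node (.node (.node (.node (.leaf 50465985414) (.leaf 3871377205769)) (.leaf 3082713511709)) (.node (.leaf 511101230094) (.leaf 3614215846656))) (.node (.node (.leaf 2026151304979) (.leaf 1696512678814)) (.node (.leaf 2627983740825) (.leaf 4053913149573))))) (.node (.node (.node (.node (.node (.leaf 374735933461) (.leaf 4374962104988)) (.leaf 2986613556373)) (.node (.leaf 578210110107) (.leaf 2565706918029))) (.node (.node (.leaf 1636382929949) (.leaf 3400004296460)) (.node (.leaf 2507187756824) (.leaf 3957813306905)))) (.node (.node (.node (.leaf 701690464778) (.leaf 2467996340487)) (.node (.leaf 633508115331) (.leaf 3742528019869))) (.node (.node (.leaf 146566102413) (.leaf 3136937332630)) (.node (.leaf 2548526870164) (.leaf 4159139947021)))))) (.node (.node (.node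 (.node (.node (.node (.leaf 226559529231) (.leaf 4323959273728)) (.leaf 2924873425939)) (.node (.leaf 971736678029) (.leaf 3142842900096))) (.node (.node (.leaf 1280974323212) (.leaf 3332895416452)) (.node (.leaf 2429878308610) (.leaf 3884798805652)))) (.node (.node (.node (.leaf 618475438109) (.leaf 3133716260505)) (.node (.leaf 1326071468052) (.leaf 3225521320713))) (.node (.node (.leaf 958314826901) (.leaf 3569655545088)) (.node (.leaf 2440078933399) (.leaf 4112432166425))))) (.node (.node (.node (.node (.node (.leaf 468151546896) (.leaf 4410395593223)) (.leaf 3036005685141)) (.node (.leaf 1105954460958) (.leaf 3049427486228))) (.node (.node (.leaf 387621236872) (.leaf 3456912614420)) (.node (.leaf 2573759765788) (.leaf 1895155276958)))) (.node (.node (.node (.leaf 221727922055) (.leaf 3231963660819)) (.node (.leaf 2335925895059) (.leaf 2584497475973))) (.node (.node (.leaf 119722374174) (.leaf 2640331721216)) (.node (.leaf 2792266279056) (.leaf 3762929224471))))))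
def dF_414 : BT := .node (.node (.node (.node (.node (.node (.node (.leaf 14495518098) (.leaf 4243965451543)) (.leaf 2841121543696)) (.node (.leaf 342523728286) (.leaf 2703145787521))) (.node (.node (.leaf 1145145928452) (.leaf 2508798551574)) (.node (.leaf 2365990673163) (.leaf 2675765543296)))) (.node (.node (.node (.node (.leaf 438623565319) (.leaf 4438312887171)) (.leaf 2845416568205)) (.node (.leaf 1700807454735) (.leaf 3631395714701))) (.node (.node (.leaf 1995549655821) (.leaf 2706903974275)) (.node (.leaf 2615635657110) (.leaf 3891241331460))))) (.node (.node (.node (.node (.node (.leaf 134217812756) (.leaf 3030100468490)) (.leaf 2965675543047)) (.node (.leaf 1075352707998) (.leaf 2840047854724))) (.node (.node (.leaf 1505386414593) (.leaf 3390877488768)) (.node (.leaf 2492692238749) (.leaf 3954055209615)))) (.node (.node (.node (.leaf 11274469145) (.leaf 3121368238998)) (.node (.leaf 820339175808) (.leaf 2806762018186))) (.node (.node (.leaf 1365799806868) (.leaf 3186329444236)) (.node (.leaf 2729452367501) (.leaf 4136590968969)))))) (.node (.node (.node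 (.node (.node (.node (.leaf 197031650715) (.leaf 4314295677581)) (.leaf 2917357231387)) (.node (.leaf 331249836296) (.leaf 3231426789771))) (.node (.node (.leaf 1336272018692) (.leaf 3325379084546)) (.node (.leaf 2419677777308) (.leaf 3901978678164)))) (.node (.node (.node (.leaf 568009560348) (.leaf 3131568736276)) (.node (.leaf 564788333975) (.leaf 3689914658061))) (.node (.node (.leaf 1972464246925) (.leaf 1320166421511)) (.node (.leaf 2669859674391) (.leaf 4100621003547))))) (.node (.node (.node (.node (.node (.leaf 98784355980) (.leaf 4399121303062)) (.leaf 3026342052505)) (.node (.leaf 1212791683230) (.leaf 2501819194632))) (.node (.node (.leaf 1824824235016) (.leaf 3454228271376)) (.node (.leaf 2560337989779) (.leaf 4005594829468)))) (.node (.node (.node (.leaf 950261740940) (.leaf 3226058079374)) (.node (.leaf 2330020313627) (.leaf 2600066730124))) (.node (.node (.leaf 866510122137) (.leaf 2030983253525)) (.node (.leaf 2785286955539) (.leaf 4201552759069))))))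
def dF_421 : BT := .node (.node (.node (.node (.node (.node (.node (.leaf 33822875536) (.leaf 4253092378882)) (.leaf 2850248351377)) (.node (.leaf 316754292236) (.leaf 700080326046))) (.node (.node (.leaf 1172526337307) (.leaf 3278671441421)) (.node (.leaf 1841467793281) (.leaf 3693135921668)))) (.node (.node (.node (.node (.leaf 404800785410) (.leaf 4442070984989)) (.leaf 3092377190529)) (.node (.leaf 2022393207695) (.leaf 3634080069778))) (.node (.node (.leaf 2023466949779) (.leaf 3032247510412)) (.node (.leaf 2629594353946) (.leaf 3900368142468))))) (.node (.node (.node (.node (.node (.leaf 370440964885) (.leaf 2601677482506)) (.leaf 2983929240335)) (.node (.leaf 457950899469) (.leaf 3302293670667))) (.node (.node (.leaf 19864613130) (.leaf 3390340606100)) (.node (.leaf 2512019596187) (.leaf 3958887048989)))) (.node (.node (.node (.leaf 765041232029) (.leaf 3180960912014)) (.node (.leaf 1901597222676) (.leaf 3741990407564))) (.node (.node (.leaf 137439163034) (.leaf 2556043175684)) (.node (.leaf 2730526066198) (.leaf 4154844978462)))))) (.node (.node (.node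 (.node (.node (.node (.leaf 227096449937) (.leaf 4325569969305)) (.leaf 2928094652185)) (.node (.leaf 692563744542) (.leaf 3006477871107))) (.node (.node (.leaf 1353988646158) (.leaf 3331821674269)) (.node (.leaf 2428804584975) (.leaf 3798362633621)))) (.node (.node (.node (.leaf 605053662108) (.leaf 3139084970907)) (.node (.leaf 1381369172119) (.leaf 3695283099402))) (.node (.node (.leaf 469762259742) (.leaf 3565360394507)) (.node (.leaf 2644089879574) (.leaf 4114042779546))))) (.node (.node (.node (.node (.node (.leaf 472446515218) (.leaf 3693672925835)) (.leaf 2617783226119)) (.node (.leaf 1513439484830) (.leaf 2906082952855))) (.node (.node (.leaf 1825898409738) (.leaf 3459060110734)) (.node (.leaf 1838783487244) (.leaf 4014721637135)))) (.node (.node (.node (.leaf 959388548496) (.leaf 3231963660827)) (.node (.leaf 2334315281947) (.leaf 3789235800339))) (.node (.node (.leaf 1058172715394) (.leaf 2925947198345)) (.node (.leaf 2790118794905) (.leaf 4190815341827))))))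
def dF_429 : BT := .node (.node (.node (.node (.node (.node (.node (.leaf 22011712656) (.leaf 4256850476293)) (.leaf 756988660866)) (.node (.leaf 422517441944) (.leaf 2759517193217))) (.node (.node (.leaf 1072131483289) (.leaf 2459406425860)) (.node (.leaf 2367064415638) (.leaf 3835406709662)))) (.node (.node (.node (.node (.leaf 387620912151) (.leaf 4440460371869)) (.leaf 3076807930254)) (.node (.leaf 1384590412175) (.leaf 3633006222989))) (.node (.node (.leaf 2016487626258) (.leaf 3514357827866)) (.node (.leaf 2630668096140) (.leaf 4048007641624))))) (.node (.node (.node (.node (.node (.leaf 41876017542) (.leaf 4031901590942)) (.leaf 2987150466587)) (.node (.leaf 32749662494) (.leaf 2690797733765))) (.node (.node (.leaf 1613834346372) (.leaf 3395172456976)) (.node (.leaf 2495913464975) (.leaf 3956739564941)))) (.node (.node (.node (.leaf 696858625281) (.leaf 3183108396189)) (.node (.leaf 828392222469) (.leaf 3739306793619))) (.node (.node (.leaf 912681005578) (.leaf 3612605228178)) (.node (.leaf 2732673593624) (.leaf 4152697494278)))))) (.node (.node (.node (.node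 (.node (.node (.leaf 142807713932) (.leaf 4312148097416)) (.leaf 2920041586576)) (.node (.leaf 31675419550) (.leaf 2492155418634))) (.node (.node (.leaf 183610169752) (.leaf 2843806013698)) (.node (.leaf 2416456551064) (.leaf 3898757492497)))) (.node (.node (.node (.leaf 585189433728) (.leaf 3133716260621)) (.node (.leaf 1177895122711) (.leaf 3693135884291))) (.node (.node (.leaf 2175401041947) (.leaf 2337536800258)) (.node (.leaf 2678986489628) (.leaf 4112432166532))))) (.node (.node (.node (.node (.node (.leaf 465467191820) (.leaf 4407711238415)) (.leaf 3035468860176)) (.node (.leaf 372051711372) (.leaf 3480534873736))) (.node (.node (.leaf 1831803986821) (.leaf 3460133852929)) (.node (.leaf 2388539299222) (.leaf 4017942863379)))) (.node (.node (.node (.leaf 973347195652) (.leaf 3174518303107)) (.node (.leaf 2332167797779) (.leaf 3796751919747))) (.node (.node (.leaf 499826988062) (.leaf 2788508111774)) (.node (.leaf 2785286941973) (.leaf 4150013151240))))))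
def dF_436 : BT := .node (.node (.node (.node (.node (.node (.node (.leaf 44560296326) (.leaf 4263292928771)) (.leaf 2857227674899)) (.node (.leaf 114353576350) (.leaf 2339147393421))) (.node (.node (.leaf 1185411243912) (.leaf 3278134570255)) (.node (.leaf 2371359382293) (.leaf 3859028728066)))) (.node (.node (.node (.node (.leaf 499289959559) (.leaf 4436702276352)) (.leaf 3088082222105)) (.node (.leaf 1960653038095) (.leaf 2610267241613))) (.node (.node (.leaf 1957431828612) (.leaf 1701344704898)) (.node (.leaf 2634426193298) (.leaf 4054986965136))))) (.node (.node (.node (.node (.node (.leaf 389768375173) (.leaf 4376572718104)) (.leaf 2990371692826)) (.node (.leaf 20401099545) (.leaf 3041374456962))) (.node (.node (.leaf 1640677897091) (.leaf 3401078038427)) (.node (.leaf 2502355917459) (.leaf 3956202414856)))) (.node (.node (.node (.leaf 767725587721) (.leaf 3124052594184)) (.node (.leaf 767188999682) (.leaf 3744138632975))) (.node (.node (.leaf 945967037210) (.leaf 3015604579084)) (.node (.leaf 2743947885581) (.leaf 4119948373268)))))) (.node (.node (.node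 (.node (.node (.node (.leaf 236223257728) (.leaf 4331475550852)) (.leaf 2872796922114)) (.node (.leaf 158377120524) (.leaf 2869575711244))) (.node (.node (.leaf 1376000472473) (.leaf 3332895416346)) (.node (.leaf 2436857650588) (.leaf 3205120276103)))) (.node (.node (.node (.leaf 616327953936) (.leaf 3133179389459)) (.node (.leaf 1255741216896) (.leaf 3697967723547))) (.node (.node (.leaf 898721997448) (.leaf 2689724122526)) (.node (.leaf 2644626750614) (.leaf 4110821553298))))) (.node (.node (.node (.node (.node (.leaf 471909535639) (.leaf 4412006206739)) (.leaf 2831457911060)) (.node (.leaf 710280505630) (.leaf 2408403570181))) (.node (.node (.leaf 1839857050391) (.leaf 3469260660620)) (.node (.leaf 2576444120978) (.leaf 1847910636044)))) (.node (.node (.node (.leaf 990527069704) (.leaf 3228742434575)) (.node (.leaf 2336999637145) (.leaf 3522410959638))) (.node (.node (.leaf 1789928113947) (.leaf 2494302865029)) (.node (.leaf 2552284981013) (.leaf 4153234377606))))))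
def dF_446 : BT := .node (.node (.node (.node (.node (.node (.node (.leaf 23085454738) (.leaf 4247723582214)) (.leaf 2834142220179)) (.node (.leaf 155692688542) (.leaf 2404108602369))) (.node (.node (.leaf 915365176068) (.leaf 3218005026580)) (.node (.leaf 2030446353172) (.leaf 3841849162373)))) (.node (.node (.node (.node (.leaf 442381662612) (.leaf 2879776630154)) (.leaf 3073586696981)) (.node (.leaf 1837709569935) (.leaf 3153580601758))) (.node (.node (.leaf 1986959719180) (.leaf 3507915375375)) (.node (.leaf 2522220117780) (.leaf 3892315073566))))) (.node (.node (.node (.node (.node (.leaf 348429304977) (.leaf 4365298426243)) (.leaf 2804614352148)) (.node (.leaf 418222636172) (.leaf 3105799013534))) (.node (.node (.leaf 1553167925133) (.leaf 2614562147586)) (.node (.leaf 2500208433305) (.leaf 2527052325376)))) (.node (.node (.node (.leaf 746787616659) (.leaf 3170760362259)) (.node (.leaf 1692217518614) (.leaf 2709588382728))) (.node (.node (.leaf 2245731031321) (.leaf 2493229335181)) (.node (.leaf 2723009871638) (.leaf 4147328687619)))))) (.node (.node (.node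 (.node (.node (.node (.leaf 199716026898) (.leaf 4304631998734)) (.leaf 2913599134108)) (.node (.leaf 1074278955934) (.leaf 2747706056330))) (.node (.node (.leaf 1314260309782) (.leaf 3321621124505)) (.node (.leaf 2428267713948) (.leaf 3738769961740)))) (.node (.node (.node (.leaf 567472689420) (.leaf 3128884421138)) (.node (.leaf 533112941314) (.leaf 3686156560657))) (.node (.node (.leaf 2109366312450) (.leaf 1321777033986)) (.node (.leaf 2670933424015) (.leaf 4102231616668))))) (.node (.node (.node (.node (.node (.leaf 127775381910) (.leaf 4404489680770)) (.leaf 3034931989145)) (.node (.leaf 128849439371) (.leaf 2397129193739))) (.node (.node (.leaf 126165091353) (.leaf 3452080787227)) (.node (.leaf 2568927926419) (.leaf 4014184766108)))) (.node (.node (.node (.leaf 941671804300) (.leaf 3227131821454)) (.node (.leaf 2329483326976) (.leaf 3788162058268))) (.node (.node (.leaf 1789927944461) (.leaf 1276679657986)) (.node (.leaf 2783676342427) (.leaf 4202626501137))))))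
def dF_453 : BT := .node (.node (.node (.node (.node (.node (.node (.leaf 47781522577) (.leaf 4257924218256)) (.leaf 2850785222424)) (.node (.leaf 110058603806) (.leaf 768799825415))) (.node (.node (.leaf 1169841996178) (.leaf 3111167664774)) (.node (.leaf 2369748770577) (.leaf 3853123454096)))) (.node (.node (.node (.node (.leaf 478351988102) (.leaf 4442070977796)) (.leaf 3083787253889)) (.node (.leaf 1120449860494) (.leaf 3635153657863))) (.node (.node (.leaf 2022393206913) (.leaf 3520800280452)) (.node (.leaf 2622615030429) (.leaf 4057671320453))))) (.node (.node (.node (.node (.node (.leaf 370977888658) (.leaf 3803731454348)) (.leaf 2981781756179)) (.node (.leaf 1081795145625) (.leaf 2389613014403))) (.node (.node (.leaf 1555852291596) (.leaf 3392487975938)) (.node (.leaf 2508261498908) (.leaf 3966403081224)))) (.node (.node (.node (.leaf 763430619016) (.leaf 3179887169938)) (.node (.leaf 2024003778711) (.leaf 3740917406745))) (.node (.node (.leaf 283468287259) (.leaf 2673617745694)) (.node (.leaf 2732136722575) (.leaf 4153234365466)))))) (.node (.node (.node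 (.node (.node (.node (.leaf 24159246478) (.leaf 4321275000989)) (.leaf 2922189070852)) (.node (.leaf 339302419206) (.leaf 2789582074253))) (.node (.node (.leaf 136902407565) (.leaf 3327526706060)) (.node (.leaf 2421825261456) (.leaf 3815005631629)))) (.node (.node (.node (.leaf 609885501572) (.leaf 3135863744669)) (.node (.leaf 1384053526039) (.leaf 3609384021764))) (.node (.node (.leaf 976031349901) (.leaf 3564823705629)) (.node (.leaf 2680597102738) (.leaf 4107063456029))))) (.node (.node (.node (.node (.node (.leaf 478888967697) (.leaf 4408248109828)) (.leaf 3023657697294)) (.node (.leaf 1212254666391) (.leaf 3078418493322))) (.node (.node (.leaf 1835562071444) (.leaf 2499134920322)) (.node (.leaf 2381023104650) (.leaf 4007742313616)))) (.node (.node (.node (.leaf 967978485136) (.leaf 3233037402909)) (.node (.leaf 1828582882709) (.leaf 3789772671387))) (.node (.node (.leaf 245887097630) (.leaf 2786897722398)) (.node (.leaf 2790655665946) (.leaf 3922916756873))))))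
def dF_461 : BT := .node (.node (.node (.node (.node (.node (.node (.leaf 6442452497) (.leaf 4248260483991)) (.leaf 2830920993935)) (.node (.leaf 837518871816) (.leaf 2404645416342))) (.node (.node (.leaf 1149440896657) (.leaf 3264712781461)) (.node (.leaf 2367601286427) (.leaf 3837554148758)))) (.node (.node (.node (.node (.leaf 129385973383) (.leaf 4439923500819)) (.leaf 3077344801299)) (.node (.leaf 643708376975) (.leaf 3631932535700))) (.node (.node (.leaf 477815592088) (.leaf 3514357827973)) (.node (.leaf 2622078159500) (.leaf 4047470733189))))) (.node (.node (.node (.node (.node (.leaf 346818639111) (.leaf 4228396345605)) (.leaf 2982855498380)) (.node (.leaf 517543808646) (.leaf 2454574421888))) (.node (.node (.leaf 1605244409733) (.leaf 2485176261762)) (.node (.leaf 2496987207057) (.leaf 3955665822739)))) (.node (.node (.node (.leaf 760209392389) (.leaf 3182034654220)) (.node (.leaf 1900523494923) (.leaf 3738769922452))) (.node (.node (.leaf 969588888472) (.leaf 2658585569281)) (.node (.leaf 2733210464667) (.leaf 4149476268185)))))) (.node (.node (.node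 (.node (.node (.node (.leaf 213674651925) (.leaf 4312148163073)) (.leaf 2916283489299)) (.node (.leaf 144418301824) (.leaf 2524367644289))) (.node (.node (.leaf 28454476825) (.leaf 3322694866574)) (.node (.leaf 2425046487704) (.leaf 3729643155732)))) (.node (.node (.node (.leaf 578210110097) (.leaf 2706366869251)) (.node (.leaf 1394790999191) (.leaf 3691525271054))) (.node (.node (.leaf 2102923880834) (.leaf 3555696899456)) (.node (.leaf 2682744586897) (.leaf 4103305358980))))) (.node (.node (.node (.node (.node (.leaf 144418383766) (.leaf 4407174367237)) (.leaf 3030100149778)) (.node (.leaf 1622960892055) (.leaf 3570192298240))) (.node (.node (.leaf 1823214053387) (.leaf 3353833410580)) (.node (.leaf 2561411731855) (.leaf 4010963539864)))) (.node (.node (.node (.leaf 964757259013) (.leaf 2756295862407)) (.node (.leaf 2331630926739) (.leaf 2683281721886))) (.node (.node (.leaf 607738338188) (.leaf 2672006682119)) (.node (.leaf 2781528844694) (.leaf 4148939409029))))))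
def dF_468 : BT := .node (.node (.node (.node (.node (.node (.node (.leaf 30601649298) (.leaf 4261145371523)) (.leaf 2856153932827)) (.node (.leaf 16106573214) (.leaf 2517388413320))) (.node (.node (.leaf 1182189860367) (.leaf 3279745183374)) (.node (.leaf 2371896254745) (.leaf 2510409304707)))) (.node (.node (.node (.node (.leaf 48318479511) (.leaf 4443144727064)) (.leaf 3085397866906)) (.node (.leaf 2026688176015) (.leaf 2417530583944))) (.node (.node (.leaf 2020782596107) (.leaf 2030446372894)) (.node (.leaf 2429878376068) (.leaf 4009352937344))))) (.node (.node (.node (.node (.node (.leaf 381178438533) (.leaf 4364224686742)) (.leaf 2993056048010)) (.node (.leaf 1692217520926) (.leaf 2388539481869))) (.node (.node (.leaf 475131147787) (.leaf 3355980882582)) (.node (.leaf 2510945854099) (.leaf 3729643171332)))) (.node (.node (.node (.leaf 692026788740) (.leaf 3178276504341)) (.node (.leaf 510564675597) (.leaf 3743601761935))) (.node (.node (.leaf 2247341981197) (.leaf 2546379446284)) (.node (.leaf 2553895580564) (.leaf 4167729883660)))))) (.node (.node (.node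 (.node (.node (.node (.leaf 10200599438) (.leaf 4321274863638)) (.leaf 2924873425935)) (.node (.leaf 392989854218) (.leaf 2977486658316))) (.node (.node (.leaf 1363652125465) (.leaf 3336653513629)) (.node (.leaf 2433099553420) (.leaf 3906273687056)))) (.node (.node (.node (.leaf 613643598738) (.leaf 3141769326099)) (.node (.leaf 1573568947094) (.leaf 2632815833986))) (.node (.node (.leaf 890132222997) (.leaf 3578245481728)) (.node (.leaf 2681133966231) (.leaf 4119411489938))))) (.node (.node (.node (.node (.node (.leaf 475130761879) (.leaf 3850439232651)) (.leaf 3030636974742)) (.node (.leaf 1068373387917) (.leaf 2906619798421))) (.node (.node (.leaf 1839857054215) (.leaf 3460670700181)) (.node (.leaf 2576980992024) (.leaf 4014721637013)))) (.node (.node (.node (.leaf 13958880008) (.leaf 3230353047696)) (.node (.leaf 2336999486985) (.leaf 3799436027660))) (.node (.node (.leaf 681289652382) (.leaf 2548526800517)) (.node (.leaf 2790655665935) (.leaf 3763466095252))))))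
def dF_477 : BT := .node (.node (.node (.node (.node (.node (.node (.leaf 82141269138) (.leaf 4252555463565)) (.leaf 2832531607056)) (.node (.leaf 82141274142) (.leaf 2612414445701))) (.node (.node (.leaf 1151588380829) (.leaf 2506651067414)) (.node (.leaf 2366527544337) (.leaf 2659659415454)))) (.node (.node (.node (.node (.leaf 350039939735) (.leaf 4438849753877)) (.leaf 3076807930269)) (.node (.leaf 646392732174) (.leaf 2410014390282))) (.node (.node (.leaf 2004139545357) (.leaf 3505230973446)) (.node (.leaf 2580202204038) (.leaf 4034048995584))))) (.node (.node (.node (.node (.node (.leaf 127775360276) (.leaf 4365835297297)) (.leaf 2965138714774)) (.node (.leaf 143881589278) (.leaf 2452426937886))) (.node (.node (.leaf 1590748891649) (.leaf 3398393683217)) (.node (.leaf 2499134691225) (.leaf 3954592080657)))) (.node (.node (.node (.leaf 756987988744) (.leaf 3170760349847)) (.node (.leaf 110058542084) (.leaf 3735011818773))) (.node (.node (.leaf 967978763139) (.leaf 2802466829185)) (.node (.leaf 624918394253) (.leaf 4152697068429)))))) (.node (.node (.node (.node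 (.node (.node (.leaf 203474124301) (.leaf 4320738129938)) (.leaf 2921115328664)) (.node (.leaf 409095640448) (.leaf 2706366869249))) (.node (.node (.leaf 1344861955332) (.leaf 3318399898258)) (.node (.leaf 2426657100827) (.leaf 3898757492507)))) (.node (.node (.node (.leaf 215822243204) (.leaf 3126736917766)) (.node (.leaf 534187083294) (.leaf 3008088600065))) (.node (.node (.leaf 154619331460) (.leaf 3560528737304)) (.node (.leaf 2434710222996) (.leaf 4103305358748))))) (.node (.node (.node (.node (.node (.leaf 461709094532) (.leaf 4358855984917)) (.leaf 3038153169301)) (.node (.leaf 150860823454) (.leaf 2825015478401))) (.node (.node (.leaf 1826434935041) (.leaf 3451543916175)) (.node (.leaf 2565169829136) (.leaf 4012574152987)))) (.node (.node (.node (.leaf 955630451219) (.leaf 2514167249175)) (.node (.leaf 2330557184659) (.leaf 3792993897732))) (.node (.node (.leaf 739808426647) (.leaf 2475512592030)) (.node (.leaf 2782602600336) (.leaf 4200479016985))))))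
def dF_484 : BT := .node (.node (.node (.node (.node (.node (.node (.leaf 82678142976) (.leaf 4018479790337)) (.leaf 2848100809734)) (.node (.leaf 410169443840) (.leaf 3074123496094))) (.node (.node (.leaf 1180579417089) (.leaf 3280818925467)) (.node (.leaf 1962263748609) (.leaf 3853659559052)))) (.node (.node (.node (.node (.leaf 479425817494) (.leaf 4442607856027)) (.leaf 3091303448349)) (.node (.leaf 823560175374) (.leaf 2321967561351))) (.node (.node (.leaf 2024540690454) (.leaf 3498788303245)) (.node (.leaf 2621004417306) (.leaf 4058208191387))))) (.node (.node (.node (.node (.node (.leaf 371514706950) (.leaf 4374962105088)) (.leaf 2983392330133)) (.node (.leaf 1349693786139) (.leaf 3508989123614))) (.node (.node (.leaf 20401484554) (.leaf 3387656114819)) (.node (.leaf 2503429659547) (.leaf 3958350177946)))) (.node (.node (.node (.leaf 377957304585) (.leaf 3180423963266)) (.node (.leaf 1845225778453) (.leaf 2391760805003))) (.node (.node (.leaf 144418477851) (.leaf 3098282727814)) (.node (.leaf 2549600599428) (.leaf 3549254589962)))))) (.node (.node (.node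 (.node (.node (.node (.leaf 218506513297) (.leaf 4272956619524)) (.leaf 2924873425947)) (.node (.leaf 252866493965) (.leaf 3143379941406))) (.node (.node (.leaf 1365263054853) (.leaf 3042448251906)) (.node (.leaf 2420214648335) (.leaf 3767224116229)))) (.node (.node (.node (.leaf 615254211969) (.leaf 3142306197145)) (.node (.leaf 1383516655508) (.leaf 769873769095))) (.node (.node (.leaf 987305854750) (.leaf 3565897447575)) (.node (.leaf 2678986489616) (.leaf 4105452842906))))) (.node (.node (.node (.node (.node (.leaf 476741483536) (.leaf 2507188210569)) (.leaf 2843269073940)) (.node (.leaf 1105417570462) (.leaf 2585034024588))) (.node (.node (.leaf 1826972151819) (.leaf 3205657040002)) (.node (.leaf 2579665347219) (.leaf 4006131700495)))) (.node (.node (.node (.leaf 980326519175) (.leaf 3230889918745)) (.node (.leaf 1833951592087) (.leaf 3799436350096))) (.node (.node (.leaf 591095380634) (.leaf 2640868733726)) (.node (.leaf 2793340021136) (.leaf 4205310844182))))))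
def dF_492 : BT := .node (.node (.node (.node (.node (.node (.node (.leaf 13421776016) (.leaf 4014721696130)) (.leaf 2848100867340)) (.node (.leaf 89657553945) (.leaf 766652249246))) (.node (.node (.leaf 1158567704452) (.leaf 2388002595846)) (.node (.leaf 2366527544852) (.leaf 3834869838747)))) (.node (.node (.node (.node (.leaf 477278333319) (.leaf 3609921071242)) (.leaf 3048890643223)) (.node (.leaf 1321239629454) (.leaf 3630321972495))) (.node (.node (.leaf 2018635082885) (.leaf 3513284085778)) (.node (.leaf 2636573677457) (.leaf 3765613541900))))) (.node (.node (.node (.node (.node (.leaf 366682920455) (.leaf 4373351491869)) (.leaf 2985002982427)) (.node (.leaf 157840149260) (.leaf 2945811383189))) (.node (.node (.leaf 1618666171419) (.leaf 3347927816981)) (.node (.leaf 2503966530692) (.leaf 3965329501580)))) (.node (.node (.node (.leaf 696858625547) (.leaf 3180424040986)) (.node (.leaf 1832340888597) (.leaf 3589519809288))) (.node (.node (.leaf 2003602279833) (.leaf 2986613479582)) (.node (.leaf 2734284206739) (.leaf 4151086784896)))))) (.node (.node (.node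 (.node (.node (.node (.leaf 219043384453) (.leaf 4327180582532)) (.leaf 2911451649936)) (.node (.leaf 1904818031757) (.leaf 3094524573185))) (.node (.node (.leaf 1348083181834) (.leaf 3216394425606)) (.node (.leaf 2423435874579) (.leaf 3774740313109)))) (.node (.node (.node (.leaf 593779370368) (.leaf 3142306197260)) (.node (.leaf 1071594603541) (.leaf 3693135884178))) (.node (.node (.leaf 116501015582) (.leaf 3563213092505)) (.node (.leaf 2677912747546) (.leaf 2961380932872))))) (.node (.node (.node (.node (.node (.leaf 474057128460) (.leaf 4408248109440)) (.leaf 3026878923536)) (.node (.leaf 30601690759) (.leaf 2867965118088))) (.node (.node (.leaf 1832877730579) (.leaf 3460670723868)) (.node (.leaf 2381023104908) (.leaf 4009352926739)))) (.node (.node (.node (.leaf 969589098259) (.leaf 3227131744007)) (.node (.leaf 2332704668827) (.leaf 3796215123858))) (.node (.node (.leaf 2162516180634) (.leaf 2434710211072)) (.node (.leaf 2793876892292) (.leaf 3771519159828))))))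
def dF_499 : BT := .node (.node (.node (.node (.node (.node (.node (.leaf 96099916179) (.leaf 4264903460356)) (.leaf 2853469577616)) (.node (.leaf 144418303747) (.leaf 3042984886151))) (.node (.node (.leaf 1184874386186) (.leaf 3224447478932)) (.node (.leaf 2370822513046) (.leaf 3857418422419)))) (.node (.node (.node (.node (.leaf 500900658567) (.leaf 4141423274889)) (.leaf 3092914061457)) (.node (.leaf 1902134094734) (.leaf 3637838167066))) (.node (.node (.leaf 478352466441) (.leaf 644245782535)) (.node (.leaf 2625836256658) (.leaf 4054986965122))))) (.node (.node (.node (.node (.node (.leaf 389231504019) (.leaf 4376035726978)) (.leaf 2992519176978)) (.node (.leaf 437013338014) (.leaf 2454037523459))) (.node (.node (.leaf 1641751623428) (.leaf 3402688651539)) (.node (.leaf 2506114014736) (.leaf 3958887048975)))) (.node (.node (.node (.leaf 753766944384) (.leaf 3187403364609)) (.node (.leaf 1700807470103) (.leaf 3747896730381))) (.node (.node (.leaf 222801960475) (.leaf 3149285530270)) (.node (.leaf 1842541626117) (.leaf 4165045528349)))))) (.node (.node (.node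 (.node (.node (.node (.leaf 244813194369) (.leaf 4332012421787)) (.leaf 2929168394371)) (.node (.leaf 30065078942) (.leaf 2646237373837))) (.node (.node (.leaf 1378147959818) (.leaf 3337190384658)) (.node (.leaf 2434173295387) (.leaf 3907347428993)))) (.node (.node (.node (.leaf 622770406405) (.leaf 3135326873617)) (.node (.leaf 1379221686804) (.leaf 3698504438024))) (.node (.node (.leaf 1101122502814) (.leaf 3582540449948)) (.node (.leaf 2444373901719) (.leaf 4117800876817))))) (.node (.node (.node (.node (.node (.leaf 13958755606) (.leaf 4412543077767)) (.leaf 3023657651221)) (.node (.leaf 797253340301) (.leaf 3506841633284))) (.node (.node (.leaf 1840930792343) (.leaf 3473555628825)) (.node (.leaf 2578591605134) (.leaf 2854543595275)))) (.node (.node (.node (.leaf 380641714312) (.leaf 3232500363029)) (.node (.leaf 2336462646421) (.leaf 3800510092177))) (.node (.node (.leaf 918586610328) (.leaf 2439542018951)) (.node (.leaf 2788508098439) (.leaf 4214974535172))))))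
def dF_512 : BT := .node (.node (.node (.node (.node (.node (.node (.leaf 25769820958) (.leaf 4247186797573)) (.leaf 2832531607064)) (.node (.leaf 39728915978) (.leaf 2580739118469))) (.node (.node (.leaf 1131724152336) (.leaf 3264175923218)) (.node (.leaf 1847373371905) (.leaf 3042985243402)))) (.node (.node (.node (.node (.leaf 469762138773) (.leaf 4423817372928)) (.leaf 3071976083862)) (.node (.leaf 1766842592664) (.leaf 3628711359389))) (.node (.node (.leaf 1979980395538) (.leaf 3505767891224)) (.node (.leaf 2617246312468) (.leaf 4031364642071))))) (.node (.node (.node (.node (.node (.leaf 347892433938) (.leaf 3132642812171)) (.leaf 2979097269895)) (.node (.leaf 89657463705) (.leaf 2514167283870))) (.node (.node (.leaf 1566052825729) (.leaf 3383361276821)) (.node (.leaf 2488934141455) (.leaf 2470680879363)))) (.node (.node (.node (.leaf 746250745731) (.leaf 3171834104346)) (.node (.leaf 150860814976) (.leaf 3733401212174))) (.node (.node (.leaf 1334661174299) (.leaf 3188476896647)) (.node (.leaf 2724620528019) (.leaf 4141423202452)))))) (.node (.node (.node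 (.node (.node (.node (.leaf 189515477249) (.leaf 4105452890247)) (.leaf 2920041586692)) (.node (.leaf 1054951593626) (.leaf 3291019380352))) (.node (.node (.leaf 1326608339859) (.leaf 3324305479706)) (.node (.leaf 2424509616772) (.leaf 3903589331854)))) (.node (.node (.node (.leaf 556735268496) (.leaf 3129421292188)) (.node (.leaf 571767849750) (.leaf 2821794391432))) (.node (.node (.leaf 173946692377) (.leaf 3553012544265)) (.node (.leaf 2641405524373) (.leaf 3708168363670))))) (.node (.node (.node (.node (.node (.leaf 436476155536) (.leaf 4402879399054)) (.leaf 3033321376026)) (.node (.leaf 48318385932) (.leaf 2438468312709))) (.node (.node (.leaf 1812476525978) (.leaf 3455302011149)) (.node (.leaf 2558190505625) (.leaf 4016332250369)))) (.node (.node (.node (.leaf 935766221705) (.leaf 3227668692505)) (.node (.leaf 1837709687041) (.leaf 3740917417877))) (.node (.node (.leaf 1291711592982) (.leaf 701690979202)) (.node (.leaf 2784213213572) (.leaf 3979288197248))))))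
def dF_519 : BT := .node (.node (.node (.node (.node (.node (.node (.leaf 10200549776) (.leaf 4014184825237)) (.leaf 2851322093569)) (.node (.leaf 44023474078) (.leaf 3278134361741))) (.node (.node (.leaf 1161788930692) (.leaf 3269544438918)) (.node (.leaf 2366527544970) (.leaf 2648385124482)))) (.node (.node (.node (.node (.leaf 388694654231) (.leaf 4441534113937)) (.leaf 3076271006103)) (.node (.leaf 1322313371534) (.leaf 3634080069892))) (.node (.node (.leaf 2019171967753) (.leaf 3513820956817)) (.node (.leaf 2636573677469) (.leaf 3979288164868))))) (.node (.node (.node (.node (.node (.leaf 369904146688) (.leaf 4367445863178)) (.leaf 2981781756187)) (.node (.leaf 426812674056) (.leaf 2592013444638))) (.node (.node (.leaf 1621350540935) (.leaf 3395172408963)) (.node (.leaf 2507187756932) (.leaf 3968550670208)))) (.node (.node (.node (.leaf 761820005788) (.leaf 3183108396185)) (.node (.leaf 617938566784) (.leaf 3739843664665))) (.node (.node (.leaf 1984275028120) (.leaf 3202435599518)) (.node (.leaf 2731062980499) (.leaf 4150550010257)))))) (.node (.node (.node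 (.node (.node (.node (.leaf 222264610692) (.leaf 4327717453457)) (.leaf 2920578457615)) (.node (.leaf 129386337310) (.leaf 2775623221248))) (.node (.node (.leaf 1351841278861) (.leaf 3314104827526)) (.node (.leaf 2420214648339) (.leaf 3904126202905)))) (.node (.node (.node (.leaf 595926854533) (.leaf 3144453681297)) (.node (.leaf 1511828830854) (.leaf 3693672755214))) (.node (.node (.leaf 445602963358) (.leaf 1845763045122)) (.node (.leaf 2682207715864) (.leaf 4119948360985))))) (.node (.node (.node (.node (.node (.leaf 477278354689) (.leaf 4407711238551)) (.leaf 3023657697296)) (.node (.leaf 30601690902) (.leaf 2523831008798))) (.node (.node (.leaf 1833414601629) (.leaf 3457449497628)) (.node (.leaf 2384781201941) (.leaf 4006131700499)))) (.node (.node (.node (.leaf 966367872019) (.leaf 3229816176775)) (.node (.leaf 1843615268101) (.leaf 3796215123866))) (.node (.node (.leaf 617938567042) (.leaf 2434710215435)) (.node (.leaf 2737505446548) (.leaf 4206384598428))))))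
def dF_527 : BT := .node (.node (.node (.node (.node (.node (.node (.leaf 7516194578) (.leaf 4106526619779)) (.leaf 2844879640975)) (.node (.leaf 431107403294) (.leaf 2341831662238))) (.node (.node (.leaf 1148367154589) (.leaf 3214246929303)) (.node (.leaf 409096199304) (.leaf 2674691800222)))) (.node (.node (.node (.node (.leaf 352187423895) (.leaf 4438849758749)) (.leaf 3078418543386)) (.node (.leaf 632434085135) (.leaf 3633543198749))) (.node (.node (.leaf 1807107967882) (.leaf 3076271161346)) (.node (.leaf 2414845986828) (.leaf 4033512123670))))) (.node (.node (.node (.node (.node (.leaf 124554134036) (.leaf 4365835188359)) (.leaf 2806761836311)) (.node (.leaf 1260036034316) (.leaf 2388002608670))) (.node (.node (.leaf 1593970117900) (.leaf 3398393683225)) (.node (.leaf 2495913464985) (.leaf 3457986487051)))) (.node (.node (.node (.leaf 755914424710) (.leaf 2950643288343)) (.node (.leaf 1898912882846) (.leaf 3738232597506))) (.node (.node (.leaf 1873679510426) (.leaf 2711735569291)) (.node (.leaf 2556043064727) (.leaf 4063040052099)))))) (.node (.node (.node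 (.node (.node (.node (.leaf 206695350532) (.leaf 3765613606934)) (.leaf 2917894102424)) (.node (.leaf 315680545410) (.leaf 3382287503873))) (.node (.node (.leaf 1348082864153) (.leaf 3315178672018)) (.node (.leaf 2423435874587) (.leaf 3898757492505)))) (.node (.node (.node (.leaf 574451927429) (.leaf 3128347510039)) (.node (.leaf 532039328771) (.leaf 3361349659294))) (.node (.node (.leaf 2155537144974) (.leaf 3560528737299)) (.node (.leaf 2669859625366) (.leaf 4102768487687))))) (.node (.node (.node (.node (.node (.leaf 461709094417) (.leaf 4358855984901)) (.leaf 2845416512009)) (.node (.leaf 371514682519) (.leaf 2386928643848))) (.node (.node (.leaf 1762010768780) (.leaf 3452080775060)) (.node (.leaf 2561948602896) (.leaf 4009352926747)))) (.node (.node (.node (.leaf 952409224979) (.leaf 2515240991252)) (.node (.leaf 2330557184669) (.leaf 3796215123972))) (.node (.node (.leaf 445066161310) (.leaf 2434173347205)) (.node (.leaf 2782602600334) (.leaf 4030827809054))))))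
def dF_534 : BT := .node (.node (.node (.node (.node (.node (.node (.leaf 45097167378) (.leaf 4255239787652)) (.leaf 2855080190848)) (.node (.leaf 1284732151557) (.leaf 2577517804672))) (.node (.node (.leaf 1181116288028) (.leaf 3278134570268)) (.node (.leaf 2370822512657) (.leaf 2563559523590)))) (.node (.node (.node (.node (.leaf 434328573702) (.leaf 4443681598083)) (.leaf 3088082222109)) (.node (.leaf 819802078095) (.leaf 3636227553945))) (.node (.node (.leaf 2025077562909) (.leaf 3520263409295)) (.node (.leaf 2633352451225) (.leaf 4054986965147))))) (.node (.node (.node (.node (.node (.leaf 364535383430) (.leaf 3333969406729)) (.leaf 2982318588054)) (.node (.leaf 111669176345) (.leaf 2689723838750))) (.node (.node (.leaf 1635846058369) (.leaf 3387119379860)) (.node (.leaf 2512556467224) (.leaf 3961571404186)))) (.node (.node (.node (.leaf 765578103056) (.leaf 3180423988501)) (.node (.leaf 1831266861826) (.leaf 3741454110856))) (.node (.node (.leaf 368293796510) (.leaf 2821794208148)) (.node (.leaf 2439541578124) (.leaf 4155381849629)))))) (.node (.node (.node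 (.node (.node (.node (.leaf 175556843288) (.leaf 4323959303810)) (.leaf 2925947168025)) (.node (.leaf 143345015562) (.leaf 2440615975810))) (.node (.node (.leaf 1368484281089) (.leaf 2515241016070)) (.node (.leaf 2416993422095) (.leaf 3725885055756)))) (.node (.node (.node (.leaf 618475438220) (.leaf 3139084970905)) (.node (.leaf 1502165126549) (.leaf 3696357110427))) (.node (.node (.leaf 988379644036) (.leaf 3566433621133)) (.node (.leaf 2677375876495) (.leaf 4117800876825))))) (.node (.node (.node (.node (.node (.leaf 473520257296) (.leaf 4410395593615)) (.leaf 2842195331863)) (.node (.leaf 371514857612) (.leaf 2407866808973))) (.node (.node (.leaf 1837709569938) (.leaf 3457986344981)) (.node (.leaf 2579128476188) (.leaf 4018479461131)))) (.node (.node (.node (.leaf 983547745408) (.leaf 2527052154135)) (.node (.leaf 2327335960320) (.leaf 3799436350106))) (.node (.node (.leaf 911606968591) (.leaf 2641405537438)) (.node (.leaf 2790655665939) (.leaf 4204237067648))))))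
def dF_543 : BT := .node (.node (.node (.node (.node (.node (.node (.leaf 19864228498) (.leaf 4243965204361)) (.leaf 2830920993939)) (.node (.leaf 188441738398) (.leaf 2467459489805))) (.node (.node (.leaf 1139777218053) (.leaf 3166465419011)) (.node (.leaf 2364916931226) (.leaf 3845070388613)))) (.node (.node (.node (.node (.leaf 128849123989) (.leaf 4438312887697)) (.leaf 3076271059332)) (.node (.leaf 1765768850575) (.leaf 3626027004175))) (.node (.node (.leaf 1990180945409) (.leaf 3504694149135)) (.node (.leaf 2611877559830) (.leaf 3552475787934))))) (.node (.node (.node (.node (.node (.leaf 345208078737) (.leaf 4365835297409)) (.leaf 2967823083271)) (.node (.leaf 92341992716) (.leaf 2599529554176))) (.node (.node (.leaf 1581085194645) (.leaf 3385508760981)) (.node (.leaf 2498060949149) (.leaf 2527589196289)))) (.node (.node (.node (.leaf 745177003523) (.leaf 3171297233296)) (.node (.leaf 826244755998) (.leaf 3731790577292))) (.node (.node (.leaf 1366873562270) (.leaf 2768643958028)) (.node (.leaf 2543158159764) (.leaf 3903052519047)))))) (.node (.node (.node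 (.node (.node (.node (.leaf 194347316498) (.leaf 4304095127818)) (.leaf 2910377907868)) (.node (.leaf 592168623257) (.leaf 3127273706890))) (.node (.node (.leaf 1278289958916) (.leaf 3318399898265)) (.node (.leaf 2425046487708) (.leaf 3903052457996)))) (.node (.node (.node (.leaf 570693915649) (.leaf 3128884421136)) (.node (.leaf 1105417488788) (.leaf 3042985208072))) (.node (.node (.leaf 91268556952) (.leaf 3560528737417)) (.node (.leaf 2673080900631) (.leaf 4100620851339))))) (.node (.node (.node (.node (.node (.leaf 437549897602) (.leaf 4404490011785)) (.leaf 3031710762905)) (.node (.leaf 1394253887107) (.leaf 3323768608649))) (.node (.node (.leaf 1774358798848) (.leaf 3452617658264)) (.node (.leaf 2565706700179) (.leaf 4010963539868)))) (.node (.node (.node (.leaf 944893030529) (.leaf 3224984337298)) (.node (.leaf 2329483441943) (.leaf 3542812051590))) (.node (.node (.leaf 1970316453272) (.leaf 2729452539806)) (.node (.leaf 2784750084505) (.leaf 4152160635413))))))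
def dF_550 : BT := .node (.node (.node (.node (.node (.node (.node (.leaf 51002748817) (.leaf 4257924218264)) (.leaf 2851322093459)) (.node (.leaf 143344565142) (.leaf 2359011387271))) (.node (.node (.leaf 1062467810447) (.leaf 2837363471495)) (.node (.leaf 2027225128727) (.leaf 3850439099397)))) (.node (.node (.node (.node (.leaf 389768287766) (.leaf 4442070984705)) (.leaf 3087008480141)) (.node (.leaf 1121523602575) (.leaf 3634616940826))) (.node (.node (.leaf 2022930078465) (.leaf 3132105739678)) (.node (.leaf 2634963064346) (.leaf 3761855448327))))) (.node (.node (.node (.node (.node (.leaf 372051630736) (.leaf 4373888362907)) (.leaf 2983929240337)) (.node (.leaf 1180579223296) (.leaf 2567854400644))) (.node (.node (.leaf 1630476967960) (.leaf 2807298807299)) (.node (.leaf 2505040272668) (.leaf 3966403182101)))) (.node (.node (.node (.leaf 763967488276) (.leaf 3181497783057)) (.node (.leaf 2024540649736) (.leaf 3740917406720))) (.node (.node (.leaf 1872605971477) (.leaf 2682744686087)) (.node (.leaf 2735894776598) (.leaf 1319092820994)))))) (.node (.node (.node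 (.node (.node (.node (.leaf 230317676179) (.leaf 4324496227227)) (.leaf 2925410297093)) (.node (.leaf 339302419222) (.leaf 2551748141086))) (.node (.node (.leaf 134754922910) (.leaf 3330747932289)) (.node (.leaf 2418604035216) (.leaf 763968238989)))) (.node (.node (.node (.leaf 612032985619) (.leaf 3132642518429)) (.node (.leaf 1449551778583) (.leaf 3695283368348))) (.node (.node (.leaf 13421800472) (.leaf 2845416683783)) (.node (.leaf 2677375876498) (.leaf 4119411489946))))) (.node (.node (.node (.node (.node (.leaf 477815225618) (.leaf 2597919394441)) (.leaf 2908230347139)) (.node (.leaf 1069447129374) (.leaf 3182034576261))) (.node (.node (.leaf 1836098956819) (.leaf 3459060110738)) (.node (.leaf 2557653294599) (.leaf 4004521087376)))) (.node (.node (.node (.leaf 964757258896) (.leaf 3229816176669)) (.node (.leaf 2333778410909) (.leaf 3789235498882))) (.node (.node (.leaf 945430169089) (.leaf 2550674435978)) (.node (.leaf 2787434439706) (.leaf 4206384598415))))))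
def dF_558 : BT := .node (.node (.node (.node (.node (.node (.node (.leaf 26306680977) (.leaf 3092914336904)) (.leaf 2845416511892)) (.node (.leaf 836445131275) (.leaf 1274532202270))) (.node (.node (.leaf 1137092848152) (.leaf 3264175741588)) (.node (.leaf 2368138157189) (.leaf 3692062177310)))) (.node (.node (.node (.node (.leaf 129922791682) (.leaf 4440460371715)) (.leaf 3078418543377)) (.node (.leaf 1329829554573) (.leaf 3631932585625))) (.node (.node (.leaf 1948841891073) (.leaf 3514894698905)) (.node (.leaf 2625299385729) (.leaf 4047470770577))))) (.node (.node (.node (.node (.node (.leaf 176093701122) (.leaf 3872987801859)) (.leaf 2986076724609)) (.node (.leaf 630823472025) (.leaf 2574833584770))) (.node (.node (.leaf 1608465635972) (.leaf 3397319941138)) (.node (.leaf 2493765980817) (.leaf 3955665822745)))) (.node (.node (.node (.leaf 756988167306) (.leaf 3051575022979)) (.node (.leaf 617401695873) (.leaf 2516851726859))) (.node (.node (.leaf 911607257734) (.leaf 3609384002051)) (.node (.leaf 2729989238427) (.leaf 4151623698718)))))) (.node (.node (.node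 (.node (.node (.node (.leaf 214211527573) (.leaf 4312148183828)) (.leaf 2913062263059)) (.node (.leaf 691489923486) (.leaf 2424509787009))) (.node (.node (.leaf 29528218905) (.leaf 3319473640334)) (.node (.leaf 2421825261464) (.leaf 3900368103316)))) (.node (.node (.node (.leaf 579820723340) (.leaf 2381560110465)) (.node (.leaf 1550483526535) (.leaf 3691525271064))) (.node (.node (.leaf 2175401454214) (.leaf 3562139350417)) (.node (.leaf 2651069203094) (.leaf 4107063456133))))) (.node (.node (.node (.node (.node (.leaf 7516303247) (.leaf 4407174367377)) (.leaf 3026878923538)) (.node (.leaf 1069984000158) (.leaf 3570192254605))) (.node (.node (.leaf 387621234821) (.leaf 3454765118741)) (.node (.leaf 2558190505615) (.leaf 4007742313624)))) (.node (.node (.node (.leaf 967978485253) (.leaf 3226057882631)) (.node (.leaf 2331630922114) (.leaf 3797825736989))) (.node (.node (.leaf 49929132429) (.leaf 3404836100126)) (.node (.leaf 2782602586774) (.leaf 4198868403856))))))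
def dF_565 : BT := .node (.node (.node (.node (.node (.node (.node (.leaf 90194319491) (.leaf 4261145385493)) (.leaf 2857764545944)) (.node (.leaf 321049062558) (.leaf 1845762809630))) (.node (.node (.leaf 15032667661) (.leaf 3277597699218)) (.node (.leaf 2371896252545) (.leaf 766652582412)))) (.node (.node (.node (.node (.leaf 406948162454) (.leaf 4443681597963)) (.leaf 3082176640666)) (.node (.leaf 2023466949775) (.leaf 3530463984534))) (.node (.node (.leaf 2026688176018) (.leaf 2593087229573)) (.node (.leaf 2635499935379) (.leaf 4053913223051))))) (.node (.node (.node (.node (.node (.leaf 384399664772) (.leaf 4376572718094)) (.leaf 2991982305949)) (.node (.leaf 476204603404) (.leaf 2507187800469))) (.node (.node (.leaf 475668018954) (.leaf 3402688651548)) (.node (.leaf 2507724627859) (.leaf 3956202019458)))) (.node (.node (.node (.leaf 768799329297) (.leaf 3176129020181)) (.node (.leaf 1829119318796) (.leaf 3743601761947))) (.node (.node (.leaf 817654823180) (.leaf 2532957592724)) (.node (.leaf 2738579175168) (.leaf 4170951109888)))))) (.node (.node (.node (.node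 (.node (.node (.leaf 227096438553) (.leaf 4268124780676)) (.leaf 2922189045639)) (.node (.leaf 1113470453278) (.leaf 2539937061506))) (.node (.node (.leaf 1374926733446) (.leaf 3333432287389)) (.node (.leaf 2436320779649) (.leaf 2972655171084)))) (.node (.node (.node (.leaf 613643598726) (.leaf 3138548099859)) (.node (.leaf 1258962662912) (.leaf 3697430852507))) (.node (.node (.leaf 890669081630) (.leaf 3581466707981)) (.node (.leaf 2647311105813) (.leaf 4116190263698))))) (.node (.node (.node (.node (.node (.leaf 474057128326) (.leaf 4411469335707)) (.leaf 3027415748502)) (.node (.leaf 405874599966) (.leaf 3382287587102))) (.node (.node (.leaf 1840393925139) (.leaf 3463891950209)) (.node (.leaf 2573759765784) (.leaf 2884071496202)))) (.node (.node (.node (.leaf 992137536133) (.leaf 3234111144975)) (.node (.leaf 2336462647563) (.leaf 2703145947904))) (.node (.node (.leaf 681826063374) (.leaf 2435247022342)) (.node (.leaf 2787434439695) (.leaf 4203163372175))))))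
def dF_575 : BT := .node (.node (.node (.node (.node (.node (.node (.leaf 81067527058) (.leaf 4082904298142)) (.leaf 2839510930579)) (.node (.leaf 505195751454) (.leaf 2760590802974))) (.node (.node (.leaf 1134945373199) (.leaf 3219615639703)) (.node (.leaf 2364380060426) (.leaf 3836480451973)))) (.node (.node (.node (.node (.leaf 132070328579) (.leaf 4437776016667)) (.leaf 2696166451970)) (.node (.leaf 1762547624334) (.leaf 3627637617305))) (.node (.node (.leaf 1985348725273) (.leaf 3505767891219)) (.node (.leaf 2613488215191) (.leaf 2481418316555))))) (.node (.node (.node (.node (.node (.leaf 353798015377) (.leaf 4365298426256)) (.leaf 2809983062548)) (.node (.leaf 321585752985) (.leaf 3289945751582))) (.node (.node (.leaf 1560147246341) (.leaf 3382287438231)) (.node (.leaf 2497524078213) (.leaf 3859029058056)))) (.node (.node (.node (.leaf 752156327059) (.leaf 3121905110037)) (.node (.leaf 159987539083) (.leaf 2446521635466))) (.node (.node (.leaf 2246804773401) (.leaf 3339874761098)) (.node (.leaf 2724620528015) (.leaf 4146254945666)))))) (.node (.node (.node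 (.node (.node (.node (.leaf 198105413888) (.leaf 4304094863624)) (.leaf 2918967844508)) (.node (.leaf 408559082910) (.leaf 2557653852300))) (.node (.node (.leaf 383326148104) (.leaf 3315715543066)) (.node (.leaf 2430952069135) (.leaf 3903052223626)))) (.node (.node (.node (.leaf 562640836507) (.leaf 3128347550104)) (.node (.leaf 551903639070) (.leaf 3685619689625))) (.node (.node (.leaf 860604537751) (.leaf 3556770640791)) (.node (.leaf 2671470295056) (.leaf 3732864429205))))) (.node (.node (.node (.node (.node (.leaf 448287244055) (.leaf 2487860856459)) (.leaf 3024731439386)) (.node (.leaf 408021928990) (.leaf 3479461175051))) (.node (.node (.leaf 1820529693849) (.leaf 3453691400348)) (.node (.leaf 2571612239380) (.leaf 4019016605467)))) (.node (.node (.node (.leaf 925565676167) (.leaf 3223910595226)) (.node (.leaf 44560841096) (.leaf 3788162058256))) (.node (.node (.leaf 1233729534232) (.leaf 2480344193420)) (.node (.leaf 2784750084509) (.leaf 4198868403972))))))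
def dF_582 : BT := .node (.node (.node (.node (.node (.node (.node (.leaf 77846300817) (.leaf 4262219186589)) (.leaf 2848637738268)) (.node (.leaf 610959405849) (.leaf 2604898344606))) (.node (.node (.leaf 1170378867333) (.leaf 3032247652999)) (.node (.leaf 2369211603843) (.leaf 3833259229699)))) (.node (.node (.node (.node (.leaf 436476133910) (.leaf 4440997242516)) (.leaf 3049427514260)) (.node (.leaf 1272921235854) (.leaf 3635690682909))) (.node (.node (.leaf 2020782594690) (.leaf 3515431570052)) (.node (.leaf 2627983740829) (.leaf 1323924635277))))) (.node (.node (.node (.node (.node (.leaf 369367275548) (.leaf 4373888275587)) (.leaf 2986613595536)) (.node (.leaf 16643002265) (.leaf 3105798779148))) (.node (.node (.leaf 1553167936652) (.leaf 3345780332822)) (.node (.leaf 2513093338267) (.leaf 3968550334860)))) (.node (.node (.node (.leaf 761283135127) (.leaf 3183108383764)) (.node (.leaf 1962263623444) (.leaf 3531000880131))) (.node (.node (.leaf 316753896461) (.leaf 3201361996190)) (.node (.leaf 2729989238417) (.leaf 4140886334851)))))) (.node (.node (.node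 (.node (.node (.node (.leaf 230854547332) (.leaf 4326643711389)) (.leaf 2911988520975)) (.node (.leaf 11274469022) (.leaf 1772211681932))) (.node (.node (.leaf 1360431215501) (.leaf 3317326053766)) (.node (.leaf 2427193971856) (.leaf 3783330247810)))) (.node (.node (.node (.leaf 604516791173) (.leaf 3141232455069)) (.node (.leaf 47244767744) (.leaf 3610994634625))) (.node (.node (.leaf 14495724574) (.leaf 3564286834698)) (.node (.leaf 2682207715855) (.leaf 4112432166429))))) (.node (.node (.node (.node (.node (.leaf 474593999389) (.leaf 4408784980509)) (.leaf 3029026407694)) (.node (.leaf 46171336074) (.leaf 2961380684548))) (.node (.node (.leaf 1824824667403) (.leaf 3460670711703)) (.node (.leaf 2393371138581) (.leaf 4013111024016)))) (.node (.node (.node (.leaf 975494679696) (.leaf 2528125896212)) (.node (.leaf 1838246559105) (.leaf 3789772671379))) (.node (.node (.leaf 610422761102) (.leaf 2925410189717)) (.node (.leaf 2787971310749) (.leaf 4205310856344))))))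
def dF_590 : BT := .node (.node (.node (.node (.node (.node (.node (.leaf 83215011200) (.leaf 4248260141322)) (.leaf 2836289704335)) (.node (.leaf 928786898718) (.leaf 2405182286998))) (.node (.node (.leaf 1148367154579) (.leaf 3265786523541)) (.node (.leaf 2367064415496) (.leaf 3837554181890)))) (.node (.node (.node (.node (.leaf 128312252930) (.leaf 3820911339274)) (.leaf 2857764599061)) (.node (.leaf 697395480975) (.leaf 3631932585615))) (.node (.node (.leaf 2012192658049) (.leaf 2341831755011)) (.node (.leaf 2620467496589) (.leaf 4048544512780))))) (.node (.node (.node (.node (.node (.leaf 173946216967) (.leaf 4368519652611)) (.leaf 2656437862790)) (.node (.leaf 635655186315) (.leaf 3290482434590))) (.node (.node (.leaf 1599875699332) (.leaf 3394635585946)) (.node (.leaf 2494839722899) (.leaf 3955128951705)))) (.node (.node (.node (.leaf 759135650577) (.leaf 3176665943811)) (.node (.leaf 1899449752580) (.leaf 3738769182086))) (.node (.node (.leaf 881542557339) (.leaf 2913599035521)) (.node (.leaf 2730526109468) (.leaf 4151086881306)))))) (.node (.node (.node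 (.node (.node (.node (.leaf 104153007640) (.leaf 3557844562846)) (.leaf 2909304165784)) (.node (.leaf 437013047425) (.leaf 2615098995584))) (.node (.node (.leaf 1331976759320) (.leaf 3317326156176)) (.node (.leaf 2430415198104) (.leaf 3901441549450)))) (.node (.node (.node (.leaf 577136320015) (.leaf 2762201547911)) (.node (.leaf 1396401584791) (.leaf 3686693431706))) (.node (.node (.leaf 2174327199897) (.leaf 3557307512087)) (.node (.leaf 2678986489733) (.leaf 4103842229777))))) (.node (.node (.node (.node (.node (.leaf 149787094166) (.leaf 2389076609033)) (.leaf 3035468860178)) (.node (.leaf 45634054285) (.leaf 3569118528286))) (.node (.node (.leaf 1828582762269) (.leaf 3351685926420)) (.node (.leaf 2566780442255) (.leaf 4016332250264)))) (.node (.node (.node (.leaf 959388548613) (.leaf 3223910517767)) (.node (.leaf 2331094055705) (.leaf 2030446694046))) (.node (.node (.leaf 493921412382) (.leaf 2786360844318)) (.node (.leaf 2669322837383) (.leaf 4081830545280))))))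
def dF_597 : BT := .node (.node (.node (.node (.node (.node (.node (.leaf 35970359698) (.leaf 4253092378889)) (.leaf 2856690803868)) (.node (.leaf 667330707230) (.leaf 2463701384204))) (.node (.node (.leaf 1179505674897) (.leaf 3277060828184)) (.node (.leaf 2022930161924) (.leaf 3857955293572)))) (.node (.node (.node (.node (.leaf 410706367383) (.leaf 4443681598109)) (.leaf 3090766577306)) (.node (.leaf 510564359055) (.leaf 2652143172364))) (.node (.node (.leaf 2026151303958) (.leaf 1842541658115)) (.node (.leaf 2624762514585) (.leaf 4053913153558))))) (.node (.node (.node (.node (.node (.leaf 375809728132) (.leaf 4374962099459)) (.leaf 2989834821888)) (.node (.leaf 1579474254110) (.leaf 2596845436684))) (.node (.node (.leaf 1636919800979) (.leaf 3403225522689)) (.node (.leaf 2503966530584) (.leaf 3961034533145)))) (.node (.node (.node (.leaf 767188714123) (.leaf 3178813375382)) (.node (.leaf 1843614981767) (.leaf 3592741035527))) (.node (.node (.leaf 2247878864020) (.leaf 2728378614407)) (.node (.leaf 2325725441542) (.leaf 4162361173248)))))) (.node (.node (.node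 (.node (.node (.node (.leaf 223338302991) (.leaf 3874598402462)) (.leaf 2925947168017)) (.node (.leaf 542776497950) (.leaf 2665027789063))) (.node (.node (.leaf 225486110488) (.leaf 3336116642692)) (.node (.leaf 2415919556739) (.leaf 2916283725325)))) (.node (.node (.node (.leaf 619012309138) (.leaf 3092914073621)) (.node (.leaf 1499480786199) (.leaf 3696893981469))) (.node (.node (.leaf 889595104649) (.leaf 3572876771341)) (.node (.leaf 2679523304085) (.leaf 4109210940185))))) (.node (.node (.node (.node (.node (.leaf 464930320656) (.leaf 2691334933512)) (.leaf 3033321342338)) (.node (.leaf 331249523614) (.leaf 2855616967040))) (.node (.node (.leaf 1838783308566) (.leaf 3405373018901)) (.node (.leaf 2576444120987) (.leaf 4015258453771)))) (.node (.node (.node (.leaf 988379584647) (.leaf 3228742434579)) (.node (.leaf 2335389024028) (.leaf 3798362608018))) (.node (.node (.leaf 23622481566) (.leaf 2640331782281)) (.node (.leaf 2789045052816) (.leaf 4203700089735))))))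
def dF_606 : BT := .node (.node (.node (.node (.node (.node (.node (.leaf 11274291858) (.leaf 3592741154956)) (.leaf 2837900317456)) (.node (.leaf 175020224385) (.leaf 2886218791681))) (.node (.node (.leaf 1148367154693) (.leaf 3216394413463)) (.node (.leaf 2365990673305) (.leaf 3849902227856)))) (.node (.node (.node (.node (.leaf 347892455575) (.leaf 4438849758084)) (.leaf 3081102898585)) (.node (.leaf 1693291260174) (.leaf 3633543198735))) (.node (.node (.leaf 1998770882048) (.leaf 3382287581447)) (.node (.leaf 2616709399190) (.leaf 4038343890955))))) (.node (.node (.node (.node (.node (.leaf 357556059925) (.leaf 4366372168325)) (.leaf 2965675585943)) (.node (.leaf 335007452931) (.leaf 2514703934981))) (.node (.node (.leaf 1585380181261) (.leaf 3394098715020)) (.node (.leaf 2496987207067) (.leaf 3686156624534)))) (.node (.node (.node (.leaf 755914424322) (.leaf 3171834073346)) (.node (.leaf 47244645645) (.leaf 3728569374336))) (.node (.node (.leaf 2246805296513) (.leaf 2528662598785)) (.node (.leaf 2732673593732) (.leaf 4033512058253)))))) (.node (.node (.node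 (.node (.node (.node (.leaf 198642264219) (.leaf 4317516903809)) (.leaf 2914136005147)) (.node (.leaf 331249358231) (.leaf 2915746581770))) (.node (.node (.leaf 1339493244932) (.leaf 3323768608658)) (.node (.leaf 2416456551068) (.leaf 3900904976669)))) (.node (.node (.node (.leaf 564788334108) (.leaf 3128347510036)) (.node (.leaf 525596886686) (.leaf 3692062142095))) (.node (.node (.leaf 2080375279774) (.leaf 3561065608339)) (.node (.leaf 2674154593686) (.leaf 4102768487820))))) (.node (.node (.node (.node (.node (.leaf 456340384132) (.leaf 3554623358733)) (.leaf 3038690040222)) (.node (.leaf 329102060318) (.leaf 2587718370441))) (.node (.node (.leaf 1825361536017) (.leaf 3451543916179)) (.node (.leaf 2570538539536) (.leaf 4017942863387)))) (.node (.node (.node (.leaf 953482967169) (.leaf 2517388475415)) (.node (.leaf 1693291411970) (.leaf 3788698928259))) (.node (.node (.leaf 752693337758) (.leaf 1846299661325)) (.node (.leaf 2784750084498) (.leaf 4202089630106))))))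
def dF_613 : BT := .node (.node (.node (.node (.node (.node (.node (.leaf 30601649296) (.leaf 4253092359948)) (.leaf 2850785222414)) (.node (.leaf 1338956202142) (.leaf 1897302403078))) (.node (.node (.leaf 1175210706695) (.leaf 3280818925455)) (.node (.leaf 2369211899796) (.leaf 3850439061397)))) (.node (.node (.node (.node (.leaf 41876017559) (.leaf 4442607848709)) (.leaf 3093450932499)) (.node (.leaf 692563958541) (.leaf 2605435402378))) (.node (.node (.leaf 1954210602251) (.leaf 3222836814861)) (.node (.leaf 2626373127706) (.leaf 4058745062428))))) (.node (.node (.node (.node (.node (.leaf 367219738645) (.leaf 4374425233935)) (.leaf 2985539814294)) (.node (.leaf 18253967518) (.leaf 2390149869975))) (.node (.node (.leaf 1633161703818) (.leaf 2770254713991)) (.node (.leaf 2508798369947) (.leaf 3962108275229)))) (.node (.node (.node (.leaf 763430619158) (.leaf 3182034641684)) (.node (.leaf 1835025261974) (.leaf 3741991148824))) (.node (.node (.leaf 758062257691) (.leaf 3241627305246)) (.node (.leaf 2550137285772) (.leaf 4154308107277)))))) (.node (.node (.node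 (.node (.node (.node (.leaf 223875223697) (.leaf 4322348743065)) (.leaf 2925947168029)) (.node (.leaf 15569260187) (.leaf 2551211269901))) (.node (.node (.leaf 1363115570692) (.leaf 3331284803216)) (.node (.leaf 2425583358735) (.leaf 3905736816025)))) (.node (.node (.node (.leaf 611496114578) (.leaf 3135863744667)) (.node (.leaf 1501091385493) (.leaf 3692599013134))) (.node (.node (.leaf 468151671966) (.leaf 3565897447709)) (.node (.leaf 2675228392336) (.leaf 4110821553306))))) (.node (.node (.node (.node (.node (.leaf 469225288978) (.leaf 4406637496980)) (.leaf 2585034086791)) (.node (.leaf 30064854151) (.leaf 2585570914334))) (.node (.node (.leaf 1835562086038) (.leaf 3459060098580)) (.node (.leaf 2576444121088) (.leaf 4011500410895)))) (.node (.node (.node (.leaf 134217960968) (.leaf 3228742434587)) (.node (.leaf 2334852034441) (.leaf 3798362608132))) (.node (.node (.leaf 944893298176) (.leaf 2672543961218)) (.node (.leaf 2786897568665) (.leaf 4205310852866))))))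
def dF_621 : BT := .node (.node (.node (.node (.node (.node (.node (.leaf 18790486416) (.leaf 4260071702532)) (.leaf 2830920994068)) (.node (.leaf 625991552030) (.leaf 3477313462302))) (.node (.node (.leaf 1153735855385) (.leaf 3213710020738)) (.node (.leaf 2368675028229) (.leaf 3834869838737)))) (.node (.node (.node (.node (.leaf 492310722439) (.leaf 2745558902664)) (.leaf 2855080243862)) (.node (.leaf 1451162421135) (.leaf 3633543031689))) (.node (.node (.leaf 2017024497297) (.leaf 3511136601626)) (.node (.leaf 2633889322369) (.leaf 4048007641614))))) (.node (.node (.node (.node (.node (.leaf 141734007432) (.leaf 4367445876485)) (.leaf 2984466111388)) (.node (.leaf 238370888222) (.leaf 2453500744734))) (.node (.node (.leaf 1617055572613) (.leaf 3395172456974)) (.node (.leaf 2492692238735) (.leaf 3959960791168)))) (.node (.node (.node (.leaf 692026787095) (.leaf 3179887169949)) (.node (.leaf 826781625352) (.leaf 3739306793627))) (.node (.node (.leaf 913217426701) (.leaf 3354906998302)) (.node (.leaf 2729452367384) (.leaf 4151086881295)))))) (.node (.node (.node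 (.node (.node (.node (.leaf 1073793433) (.leaf 4321811872132)) (.leaf 2916820360336)) (.node (.leaf 852551450270) (.leaf 3593814492318))) (.node (.node (.leaf 1296543453081) (.leaf 2510946047875)) (.node (.leaf 2428804584979) (.leaf 3542275208192)))) (.node (.node (.node (.leaf 588410659980) (.leaf 3136937486848)) (.node (.leaf 548682203277) (.leaf 2441689788940))) (.node (.node (.leaf 1874753335326) (.leaf 3562676046853)) (.node (.leaf 2675765263388) (.leaf 4115653392773))))) (.node (.node (.node (.node (.node (.leaf 468688418049) (.leaf 4407711238427)) (.leaf 3032247633936)) (.node (.leaf 46708205828) (.leaf 1120987213324))) (.node (.node (.leaf 1832340859269) (.leaf 3461207594899)) (.node (.leaf 2385318072982) (.leaf 4014721637139)))) (.node (.node (.node (.leaf 976031550737) (.leaf 2953864490630)) (.node (.leaf 2332167794562) (.leaf 3796751994906))) (.node (.node (.leaf 501974427151) (.leaf 3188477163294)) (.node (.leaf 2788508181892) (.leaf 4205310856452))))))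
def dF_628 : BT := .node (.node (.node (.node (.node (.node (.node (.leaf 45634038407) (.leaf 3736622564487)) (.leaf 2854006448659)) (.node (.leaf 2292439336350) (.leaf 3174518435486))) (.node (.node (.leaf 1185948112260) (.leaf 3227131834135)) (.node (.leaf 2023467032964) (.leaf 3859029035538)))) (.node (.node (.node (.node (.leaf 500363787541) (.leaf 4436702276372)) (.leaf 3084860995865)) (.node (.leaf 2032056886414) (.leaf 3638375038099))) (.node (.node (.leaf 2028835641863) (.leaf 2341831743756)) (.node (.leaf 2631204967058) (.leaf 3900368141959))))) (.node (.node (.node (.node (.node (.leaf 389768364441) (.leaf 2775623658507)) (.leaf 2990908563865)) (.node (.leaf 111132392222) (.leaf 2889439990916))) (.node (.node (.leaf 1640141025686) (.leaf 3401614909464)) (.node (.leaf 2511482725136) (.leaf 3956202693778)))) (.node (.node (.node (.leaf 769336200348) (.leaf 2962454451223)) (.node (.leaf 823560132101) (.leaf 3744138632988))) (.node (.node (.leaf 139586585754) (.leaf 2822331159053)) (.node (.leaf 2747169111808) (.leaf 4170414238749)))))) (.node (.node (.node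 (.node (.node (.node (.leaf 239444483981) (.leaf 4332012421777)) (.leaf 2873333784327)) (.node (.leaf 48318704670) (.leaf 2978023600518))) (.node (.node (.leaf 38118162841) (.leaf 3334506029465)) (.node (.leaf 2433636424348) (.leaf 3906810558098)))) (.node (.node (.node (.leaf 572841411201) (.leaf 3140695584017)) (.node (.leaf 1267015724820) (.leaf 3698504269830))) (.node (.node (.leaf 755914506381) (.leaf 2700461539998)) (.node (.leaf 2494302887554) (.leaf 4107600327058))))) (.node (.node (.node (.node (.node (.leaf 470299025562) (.leaf 4412006206484)) (.leaf 2831457911044)) (.node (.leaf 710280363668) (.leaf 2525978257286))) (.node (.node (.leaf 476741808777) (.leaf 3472481886849)) (.node (.leaf 2578591605136) (.leaf 4010963465219)))) (.node (.node (.node (.leaf 990527069833) (.leaf 2762738483843)) (.node (.leaf 2336999485442) (.leaf 3799973205768))) (.node (.node (.leaf 2072322026905) (.leaf 2440079067149)) (.node (.leaf 2789044995988) (.leaf 4209605824772))))))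
def dF_639 : BT := .node (.node (.node (.node (.node (.node (.node (.leaf 1610613139) (.leaf 4247723668498)) (.leaf 2843805898899)) (.node (.leaf 49392388766) (.leaf 1842541674014))) (.node (.node (.leaf 223338569728) (.leaf 3272228988815)) (.node (.leaf 2364380060189) (.leaf 3834332967707)))) (.node (.node (.node (.node (.leaf 444529199491) (.leaf 4437776016655)) (.leaf 3070902188422)) (.node (.leaf 1696512486424) (.leaf 3628174488346))) (.node (.node (.leaf 1975685427218) (.leaf 3483756184341)) (.node (.leaf 2615098828308) (.leaf 2706367231114))))) (.node (.node (.node (.node (.node (.leaf 360240467857) (.leaf 4228396343564)) (.leaf 2813204288788)) (.node (.leaf 515933131008) (.leaf 3170760409989))) (.node (.node (.leaf 1576790241419) (.leaf 2905546182294)) (.node (.leaf 2493229109891) (.leaf 3952444596507)))) (.node (.node (.node (.leaf 750545714053) (.leaf 3172370975385)) (.node (.leaf 331786661771) (.leaf 3737159304468))) (.node (.node (.leaf 30065305243) (.leaf 3188477021194)) (.node (.leaf 2724620528017) (.leaf 3558918263454)))))) (.node (.node (.node (.node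 (.node (.node (.leaf 193810445569) (.leaf 4305168869779)) (.leaf 2921652199699)) (.node (.leaf 1060320319767) (.leaf 2692945216266))) (.node (.node (.leaf 1318555276299) (.leaf 3320010511386)) (.node (.leaf 2428804585092) (.leaf 3903589331868)))) (.node (.node (.node (.leaf 561030223643) (.leaf 3128884421147)) (.node (.leaf 1061930992907) (.leaf 2830921197706))) (.node (.node (.leaf 861678296842) (.leaf 3559454461191)) (.node (.leaf 2670933424019) (.leaf 2665028185225))))) (.node (.node (.node (.node (.node (.leaf 134217834390) (.leaf 3697431020680)) (.leaf 3029026407706)) (.node (.leaf 396210904606) (.leaf 2438468320265))) (.node (.node (.leaf 1755031444997) (.leaf 3355980894740)) (.node (.leaf 2572686023695) (.leaf 2905009463049)))) (.node (.node (.node (.leaf 221727910282) (.leaf 3224447466269)) (.node (.leaf 2328946571539) (.leaf 3531000891275))) (.node (.node (.leaf 751082714243) (.leaf 2809983150725)) (.node (.leaf 2547453141653) (.leaf 4183836014735))))))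
def dF_646 : BT := .node (.node (.node (.node (.node (.node (.node (.leaf 82141269136) (.leaf 1961190456990)) (.leaf 2852395835547)) (.node (.leaf 1095753787806) (.leaf 2516851458317))) (.node (.node (.leaf 1166083899013) (.leaf 2689723866887)) (.node (.leaf 2369211899535) (.leaf 3692062177431)))) (.node (.node (.node (.node (.leaf 125091005079) (.leaf 4440997242906)) (.leaf 3046743159063)) (.node (.leaf 1269163138574) (.leaf 3635690682897))) (.node (.node (.leaf 2018098239767) (.leaf 3513284085774)) (.node (.leaf 2632278709149) (.leaf 3512210471432))))) (.node (.node (.node (.node (.node (.leaf 151934557076) (.leaf 4367445910419)) (.leaf 2983392369304)) (.node (.leaf 92878689946) (.leaf 2743411088798))) (.node (.node (.leaf 1625645509260) (.leaf 3395172384263)) (.node (.leaf 2511482725252) (.leaf 3968550727698)))) (.node (.node (.node (.leaf 762893731587) (.leaf 3178813427865)) (.node (.leaf 1899986623511) (.leaf 1894618340358))) (.node (.node (.leaf 850940425485) (.leaf 3241090434462)) (.node (.leaf 2734284206737) (.leaf 4148939381120)))))) (.node (.node (.node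 (.node (.node (.node (.leaf 226559579012) (.leaf 2869039185546)) (.leaf 2916283489295)) (.node (.leaf 346282207114) (.leaf 2877091936512))) (.node (.node (.leaf 1354525634445) (.leaf 2502892982275)) (.node (.leaf 2415919680019) (.leaf 3905199858437)))) (.node (.node (.node (.leaf 600221822853) (.leaf 3144453681305)) (.node (.leaf 1396401584771) (.leaf 3610994634772))) (.node (.node (.leaf 115964345246) (.leaf 2801930139526)) (.node (.leaf 2677912747544) (.leaf 4116727134749))))) (.node (.node (.node (.node (.node (.leaf 478888967709) (.leaf 4408248109573)) (.leaf 3033321376014)) (.node (.leaf 31138609677) (.leaf 2524367879582))) (.node (.node (.leaf 1834488343433) (.leaf 3460670723864)) (.node (.leaf 2389076170261) (.leaf 4017405992336)))) (.node (.node (.node (.leaf 962072903699) (.leaf 3234111145100)) (.node (.leaf 1843078397207) (.leaf 3480535027969))) (.node (.node (.leaf 619012390407) (.leaf 2925409752578)) (.node (.leaf 2792266279069) (.leaf 4205847727387))))))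
def dF_654 : BT := .node (.node (.node (.node (.node (.node (.node (.leaf 8053080350) (.leaf 3927748606103)) (.leaf 2840584672655)) (.node (.leaf 467077832734) (.leaf 2372433394974))) (.node (.node (.leaf 1080184549400) (.leaf 3266860140290)) (.node (.leaf 2367064415387) (.leaf 2670933702796)))) (.node (.node (.node (.node (.leaf 130459715463) (.leaf 4435091662477)) (.leaf 3078955414425)) (.node (.leaf 631360343055) (.leaf 3632469456667))) (.node (.node (.leaf 2007897689729) (.leaf 3506841592341)) (.node (.leaf 2619930675224) (.leaf 3897146912158))))) (.node (.node (.node (.node (.node (.leaf 123480339206) (.leaf 4366372168347)) (.leaf 2811056804631)) (.node (.leaf 168577662732) (.leaf 2745021570846))) (.node (.node (.leaf 1598265068557) (.leaf 3395172456989)) (.node (.leaf 2499134691219) (.leaf 3725885072258)))) (.node (.node (.node (.leaf 755914424968) (.leaf 3173981536021)) (.node (.leaf 132070255360) (.leaf 3738233051539))) (.node (.node (.leaf 2098091774234) (.leaf 3390340617611)) (.node (.leaf 2734821077788) (.leaf 4151623752349)))))) (.node (.node (.node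 (.node (.node (.node (.leaf 210990318852) (.leaf 4221417010974)) (.leaf 2913599134104)) (.node (.leaf 437549907102) (.leaf 2959770071425))) (.node (.node (.leaf 115964437662) (.leaf 3321621124496)) (.node (.leaf 2419140906267) (.leaf 3900368105614)))) (.node (.node (.node (.leaf 576062540556) (.leaf 3127810659842)) (.node (.leaf 1746978203038) (.leaf 3686693328774))) (.node (.node (.leaf 2027225066893) (.leaf 3558381253896)) (.node (.leaf 1844152220557) (.leaf 4102768487705))))) (.node (.node (.node (.node (.node (.leaf 457950997138) (.leaf 4406100625295)) (.leaf 3037079427222)) (.node (.leaf 1173600344734) (.leaf 2454037800073))) (.node (.node (.leaf 1828045891217) (.leaf 3353296539543)) (.node (.leaf 2557653634576) (.leaf 4005057958427)))) (.node (.node (.node (.leaf 116501216128) (.leaf 3221762942229)) (.node (.leaf 44023970569) (.leaf 3541201441027))) (.node (.node (.leaf 450971740446) (.leaf 702227804429)) (.node (.leaf 2543695044373) (.leaf 4200479005077))))))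
def dF_661 : BT := .node (.node (.node (.node (.node (.node (.node (.leaf 49392135698) (.leaf 4255239863059)) (.leaf 2858301416975)) (.node (.leaf 920196802329) (.leaf 2577517687050))) (.node (.node (.leaf 1178431932819) (.leaf 3277597699227)) (.node (.leaf 2370822512772) (.leaf 3853660325252)))) (.node (.node (.node (.node (.leaf 411243238407) (.leaf 2944201140872)) (.leaf 3083787253789)) (.node (.leaf 651224571535) (.leaf 3425237285637))) (.node (.node (.leaf 2019708854026) (.leaf 1695439028226)) (.node (.leaf 2629057482905) (.leaf 4055523836184))))) (.node (.node (.node (.node (.node (.leaf 5905669401) (.leaf 4375498248972)) (.leaf 2985539814293)) (.node (.leaf 624381019547) (.leaf 2743947829526))) (.node (.node (.leaf 1636382929937) (.leaf 3398930554369)) (.node (.leaf 2508261498904) (.leaf 3956739564825)))) (.node (.node (.node (.leaf 766651829257) (.leaf 3179350246421)) (.node (.leaf 1832340604802) (.leaf 3742528019865))) (.node (.node (.leaf 1439351024012) (.leaf 2673080874910)) (.node (.leaf 2729989218178) (.leaf 4158066204928)))))) (.node (.node (.node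 (.node (.node (.node (.leaf 227633271311) (.leaf 4323959255553)) (.leaf 2925947168019)) (.node (.leaf 331786254999) (.leaf 2869038909835))) (.node (.node (.leaf 225486110228) (.leaf 2580202397572)) (.node (.leaf 2430415197973) (.leaf 3736085602828)))) (.node (.node (.node (.leaf 619549180189) (.leaf 3134790002585)) (.node (.leaf 1313723466133) (.leaf 3531000869636))) (.node (.node (.leaf 958314827403) (.leaf 3568581803020)) (.node (.leaf 2677375819925) (.leaf 4113505908505))))) (.node (.node (.node (.node (.node (.leaf 469225288976) (.leaf 4410395593627)) (.leaf 2842195331860)) (.node (.leaf 1405528579084) (.leaf 3049427473031))) (.node (.node (.leaf 1764695126028) (.leaf 3456375743383)) (.node (.leaf 2574833507868) (.leaf 1847910636958)))) (.node (.node (.node (.leaf 987305718927) (.leaf 3233037402899)) (.node (.leaf 2335925895055) (.leaf 3798899189534))) (.node (.node (.leaf 666793833231) (.leaf 3255585847436)) (.node (.leaf 2786360697619) (.leaf 4204237114256))))))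
def dF_670 : BT := .node (.node (.node (.node (.node (.node (.node (.leaf 15569260178) (.leaf 4243965494293)) (.leaf 2842195285776)) (.node (.leaf 2231235613854) (.leaf 2958159513886))) (.node (.node (.leaf 1144072186373) (.leaf 3271155233941)) (.node (.leaf 48318946184) (.leaf 3849365356933)))) (.node (.node (.node (.node (.leaf 126701639829) (.leaf 4438312887709)) (.leaf 3080566027652)) (.node (.leaf 1701881196814) (.leaf 3630321972608))) (.node (.node (.leaf 1994475913729) (.leaf 3482682442261)) (.node (.leaf 2614561915030) (.leaf 3410204996745))))) (.node (.node (.node (.node (.node (.leaf 137439038996) (.leaf 4273493500675)) (.leaf 2801393126156)) (.node (.leaf 93415560985) (.leaf 3302293784478))) (.node (.node (.leaf 1580548342167) (.leaf 3389803746701)) (.node (.leaf 2493765980829) (.leaf 3642670080649)))) (.node (.node (.node (.leaf 754303664409) (.leaf 3170760362255)) (.node (.leaf 1696512505228) (.leaf 2893735105803))) (.node (.node (.leaf 1366336691351) (.leaf 2655901235594)) (.node (.leaf 2723009868551) (.leaf 2571612654600)))))) (.node (.node (.node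 (.node (.node (.node (.leaf 190052348178) (.leaf 4313221935489)) (.leaf 2918430973467)) (.node (.leaf 331249358210) (.leaf 2523830807947))) (.node (.node (.leaf 1335198276612) (.leaf 3325379119366)) (.node (.leaf 2420751519388) (.leaf 3901978718737)))) (.node (.node (.node (.leaf 569083302428) (.leaf 3128884421134)) (.node (.leaf 533649950614) (.leaf 3688840915968))) (.node (.node (.leaf 1971390504847) (.leaf 3560528735883)) (.node (.leaf 2670933416471) (.leaf 4100620915479))))) (.node (.node (.node (.node (.node (.leaf 453119073307) (.leaf 4401805657620)) (.leaf 3027415794585)) (.node (.leaf 1103806958110) (.leaf 2464775010056))) (.node (.node (.leaf 1824287793949) (.leaf 3402688663701)) (.node (.leaf 2561411731859) (.leaf 4006668571548)))) (.node (.node (.node (.leaf 949187998849) (.leaf 3223910595216)) (.node (.leaf 2330020313619) (.leaf 3782256478358))) (.node (.node (.leaf 1971390195352) (.leaf 2621004429342)) (.node (.leaf 2785286955535) (.leaf 4202626501149))))))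
def dF_677 : BT := .node (.node (.node (.node (.node (.node (.node (.leaf 34359746577) (.leaf 4253629193886)) (.leaf 2851322093457)) (.node (.leaf 316754293127) (.leaf 2371359497731))) (.node (.node (.leaf 1171989466139) (.leaf 3277597699328)) (.node (.leaf 2312840454025) (.leaf 3610994672542)))) (.node (.node (.node (.node (.leaf 435939262851) (.leaf 4442070984985)) (.leaf 3091303448460)) (.node (.leaf 692026770575) (.leaf 3634616940817))) (.node (.node (.leaf 1986422856843) (.leaf 3296924927116)) (.node (.leaf 2630668096026) (.leaf 4047470773527))))) (.node (.node (.node (.node (.node (.leaf 371514706965) (.leaf 3885872704002)) (.leaf 2985002982415)) (.node (.leaf 226022658206) (.leaf 2898029873812))) (.node (.node (.leaf 1632624448128) (.leaf 3390340456454)) (.node (.leaf 2500745304348) (.leaf 3957813306909)))) (.node (.node (.node (.leaf 765041232017) (.leaf 3182034654094)) (.node (.leaf 1833414632597) (.leaf 632971697292))) (.node (.node (.leaf 2034203952410) (.leaf 2883534262407)) (.node (.leaf 2731599808278) (.leaf 4153771236382)))))) (.node (.node (.node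 (.node (.node (.node (.leaf 228170192017) (.leaf 4326643711385)) (.leaf 2928094652177)) (.node (.leaf 11274837790) (.leaf 3006477883392))) (.node (.node (.leaf 1355062388238) (.leaf 3331821674265)) (.node (.leaf 2429878327055) (.leaf 3788698957190)))) (.node (.node (.node (.leaf 606127404188) (.leaf 3140158712987)) (.node (.leaf 1450088649623) (.leaf 3692598896909))) (.node (.node (.leaf 1019518090398) (.leaf 3565897447561)) (.node (.leaf 2438468320276) (.leaf 4115116521626))))) (.node (.node (.node (.node (.node (.leaf 473520257298) (.leaf 2597919394570)) (.leaf 2709051196422)) (.node (.leaf 346818620294) (.leaf 2906083005333))) (.node (.node (.leaf 1829119635075) (.leaf 3457449497617)) (.node (.leaf 2572685981333) (.leaf 4015795379215)))) (.node (.node (.node (.leaf 960462290576) (.leaf 3233037402907)) (.node (.leaf 1844689010199) (.leaf 3789235469452))) (.node (.node (.leaf 620086392089) (.leaf 2925947102725)) (.node (.leaf 2791192536985) (.leaf 4150013152642))))))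
def dF_685 : BT := .node (.node (.node (.node (.node (.node (.node (.leaf 23085454736) (.leaf 4255776734212)) (.leaf 2830384014466)) (.node (.leaf 890132071704) (.leaf 1901060471454))) (.node (.node (.leaf 1073205224857) (.leaf 3263101999508)) (.node (.leaf 2367064415637) (.leaf 3835406464909)))) (.node (.node (.node (.node (.leaf 438086747030) (.leaf 4440460371865)) (.leaf 3077881672334)) (.node (.leaf 1445793710735) (.leaf 3633006057995))) (.node (.node (.leaf 2016487613838) (.leaf 3511673472669)) (.node (.leaf 2629594354049) (.leaf 4048007641626))))) (.node (.node (.node (.node (.node (.leaf 362387886747) (.leaf 4225175119390)) (.leaf 2822867967511)) (.node (.leaf 370977894669) (.leaf 2690797688066))) (.node (.node (.leaf 1612760604293) (.leaf 3396246199056)) (.node (.leaf 2496987207055) (.leaf 3696894043264)))) (.node (.node (.node (.leaf 695784883466) (.leaf 3184182138269)) (.node (.leaf 828929092107) (.leaf 3739306793615))) (.node (.node (.leaf 913217889566) (.leaf 3612605228174)) (.node (.leaf 2733747335704) (.leaf 4152160623377)))))) (.node (.node (.node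 (.node (.node (.node (.leaf 106837362842) (.leaf 4277251584006)) (.leaf 2921115328656)) (.node (.leaf 484257672222) (.leaf 2728915439872))) (.node (.node (.leaf 182536427672) (.leaf 3315178672014)) (.node (.leaf 2417530293144) (.leaf 3898757154955)))) (.node (.node (.node (.leaf 584115691661) (.leaf 3132642518528)) (.node (.leaf 566398942740) (.leaf 2721936404237))) (.node (.node (.leaf 2175938236429) (.leaf 3562139350429)) (.node (.leaf 2680060231708) (.leaf 4111358424453))))) (.node (.node (.node (.node (.node (.leaf 168040706305) (.leaf 4406100625671)) (.leaf 3036542602256)) (.node (.leaf 150860737558) (.leaf 3150896117508))) (.node (.node (.leaf 1831267117469) (.leaf 3459060110860)) (.node (.leaf 2389613041302) (.leaf 4003447345304)))) (.node (.node (.node (.leaf 972273453572) (.leaf 2517925220998)) (.node (.leaf 2332167797775) (.leaf 3796751994894))) (.node (.node (.leaf 409632689792) (.leaf 2621004372758)) (.node (.leaf 2784750070934) (.leaf 4150013150859))))))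
def dF_692 : BT := .node (.node (.node (.node (.node (.node (.node (.leaf 45097167262) (.leaf 1320166588941)) (.leaf 2853469577624)) (.node (.leaf 748398330117) (.leaf 2331631206413))) (.node (.node (.leaf 1184874106496) (.leaf 3279208312335)) (.node (.leaf 2371359383699) (.leaf 3568045000844)))) (.node (.node (.node (.node (.leaf 47244759174) (.leaf 4432944179975)) (.leaf 3089155964185)) (.node (.leaf 2032593757455) (.leaf 3637838167172))) (.node (.node (.leaf 1958505570440) (.leaf 2561411866014)) (.node (.leaf 2634963064337) (.leaf 2524367995018))))) (.node (.node (.node (.node (.node (.leaf 388694633092) (.leaf 3684009241610)) (.leaf 2991445434906)) (.node (.leaf 1692217525918) (.leaf 2387465555998))) (.node (.node (.leaf 1639067285386) (.leaf 3402151780507)) (.node (.leaf 2503429659539) (.leaf 3956202417542)))) (.node (.node (.node (.leaf 769873068939) (.leaf 3039226990084)) (.node (.leaf 1829656217229) (.leaf 2541010919178))) (.node (.node (.leaf 944893295130) (.leaf 3015604544771)) (.node (.leaf 2742874143488) (.leaf 4171487980817)))))) (.node (.node (.node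 (.node (.node (.node (.leaf 235149515660) (.leaf 4330401808772)) (.leaf 2872796856455)) (.node (.leaf 694710971914) (.leaf 2646774201750))) (.node (.node (.leaf 491237212440) (.leaf 3333969158426)) (.node (.leaf 2437394521627) (.leaf 3906810488836)))) (.node (.node (.node (.leaf 615254211856) (.leaf 3134253131539)) (.node (.leaf 1272384436609) (.leaf 3221226353675))) (.node (.node (.leaf 904090864132) (.leaf 2688650380958)) (.node (.leaf 2645700492694) (.leaf 4111895295378))))) (.node (.node (.node (.node (.node (.leaf 472983277719) (.leaf 4412006206735)) (.leaf 3025268264341)) (.node (.leaf 112743062046) (.leaf 2525441394070))) (.node (.node (.leaf 1839857053845) (.leaf 3468186918529)) (.node (.leaf 2577517863058) (.leaf 4013110507806)))) (.node (.node (.node (.leaf 993748294533) (.leaf 3229816176655)) (.node (.leaf 1833414721687) (.leaf 2703145947914))) (.node (.node (.leaf 659814844174) (.leaf 2494302895617)) (.node (.leaf 2553358723093) (.leaf 3938486012693))))))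
def dF_702 : BT := .node (.node (.node (.node (.node (.node (.node (.leaf 25232938898) (.leaf 4079146202134)) (.leaf 2835215962259)) (.node (.leaf 170725261701) (.leaf 3230889721758))) (.node (.node (.leaf 1112396800661) (.leaf 3219078768660)) (.node (.leaf 2365453802257) (.leaf 3840775420293)))) (.node (.node (.node (.node (.leaf 443455404692) (.leaf 4420059276677)) (.leaf 3072512954901)) (.node (.leaf 1842541409294) (.leaf 2646237590174))) (.node (.node (.leaf 23085922817) (.leaf 3505231020176)) (.node (.leaf 2522220160135) (.leaf 3891778202526))))) (.node (.node (.node (.node (.node (.leaf 349503047057) (.leaf 4365298426268)) (.leaf 2805688094228)) (.node (.leaf 93952432026) (.leaf 2832531516190))) (.node (.node (.leaf 1504849543046) (.leaf 3381213792661)) (.node (.leaf 2500208433297) (.leaf 3859029058068)))) (.node (.node (.node (.leaf 747861358739) (.leaf 3171834104339)) (.node (.leaf 819802320396) (.leaf 3731253612680))) (.node (.node (.leaf 2245731560324) (.leaf 2550137435277)) (.node (.leaf 2724083613718) (.leaf 4147328408840)))))) (.node (.node (.node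 (.node (.node (.node (.leaf 108447971866) (.leaf 4304631807753)) (.leaf 2914672876188)) (.node (.leaf 497679628062) (.leaf 2833605259019))) (.node (.node (.leaf 1314260309781) (.leaf 3322694866585)) (.node (.leaf 2429341456028) (.leaf 3903052460818)))) (.node (.node (.node (.leaf 566398947329) (.leaf 3129958163218)) (.node (.leaf 533113070366) (.leaf 2924336736523))) (.node (.node (.leaf 2105070851848) (.leaf 3559991332354)) (.node (.leaf 2672007166095) (.leaf 4102231616664))))) (.node (.node (.node (.node (.node (.leaf 128849123990) (.leaf 4404489555200)) (.leaf 3036005731225)) (.node (.leaf 128849438336) (.leaf 2574833465483))) (.node (.node (.leaf 1822139883930) (.leaf 3453154529307)) (.node (.leaf 2570001668499) (.leaf 4015258508188)))) (.node (.node (.node (.leaf 940598062209) (.leaf 3227131652630)) (.node (.leaf 2329483442589) (.leaf 3788162058264))) (.node (.node (.leaf 1871532293376) (.leaf 2374580740995)) (.node (.leaf 2784750084507) (.leaf 4202626501135))))))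
def dF_709 : BT := .node (.node (.node (.node (.node (.node (.node (.leaf 46707780497) (.leaf 3939022896158)) (.leaf 2851858964504)) (.node (.leaf 1297080190238) (.leaf 3042985111582))) (.node (.node (.leaf 1170378867217) (.leaf 2889976820998)) (.node (.leaf 2364916932357) (.leaf 3853123454094)))) (.node (.node (.node (.node (.leaf 345744897046) (.leaf 2453501126920)) (.leaf 3082713511821)) (.node (.leaf 1188632482574) (.leaf 3635153811859))) (.node (.node (.leaf 2021856336669) (.leaf 3519726538372)) (.node (.leaf 2623688772509) (.leaf 4056597578373))))) (.node (.node (.node (.node (.node (.leaf 372051630738) (.leaf 4373888362897)) (.leaf 2982855498259)) (.node (.leaf 1148367158558) (.leaf 2446521396875))) (.node (.node (.leaf 474594274842) (.leaf 3393024961300)) (.node (.leaf 2509335240988) (.leaf 3966402937354)))) (.node (.node (.node (.leaf 763430617236) (.leaf 3180960912018)) (.node (.leaf 1896765383831) (.leaf 3531000880149))) (.node (.node (.leaf 284542029339) (.leaf 2641942242572)) (.node (.leaf 2733210464655) (.leaf 4153234365468)))))) (.node (.node (.node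 (.node (.node (.node (.leaf 232465146393) (.leaf 4322348743069)) (.leaf 2909304156695)) (.node (.leaf 470835891742) (.leaf 3100430253982))) (.node (.node (.leaf 136902407454) (.leaf 3326452963969)) (.node (.leaf 2422899003536) (.leaf 3773129700503)))) (.node (.node (.node (.leaf 608811759492) (.leaf 3136937486749)) (.node (.leaf 1445793680279) (.leaf 3610994635138))) (.node (.node (.leaf 977641962635) (.leaf 3564823705625)) (.node (.leaf 2681670844818) (.leaf 4108137198109))))) (.node (.node (.node (.node (.node (.leaf 478888967687) (.leaf 4406637496967)) (.leaf 3024731439374)) (.node (.leaf 1211717941790) (.leaf 3078418515590))) (.node (.node (.leaf 1835562085779) (.leaf 3409667987221)) (.node (.leaf 2558190334466) (.leaf 4008816055696)))) (.node (.node (.node (.leaf 969052227216) (.leaf 3234111144989)) (.node (.leaf 636729458060) (.leaf 3301757012224))) (.node (.node (.leaf 40265807105) (.leaf 1903208080519)) (.node (.leaf 2791729408026) (.leaf 3771519159816))))))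
def dF_717 : BT := .node (.node (.node (.node (.node (.node (.node (.leaf 42949689758) (.leaf 4248260463125)) (.leaf 2831994736015)) (.node (.leaf 837518713473) (.leaf 2404645388295))) (.node (.node (.leaf 1150514638737) (.leaf 3211025703063)) (.node (.leaf 2367601286419) (.leaf 3837554186260)))) (.node (.node (.node (.node (.leaf 350039939719) (.leaf 4432407308044)) (.leaf 3078418543379)) (.node (.leaf 756988166415) (.leaf 3631932494343))) (.node (.node (.leaf 2014340092687) (.leaf 3513284085893)) (.node (.leaf 2621004417409) (.leaf 4047470771742))))) (.node (.node (.node (.node (.node (.leaf 125090952322) (.leaf 4372814620928)) (.leaf 2981781756289)) (.node (.leaf 157840085785) (.leaf 3362423210782))) (.node (.node (.leaf 1604170667652) (.leaf 3397856800663)) (.node (.leaf 2498060949137) (.leaf 3955665822737)))) (.node (.node (.node (.leaf 759672521629) (.leaf 3180960912128)) (.node (.leaf 1900523033864) (.leaf 3738769922577))) (.node (.node (.leaf 2200097228547) (.leaf 2626910209546)) (.node (.leaf 2734284206747) (.leaf 4150550010265)))))) (.node (.node (.node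 (.node (.node (.node (.leaf 213137793428) (.leaf 4312148061964)) (.leaf 2917357231379)) (.node (.leaf 158913827855) (.leaf 2904472360448))) (.node (.node (.leaf 108985113369) (.leaf 3323768608654)) (.node (.leaf 2426120229784) (.leaf 3900904976659)))) (.node (.node (.node (.leaf 578210095629) (.leaf 2960306797446)) (.node (.leaf 1436130022295) (.leaf 3691525271178))) (.node (.node (.leaf 2174864564631) (.leaf 3554623157643)) (.node (.leaf 2430415258253) (.leaf 4103841949064))))) (.node (.node (.node (.node (.node (.leaf 145492125846) (.leaf 4406637030411)) (.leaf 3031173891858)) (.node (.leaf 1622960892038) (.leaf 3568044879624))) (.node (.node (.leaf 1829656504065) (.leaf 2967286353157)) (.node (.leaf 2562485473935) (.leaf 4012037281944)))) (.node (.node (.node (.leaf 963683516933) (.leaf 2516851492486)) (.node (.leaf 2331630926735) (.leaf 2590939925278))) (.node (.node (.leaf 626528866565) (.leaf 2672007196548)) (.node (.leaf 2779918231573) (.leaf 4199405262878))))))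
def dF_724 : BT := .node (.node (.node (.node (.node (.node (.node (.leaf 31675391378) (.leaf 4261145246857)) (.leaf 2857227674907)) (.node (.leaf 817654624524) (.leaf 2517388381061))) (.node (.node (.leaf 1175210706307) (.leaf 2463701397127)) (.node (.leaf 2364380061975) (.leaf 3859565906577)))) (.node (.node (.node (.node (.leaf 49392221591) (.leaf 4442607856149)) (.leaf 3086471608986)) (.node (.leaf 2022930078735) (.leaf 3637301134724))) (.node (.node (.leaf 2022393208707) (.leaf 644245795230)) (.node (.leaf 2636036757278) (.leaf 4053376352024))))) (.node (.node (.node (.node (.node (.leaf 380104696452) (.leaf 4299800177283)) (.leaf 2651069277062)) (.node (.leaf 1635309214110) (.leaf 2388539272326))) (.node (.node (.leaf 1637993543178) (.leaf 2547453289095)) (.node (.leaf 2512019596179) (.leaf 3729106300421)))) (.node (.node (.node (.leaf 767725587219) (.leaf 2466385726988)) (.node (.leaf 517007124493) (.leaf 3741454278278))) (.node (.node (.leaf 481573303821) (.leaf 2784750092044)) (.node (.leaf 2552821838484) (.leaf 4166656141568)))))) (.node (.node (.node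 (.node (.node (.node (.leaf 11274341518) (.leaf 4321274863637)) (.leaf 2925947168015)) (.node (.leaf 1081258290974) (.leaf 2977486672899))) (.node (.node (.leaf 1373852721945) (.leaf 3337727255709)) (.node (.leaf 2432025811329) (.leaf 2972655171082)))) (.node (.node (.node (.leaf 614717340818) (.leaf 3142843068179)) (.node (.leaf 1560147172630) (.leaf 2711735858049))) (.node (.node (.leaf 890131975560) (.leaf 3577171739660)) (.node (.leaf 2681670788245) (.leaf 4104915971865))))) (.node (.node (.node (.node (.node (.leaf 476204503959) (.leaf 4411469335553)) (.leaf 3031710716822)) (.node (.leaf 43486734494) (.leaf 2906619810438))) (.node (.node (.leaf 1839320179606) (.leaf 3460133829142)) (.node (.leaf 2578054734104) (.leaf 4014721563398)))) (.node (.node (.node (.leaf 990526835972) (.leaf 3231426789776)) (.node (.leaf 2335389024256) (.leaf 3799436060545))) (.node (.node (.leaf 680752797342) (.leaf 2806761797278)) (.node (.leaf 2791729408015) (.leaf 4203700138133))))))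
def dF_733 : BT := .node (.node (.node (.node (.node (.node (.node (.leaf 92341818898) (.leaf 4251481765889)) (.leaf 2833605349136)) (.node (.leaf 5905604510) (.leaf 2612414538113))) (.node (.node (.leaf 1079110807832) (.leaf 3269007749781)) (.node (.leaf 2366527542145) (.leaf 2658585673886)))) (.node (.node (.node (.node (.leaf 349503068692) (.leaf 4438849758737)) (.leaf 3077881672349)) (.node (.leaf 632970956175) (.leaf 3433827219477))) (.node (.node (.leaf 2003065850368) (.leaf 3481071829142)) (.node (.leaf 2580739096853) (.leaf 4034048918923))))) (.node (.node (.node (.node (.node (.leaf 128849102356) (.leaf 4365835297299)) (.leaf 2965138487175)) (.node (.leaf 335007452949) (.leaf 2451890130309))) (.node (.node (.leaf 1589675149581) (.leaf 3398393039501)) (.node (.leaf 2492692238747) (.leaf 3767224132365)))) (.node (.node (.node (.leaf 756451295389) (.leaf 3119220754838)) (.node (.leaf 46170977557) (.leaf 3735011523593))) (.node (.node (.leaf 2055678952704) (.leaf 2922189109003)) (.node (.leaf 2736968562052) (.leaf 4151623752448)))))) (.node (.node (.node (.node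 (.node (.node (.leaf 9126853900) (.leaf 4320738129934)) (.leaf 2909841036827)) (.node (.leaf 48855264666) (.leaf 3047816860033))) (.node (.node (.leaf 1343788213252) (.leaf 3319473640338)) (.node (.leaf 2427730842907) (.leaf 3899831234587)))) (.node (.node (.node (.leaf 120796091802) (.leaf 2581812960798)) (.node (.leaf 1069446983574) (.leaf 3692062142107))) (.node (.node (.leaf 143345023513) (.leaf 3560528737308)) (.node (.leaf 2672007109526) (.leaf 4103305358744))))) (.node (.node (.node (.node (.node (.leaf 460635352452) (.leaf 4359392855814)) (.leaf 3038153215377)) (.node (.leaf 2192044206358) (.leaf 2932926544000))) (.node (.node (.leaf 1774358799510) (.leaf 3452617658255)) (.node (.leaf 2566243571216) (.leaf 4013647895067)))) (.node (.node (.node (.leaf 956704193299) (.leaf 3223373542274)) (.node (.leaf 2330557184655) (.leaf 3791920155652))) (.node (.node (.leaf 740882168215) (.leaf 3003256461580)) (.node (.leaf 2783676342416) (.leaf 4201552759065))))))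
def dF_740 : BT := .node (.node (.node (.node (.node (.node (.node (.leaf 93415560833) (.leaf 4253092378906)) (.leaf 2847563973763)) (.node (.leaf 10737420815) (.leaf 699543567363))) (.node (.node (.leaf 1179505675020) (.leaf 2519535972246)) (.node (.leaf 2370822431883) (.leaf 3675419181574)))) (.node (.node (.node (.node (.leaf 434328573716) (.leaf 4442607856000)) (.leaf 3092377190429)) (.node (.leaf 1059783432974) (.leaf 2378875878024))) (.node (.node (.leaf 2024540691869) (.leaf 3275986982029)) (.node (.leaf 2622078159386) (.leaf 4059281933467))))) (.node (.node (.node (.node (.node (.leaf 372588501762) (.leaf 4374425185028)) (.leaf 2819646741268)) (.node (.leaf 1173063282718) (.leaf 3032784459028))) (.node (.node (.leaf 1634235445890) (.leaf 3339337880342)) (.node (.leaf 2504503401627) (.leaf 3957276435866)))) (.node (.node (.node (.leaf 763967490437) (.leaf 2706903896711)) (.node (.leaf 1903207823380) (.leaf 3741990842377))) (.node (.node (.leaf 849330091156) (.leaf 2914136029079)) (.node (.leaf 2645163535372) (.leaf 4108674080277)))))) (.node (.node (.node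 (.node (.node (.node (.leaf 219580255377) (.leaf 3903589432350)) (.leaf 2925947168027)) (.node (.leaf 202937349662) (.leaf 3092377192588))) (.node (.node (.leaf 1364726171675) (.leaf 3329137250819)) (.node (.leaf 2421288390415) (.leaf 3767224116126)))) (.node (.node (.node (.leaf 614180469895) (.leaf 3143379939225)) (.node (.leaf 1325534627221) (.leaf 3564823736960))) (.node (.node (.leaf 379567815192) (.leaf 3563213093013)) (.node (.leaf 2677912747536) (.leaf 4106526584986))))) (.node (.node (.node (.node (.node (.leaf 477815225616) (.leaf 2452964248459)) (.leaf 2907156669575)) (.node (.leaf 349503047066) (.leaf 2585034199938))) (.node (.node (.leaf 1828582764419) (.leaf 3457986356500)) (.node (.leaf 2579665347215) (.leaf 4007205442575)))) (.node (.node (.node (.leaf 979252777091) (.leaf 3231963660825)) (.node (.leaf 1962800610965) (.leaf 3410204938888))) (.node (.node (.leaf 592169122202) (.leaf 2672544117515)) (.node (.leaf 2554432465173) (.leaf 4205310856338))))))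
def dF_748 : BT := .node (.node (.node (.node (.node (.node (.node (.leaf 14495518096) (.leaf 3144453947784)) (.leaf 2847027125249)) (.node (.leaf 430570620830) (.leaf 3278671348126))) (.node (.node (.leaf 1157493962372) (.leaf 2506650907271)) (.node (.leaf 2368675028499) (.leaf 3686693467031)))) (.node (.node (.node (.node (.leaf 437013004935) (.leaf 4441534113926)) (.leaf 3077881665301)) (.node (.leaf 1323923984654) (.leaf 3630321930755))) (.node (.node (.leaf 2018635096584) (.leaf 3514357827858)) (.node (.leaf 1833414793091) (.leaf 4047470702477))))) (.node (.node (.node (.node (.node (.leaf 365609178371) (.leaf 4373351491867)) (.leaf 2986076724507)) (.node (.leaf 111669176347) (.leaf 2945811293698))) (.node (.node (.leaf 1618129023769) (.leaf 3091840392067)) (.node (.leaf 2502892788612) (.leaf 3964255759488)))) (.node (.node (.node (.leaf 761819989889) (.leaf 3181497783066)) (.node (.leaf 1840930841995) (.leaf 2430415510282))) (.node (.node (.leaf 2004139332251) (.leaf 3253975333278)) (.node (.leaf 2735357948819) (.leaf 3746823084546)))))) (.node (.node (.node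 (.node (.node (.node (.leaf 217969642372) (.leaf 4326106840452)) (.leaf 2912525392016)) (.node (.leaf 1808181236766) (.leaf 3150896199937))) (.node (.node (.leaf 1348083181704) (.leaf 3322157893126)) (.node (.leaf 2424509616659) (.leaf 3904126202899)))) (.node (.node (.node (.leaf 592705628301) (.leaf 3141232455168)) (.node (.leaf 1753420661783) (.leaf 3693135884174))) (.node (.node (.leaf 1859721282718) (.leaf 3563213092497)) (.node (.leaf 2678986489626) (.leaf 4119948356869))))) (.node (.node (.node (.node (.node (.leaf 472983386369) (.leaf 4407711238535)) (.leaf 3027952665616)) (.node (.leaf 30064801438) (.leaf 2882997374083))) (.node (.node (.leaf 1823750925065) (.leaf 3461207594907)) (.node (.leaf 2558727334302) (.leaf 4010426668819)))) (.node (.node (.node (.leaf 972810324499) (.leaf 2900177370630)) (.node (.leaf 2332704668819) (.leaf 3796215123854))) (.node (.node (.leaf 616327953923) (.leaf 2550137595806)) (.node (.leaf 2792803150212) (.leaf 3771519159811))))))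
def dF_755 : BT := .node (.node (.node (.node (.node (.node (.node (.leaf 5905602953) (.leaf 4265440412702)) (.leaf 2854543319696)) (.node (.leaf 343597470366) (.leaf 3042984896388))) (.node (.node (.leaf 1188095611009) (.leaf 3225521221012)) (.node (.leaf 2364916933012) (.leaf 3857418114434)))) (.node (.node (.node (.node (.leaf 500900572678) (.leaf 4038344059786)) (.leaf 2778844577926)) (.node (.leaf 1894617900175) (.leaf 3638375038109))) (.node (.node (.leaf 2028298789384) (.leaf 2557116764702)) (.node (.leaf 2626909998738) (.leaf 4042638934144))))) (.node (.node (.node (.node (.node (.leaf 22548670996) (.leaf 4376572409481)) (.leaf 2992519176974)) (.node (.leaf 20401173772) (.leaf 2884608099093))) (.node (.node (.leaf 1559610390791) (.leaf 3403762393619)) (.node (.leaf 2507187756816) (.leaf 3958886905225)))) (.node (.node (.node (.leaf 220117257862) (.leaf 3186329622541)) (.node (.leaf 1694901873046) (.leaf 3746822988288))) (.node (.node (.leaf 42949691930) (.leaf 3097745935232)) (.node (.leaf 2751464080128) (.leaf 4166119270429)))))) (.node (.node (.node (.node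 (.node (.node (.leaf 241591968652) (.leaf 4284767781526)) (.leaf 2798708762501)) (.node (.leaf 1336808577950) (.leaf 2646237474563))) (.node (.node (.leaf 1378147947652) (.leaf 3337190384654)) (.node (.leaf 2435247037467) (.leaf 3906810450946)))) (.node (.node (.node (.leaf 9663824921) (.leaf 3136400615697)) (.node (.leaf 1316944676117) (.leaf 3698504594589))) (.node (.node (.leaf 944356230157) (.leaf 3583077320987)) (.node (.leaf 2645163577991) (.leaf 4118874618897))))) (.node (.node (.node (.node (.node (.leaf 469225279384) (.leaf 4412543077120)) (.leaf 3023657244035)) (.node (.leaf 797253759748) (.leaf 2763812057238))) (.node (.node (.leaf 1840930795797) (.leaf 3325916128021)) (.node (.leaf 2574296636816) (.leaf 4010426668802)))) (.node (.node (.node (.leaf 996969520647) (.leaf 2522757185812)) (.node (.leaf 2336462766099) (.leaf 3022584140681))) (.node (.node (.leaf 1776506327835) (.leaf 2439542075649)) (.node (.leaf 2732673607191) (.leaf 4213900793092))))))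
def dF_767 : BT := .node (.node (.node (.node (.node (.node (.node (.leaf 81604398082) (.leaf 3637301441546)) (.leaf 2830384122904)) (.node (.leaf 835908110878) (.leaf 2403571806366))) (.node (.node (.leaf 1119912992523) (.leaf 3271692117776)) (.node (.leaf 2032593836564) (.leaf 3834332967699)))) (.node (.node (.node (.node (.leaf 444529199510) (.leaf 4432407307524)) (.leaf 3071439212821)) (.node (.leaf 1768990076825) (.leaf 3626563875229))) (.node (.node (.leaf 1977832911378) (.leaf 3509525782411)) (.node (.leaf 2584497194134) (.leaf 2583960663306))))) (.node (.node (.node (.node (.node (.leaf 345744949778) (.leaf 3768297971988)) (.leaf 2978023619734)) (.node (.leaf 48855290765) (.leaf 2840047854622))) (.node (.node (.leaf 1575716499851) (.leaf 3382824309268)) (.node (.leaf 2486786657295) (.leaf 3680787915029)))) (.node (.node (.node (.leaf 748398229892) (.leaf 3174518459545)) (.node (.leaf 331249789086) (.leaf 3731253728014))) (.node (.node (.leaf 147102948506) (.leaf 3240553292934)) (.node (.leaf 2726768012177) (.leaf 4141423143297)))))) (.node (.node (.node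 (.node (.node (.node (.leaf 191662961408) (.leaf 4305168435720)) (.leaf 2921652199695)) (.node (.leaf 1060320319746) (.leaf 2692945170176))) (.node (.node (.leaf 1326071468816) (.leaf 3322157995546)) (.node (.leaf 2426657100933) (.leaf 2517925507978)))) (.node (.node (.node (.leaf 552440300176) (.leaf 3131031905307)) (.node (.leaf 538481827210) (.leaf 3281892763528))) (.node (.node (.leaf 2016487660318) (.leaf 3558381253514)) (.node (.leaf 2673080908179) (.leaf 4101694745729))))) (.node (.node (.node (.node (.node (.leaf 138512802710) (.leaf 4402879398421)) (.leaf 3031173891866)) (.node (.leaf 536334453388) (.leaf 2438468312712))) (.node (.node (.leaf 153545407386) (.leaf 3455302013459)) (.node (.leaf 624381484035) (.leaf 4018479734528)))) (.node (.node (.node (.leaf 221727910020) (.leaf 3226594950429)) (.node (.leaf 2328946571535) (.leaf 3787625187225))) (.node (.node (.leaf 748935230740) (.leaf 1122060917261)) (.node (.leaf 2775086408333) (.leaf 4183835600267))))))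
def dF_774 : BT := .node (.node (.node (.node (.node (.node (.node (.leaf 1073742081) (.leaf 4262219186585)) (.leaf 2852395835535)) (.node (.leaf 352187862430) (.leaf 2516851510148))) (.node (.node (.leaf 1163936414853) (.leaf 2745021739783)) (.node (.leaf 2364916932235) (.leaf 3840238549136)))) (.node (.node (.node (.node (.leaf 437013004950) (.leaf 4441534113945)) (.leaf 3076271052181)) (.node (.leaf 1312112821774) (.leaf 1954747857421))) (.node (.node (.leaf 2019171981469) (.leaf 3511673472657)) (.node (.leaf 2634426193309) (.leaf 3740380609694))))) (.node (.node (.node (.node (.node (.leaf 372051630849) (.leaf 4367445556616)) (.leaf 2985539853464)) (.node (.leaf 426812675852) (.leaf 2447058204446))) (.node (.node (.leaf 1623498025100) (.leaf 3347927816982)) (.node (.leaf 2509335241093) (.leaf 2898567000072)))) (.node (.node (.node (.leaf 695784883604) (.leaf 3180960912025)) (.node (.leaf 1841467694228) (.leaf 1961727204226))) (.node (.node (.leaf 436476229790) (.leaf 2971044450590)) (.node (.leaf 2736431690897) (.leaf 4148939397138)))))) (.node (.node (.node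 (.node (.node (.node (.leaf 224412094853) (.leaf 4276177845894)) (.leaf 2918430973455)) (.node (.leaf 111132325918) (.leaf 2437394514186))) (.node (.node (.leaf 1353988763021) (.leaf 2447058407171)) (.node (.leaf 2418067164179) (.leaf 3904125916424)))) (.node (.node (.node (.leaf 598074338692) (.leaf 3093450944661)) (.node (.leaf 1395864731523) (.leaf 3677566627998))) (.node (.node (.leaf 133681092632) (.leaf 3563749764617)) (.node (.leaf 2680060231704) (.leaf 4118874618909))))) (.node (.node (.node (.node (.node (.leaf 479425827968) (.leaf 4408248109469)) (.leaf 3035468860174)) (.node (.leaf 1406065449758) (.leaf 3078955386398))) (.node (.node (.leaf 1833951472657) (.leaf 3459060110747)) (.node (.leaf 2386928686101) (.leaf 4003984216339)))) (.node (.node (.node (.leaf 964220387859) (.leaf 3231963660940)) (.node (.leaf 2333241539855) (.leaf 3549791375380))) (.node (.node (.leaf 619012592512) (.leaf 2415383033485)) (.node (.leaf 2794413763229) (.leaf 4204237114268))))))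
def dF_782 : BT := .node (.node (.node (.node (.node (.node (.node (.leaf 7516194562) (.leaf 4015258564757)) (.leaf 2842732156815)) (.node (.leaf 51002742284) (.leaf 2611877575170))) (.node (.node (.leaf 1146219670429) (.leaf 2505577325334)) (.node (.leaf 2367064415375) (.leaf 2672544316062)))) (.node (.node (.node (.node (.leaf 130996608135) (.leaf 4439386622849)) (.leaf 3076271059226)) (.node (.leaf 644782119055) (.leaf 3631395714589))) (.node (.node (.leaf 2005750205571) (.leaf 3332895457303)) (.node (.leaf 2619930675218) (.leaf 3562139463582))))) (.node (.node (.node (.node (.node (.leaf 139586523139) (.leaf 4365835297304)) (.leaf 2808909320471)) (.node (.leaf 350040379294) (.leaf 2597918997534))) (.node (.node (.leaf 1596117602061) (.leaf 3397319941149)) (.node (.leaf 2493765980825) (.leaf 3954592080667)))) (.node (.node (.node (.leaf 757525037574) (.leaf 3040300730503)) (.node (.leaf 1831267146759) (.leaf 3738232848394))) (.node (.node (.leaf 2096481159578) (.leaf 3562676131850)) (.node (.leaf 2736968561948) (.leaf 4152697494425)))))) (.node (.node (.node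 (.node (.node (.node (.leaf 208842834693) (.leaf 4320738119552)) (.leaf 2915746618264)) (.node (.leaf 20938023198) (.leaf 2615635866624))) (.node (.node (.leaf 113280083853) (.leaf 3323768608656)) (.node (.leaf 2421288390427) (.leaf 3901441847694)))) (.node (.node (.node (.leaf 575525657091) (.leaf 3130494994199)) (.node (.leaf 526133748742) (.leaf 3687230302622))) (.node (.node (.leaf 195958381334) (.leaf 3559454995723)) (.node (.leaf 2431488996756) (.leaf 2961917799690))))) (.node (.node (.node (.node (.node (.leaf 460098481298) (.leaf 4405563691145)) (.leaf 2394981751816)) (.node (.leaf 1512365743262) (.leaf 2838437213707))) (.node (.node (.leaf 1762547639820) (.leaf 2873870814982)) (.node (.leaf 2559801118736) (.leaf 4007205442587)))) (.node (.node (.node (.leaf 950261740819) (.leaf 2517388475412)) (.node (.leaf 2331094055429) (.leaf 1839857520909))) (.node (.node (.leaf 446676773662) (.leaf 2434173339913)) (.node (.leaf 2545305657494) (.leaf 4200479016974))))))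
def dF_789 : BT := .node (.node (.node (.node (.node (.node (.node (.leaf 47244651538) (.leaf 4255239804034)) (.leaf 2857227675009)) (.node (.leaf 124554122526) (.leaf 2577517731717))) (.node (.node (.leaf 1180579416979) (.leaf 3279745183387)) (.node (.leaf 2370822512665) (.leaf 3853660097408)))) (.node (.node (.node (.node (.leaf 453119136135) (.leaf 4443144726404)) (.leaf 3085934737949)) (.node (.leaf 833760725134) (.leaf 3636764113159))) (.node (.node (.leaf 2025614434051) (.leaf 3520800280336)) (.node (.leaf 2631204967065) (.leaf 4057671320344))))) (.node (.node (.node (.node (.node (.leaf 153545169926) (.leaf 4375498976017)) (.leaf 2473365002375)) (.node (.leaf 1800128593566) (.leaf 2743947801219))) (.node (.node (.leaf 1635846058909) (.leaf 3386582341765)) (.node (.leaf 2510408983064) (.leaf 3963718888346)))) (.node (.node (.node (.leaf 765578102679) (.leaf 3179350286487)) (.node (.leaf 760209650051) (.leaf 3742528019857))) (.node (.node (.leaf 368830667294) (.leaf 2545842685342)) (.node (.leaf 2730526088838) (.leaf 4155918720769)))))) (.node (.node (.node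 (.node (.node (.node (.leaf 229780755471) (.leaf 4323959356179)) (.leaf 2923799683865)) (.node (.leaf 108984831390) (.leaf 2677912714526))) (.node (.node (.leaf 1370631765248) (.leaf 3326989720579)) (.node (.leaf 2430951895043) (.leaf 3735548732165)))) (.node (.node (.node (.leaf 620622919821) (.leaf 3136937486745)) (.node (.leaf 1324460869397) (.leaf 2994129957640))) (.node (.node (.leaf 958314826754) (.leaf 2981245024768)) (.node (.leaf 2679523360655) (.leaf 4115653392665))))) (.node (.node (.node (.node (.node (.leaf 471372773136) (.leaf 4407174368148)) (.leaf 3034395036547)) (.node (.leaf 1518808176030) (.leaf 2856154010501))) (.node (.node (.leaf 1837709552909) (.leaf 3456912602902)) (.node (.leaf 2576980992028) (.leaf 4018479734403)))) (.node (.node (.node (.leaf 985695229569) (.leaf 3235184887059)) (.node (.leaf 2334315282314) (.leaf 3798362608028))) (.node (.node (.leaf 672699470478) (.leaf 3085934606110)) (.node (.leaf 2788508181779) (.leaf 4204237114508))))))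
def dF_798 : BT := .node (.node (.node (.node (.node (.node (.node (.leaf 17716744338) (.leaf 4243965204362)) (.leaf 2844342769936)) (.node (.leaf 90194341150) (.leaf 2467459312919))) (.node (.node (.leaf 1141924702212) (.leaf 3217468155543)) (.node (.leaf 2364916931216) (.leaf 3847217872772)))) (.node (.node (.node (.node (.leaf 348966123286) (.leaf 4436165404055)) (.leaf 3078418543493)) (.node (.leaf 1770063818895) (.leaf 3626026747777))) (.node (.node (.leaf 1992328429568) (.leaf 3507378474883)) (.node (.leaf 2404645437972) (.leaf 3868155882248))))) (.node (.node (.node (.node (.node (.leaf 359703544071) (.leaf 4366909039375)) (.leaf 2802466867991)) (.node (.leaf 82678140185) (.leaf 2390686964382))) (.node (.node (.leaf 1582158690827) (.leaf 3387656262541)) (.node (.leaf 2495913464989) (.leaf 2358474859139)))) (.node (.node (.node (.leaf 753766871695) (.leaf 3172907846415)) (.node (.leaf 143881840522) (.leaf 3732327470230))) (.node (.node (.leaf 1367410423579) (.leaf 2548526933901)) (.node (.leaf 2545305643924) (.leaf 4136054398215)))))) (.node (.node (.node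 (.node (.node (.node (.leaf 192199832338) (.leaf 4305168869514)) (.leaf 2920578457627)) (.node (.leaf 110058563225) (.leaf 2589329010189))) (.node (.node (.leaf 1333050792453) (.leaf 3316252414105)) (.node (.leaf 2422899003548) (.leaf 3901978389129)))) (.node (.node (.node (.leaf 571230786588) (.leaf 3131031905294)) (.node (.leaf 533113079573) (.leaf 3686693431809))) (.node (.node (.leaf 2161979678087) (.leaf 3560528736261)) (.node (.leaf 2640331782293) (.leaf 4100620980237))))) (.node (.node (.node (.node (.node (.leaf 123480413590) (.leaf 4404490012174)) (.leaf 3029563278745)) (.node (.leaf 1394253887127) (.leaf 2560337997320))) (.node (.node (.leaf 1823750493188) (.leaf 2876555170182)) (.node (.leaf 2563559216019) (.leaf 4008816055708)))) (.node (.node (.node (.leaf 947040514688) (.leaf 3226058079376)) (.node (.leaf 44560841225) (.leaf 3788698929296))) (.node (.node (.leaf 250182315035) (.leaf 2994129669635)) (.node (.leaf 2782602600345) (.leaf 4152697506327))))))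
def dF_805 : BT := .node (.node (.node (.node (.node (.node (.node (.leaf 38654714897) (.leaf 4257924218243)) (.leaf 2849174609299)) (.node (.leaf 88583721615) (.leaf 2520072740372))) (.node (.node (.leaf 135291749120) (.leaf 3275450215169)) (.node (.leaf 2369748770589) (.leaf 3850439098896)))) (.node (.node (.node (.node (.leaf 124017262999) (.leaf 4442070984597)) (.leaf 3089155964300)) (.node (.leaf 696858925965) (.leaf 3634616886403))) (.node (.node (.leaf 2022930078749) (.leaf 2397129324045)) (.node (.leaf 2632815580186) (.leaf 4059818804494))))) (.node (.node (.node (.node (.node (.leaf 369904146576) (.leaf 4373888275592)) (.leaf 2981781756177)) (.node (.leaf 1472100045086) (.leaf 2898029935749))) (.node (.node (.leaf 1631550709786) (.leaf 3344169719702)) (.node (.leaf 2502892788508) (.leaf 3966403243549)))) (.node (.node (.node (.leaf 765041230727) (.leaf 3179350298897)) (.node (.leaf 1904281592597) (.leaf 3740380535699))) (.node (.node (.leaf 1872605971458) (.leaf 3208878160030)) (.node (.leaf 2733747292438) (.leaf 4153771236497)))))) (.node (.node (.node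 (.node (.node (.node (.leaf 230317676177) (.leaf 4322348743067)) (.leaf 2927557781252)) (.node (.leaf 889595125150) (.leaf 3091840179723))) (.node (.node (.leaf 1356136144795) (.leaf 3331821674255)) (.node (.leaf 2416456551056) (.leaf 3905736816017)))) (.node (.node (.node (.leaf 610422372508) (.leaf 3142306197147)) (.node (.leaf 1318555274254) (.leaf 3693135884187))) (.node (.node (.leaf 428959960961) (.leaf 697933035779)) (.node (.leaf 2675765047948) (.leaf 4117264005786))))) (.node (.node (.node (.node (.node (.leaf 475667741458) (.leaf 4409858722585)) (.leaf 2857227582979)) (.node (.leaf 1519345047070) (.leaf 2906082942731))) (.node (.node (.leaf 1836098954263) (.leaf 3459596981777)) (.node (.leaf 2380486233621) (.leaf 4017942863375)))) (.node (.node (.node (.leaf 962609774736) (.leaf 3235184887067)) (.node (.leaf 2334315281935) (.leaf 3789235577606))) (.node (.node (.leaf 1856500119070) (.leaf 2550674310806)) (.node (.leaf 2793340021145) (.leaf 3922916756886))))))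
def dF_813 : BT := .node (.node (.node (.node (.node (.node (.node (.leaf 91268076817) (.leaf 4253629250053)) (.leaf 2844879115010)) (.node (.leaf 470299150238) (.leaf 2958159298563))) (.node (.node (.leaf 1075352707993) (.leaf 2560338157446)) (.node (.leaf 1120450157955) (.leaf 824097764877)))) (.node (.node (.node (.node (.leaf 352187423874) (.leaf 4440460371857)) (.leaf 3076271059217)) (.node (.leaf 1502165169935) (.leaf 2440616032129))) (.node (.node (.leaf 2015950705433) (.leaf 3513820956829)) (.node (.leaf 2627446869888) (.leaf 4047470770589))))) (.node (.node (.node (.node (.node (.leaf 126164747142) (.leaf 4373351491857)) (.leaf 2987150466575)) (.node (.leaf 385473409822) (.leaf 3061238694686))) (.node (.node (.leaf 1610613120133) (.leaf 3395172456978)) (.node (.leaf 2499134691215) (.leaf 3955665528585)))) (.node (.node (.node (.leaf 693637399680) (.leaf 2964065064343)) (.node (.leaf 372051576197) (.leaf 3710852635264))) (.node (.node (.leaf 911607257502) (.leaf 3611531486209)) (.node (.leaf 2735894819864) (.leaf 4152160618883)))))) (.node (.node (.node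 (.node (.node (.node (.leaf 106837362712) (.leaf 4312148185110)) (.leaf 2910914778899)) (.node (.leaf 12348065408) (.leaf 2630131221514))) (.node (.node (.leaf 1293859216795) (.leaf 3317326156174)) (.node (.leaf 2419677777304) (.leaf 3745749282718)))) (.node (.node (.node (.leaf 581968207501) (.leaf 2581812831370)) (.node (.leaf 351113829504) (.leaf 3692062142089))) (.node (.node (.leaf 2175401454211) (.leaf 3559454995863)) (.node (.leaf 2682207715868) (.leaf 4109210940292))))) (.node (.node (.node (.node (.node (.leaf 7516303515) (.leaf 4407174367389)) (.leaf 3024731439378)) (.node (.leaf 1519881918110) (.leaf 3099356569609))) (.node (.node (.leaf 22012144008) (.leaf 3456912626700)) (.node (.leaf 2391760525462) (.leaf 4005594829464)))) (.node (.node (.node (.leaf 970125969413) (.leaf 3226594838534)) (.node (.leaf 2332167796873) (.leaf 3796751995038))) (.node (.node (.leaf 409632685598) (.leaf 2621004429440)) (.node (.leaf 2726768025748) (.leaf 4198868392087))))))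
def dF_820 : BT := .node (.node (.node (.node (.node (.node (.node (.leaf 90194334594) (.leaf 4261145444505)) (.leaf 2855617061784)) (.node (.leaf 1860794584478) (.leaf 2337536654477))) (.node (.node (.leaf 15032667931) (.leaf 3278134570257)) (.node (.leaf 644245659779) (.leaf 3859028868225)))) (.node (.node (.node (.node (.leaf 498216303381) (.leaf 4435091663621)) (.leaf 3091303448345)) (.node (.leaf 1901597223694) (.leaf 3637301296026))) (.node (.node (.leaf 2026688175638) (.leaf 2593087249801)) (.node (.leaf 2430415246996) (.leaf 3745212448903))))) (.node (.node (.node (.node (.node (.leaf 386547148933) (.leaf 4365298428949)) (.leaf 2989834821789)) (.node (.leaf 617938567064) (.leaf 2908230514974))) (.node (.node (.leaf 1639604155156) (.leaf 3400541167388)) (.node (.leaf 2505577143699) (.leaf 3704947107358)))) (.node (.node (.node (.leaf 768262458258) (.leaf 3176129060247)) (.node (.leaf 651224852374) (.leaf 2309082685196))) (.node (.node (.leaf 832150114071) (.leaf 2651069249287)) (.node (.leaf 2740726659329) (.leaf 2856154246408)))))) (.node (.node (.node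 (.node (.node (.node (.leaf 108447979916) (.leaf 4328254324613)) (.leaf 2922725929606)) (.node (.leaf 694174101003) (.leaf 2539936866710))) (.node (.node (.leaf 1375463601559) (.leaf 3336116642586)) (.node (.leaf 2437394521615) (.leaf 3906273687069)))) (.node (.node (.node (.leaf 613106727956) (.leaf 3136400615699)) (.node (.leaf 702764328086) (.leaf 3697967039245))) (.node (.node (.leaf 932545025030) (.leaf 2512556722437)) (.node (.leaf 2678449611028) (.leaf 4114042779538))))) (.node (.node (.node (.node (.node (.leaf 472446515206) (.leaf 4412006206467)) (.leaf 3025268264342)) (.node (.leaf 371514765580) (.leaf 2525441451010))) (.node (.node (.leaf 1839857054096) (.leaf 3466039434368)) (.node (.leaf 2579128476177) (.leaf 3927211678228)))) (.node (.node (.node (.leaf 990527069314) (.leaf 3231963660815)) (.node (.leaf 2336999637137) (.leaf 3799973221139))) (.node (.node (.leaf 1286879715599) (.leaf 3149822457758)) (.node (.leaf 2792803093271) (.leaf 3763466095241))))))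
def dF_830 : BT := .node (.node (.node (.node (.node (.node (.node (.leaf 90731205779) (.leaf 3765076717700)) (.leaf 2837363446419)) (.node (.leaf 536871454) (.leaf 2522757016711))) (.node (.node (.leaf 1136019115029) (.leaf 2510946035734)) (.node (.leaf 1832340986625) (.leaf 3838627936132)))) (.node (.node (.node (.node (.leaf 352724220551) (.leaf 4437776014349)) (.leaf 3039763835543)) (.node (.leaf 1829656504335) (.leaf 3629248117662))) (.node (.node (.leaf 1985348715160) (.leaf 3507378504336)) (.node (.leaf 2611877609858) (.leaf 3761318570631))))) (.node (.node (.node (.node (.node (.leaf 351650531217) (.leaf 3585224991114)) (.leaf 2807835578388)) (.node (.leaf 45634452766) (.leaf 3113851978654))) (.node (.node (.leaf 227633643144) (.leaf 3381213696151)) (.node (.leaf 2499671562372) (.leaf 3953518338575)))) (.node (.node (.node (.leaf 750008842899) (.leaf 3173981588499)) (.node (.leaf 819802035588) (.leaf 2539937174025))) (.node (.node (.leaf 2246805085080) (.leaf 3387656262410)) (.node (.leaf 2726231097878) (.leaf 4146255042177)))))) (.node (.node (.node (.node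 (.node (.node (.leaf 200252898049) (.leaf 4304095127699)) (.leaf 2916820360348)) (.node (.leaf 816043938078) (.leaf 3064459805450))) (.node (.node (.leaf 1329829562389) (.leaf 3324842350745)) (.node (.leaf 2430952069147) (.leaf 3733401252356)))) (.node (.node (.node (.leaf 564251463171) (.leaf 3131568776337)) (.node (.leaf 551903639169) (.leaf 3686155863171))) (.node (.node (.leaf 246423790107) (.leaf 3559991866269)) (.node (.leaf 2669322810896) (.leaf 3732864429185))))) (.node (.node (.node (.node (.node (.leaf 130996608150) (.leaf 4402879399560)) (.leaf 3038153215385)) (.node (.leaf 17180055070) (.leaf 2507724641674))) (.node (.node (.leaf 20938399887) (.leaf 3451543916188)) (.node (.leaf 2571075410575) (.leaf 4017405992348)))) (.node (.node (.node (.leaf 939524320141) (.leaf 3225521208345)) (.node (.leaf 2329483442577) (.leaf 3779035252758))) (.node (.node (.leaf 1232656087303) (.leaf 642098274334)) (.node (.leaf 2782602600349) (.leaf 4201015888133))))))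
def dF_837 : BT := .node (.node (.node (.node (.node (.node (.node (.leaf 44023425297) (.leaf 4257924218254)) (.leaf 2850248351387)) (.node (.leaf 195957986946) (.leaf 2849710954499))) (.node (.node (.leaf 1170378867229) (.leaf 2743947985410)) (.node (.leaf 2026688257793) (.leaf 3852049712129)))) (.node (.node (.node (.node (.leaf 436476133895) (.leaf 4439386630292)) (.leaf 3075734160263)) (.node (.leaf 1257888846734) (.leaf 3635153811855))) (.node (.node (.leaf 2018098240266) (.leaf 3517579054213)) (.node (.leaf 2625836256669) (.leaf 4054450094212))))) (.node (.node (.node (.node (.node (.leaf 372588449045) (.leaf 4373888362890)) (.leaf 2985002982419)) (.node (.leaf 461709018501) (.leaf 2738579129739))) (.node (.node (.leaf 474594274712) (.leaf 3003256690819)) (.node (.leaf 2511482725148) (.leaf 3886946348702)))) (.node (.node (.node (.leaf 763430617735) (.leaf 3183108396178)) (.node (.leaf 1847910146582) (.leaf 3740380412939))) (.node (.node (.leaf 2242510263301) (.leaf 2784750217374)) (.node (.leaf 2735357948815) (.leaf 4154844978585)))))) (.node (.node (.node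 (.node (.node (.node (.leaf 233002012165) (.leaf 4324496227229)) (.leaf 2909841036815)) (.node (.leaf 522912369438) (.leaf 2484102317568))) (.node (.node (.leaf 1362578699661) (.leaf 3059628118658)) (.node (.leaf 2425046487696) (.leaf 3904663073935)))) (.node (.node (.node (.leaf 606664275333) (.leaf 3139084970909)) (.node (.leaf 1381906043287) (.leaf 3693672735622))) (.node (.node (.leaf 380104696222) (.leaf 3564823705605)) (.node (.leaf 2681670837268) (.leaf 4110284682269))))) (.node (.node (.node (.node (.node (.leaf 472446515229) (.leaf 4408784980119)) (.leaf 3026878923534)) (.node (.leaf 46170903572) (.leaf 3129421273118))) (.node (.node (.leaf 476741807498) (.leaf 2793877051143)) (.node (.leaf 2558190463380) (.leaf 4010963539856)))) (.node (.node (.node (.leaf 973347195536) (.leaf 3236258629149)) (.node (.leaf 2333241539973) (.leaf 3789772425610))) (.node (.node (.leaf 1986959404941) (.leaf 3136400531742)) (.node (.leaf 2793876892186) (.leaf 4203163372184))))))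
def dF_845 : BT := .node (.node (.node (.node (.node (.node (.node (.leaf 536871056) (.leaf 4248260539534)) (.leaf 2834142220175)) (.node (.leaf 123480465566) (.leaf 2466922414101))) (.node (.node (.leaf 1146219670419) (.leaf 3265249483668)) (.node (.leaf 2366527544582) (.leaf 3837553950605)))) (.node (.node (.node (.node (.leaf 128849123970) (.leaf 3609384199945)) (.leaf 3080029156496)) (.node (.leaf 698469223054) (.leaf 3631932469378))) (.node (.node (.leaf 230854972310) (.leaf 3511136601732)) (.node (.leaf 2414309116053) (.leaf 4050691996940))))) (.node (.node (.node (.node (.node (.leaf 345208025987) (.leaf 4370667136769)) (.leaf 2419141037315)) (.node (.leaf 563714555140) (.leaf 3209415037086))) (.node (.node (.leaf 1602023183493) (.leaf 3396246199065)) (.node (.leaf 2492692238739) (.leaf 3955128671241)))) (.node (.node (.node (.leaf 759672521349) (.leaf 3178813427969)) (.node (.leaf 1899449740043) (.leaf 3738769873028))) (.node (.node (.leaf 2177011758618) (.leaf 2612951464330)) (.node (.leaf 2736431690907) (.leaf 4148939397146)))))) (.node (.node (.node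 (.node (.node (.node (.leaf 213137777557) (.leaf 4131222696350)) (.leaf 2919504715539)) (.node (.leaf 29527956254) (.leaf 2705829998209))) (.node (.node (.leaf 1333587654682) (.leaf 3315178672016)) (.node (.leaf 2428267713944) (.leaf 3900904680841)))) (.node (.node (.node (.leaf 217969727892) (.leaf 2705830012418)) (.node (.leaf 1436130049822) (.leaf 3686693248010))) (.node (.node (.leaf 2174864168074) (.leaf 3561602479389)) (.node (.leaf 2681133973892) (.leaf 2882997775883))))) (.node (.node (.node (.node (.node (.leaf 147639610006) (.leaf 4406637496339)) (.leaf 3033321376018)) (.node (.leaf 1212791537428) (.leaf 2938832222981))) (.node (.node (.leaf 1829119633297) (.leaf 3351149055383)) (.node (.leaf 2564632958095) (.leaf 4014184766104)))) (.node (.node (.node (.leaf 961536032772) (.leaf 2952790784899)) (.node (.leaf 2331093967489) (.leaf 2408940686622))) (.node (.node (.leaf 726386626176) (.leaf 2980707940638)) (.node (.leaf 2780455102613) (.leaf 4199942145938))))))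
def dF_852 : BT := .node (.node (.node (.node (.node (.node (.node (.leaf 33822875538) (.leaf 4014721695876)) (.leaf 2854543319708)) (.node (.leaf 1788854108949) (.leaf 2887829404693))) (.node (.node (.leaf 1177358190737) (.leaf 3280282054419)) (.node (.leaf 2371896254737) (.leaf 2903935683213)))) (.node (.node (.node (.node (.leaf 501437529622) (.leaf 4443144727054)) (.leaf 3088619093146)) (.node (.leaf 160524440974) (.leaf 3636764424987))) (.node (.node (.leaf 2025614432279) (.leaf 2341831743902)) (.node (.leaf 2622615030425) (.leaf 4053376352028))))) (.node (.node (.node (.node (.node (.leaf 377957212293) (.leaf 4374962104979)) (.leaf 2991982306049)) (.node (.leaf 19327407134) (.leaf 2597918927892))) (.node (.node (.leaf 1564979098891) (.leaf 3404299264655)) (.node (.leaf 2501819046424) (.leaf 3963182017305)))) (.node (.node (.node (.leaf 767188716292) (.leaf 3177739516062)) (.node (.leaf 1825361266567) (.leaf 3743064890907))) (.node (.node (.leaf 392989516429) (.leaf 2785287005086)) (.node (.leaf 2494839779462) (.leaf 4164508657409)))))) (.node (.node (.node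 (.node (.node (.node (.leaf 221190818831) (.leaf 4321274990465)) (.leaf 2923799683857)) (.node (.leaf 155692814602) (.leaf 2813204355587))) (.node (.node (.leaf 1373315836056) (.leaf 697932981389)) (.node (.leaf 2415919680139) (.leaf 3629785167366)))) (.node (.node (.node (.leaf 616864824978) (.leaf 2978023698311)) (.node (.leaf 1267015710093) (.leaf 3697430437389))) (.node (.node (.leaf 889595358232) (.leaf 3575024255501)) (.node (.leaf 2443300159639) (.leaf 4107063456025))))) (.node (.node (.node (.node (.node (.leaf 437549907096) (.leaf 4410932464665)) (.leaf 3033858200982)) (.node (.leaf 1513976355468) (.leaf 2855617137036))) (.node (.node (.leaf 1839320183057) (.leaf 3359738992020)) (.node (.leaf 2574296636827) (.leaf 2870112852872)))) (.node (.node (.node (.leaf 989453312133) (.leaf 3233574273936)) (.node (.leaf 2335389024018) (.leaf 3798362608026))) (.node (.node (.leaf 678067967500) (.leaf 2823404824862)) (.node (.leaf 2786897568656) (.leaf 4203700207501))))))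
def dF_861 : BT := .node (.node (.node (.node (.node (.node (.node (.leaf 9126807698) (.leaf 4249334281728)) (.leaf 2835752833296)) (.node (.leaf 73551330971) (.leaf 3291556343070))) (.node (.node (.leaf 1150514638852) (.leaf 2507724809494)) (.node (.leaf 2365990673416) (.leaf 3805341942166)))) (.node (.node (.node (.node (.leaf 127775360258) (.leaf 4438849757062)) (.leaf 3080029156509)) (.node (.leaf 642634634894) (.leaf 2791192737795))) (.node (.node (.leaf 2000918366209) (.leaf 3333969199383)) (.node (.leaf 2618320012309) (.leaf 4033512124692))))) (.node (.node (.node (.node (.node (.leaf 130996586516) (.leaf 4366372105741)) (.leaf 1120987171203)) (.node (.leaf 335007747977) (.leaf 2514704075158))) (.node (.node (.leaf 1587527665421) (.leaf 3396246199180)) (.node (.leaf 2494839722907) (.leaf 3954055206276)))) (.node (.node (.node (.leaf 756451282432) (.leaf 2951717030423)) (.node (.leaf 46170977543) (.leaf 3735011823872))) (.node (.node (.leaf 2241972936090) (.leaf 2711735569280)) (.node (.leaf 2734821077893) (.leaf 4149476268289)))))) (.node (.node (.node (.node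 (.node (.node (.leaf 141197097992) (.leaf 4319664387968)) (.leaf 2911988520987)) (.node (.leaf 346282281484) (.leaf 2406792957185))) (.node (.node (.leaf 1341640729093) (.leaf 3321621124498)) (.node (.leaf 2429878327067) (.leaf 3898757492509)))) (.node (.node (.node (.leaf 170188215572) (.leaf 3126199921694)) (.node (.leaf 527207499522) (.leaf 2934537285251))) (.node (.node (.leaf 143345014680) (.leaf 3556233770134)) (.node (.leaf 2435783965076) (.leaf 3730180074880))))) (.node (.node (.node (.node (.node (.leaf 458487868293) (.leaf 4405563754257)) (.leaf 3038153104390)) (.node (.leaf 1071057992468) (.leaf 2701535012616))) (.node (.node (.leaf 1774358799490) (.leaf 3452080787216)) (.node (.leaf 2568391055376) (.leaf 4015795379227)))) (.node (.node (.node (.leaf 955630451328) (.leaf 2461017029251)) (.node (.leaf 2326799088261) (.leaf 3789772671501))) (.node (.node (.leaf 944892984472) (.leaf 2965138846212)) (.node (.leaf 2782602600338) (.leaf 4199942145946))))))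
def dF_868 : BT := .node (.node (.node (.node (.node (.node (.node (.leaf 37044101777) (.leaf 4253092378898)) (.leaf 2848637738254)) (.node (.leaf 28454214174) (.leaf 3023657701790))) (.node (.node (.leaf 1177358190860) (.leaf 3280818925459)) (.node (.leaf 2370285641627) (.leaf 3850439098907)))) (.node (.node (.node (.node (.leaf 435402391830) (.leaf 4442607856015)) (.leaf 3093450932505)) (.node (.leaf 2021856336655) (.leaf 2397666359560))) (.node (.node (.leaf 389231893898) (.leaf 3492345985932)) (.node (.leaf 2624225643546) (.leaf 4056597578268))))) (.node (.node (.node (.node (.node (.leaf 365609178498) (.leaf 4374425233939)) (.leaf 2819646741271)) (.node (.leaf 1580011210142) (.leaf 2839510930709))) (.node (.node (.leaf 1633698574737) (.leaf 3341485364502)) (.node (.leaf 2506650885787) (.leaf 3964255759389)))) (.node (.node (.node (.leaf 764504361224) (.leaf 3128884433558)) (.node (.leaf 1903207823383) (.leaf 3741454277787))) (.node (.node (.leaf 2245731235610) (.leaf 2914136008070)) (.node (.leaf 2645163634590) (.leaf 4155381849615)))))) (.node (.node (.node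 (.node (.node (.node (.leaf 221727739537) (.leaf 3926138011038)) (.leaf 2923799683869)) (.node (.leaf 113279834782) (.leaf 2678449585566))) (.node (.node (.leaf 1363652441628) (.leaf 3330747725442)) (.node (.leaf 2423435874575) (.leaf 3905736508425)))) (.node (.node (.node (.leaf 612569832219) (.leaf 3133716260507)) (.node (.leaf 1381369214485) (.leaf 3693135884681))) (.node (.node (.leaf 881542274718) (.leaf 3565360576658)) (.node (.leaf 2676302134415) (.leaf 4108674069146))))) (.node (.node (.node (.node (.node (.leaf 467077804818) (.leaf 4409321851547)) (.leaf 2707440690050)) (.node (.leaf 30064854167) (.leaf 2470143690119))) (.node (.node (.leaf 1775432543895) (.leaf 3459059951747)) (.node (.leaf 2578591605249) (.leaf 4009352926735)))) (.node (.node (.node (.leaf 977642152475) (.leaf 3234111144985)) (.node (.leaf 2326799089281) (.leaf 3037616525959))) (.node (.node (.leaf 2121714118659) (.leaf 2672543820807)) (.node (.leaf 2793876892177) (.leaf 4205310856328))))))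
def dF_876 : BT := .node (.node (.node (.node (.node (.node (.node (.leaf 16643002256) (.leaf 4262219106821)) (.leaf 2831994678534)) (.node (.leaf 1859183971358) (.leaf 2577517915038))) (.node (.node (.leaf 1155346478213) (.leaf 2565169984006)) (.node (.leaf 48855817737) (.leaf 2492155687815)))) (.node (.node (.node (.node (.leaf 403727043334) (.leaf 4439386630147)) (.leaf 2469606929026)) (.node (.leaf 1314797176974) (.leaf 3630321688070))) (.node (.node (.leaf 2018098231808) (.leaf 3512747214745)) (.node (.leaf 2636036806528) (.leaf 2915746888203))))) (.node (.node (.node (.node (.node (.leaf 142807749382) (.leaf 4121022162846)) (.leaf 2982318627228)) (.node (.leaf 19864626718) (.leaf 2889976861829))) (.node (.node (.leaf 1504849552026) (.leaf 3349001559061)) (.node (.leaf 2500745304453) (.leaf 3962108275329)))) (.node (.node (.node (.leaf 762356859523) (.leaf 3183645267226)) (.node (.leaf 1839857083530) (.leaf 3710852635393))) (.node (.node (.leaf 2243584019102) (.leaf 2641942405150)) (.node (.leaf 2736968561936) (.leaf 4151086784916)))))) (.node (.node (.node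 (.node (.node (.node (.leaf 216895885453) (.leaf 4323959356293)) (.leaf 2914672876176)) (.node (.leaf 237296950686) (.leaf 3021510349836))) (.node (.node (.leaf 1348083181572) (.leaf 2692408415875)) (.node (.leaf 2426657100819) (.leaf 2896419501057)))) (.node (.node (.node (.leaf 590558144140) (.leaf 3139084971009)) (.node (.leaf 1104343721620) (.leaf 3693135884830))) (.node (.node (.leaf 463856914692) (.leaf 2887829485185)) (.node (.leaf 2681133973786) (.leaf 4117800876932))))) (.node (.node (.node (.node (.node (.leaf 470835902208) (.leaf 4407711238538)) (.leaf 3030100149776)) (.node (.leaf 1512902614046) (.leaf 2867965118090))) (.node (.node (.leaf 1832340859549) (.leaf 3361886476180)) (.node (.leaf 2383170588822) (.leaf 4012574152979)))) (.node (.node (.node (.leaf 974957808659) (.leaf 2699387702146)) (.node (.leaf 700080225415) (.leaf 2763275489158))) (.node (.node (.leaf 48318528783) (.leaf 2494302895518)) (.node (.leaf 2790655666053) (.leaf 4198331534861))))))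
def dF_883 : BT := .node (.node (.node (.node (.node (.node (.node (.leaf 95563043975) (.leaf 4265440412816)) (.leaf 2856690803856)) (.node (.leaf 2014339809438) (.leaf 2830384127488))) (.node (.node (.leaf 1187021698817) (.leaf 3279208130839)) (.node (.leaf 2372433125775) (.leaf 3859565906440)))) (.node (.node (.node (.node (.leaf 408558861447) (.leaf 4444218469147)) (.leaf 3082713511705)) (.node (.leaf 1955284327694) (.leaf 3374234549386))) (.node (.node (.leaf 1959579312521) (.leaf 3023120793758)) (.node (.leaf 2629057482898) (.leaf 4052839480976))))) (.node (.node (.node (.node (.node (.leaf 389768375057) (.leaf 4376035727239)) (.leaf 2828773509771)) (.node (.leaf 1691680372382) (.leaf 2884608203522))) (.node (.node (.leaf 1569810937989) (.leaf 3150359323142)) (.node (.leaf 2509335240976) (.leaf 3966403228055)))) (.node (.node (.node (.leaf 770409811212) (.leaf 2317135615500)) (.node (.leaf 640487403287) (.leaf 3744675504129))) (.node (.node (.leaf 216896175128) (.leaf 3105262172420)) (.node (.leaf 2749316595969) (.leaf 4168266754589)))))) (.node (.node (.node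 (.node (.node (.node (.leaf 239981355405) (.leaf 4284767781511)) (.leaf 2820183586055)) (.node (.leaf 408558799244) (.leaf 2539400230412))) (.node (.node (.leaf 1377610764544) (.leaf 3337727249926)) (.node (.leaf 2431488940188) (.leaf 3906810558104)))) (.node (.node (.node (.leaf 621696664336) (.leaf 3138548099857)) (.node (.leaf 1268626337172) (.leaf 3698504594577))) (.node (.node (.leaf 942745560990) (.leaf 2698314055838)) (.node (.leaf 2494302895253) (.leaf 4105452842898))))) (.node (.node (.node (.node (.node (.leaf 471372762520) (.leaf 4413079948419)) (.leaf 2830921040133)) (.node (.leaf 711354247710) (.leaf 2763812147970))) (.node (.node (.leaf 1840930796188) (.leaf 3473555628817)) (.node (.leaf 2576444120976) (.leaf 4010963219851)))) (.node (.node (.node (.leaf 380104843145) (.leaf 3231426620950)) (.node (.leaf 827855503362) (.leaf 3613142143875))) (.node (.node (.leaf 2119029967257) (.leaf 2550137413509)) (.node (.leaf 2439542088706) (.leaf 4211753308933))))))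
def dF_894 : BT := .node (.node (.node (.node (.node (.node (.node (.leaf 69256370316) (.leaf 4247723668506)) (.leaf 2841658414739)) (.node (.leaf 409632596737) (.leaf 2521683275012))) (.node (.node (.leaf 1134408327951) (.leaf 3273302520967)) (.node (.leaf 2348273932928) (.leaf 3461207683972)))) (.node (.node (.node (.node (.leaf 132607221251) (.leaf 4432407307540)) (.leaf 3040300706580)) (.node (.leaf 1842004538264) (.leaf 3626027004186))) (.node (.node (.leaf 1968706103682) (.leaf 3507915375379)) (.node (.leaf 2582886581013) (.leaf 4042102057749))))) (.node (.node (.node (.node (.node (.leaf 355945499537) (.leaf 4365298278412)) (.leaf 2812130546708)) (.node (.leaf 6442468510) (.leaf 3215320476830))) (.node (.node (.leaf 1577863983371) (.leaf 3382287503874)) (.node (.leaf 2495376594052) (.leaf 3953518316165)))) (.node (.node (.node (.leaf 752693198212) (.leaf 3175055318167)) (.node (.leaf 635655565445) (.leaf 2357401064205))) (.node (.node (.leaf 30602178328) (.leaf 3339874096647)) (.node (.leaf 2726768012175) (.leaf 2330557617310)))))) (.node (.node (.node (.node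 (.node (.node (.leaf 195957929728) (.leaf 4305168869655)) (.leaf 2921115328668)) (.node (.leaf 15569260175) (.leaf 2380486406925))) (.node (.node (.leaf 225486099720) (.leaf 3317863027226)) (.node (.leaf 2430952064773) (.leaf 3903589143688)))) (.node (.node (.node (.leaf 141197183749) (.leaf 3130495034264)) (.node (.leaf 551366768030) (.leaf 3685619689605))) (.node (.node (.leaf 860604164612) (.leaf 3559991866257)) (.node (.leaf 2668785939859) (.leaf 4102231616654))))) (.node (.node (.node (.node (.node (.leaf 447213501975) (.leaf 2487860856449)) (.leaf 3026878923546)) (.node (.leaf 1071594863511) (.leaf 3314641772555))) (.node (.node (.leaf 229244313370) (.leaf 3455302013467)) (.node (.leaf 2571612281615) (.leaf 4019016605455)))) (.node (.node (.node (.leaf 925565676053) (.leaf 3226058079386)) (.node (.leaf 2328946571547) (.leaf 3638911944711))) (.node (.node (.leaf 1241782598424) (.leaf 2423972916356)) (.node (.leaf 2785823826585) (.leaf 4183836002837))))))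
def dF_901 : BT := .node (.node (.node (.node (.node (.node (.node (.leaf 93952432017) (.leaf 2372970446988)) (.leaf 2850785222428)) (.node (.leaf 909996341406) (.leaf 2337536654622))) (.node (.node (.leaf 1168231383172) (.leaf 3112241456387)) (.node (.leaf 2032056966807) (.leaf 3840238549148)))) (.node (.node (.node (.node (.leaf 404263914391) (.leaf 4440997238029)) (.leaf 2852932759702)) (.node (.leaf 1276679333135) (.leaf 2478196996237))) (.node (.node (.leaf 2019708852631) (.leaf 3511136601614)) (.node (.leaf 2630131224989) (.leaf 4042638933399))))) (.node (.node (.node (.node (.node (.leaf 371514759708) (.leaf 4367445910427)) (.leaf 2981244885144)) (.node (.leaf 16643002267) (.leaf 2575370549254))) (.node (.node (.leaf 1627792990349) (.leaf 3346317203861)) (.node (.leaf 2513093338255) (.leaf 3872987705367)))) (.node (.node (.node (.leaf 762893747857) (.leaf 3183645267215)) (.node (.leaf 645856191618) (.leaf 2964602067976))) (.node (.node (.leaf 403727014668) (.leaf 2490544843520)) (.node (.leaf 2732136722577) (.leaf 4153771236620)))))) (.node (.node (.node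 (.node (.node (.node (.leaf 228707063173) (.leaf 4327717453465)) (.leaf 2914136005135)) (.node (.leaf 158913827867) (.leaf 2823404983552))) (.node (.node (.leaf 1356136247692) (.leaf 2741263667459)) (.node (.leaf 2429341456016) (.leaf 2615636014214)))) (.node (.node (.node (.leaf 602369307012) (.leaf 3143379939229)) (.node (.leaf 1430224241046) (.leaf 3693672755224))) (.node (.node (.leaf 1018444348190) (.leaf 3564286834579)) (.node (.leaf 2675765263384) (.leaf 4114579650589))))) (.node (.node (.node (.node (.node (.leaf 476741483549) (.leaf 4408784980497)) (.leaf 3031173891854)) (.node (.leaf 46171334917) (.leaf 2617246479646))) (.node (.node (.leaf 1834488343709) (.leaf 3458523239704)) (.node (.leaf 2391223654421) (.leaf 4015258508176)))) (.node (.node (.node (.leaf 959925419539) (.leaf 3236258625549)) (.node (.leaf 2333241180547) (.leaf 3789772425601))) (.node (.node (.leaf 423054426497) (.leaf 2925410448907)) (.node (.leaf 2790118794909) (.leaf 4203700243227))))))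
def dF_909 : BT := .node (.node (.node (.node (.node (.node (.node (.leaf 7516194576) (.leaf 4248260505730)) (.leaf 2838437188495)) (.node (.leaf 23085458846) (.leaf 2405182258951))) (.node (.node (.leaf 1150514638739) (.leaf 2504503583254)) (.node (.leaf 2367064116354) (.leaf 2675765540254)))) (.node (.node (.node (.node (.leaf 348966197638) (.leaf 4439386629785)) (.leaf 3076807930265)) (.node (.leaf 1570884663055) (.leaf 3630321972507))) (.node (.node (.leaf 2010045173888) (.leaf 3510599568261)) (.node (.leaf 2619930675211) (.leaf 4034048931974))))) (.node (.node (.node (.node (.node (.leaf 23622325766) (.leaf 2575370805769)) (.leaf 2813204288791)) (.node (.leaf 635655354240) (.leaf 2506651074565))) (.node (.node (.leaf 1554778542348) (.leaf 3396783070106)) (.node (.leaf 2496987207059) (.leaf 3955128951699)))) (.node (.node (.node (.leaf 758598779549) (.leaf 2954938256663)) (.node (.leaf 44560296196) (.leaf 3400541247880))) (.node (.node (.leaf 2109366061594) (.leaf 3136400477313)) (.node (.leaf 2732673593628) (.leaf 4149476268189)))))) (.node (.node (.node (.node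 (.node (.node (.leaf 202937253126) (.leaf 2330020787614)) (.leaf 2911451649944)) (.node (.leaf 131533383936) (.leaf 2406256086145))) (.node (.node (.leaf 1343251242905) (.leaf 3319473640336)) (.node (.leaf 2416993422107) (.leaf 3901441847697)))) (.node (.node (.node (.leaf 217969727746) (.leaf 2960306942466)) (.node (.leaf 1551020193421) (.leaf 3686693431698))) (.node (.node (.leaf 24696580356) (.leaf 3561602479377)) (.node (.leaf 2676839005572) (.leaf 4102768463255))))) (.node (.node (.node (.node (.node (.leaf 455803512978) (.leaf 4406100625307)) (.leaf 3037616344338)) (.node (.leaf 44023604126) (.leaf 3568044771981))) (.node (.node (.leaf 1828582761473) (.leaf 3451543904023)) (.node (.leaf 2568927926415) (.leaf 4018479734424)))) (.node (.node (.node (.leaf 957777918873) (.leaf 2937221527683)) (.node (.leaf 2331094055699) (.leaf 3550865117463))) (.node (.node (.leaf 201326765854) (.leaf 1903208068382)) (.node (.leaf 2780991930391) (.leaf 4199942073734))))))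
def dF_916 : BT := .node (.node (.node (.node (.node (.node (.node (.leaf 40265328018) (.leaf 4255239863067)) (.leaf 2858301416987)) (.node (.leaf 184683625364) (.leaf 2577517733268))) (.node (.node (.leaf 1176284448659) (.leaf 3279208312344)) (.node (.leaf 2370285641993) (.leaf 3855807809413)))) (.node (.node (.node (.node (.leaf 51002856469) (.leaf 4443681598097)) (.leaf 3092914061466)) (.node (.leaf 517543682574) (.leaf 3636764424975))) (.node (.node (.leaf 2025614433948) (.leaf 3176128933662)) (.node (.leaf 2626909998745) (.leaf 4053913223055))))) (.node (.node (.node (.node (.node (.leaf 375272856961) (.leaf 4374962062989)) (.leaf 2987687337729)) (.node (.leaf 383326158878) (.leaf 2388002506246))) (.node (.node (.leaf 1636919800705) (.leaf 3401078038528)) (.node (.leaf 2506114014744) (.leaf 3958887048985)))) (.node (.node (.node (.leaf 766651845137) (.leaf 3127273820437)) (.node (.leaf 642634921219) (.leaf 3743064889741))) (.node (.node (.leaf 147102976793) (.leaf 3085934595991)) (.node (.leaf 2729452324118) (.leaf 4160213689089)))))) (.node (.node (.node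 (.node (.node (.node (.leaf 225485787151) (.leaf 4323959278092)) (.leaf 2923799683859)) (.node (.leaf 2198486619806) (.leaf 3142843062539))) (.node (.node (.leaf 225486110358) (.leaf 3333969158533)) (.node (.leaf 2415382672519) (.leaf 3897683712005)))) (.node (.node (.node (.leaf 617401696029) (.leaf 3132642518425)) (.node (.leaf 1445793680276) (.leaf 3696893981457))) (.node (.node (.leaf 996969506206) (.leaf 3570729287181)) (.node (.leaf 2441152675479) (.leaf 4111358424345))))) (.node (.node (.node (.node (.node (.leaf 467077804816) (.leaf 2746095766538)) (.leaf 3034395006982)) (.node (.leaf 1210644200222) (.leaf 3335042900484))) (.node (.node (.leaf 1838783312017) (.leaf 3456375731861)) (.node (.leaf 2578591605147) (.leaf 2336463166349)))) (.node (.node (.node (.leaf 987842510105) (.leaf 3230889918739)) (.node (.leaf 1842541526935) (.leaf 3798362407681))) (.node (.node (.leaf 120796116126) (.leaf 2640331699202)) (.node (.leaf 2791192536976) (.leaf 4203700196737))))))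
def dF_925 : BT := .node (.node (.node (.node (.node (.node (.node (.leaf 13421776018) (.leaf 4243965571225)) (.leaf 2840047801616)) (.node (.leaf 2174864584734) (.leaf 2703145643013))) (.node (.node (.leaf 1146219670532) (.leaf 3270618194068)) (.node (.leaf 2365990671489) (.leaf 3633006379394)))) (.node (.node (.node (.node (.leaf 347892455555) (.leaf 4438312886669)) (.leaf 3051574998420)) (.node (.leaf 642097763854) (.leaf 3632469456769))) (.node (.node (.leaf 1996623397888) (.leaf 3481608700181)) (.node (.leaf 2406792922132) (.leaf 4038343944196))))) (.node (.node (.node (.node (.node (.leaf 133144070676) (.leaf 4366372168478)) (.leaf 2965675585929)) (.node (.leaf 9663678745) (.leaf 3033321329822))) (.node (.node (.leaf 1583232697100) (.leaf 3391951230861)) (.node (.leaf 2499134691227) (.leaf 3954055209619)))) (.node (.node (.node (.leaf 11274469275) (.leaf 3120831367957)) (.node (.leaf 44023425156) (.leaf 3733938081929))) (.node (.node (.leaf 867046853636) (.leaf 2750390495626)) (.node (.leaf 2730526109571) (.leaf 4137128120200)))))) (.node (.node (.node (.node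 (.node (.node (.leaf 195957909147) (.leaf 4315369419648)) (.leaf 2916283489307)) (.node (.leaf 331249835658) (.leaf 3231426683400))) (.node (.node (.leaf 1337345760773) (.leaf 3325379221777)) (.node (.leaf 2418604035228) (.leaf 3901978718745)))) (.node (.node (.node (.leaf 566935818268) (.leaf 3130494994196)) (.node (.leaf 547071723277) (.leaf 3690988400129))) (.node (.node (.leaf 858993954822) (.leaf 3556770641025)) (.node (.leaf 2638184298133) (.leaf 2484102687499))))) (.node (.node (.node (.node (.node (.leaf 454192899981) (.leaf 4404490012187)) (.leaf 3025268310425)) (.node (.leaf 1897839060894) (.leaf 3470871273609))) (.node (.node (.leaf 1824824664979) (.leaf 3453691400339)) (.node (.leaf 2559264247699) (.leaf 4004521087388)))) (.node (.node (.node (.leaf 951335483008) (.leaf 3224984337294)) (.node (.leaf 2330020197515) (.leaf 3788698929304))) (.node (.node (.leaf 143881583643) (.leaf 2361159087622)) (.node (.leaf 2784750027668) (.leaf 4200479016989))))))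
def dF_932 : BT := .node (.node (.node (.node (.node (.node (.node (.leaf 32749133456) (.leaf 4253092249862)) (.leaf 2849174609297)) (.node (.leaf 316754040985) (.leaf 1122597720350))) (.node (.node (.leaf 1173063222533) (.leaf 3279745183489)) (.node (.leaf 2370285641615) (.leaf 3850439094150)))) (.node (.node (.node (.node (.leaf 494458206595) (.leaf 4440460372226)) (.leaf 3093450345229)) (.node (.leaf 693100512655) (.leaf 2552822052994))) (.node (.node (.leaf 1960653053194) (.leaf 2606509032333)) (.node (.leaf 2628520611866) (.leaf 4059818804504))))) (.node (.node (.node (.node (.node (.leaf 369367222805) (.leaf 3885872704006)) (.leaf 2982855498255)) (.node (.leaf 28991117076) (.leaf 3302293670679))) (.node (.node (.leaf 1633161687556) (.leaf 3341485364501)) (.node (.leaf 2510945854107) (.leaf 3959960791069)))) (.node (.node (.node (.leaf 764504360978) (.leaf 3179887169934)) (.node (.leaf 2033130581512) (.leaf 3741454277775))) (.node (.node (.leaf 813896335515) (.leaf 2556043006102)) (.node (.leaf 2370285727501) (.leaf 4154308016513)))))) (.node (.node (.node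 (.node (.node (.node (.leaf 226022707857) (.leaf 4324496227225)) (.leaf 2928094652189)) (.node (.leaf 737660659230) (.leaf 3006477732108))) (.node (.node (.leaf 1352914904078) (.leaf 3331284791047)) (.node (.leaf 2427730842895) (.leaf 2421288744330)))) (.node (.node (.node (.leaf 606664275228) (.leaf 3138011228827)) (.node (.leaf 1323387129226) (.leaf 3692598994070))) (.node (.node (.leaf 993211399326) (.leaf 3565897447697)) (.node (.leaf 2676302077846) (.leaf 4112969037466))))) (.node (.node (.node (.node (.node (.leaf 471372773138) (.leaf 4409321851535)) (.leaf 2708514325382)) (.node (.leaf 348429309837) (.leaf 2524367883020))) (.node (.node (.leaf 1837172698899) (.leaf 3457986368654)) (.node (.leaf 2574296636929) (.leaf 4013647895055)))) (.node (.node (.node (.leaf 958314806416) (.leaf 3230889918747)) (.node (.leaf 2334315280002) (.leaf 3789235764372))) (.node (.node (.leaf 620086151949) (.leaf 2926484080030)) (.node (.leaf 2789045052825) (.leaf 4205847715083))))))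
def dF_940 : BT := .node (.node (.node (.node (.node (.node (.node (.leaf 20937970576) (.leaf 4257924218373)) (.leaf 2381023169671)) (.node (.leaf 90731247390) (.leaf 2465848856833))) (.node (.node (.leaf 1152662112921) (.leaf 3267397059207)) (.node (.leaf 2368138157467) (.leaf 3834869749508)))) (.node (.node (.node (.node (.leaf 492310722454) (.leaf 4440460371733)) (.leaf 3078955361300)) (.node (.leaf 1380832314895) (.leaf 3633006327698))) (.node (.node (.leaf 2016487626243) (.leaf 3513284085786)) (.node (.leaf 2631741838208) (.leaf 4048007641618))))) (.node (.node (.node (.node (.node (.leaf 362387952028) (.leaf 4031901590686)) (.leaf 2986613595548)) (.node (.leaf 853625121310) (.leaf 2838437253790))) (.node (.node (.leaf 1614908088452) (.leaf 3397319941134)) (.node (.leaf 2494839722895) (.leaf 3957813307009)))) (.node (.node (.node (.leaf 377957303563) (.leaf 3182034654109)) (.node (.leaf 828392221323) (.leaf 3738233051796))) (.node (.node (.leaf 912680555661) (.leaf 3597035971341)) (.node (.leaf 2731599851544) (.leaf 4151086802056)))))) (.node (.node (.node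 (.node (.node (.node (.leaf 121332877594) (.leaf 4320737688329)) (.leaf 2918967844496)) (.node (.leaf 591632052638) (.leaf 2928094692992))) (.node (.node (.leaf 841813899288) (.leaf 3324842235907)) (.node (.leaf 2415382808984) (.leaf 3898757492499)))) (.node (.node (.node (.leaf 586263175821) (.leaf 3134790002689)) (.node (.leaf 1174136815383) (.leaf 3694209626372))) (.node (.node (.leaf 122943470875) (.leaf 2572686259713)) (.node (.leaf 2677912747548) (.leaf 4113505908612))))) (.node (.node (.node (.node (.node (.leaf 466540933888) (.leaf 4407711238419)) (.leaf 3034395118096)) (.node (.leaf 372051553300) (.leaf 3481071728392))) (.node (.node (.leaf 1831803988497) (.leaf 3461207592077)) (.node (.leaf 2387465557142) (.leaf 4016869121299)))) (.node (.node (.node (.leaf 974420937733) (.leaf 3122441916039)) (.node (.leaf 1843615267863) (.leaf 3796751748359))) (.node (.node (.leaf 500363836175) (.leaf 1956358380045)) (.node (.leaf 2786360697741) (.leaf 4203163372293))))))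
def dF_947 : BT := .node (.node (.node (.node (.node (.node (.node (.leaf 44023425173) (.leaf 4264366670852)) (.leaf 2856153932819)) (.node (.leaf 1780264061825) (.leaf 2604898344452))) (.node (.node (.leaf 1185411243653) (.leaf 3277060828175)) (.node (.leaf 2370285642122) (.leaf 3859028916363)))) (.node (.node (.node (.node (.leaf 498753174422) (.leaf 4444218469135)) (.leaf 3087008480025)) (.node (.leaf 1961189909134) (.leaf 3374234549376))) (.node (.node (.leaf 1954747474068) (.leaf 3510062824734)) (.node (.leaf 2633352451218) (.leaf 4059818803348))))) (.node (.node (.node (.node (.node (.leaf 24159284098) (.leaf 4376572718108)) (.leaf 2989297950746)) (.node (.leaf 43486950430) (.leaf 3041374301701))) (.node (.node (.leaf 1638530414593) (.leaf 3403762393624)) (.node (.leaf 2501282175379) (.leaf 3956202358026)))) (.node (.node (.node (.leaf 692026788997) (.leaf 3181497730581)) (.node (.leaf 1842541452164) (.leaf 3744138632979))) (.node (.node (.leaf 2089501814938) (.leaf 2822331037058)) (.node (.leaf 2745021627649) (.leaf 4171487980825)))))) (.node (.node (.node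 (.node (.node (.node (.leaf 237296999821) (.leaf 1694365631117)) (.leaf 2781528831746)) (.node (.leaf 49392204800) (.leaf 3143379841415))) (.node (.node (.leaf 17180197401) (.leaf 3336653513625)) (.node (.leaf 2435783908508) (.leaf 3870303336073)))) (.node (.node (.node (.leaf 617401696016) (.leaf 3142843068177)) (.node (.leaf 702764328085) (.leaf 1961190323330))) (.node (.node (.leaf 933618606729) (.leaf 2690797864094)) (.node (.leaf 2676302126868) (.leaf 4109747811218))))) (.node (.node (.node (.node (.node (.leaf 426275616665) (.leaf 4412006206747)) (.leaf 3024731155074)) (.node (.leaf 22011897630) (.leaf 2408403513365))) (.node (.node (.leaf 1840930796295) (.leaf 3470334402688)) (.node (.leaf 2575370378898) (.leaf 2336463165470)))) (.node (.node (.node (.leaf 991063940613) (.leaf 2525978412055)) (.node (.leaf 2336999637149) (.leaf 3799973221145))) (.node (.node (.leaf 2071785322650) (.leaf 2440078932994)) (.node (.leaf 2790655609111) (.leaf 4207458340613))))))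
def dF_957 : BT := .node (.node (.node (.node (.node (.node (.node (.leaf 22011712658) (.leaf 4243965457156)) (.leaf 2833068478099)) (.node (.leaf 156229476254) (.leaf 2467459299588))) (.node (.node (.leaf 1137629733892) (.leaf 2455648331655)) (.node (.leaf 2365453802265) (.leaf 3842922904452)))) (.node (.node (.node (.node (.leaf 130459715479) (.leaf 4418985534855)) (.leaf 3044058803863)) (.node (.leaf 1768453205774) (.leaf 3629784988677))) (.node (.node (.leaf 1988033461248) (.leaf 3506841633295)) (.node (.leaf 2522220167574) (.leaf 3892315073669))))) (.node (.node (.node (.node (.node (.leaf 347355562897) (.leaf 2537252970891)) (.leaf 2803540610068)) (.node (.leaf 418222540184) (.leaf 2683818353547))) (.node (.node (.leaf 1580548324245) (.leaf 3308736236823)) (.node (.leaf 2500208433309) (.leaf 3953518338585)))) (.node (.node (.node (.leaf 745713874579) (.leaf 3173444717456)) (.node (.leaf 627065660428) (.leaf 3730716857237))) (.node (.node (.leaf 1367947168641) (.leaf 3133716107660)) (.node (.leaf 2431489009671) (.leaf 4147328232461)))))) (.node (.node (.node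 (.node (.node (.node (.leaf 196494800658) (.leaf 4304631998738)) (.leaf 2912525392028)) (.node (.leaf 2277943368345) (.leaf 2759517193227))) (.node (.node (.leaf 1330903303959) (.leaf 3320547382425)) (.node (.leaf 2427193971868) (.leaf 3903052460824)))) (.node (.node (.node (.leaf 568546431488) (.leaf 3131031905296)) (.node (.leaf 533112950412) (.leaf 3686156560665))) (.node (.node (.leaf 2109365889817) (.leaf 3559454995216)) (.node (.leaf 2669859681935) (.leaf 4014721657997))))) (.node (.node (.node (.node (.node (.leaf 126701639830) (.leaf 4404490012165)) (.leaf 3033858247065)) (.node (.leaf 128312589470) (.leaf 2382096854280))) (.node (.node (.leaf 125091349273) (.leaf 3454765142424)) (.node (.leaf 2567854184339) (.leaf 4013111024028)))) (.node (.node (.node (.leaf 942745546368) (.leaf 3227131821458)) (.node (.leaf 1692754540931) (.leaf 3788161889931))) (.node (.node (.leaf 2161442615448) (.leaf 1276679635085)) (.node (.leaf 2782602600347) (.leaf 4029754067459))))))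
def dF_964 : BT := .node (.node (.node (.node (.node (.node (.node (.leaf 48855264657) (.leaf 4221953867142)) (.leaf 2849711480344)) (.node (.leaf 143344565123) (.leaf 2341831518211))) (.node (.node (.leaf 1169305104027) (.leaf 3162707265158)) (.node (.leaf 166430547724) (.leaf 3678103536770)))) (.node (.node (.node (.node (.leaf 478351988098) (.leaf 4442070786443)) (.leaf 3084860995981)) (.node (.leaf 1131187281295) (.leaf 3635153811723))) (.node (.node (.leaf 2022393207697) (.leaf 2888366346125)) (.node (.leaf 2621541288349) (.leaf 4058745062532))))) (.node (.node (.node (.node (.node (.leaf 369904146578) (.leaf 4007742400917)) (.leaf 2986076724497)) (.node (.leaf 853624781086) (.leaf 2389613049100))) (.node (.node (.leaf 1629940474631) (.leaf 2864207124227)) (.node (.leaf 2507187756828) (.leaf 3966403241101)))) (.node (.node (.node (.leaf 467077875593) (.leaf 3178813427858)) (.node (.leaf 1836099001605) (.leaf 3740917406749))) (.node (.node (.leaf 282394304027) (.leaf 3085397725204)) (.node (.leaf 2731062980495) (.leaf 4153234365464)))))) (.node (.node (.node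 (.node (.node (.node (.leaf 232465160339) (.leaf 4326643711387)) (.leaf 2923262812932)) (.node (.leaf 339302598921) (.leaf 2790118945537))) (.node (.node (.leaf 135291794334) (.leaf 3328600448128)) (.node (.leaf 2420751519376) (.leaf 3904663073947)))) (.node (.node (.node (.leaf 610959243653) (.leaf 3134790002589)) (.node (.leaf 1381369214486) (.leaf 3695283368336))) (.node (.node (.leaf 300110911621) (.leaf 3565360576773)) (.node (.leaf 2679523360658) (.leaf 4105989713949))))) (.node (.node (.node (.node (.node (.leaf 478351988119) (.leaf 4406637496963)) (.leaf 2844342816020)) (.node (.leaf 529355133086) (.leaf 3078418366733))) (.node (.node (.leaf 1835562085898) (.leaf 3460133852814)) (.node (.leaf 2381023062409) (.leaf 4006668571536)))) (.node (.node (.node (.leaf 966904743056) (.leaf 3231963660829)) (.node (.leaf 2328409701783) (.leaf 3789235800348))) (.node (.node (.leaf 151398086302) (.leaf 2550674353922)) (.node (.leaf 2789581923866) (.leaf 3922916756875))))))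
def dF_972 : BT := .node (.node (.node (.node (.node (.node (.node (.leaf 42412812160) (.leaf 4248260539544)) (.leaf 2845415983746)) (.node (.leaf 837518872842) (.leaf 2466385558022))) (.node (.node (.leaf 1150514622105) (.leaf 2502356099094)) (.node (.leaf 2367601189632) (.leaf 3457449588382)))) (.node (.node (.node (.node (.leaf 350576810759) (.leaf 4439923500827)) (.leaf 3076271059219)) (.node (.leaf 1571958405135) (.leaf 3631932419339))) (.node (.node (.leaf 437013402777) (.leaf 2890513828237)) (.node (.leaf 2623151901568) (.leaf 3381213968777))))) (.node (.node (.node (.node (.node (.leaf 39728456963) (.leaf 3968550824199)) (.leaf 2983929240448)) (.node (.leaf 28454246022) (.leaf 2454037680670))) (.node (.node (.leaf 1606318151813) (.leaf 2778844650631)) (.node (.leaf 2495913464977) (.leaf 3955128951829)))) (.node (.node (.node (.leaf 12348212233) (.leaf 3183108396289)) (.node (.leaf 616864683276) (.leaf 3738769922585))) (.node (.node (.leaf 1886027730846) (.leaf 2760590890251)) (.node (.leaf 2732136722587) (.leaf 4152160273547)))))) (.node (.node (.node (.node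 (.node (.node (.leaf 121869747980) (.leaf 4312148193282)) (.leaf 2915209747219)) (.node (.leaf 144418470539) (.leaf 2854543397376))) (.node (.node (.leaf 1335735137306) (.leaf 3321621124494)) (.node (.leaf 2423972745624) (.leaf 3719979479318)))) (.node (.node (.node (.leaf 578210110109) (.leaf 3124052242566)) (.node (.leaf 1395327842709) (.leaf 3691525271056))) (.node (.node (.leaf 2174327712262) (.leaf 3558918124936)) (.node (.leaf 2682744586899) (.leaf 4104915971972))))) (.node (.node (.node (.node (.node (.leaf 454192825879) (.leaf 2690261190793)) (.leaf 3029026407698)) (.node (.leaf 528818262302) (.leaf 3504694160129))) (.node (.node (.leaf 1829656504339) (.leaf 3354907152660)) (.node (.leaf 2560337989775) (.leaf 4009889797784)))) (.node (.node (.node (.leaf 965831001092) (.leaf 2578054719750)) (.node (.leaf 1842004654999) (.leaf 3797825736985))) (.node (.node (.leaf 49929149342) (.leaf 2672007109513)) (.node (.leaf 2724620541588) (.leaf 4198868391942))))))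
def dF_979 : BT := .node (.node (.node (.node (.node (.node (.node (.leaf 29527907218) (.leaf 4261145037450)) (.leaf 2855080190747)) (.node (.leaf 958314777346) (.leaf 2517388394901))) (.node (.node (.leaf 1108101844237) (.leaf 3279745183378)) (.node (.leaf 2371896254749) (.leaf 3323231865479)))) (.node (.node (.node (.node (.leaf 47781630229) (.leaf 4443144727189)) (.leaf 3084324124826)) (.node (.leaf 2024540375052) (.leaf 3637301296014))) (.node (.node (.leaf 2027225047057) (.leaf 2593087072640)) (.node (.leaf 2635499886468) (.leaf 3900368141954))))) (.node (.node (.node (.node (.node (.leaf 382252180613) (.leaf 4108137261952)) (.leaf 2993056048025)) (.node (.leaf 1757178497182) (.leaf 2690260724742))) (.node (.node (.leaf 1639067285251) (.leaf 3404299264667)) (.node (.leaf 2509872112019) (.leaf 3715684527236)))) (.node (.node (.node (.leaf 768799326987) (.leaf 3176128769026)) (.node (.leaf 1836098558476) (.leaf 3592741035651))) (.node (.node (.leaf 1490354187779) (.leaf 2436320946438)) (.node (.leaf 2554969322644) (.leaf 4168803625729)))))) (.node (.node (.node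 (.node (.node (.node (.leaf 229243921689) (.leaf 4320738130049)) (.leaf 2923799683855)) (.node (.leaf 37044097310) (.leaf 2665564660103))) (.node (.node (.leaf 1374389856149) (.leaf 3335579771549)) (.node (.leaf 2434173295488) (.leaf 3834869855764)))) (.node (.node (.node (.leaf 613643598736) (.leaf 3140695584019)) (.node (.leaf 1277216274455) (.leaf 3697430852499))) (.node (.node (.leaf 879931682180) (.leaf 3579319223820)) (.node (.leaf 2680060224151) (.leaf 4118337747858))))) (.node (.node (.node (.node (.node (.leaf 474593999362) (.leaf 4411469335695)) (.leaf 3029563232662)) (.node (.leaf 1068373637271) (.leaf 2906619851543))) (.node (.node (.leaf 1832340861319) (.leaf 3461744466048)) (.node (.leaf 2575907249944) (.leaf 4014184696454)))) (.node (.node (.node (.leaf 991063939976) (.leaf 3229279305616)) (.node (.leaf 1960116256901) (.leaf 2469607101189))) (.node (.node (.leaf 681826509470) (.leaf 2435247128193)) (.node (.leaf 2789581923855) (.leaf 4203163372160))))))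
def dF_988 : BT := .node (.node (.node (.node (.node (.node (.node (.leaf 93415560979) (.leaf 4252555507855)) (.leaf 2831457864976)) (.node (.leaf 381178618014) (.leaf 2687039618718))) (.node (.node (.leaf 1150514638749) (.leaf 3268470709908)) (.node (.leaf 2366527544345) (.leaf 2535642234526)))) (.node (.node (.node (.node (.leaf 351113681815) (.leaf 4438849757079)) (.leaf 3080566027546)) (.node (.leaf 633507827214) (.leaf 3433827219478))) (.node (.node (.leaf 1963874273946) (.leaf 3505231014420)) (.node (.leaf 2403034824852) (.leaf 4033512123650))))) (.node (.node (.node (.node (.node (.leaf 126701618196) (.leaf 4365835152643)) (.leaf 2804614352151)) (.node (.leaf 1061930939422) (.leaf 2743947998366))) (.node (.node (.leaf 1591822633740) (.leaf 3093451005190)) (.node (.leaf 2498060949145) (.leaf 3954592080659)))) (.node (.node (.node (.leaf 756988139521) (.leaf 2951180159380)) (.node (.leaf 1958505523870) (.leaf 3713000118039))) (.node (.node (.leaf 374736127364) (.leaf 2922189108993)) (.node (.leaf 2737505432977) (.leaf 4030827797376)))))) (.node (.node (.node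 (.node (.node (.node (.leaf 204547866371) (.leaf 4048007706630)) (.leaf 2920041586584)) (.node (.leaf 409096160261) (.leaf 2915746557696))) (.node (.node (.leaf 1345935697413) (.leaf 3317326156178)) (.node (.leaf 2425583358747) (.leaf 3900904976665)))) (.node (.node (.node (.leaf 573378257678) (.leaf 2522757160962)) (.node (.leaf 534723553421) (.leaf 3358128434334))) (.node (.node (.leaf 841814080154) (.leaf 3560528736535)) (.node (.leaf 2433636480916) (.leaf 2551211552139))))) (.node (.node (.node (.node (.node (.leaf 151934578326) (.leaf 3959960897290)) (.leaf 3038153169302)) (.node (.leaf 371514682498) (.leaf 3457449473920))) (.node (.node (.leaf 1761473897740) (.leaf 3402151792662)) (.node (.leaf 2564096087056) (.leaf 4011500410907)))) (.node (.node (.node (.leaf 954556709139) (.leaf 3222299969666)) (.node (.leaf 2326799088276) (.leaf 3794067639813))) (.node (.node (.leaf 448287387166) (.leaf 2434710284190)) (.node (.leaf 2781528858256) (.leaf 4199405274905))))))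
def dF_995 : BT := .node (.node (.node (.node (.node (.node (.node (.leaf 89657463699) (.leaf 3939559766686)) (.leaf 2852932706689)) (.node (.leaf 1387274615582) (.leaf 2370822793612))) (.node (.node (.leaf 1181653156237) (.leaf 3280282054428)) (.node (.leaf 2023467032585) (.leaf 2528126043392)))) (.node (.node (.node (.node (.leaf 434328649493) (.leaf 3061238999560)) (.leaf 3090229706269)) (.node (.leaf 641024021774) (.leaf 3636227553935))) (.node (.node (.leaf 2025077562499) (.leaf 2397666195085)) (.node (.leaf 2635499935385) (.leaf 4057134449307))))) (.node (.node (.node (.node (.node (.leaf 150860762242) (.leaf 4160750611205)) (.leaf 2982318588053)) (.node (.leaf 425738859294) (.leaf 3075197183501))) (.node (.node (.leaf 1635309187857) (.leaf 3237869277826)) (.node (.leaf 2502355917467) (.leaf 3959423920026)))) (.node (.node (.node (.leaf 766114974099) (.leaf 3180960859542)) (.node (.leaf 1897302256660) (.leaf 3741454277777))) (.node (.node (.leaf 867046557336) (.leaf 2876018066334)) (.node (.leaf 2549600591764) (.leaf 4103842242071)))))) (.node (.node (.node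 (.node (.node (.node (.leaf 231928239631) (.leaf 4323959344132)) (.leaf 2923799683867)) (.node (.leaf 1495185846814) (.leaf 3007014790284))) (.node (.node (.leaf 1366336796931) (.leaf 3277597711366)) (.node (.leaf 2419140906255) (.leaf 3885872486282)))) (.node (.node (.node (.leaf 616327954060) (.leaf 3141232455065)) (.node (.leaf 1315334092933) (.leaf 3696357110415))) (.node (.node (.leaf 905164595742) (.leaf 3563213093143)) (.node (.leaf 2680060231696) (.leaf 4104379100826))))) (.node (.node (.node (.node (.node (.leaf 475667741456) (.leaf 4408784980867)) (.leaf 3036542464131)) (.node (.leaf 529891999774) (.leaf 2585034030357))) (.node (.node (.leaf 1838246440977) (.leaf 2791192695943)) (.node (.leaf 2402497946262) (.leaf 4005057958415)))) (.node (.node (.node (.leaf 981400261249) (.leaf 3229816176665)) (.node (.leaf 2334852152985) (.leaf 3512210412181))) (.node (.node (.leaf 2241436202895) (.leaf 2490544737281)) (.node (.leaf 2792803150099) (.leaf 4204773938560))))))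
def dF_1003 : BT := .node (.node (.node (.node (.node (.node (.node (.leaf 12348033936) (.leaf 4057671369098)) (.leaf 2849174609408)) (.node (.leaf 321585896862) (.leaf 3278134194307))) (.node (.node (.leaf 1159641446533) (.leaf 3268470801282)) (.node (.leaf 2368675028505) (.leaf 2670396831885)))) (.node (.node (.node (.node (.leaf 477815117062) (.leaf 2840048183307)) (.leaf 3076807923222)) (.node (.leaf 1319629016335) (.leaf 3630321972499))) (.node (.node (.leaf 2018635110419) (.leaf 3512210343698)) (.node (.leaf 2430952118165) (.leaf 4048007637780))))) (.node (.node (.node (.node (.node (.leaf 367756662529) (.leaf 4367445863168)) (.leaf 2983929240347)) (.node (.leaf 1348082886925) (.leaf 2684355203840))) (.node (.node (.leaf 1619203056773) (.leaf 3396246126338)) (.node (.leaf 2505040272773) (.leaf 3966403243649)))) (.node (.node (.node (.leaf 762356876819) (.leaf 3179350298906)) (.node (.leaf 1832877319816) (.leaf 3739843664657))) (.node (.node (.leaf 1984812204186) (.leaf 2927557770654)) (.node (.leaf 2733210464659) (.leaf 4150550010254)))))) (.node (.node (.node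 (.node (.node (.node (.leaf 220117126533) (.leaf 2331094531725)) (.leaf 2910377907856)) (.node (.leaf 1969243020702) (.leaf 2637647475456))) (.node (.node (.leaf 23085771148) (.leaf 2839511045378)) (.node (.leaf 2422362132499) (.leaf 3542275208202)))) (.node (.node (.node (.leaf 119722355210) (.leaf 3143379939329)) (.node (.leaf 1437740635142) (.leaf 3693672755219))) (.node (.node (.leaf 989453338910) (.leaf 3563213092509)) (.node (.leaf 2676839005466) (.leaf 4119948360971))))) (.node (.node (.node (.node (.node (.leaf 475130870528) (.leaf 4408248109457)) (.leaf 3025805181456)) (.node (.leaf 30601646988) (.leaf 3311420636958))) (.node (.node (.leaf 1824287796106) (.leaf 3459596981788)) (.node (.leaf 2382633717781) (.leaf 4008279184659)))) (.node (.node (.node (.leaf 968515356179) (.leaf 2379949522565)) (.node (.leaf 2332704296067) (.leaf 3782793351061))) (.node (.node (.leaf 616864824966) (.leaf 2434710053251)) (.node (.leaf 637803309709) (.leaf 3771519159831))))))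
def dF_1010 : BT := .node (.node (.node (.node (.node (.node (.node (.leaf 96099912981) (.leaf 4264903415814)) (.leaf 2857227674895)) (.node (.leaf 144418303750) (.leaf 3042985111693))) (.node (.node (.leaf 1185411257089) (.leaf 2399813758214)) (.node (.leaf 2372433125787) (.leaf 3857418114823)))) (.node (.node (.node (.node (.leaf 410169496326) (.leaf 4444755340167)) (.leaf 3092377190418)) (.node (.leaf 1895154771214) (.leaf 3637838144407))) (.node (.node (.leaf 1954747474454) (.leaf 2309619416734)) (.node (.leaf 2624762514578) (.leaf 2479807710475))))) (.node (.node (.node (.node (.node (.leaf 388157761939) (.leaf 4376035847054)) (.leaf 2991445434898)) (.node (.leaf 510027616774) (.leaf 2944200804254))) (.node (.node (.leaf 1564442229248) (.leaf 3401614909459)) (.node (.leaf 2505040272656) (.leaf 3958887048979)))) (.node (.node (.node (.leaf 220117257992) (.leaf 3188477106701)) (.node (.leaf 826781627030) (.leaf 3748970472449))) (.node (.node (.leaf 937913552795) (.leaf 2821257456896)) (.node (.leaf 2604898321159) (.leaf 4163971786269)))))) (.node (.node (.node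 (.node (.node (.node (.leaf 245886936461) (.leaf 4331475550748)) (.leaf 2930242136455)) (.node (.leaf 473520151308) (.leaf 2646237330710))) (.node (.node (.leaf 1378684818185) (.leaf 3336116642578)) (.node (.leaf 2433099553307) (.leaf 3358128486147)))) (.node (.node (.node (.leaf 623307265920) (.leaf 3134253131537)) (.node (.leaf 1322850272788) (.leaf 632434816262))) (.node (.node (.leaf 354334886788) (.leaf 3582003578895)) (.node (.leaf 2444910772756) (.leaf 4116727134737))))) (.node (.node (.node (.node (.node (.leaf 469225283354) (.leaf 3693136055819)) (.leaf 2312303738886)) (.node (.leaf 711891118750) (.leaf 3506841522445))) (.node (.node (.leaf 1832877732628) (.leaf 3473555628829)) (.node (.leaf 2577517863054) (.leaf 2669860001418)))) (.node (.node (.node (.leaf 996432650504) (.leaf 3233574105109)) (.node (.leaf 1842004656388) (.leaf 3639985689485))) (.node (.node (.leaf 1777580069403) (.leaf 2439542032278)) (.node (.leaf 2788508111509) (.leaf 4216048277253))))))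
def dF_1024 : BT := .node (.node (.node (.node (.node (.node (.node (.leaf 8053080734) (.leaf 4246649926541)) (.leaf 2833068478105)) (.node (.leaf 492847977374) (.leaf 2580739200385))) (.node (.node (.leaf 1131724152338) (.leaf 3264712794259)) (.node (.leaf 2032056965637) (.leaf 2315525157639)))) (.node (.node (.node (.node (.leaf 380104717574) (.leaf 2519536247946)) (.leaf 3071439109254)) (.node (.leaf 1767916334745) (.leaf 3629248230428))) (.node (.node (.leaf 1980517266579) (.leaf 3506304762265)) (.node (.leaf 2611877609614) (.leaf 4043175736470))))) (.node (.node (.node (.node (.node (.leaf 348429304979) (.leaf 3228742705418)) (.leaf 2430415197961)) (.node (.leaf 101468626587) (.leaf 3370476341534))) (.node (.node (.leaf 1572495276683) (.leaf 3311420592020)) (.node (.leaf 2489471012494) (.leaf 2961917763842)))) (.node (.node (.node (.leaf 745713874691) (.leaf 3172370975387)) (.node (.leaf 833760964374) (.leaf 3733938083215))) (.node (.node (.leaf 27917820827) (.leaf 2475512535429)) (.node (.leaf 2725157399058) (.leaf 3897146937610)))))) (.node (.node (.node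 (.node (.node (.node (.leaf 188978606212) (.leaf 4304094991367)) (.leaf 2919504715660)) (.node (.leaf 1054951593614) (.leaf 2893197923978))) (.node (.node (.leaf 1326608339857) (.leaf 3324842350747)) (.node (.leaf 2423972745729) (.leaf 3903589292940)))) (.node (.node (.node (.leaf 557272139537) (.leaf 3129958163229)) (.node (.leaf 538481826590) (.leaf 3659849885332))) (.node (.node (.leaf 173946230808) (.leaf 3559991864585)) (.node (.leaf 2673617771668) (.leaf 3708168363669))))) (.node (.node (.node (.node (.node (.leaf 437013026577) (.leaf 4402878942218)) (.leaf 3033858247067)) (.node (.leaf 48318683012) (.leaf 2644089879557))) (.node (.node (.leaf 916975949837) (.leaf 3454765142532)) (.node (.leaf 2558727376664) (.leaf 4015795379332)))) (.node (.node (.node (.leaf 935229351817) (.leaf 2519535959575)) (.node (.leaf 2328946571393) (.leaf 3787625187219))) (.node (.node (.leaf 748935230743) (.leaf 702227864350)) (.node (.leaf 2783676342541) (.leaf 4048007674380))))))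
def dF_1031 : BT := .node (.node (.node (.node (.node (.node (.node (.leaf 10737420817) (.leaf 4262219186579)) (.leaf 2850785222532)) (.node (.leaf 101468668062) (.leaf 3278134573324))) (.node (.node (.leaf 1161252059661) (.leaf 2597919122694)) (.node (.leaf 2368675027990) (.leaf 3840238549129)))) (.node (.node (.node (.node (.leaf 477278333334) (.leaf 4441534113935)) (.leaf 2854006501782)) (.node (.leaf 1321776500495) (.leaf 1963337791628))) (.node (.node (.leaf 2019171505546) (.leaf 3514357827856)) (.node (.leaf 2636573677467) (.leaf 3979288165022))))) (.node (.node (.node (.node (.node (.leaf 369367275653) (.leaf 4367445851531)) (.leaf 2982318627226)) (.node (.leaf 426275616670) (.leaf 2684355204100))) (.node (.node (.leaf 1620813669891) (.leaf 3194382736002)) (.node (.leaf 2506650885901) (.leaf 3968013856773)))) (.node (.node (.node (.leaf 762356876829) (.leaf 3183645267224)) (.node (.leaf 1898912881798) (.leaf 3589519809303))) (.node (.node (.leaf 745177299097) (.leaf 2491618565261)) (.node (.leaf 2731599851538) (.leaf 4148939397135)))))) (.node (.node (.node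 (.node (.node (.node (.leaf 221727739649) (.leaf 4073240641153)) (.leaf 2921115328654)) (.node (.leaf 1968705781658) (.leaf 2537252564993))) (.node (.node (.leaf 1351304407813) (.leaf 3314104711301)) (.node (.leaf 2420751519378) (.leaf 3774740313110)))) (.node (.node (.node (.leaf 595389983500) (.leaf 3144453681295)) (.node (.leaf 1511828821127) (.leaf 2790655881228))) (.node (.node (.leaf 354871757598) (.leaf 3563213092609)) (.node (.leaf 2675228392347) (.leaf 4119948360979))))) (.node (.node (.node (.node (.node (.leaf 476741483652) (.leaf 4407711238548)) (.leaf 3024194568337)) (.node (.leaf 30601690901) (.leaf 3311420469129))) (.node (.node (.leaf 1833414601619) (.leaf 3457986368669)) (.node (.leaf 2561411689620) (.leaf 4006668571538)))) (.node (.node (.node (.leaf 966904743058) (.leaf 3229279305731)) (.node (.leaf 2328409701641) (.leaf 3796215123864))) (.node (.node (.leaf 617938567047) (.leaf 2434710215433)) (.node (.leaf 2556043078293) (.leaf 4206921469469))))))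
def dF_1039 : BT := .node (.node (.node (.node (.node (.node (.node (.leaf 93952432019) (.leaf 3727495755906)) (.leaf 2845416512014)) (.node (.leaf 1986422594462) (.leaf 2335926094622))) (.node (.node (.leaf 1148904025628) (.leaf 3213710058260)) (.node (.leaf 1112397093890) (.leaf 2661806898462)))) (.node (.node (.node (.node (.leaf 442918586389) (.leaf 4438849758747)) (.leaf 3078955414427)) (.node (.leaf 625454761615) (.leaf 3633543198747))) (.node (.node (.leaf 1807107967767) (.leaf 3332358586260)) (.node (.leaf 2582349688198) (.leaf 4033512123669))))) (.node (.node (.node (.node (.node (.leaf 346281768085) (.leaf 4365835216778)) (.leaf 2970507425174)) (.node (.leaf 16643002255) (.leaf 2565706855198))) (.node (.node (.leaf 1593433246853) (.leaf 3350075301142)) (.node (.leaf 2496450336024) (.leaf 2527052325642)))) (.node (.node (.node (.leaf 756988166429) (.leaf 2459943274759)) (.node (.leaf 346818614534) (.leaf 632971696514))) (.node (.node (.leaf 1076426624795) (.leaf 2767033340554)) (.node (.leaf 2556043064724) (.leaf 4138201979778)))))) (.node (.node (.node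 (.node (.node (.node (.leaf 206158479489) (.leaf 2468533483530)) (.leaf 2918430973465)) (.node (.leaf 563177684254) (.leaf 2904472379649))) (.node (.node (.leaf 1347546310541) (.leaf 3315715543059)) (.node (.leaf 2423972745626) (.leaf 3899294363544)))) (.node (.node (.node (.leaf 9126942489) (.leaf 2959770083606)) (.node (.leaf 2206002704130) (.leaf 2675765504798))) (.node (.node (.leaf 2155536748293) (.leaf 3560528737297)) (.node (.leaf 2433099609879) (.leaf 3915937410304))))) (.node (.node (.node (.node (.node (.leaf 461709094402) (.leaf 4358855984918)) (.leaf 3038153169291)) (.node (.leaf 371514682516) (.leaf 2563559216009))) (.node (.node (.leaf 476741805441) (.leaf 3401614921621)) (.node (.leaf 2562485473937) (.leaf 4009889797786)))) (.node (.node (.node (.leaf 952946096018) (.leaf 2514167249172)) (.node (.leaf 2330557184667) (.leaf 3795678252940))) (.node (.node (.leaf 447213645086) (.leaf 2434173155203)) (.node (.leaf 2783139471375) (.leaf 4152697506206))))))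
def dF_1046 : BT := .node (.node (.node (.node (.node (.node (.node (.leaf 44023425299) (.leaf 4255239863040)) (.leaf 2854543319813)) (.node (.leaf 149787144478) (.leaf 2578591577630))) (.node (.node (.leaf 1181653159069) (.leaf 3278671441309)) (.node (.leaf 2370822512655) (.leaf 3853660325138)))) (.node (.node (.node (.node (.leaf 342523745414) (.leaf 4442607856135)) (.leaf 3088619093148)) (.node (.leaf 821412691214) (.leaf 3531000855180))) (.node (.node (.leaf 2025077562899) (.leaf 3520263313156)) (.node (.leaf 2633889322264) (.leaf 4055523836186))))) (.node (.node (.node (.node (.node (.leaf 364535383427) (.leaf 2473365334792)) (.leaf 2818572999191)) (.node (.leaf 425738734744) (.leaf 2452427108237))) (.node (.node (.leaf 1635309187978) (.leaf 3237332406786)) (.node (.leaf 2500745304346) (.leaf 3961034533147)))) (.node (.node (.node (.leaf 765578103058) (.leaf 3179887117462)) (.node (.leaf 1902670695426) (.leaf 3592741035159))) (.node (.node (.leaf 1409286231710) (.leaf 2821793950604)) (.node (.leaf 2549600591767) (.leaf 4155381849627)))))) (.node (.node (.node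 (.node (.node (.node (.leaf 231391404825) (.leaf 4323959327240)) (.leaf 2926484039064)) (.node (.leaf 143344539009) (.leaf 2551748141185))) (.node (.node (.leaf 1367947410052) (.leaf 3303904385927)) (.node (.leaf 2417530293134) (.leaf 3707094573844)))) (.node (.node (.node (.leaf 617938567173) (.leaf 3139621841944)) (.node (.leaf 1502165141396) (.leaf 3696357110425))) (.node (.node (.leaf 898722157214) (.leaf 2513093589376)) (.node (.leaf 2676839005454) (.leaf 4118337747864))))) (.node (.node (.node (.node (.node (.leaf 474057128337) (.leaf 4407711239045)) (.leaf 3036005685142)) (.node (.leaf 331786394654) (.leaf 2407866680204))) (.node (.node (.leaf 1837709569948) (.leaf 2790655824903)) (.node (.leaf 2579665347229) (.leaf 4003447345294)))) (.node (.node (.node (.leaf 983010874373) (.leaf 3235721589270)) (.node (.leaf 2334852146818) (.leaf 3799436350104))) (.node (.node (.leaf 910533226511) (.leaf 2727304826910)) (.node (.leaf 2791192536978) (.leaf 4204773985182))))))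
def dF_1055 : BT := .node (.node (.node (.node (.node (.node (.node (.leaf 20401099539) (.leaf 4243965153416)) (.leaf 2831457864978)) (.node (.leaf 187367996318) (.leaf 2467458909068))) (.node (.node (.leaf 1139240347008) (.leaf 3271691936148)) (.node (.leaf 2364916931228) (.leaf 3844533517580)))) (.node (.node (.node (.node (.leaf 441307920532) (.leaf 4438312887695)) (.leaf 3075734188289)) (.node (.leaf 1835562085775) (.leaf 3626026709640))) (.node (.node (.leaf 1989644074372) (.leaf 3505231020174)) (.node (.leaf 2404108566935) (.leaf 3553549529886))))) (.node (.node (.node (.node (.node (.leaf 345744949776) (.leaf 4237523149316)) (.leaf 2417530424198)) (.node (.leaf 92341799946) (.leaf 2446521345694))) (.node (.node (.leaf 385473691788) (.leaf 3178813475975)) (.node (.leaf 2498597820188) (.leaf 3953518316054)))) (.node (.node (.node (.leaf 745176861978) (.leaf 3171834104337)) (.node (.leaf 1693291260439) (.leaf 3731790593549))) (.node (.node (.leaf 1367410539038) (.leaf 2930242172685)) (.node (.leaf 2723009871637) (.leaf 3741454374531)))))) (.node (.node (.node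 (.node (.node (.node (.leaf 194884187539) (.leaf 4264903551116)) (.leaf 2910914778909)) (.node (.leaf 236760217502) (.leaf 3179350128778))) (.node (.node (.leaf 1330903307798) (.leaf 3318936769304)) (.node (.leaf 2425583358749) (.leaf 3903052422918)))) (.node (.node (.node (.leaf 570157044612) (.leaf 3129421292177)) (.node (.leaf 533112941335) (.leaf 3686156498312))) (.node (.node (.leaf 2105071348887) (.leaf 3559454995456)) (.node (.leaf 2672544029588) (.leaf 4100620915206))))) (.node (.node (.node (.node (.node (.leaf 437012952215) (.leaf 4404489843592)) (.leaf 3032247633944)) (.node (.leaf 1394254118402) (.leaf 2387465557129))) (.node (.node (.leaf 1822677165444) (.leaf 3453154529305)) (.node (.leaf 2566243571218) (.leaf 4011500410909)))) (.node (.node (.node (.leaf 944356159492) (.leaf 3225521208339)) (.node (.leaf 2329483441940) (.leaf 3077344970884))) (.node (.node (.leaf 1354525826713) (.leaf 2370285669889)) (.node (.leaf 2785286955544) (.leaf 4152697506311))))))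
def dF_1062 : BT := .node (.node (.node (.node (.node (.node (.node (.leaf 50465877776) (.leaf 2637647805834)) (.leaf 2851858964498)) (.node (.leaf 143344565141) (.leaf 768263080222))) (.node (.node (.leaf 1155346455822) (.leaf 2506114171266)) (.node (.leaf 2027225128724) (.leaf 3850975928734)))) (.node (.node (.node (.node (.leaf 23085542039) (.leaf 4442070976640)) (.leaf 3086471609093)) (.node (.leaf 1250909523215) (.leaf 3635153811867))) (.node (.node (.leaf 1986422856714) (.leaf 3117610225284)) (.node (.leaf 2635499935387) (.leaf 3958887073028))))) (.node (.node (.node (.node (.node (.leaf 368293533459) (.leaf 4373888362905)) (.leaf 2984466111376)) (.node (.leaf 1173063278238) (.leaf 2567854226304))) (.node (.node (.leaf 1556389162636) (.leaf 3391414220546)) (.node (.leaf 2505577143709) (.leaf 3966403243539)))) (.node (.node (.node (.leaf 763967489949) (.leaf 3182034654096)) (.node (.leaf 2025077532421) (.leaf 3740380535704))) (.node (.node (.leaf 2237678054682) (.leaf 2682744747396)) (.node (.leaf 2729452367374) (.leaf 4153234222594)))))) (.node (.node (.node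 (.node (.node (.node (.leaf 230854547218) (.leaf 4325033098266)) (.leaf 2924873426048)) (.node (.leaf 339302419221) (.leaf 3405909782686))) (.node (.node (.leaf 134218052126) (.leaf 3330211061252)) (.node (.leaf 2419140906257) (.leaf 3905736585101)))) (.node (.node (.node (.leaf 138512841221) (.leaf 3133179389468)) (.node (.leaf 1378684815767) (.leaf 3695283368346))) (.node (.node (.leaf 988916467870) (.leaf 2395518859526)) (.node (.leaf 2677912747539) (.leaf 4104379100828))))) (.node (.node (.node (.node (.node (.leaf 478352096659) (.leaf 2452427377417)) (.leaf 2587181606279)) (.node (.leaf 371514857758) (.leaf 3528853311134))) (.node (.node (.leaf 1836098956817) (.leaf 3459596981779)) (.node (.leaf 2380486233609) (.leaf 4005057958417)))) (.node (.node (.node (.leaf 965294129937) (.leaf 3230353047708)) (.node (.leaf 2333778410907) (.leaf 3789235796864))) (.node (.node (.leaf 151934957342) (.leaf 3257196417694)) (.node (.leaf 2787971310747) (.leaf 4022774746369))))))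
def dF_1070 : BT := .node (.node (.node (.node (.node (.node (.node (.leaf 81067527056) (.leaf 4014184821893)) (.leaf 2844879523715)) (.node (.leaf 2136209610398) (.leaf 1131724539422))) (.node (.node (.leaf 1137092809988) (.leaf 3264175755527)) (.node (.leaf 48855817608) (.leaf 2814815106974)))) (.node (.node (.node (.node (.leaf 129385920643) (.leaf 3612068554634)) (.leaf 3078955414416)) (.node (.leaf 1282048043534) (.leaf 3631932301701))) (.node (.node (.leaf 2015413834519) (.leaf 3514894698899)) (.node (.leaf 2624762514692) (.leaf 4047470770575))))) (.node (.node (.node (.node (.node (.leaf 244813194243) (.leaf 4073240652034)) (.leaf 2985539853572)) (.node (.leaf 28454165147) (.leaf 2574833515393))) (.node (.node (.leaf 1607928764929) (.leaf 3397856812179)) (.node (.leaf 2494302851856) (.leaf 3955128951830)))) (.node (.node (.node (.leaf 760209392669) (.leaf 2351495353741)) (.node (.leaf 150860737537) (.leaf 3400541248010))) (.node (.node (.leaf 911607257886) (.leaf 3092914184589)) (.node (.leaf 2730526109466) (.leaf 4152160569728)))))) (.node (.node (.node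 (.node (.node (.node (.leaf 105763620762) (.leaf 4312148185109)) (.leaf 2913599134098)) (.node (.leaf 756451303710) (.leaf 3505767891200))) (.node (.node (.leaf 1336271706904) (.leaf 3320010511375)) (.node (.leaf 2422362132505) (.leaf 3900368105619)))) (.node (.node (.node (.leaf 579283852292) (.leaf 2589329153408)) (.node (.leaf 1395327842695) (.leaf 3691525271191))) (.node (.node (.leaf 89657960984) (.leaf 3562139350415)) (.node (.leaf 2445447643799) (.leaf 4106526585088))))) (.node (.node (.node (.node (.node (.leaf 462782760217) (.leaf 4407174367375)) (.leaf 3027415794579)) (.node (.leaf 372051728798) (.leaf 2405719398401))) (.node (.node (.leaf 1830193031557) (.leaf 3355444023703)) (.node (.leaf 2558727376654) (.leaf 4008279184665)))) (.node (.node (.node (.leaf 967441614221) (.leaf 3225521130882)) (.node (.leaf 2331630926749) (.leaf 2393371431052))) (.node (.node (.leaf 49392291870) (.leaf 2672007195148)) (.node (.leaf 2725157412631) (.leaf 4198868403854))))))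
def dF_1077 : BT := .node (.node (.node (.node (.node (.node (.node (.leaf 2147484162) (.leaf 4261145444499)) (.leaf 2853469577626)) (.node (.leaf 100395117598) (.leaf 766652451213))) (.node (.node (.leaf 1108638715277) (.leaf 3278134570259)) (.node (.leaf 2371359383704) (.leaf 3859565906587)))) (.node (.node (.node (.node (.leaf 47244737431) (.leaf 4442607856279)) (.leaf 3082713511707)) (.node (.leaf 2027225047055) (.leaf 3530463984533))) (.node (.node (.leaf 2026688176028) (.leaf 2593086688259)) (.node (.leaf 2635499935377) (.leaf 3231426985865))))) (.node (.node (.node (.node (.node (.leaf 383862793729) (.leaf 4047470849036)) (.leaf 2992519176988)) (.node (.leaf 1758789549197) (.leaf 2507187743892))) (.node (.node (.leaf 1637993543424) (.leaf 3403225522589)) (.node (.leaf 2508261498898) (.leaf 3956202312579)))) (.node (.node (.node (.leaf 699542981636) (.leaf 3176128880775)) (.node (.leaf 506269693325) (.leaf 3743601761945))) (.node (.node (.leaf 1779727267981) (.leaf 2532957600385)) (.node (.leaf 2738042304133) (.leaf 4170414238853)))))) (.node (.node (.node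 (.node (.node (.node (.leaf 178778067992) (.leaf 4321274935687)) (.leaf 2922189058566)) (.node (.leaf 1442572484254) (.leaf 2428267808414))) (.node (.node (.leaf 1374926727063) (.leaf 3333969158428)) (.node (.leaf 2435783908612) (.leaf 3834869855767)))) (.node (.node (.node (.leaf 613643598615) (.leaf 3139084970898)) (.node (.leaf 1572495201430) (.leaf 3697430852505))) (.node (.node (.leaf 379030954629) (.leaf 3580929836932)) (.node (.leaf 2679523353108) (.leaf 4116727134739))))) (.node (.node (.node (.node (.node (.leaf 18253723926) (.leaf 4411469335705)) (.leaf 2834679137303)) (.node (.leaf 531502612126) (.leaf 3382824462722))) (.node (.node (.leaf 1840393925137) (.leaf 3463355079172)) (.node (.leaf 2574296636825) (.leaf 4013647814153)))) (.node (.node (.node (.leaf 990527069190) (.leaf 3234648016014)) (.node (.leaf 2334852153483) (.leaf 3799973221135))) (.node (.node (.leaf 681826492557) (.leaf 2435247124101)) (.node (.leaf 2787971310734) (.leaf 4203163261964))))))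
def dF_1087 : BT := .node (.node (.node (.node (.node (.node (.node (.leaf 41875941139) (.leaf 4083441169182)) (.leaf 2840047801618)) (.node (.leaf 409632705548) (.leaf 2365454072990))) (.node (.node (.leaf 223338569992) (.leaf 3220689381783)) (.node (.leaf 2027225127561) (.leaf 3835943580940)))) (.node (.node (.node (.node (.leaf 353261165959) (.leaf 4437776016665)) (.leaf 3069828553620)) (.node (.leaf 372051630734) (.leaf 3628174488344))) (.node (.node (.leaf 1789928093958) (.leaf 3506304762258)) (.node (.leaf 2612951344148) (.leaf 4031901137803))))) (.node (.node (.node (.node (.node (.leaf 354334886416) (.leaf 4272419758464)) (.leaf 2974802393493)) (.node (.leaf 101468626585) (.leaf 2514167236867))) (.node (.node (.leaf 1566589697413) (.leaf 3382287534741)) (.node (.leaf 2496987207168) (.leaf 3859565928969)))) (.node (.node (.node (.leaf 752693198098) (.leaf 3174518447124)) (.node (.leaf 635655164811) (.leaf 3462281401096))) (.node (.node (.leaf 28454694168) (.leaf 3339874641803)) (.node (.leaf 2725157399054) (.leaf 4146255039628)))))) (.node (.node (.node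 (.node (.node (.node (.leaf 197568542853) (.leaf 4304631998615)) (.leaf 2919504715549)) (.node (.leaf 2197413171614) (.leaf 2589329241868))) (.node (.node (.leaf 1328755820559) (.leaf 3316252414107)) (.node (.leaf 2336999659523) (.leaf 3903589297414)))) (.node (.node (.node (.leaf 140660313098) (.leaf 3128884421145)) (.node (.leaf 1180579388685) (.leaf 3685619689619))) (.node (.node (.leaf 860604537748) (.leaf 3556770640788)) (.node (.leaf 2672007166097) (.leaf 3732327558292))))) (.node (.node (.node (.node (.node (.leaf 447750447367) (.leaf 2711199155850)) (.leaf 3025268310427)) (.node (.leaf 1520955660702) (.leaf 2484102535306))) (.node (.node (.leaf 1791538667418) (.leaf 3454228271389)) (.node (.leaf 2571612281619) (.leaf 4019016605465)))) (.node (.node (.node (.leaf 938987445781) (.leaf 3224447466267)) (.node (.leaf 2328946454551) (.leaf 3788162058254))) (.node (.node (.leaf 748935216537) (.leaf 2480344422660)) (.node (.leaf 2785286955548) (.leaf 1319092831884))))))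
def dF_1094 : BT := .node (.node (.node (.node (.node (.node (.node (.leaf 89657463697) (.leaf 4257924198156)) (.leaf 2849174609309)) (.node (.leaf 610959571597) (.leaf 2339147307550))) (.node (.node (.leaf 1169841996301) (.leaf 2891050603142)) (.node (.leaf 2369211899549) (.leaf 3102577916035)))) (.node (.node (.node (.node (.leaf 404263806358) (.leaf 4440997243029)) (.leaf 3078418536341)) (.node (.leaf 1273458106895) (.leaf 2485176318348))) (.node (.node (.leaf 389231892993) (.leaf 2894808795660)) (.node (.leaf 2628520611868) (.leaf 4031364644245))))) (.node (.node (.node (.node (.node (.leaf 369904146589) (.leaf 1315871648134)) (.leaf 2986613595534)) (.node (.leaf 17180190622) (.leaf 3106335868446))) (.node (.node (.leaf 1628329589263) (.leaf 2717641365639)) (.node (.leaf 2513093338265) (.leaf 3968550727708)))) (.node (.node (.node (.leaf 761283135124) (.leaf 3131568788757)) (.node (.leaf 700080137090) (.leaf 3740380244104))) (.node (.node (.leaf 403190143628) (.leaf 2641405534366)) (.node (.leaf 2730526109456) (.leaf 4082904276353)))))) (.node (.node (.node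 (.node (.node (.node (.leaf 230317676289) (.leaf 4327180582428)) (.leaf 2912525392014)) (.node (.leaf 441844990622) (.leaf 3021509932429))) (.node (.node (.leaf 1359894344452) (.leaf 2504503595398)) (.node (.leaf 2427730842897) (.leaf 3542812079240)))) (.node (.node (.node (.leaf 603979920141) (.leaf 3141769326108)) (.node (.leaf 1061393876608) (.leaf 3693672735872))) (.node (.node (.leaf 133144089754) (.leaf 3564286834589)) (.node (.leaf 2649995461014) (.leaf 4112969037468))))) (.node (.node (.node (.node (.node (.leaf 475130870428) (.leaf 4408784980507)) (.leaf 3029563278735)) (.node (.leaf 46171337353) (.leaf 2764348899998))) (.node (.node (.leaf 1825361538313) (.leaf 3461207370762)) (.node (.leaf 2570001626260) (.leaf 4013647895057)))) (.node (.node (.node (.leaf 958314806418) (.leaf 2472828192259)) (.node (.leaf 2328946572675) (.leaf 3789772607619))) (.node (.node (.leaf 610959631886) (.leaf 2925410371732)) (.node (.leaf 2788508181788) (.leaf 4205847727385))))))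
def dF_1102 : BT := .node (.node (.node (.node (.node (.node (.node (.leaf 8053065617) (.leaf 4248260529927)) (.leaf 2836826575374)) (.node (.leaf 123480351262) (.leaf 2405182286997))) (.node (.node (.leaf 1148904025618) (.leaf 3212636316180)) (.node (.leaf 2365990673543) (.leaf 3837553916929)))) (.node (.node (.node (.node (.leaf 127775360262) (.leaf 4439386629764)) (.leaf 2765959673090)) (.node (.leaf 638339666575) (.leaf 2711198971533))) (.node (.node (.leaf 2011655787012) (.leaf 2965138883977)) (.node (.leaf 2414845986946) (.leaf 4048007641733))))) (.node (.node (.node (.node (.node (.leaf 246960678406) (.leaf 4367982781581)) (.leaf 2474975480967)) (.node (.leaf 635655355274) (.leaf 2506650977814))) (.node (.node (.leaf 1558536638977) (.leaf 3395172456987)) (.node (.leaf 2495376593938) (.leaf 3018826081163)))) (.node (.node (.node (.leaf 755914425097) (.leaf 3176129072781)) (.node (.leaf 1899449740289) (.leaf 2334852487686))) (.node (.node (.leaf 904091135515) (.leaf 2806761767553)) (.node (.leaf 2731062980509) (.leaf 4151623752347)))))) (.node (.node (.node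 (.node (.node (.node (.leaf 104153007495) (.leaf 3553012724766)) (.leaf 2909841036825)) (.node (.leaf 131533550221) (.leaf 2854006526336))) (.node (.node (.leaf 1298691053723) (.leaf 3317863027217)) (.node (.leaf 2415382808986) (.leaf 2585034371466)))) (.node (.node (.node (.leaf 217969727880) (.leaf 2959233125382)) (.node (.leaf 1395864741278) (.leaf 3686693431704))) (.node (.node (.leaf 2174327712017) (.leaf 3557307512084)) (.node (.leaf 2678449618700) (.leaf 4103842229775))))) (.node (.node (.node (.node (.node (.leaf 460635278359) (.leaf 4406637496197)) (.leaf 3036005731219)) (.node (.leaf 45634465546) (.leaf 3567508060950))) (.node (.node (.leaf 1828582762259) (.leaf 3451007032980)) (.node (.leaf 2567317313294) (.leaf 4016869121305)))) (.node (.node (.node (.leaf 958851677580) (.leaf 2513630378135)) (.node (.leaf 2330020313878) (.leaf 2364917272350))) (.node (.node (.leaf 493921412510) (.leaf 2668249255966)) (.node (.leaf 2541547560213) (.leaf 4200478914695))))))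
def dF_1109 : BT := .node (.node (.node (.node (.node (.node (.node (.leaf 38654714899) (.leaf 3701725952781)) (.leaf 2857227674909)) (.node (.leaf 118648504606) (.leaf 2463701229828))) (.node (.node (.leaf 1180042545936) (.leaf 3277597699225)) (.node (.leaf 1899986722945) (.leaf 3857418422541)))) (.node (.node (.node (.node (.leaf 49929092631) (.leaf 4443681598107)) (.leaf 3091303448347)) (.node (.leaf 165356280335) (.leaf 2411625003789))) (.node (.node (.leaf 2026151303957) (.leaf 828392595614)) (.node (.leaf 2625299385624) (.leaf 4053913153557))))) (.node (.node (.node (.node (.node (.leaf 157840137729) (.leaf 4374961916552)) (.leaf 2989297950853)) (.node (.leaf 510564488839) (.leaf 2596845169285))) (.node (.node (.leaf 1636919800977) (.leaf 3402688651652)) (.node (.leaf 2504503401625) (.leaf 3960497662104)))) (.node (.node (.node (.leaf 691489917572) (.leaf 3126736949398)) (.node (.leaf 1833414317442) (.leaf 3743064890899))) (.node (.node (.leaf 2247878864909) (.leaf 2728378649093)) (.node (.leaf 2342905310727) (.leaf 4161824302213)))))) (.node (.node (.node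 (.node (.node (.node (.leaf 15569309838) (.leaf 4222490753804)) (.leaf 2926484039056)) (.node (.leaf 695247928715) (.leaf 2665027971074))) (.node (.node (.leaf 1309428481677) (.leaf 3335579771660)) (.node (.leaf 2317135432195) (.leaf 3886946299526)))) (.node (.node (.node (.leaf 619549180179) (.leaf 3143916810255)) (.node (.leaf 1382979827606) (.leaf 3696893981467))) (.node (.node (.leaf 889595352321) (.leaf 3572339900292)) (.node (.leaf 2441689546516) (.leaf 4109747811224))))) (.node (.node (.node (.node (.node (.leaf 465467191697) (.leaf 3692599184393)) (.leaf 2567854170370)) (.node (.leaf 338765736222) (.leaf 3482682436638))) (.node (.node (.leaf 1838783308565) (.leaf 3357054636823)) (.node (.leaf 2576980992026) (.leaf 4015258487316)))) (.node (.node (.node (.leaf 988379572238) (.leaf 3229279305618)) (.node (.leaf 2335925895069) (.leaf 3798362608016))) (.node (.node (.leaf 24696223262) (.leaf 2640331567751)) (.node (.leaf 2789581923857) (.leaf 4203163267350))))))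
def dF_1118 : BT := .node (.node (.node (.node (.node (.node (.node (.leaf 11811162899) (.leaf 1771138150541)) (.leaf 2838437188497)) (.node (.leaf 428423008926) (.leaf 2465848856734))) (.node (.node (.leaf 1147830283648) (.leaf 3215857542420)) (.node (.leaf 2365990673299) (.leaf 2816962593164)))) (.node (.node (.node (.node (.leaf 348429326594) (.leaf 4438849752965)) (.leaf 2858301470102)) (.node (.leaf 1701344325774) (.leaf 2491081897997))) (.node (.node (.leaf 1998234011013) (.leaf 3505767657223)) (.node (.leaf 2617246270229) (.leaf 4033512105864))))) (.node (.node (.node (.node (.node (.leaf 135828425876) (.leaf 4366372105603)) (.leaf 2965675585814)) (.node (.leaf 335007731968) (.leaf 2514704041473))) (.node (.node (.leaf 1584843310213) (.leaf 3393561843972)) (.node (.leaf 2497524078106) (.leaf 3834332996247)))) (.node (.node (.node (.leaf 755914247044) (.leaf 2698313960071)) (.node (.leaf 47245109386) (.leaf 3734474952862))) (.node (.node (.leaf 1387274732699) (.leaf 2473364973441)) (.node (.leaf 2732136722689) (.leaf 3760244829452)))))) (.node (.node (.node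 (.node (.node (.node (.leaf 111669196954) (.leaf 4316980032772)) (.leaf 2914672876186)) (.node (.leaf 331249358228) (.leaf 3232500365963))) (.node (.node (.leaf 1338956373901) (.leaf 3324305479699)) (.node (.leaf 2416993422109) (.leaf 3901441847708)))) (.node (.node (.node (.leaf 565325205149) (.leaf 2960843825685)) (.node (.leaf 1107027946262) (.leaf 2433099853453))) (.node (.node (.leaf 2079838408862) (.leaf 3561065608337)) (.node (.leaf 2668785932311) (.leaf 1112397507852))))) (.node (.node (.node (.node (.node (.leaf 455803513095) (.leaf 4405563687181)) (.leaf 3023657697304)) (.node (.leaf 528281391518) (.leaf 2502356077961))) (.node (.node (.leaf 1825361105930) (.leaf 3452080787218)) (.node (.leaf 2557653634578) (.leaf 4018479734426)))) (.node (.node (.node (.leaf 952946096132) (.leaf 3226057910550)) (.node (.leaf 2330020312983) (.leaf 3788698627329))) (.node (.node (.leaf 353798110361) (.leaf 1960116438046)) (.node (.leaf 2784750084496) (.leaf 4198868403868))))))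
def dF_1125 : BT := .node (.node (.node (.node (.node (.node (.node (.leaf 31138520337) (.leaf 4253091993739)) (.leaf 2851322093455)) (.node (.leaf 1926293296286) (.leaf 1903744875806))) (.node (.node (.leaf 1174673835651) (.leaf 3270618378125)) (.node (.leaf 2032056967061) (.leaf 3850438750602)))) (.node (.node (.node (.node (.leaf 405337548438) (.leaf 2838437570952)) (.leaf 3008088457475)) (.node (.leaf 692563641614) (.leaf 2679523588231))) (.node (.node (.leaf 1956358085892) (.leaf 3061775579404)) (.node (.leaf 2626909998747) (.leaf 4059281933469))))) (.node (.node (.node (.node (.node (.leaf 146565846676) (.leaf 3782793488904)) (.leaf 2981244885134)) (.node (.leaf 28991036187) (.leaf 2390149869972))) (.node (.node (.leaf 1633161703709) (.leaf 2476586325122)) (.node (.leaf 2509335240986) (.leaf 3961571404188)))) (.node (.node (.node (.leaf 765041230487) (.leaf 3178276556815)) (.node (.leaf 1963337362825) (.leaf 2556043304202))) (.node (.node (.leaf 817118063771) (.leaf 2737505374359)) (.node (.leaf 2731599808277) (.leaf 4154308107528)))))) (.node (.node (.node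 (.node (.node (.node (.leaf 224412094736) (.leaf 4322885614104)) (.leaf 2926484039068)) (.node (.leaf 1197222428574) (.leaf 2551211335682))) (.node (.node (.leaf 231928555917) (.leaf 3331284803214)) (.node (.leaf 2426120229774) (.leaf 2616172885381)))) (.node (.node (.node (.leaf 608274888349) (.leaf 3136400615706)) (.node (.leaf 1381369172116) (.leaf 2454037819147))) (.node (.node (.leaf 879931682078) (.leaf 3565897447707)) (.node (.leaf 2675228392334) (.leaf 4111358424347))))) (.node (.node (.node (.node (.node (.leaf 469762160019) (.leaf 4409858722453)) (.leaf 2707977496582)) (.node (.leaf 30064875782) (.leaf 2617246284933))) (.node (.node (.leaf 1837172696727) (.leaf 3459596844034)) (.node (.leaf 2575907250053) (.leaf 4012037281934)))) (.node (.node (.node (.leaf 134754831749) (.leaf 3229279305626)) (.node (.leaf 2334315282048) (.leaf 756988891533))) (.node (.node (.leaf 2068027072024) (.leaf 2672544110465)) (.node (.leaf 2787434439704) (.leaf 4205310856577))))))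
def dF_1133 : BT := .node (.node (.node (.node (.node (.node (.node (.leaf 19327357457) (.leaf 4259534831489)) (.leaf 2830920994057)) (.node (.leaf 336081275934) (.leaf 2900713704350))) (.node (.node (.leaf 114890650250) (.leaf 3267933882374)) (.node (.leaf 2368138157576) (.leaf 3834869838734)))) (.node (.node (.node (.node (.leaf 492847593493) (.leaf 3820911339401)) (.leaf 3078418490263)) (.node (.leaf 1446330581775) (.leaf 2933463529352))) (.node (.node (.leaf 2017024481408) (.leaf 3511673472667)) (.node (.leaf 2633352451332) (.leaf 4051765738894))))) (.node (.node (.node (.node (.node (.leaf 201326678541) (.leaf 4367445911297)) (.leaf 2985002982429)) (.node (.leaf 33286399134) (.leaf 2745558573982))) (.node (.node (.leaf 1616518701568) (.leaf 3395709328015)) (.node (.leaf 2493229109774) (.leaf 3959423920133)))) (.node (.node (.node (.leaf 692026787092) (.leaf 3180424040988)) (.node (.leaf 826781609989) (.leaf 3739306793625))) (.node (.node (.leaf 913217889676) (.leaf 2491618568862)) (.node (.leaf 2729989238425) (.leaf 4151086781450)))))) (.node (.node (.node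 (.node (.node (.node (.leaf 153545132300) (.leaf 4321275001100)) (.leaf 2917357231377)) (.node (.leaf 1289563938206) (.leaf 2674691740416))) (.node (.node (.leaf 843961385496) (.leaf 3323768506243)) (.node (.leaf 2429341456018) (.leaf 3730180026886)))) (.node (.node (.node (.leaf 587873788932) (.leaf 3136400615813)) (.node (.leaf 548682489996) (.leaf 3695819940236))) (.node (.node (.leaf 2175938253464) (.leaf 3562676046596)) (.node (.leaf 2676302134429) (.leaf 4115116521728))))) (.node (.node (.node (.node (.node (.leaf 468151547012) (.leaf 4407711238425)) (.leaf 3032784504977)) (.node (.leaf 46707894400) (.leaf 2488934126604))) (.node (.node (.leaf 1823750924936) (.leaf 3461207594897)) (.node (.leaf 2563022302743) (.leaf 4015258508178)))) (.node (.node (.node (.leaf 976031350029) (.leaf 2463164448514)) (.node (.leaf 2332167797789) (.leaf 3796751994904))) (.node (.node (.leaf 498753246604) (.leaf 2816425384990)) (.node (.leaf 2787971310855) (.leaf 4204773985420))))))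
def dF_1140 : BT := .node (.node (.node (.node (.node (.node (.node (.leaf 43486554517) (.leaf 3923990512772)) (.leaf 2854543319698)) (.node (.leaf 253403364638) (.leaf 2687576489860))) (.node (.node (.leaf 1185948114696) (.leaf 3279745170710)) (.node (.leaf 2365453803909) (.leaf 3859029035536)))) (.node (.node (.node (.node (.leaf 408558883220) (.leaf 4432944179989)) (.leaf 3085397866904)) (.node (.leaf 1954747456655) (.leaf 3233037499523))) (.node (.node (.leaf 2028298789255) (.leaf 2335926169484)) (.node (.leaf 2631741838099) (.leaf 4059818803351))))) (.node (.node (.node (.node (.node (.leaf 344671218584) (.leaf 4047470849031)) (.leaf 2991445434904)) (.node (.leaf 10737423006) (.leaf 2848100784542))) (.node (.node (.leaf 1640141025685) (.leaf 3402151780505)) (.node (.leaf 2512019596177) (.leaf 3956202693776)))) (.node (.node (.node (.leaf 769873071389) (.leaf 2962991322260)) (.node (.leaf 1696512487561) (.leaf 3744138632986))) (.node (.node (.leaf 688805413275) (.leaf 2822330945292)) (.node (.leaf 2746632240773) (.leaf 4170951109788)))))) (.node (.node (.node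 (.node (.node (.node (.leaf 238907612932) (.leaf 3878893372033)) (.leaf 2819109843971)) (.node (.leaf 441845290526) (.leaf 2813741250444))) (.node (.node (.leaf 1348083188248) (.leaf 3335042900504)) (.node (.leaf 2434173295389) (.leaf 3906810558096)))) (.node (.node (.node (.leaf 621159678489) (.leaf 3141232455056)) (.node (.leaf 1277216274452) (.leaf 3698504562688))) (.node (.node (.leaf 890669091333) (.leaf 2700998411038)) (.node (.leaf 2644626707230) (.leaf 4108137198099))))) (.node (.node (.node (.node (.node (.leaf 447750452891) (.leaf 4412005739913)) (.leaf 2831457910784)) (.node (.leaf 710280299276) (.leaf 2525978321794))) (.node (.node (.leaf 1839320183557) (.leaf 3471945015812)) (.node (.leaf 2573759765779) (.leaf 4010963476609)))) (.node (.node (.node (.leaf 991600811653) (.leaf 3232500363030)) (.node (.leaf 2336462766104) (.leaf 3799972984713))) (.node (.node (.leaf 1984275384859) (.leaf 2440079067276)) (.node (.leaf 2551211238933) (.leaf 4209068953741))))))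
def dF_1151 : BT := .node (.node (.node (.node (.node (.node (.node (.leaf 6442452499) (.leaf 4247723668496)) (.leaf 2844342769938)) (.node (.leaf 253403322782) (.leaf 2580202218245))) (.node (.node (.leaf 1114007412485) (.leaf 3272765859854)) (.node (.leaf 2364380060187) (.leaf 3834332967705)))) (.node (.node (.node (.node (.leaf 353798037012) (.leaf 4437776016647)) (.leaf 3070365424663)) (.node (.leaf 1771137560984) (.leaf 3628711359387))) (.node (.node (.leaf 1976222298259) (.leaf 3508452240660)) (.node (.leaf 2583960323093) (.leaf 4042101844874))))) (.node (.node (.node (.node (.node (.leaf 360777338896) (.leaf 4364761555226)) (.leaf 2978023619733)) (.node (.leaf 169651458313) (.leaf 3170760283523))) (.node (.node (.leaf 1576253373579) (.leaf 2524904705671)) (.node (.leaf 2492692238851) (.leaf 3952444596505)))) (.node (.node (.node (.leaf 750008843008) (.leaf 3172907846424)) (.node (.leaf 331786662153) (.leaf 3736085562903))) (.node (.node (.leaf 2239825451930) (.leaf 3023657749003)) (.node (.leaf 2725157399056) (.leaf 3555160166668)))))) (.node (.node (.node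 (.node (.node (.node (.leaf 193273574532) (.leaf 4305168869777)) (.leaf 2870649463043)) (.node (.leaf 1060320330892) (.leaf 3470871279371))) (.node (.node (.leaf 1327682079755) (.leaf 3320547382427)) (.node (.leaf 2428267714049) (.leaf 3903589331866)))) (.node (.node (.node (.leaf 140660312704) (.leaf 3129421292186)) (.node (.leaf 1061930992778) (.leaf 3047817045260))) (.node (.node (.leaf 861678294915) (.leaf 1325535130502)) (.node (.leaf 2671470295058) (.leaf 4003447368838))))) (.node (.node (.node (.node (.node (.leaf 446676630935) (.leaf 4402879399064)) (.leaf 3029563278747)) (.node (.leaf 329102060446) (.leaf 2929168394248))) (.node (.node (.leaf 1818918742159) (.leaf 3404299276821)) (.node (.leaf 2395518622476) (.leaf 2534568533768)))) (.node (.node (.node (.leaf 937376702863) (.leaf 3224984337308)) (.node (.leaf 2328946571537) (.leaf 3787625176075))) (.node (.node (.leaf 751082433921) (.leaf 2809983114371)) (.node (.leaf 2785823826579) (.leaf 4183835676168))))))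
def dF_1158 : BT := .node (.node (.node (.node (.node (.node (.node (.leaf 91804947857) (.leaf 3703873437060)) (.leaf 2852395835545)) (.node (.leaf 945429681566) (.leaf 2516851637388))) (.node (.node (.leaf 1163936415245) (.leaf 2566243557254)) (.node (.leaf 1832877858433) (.leaf 3691525306518)))) (.node (.node (.node (.node (.leaf 437012952212) (.leaf 4440997242908)) (.leaf 2405719290119)) (.node (.leaf 1180579416974) (.leaf 3247533013505))) (.node (.node (.leaf 2018098239764) (.leaf 3513820956815)) (.node (.leaf 2632815580188) (.leaf 3979825035781))))) (.node (.node (.node (.node (.node (.leaf 151934557059) (.leaf 4367445910417)) (.leaf 2983929240345)) (.node (.leaf 92878689944) (.leaf 2688650248734))) (.node (.node (.leaf 1625108638213) (.leaf 3395172309382)) (.node (.leaf 2510945854220) (.leaf 3968550727696)))) (.node (.node (.node (.leaf 761820006026) (.leaf 3179350298904)) (.node (.leaf 1899986623508) (.leaf 3739306793861))) (.node (.node (.leaf 748398533272) (.leaf 2913599137286)) (.node (.leaf 2734821077776) (.leaf 4148939397136)))))) (.node (.node (.node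 (.node (.node (.node (.leaf 226022707969) (.leaf 4276177845908)) (.leaf 2916820360334)) (.node (.leaf 346282204937) (.leaf 3404299264641))) (.node (.node (.leaf 1355599376133) (.leaf 3315715440643)) (.node (.leaf 2416456551058) (.leaf 3904663074048)))) (.node (.node (.node (.leaf 599684951820) (.leaf 3093450944662)) (.node (.leaf 1511828821123) (.leaf 3678103499137))) (.node (.node (.leaf 13958646942) (.leaf 824634570627)) (.node (.leaf 2678449618585) (.leaf 4117264005788))))) (.node (.node (.node (.node (.node (.leaf 479425838748) (.leaf 4408784980103)) (.leaf 3033858247055)) (.node (.leaf 31138543628) (.leaf 3129958109854))) (.node (.node (.leaf 1824824667274) (.leaf 3457449497626)) (.node (.leaf 2565706657940) (.leaf 4017942863377)))) (.node (.node (.node (.leaf 962609774738) (.leaf 3233574274053)) (.node (.leaf 1843078397204) (.leaf 3797825504266))) (.node (.node (.leaf 619012639494) (.leaf 2925410449280)) (.node (.leaf 2792803150108) (.leaf 4206384598426))))))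
def dF_1166 : BT := .node (.node (.node (.node (.node (.node (.node (.leaf 536871582) (.leaf 2578055133323)) (.leaf 2841121543694)) (.node (.leaf 51002920602) (.leaf 2520072793502))) (.node (.node (.leaf 1151588363673) (.leaf 3266860068483)) (.node (.leaf 2367064415385) (.leaf 2670933702942)))) (.node (.node (.node (.node (.leaf 351113681799) (.leaf 4439386629775)) (.leaf 3079492285464)) (.node (.leaf 630286600974) (.leaf 3633006327706))) (.node (.node (.leaf 2007360818692) (.leaf 3075734290306)) (.node (.leaf 2413235374102) (.leaf 3558918237726))))) (.node (.node (.node (.node (.node (.leaf 344671207687) (.leaf 4366372168349)) (.leaf 2974802393494)) (.node (.leaf 168577716484) (.leaf 2690260919454))) (.node (.node (.leaf 1597728215173) (.leaf 3395709328028)) (.node (.leaf 2499671562258) (.leaf 3954591890569)))) (.node (.node (.node (.leaf 758061908482) (.leaf 2953327643540)) (.node (.leaf 617401584781) (.leaf 3738233051537))) (.node (.node (.leaf 2094333678106) (.leaf 3342022224010)) (.node (.leaf 2735357948829) (.leaf 4152160623388)))))) (.node (.node (.node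 (.node (.node (.node (.leaf 210453447809) (.leaf 3921843042206)) (.leaf 2914136005145)) (.node (.leaf 2278480239390) (.leaf 2959770126848))) (.node (.node (.leaf 115427566878) (.leaf 3322157995537)) (.node (.leaf 2419677777306) (.leaf 3900904976655)))) (.node (.node (.node (.leaf 10737555596) (.leaf 2904472379650)) (.node (.leaf 1070520728834) (.leaf 3686693370119))) (.node (.node (.leaf 2110440057238) (.leaf 2798172042505)) (.node (.leaf 2486786700807) (.leaf 4002373627156))))) (.node (.node (.node (.node (.node (.leaf 458487868179) (.leaf 4406100625280)) (.leaf 2844342816023)) (.node (.leaf 439160515358) (.leaf 2388539299211))) (.node (.node (.leaf 1767379478156) (.leaf 3452080763542)) (.node (.leaf 2558190505617) (.leaf 4005594829466)))) (.node (.node (.node (.leaf 955093580176) (.leaf 3227131652629)) (.node (.leaf 2327335959303) (.leaf 3797825736977))) (.node (.node (.leaf 450434869662) (.leaf 2639794850206)) (.node (.leaf 2782602543508) (.leaf 4200479016978))))))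
def dF_1173 : BT := .node (.node (.node (.node (.node (.node (.node (.leaf 48855264659) (.leaf 4255239863057)) (.leaf 2844879644173)) (.node (.leaf 919660361758) (.leaf 2577517805193))) (.node (.node (.leaf 1178968803858) (.leaf 3278134570266)) (.node (.leaf 2370822145031) (.leaf 2675765544203)))) (.node (.node (.node (.node (.leaf 41876039171) (.leaf 4443144727040)) (.leaf 3084324124828)) (.node (.leaf 826244530575) (.leaf 2651606301442))) (.node (.node (.leaf 2024540692224) (.leaf 1695438936862)) (.node (.leaf 2629594353944) (.leaf 4056060707225))))) (.node (.node (.node (.node (.node (.leaf 374199062421) (.leaf 4375498976027)) (.leaf 2820720483348)) (.node (.leaf 624381019545) (.leaf 2743947829525))) (.node (.node (.leaf 1633161704449) (.leaf 2995740499332)) (.node (.leaf 2508798369945) (.leaf 3956202693784)))) (.node (.node (.node (.leaf 756988168704) (.leaf 2959770096020)) (.node (.leaf 1824287555714) (.leaf 2410014416267))) (.node (.node (.leaf 1392643180696) (.leaf 2435783988638)) (.node (.leaf 2729989181831) (.leaf 4157529333893)))))) (.node (.node (.node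 (.node (.node (.node (.leaf 19864278158) (.leaf 4323959344150)) (.leaf 2926484039058)) (.node (.leaf 331786254996) (.leaf 2869038761991))) (.node (.node (.leaf 1367410538627) (.leaf 3326452827138)) (.node (.leaf 2429877896707) (.leaf 3736085605893)))) (.node (.node (.node (.leaf 620086051228) (.leaf 3135326873624)) (.node (.leaf 1384053526036) (.leaf 1904282006274))) (.node (.node (.leaf 958314827274) (.leaf 3568044931972)) (.node (.leaf 2681133973774) (.leaf 4114042779544))))) (.node (.node (.node (.node (.node (.leaf 469762160017) (.leaf 4410395593625)) (.leaf 2841121589780)) (.node (.leaf 348966181388) (.leaf 3049427526145))) (.node (.node (.leaf 1829656506390) (.leaf 3405909889942)) (.node (.leaf 2575370378909) (.leaf 3925064195717)))) (.node (.node (.node (.leaf 221727922070) (.leaf 3233574273938)) (.node (.leaf 1838783430529) (.leaf 3798362544131))) (.node (.node (.leaf 672699733516) (.leaf 3255585908741)) (.node (.leaf 2786897568658) (.leaf 4204237114254))))))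
def dF_1182 : BT := .node (.node (.node (.node (.node (.node (.node (.leaf 16106131219) (.leaf 4243965571219)) (.leaf 2842732156817)) (.node (.leaf 897648697758) (.leaf 2317672384158))) (.node (.node (.leaf 1143535315328) (.leaf 3270618362902)) (.node (.leaf 2364916636803) (.leaf 3848828485901)))) (.node (.node (.node (.node (.leaf 439160436372) (.leaf 4438312887707)) (.leaf 3080029156609)) (.node (.leaf 1771674432015) (.leaf 2711735842053))) (.node (.node (.leaf 1993939042692) (.leaf 2855617217026)) (.node (.leaf 2615098786069) (.leaf 4042102002313))))) (.node (.node (.node (.node (.node (.leaf 359166673045) (.leaf 4103305421570)) (.leaf 2801393125893)) (.node (.leaf 91804947867) (.leaf 3374771243806))) (.node (.node (.leaf 1506460156300) (.leaf 3389266875652)) (.node (.leaf 2494302851868) (.leaf 760747025031)))) (.node (.node (.node (.leaf 118648651418) (.leaf 3171297233294)) (.node (.leaf 1696512108555) (.leaf 3733400911625))) (.node (.node (.leaf 1366336797078) (.leaf 3325915876491)) (.node (.leaf 2728378582037) (.leaf 4135517598854)))))) (.node (.node (.node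 (.node (.node (.node (.leaf 190589219219) (.leaf 4312685064452)) (.leaf 2918967844506)) (.node (.leaf 2021318995358) (.leaf 2728378576393))) (.node (.node (.leaf 1334661405581) (.leaf 3314641800984)) (.node (.leaf 2421288390429) (.leaf 3901978718735)))) (.node (.node (.node (.leaf 569620173469) (.leaf 3129421292175)) (.node (.leaf 1107027947671) (.leaf 3688304044933))) (.node (.node (.leaf 2163590245262) (.leaf 3558918124683)) (.node (.leaf 2670396545428) (.leaf 4100620915476))))) (.node (.node (.node (.node (.node (.leaf 142807770628) (.leaf 4399121303061)) (.leaf 3027952665624)) (.node (.leaf 1103269987206) (.leaf 2739116033160))) (.node (.node (.leaf 1824287793939) (.leaf 3015067865347)) (.node (.leaf 2561948602898) (.leaf 4007205442589)))) (.node (.node (.node (.leaf 948651127812) (.leaf 3224447466257)) (.node (.leaf 2330020313617) (.leaf 3782256478357))) (.node (.node (.leaf 1355599568793) (.leaf 1130650734082)) (.node (.leaf 2785286898711) (.leaf 4202626501147))))))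
def dF_1189 : BT := .node (.node (.node (.node (.node (.node (.node (.leaf 34896617616) (.leaf 4253092380062)) (.leaf 2851858964496)) (.node (.leaf 316217184670) (.leaf 3029563232798))) (.node (.node (.leaf 135291749256) (.leaf 3277060828293)) (.node (.leaf 2370285641227) (.leaf 3675956052766)))) (.node (.node (.node (.node (.leaf 24159305347) (.leaf 4442070984598)) (.leaf 3090766577413)) (.node (.leaf 696321738895) (.leaf 3634616940815))) (.node (.node (.leaf 2019171982465) (.leaf 2753074822669)) (.node (.leaf 2631204967067) (.leaf 4047470773524))))) (.node (.node (.node (.node (.node (.leaf 368293533457) (.leaf 3768297974273)) (.leaf 2985539853454)) (.node (.leaf 17716827788) (.leaf 2898029873803))) (.node (.node (.leaf 20401483904) (.leaf 2714957010439)) (.node (.leaf 2501282175389) (.leaf 3957276435868)))) (.node (.node (.node (.leaf 757525039240) (.leaf 3182571525135)) (.node (.leaf 1835562115721) (.leaf 3679177251712))) (.node (.node (.leaf 2004676011781) (.leaf 2883534366468)) (.node (.leaf 2550674354327) (.leaf 4154308107534)))))) (.node (.node (.node (.node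 (.node (.node (.leaf 228707063056) (.leaf 4327180582424)) (.leaf 2928094652175)) (.node (.leaf 409633054238) (.leaf 3142843070366))) (.node (.node (.leaf 865973104271) (.leaf 3280818937606)) (.node (.leaf 2430415198094) (.leaf 3905736816019)))) (.node (.node (.node (.leaf 608811759389) (.leaf 3140695584026)) (.node (.leaf 1325534597774) (.leaf 3695283118348))) (.node (.node (.leaf 956703992845) (.leaf 3565360576137)) (.node (.leaf 2675765263376) (.leaf 4115653392667))))) (.node (.node (.node (.node (.node (.leaf 474057128339) (.leaf 4409858721795)) (.leaf 2471217424518)) (.node (.leaf 22011718550) (.leaf 2906082952852))) (.node (.node (.leaf 1837172696963) (.leaf 3457986368656)) (.node (.leaf 2572685981317) (.leaf 4016332250254)))) (.node (.node (.node (.leaf 960999161617) (.leaf 3233574273946)) (.node (.leaf 1844689010196) (.leaf 3789235800335))) (.node (.node (.leaf 1856500107802) (.leaf 2925947021571)) (.node (.leaf 2791729408024) (.leaf 3897146953091))))))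
def dF_1197 : BT := .node (.node (.node (.node (.node (.node (.node (.leaf 23622325777) (.leaf 4255239863169)) (.leaf 2830383599111)) (.node (.leaf 933618537624) (.leaf 3178276421893))) (.node (.node (.leaf 1139240331288) (.leaf 2501819228053)) (.node (.leaf 2368138157459) (.leaf 3837554193948)))) (.node (.node (.node (.node (.leaf 131533457539) (.leaf 4440460371859)) (.leaf 3078418543375)) (.node (.leaf 1502702040974) (.leaf 3633006043265))) (.node (.node (.leaf 22549059085) (.leaf 3512210343708)) (.node (.leaf 2629057483012) (.leaf 4051765738906))))) (.node (.node (.node (.node (.node (.leaf 141734007172) (.leaf 4356708493590)) (.leaf 2822867967508)) (.node (.leaf 460098487309) (.leaf 2690797734017))) (.node (.node (.leaf 1612223733248) (.leaf 3396783070097)) (.node (.leaf 2497524078094) (.leaf 3726421883651)))) (.node (.node (.node (.leaf 760746263709) (.leaf 3184182138267)) (.node (.leaf 828929092356) (.leaf 3278134680203))) (.node (.node (.leaf 912680999070) (.leaf 2496450602124)) (.node (.leaf 2734284206745) (.leaf 4152160623375)))))) (.node (.node (.node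 (.node (.node (.node (.leaf 214748416028) (.leaf 4312148193309)) (.leaf 2909304165778)) (.node (.leaf 30601677470) (.leaf 2643016150400))) (.node (.node (.leaf 1338956363418) (.leaf 3315715543055)) (.node (.leaf 2418067164185) (.leaf 3898757486726)))) (.node (.node (.node (.leaf 583578820612) (.leaf 2779918329221)) (.node (.leaf 1067299508119) (.leaf 3359202097417))) (.node (.node (.leaf 90194832024) (.leaf 3562139350427)) (.node (.leaf 2680597102749) (.leaf 4110821553408))))) (.node (.node (.node (.node (.node (.leaf 464393375895) (.leaf 2507725080841)) (.leaf 3037079473297)) (.node (.leaf 150860737557) (.leaf 2877091964548))) (.node (.node (.leaf 1831267117459) (.leaf 3458523239813)) (.node (.leaf 2567317271063) (.leaf 4003984216345)))) (.node (.node (.node (.leaf 969589098892) (.leaf 2518462062983)) (.node (.leaf 701690838022) (.leaf 3796751660301))) (.node (.node (.leaf 703837884958) (.leaf 2621004372757)) (.node (.leaf 2727304896791) (.leaf 4081830545034))))))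
def dF_1204 : BT := .node (.node (.node (.node (.node (.node (.node (.leaf 44023425556) (.leaf 4202626515072)) (.leaf 2854006448665)) (.node (.leaf 748398082945) (.leaf 2331631152259))) (.node (.node (.leaf 16106409856) (.leaf 3276523957136)) (.node (.leaf 2371359383697) (.leaf 3568045000990)))) (.node (.node (.node (.node (.leaf 408021904518) (.leaf 3747360025355)) (.leaf 3089692835224)) (.node (.leaf 2024003820814) (.leaf 3372623936513))) (.node (.node (.leaf 2023466950676) (.leaf 2593087093005)) (.node (.leaf 2634963064335) (.leaf 3505231150729))))) (.node (.node (.node (.node (.node (.leaf 388157762049) (.leaf 4353487268887)) (.leaf 2991982305947)) (.node (.leaf 19864621086) (.leaf 2564632964356))) (.node (.node (.leaf 1639067283734) (.leaf 3402688651546)) (.node (.leaf 2503966530578) (.leaf 3956202302215)))) (.node (.node (.node (.leaf 769336200459) (.leaf 2380486381056)) (.node (.leaf 1837172410509) (.leaf 2942590361353))) (.node (.node (.leaf 945429876759) (.leaf 3015604522114)) (.node (.leaf 2742337272453) (.leaf 4171487980815)))))) (.node (.node (.node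 (.node (.node (.node (.leaf 234612644612) (.leaf 4329864937740)) (.leaf 2542621324038)) (.node (.leaf 694711229193) (.leaf 2646774201749))) (.node (.node (.leaf 448824410381) (.leaf 3334506029467)) (.node (.leaf 2437394521625) (.leaf 3349538551436)))) (.node (.node (.node (.leaf 614180469777) (.leaf 3134790002578)) (.node (.leaf 1272384214912) (.leaf 3697967723539))) (.node (.node (.leaf 905164605961) (.leaf 2687576639501)) (.node (.leaf 2645163621653) (.leaf 4112432166419))))) (.node (.node (.node (.node (.node (.leaf 471909644162) (.leaf 3833259363595)) (.leaf 3026342006421)) (.node (.leaf 21475026846) (.leaf 2525441394069))) (.node (.node (.leaf 1838783312279) (.leaf 3467650047492)) (.node (.leaf 2578054734099) (.leaf 4013647821826)))) (.node (.node (.node (.leaf 993211424136) (.leaf 3230353047694)) (.node (.leaf 1833414721684) (.leaf 3522410959637))) (.node (.node (.leaf 945429833487) (.leaf 2927020907038)) (.node (.leaf 2552821852054) (.leaf 3938486012680))))))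
def dF_1214 : BT := .node (.node (.node (.node (.node (.node (.node (.leaf 24159196818) (.leaf 4079146202133)) (.leaf 2835752833298)) (.node (.leaf 519691275422) (.leaf 2522757026061))) (.node (.node (.leaf 1136555985943) (.leaf 3272765678228)) (.node (.leaf 2365453802255) (.leaf 3840238549261)))) (.node (.node (.node (.node (.leaf 131533457559) (.leaf 2934000592265)) (.leaf 3069291728661)) (.node (.leaf 1836098956814) (.leaf 2483028833054))) (.node (.node (.leaf 1927903918465) (.leaf 3505767891217)) (.node (.leaf 2522220159747) (.leaf 4031901446918))))) (.node (.node (.node (.node (.node (.leaf 350039918096) (.leaf 4365298426266)) (.leaf 2970507425173)) (.node (.leaf 93952432025) (.leaf 2683818332929))) (.node (.node (.leaf 1579474581903) (.leaf 3309273107860)) (.node (.leaf 2500208433295) (.leaf 3859565928981)))) (.node (.node (.node (.leaf 748398229778) (.leaf 3172370975378)) (.node (.leaf 819801887626) (.leaf 3615826481801))) (.node (.node (.leaf 2245731560478) (.leaf 2877628770189)) (.node (.leaf 2543158159767) (.leaf 2396592739979)))))) (.node (.node (.node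 (.node (.node (.node (.leaf 200252875931) (.leaf 4304631998721)) (.leaf 2915209747229)) (.node (.leaf 12348033945) (.leaf 2500745293578))) (.node (.node (.leaf 1330366232587) (.leaf 3323231737624)) (.node (.leaf 2429878327069) (.leaf 3903052460816)))) (.node (.node (.node (.leaf 565862076292) (.leaf 3130495034259)) (.node (.leaf 533649941505) (.leaf 2849711679754))) (.node (.node (.leaf 2016487660804) (.leaf 3559454995224)) (.node (.leaf 2672544037134) (.leaf 4102231528449))))) (.node (.node (.node (.node (.node (.leaf 441307920535) (.leaf 4404490012318)) (.leaf 3036542602264)) (.node (.leaf 1173063473694) (.leaf 2388002385931))) (.node (.node (.leaf 1822139905420) (.leaf 3453691400346)) (.node (.leaf 2570538539538) (.leaf 4015795379229)))) (.node (.node (.node (.leaf 936303094788) (.leaf 3223910595224)) (.node (.leaf 2329483442587) (.leaf 2392834557953))) (.node (.node (.leaf 1232655727897) (.leaf 826244983454)) (.node (.leaf 2785286955546) (.leaf 4202626063757))))))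
def dF_1221 : BT := .node (.node (.node (.node (.node (.node (.node (.leaf 46170909456) (.leaf 4080756817054)) (.leaf 2848637738266)) (.node (.leaf 841813682846) (.leaf 2849711570701))) (.node (.node (.leaf 1080184553882) (.leaf 2943126980739)) (.node (.leaf 48855817995) (.leaf 2678986769548)))) (.node (.node (.node (.node (.leaf 124554155651) (.leaf 4440997243016)) (.leaf 3082176640773)) (.node (.leaf 1191853708815) (.leaf 3635153745795))) (.node (.node (.leaf 2021856336659) (.leaf 3519189667341)) (.node (.leaf 2624225643548) (.leaf 4056060707340))))) (.node (.node (.node (.node (.node (.leaf 372588501779) (.leaf 4373888362895)) (.leaf 2983392369298)) (.node (.leaf 26) (.leaf 2446521345541))) (.node (.node (.leaf 1629403599111) (.leaf 3392487940611)) (.node (.leaf 2509872112029) (.leaf 3966402886923)))) (.node (.node (.node (.leaf 763430618909) (.leaf 3181497783059)) (.node (.leaf 1962800491543) (.leaf 3740917406739))) (.node (.node (.leaf 818728636167) (.leaf 2641942359178)) (.node (.leaf 2733747335694) (.leaf 4154308107548)))))) (.node (.node (.node (.node (.node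 (.node (.leaf 102005528856) (.leaf 4322885614108)) (.leaf 2909304156692)) (.node (.leaf 2151241748254) (.leaf 2790118945438))) (.node (.node (.leaf 1363115570566) (.leaf 2831994853892)) (.node (.leaf 2423435874577) (.leaf 3773129700500)))) (.node (.node (.node (.leaf 606127404812) (.leaf 3137474357788)) (.node (.leaf 1313723466134) (.leaf 3695283347974))) (.node (.node (.leaf 469225288862) (.leaf 3564823705619)) (.node (.leaf 2681670844816) (.leaf 4108674069148))))) (.node (.node (.node (.node (.node (.leaf 479425838726) (.leaf 4409858721799)) (.leaf 3025268310415)) (.node (.leaf 1212254601996) (.leaf 3078418515588))) (.node (.node (.leaf 1766842609036) (.leaf 3460670723859)) (.node (.leaf 2381559975575) (.leaf 4009352926737)))) (.node (.node (.node (.leaf 969589098257) (.leaf 3234648016028)) (.node (.leaf 98247933325) (.leaf 3789772612502))) (.node (.node (.leaf 40265807262) (.leaf 1903208020098)) (.node (.leaf 2792266279067) (.leaf 3892851985798))))))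
def dF_1229 : BT := .node (.node (.node (.node (.node (.node (.node (.leaf 5905581457) (.leaf 4248260483988)) (.leaf 2832531607054)) (.node (.leaf 24696152728) (.leaf 2404645388037))) (.node (.node (.leaf 1151051509776) (.leaf 3265249652502)) (.node (.leaf 2367601286417) (.leaf 3837554193938)))) (.node (.node (.node (.node (.leaf 350039865350) (.leaf 4435628533517)) (.leaf 3078955414418)) (.node (.leaf 644245248014) (.leaf 3631932581766))) (.node (.node (.leaf 230854972442) (.leaf 3512747214861)) (.node (.leaf 2619930675460) (.leaf 4052302571397))))) (.node (.node (.node (.node (.node (.leaf 346818691842) (.leaf 4372277749893)) (.leaf 2981244885252)) (.node (.leaf 19864281118) (.leaf 3289945253004))) (.node (.node (.leaf 1603633796609) (.leaf 3394635585944)) (.node (.leaf 2498597820176) (.leaf 3955665822735)))) (.node (.node (.node (.leaf 759672521619) (.leaf 3180424041093)) (.node (.leaf 1900523494532) (.leaf 3738769922575))) (.node (.node (.leaf 969589385753) (.leaf 2421288638337)) (.node (.leaf 2734821077786) (.leaf 4151086881304)))))) (.node (.node (.node (.node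 (.node (.node (.leaf 105226749580) (.leaf 4051765800972)) (.leaf 2917894102418)) (.node (.leaf 689879286415) (.leaf 3047280042240))) (.node (.node (.leaf 1334124242456) (.leaf 3324305479695)) (.node (.leaf 2426657100825) (.leaf 3900904976657)))) (.node (.node (.node (.leaf 10737556106) (.leaf 2469069947906)) (.node (.leaf 1436130049920) (.leaf 3691525077762))) (.node (.node (.leaf 2174864567680) (.leaf 3562139350027)) (.node (.leaf 2682744583053) (.leaf 4103842229789))))) (.node (.node (.node (.node (.node (.leaf 456340310039) (.leaf 4406637496349)) (.leaf 3031710762899)) (.node (.leaf 1622960849665) (.leaf 3568044807302))) (.node (.node (.leaf 1829119633418) (.leaf 3249680452866)) (.node (.leaf 2563022344974) (.leaf 4012574152985)))) (.node (.node (.node (.leaf 963146645900) (.leaf 2516851579522)) (.node (.leaf 1838783429504) (.leaf 2831994964894))) (.node (.node (.leaf 2149094410117) (.leaf 2672007083522)) (.node (.leaf 2723009928471) (.leaf 4150013151127))))))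
def dF_1236 : BT := .node (.node (.node (.node (.node (.node (.node (.leaf 32212262419) (.leaf 4261145051144)) (.leaf 2857764545946)) (.node (.leaf 124554082846) (.leaf 2517388272003))) (.node (.node (.leaf 1175747577616) (.leaf 2517925359125)) (.node (.leaf 2364380061972) (.leaf 3106872887937)))) (.node (.node (.node (.node (.leaf 48855372309) (.leaf 4442607856276)) (.leaf 3087008480027)) (.node (.leaf 2025614433934) (.leaf 1832341289869))) (.node (.node (.leaf 2027225045891) (.leaf 2588792156062)) (.node (.leaf 2621004417304) (.leaf 4052839480987))))) (.node (.node (.node (.node (.node (.leaf 379567825409) (.leaf 4374961376396)) (.leaf 2815888647053)) (.node (.leaf 1692217530654) (.leaf 2388539328901))) (.node (.node (.leaf 1637993543057) (.leaf 3150896194182)) (.node (.leaf 2512556467218) (.leaf 3964792630424)))) (.node (.node (.node (.leaf 767725587217) (.leaf 2466385727134)) (.node (.leaf 1828582350476) (.leaf 3625490161160))) (.node (.node (.leaf 401042686220) (.leaf 2784750084490)) (.node (.leaf 2733747292437) (.leaf 4166119270533)))))) (.node (.node (.node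 (.node (.node (.node (.leaf 220117076751) (.leaf 4321274867604)) (.leaf 2926484039054)) (.node (.leaf 1149440901150) (.leaf 2977486776320))) (.node (.node (.leaf 303332392845) (.leaf 3337727255707)) (.node (.leaf 2431488940292) (.leaf 3630322038274)))) (.node (.node (.node (.leaf 615254211859) (.leaf 3143379939218)) (.node (.leaf 1269163208215) (.leaf 2486250075008))) (.node (.node (.leaf 890132223617) (.leaf 3576634868612)) (.node (.leaf 2443837030676) (.leaf 4105452842904))))) (.node (.node (.node (.node (.node (.leaf 21474950166) (.leaf 2389613481098)) (.leaf 2838974105623)) (.node (.leaf 530965741342) (.leaf 2906619844613))) (.node (.node (.leaf 1839320179605) (.leaf 3360275863063)) (.node (.leaf 2578591605145) (.leaf 2870649723656)))) (.node (.node (.node (.leaf 14495750788) (.leaf 3231963660817)) (.node (.leaf 2335388650755) (.leaf 2658585661834))) (.node (.node (.leaf 678068227866) (.leaf 1846836566786)) (.node (.leaf 2792266279054) (.leaf 4203700243218))))))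
def dF_1245 : BT := .node (.node (.node (.node (.node (.node (.node (.leaf 82678140178) (.leaf 4250944894852)) (.leaf 2834142220177)) (.node (.leaf 75698798616) (.leaf 2403571730949))) (.node (.node (.leaf 1152125234048) (.leaf 3268470878742)) (.node (.leaf 2366527434112) (.leaf 3457986462085)))) (.node (.node (.node (.node (.leaf 439697360149) (.leaf 4438849758735)) (.leaf 3078418543388)) (.node (.leaf 1699196841615) (.leaf 3616900200455))) (.node (.node (.leaf 2002528979333) (.leaf 3505767885463)) (.node (.leaf 2403571695892) (.leaf 4033512124673))))) (.node (.node (.node (.node (.node (.leaf 350576736405) (.leaf 4366372168338)) (.leaf 826245040519)) (.node (.leaf 335007749772) (.leaf 2451890074883))) (.node (.node (.leaf 1589138278533) (.leaf 3397856812292)) (.node (.leaf 2493229109786) (.leaf 3954591319181)))) (.node (.node (.node (.leaf 756451295379) (.leaf 3171834091927)) (.node (.leaf 46170936076) (.leaf 3735011526283))) (.node (.node (.leaf 967441470360) (.leaf 3133716272650)) (.node (.leaf 2736431691009) (.leaf 4151086881413)))))) (.node (.node (.node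 (.node (.node (.node (.leaf 202400359195) (.leaf 4135517665292)) (.leaf 2910377907866)) (.node (.leaf 1801738792350) (.leaf 3128347530881))) (.node (.node (.leaf 1343251342220) (.leaf 3320010511379)) (.node (.leaf 2428267713946) (.leaf 3900368105626)))) (.node (.node (.node (.leaf 572304528658) (.leaf 2702608916126)) (.node (.leaf 532039337856) (.leaf 3692062142105))) (.node (.node (.leaf 364535431681) (.leaf 3561065608349)) (.node (.leaf 2435247094039) (.leaf 2743411338634))))) (.node (.node (.node (.node (.node (.leaf 460098481420) (.leaf 4405563754259)) (.leaf 3038153215375)) (.node (.leaf 2192044206357) (.leaf 2701535069316))) (.node (.node (.leaf 1774358799509) (.leaf 3453154529294)) (.node (.leaf 2566780442257) (.leaf 4014184766106)))) (.node (.node (.node (.leaf 956704193297) (.leaf 3223373569667)) (.node (.leaf 1694902024835) (.leaf 3791383284615))) (.node (.node (.leaf 1298154042006) (.leaf 3003256690565)) (.node (.leaf 2784213213457) (.leaf 4202089630104))))))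
def dF_1252 : BT := .node (.node (.node (.node (.node (.node (.node (.leaf 93952432129) (.leaf 4253092378904)) (.leaf 2753074715522)) (.node (.leaf 578210127006) (.leaf 3279744973854))) (.node (.node (.leaf 1178968803973) (.leaf 3227668705175)) (.node (.leaf 2027225128964) (.leaf 3850439061504)))) (.node (.node (.node (.node (.leaf 24159305365) (.leaf 4406100633997)) (.leaf 3092914061468)) (.node (.leaf 694174254734) (.leaf 2575370631691))) (.node (.node (.leaf 2024540691859) (.leaf 3321084205196)) (.node (.leaf 2622615030427) (.leaf 4054986965149))))) (.node (.node (.node (.node (.node (.leaf 151397633283) (.leaf 4374425233949)) (.leaf 2639258114694)) (.node (.leaf 1598801961758) (.leaf 3032784459013))) (.node (.node (.leaf 1632624833026) (.leaf 3083250455427)) (.node (.leaf 2505040272666) (.leaf 3956739564827)))) (.node (.node (.node (.leaf 759135652103) (.leaf 3128347562517)) (.node (.leaf 1846836419972) (.leaf 3741990866056))) (.node (.node (.leaf 849330091139) (.leaf 3415036543902)) (.node (.leaf 2645163634434) (.leaf 4155381849606)))))) (.node (.node (.node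 (.node (.node (.node (.leaf 220117126416) (.leaf 4057671384222)) (.leaf 2926484039066)) (.node (.leaf 15569260185) (.leaf 3092377118343))) (.node (.node (.leaf 1363115570954) (.leaf 3329674177922)) (.node (.leaf 2421825261454) (.leaf 3767224116232)))) (.node (.node (.node (.leaf 613643598851) (.leaf 3143916810264)) (.node (.leaf 1448478036500) (.leaf 643172233859))) (.node (.node (.leaf 932545011614) (.leaf 3365644597377)) (.node (.leaf 2677375876497) (.leaf 4107063456027))))) (.node (.node (.node (.node (.node (.leaf 465467191699) (.leaf 4406637497109)) (.leaf 2854543255174)) (.node (.leaf 349503047064) (.leaf 2763812226078))) (.node (.node (.leaf 1838246438659) (.leaf 3407520503061)) (.node (.leaf 2567317316237) (.leaf 4007742313614)))) (.node (.node (.node (.leaf 978715906061) (.leaf 3232500531864)) (.node (.leaf 2334852152979) (.leaf 2649995727498))) (.node (.node (.leaf 2122787727387) (.leaf 2672543980554)) (.node (.leaf 2793339964308) (.leaf 4205310856336))))))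
def dF_1260 : BT := .node (.node (.node (.node (.node (.node (.node (.leaf 15032389137) (.leaf 3726422016391)) (.leaf 2846490254212)) (.node (.leaf 467077925406) (.leaf 3226057897630))) (.node (.node (.leaf 1156957091340) (.leaf 2743947828871)) (.node (.leaf 2368675028497) (.leaf 3002183054219)))) (.node (.node (.node (.node (.leaf 125091026695) (.leaf 4440997234817)) (.leaf 3077344691206)) (.node (.leaf 1313723434895) (.leaf 3630321753481))) (.node (.node (.leaf 2018635096969) (.leaf 3511136601624)) (.node (.leaf 2356863932295) (.leaf 4048007478024))))) (.node (.node (.node (.node (.node (.leaf 365072307341) (.leaf 4373351491865)) (.leaf 2986613595546)) (.node (.leaf 1969779523226) (.leaf 2889976718742))) (.node (.node (.leaf 1542967386903) (.leaf 3396783058580)) (.node (.leaf 2502355917581) (.leaf 3963718888453)))) (.node (.node (.node (.leaf 695784883712) (.leaf 3182034654107)) (.node (.leaf 1840930824842) (.leaf 2326799424259))) (.node (.node (.leaf 2004139557016) (.leaf 3201898866974)) (.node (.leaf 2735894819858) (.leaf 3747359955456)))))) (.node (.node (.node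 (.node (.node (.node (.leaf 170188131073) (.leaf 4325569969421)) (.leaf 2913062263057)) (.node (.leaf 20938399646) (.leaf 2822868006529))) (.node (.node (.leaf 1348620052508) (.leaf 2509335434758)) (.node (.leaf 2425046487698) (.leaf 2617246626819)))) (.node (.node (.node (.leaf 592168757252) (.leaf 3140695584133)) (.node (.leaf 1104343883926) (.leaf 3693135585805))) (.node (.node (.leaf 987842742404) (.leaf 3563213092495)) (.node (.leaf 2679523360667) (.leaf 4119411490048))))) (.node (.node (.node (.node (.node (.leaf 472446515332) (.leaf 4406100625803)) (.leaf 3028489536657)) (.node (.leaf 30601690755) (.leaf 2418604142337))) (.node (.node (.leaf 1824824666885) (.leaf 3461207594905)) (.node (.leaf 2559264223746) (.leaf 4010963539858)))) (.node (.node (.node (.leaf 973347195538) (.leaf 2952790695430)) (.node (.leaf 2332704668817) (.leaf 2542621544328))) (.node (.node (.leaf 616864689036) (.leaf 2676302078110)) (.node (.leaf 2792266279180) (.leaf 4206921469457))))))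
def dF_1267 : BT := .node (.node (.node (.node (.node (.node (.node (.leaf 96099915271) (.leaf 4021701018775)) (.leaf 2855080190737)) (.node (.leaf 1951525990686) (.leaf 3042984879875))) (.node (.node (.leaf 1187558740618) (.leaf 3278671259796)) (.node (.leaf 2370822513045) (.leaf 3857418422417)))) (.node (.node (.node (.node (.leaf 48855264647) (.leaf 4444218469123)) (.leaf 2666101686403)) (.node (.leaf 1896765384334) (.leaf 3638375038107))) (.node (.node (.leaf 1954210603286) (.leaf 2588792155909)) (.node (.leaf 2627446869779) (.leaf 4055523833118))))) (.node (.node (.node (.node (.node (.leaf 389231416725) (.leaf 4376035633544)) (.leaf 2650532406022)) (.node (.leaf 1635845818398) (.leaf 2884607714188))) (.node (.node (.leaf 1642288491655) (.leaf 3403762393617)) (.node (.leaf 2507724627857) (.leaf 3958886808328)))) (.node (.node (.node (.leaf 704374820352) (.leaf 3185792751493)) (.node (.leaf 1692754389654) (.leaf 3746286117253))) (.node (.node (.leaf 976031644679) (.leaf 3255048992133)) (.node (.leaf 2750927209093) (.leaf 4166656141468)))))) (.node (.node (.node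 (.node (.node (.node (.leaf 243202581253) (.leaf 3853660439179)) (.leaf 2673080943491)) (.node (.leaf 29527907226) (.leaf 2646237547266))) (.node (.node (.leaf 1378147947016) (.leaf 3337190316419)) (.node (.leaf 2435783908506) (.leaf 3906810549377)))) (.node (.node (.node (.leaf 622233523840) (.leaf 3136937486736)) (.node (.leaf 1499480771221) (.leaf 3698504594587))) (.node (.node (.leaf 944356174110) (.leaf 2687039768588)) (.node (.leaf 2644089836038) (.leaf 4119411489936))))) (.node (.node (.node (.node (.node (.leaf 428423099801) (.leaf 4412006206976)) (.leaf 3023657460354)) (.node (.leaf 797253451777) (.leaf 2763812057237))) (.node (.node (.leaf 1840930792340) (.leaf 3374234510087)) (.node (.leaf 2574833507857) (.leaf 3729106310796)))) (.node (.node (.node (.leaf 996432650375) (.leaf 3231426620949)) (.node (.leaf 2336462766097) (.leaf 3800510092161))) (.node (.node (.leaf 2001991937050) (.leaf 2550137426838)) (.node (.leaf 2789045039254) (.leaf 4213363922061))))))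
def dF_1279 : BT := .node (.node (.node (.node (.node (.node (.node (.leaf 5905581458) (.leaf 2417530729483)) (.leaf 2830920993945)) (.node (.leaf 836445312926) (.leaf 2886218791838))) (.node (.node (.leaf 1133334762251) (.leaf 3272228988817)) (.node (.leaf 2364380060179) (.leaf 3834332967697)))) (.node (.node (.node (.node (.leaf 445066070535) (.leaf 4422743631109)) (.leaf 3070902341782)) (.node (.leaf 1763084495384) (.leaf 3627100746268))) (.node (.node (.leaf 1978369782419) (.leaf 3508989111703)) (.node (.leaf 2616709441431) (.leaf 4032438383639))))) (.node (.node (.node (.node (.node (.leaf 346281820819) (.leaf 4364761555218)) (.leaf 2814278030871)) (.node (.leaf 6442639006) (.leaf 2897493099550))) (.node (.node (.leaf 1575179631492) (.leaf 2906083053333)) (.node (.leaf 2487323528334) (.leaf 3904126214407)))) (.node (.node (.node (.leaf 747861358849) (.leaf 3175055330584)) (.node (.leaf 331786228738) (.leaf 3731790599055))) (.node (.node (.leaf 1335734864027) (.leaf 1275606059526)) (.node (.leaf 2727304883216) (.leaf 4141423106304)))))) (.node (.node (.node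 (.node (.node (.node (.leaf 191126090373) (.leaf 4304095118724)) (.leaf 2921652063885)) (.node (.leaf 1060857197342) (.leaf 2592550426369))) (.node (.node (.leaf 1326071468818) (.leaf 3322694866587)) (.node (.leaf 2426120229888) (.leaf 3887483204501)))) (.node (.node (.node (.leaf 552977171217) (.leaf 3131568776346)) (.node (.leaf 539018728734) (.leaf 3681861592325))) (.node (.node (.leaf 40802199044) (.leaf 3553549415172)) (.node (.leaf 2673617779218) (.leaf 4101157874692))))) (.node (.node (.node (.node (.node (.leaf 450971599255) (.leaf 4402879397652)) (.leaf 3031710762907)) (.node (.leaf 545461254797) (.leaf 2787434382856))) (.node (.node (.leaf 1370094618907) (.leaf 3455302013457)) (.node (.leaf 2573222765955) (.leaf 4017942863493)))) (.node (.node (.node (.leaf 936302923404) (.leaf 3227131821468)) (.node (.leaf 695785257222) (.leaf 3740917417878))) (.node (.node (.leaf 750008972180) (.leaf 1122060835335)) (.node (.leaf 2785823824141) (.leaf 4183835926666))))))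
def dF_1286 : BT := .node (.node (.node (.node (.node (.node (.node (.leaf 1073742097) (.leaf 4014184825238)) (.leaf 2840047804557)) (.node (.leaf 352724223489) (.leaf 2516851032963))) (.node (.node (.leaf 1163399543821) (.leaf 3215857332487)) (.node (.leaf 2022930161285) (.leaf 3840238549134)))) (.node (.node (.node (.node (.leaf 477815204373) (.leaf 4441534113939)) (.leaf 3047280030100)) (.node (.leaf 1324460855694) (.leaf 3635690451085))) (.node (.node (.leaf 2019171981459) (.leaf 3512210343696)) (.node (.leaf 2634963064348) (.leaf 3740917480478))))) (.node (.node (.node (.node (.node (.leaf 371514759812) (.leaf 4367445489545)) (.leaf 2986076724505)) (.node (.leaf 426812673675) (.leaf 2739116050590))) (.node (.node (.leaf 1622961154052) (.leaf 3346854074902)) (.node (.leaf 2508798370060) (.leaf 3926137925635)))) (.node (.node (.node (.leaf 761820005778) (.leaf 3181497783064)) (.node (.leaf 1841467307144) (.leaf 3739843664645))) (.node (.node (.leaf 125091100172) (.leaf 2807298798622)) (.node (.leaf 2729452367378) (.leaf 4149476268179)))))) (.node (.node (.node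 (.node (.node (.node (.leaf 223875223808) (.leaf 4327717453459)) (.leaf 2918967844494)) (.node (.leaf 157303223710) (.leaf 2762201605899))) (.node (.node (.leaf 1353451891972) (.leaf 3314641739267)) (.node (.leaf 2418604035218) (.leaf 3904126202884)))) (.node (.node (.node (.leaf 597537467660) (.leaf 2722473144454)) (.node (.leaf 1511291745292) (.leaf 3678103498773))) (.node (.node (.leaf 300110911518) (.leaf 2796024559367)) (.node (.leaf 2680597102745) (.leaf 4119411489948))))) (.node (.node (.node (.node (.node (.leaf 478888967813) (.leaf 4408248109467)) (.leaf 3036005731215)) (.node (.leaf 439160409869) (.leaf 2961917611013))) (.node (.node (.leaf 1824287796235) (.leaf 3459596981786)) (.node (.leaf 2563559173780) (.leaf 4004521087378)))) (.node (.node (.node (.leaf 964757258898) (.leaf 3231426789892)) (.node (.leaf 1839320300800) (.leaf 2543158415368))) (.node (.node (.leaf 1807107637406) (.leaf 2415382862340)) (.node (.leaf 2794413763227) (.leaf 4204773985309))))))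
def dF_1294 : BT := .node (.node (.node (.node (.node (.node (.node (.leaf 84288753283) (.leaf 3723200788615)) (.leaf 2843269027854)) (.node (.leaf 50466027550) (.leaf 2611877816705))) (.node (.node (.leaf 1146756541468) (.leaf 2505040454293)) (.node (.leaf 2030446353546) (.leaf 2533494749982)))) (.node (.node (.node (.node (.leaf 442918586375) (.leaf 3830575015562)) (.leaf 3076807930267)) (.node (.leaf 1560147242254) (.leaf 3631932585628))) (.node (.node (.leaf 1350767692813) (.leaf 3308736266247)) (.node (.leaf 2619930675216) (.leaf 3896610041093))))) (.node (.node (.node (.node (.node (.leaf 361314157186) (.leaf 4365835268109)) (.leaf 2972654909334)) (.node (.leaf 498216499213) (.leaf 2452963808644))) (.node (.node (.leaf 1595580731012) (.leaf 3397856812188)) (.node (.leaf 2494302851864) (.leaf 3954592080665)))) (.node (.node (.node (.leaf 755914424726) (.leaf 2738579277957)) (.node (.leaf 346818614551) (.leaf 3738232710790))) (.node (.node (.leaf 1058173049499) (.leaf 3411815225472)) (.node (.leaf 2737505432989) (.leaf 2496987601803)))))) (.node (.node (.node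 (.node (.node (.node (.leaf 208305963648) (.leaf 4320738129948)) (.leaf 2916283489305)) (.node (.leaf 315680103835) (.leaf 3077344773376))) (.node (.node (.leaf 113816954526) (.leaf 3324305479697)) (.node (.leaf 2421825261466) (.leaf 3901441824525)))) (.node (.node (.node (.leaf 517006825475) (.leaf 2961917567766)) (.node (.leaf 532039328775) (.leaf 3691525271068))) (.node (.node (.leaf 195958381315) (.leaf 3561602477963)) (.node (.leaf 2669322754325) (.leaf 2867965390091))))) (.node (.node (.node (.node (.node (.leaf 460635352339) (.leaf 4405563754269)) (.leaf 3037616344330)) (.node (.leaf 17716926110) (.leaf 3061238642186))) (.node (.node (.leaf 1823214052867) (.leaf 2782602759943)) (.node (.leaf 2560337989777) (.leaf 4007742313626)))) (.node (.node (.node (.leaf 950798611858) (.leaf 3224984168469)) (.node (.leaf 2330557184776) (.leaf 3797825402893))) (.node (.node (.leaf 445603031966) (.leaf 2434173290888)) (.node (.leaf 2784213156631) (.leaf 3746823096333))))))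
def dF_1301 : BT := .node (.node (.node (.node (.node (.node (.node (.leaf 46707780499) (.leaf 4255239804041)) (.leaf 2856690803972)) (.node (.leaf 316753874078) (.leaf 2577517702148))) (.node (.node (.leaf 1181116288018) (.leaf 3280282054426)) (.node (.leaf 2364916932630) (.leaf 3853660325148)))) (.node (.node (.node (.node (.leaf 453119136131) (.leaf 4410932472452)) (.leaf 3086471608988)) (.node (.leaf 634044698254) (.leaf 3636227554056))) (.node (.node (.leaf 478352465546) (.leaf 3520800280338)) (.node (.leaf 2631741838104) (.leaf 4058208191385))))) (.node (.node (.node (.node (.node (.leaf 373662188569) (.leaf 4375498976015)) (.leaf 2431489071235)) (.node (.leaf 47244685849) (.leaf 2509335227286))) (.node (.node (.leaf 1635846058899) (.leaf 3388193121940)) (.node (.leaf 2510945854105) (.leaf 3963182017307)))) (.node (.node (.node (.leaf 765578101014) (.leaf 3179887092226)) (.node (.leaf 756988438915) (.leaf 3742528019855))) (.node (.node (.leaf 367756900249) (.leaf 2784213346590)) (.node (.leaf 2675765233159) (.leaf 4104379113092)))))) (.node (.node (.node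 (.node (.node (.node (.leaf 22011762318) (.leaf 4323959356177)) (.leaf 2924336554904)) (.node (.leaf 620622871710) (.leaf 2440615828109))) (.node (.node (.leaf 1370094894213) (.leaf 2898029976199)) (.node (.leaf 2415382808974) (.leaf 3885335680798)))) (.node (.node (.node (.leaf 620086051332) (.leaf 3137474357784)) (.node (.leaf 1382442913172) (.leaf 3696357097480))) (.node (.node (.leaf 958314826113) (.leaf 3566970536333)) (.node (.leaf 2678986489614) (.leaf 4116190263704))))) (.node (.node (.node (.node (.node (.leaf 471909644177) (.leaf 4408784980885)) (.leaf 2692945218178)) (.node (.leaf 1069447379351) (.leaf 2856154010241))) (.node (.node (.leaf 1837709566997) (.leaf 3358128378903)) (.node (.leaf 2577517863069) (.leaf 4018479461128)))) (.node (.node (.node (.leaf 985158358532) (.leaf 3235721758098)) (.node (.leaf 2328946573065) (.leaf 3798899479069))) (.node (.node (.leaf 672162846732) (.leaf 3136937319710)) (.node (.leaf 2789045052818) (.leaf 4204237114244))))))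
def dF_1310 : BT := .node (.node (.node (.node (.node (.node (.node (.leaf 18253615379) (.leaf 4243965153419)) (.leaf 2844879640977)) (.node (.leaf 843424407582) (.leaf 2467459284758))) (.node (.node (.leaf 1141387831169) (.leaf 3271692104982)) (.node (.leaf 2364916931218) (.leaf 3846681001740)))) (.node (.node (.node (.node (.leaf 128312231319) (.leaf 4436165404052)) (.leaf 3077881672448)) (.node (.leaf 1770600689934) (.leaf 2551211438337))) (.node (.node (.leaf 1991791558533) (.leaf 3507378270338)) (.node (.leaf 2405182309015) (.leaf 3959423938820))))) (.node (.node (.node (.node (.node (.leaf 139049652102) (.leaf 2366528021261)) (.leaf 2803540610071)) (.node (.leaf 98247400345) (.leaf 2567854400542))) (.node (.node (.leaf 1581622083981) (.leaf 3387119391493)) (.node (.leaf 2496450336028) (.leaf 2315525186178)))) (.node (.node (.node (.leaf 219580382742) (.leaf 3173444717454)) (.node (.leaf 143881409536) (.leaf 3732327470229))) (.node (.node (.leaf 923955165571) (.leaf 2437931505421)) (.node (.leaf 2726231097877) (.leaf 4057671341831)))))) (.node (.node (.node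 (.node (.node (.node (.leaf 192736703379) (.leaf 4304094991109)) (.leaf 2921115328666)) (.node (.leaf 109521710110) (.leaf 3179350182925))) (.node (.node (.leaf 1332513921420) (.leaf 3316789285144)) (.node (.leaf 2423435874589) (.leaf 3901978694792)))) (.node (.node (.node (.leaf 571767657629) (.leaf 3127273808017)) (.node (.leaf 1106491076628) (.leaf 3361886529924))) (.node (.node (.leaf 2162516503182) (.leaf 2359548507268)) (.node (.leaf 2639794911254) (.leaf 4100621003537))))) (.node (.node (.node (.node (.node (.leaf 435939210135) (.leaf 4404489522060)) (.leaf 3030100149784)) (.node (.leaf 1394253887124) (.leaf 2592550244617))) (.node (.node (.leaf 22012142212) (.leaf 3454765130263)) (.node (.leaf 2564096087058) (.leaf 4009352926749)))) (.node (.node (.node (.leaf 946503643653) (.leaf 3226594950417)) (.node (.leaf 2330020312965) (.leaf 3788698929294))) (.node (.node (.leaf 1970853177754) (.leaf 3339874580638)) (.node (.leaf 2783139471384) (.leaf 3205657217547))))))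
def dF_1317 : BT := .node (.node (.node (.node (.node (.node (.node (.leaf 39191585936) (.leaf 4257924161152)) (.leaf 2849711480338)) (.node (.leaf 88583807117) (.leaf 2029909711902))) (.node (.node (.leaf 1157493939980) (.leaf 2884071320196)) (.node (.leaf 2369748770587) (.leaf 3850439098894)))) (.node (.node (.node (.node (.leaf 389768396311) (.leaf 4442070984979)) (.leaf 3088619093252)) (.node (.leaf 696858609934) (.leaf 3634080069785))) (.node (.node (.leaf 2022930078739) (.leaf 3474092290957)) (.node (.leaf 2633352451227) (.leaf 3285650949386))))) (.node (.node (.node (.node (.node (.leaf 370441017617) (.leaf 4255239891336)) (.leaf 2982318627216)) (.node (.leaf 368293791884) (.leaf 2898029970305))) (.node (.node (.leaf 19327741849) (.leaf 3391951219223)) (.node (.leaf 2503429659549) (.leaf 3966403243547)))) (.node (.node (.node (.leaf 764504361095) (.leaf 3179887169936)) (.node (.leaf 1846299532821) (.leaf 3740380535697))) (.node (.node (.leaf 964757476244) (.leaf 2500208549380)) (.node (.leaf 2552821838487) (.leaf 4153234365456)))))) (.node (.node (.node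 (.node (.node (.node (.leaf 230854547216) (.leaf 4322885614106)) (.leaf 2927020910209)) (.node (.leaf 13421774622) (.leaf 3091840247303))) (.node (.node (.leaf 1356136247058) (.leaf 3321621126925)) (.node (.leaf 2416993422097) (.leaf 2903935694209)))) (.node (.node (.node (.leaf 610959243549) (.leaf 3142843068186)) (.node (.leaf 1318555304726) (.leaf 3692599013147))) (.node (.node (.leaf 117037886468) (.leaf 2363306604802)) (.node (.leaf 2675765263379) (.leaf 4117800876827))))) (.node (.node (.node (.node (.node (.leaf 476204612499) (.leaf 4409858722579)) (.leaf 2472291231106)) (.node (.leaf 2190970464790) (.leaf 2906082942729))) (.node (.node (.leaf 1836098938765) (.leaf 3457449497619)) (.node (.leaf 1903744863747) (.leaf 4018479734414)))) (.node (.node (.node (.leaf 963146645777) (.leaf 3235721758106)) (.node (.leaf 2334314880649) (.leaf 3789235796874))) (.node (.node (.leaf 317827799454) (.leaf 2550674310805)) (.node (.leaf 2793876892184) (.leaf 3772592901524))))))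
def dF_1325 : BT := .node (.node (.node (.node (.node (.node (.node (.leaf 90731205777) (.leaf 4253092379008)) (.leaf 2844342769930)) (.node (.leaf 1041529821470) (.leaf 2958159513985))) (.node (.node (.leaf 1137629733763) (.leaf 3209415089940)) (.node (.leaf 2365990673798) (.leaf 2937758545417)))) (.node (.node (.node (.node (.leaf 351650478467) (.leaf 4440460371855)) (.leaf 3076807930256)) (.node (.leaf 1500554556814) (.leaf 2440616032030))) (.node (.node (.leaf 1789928101274) (.leaf 3514357827868)) (.node (.leaf 2626909998853) (.leaf 4047470770587))))) (.node (.node (.node (.node (.node (.leaf 22011712642) (.leaf 4373351491855)) (.leaf 2974802435597)) (.node (.leaf 689879286427) (.leaf 2574833479175))) (.node (.node (.leaf 1610076249088) (.leaf 3395709328019)) (.node (.leaf 2499671562254) (.leaf 3955665555080)))) (.node (.node (.node (.leaf 700616721547) (.leaf 2964065064340)) (.node (.leaf 372051576324) (.leaf 2334852487811))) (.node (.node (.leaf 1883880124571) (.leaf 3610994615172)) (.node (.leaf 2736431690905) (.leaf 4152160618626)))))) (.node (.node (.node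 (.node (.node (.node (.leaf 214211544988) (.leaf 4312148183831)) (.leaf 2911451649938)) (.node (.leaf 815507109787) (.leaf 2469069915915))) (.node (.node (.leaf 1338419490584) (.leaf 3317863027215)) (.node (.leaf 2420214648345) (.leaf 3874598301828)))) (.node (.node (.node (.leaf 581431336453) (.leaf 3124052541707)) (.node (.leaf 1060857291789) (.leaf 3408057429511))) (.node (.node (.leaf 2174327712386) (.leaf 3559454995860)) (.node (.leaf 2682744586909) (.leaf 4108674069249))))) (.node (.node (.node (.node (.node (.leaf 463856504843) (.leaf 4407174367387)) (.leaf 3025268310419)) (.node (.leaf 2190970720030) (.leaf 3332895211530))) (.node (.node (.leaf 476741806341) (.leaf 3456375755652)) (.node (.leaf 2569464755223) (.leaf 4006131700505)))) (.node (.node (.node (.leaf 967978485645) (.leaf 2401424358662)) (.node (.leaf 2331630926858) (.leaf 3796751994909))) (.node (.node (.leaf 219580322462) (.leaf 2800856366221)) (.node (.leaf 2783139457813) (.leaf 4198868391958))))))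
def dF_1332 : BT := .node (.node (.node (.node (.node (.node (.node (.leaf 88583719811) (.leaf 4261145385494)) (.leaf 2856153932825)) (.node (.leaf 1182726901406) (.leaf 641024560158))) (.node (.node (.leaf 1183800625548) (.leaf 3278671441296)) (.node (.leaf 2371359302423) (.leaf 3859565906455)))) (.node (.node (.node (.node (.leaf 498216303367) (.leaf 4444218099593)) (.leaf 3091840319384)) (.node (.leaf 2019171681548) (.leaf 3637301296024))) (.node (.node (.leaf 2026688175637) (.leaf 2593087209736)) (.node (.leaf 2635499886486) (.leaf 4054986922116))))) (.node (.node (.node (.node (.node (.leaf 386010277888) (.leaf 4376572718098)) (.leaf 2990371692828)) (.node (.leaf 617938567054) (.leaf 2579128645633))) (.node (.node (.leaf 1639604156189) (.leaf 3401078038429)) (.node (.leaf 2506114014738) (.leaf 3733938136478)))) (.node (.node (.node (.leaf 768262458268) (.leaf 3176129060235)) (.node (.leaf 651224852373) (.leaf 3641596288648))) (.node (.node (.leaf 944892889497) (.leaf 2651069387268)) (.node (.leaf 2740189788292) (.leaf 4171487980806)))))) (.node (.node (.node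 (.node (.node (.node (.leaf 180925551128) (.leaf 4119948410636)) (.leaf 2817499243014)) (.node (.leaf 694174358024) (.leaf 2539936866709))) (.node (.node (.leaf 472446730522) (.leaf 3336653513627)) (.node (.leaf 2425046490637) (.leaf 3906273687066)))) (.node (.node (.node (.leaf 614180469766) (.leaf 3136937486738)) (.node (.leaf 1259499534999) (.leaf 3446712136714))) (.node (.node (.leaf 221190868869) (.leaf 3583077065861)) (.node (.leaf 2646774234774) (.leaf 4114579650579))))) (.node (.node (.node (.node (.node (.leaf 472983386247) (.leaf 2691334933770)) (.leaf 2832531653143)) (.node (.leaf 372051830942) (.leaf 3382823783309))) (.node (.node (.leaf 1839857054098) (.leaf 3465502563333)) (.node (.leaf 2579128476175) (.leaf 3955128965638)))) (.node (.node (.node (.leaf 992674428293) (.leaf 3232500531854)) (.node (.leaf 2336999637135) (.leaf 3542812054275))) (.node (.node (.leaf 585726630158) (.leaf 2435783991710)) (.node (.leaf 2792266222228) (.leaf 3763466095234))))))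
def dF_1342 : BT := .node (.node (.node (.node (.node (.node (.node (.leaf 89120592659) (.leaf 3765076717854)) (.leaf 2837900317458)) (.node (.leaf 503048165022) (.leaf 2522757016838))) (.node (.node (.leaf 381178618376) (.leaf 3273302549271)) (.node (.leaf 2359011351296) (.leaf 3838091065101)))) (.node (.node (.node (.node (.leaf 443992328470) (.leaf 4437776015363)) (.leaf 3069828599702)) (.node (.leaf 1829119633295) (.leaf 3626027004184))) (.node (.node (.leaf 1789928093975) (.leaf 3507915375377)) (.node (.leaf 2612950926220) (.leaf 4031364604932))))) (.node (.node (.node (.node (.node (.leaf 352187402256) (.leaf 3761855521158)) (.leaf 2972654909333)) (.node (.leaf 92341818906) (.leaf 3032247552542))) (.node (.node (.leaf 1552631053836) (.leaf 3381750555139)) (.node (.leaf 2499134691329) (.leaf 3408057491978)))) (.node (.node (.node (.leaf 750545713938) (.leaf 3174518459538)) (.node (.leaf 1701880988190) (.leaf 3730179803145))) (.node (.node (.leaf 2246267940110) (.leaf 3438659011211)) (.node (.leaf 2545305643927) (.leaf 4146791912862)))))) (.node (.node (.node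 (.node (.node (.node (.leaf 199716027012) (.leaf 4304095127697)) (.leaf 2917357231389)) (.node (.leaf 815507118110) (.leaf 2738042328715))) (.node (.node (.leaf 383326148234) (.leaf 3325379221784)) (.node (.leaf 2430952069145) (.leaf 3733401252608)))) (.node (.node (.node (.leaf 563714592141) (.leaf 3131568776335)) (.node (.leaf 1180042400000) (.leaf 2373507180803))) (.node (.node (.leaf 246423807616) (.leaf 3559991866267)) (.node (.leaf 2669859681937) (.leaf 3732864429086))))) (.node (.node (.node (.node (.node (.leaf 443455404695) (.leaf 3697431021193)) (.leaf 3038690086424)) (.node (.leaf 47244926977) (.leaf 3331821472265))) (.node (.node (.leaf 20938399757) (.leaf 3452080787229)) (.node (.leaf 2570538497303) (.leaf 4017942863389)))) (.node (.node (.node (.leaf 925565676298) (.leaf 3226058079384)) (.node (.leaf 2329483442575) (.leaf 3779035252757))) (.node (.node (.leaf 1232655750661) (.leaf 2629594410372)) (.node (.leaf 2783139471388) (.leaf 4200479017100))))))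
def dF_1349 : BT := .node (.node (.node (.node (.node (.node (.node (.leaf 44560296337) (.leaf 4090957364620)) (.leaf 2850785222426)) (.node (.leaf 956167232670) (.leaf 2849174604830))) (.node (.node (.leaf 1170915738268) (.leaf 3163780938755)) (.node (.leaf 2019172065027) (.leaf 3851512841092)))) (.node (.node (.node (.node (.leaf 502511185799) (.leaf 4441534113430)) (.leaf 3080029149462)) (.node (.leaf 1258425717775) (.leaf 3634080069788))) (.node (.node (.leaf 1986422856323) (.leaf 3517042183180)) (.node (.leaf 2626373127708) (.leaf 4053913223175))))) (.node (.node (.node (.node (.node (.leaf 373125320070) (.leaf 3236795771271)) (.leaf 2985539853458)) (.node (.leaf 461709508353) (.leaf 2738579122433))) (.node (.node (.leaf 1553704807692) (.leaf 2480881293442)) (.node (.leaf 2512019596189) (.leaf 3767224135454)))) (.node (.node (.node (.leaf 467077875464) (.leaf 3183108396176)) (.node (.leaf 1835562115973) (.leaf 2800856439691))) (.node (.node (.leaf 1984275049753) (.leaf 2727841754250)) (.node (.leaf 2735894819854) (.leaf 4154844978579)))))) (.node (.node (.node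 (.node (.node (.node (.leaf 232465160448) (.leaf 4325033098268)) (.leaf 2910377907854)) (.node (.leaf 741418854174) (.leaf 2483565401869))) (.node (.node (.leaf 1362041828613) (.leaf 3318399691394)) (.node (.leaf 2425583358737) (.leaf 3583614268555)))) (.node (.node (.node (.leaf 604516791565) (.leaf 3139621841948)) (.node (.leaf 1316407805078) (.leaf 3676492886021))) (.node (.node (.leaf 354871757701) (.leaf 2572686260235)) (.node (.leaf 2650532332053) (.leaf 4110821553308))))) (.node (.node (.node (.node (.node (.leaf 472983386268) (.leaf 4408784980116)) (.leaf 3027415794575)) (.node (.leaf 46170925069) (.leaf 3181497705502))) (.node (.node (.leaf 1835025214749) (.leaf 2882997622534)) (.node (.leaf 2558190449795) (.leaf 4011500410897)))) (.node (.node (.node (.leaf 973884066577) (.leaf 3236258629147)) (.node (.leaf 44023971211) (.leaf 3789772635156))) (.node (.node (.leaf 1986422522266) (.leaf 1963337610654)) (.node (.leaf 2786360697628) (.leaf 4203700243225))))))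
def dF_1357 : BT := .node (.node (.node (.node (.node (.node (.node (.leaf 18334) (.leaf 4248260496269)) (.leaf 2834679091214)) (.node (.leaf 2233383479582) (.leaf 2466922428935))) (.node (.node (.leaf 1146756541458) (.leaf 2503966712213)) (.node (.leaf 1119913286914) (.leaf 3837553970059)))) (.node (.node (.node (.node (.leaf 440771102210) (.leaf 2453501126411)) (.leaf 3080029156494)) (.node (.leaf 697932352015) (.leaf 3631932585617))) (.node (.node (.leaf 2006823947267) (.leaf 765578757645)) (.node (.leaf 2024540833927) (.leaf 4050155125892))))) (.node (.node (.node (.node (.node (.leaf 125091005062) (.leaf 4370130265732)) (.leaf 2968359849090)) (.node (.leaf 563714983040) (.leaf 2591476503710))) (.node (.node (.leaf 1601486312448) (.leaf 3396783070104)) (.node (.leaf 2493229109778) (.leaf 3955128730248)))) (.node (.node (.node (.leaf 12348212104) (.leaf 3178276556932)) (.node (.leaf 1899449740554) (.leaf 3738769912581))) (.node (.node (.leaf 2102386743066) (.leaf 3085397987725)) (.node (.leaf 2736968561946) (.leaf 4149476268187)))))) (.node (.node (.node (.node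 (.node (.node (.leaf 105763620502) (.leaf 4131759567390)) (.leaf 2920041586578)) (.node (.leaf 437013215629) (.leaf 3285113699072))) (.node (.node (.leaf 1297617312155) (.leaf 3315715543057)) (.node (.leaf 2428804584985) (.leaf 2524904829193)))) (.node (.node (.node (.leaf 577136368004) (.leaf 2705829998211)) (.node (.leaf 1510218218014) (.leaf 3686693268363))) (.node (.node (.leaf 2174864093701) (.leaf 3561602479387)) (.node (.leaf 2680597102860) (.leaf 3782793424394))))) (.node (.node (.node (.node (.node (.leaf 458487794199) (.leaf 4406637496337)) (.leaf 3033858247059)) (.node (.leaf 1212254812190) (.leaf 2403571924224))) (.node (.node (.leaf 1775432542081) (.leaf 3146064366982)) (.node (.leaf 2565169829134) (.leaf 4014721637145)))) (.node (.node (.node (.leaf 960999161740) (.leaf 3224447401346)) (.node (.leaf 2331094054806) (.leaf 2356327337374))) (.node (.node (.leaf 726386463758) (.leaf 3240553522462)) (.node (.leaf 2486249856262) (.leaf 4199942145936))))))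
def dF_1364 : BT := .node (.node (.node (.node (.node (.node (.node (.leaf 34359746579) (.leaf 4014721696128)) (.leaf 2855080190749)) (.node (.leaf 2054605427614) (.leaf 2887829417220))) (.node (.node (.leaf 1177895061776) (.leaf 3280282054417)) (.node (.leaf 2371896254735) (.leaf 3859565256205)))) (.node (.node (.node (.node (.leaf 410169496340) (.leaf 4443144718732)) (.leaf 3089155964187)) (.node (.leaf 515933069454) (.leaf 3636764424985))) (.node (.node (.leaf 2025614432276) (.leaf 2335926169630)) (.node (.leaf 2623151901464) (.leaf 4053913223069))))) (.node (.node (.node (.node (.node (.leaf 377420341248) (.leaf 4374962104977)) (.leaf 2991445435012)) (.node (.leaf 398895480478) (.leaf 2597918997388))) (.node (.node (.leaf 1637456657673) (.leaf 3394098717325)) (.node (.leaf 2502355917465) (.leaf 3962645146264)))) (.node (.node (.node (.leaf 767188716189) (.leaf 3178276421895)) (.node (.leaf 1838246184327) (.leaf 3743064890905))) (.node (.node (.leaf 393526733848) (.leaf 2728378645901)) (.node (.leaf 2732136701958) (.leaf 4163971786372)))))) (.node (.node (.node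 (.node (.node (.node (.leaf 13421825678) (.leaf 4321275000974)) (.leaf 2924336554896)) (.node (.leaf 161061524638) (.leaf 2813204173312))) (.node (.node (.leaf 283468168973) (.leaf 3337727252877)) (.node (.leaf 2416456550935) (.leaf 3202972792327)))) (.node (.node (.node (.leaf 617401696019) (.leaf 3091840331541)) (.node (.leaf 1499480759820) (.leaf 3446712136582))) (.node (.node (.leaf 889595351829) (.leaf 3574487384453)) (.node (.leaf 2680060175126) (.leaf 4107600327064))))) (.node (.node (.node (.node (.node (.leaf 477815215897) (.leaf 4410932464659)) (.leaf 2852395770502)) (.node (.leaf 396210919582) (.leaf 2855617051402))) (.node (.node (.leaf 387621237001) (.leaf 3458523216021)) (.node (.leaf 2574833507866) (.leaf 3702799637383)))) (.node (.node (.node (.leaf 13422008729) (.leaf 3234111144977)) (.node (.leaf 2335925743746) (.leaf 3798362608024))) (.node (.node (.leaf 678068494336) (.leaf 2913599178014)) (.node (.leaf 2787434439697) (.leaf 4203700138122))))))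
def dF_1373 : BT := .node (.node (.node (.node (.node (.node (.node (.leaf 9663678739) (.leaf 4248797410693)) (.leaf 2836289704337)) (.node (.leaf 2018097983518) (.leaf 1902671126558))) (.node (.node (.leaf 1149977767809) (.leaf 2507187938453)) (.node (.leaf 1119376415619) (.leaf 3805341942165)))) (.node (.node (.node (.node (.leaf 348966197634) (.leaf 4438849753863)) (.leaf 3080566027548)) (.node (.leaf 624917890574) (.leaf 3633543198737))) (.node (.node (.leaf 2000381495172) (.leaf 3335042941463)) (.node (.leaf 2408940406292) (.leaf 4033512124675))))) (.node (.node (.node (.node (.node (.leaf 352724220565) (.leaf 4366371691532)) (.leaf 2965675100162)) (.node (.leaf 335007747848) (.leaf 2514704075157))) (.node (.node (.leaf 1586990794372) (.leaf 3395709328133)) (.node (.leaf 2495376593946) (.leaf 3954055209629)))) (.node (.node (.node (.leaf 756451282187) (.leaf 2952790772503)) (.node (.leaf 46170903812) (.leaf 3733938077846))) (.node (.node (.leaf 31139047323) (.leaf 2654290608769)) (.node (.leaf 2734284206848) (.leaf 4148939397252)))))) (.node (.node (.node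 (.node (.node (.node (.leaf 201326616987) (.leaf 4319127516933)) (.leaf 2912525392026)) (.node (.leaf 346819068574) (.leaf 3232500419840))) (.node (.node (.leaf 1341103858060) (.leaf 3322157995539)) (.node (.leaf 2430415198106) (.leaf 3899294363548)))) (.node (.node (.node (.leaf 563714592007) (.leaf 2958696341525)) (.node (.leaf 526133620628) (.leaf 2498061233794))) (.node (.node (.leaf 453656024705) (.leaf 3558381253783)) (.node (.leaf 2673617722645) (.leaf 4102768487695))))) (.node (.node (.node (.node (.node (.leaf 457950997260) (.leaf 3892315162369)) (.leaf 3038153169412)) (.node (.leaf 1070520870942) (.leaf 2447058270088))) (.node (.node (.leaf 1825361536029) (.leaf 3452617658257)) (.node (.leaf 2568927926417) (.leaf 4016332250266)))) (.node (.node (.node (.leaf 955093580293) (.leaf 3223910426390)) (.node (.leaf 2330557184389) (.leaf 3789235800453))) (.node (.node (.leaf 752156456855) (.leaf 2547990147870)) (.node (.leaf 2783139471379) (.leaf 4200479016987))))))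
def dF_1380 : BT := .node (.node (.node (.node (.node (.node (.node (.leaf 28991036177) (.leaf 4253092378896)) (.leaf 2849174609295)) (.node (.leaf 338765631006) (.leaf 2797098023454))) (.node (.node (.leaf 1176821319812) (.leaf 2464775139203)) (.node (.leaf 2370285641625) (.leaf 3850439098905)))) (.node (.node (.node (.node (.leaf 123480391959) (.leaf 4442607856002)) (.leaf 2870649504022)) (.node (.leaf 702227320335) (.leaf 3634079816969))) (.node (.node (.leaf 2024003820829) (.leaf 3320547334156)) (.node (.leaf 2624762514587) (.leaf 4057134449309))))) (.node (.node (.node (.node (.node (.leaf 144418362516) (.leaf 4374425233937)) (.leaf 2984466072214)) (.node (.leaf 475130873502) (.leaf 2839510979725))) (.node (.node (.leaf 1633698558852) (.leaf 3340411622422)) (.node (.leaf 2507187756826) (.leaf 3963718888348)))) (.node (.node (.node (.leaf 764504359062) (.leaf 3181497770647)) (.node (.leaf 1833414632598) (.leaf 3741454277789))) (.node (.node (.leaf 2223182977031) (.leaf 2971044345858)) (.node (.leaf 2493766037636) (.leaf 4155381423629)))))) (.node (.node (.node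 (.node (.node (.node (.leaf 222264610576) (.leaf 4327180570398)) (.leaf 2924336554908)) (.node (.leaf 392452918302) (.leaf 2441152629255))) (.node (.node (.leaf 1363652441619) (.leaf 3074123636226)) (.node (.leaf 2423972745614) (.leaf 3905736508552)))) (.node (.node (.node (.leaf 139586583178) (.leaf 3134253131546)) (.node (.leaf 1315870962583) (.leaf 3692599008900))) (.node (.node (.leaf 881005403678) (.leaf 3565360576664)) (.node (.leaf 2439542062356) (.leaf 4109210940187))))) (.node (.node (.node (.node (.node (.leaf 467614675859) (.leaf 4409321851545)) (.leaf 2856153868291)) (.node (.leaf 30064875798) (.leaf 2470143655174))) (.node (.node (.leaf 1775432543892) (.leaf 3459059972994)) (.node (.leaf 2578054734212) (.leaf 4009889797774)))) (.node (.node (.node (.leaf 134217961098) (.leaf 3234648016024)) (.node (.leaf 632971361926) (.leaf 2959770243716))) (.node (.node (.leaf 620086409240) (.leaf 2672543884550)) (.node (.leaf 2793876892175) (.leaf 4205310844166))))))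
def dF_1388 : BT := .node (.node (.node (.node (.node (.node (.node (.leaf 17179873297) (.leaf 4261682315648)) (.leaf 2513630285187)) (.node (.leaf 866509662622) (.leaf 2462627026846))) (.node (.node (.leaf 1154809607180) (.leaf 3214783605638)) (.node (.leaf 2366527544839) (.leaf 2928094868358)))) (.node (.node (.node (.node (.leaf 492847506694) (.leaf 4441534113411)) (.leaf 3077881619220)) (.node (.leaf 1326071468815) (.leaf 3630321753349))) (.node (.node (.leaf 23085930368) (.leaf 3513284085784)) (.node (.leaf 2635499935493) (.leaf 2661806947723))))) (.node (.node (.node (.node (.node (.leaf 363998503451) (.leaf 4107063519262)) (.leaf 2982855498269)) (.node (.leaf 150324314501) (.leaf 2889976808963))) (.node (.node (.leaf 33823253144) (.leaf 3397856800660)) (.node (.leaf 1831267277068) (.leaf 3961571404292)))) (.node (.node (.node (.leaf 761820005891) (.leaf 3178276556828)) (.node (.leaf 1839857081349) (.leaf 3739306701321))) (.node (.node (.leaf 913217894552) (.leaf 2727841912222)) (.node (.leaf 2736968561934) (.leaf 4151086785045)))))) (.node (.node (.node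 (.node (.node (.node (.leaf 1073793563) (.leaf 4323422485260)) (.leaf 2915209747217)) (.node (.leaf 32212682270) (.leaf 3021510349726))) (.node (.node (.leaf 1334661131417) (.leaf 3322694797827)) (.node (.leaf 2427193971858) (.leaf 3904126202895)))) (.node (.node (.node (.leaf 590021273093) (.leaf 3138548099972)) (.node (.leaf 1072131629190) (.leaf 3693135884819))) (.node (.node (.leaf 463856703515) (.leaf 697396164227)) (.node (.leaf 2681670844827) (.leaf 4117264005889))))) (.node (.node (.node (.node (.node (.leaf 470299031173) (.leaf 4406100625282)) (.leaf 3030637020817)) (.node (.leaf 351113762590) (.leaf 3129421292170))) (.node (.node (.leaf 1832340859539) (.leaf 3410204858261)) (.node (.leaf 2560874818583) (.leaf 4013111024018)))) (.node (.node (.node (.leaf 975494679698) (.leaf 2850248375943)) (.node (.leaf 2327872830601) (.leaf 3796214964742))) (.node (.node (.leaf 48855421581) (.leaf 2475512591873)) (.node (.leaf 2790118795020) (.leaf 4206921467277))))))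
def dF_1395 : BT := .node (.node (.node (.node (.node (.node (.node (.leaf 5905602824) (.leaf 4265440412814)) (.leaf 2857227674897)) (.node (.leaf 753229968257) (.leaf 2450279586718))) (.node (.node (.leaf 1186484998530) (.leaf 3279208299669)) (.node (.leaf 2363306320256) (.leaf 3859029035549)))) (.node (.node (.node (.node (.leaf 408021904515) (.leaf 4444218469145)) (.leaf 3083250382744)) (.node (.leaf 1958505553935) (.leaf 3542275144853))) (.node (.node (.leaf 2028298772357) (.leaf 3052648694046)) (.node (.leaf 2629594353939) (.leaf 4052839480974))))) (.node (.node (.node (.node (.node (.leaf 345744960152) (.leaf 4376572691973)) (.leaf 2989297950744)) (.node (.leaf 1632624524190) (.leaf 2884608032513))) (.node (.node (.leaf 1641214752007) (.leaf 3403762382103)) (.node (.leaf 2509872112017) (.leaf 3804268225686)))) (.node (.node (.node (.leaf 706522303884) (.leaf 3183645214741)) (.node (.leaf 766115197057) (.leaf 3741991149444))) (.node (.node (.leaf 155155703707) (.leaf 3105262172160)) (.node (.leaf 2748779724932) (.leaf 4168803625628)))))) (.node (.node (.node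 (.node (.node (.node (.leaf 241055097093) (.leaf 4332012421779)) (.leaf 2672007214339)) (.node (.leaf 30065078937) (.leaf 2539400146571))) (.node (.node (.leaf 17717068544) (.leaf 3332895416344)) (.node (.leaf 2432025811229) (.leaf 3674882324109)))) (.node (.node (.node (.leaf 621696653454) (.leaf 3139084970896)) (.node (.leaf 1275068791188) (.leaf 3698504594575))) (.node (.node (.leaf 942208689950) (.leaf 2698850926878)) (.node (.leaf 2494302838676) (.leaf 4105989713939))))) (.node (.node (.node (.node (.node (.leaf 427349358233) (.leaf 4412543077891)) (.leaf 2830921040136)) (.node (.leaf 45634197790) (.leaf 2525978229910))) (.node (.node (.leaf 1841467667229) (.leaf 3473555628815)) (.node (.leaf 2576980992017) (.leaf 4010963264266)))) (.node (.node (.node (.leaf 995895778951) (.leaf 3231963463939)) (.node (.leaf 2336462676631) (.leaf 1895155225479))) (.node (.node (.leaf 2003065679130) (.leaf 2550137595905)) (.node (.leaf 2787971227678) (.leaf 4211216437901))))))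
def dF_1406 : BT := .node (.node (.node (.node (.node (.node (.node (.leaf 42949683219) (.leaf 4247723668504)) (.leaf 2842195285778)) (.node (.leaf 771483766558) (.leaf 2521683289473))) (.node (.node (.leaf 223338569858) (.leaf 3270618375694)) (.node (.leaf 2364379649414) (.leaf 3834332750728)))) (.node (.node (.node (.node (.leaf 132607221269) (.leaf 4422743631125)) (.leaf 3070365470741)) (.node (.leaf 2032593757465) (.leaf 3626563875227))) (.node (.node (.leaf 1968706103686) (.leaf 3508452246418)) (.node (.leaf 2614561957271) (.leaf 4031364642068))))) (.node (.node (.node (.node (.node (.leaf 358629854736) (.leaf 4064113844613)) (.leaf 2427194102915)) (.node (.leaf 536871066) (.leaf 3170760412172))) (.node (.node (.leaf 1577327115659) (.leaf 3382287426179)) (.node (.leaf 2494839723009) (.leaf 1122598019596)))) (.node (.node (.node (.leaf 752156327169) (.leaf 3170760362264)) (.node (.leaf 635655312516) (.leaf 3731253727747))) (.node (.node (.leaf 2248952257561) (.leaf 3339874508678)) (.node (.leaf 2727304883214) (.leaf 1962801042462)))))) (.node (.node (.node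 (.node (.node (.node (.leaf 195421058693) (.leaf 4305168869652)) (.leaf 2921652199709)) (.node (.leaf 1244467059614) (.leaf 3323231512845))) (.node (.node (.leaf 1314797179909) (.leaf 3318399898267)) (.node (.leaf 2430415198208) (.leaf 2678986781576)))) (.node (.node (.node (.leaf 561567011099) (.leaf 3131031905305)) (.node (.leaf 539018728588) (.leaf 3591130409099))) (.node (.node (.leaf 860604537731) (.leaf 3559991866255)) (.node (.leaf 2669322810898) (.leaf 3746823072906))))) (.node (.node (.node (.node (.node (.leaf 444529146775) (.leaf 4405026479361)) (.leaf 3027415794587)) (.node (.leaf 1071594863508) (.leaf 2386391772808))) (.node (.node (.leaf 1755568316037) (.leaf 3455302013465)) (.node (.leaf 2395518622741) (.leaf 2534568533770)))) (.node (.node (.node (.leaf 938450465933) (.leaf 3226594950427)) (.node (.leaf 2328946571545) (.leaf 3481608767492))) (.node (.node (.leaf 750545643930) (.leaf 2423972745730)) (.node (.leaf 2547453141654) (.leaf 4183836014739))))))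
def dF_1413 : BT := .node (.node (.node (.node (.node (.node (.node (.leaf 94489303056) (.leaf 2372970446878)) (.leaf 2851322093469)) (.node (.leaf 30065244812) (.leaf 1842004867843))) (.node (.node (.leaf 1165547028492) (.leaf 3270081467138)) (.node (.leaf 2032056966804) (.leaf 3840238549146)))) (.node (.node (.node (.node (.leaf 492847593494) (.leaf 4440997242898)) (.leaf 2761127833730)) (.node (.leaf 1277216204175) (.leaf 3625490135559))) (.node (.node (.leaf 2018098239875) (.leaf 3511673472655)) (.node (.leaf 2630668096028) (.leaf 4048007640214))))) (.node (.node (.node (.node (.node (.leaf 372051630749) (.leaf 4367445910425)) (.leaf 2981781756185)) (.node (.leaf 1266478791454) (.leaf 2575370386052))) (.node (.node (.leaf 1627256122372) (.leaf 3345780332821)) (.node (.leaf 2513092887949) (.leaf 3878893285398)))) (.node (.node (.node (.leaf 467077875339) (.leaf 2709588251911)) (.node (.leaf 702227637122) (.leaf 3740380195462))) (.node (.node (.leaf 39191612556) (.leaf 2913599158295)) (.node (.leaf 2732673593616) (.leaf 4153234365573)))))) (.node (.node (.node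 (.node (.node (.node (.leaf 228170192128) (.leaf 4276714716822)) (.leaf 2914672876174)) (.node (.leaf 725849637531) (.leaf 2675228474893))) (.node (.node (.leaf 1357746860293) (.leaf 3316789170307)) (.node (.leaf 2429878327057) (.leaf 3904662987525)))) (.node (.node (.node (.leaf 601832435981) (.leaf 3143916810268)) (.node (.leaf 1429687581324) (.leaf 3677029756932))) (.node (.node (.leaf 1018981219358) (.leaf 3564286834577)) (.node (.leaf 2676302134425) (.leaf 4115116521628))))) (.node (.node (.node (.node (.node (.leaf 477278354588) (.leaf 4408784980495)) (.leaf 3031710762895)) (.node (.leaf 46170903555) (.leaf 2470680561029))) (.node (.node (.leaf 1834488343699) (.leaf 3459060110745)) (.node (.leaf 2567854142100) (.leaf 4015795379217)))) (.node (.node (.node (.leaf 960462290578) (.leaf 3235721758212)) (.node (.leaf 2333241539869) (.leaf 3789772554624))) (.node (.node (.leaf 619012468378) (.leaf 2925410151431)) (.node (.leaf 2790655665948) (.leaf 4204237114266))))))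
def dF_1421 : BT := .node (.node (.node (.node (.node (.node (.node (.leaf 536890014) (.leaf 4248260462721)) (.leaf 2838974059534)) (.node (.leaf 2093797061150) (.leaf 2405182455555))) (.node (.node (.leaf 1151051509778) (.leaf 3266860096791)) (.node (.leaf 2367064318464) (.leaf 2644090156318)))) (.node (.node (.node (.node (.leaf 351113607430) (.leaf 4439386629779)) (.leaf 3077344801304)) (.node (.leaf 699006094095) (.leaf 3630858843546))) (.node (.node (.leaf 2009508302853) (.leaf 3510062859653)) (.node (.leaf 2619930625920) (.leaf 4034048995605))))) (.node (.node (.node (.node (.node (.leaf 124017210247) (.leaf 4365835148932)) (.leaf 2976949877654)) (.node (.leaf 111669176335) (.leaf 2892661229846))) (.node (.node (.leaf 1598801667865) (.leaf 3397319941147)) (.node (.leaf 2497524078098) (.leaf 3955128951697)))) (.node (.node (.node (.leaf 758598779539) (.leaf 3174518407062)) (.node (.leaf 823560417164) (.leaf 3738233051549))) (.node (.node (.leaf 903017374107) (.leaf 2993056131200)) (.node (.leaf 2733210464669) (.leaf 4150013139228)))))) (.node (.node (.node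 (.node (.node (.node (.leaf 205084737027) (.leaf 2331094529566)) (.leaf 2911988520985)) (.node (.leaf 1925756496004) (.leaf 3505231020161))) (.node (.node (.leaf 117038179085) (.leaf 3320010511377)) (.node (.leaf 2417530293146) (.leaf 3898757492495)))) (.node (.node (.node (.leaf 576062612224) (.leaf 3128884333958)) (.node (.leaf 1551020481054) (.leaf 3686693431696))) (.node (.node (.leaf 2110440055447) (.leaf 3561602479375)) (.node (.leaf 2676302134535) (.leaf 4102768463252))))) (.node (.node (.node (.node (.node (.leaf 456340384019) (.leaf 4406100625305)) (.leaf 3037616344336)) (.node (.leaf 31138543518) (.leaf 3302293830284))) (.node (.node (.leaf 1828045891338) (.leaf 3451543892501)) (.node (.leaf 2569464797454) (.leaf 4003447345306)))) (.node (.node (.node (.leaf 116501216264) (.leaf 3221762929158)) (.node (.leaf 2331094055697) (.leaf 3550865117460))) (.node (.node (.leaf 452582352798) (.leaf 826781854494)) (.node (.leaf 2543158173334) (.leaf 4200478977286))))))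
def dF_1428 : BT := .node (.node (.node (.node (.node (.node (.node (.leaf 51002748819) (.leaf 4255239863065)) (.leaf 2858301416985)) (.node (.leaf 184683625351) (.leaf 2578054888734))) (.node (.node (.leaf 1176821319698) (.leaf 3279745183385)) (.node (.leaf 2368138158219) (.leaf 3855270938380)))) (.node (.node (.node (.node (.leaf 501974400646) (.leaf 4443681598095)) (.leaf 3082176640668)) (.node (.leaf 159987569934) (.leaf 2378875878153))) (.node (.node (.leaf 2026151304989) (.leaf 2371359471646)) (.node (.leaf 2627446869784) (.leaf 4053912920585))))) (.node (.node (.node (.node (.node (.leaf 5905669531) (.leaf 4285841533708)) (.leaf 2786897616516)) (.node (.leaf 1493574968862) (.leaf 2388002426757))) (.node (.node (.leaf 1636382930058) (.leaf 3400541167493)) (.node (.leaf 2506650885785) (.leaf 3958350177944)))) (.node (.node (.node (.leaf 644245277185) (.leaf 2959233224983)) (.node (.leaf 766652101511) (.leaf 3741454278146))) (.node (.node (.leaf 1494111783180) (.leaf 3085934595988)) (.node (.leaf 2548526870167) (.leaf 4159676818052)))))) (.node (.node (.node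 (.node (.node (.node (.leaf 17716793998) (.leaf 4323959187082)) (.leaf 2924336554898)) (.node (.leaf 409632518016) (.leaf 3142842970375))) (.node (.node (.leaf 1278826839565) (.leaf 3333432287500)) (.node (.leaf 2415382400518) (.leaf 3884798805655)))) (.node (.node (.node (.leaf 617938567068) (.leaf 3133179389464)) (.node (.leaf 1446867422356) (.leaf 3696893981455))) (.node (.node (.leaf 958314826902) (.leaf 3570192416133)) (.node (.leaf 2677912690966) (.leaf 4111895295384))))) (.node (.node (.node (.node (.node (.leaf 467614675857) (.leaf 4407174368135)) (.leaf 3033858200981)) (.node (.leaf 1105417570317) (.leaf 3049427486231))) (.node (.node (.leaf 1838783310215) (.leaf 3357591507860)) (.node (.leaf 2579128476186) (.leaf 2336463166494)))) (.node (.node (.node (.leaf 116501223450) (.leaf 3231426789778)) (.node (.leaf 1842541526932) (.leaf 3798362318469))) (.node (.node (.leaf 119722373901) (.leaf 2640331721089)) (.node (.leaf 2791729408017) (.leaf 4203700243852))))))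
def dF_1437 : BT := .node (.node (.node (.node (.node (.node (.node (.leaf 13958647059) (.leaf 4243965494294)) (.leaf 2840584672657)) (.node (.leaf 2097018302622) (.leaf 2703145643395))) (.node (.node (.leaf 1145682799489) (.leaf 3270081323031)) (.node (.leaf 2365990549760) (.leaf 3787088331139)))) (.node (.node (.node (.node (.leaf 347892455559) (.leaf 4438312880652)) (.leaf 2858301470101)) (.node (.leaf 1765231979535) (.leaf 3631932585732))) (.node (.node (.leaf 1996086526853) (.leaf 2855080345986)) (.node (.leaf 2407329793175) (.leaf 4031901441933))))) (.node (.node (.node (.node (.node (.leaf 354871704725) (.leaf 2730526499595)) (.leaf 2965675585800)) (.node (.leaf 510027508254) (.leaf 2390149912222))) (.node (.node (.leaf 1582695826052) (.leaf 3391414359813)) (.node (.leaf 2499671562266) (.leaf 3954055209617)))) (.node (.node (.node (.leaf 754840666372) (.leaf 3172907834007)) (.node (.leaf 820339157633) (.leaf 3733937895818))) (.node (.node (.leaf 449361278976) (.leaf 2910914670987)) (.node (.leaf 2729989238531) (.leaf 2483565825288)))))) (.node (.node (.node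 (.node (.node (.node (.leaf 109521712922) (.leaf 4314832548613)) (.leaf 2916820360346)) (.node (.leaf 331249836553) (.leaf 2557653795213))) (.node (.node (.leaf 1336808889741) (.leaf 3325379221775)) (.node (.leaf 2419140906269) (.leaf 3901978678167)))) (.node (.node (.node (.leaf 567472689309) (.leaf 2962991309845)) (.node (.leaf 564251458974) (.leaf 3690451529092))) (.node (.node (.leaf 2078227505031) (.leaf 3555160028288)) (.node (.leaf 2637647427094) (.leaf 4100621003549))))) (.node (.node (.node (.node (.node (.leaf 453656028933) (.leaf 4404490012185)) (.leaf 3025805181464)) (.node (.leaf 1213328408471) (.leaf 3323231737608))) (.node (.node (.leaf 1824824664977) (.leaf 3454228271378)) (.node (.leaf 2559801118738) (.leaf 4005057958429)))) (.node (.node (.node (.leaf 950798611973) (.leaf 3225521208335)) (.node (.leaf 2330020313629) (.leaf 825171495053))) (.node (.node (.leaf 2236067818625) (.leaf 2030983253526)) (.node (.leaf 2546916270613) (.leaf 4201015888028))))))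
def dF_1444 : BT := .node (.node (.node (.node (.node (.node (.node (.leaf 33286004497) (.leaf 4253092247941)) (.leaf 2849711480336)) (.node (.leaf 244813141150) (.leaf 1131724574861))) (.node (.node (.leaf 1111859938444) (.leaf 3279208312452)) (.node (.leaf 2360621965189) (.leaf 3850439061892)))) (.node (.node (.node (.node (.leaf 493921248770) (.leaf 4424354244877)) (.leaf 3092914061572)) (.node (.leaf 1123671086735) (.leaf 3634080022018))) (.node (.node (.leaf 2023466949789) (.leaf 3164317776652)) (.node (.leaf 2629057482907) (.leaf 3900368142214))))) (.node (.node (.node (.node (.node (.leaf 148713330836) (.leaf 2926484384267)) (.leaf 2983392369294)) (.node (.leaf 28991117062) (.leaf 3302293670676))) (.node (.node (.leaf 1633161690504) (.leaf 2770791585031)) (.node (.leaf 2511482725146) (.leaf 3959423920028)))) (.node (.node (.node (.leaf 764504360988) (.leaf 3180424040975)) (.node (.leaf 1962800491540) (.leaf 3741991148815))) (.node (.node (.leaf 878858212739) (.leaf 2556043006101)) (.node (.leaf 2731062881292) (.leaf 4154308090496)))))) (.node (.node (.node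 (.node (.node (.node (.leaf 226559578896) (.leaf 4325033098264)) (.leaf 2928094652187)) (.node (.leaf 693100615710) (.leaf 3006477772294))) (.node (.node (.leaf 863825620111) (.leaf 3331821668486)) (.node (.leaf 2428267713934) (.leaf 3511136695700)))) (.node (.node (.node (.leaf 604516791069) (.leaf 3138548099866)) (.node (.leaf 1321776501270) (.leaf 3695283367831))) (.node (.node (.leaf 14495517829) (.leaf 3565897447695)) (.node (.leaf 2438468320279) (.leaf 4113505908507))))) (.node (.node (.node (.node (.node (.leaf 471909644179) (.leaf 4409858548106)) (.leaf 2470680561030)) (.node (.leaf 348966181278) (.leaf 2524367879428))) (.node (.node (.leaf 1837172698897) (.leaf 3458523239695)) (.node (.leaf 2573759765892) (.leaf 4014184766094)))) (.node (.node (.node (.leaf 958851677457) (.leaf 3231426789786)) (.node (.leaf 2334315281949) (.leaf 3789235741461))) (.node (.node (.leaf 620086004097) (.leaf 2925947191306)) (.node (.leaf 2789581923864) (.leaf 4205847715078))))))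
def dF_1452 : BT := .node (.node (.node (.node (.node (.node (.node (.leaf 21474841617) (.leaf 4257387347328)) (.leaf 2830920771970)) (.node (.leaf 752156248478) (.leaf 2759517192965))) (.node (.node (.leaf 114890649984) (.leaf 2888366285446)) (.node (.leaf 2368138157465) (.leaf 3834869838720)))) (.node (.node (.node (.node (.leaf 402653301271) (.leaf 4440460371719)) (.leaf 3076271059215)) (.node (.leaf 1382442928014) (.leaf 3633006327696))) (.node (.node (.leaf 1949915633153) (.leaf 3513820956827)) (.node (.leaf 2631204967173) (.leaf 4051765738898))))) (.node (.node (.node (.node (.node (.leaf 41876017556) (.leaf 4031901590814)) (.leaf 2987150466589)) (.node (.leaf 150323863052) (.leaf 3163780939166))) (.node (.node (.leaf 1614371217409) (.leaf 3394635585937)) (.node (.leaf 2495376593934) (.leaf 3957276435972)))) (.node (.node (.node (.leaf 694711141632) (.leaf 3182571525148)) (.node (.leaf 828392238090) (.leaf 3738769922709))) (.node (.node (.leaf 912681004556) (.leaf 3612605228184)) (.node (.leaf 2732136722585) (.leaf 4151086827652)))))) (.node (.node (.node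 (.node (.node (.node (.leaf 215285287068) (.leaf 4320738034693)) (.leaf 2919504715537)) (.node (.leaf 591632279454) (.leaf 3099356487168))) (.node (.node (.leaf 1297617195161) (.leaf 2749316733059)) (.node (.leaf 2415919680025) (.leaf 3898757486093)))) (.node (.node (.node (.leaf 585726304773) (.leaf 3134253131652)) (.node (.leaf 548145481622) (.leaf 3693672755335))) (.node (.node (.leaf 2174327278491) (.leaf 3562675985537)) (.node (.leaf 2678449618589) (.leaf 4112969037569))))) (.node (.node (.node (.node (.node (.leaf 466004062853) (.leaf 4407711238417)) (.leaf 3034931989137)) (.node (.leaf 346818727966) (.leaf 3595961550988))) (.node (.node (.leaf 22012144137) (.leaf 3460670723972)) (.node (.leaf 2565169786903) (.leaf 4017405992338)))) (.node (.node (.node (.leaf 973884066701) (.leaf 3226594925570)) (.node (.leaf 1843615267860) (.leaf 3796751994898))) (.node (.node (.leaf 500363742348) (.leaf 1846836687902)) (.node (.leaf 2414846026501) (.leaf 3940096625292))))))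
def dF_1459 : BT := .node (.node (.node (.node (.node (.node (.node (.leaf 44560296213) (.leaf 4263829799815)) (.leaf 2856690803858)) (.node (.leaf 114890406797) (.leaf 2604898279555))) (.node (.node (.leaf 1185411240964) (.leaf 3277597699214)) (.node (.leaf 2371359382294) (.leaf 3859028907910)))) (.node (.node (.node (.node (.leaf 408022012167) (.leaf 4432944179969)) (.leaf 3087545351064)) (.node (.leaf 2031520015374) (.leaf 3638375038095))) (.node (.node (.leaf 389231894665) (.leaf 1701344685580)) (.node (.leaf 2633889322259) (.leaf 4054986965138))))) (.node (.node (.node (.node (.node (.leaf 390305234688) (.leaf 4376572718106)) (.leaf 2989834821787)) (.node (.leaf 1694365002265) (.leaf 3041374301828))) (.node (.node (.leaf 1635846059907) (.leaf 3400541167386)) (.node (.leaf 2501819046418) (.leaf 3956202519179)))) (.node (.node (.node (.leaf 760746265861) (.leaf 3182034601622)) (.node (.leaf 768799585286) (.leaf 3744138632977))) (.node (.node (.leaf 945430174489) (.leaf 3015604674957)) (.node (.leaf 2744484756612) (.leaf 4119948373271)))))) (.node (.node (.node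 (.node (.node (.node (.leaf 236760128773) (.leaf 4332012311565)) (.leaf 2543695010306)) (.node (.leaf 48318528798) (.leaf 3143380008195))) (.node (.node (.leaf 1309965353357) (.leaf 3337190384664)) (.node (.leaf 2436320779549) (.leaf 3812321277574)))) (.node (.node (.node (.leaf 616864824977) (.leaf 3132642518418)) (.node (.leaf 1259499534996) (.leaf 3697967723549))) (.node (.node (.leaf 898722157588) (.leaf 2690260993310)) (.node (.leaf 2675228384791) (.leaf 4110284682259))))) (.node (.node (.node (.node (.node (.leaf 16106239766) (.leaf 4412006206745)) (.leaf 3024731328134)) (.node (.leaf 1107565074188) (.leaf 2408403485319))) (.node (.node (.leaf 1839857054344) (.leaf 3469797531653)) (.node (.leaf 2575907249939) (.leaf 1895155275934)))) (.node (.node (.node (.leaf 994285165829) (.leaf 3234647847190)) (.node (.leaf 2336999637147) (.leaf 2469070230276))) (.node (.node (.leaf 2069100720389) (.leaf 2494302865287)) (.node (.leaf 2790118738068) (.leaf 4003984264844))))))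
def dF_1469 : BT := .node (.node (.node (.node (.node (.node (.node (.leaf 22548583699) (.leaf 4247723232136)) (.leaf 2833605349138)) (.node (.leaf 105763610654) (.leaf 2404108517381))) (.node (.node (.leaf 1137092862849) (.leaf 2600603477894)) (.node (.leaf 2030446353175) (.leaf 3842386033421)))) (.node (.node (.node (.node (.leaf 129922866069) (.leaf 3307662747019)) (.leaf 3044595674900)) (.node (.leaf 1764695108495) (.leaf 3153580601605))) (.node (.node (.leaf 1987496590213) (.leaf 3507378504334)) (.node (.leaf 2522220167573) (.leaf 3882651399198))))) (.node (.node (.node (.node (.node (.leaf 347892433936) (.leaf 4059818877319)) (.leaf 2968359941013)) (.node (.leaf 418222639245) (.leaf 2683818340873))) (.node (.node (.leaf 385473691658) (.leaf 3284577045767)) (.node (.leaf 2500208433307) (.leaf 3381213946381)))) (.node (.node (.node (.leaf 746250745618) (.leaf 3173981588497)) (.node (.leaf 523449576844) (.leaf 2471217697674))) (.node (.node (.leaf 1368484280862) (.leaf 2711735571084)) (.node (.leaf 2723546716422) (.leaf 4147328687765)))))) (.node (.node (.node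 (.node (.node (.node (.leaf 197031671699) (.leaf 4304631998736)) (.leaf 2913062263069)) (.node (.leaf 2277943739021) (.leaf 2458869432074))) (.node (.node (.leaf 472446719880) (.leaf 3321084253464)) (.node (.leaf 2427730842909) (.leaf 3743064929046)))) (.node (.node (.node (.leaf 568009560453) (.leaf 3128347550099)) (.node (.leaf 533112941318) (.leaf 3686156560659))) (.node (.node (.leaf 2109366295308) (.leaf 3559454995214)) (.node (.leaf 2670396552974) (.leaf 3732864429187))))) (.node (.node (.node (.node (.node (.leaf 439160436375) (.leaf 4404489542787)) (.leaf 3034395118104)) (.node (.leaf 405874832542) (.leaf 2388002435720))) (.node (.node (.leaf 1790464521496) (.leaf 3451543916186)) (.node (.leaf 2568391055378) (.leaf 4013647895069)))) (.node (.node (.node (.leaf 942208675333) (.leaf 3227131821456)) (.node (.leaf 2329483324417) (.leaf 3788161937537))) (.node (.node (.leaf 1358283888153) (.leaf 1276679839495)) (.node (.leaf 2783139471386) (.leaf 4188130986498))))))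
def dF_1476 : BT := .node (.node (.node (.node (.node (.node (.node (.leaf 48318393616) (.leaf 4257924218258)) (.leaf 2850248351385)) (.node (.leaf 1294396075934) (.leaf 2335926119683))) (.node (.node (.leaf 1169841996176) (.leaf 3031173923335)) (.node (.leaf 690416557837) (.leaf 3850439099539)))) (.node (.node (.node (.node (.leaf 478352075395) (.leaf 4442070580490)) (.leaf 3084324124932)) (.node (.leaf 1256278233614) (.leaf 3635153811733))) (.node (.node (.leaf 2018098240395) (.leaf 3521337000333)) (.node (.leaf 2622078159388) (.leaf 4058208191500))))) (.node (.node (.node (.node (.node (.leaf 370441017619) (.leaf 4373888362899)) (.leaf 2981244885138)) (.node (.leaf 19327361054) (.leaf 2389613048837))) (.node (.node (.leaf 487479176728) (.leaf 3391951219220)) (.node (.leaf 2507724627869) (.leaf 3966403243535)))) (.node (.node (.node (.leaf 763967489031) (.leaf 3179350298899)) (.node (.leaf 1846299532822) (.leaf 3740917406747))) (.node (.node (.leaf 856309172122) (.leaf 3136400586755)) (.node (.leaf 2731599851534) (.leaf 4154308107544)))))) (.node (.node (.node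 (.node (.node (.node (.leaf 232465160337) (.leaf 4327180582426)) (.leaf 2922725941889)) (.node (.leaf 339302598664) (.leaf 2551211270046))) (.node (.node (.leaf 135828665374) (.leaf 3328063577093)) (.node (.leaf 2421288390417) (.leaf 3904663073945)))) (.node (.node (.node (.leaf 610422372621) (.leaf 3135326873628)) (.node (.leaf 1447404293783) (.leaf 3695283368334))) (.node (.node (.leaf 925565691038) (.leaf 2353642928258)) (.node (.leaf 2680060231699) (.leaf 4106526584988))))) (.node (.node (.node (.node (.node (.leaf 23622434326) (.leaf 4409321851141)) (.leaf 2571075521671)) (.node (.leaf 529355128990) (.leaf 3078418406924))) (.node (.node (.leaf 1835562071447) (.leaf 3408594245141)) (.node (.leaf 2557653592331) (.leaf 4007205442577)))) (.node (.node (.node (.leaf 967441614097) (.leaf 3232500531868)) (.node (.leaf 2328409701780) (.leaf 3789772671389))) (.node (.node (.leaf 1978906687390) (.leaf 3427384574878)) (.node (.leaf 2790118794907) (.leaf 3772592901514))))))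
def dF_1484 : BT := .node (.node (.node (.node (.node (.node (.node (.leaf 42949683217) (.leaf 1834488919181)) (.leaf 2830384122894)) (.node (.leaf 837518873737) (.leaf 2466385752833))) (.node (.node (.leaf 1148904025616) (.leaf 3264712612631)) (.node (.leaf 2367601286429) (.leaf 3837554186263)))) (.node (.node (.node (.node (.leaf 441307920519) (.leaf 4439923500825)) (.leaf 3076807930258)) (.node (.leaf 1573569018254) (.leaf 3631932406410))) (.node (.node (.leaf 2014876959511) (.leaf 3514894549901)) (.node (.leaf 2622615030533) (.leaf 2444911098248))))) (.node (.node (.node (.node (.node (.leaf 22548583683) (.leaf 3746286266630)) (.leaf 2983392369413)) (.node (.leaf 514322583047) (.leaf 2454574394243))) (.node (.node (.leaf 1605781280768) (.leaf 3092914134150)) (.node (.leaf 2496450336016) (.leaf 3927211664391)))) (.node (.node (.node (.leaf 756988167173) (.leaf 3182571525252)) (.node (.leaf 616864825220) (.leaf 3738769922455))) (.node (.node (.leaf 117038305947) (.leaf 2532957550986)) (.node (.leaf 2732673593626) (.leaf 4148939397144)))))) (.node (.node (.node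 (.node (.node (.node (.leaf 121332877063) (.leaf 4312148193297)) (.leaf 2915746618258)) (.node (.leaf 144418470410) (.leaf 3382287426176))) (.node (.node (.leaf 1293322345371) (.leaf 3322157995535)) (.node (.leaf 2424509616665) (.leaf 3729643155735)))) (.node (.node (.node (.leaf 578210110099) (.leaf 3124052481155)) (.node (.leaf 1436666893076) (.leaf 3691525020173))) (.node (.node (.leaf 2098628913539) (.leaf 3553549415817)) (.node (.leaf 2500208476803) (.leaf 4104379100929))))) (.node (.node (.node (.node (.node (.leaf 454729771138) (.leaf 4406100625541)) (.leaf 3029563278739)) (.node (.leaf 528818258206) (.leaf 3570192411394))) (.node (.node (.leaf 1829656504337) (.leaf 3453691376661)) (.node (.leaf 2560874860814) (.leaf 4010426668825)))) (.node (.node (.node (.leaf 965294130061) (.leaf 2517388328455)) (.node (.leaf 1842004654996) (.leaf 2683281721740))) (.node (.node (.leaf 332323239451) (.leaf 2672007346568)) (.node (.leaf 2780991973653) (.leaf 4198868392069))))))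
def dF_1491 : BT := .node (.node (.node (.node (.node (.node (.node (.leaf 30064778259) (.leaf 4261145027851)) (.leaf 2855617061786)) (.node (.leaf 135828408606) (.leaf 2517388420235))) (.node (.node (.leaf 1059246591244) (.leaf 3279745183376)) (.node (.leaf 2371896254747) (.leaf 3859565906579)))) (.node (.node (.node (.node (.leaf 499826830612) (.leaf 4443681589516)) (.leaf 3084860995867)) (.node (.leaf 2024540691855) (.leaf 2417530583946))) (.node (.node (.leaf 478352465803) (.leaf 2365453878558)) (.node (.leaf 2636573201795) (.leaf 3900368142110))))) (.node (.node (.node (.node (.node (.leaf 381715309568) (.leaf 4374962104966)) (.leaf 2828773548951)) (.node (.leaf 1635309204382) (.leaf 2690260817027))) (.node (.node (.leaf 386010576522) (.leaf 3404299264665)) (.node (.leaf 2510408983058) (.leaf 3715684527390)))) (.node (.node (.node (.leaf 768262458379) (.leaf 3178276400151)) (.node (.leaf 168577904525) (.leaf 3743601761937))) (.node (.node (.leaf 1428077161735) (.leaf 2436320832514)) (.node (.leaf 2735894776597) (.leaf 4168266754692)))))) (.node (.node (.node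 (.node (.node (.node (.leaf 217969592591) (.leaf 4321274867607)) (.leaf 2924336554894)) (.node (.leaf 392989853836) (.leaf 2665564777218))) (.node (.node (.leaf 383326158872) (.leaf 3336116642588)) (.node (.leaf 2433636424453) (.leaf 3906273687058)))) (.node (.node (.node (.leaf 466540968845) (.leaf 3141232455058)) (.node (.leaf 1560684043670) (.leaf 2812667589507))) (.node (.node (.leaf 222801481349) (.leaf 3578782352773)) (.node (.leaf 2648921718934) (.leaf 4118874618899))))) (.node (.node (.node (.node (.node (.leaf 19327466006) (.leaf 4411469335686)) (.leaf 2836826621463)) (.node (.leaf 1068373637268) (.leaf 2906619798422))) (.node (.node (.leaf 1840393923207) (.leaf 2573759977477)) (.node (.leaf 2576444120985) (.leaf 4014721637014)))) (.node (.node (.node (.leaf 991063926666) (.leaf 3229816176657)) (.node (.leaf 1707250057225) (.leaf 3799436294285))) (.node (.node (.leaf 680752476812) (.leaf 2675228493598)) (.node (.leaf 2790118794894) (.leaf 4203162683398))))))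
def dF_1500 : BT := .node (.node (.node (.node (.node (.node (.node (.leaf 92878689939) (.leaf 1834488920205)) (.leaf 2831994736017)) (.node (.leaf 536907545) (.leaf 1842004802974))) (.node (.node (.leaf 1151051509788) (.leaf 3267933838871)) (.node (.leaf 2366527544339) (.leaf 2660196286238)))) (.node (.node (.node (.node (.leaf 441307973270) (.leaf 4438849757076)) (.leaf 3076271059228)) (.node (.leaf 631897214094) (.leaf 2933463529495))) (.node (.node (.leaf 1946157533825) (.leaf 3505230955015)) (.node (.leaf 2580202225814) (.leaf 4034048995332))))) (.node (.node (.node (.node (.node (.leaf 348429252245) (.leaf 3731253879297)) (.leaf 2968359941014)) (.node (.leaf 472446729886) (.leaf 2689186996510))) (.node (.node (.leaf 1591285762692) (.leaf 3398393683219)) (.node (.leaf 2498597820184) (.leaf 3747896779522)))) (.node (.node (.node (.leaf 756988152971) (.leaf 3171297220884)) (.node (.leaf 110058542213) (.leaf 3735011818774))) (.node (.node (.leaf 968515214622) (.leaf 2624225702400)) (.node (.leaf 2737505432975) (.leaf 4152697494415)))))) (.node (.node (.node (.node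 (.node (.node (.leaf 204010995331) (.leaf 3765613606933)) (.leaf 2920578457625)) (.node (.leaf 409095669121) (.leaf 2469070107649))) (.node (.node (.leaf 1345398826381) (.leaf 3317863027219)) (.node (.leaf 2426120229786) (.leaf 3901441847704)))) (.node (.node (.node (.leaf 9126942221) (.leaf 2903398637574)) (.node (.leaf 534723954078) (.leaf 2813741329694))) (.node (.node (.leaf 345745176603) (.leaf 3561065074306)) (.node (.leaf 2671470238485) (.leaf 4103305276672))))) (.node (.node (.node (.node (.node (.leaf 462245962765) (.leaf 4359392855828)) (.leaf 3038153169428)) (.node (.leaf 371514790272) (.leaf 3406446737281))) (.node (.node (.leaf 1774358799619) (.leaf 3453691388183)) (.node (.leaf 2564632958097) (.leaf 4012037281946)))) (.node (.node (.node (.leaf 955093580178) (.leaf 3170760374659)) (.node (.leaf 2329483442837) (.leaf 3793530768780))) (.node (.node (.leaf 448824258206) (.leaf 2549600626078)) (.node (.leaf 2782065729297) (.leaf 4199942145944))))))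
def dF_1507 : BT := .node (.node (.node (.node (.node (.node (.node (.leaf 90194334738) (.leaf 3924527381022)) (.leaf 2465848779012)) (.node (.leaf 137438981534) (.leaf 2370822716418))) (.node (.node (.leaf 1181116288132) (.leaf 3280818925469)) (.node (.leaf 2353642643456) (.leaf 3853660325135)))) (.node (.node (.node (.node (.leaf 342523745431) (.leaf 4442607856029)) (.leaf 3090766577308)) (.node (.leaf 634581569294) (.leaf 3636227553921))) (.node (.node (.leaf 2024540691978) (.leaf 2389076392460)) (.node (.leaf 2636036806424) (.leaf 4057671320346))))) (.node (.node (.node (.node (.node (.leaf 372051630723) (.leaf 4375498924933)) (.leaf 2818572999188)) (.node (.leaf 425738859291) (.leaf 3075197307020))) (.node (.node (.leaf 1635309187329) (.leaf 3387119379863)) (.node (.leaf 2502892788506) (.leaf 3958887048987)))) (.node (.node (.node (.leaf 766114974097) (.leaf 3180960859541)) (.node (.leaf 1903744692737) (.leaf 3018289159304))) (.node (.node (.leaf 877247104640) (.leaf 3098282805772)) (.node (.leaf 2549600599174) (.leaf 3156265082379)))))) (.node (.node (.node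 (.node (.node (.node (.leaf 217969642256) (.leaf 4276177845893)) (.leaf 2924336554906)) (.node (.leaf 48855284609) (.leaf 3007014643334))) (.node (.node (.leaf 1365799925901) (.leaf 3328600297730)) (.node (.leaf 2419677777294) (.leaf 2521146729226)))) (.node (.node (.node (.leaf 615791083012) (.leaf 3141769326104)) (.node (.leaf 1329829564164) (.leaf 2573223162507))) (.node (.node (.leaf 468688412442) (.leaf 3563213093014)) (.node (.leaf 2679523360657) (.leaf 4104915971867))))) (.node (.node (.node (.node (.node (.leaf 476204612497) (.leaf 3611531676552)) (.leaf 2457795759234)) (.node (.leaf 1211181071006) (.leaf 2585034041101))) (.node (.node (.leaf 387621236619) (.leaf 3406446760981)) (.node (.leaf 2402497946261) (.leaf 4005594829454)))) (.node (.node (.node (.leaf 980863390212) (.leaf 3230353047704)) (.node (.leaf 1962800610966) (.leaf 3799436350098))) (.node (.node (.leaf 609348991512) (.leaf 2863670021022)) (.node (.leaf 2793340021138) (.leaf 4153234377751))))))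
def dF_1515 : BT := .node (.node (.node (.node (.node (.node (.node (.leaf 12884904977) (.leaf 4014184825219)) (.leaf 2848637738373)) (.node (.leaf 2176475225502) (.leaf 1845225938846))) (.node (.node (.leaf 1159104575500) (.leaf 3268470753414)) (.node (.leaf 2367601286678) (.leaf 3834869523208)))) (.node (.node (.node (.node (.leaf 387620912134) (.leaf 3032784840843)) (.leaf 3047816901143)) (.node (.leaf 1320702758414) (.leaf 3630321972497))) (.node (.node (.leaf 2018635110417) (.leaf 3512747214739)) (.node (.leaf 2636573677459) (.leaf 4048007641602))))) (.node (.node (.node (.node (.node (.leaf 367219791492) (.leaf 4207995250945)) (.leaf 2984466111386)) (.node (.leaf 17717083038) (.leaf 2945811383190))) (.node (.node (.leaf 1558536643596) (.leaf 3396246051459)) (.node (.leaf 2504503401741) (.leaf 3965866372612)))) (.node (.node (.node (.leaf 762356876817) (.leaf 3179887169947)) (.node (.leaf 1832340888598) (.leaf 3739843664655))) (.node (.node (.leaf 2003602402587) (.leaf 2491618568709)) (.node (.leaf 2733747335698) (.leaf 4150549988109)))))) (.node (.node (.node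 (.node (.node (.node (.leaf 219580255488) (.leaf 4327717417357)) (.leaf 2910914778897)) (.node (.leaf 129922831390) (.leaf 2479270463360))) (.node (.node (.leaf 1349693786137) (.leaf 3321084116226)) (.node (.leaf 2422899003538) (.leaf 3860102788116)))) (.node (.node (.node (.leaf 594316128005) (.leaf 3142843068292)) (.node (.leaf 1395864714004) (.leaf 3692599013139))) (.node (.node (.leaf 1859721282820) (.leaf 3563213092507)) (.node (.leaf 2677375876507) (.leaf 3005941218569))))) (.node (.node (.node (.node (.node (.leaf 474593999493) (.leaf 4408248109455)) (.leaf 3026342052497)) (.node (.leaf 30602083722) (.leaf 3572339732361))) (.node (.node (.leaf 1832877730589) (.leaf 3460133852829)) (.node (.leaf 2559264205460) (.leaf 4008816055698)))) (.node (.node (.node (.leaf 969052227218) (.leaf 2902861790726)) (.node (.leaf 2332704668829) (.leaf 3549254504340))) (.node (.node (.leaf 617402064283) (.leaf 2434709783682)) (.node (.leaf 2794413759629) (.leaf 4206921469450))))))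
def dF_1522 : BT := .node (.node (.node (.node (.node (.node (.node (.leaf 96099916189) (.leaf 4264366589598)) (.leaf 2857764545934)) (.node (.leaf 450434798110) (.leaf 3042985145737))) (.node (.node (.leaf 1188632482305) (.leaf 3172907871491)) (.node (.leaf 2372433125785) (.leaf 3857418225798)))) (.node (.node (.node (.node (.leaf 409632517639) (.leaf 3736622607243)) (.leaf 3092914061459)) (.node (.leaf 1902670965774) (.leaf 3637838167064))) (.node (.node (.leaf 1954747474453) (.leaf 644245795084)) (.node (.leaf 2625299385619) (.leaf 4054986576266))))) (.node (.node (.node (.node (.node (.leaf 388694632978) (.leaf 4376035465867)) (.leaf 2991982305939)) (.node (.leaf 350040023710) (.leaf 2454037615492))) (.node (.node (.leaf 475131148553) (.leaf 3402151780498)) (.node (.leaf 2505577143697) (.leaf 3958887048977)))) (.node (.node (.node (.leaf 220117257859) (.leaf 3187940235652)) (.node (.leaf 1765231755013) (.leaf 3748433601412))) (.node (.node (.leaf 292594699930) (.leaf 2971581321228)) (.node (.leaf 699543454470) (.leaf 4164508657308)))))) (.node (.node (.node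 (.node (.node (.node (.leaf 245350065412) (.leaf 4332012421789)) (.leaf 2929705265411)) (.node (.leaf 474057132062) (.leaf 2646237330709))) (.node (.node (.leaf 1378684506250) (.leaf 3336653513619)) (.node (.leaf 2433636424346) (.leaf 3870303336193)))) (.node (.node (.node (.leaf 9663825051) (.leaf 3134790002576)) (.node (.leaf 1498407029141) (.leaf 3698504263559))) (.node (.node (.leaf 1100048761351) (.leaf 3582540449946)) (.node (.leaf 2682207659286) (.leaf 4117264005776))))) (.node (.node (.node (.node (.node (.leaf 445066098075) (.leaf 2390150352394)) (.leaf 3023657651222)) (.node (.leaf 44560455838) (.leaf 3506841522316))) (.node (.node (.leaf 1832877732631) (.leaf 3473555628827)) (.node (.leaf 2578054734095) (.leaf 4009889648138)))) (.node (.node (.node (.leaf 996432648980) (.leaf 2524904669972)) (.node (.leaf 2336462646422) (.leaf 3800510092179))) (.node (.node (.leaf 2012192397081) (.leaf 2439542032277)) (.node (.leaf 2788507984268) (.leaf 4215511406220))))))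
def dF_1535 : BT := .node (.node (.node (.node (.node (.node (.node (.leaf 42949690270) (.leaf 4247723553792)) (.leaf 2831994736025)) (.node (.leaf 1338956481310) (.leaf 2521146495006))) (.node (.node (.leaf 1131724152580) (.leaf 3273302730897)) (.node (.leaf 2364380060175) (.leaf 3642670052107)))) (.node (.node (.node (.node (.leaf 469762138774) (.leaf 4437775950089)) (.leaf 3042985061783)) (.node (.leaf 1835562085785) (.leaf 3628174488348))) (.node (.node (.leaf 1979443524499) (.leaf 3505231020185)) (.node (.leaf 2617783183511) (.leaf 2658585720203))))) (.node (.node (.node (.node (.node (.leaf 347355562899) (.leaf 4364761555214)) (.leaf 2979097361813)) (.node (.leaf 89657463707) (.leaf 2683818457630))) (.node (.node (.leaf 1506997025540) (.leaf 3310346849940)) (.node (.leaf 2488397270414) (.leaf 3952444596499)))) (.node (.node (.node (.leaf 746787616775) (.leaf 3171297233307)) (.node (.leaf 150860757893) (.leaf 3732864341135))) (.node (.node (.leaf 364535667354) (.leaf 3591130290560)) (.node (.leaf 2724083656978) (.leaf 4141423202455)))))) (.node (.node (.node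 (.node (.node (.node (.leaf 190052348292) (.leaf 4305168869761)) (.leaf 2920578457729)) (.node (.leaf 129386108830) (.leaf 2443300099712))) (.node (.node (.leaf 1326608339869) (.leaf 3323768608667)) (.node (.leaf 2425046487820) (.leaf 3903589331856)))) (.node (.node (.node (.leaf 554050913297) (.leaf 3128884421149)) (.node (.leaf 383862838400) (.leaf 3681861337225))) (.node (.node (.leaf 246960678302) (.leaf 3552475673477)) (.node (.leaf 2673617779214) (.leaf 3731790686979))))) (.node (.node (.node (.node (.node (.leaf 435939284497) (.leaf 4402879399056)) (.leaf 3032784504987)) (.node (.leaf 30064778625) (.leaf 2730526123016))) (.node (.node (.leaf 1371168741531) (.leaf 3445101466125)) (.node (.leaf 2557653634584) (.leaf 4016869121412)))) (.node (.node (.node (.leaf 931471255305) (.leaf 3227668692507)) (.node (.leaf 1825361656067) (.leaf 3531000891284))) (.node (.node (.leaf 749471902362) (.leaf 701690918791)) (.node (.leaf 2784750084609) (.leaf 4183835902080))))))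
def dF_1542 : BT := .node (.node (.node (.node (.node (.node (.node (.leaf 9663678737) (.leaf 4014721696148)) (.leaf 2851858964612)) (.node (.leaf 89657463695) (.leaf 3278134476821))) (.node (.node (.leaf 1162325801729) (.leaf 2388539454086)) (.node (.leaf 2369211898377) (.leaf 3691525306507)))) (.node (.node (.node (.node (.leaf 478352075414) (.leaf 4433481050253)) (.leaf 3076807770374)) (.node (.leaf 1315334048014) (.leaf 3634616940929))) (.node (.node (.leaf 2019171953413) (.leaf 3513284085776)) (.node (.leaf 2636036806428) (.leaf 3739306867486))))) (.node (.node (.node (.node (.node (.leaf 370441017733) (.leaf 4367445796998)) (.leaf 2981244885146)) (.node (.leaf 426812674313) (.leaf 3209951799838))) (.node (.node (.leaf 1621887411972) (.leaf 2975876274691)) (.node (.leaf 2507724627969) (.leaf 2937758576651)))) (.node (.node (.node (.leaf 761819990038) (.leaf 3182571525144)) (.node (.leaf 617938566933) (.leaf 3739843664667))) (.node (.node (.leaf 125091100318) (.leaf 3254512121246)) (.node (.leaf 2730526109458) (.leaf 4150550010259)))))) (.node (.node (.node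 (.node (.node (.node (.leaf 222801481741) (.leaf 4284767780482)) (.leaf 2920041586574)) (.node (.leaf 207769547934) (.leaf 3202972525185))) (.node (.node (.leaf 1352378149892) (.leaf 3055333150338)) (.node (.leaf 2419677777298) (.leaf 3904126202907)))) (.node (.node (.node (.leaf 596463725568) (.leaf 2979097440387)) (.node (.leaf 1511828830870) (.leaf 3693672755216))) (.node (.node (.leaf 1037771706014) (.leaf 1121524184835)) (.node (.leaf 2681670844825) (.leaf 4119948360987))))) (.node (.node (.node (.node (.node (.leaf 477815225732) (.leaf 4406100625814)) (.leaf 3037079473295)) (.node (.leaf 30601690775) (.leaf 2961917610753))) (.node (.node (.leaf 1833414601738) (.leaf 3460670723866)) (.node (.leaf 2562485431700) (.leaf 4005594829458)))) (.node (.node (.node (.leaf 965831000978) (.leaf 3230353047812)) (.node (.leaf 2327335959819) (.leaf 3796751936022))) (.node (.node (.leaf 2161442439066) (.leaf 2434710238476)) (.node (.leaf 2556043078294) (.leaf 4205847727389))))))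
def dF_1550 : BT := .node (.node (.node (.node (.node (.node (.node (.leaf 84288753299) (.leaf 4252555507859)) (.leaf 2844342769934)) (.node (.leaf 51003269120) (.leaf 2403035037697))) (.node (.node (.leaf 1147830283548) (.leaf 2506114196373)) (.node (.leaf 2367064415109) (.leaf 2623689063454)))) (.node (.node (.node (.node (.leaf 443455457430) (.leaf 4421133018637)) (.leaf 3077881672347)) (.node (.leaf 643171505934) (.leaf 3633006327708))) (.node (.node (.leaf 2005213308443) (.leaf 2761664806915)) (.node (.leaf 2619930072972) (.leaf 4038343961879))))) (.node (.node (.node (.node (.node (.leaf 345208026005) (.leaf 4365835124489)) (.leaf 2971581167254)) (.node (.leaf 2196339429534) (.leaf 2596845434398))) (.node (.node (.leaf 1594506988932) (.leaf 3398393683227)) (.node (.leaf 2495376593944) (.leaf 3875135185687)))) (.node (.node (.node (.leaf 757524968197) (.leaf 3118683883797)) (.node (.leaf 617938589470) (.leaf 3738233016321))) (.node (.node (.leaf 1870995196314) (.leaf 2530273211147)) (.node (.leaf 2737505432985) (.leaf 4152697494419)))))) (.node (.node (.node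 (.node (.node (.node (.leaf 207232221580) (.leaf 4320738129944)) (.leaf 2917357231385)) (.node (.leaf 315143281822) (.leaf 3309809878273))) (.node (.node (.leaf 1348083181446) (.leaf 3314641800979)) (.node (.leaf 2422899003546) (.leaf 3708705190294)))) (.node (.node (.node (.leaf 9126942619) (.leaf 2960843825686)) (.node (.leaf 526133620611) (.leaf 3361349659141))) (.node (.node (.leaf 2167885259525) (.leaf 3560528736532)) (.node (.leaf 2432025867799) (.leaf 2867965390089))))) (.node (.node (.node (.node (.node (.leaf 461709094419) (.leaf 4405563754265)) (.leaf 2844879640968)) (.node (.leaf 1202590952990) (.leaf 2397666106891))) (.node (.node (.leaf 1826972149250) (.leaf 2488934371074)) (.node (.leaf 2561411731857) (.leaf 4008816055706)))) (.node (.node (.node (.leaf 951872353938) (.leaf 3223910426389)) (.node (.leaf 2330557183766) (.leaf 3796751995009))) (.node (.node (.leaf 447213645581) (.leaf 2434172982278)) (.node (.leaf 2782065729295) (.leaf 4152697506309))))))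
def dF_1557 : BT := .node (.node (.node (.node (.node (.node (.node (.leaf 45634038419) (.leaf 4255239515654)) (.leaf 2855617061893)) (.node (.leaf 851477708702) (.leaf 2577517808129))) (.node (.node (.leaf 1180579416989) (.leaf 3277597699229)) (.node (.leaf 2370822512659) (.leaf 3853660325144)))) (.node (.node (.node (.node (.leaf 434328573698) (.leaf 4443144727042)) (.leaf 3087545351068)) (.node (.leaf 820875820175) (.leaf 3636227553947))) (.node (.node (.leaf 2025077561493) (.leaf 3520263409297)) (.node (.leaf 2632815580184) (.leaf 4059281933465))))) (.node (.node (.node (.node (.node (.leaf 143881491463) (.leaf 3729643268866)) (.leaf 2817499257111)) (.node (.leaf 47244849292) (.leaf 2509335285504))) (.node (.node (.leaf 20401484683) (.leaf 3338264138261)) (.node (.leaf 2512019596185) (.leaf 3962108275227)))) (.node (.node (.node (.leaf 765578102676) (.leaf 3180424028567)) (.node (.leaf 766115229827) (.leaf 3741454278016))) (.node (.node (.leaf 367756910596) (.leaf 2821794208151)) (.node (.leaf 2676302104326) (.leaf 4155381449608)))))) (.node (.node (.node (.node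 (.node (.node (.leaf 230317663257) (.leaf 4323958965259)) (.leaf 2925410296984)) (.node (.leaf 143345015691) (.leaf 2440615903107))) (.node (.node (.leaf 1369021152132) (.leaf 3327526603654)) (.node (.leaf 2416456551054) (.leaf 3707094573847)))) (.node (.node (.node (.leaf 619012309252) (.leaf 3138548099864)) (.node (.leaf 1502165141399) (.leaf 3696357110429))) (.node (.node (.leaf 988916484356) (.leaf 3521874033045)) (.node (.leaf 2677912747534) (.leaf 4117264005784))))) (.node (.node (.node (.node (.node (.leaf 472983386257) (.leaf 4410395593617)) (.leaf 3035468749059)) (.node (.leaf 1068910258590) (.leaf 2407866629396))) (.node (.node (.leaf 1837709569936) (.leaf 3457986344982)) (.node (.leaf 2578591605149) (.leaf 3128347762315)))) (.node (.node (.node (.leaf 984084616453) (.leaf 3235721758094)) (.node (.leaf 2335389024137) (.leaf 3789772673415))) (.node (.node (.leaf 671625728398) (.leaf 2490544761994)) (.node (.leaf 2790118794898) (.leaf 4204236958594))))))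
def dF_1566 : BT := .node (.node (.node (.node (.node (.node (.node (.leaf 19327357459) (.leaf 4243965487106)) (.leaf 2830384122898)) (.node (.leaf 187904867358) (.leaf 2467459312916))) (.node (.node (.leaf 1140314089101) (.leaf 2509335422613)) (.node (.leaf 2364916931224) (.leaf 3845607259648)))) (.node (.node (.node (.node (.leaf 440234178452) (.leaf 4438312887699)) (.leaf 3076807930380)) (.node (.leaf 1763084495374) (.leaf 3626027004177))) (.node (.node (.leaf 1990717816452) (.leaf 3507915369623)) (.node (.leaf 2612414430870) (.leaf 3559991980574))))) (.node (.node (.node (.node (.node (.leaf 344671207696) (.leaf 4366372168452)) (.leaf 2967286120450)) (.node (.leaf 94489303065) (.leaf 2599529790212))) (.node (.node (.leaf 1552631054477) (.leaf 2637110727173)) (.node (.leaf 2497524078108) (.leaf 2031520473734)))) (.node (.node (.node (.leaf 746787616414) (.leaf 3170760362257)) (.node (.leaf 634044969353) (.leaf 3732327159048))) (.node (.node (.leaf 1367410748314) (.leaf 2968359936908)) (.node (.leaf 2725157355797) (.leaf 3744138729094)))))) (.node (.node (.node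 (.node (.node (.node (.leaf 193810445459) (.leaf 4305168869643)) (.leaf 2909841036829)) (.node (.leaf 235686337566) (.leaf 2747706073228))) (.node (.node (.leaf 1331440179329) (.leaf 3317863027224)) (.node (.leaf 2424509616669) (.leaf 3903052422786)))) (.node (.node (.node (.leaf 571230786692) (.leaf 3128347550097)) (.node (.leaf 1177895044373) (.leaf 3636227565829))) (.node (.node (.leaf 2161442761102) (.leaf 3561065531017)) (.node (.leaf 2640868653334) (.leaf 4100620973957))))) (.node (.node (.node (.node (.node (.leaf 437013026563) (.leaf 4404489555210)) (.leaf 3031173891864)) (.node (.leaf 1394253785092) (.leaf 2560874818569))) (.node (.node (.leaf 1823213622272) (.leaf 3452080787225)) (.node (.leaf 2565169829138) (.leaf 4010426668829)))) (.node (.node (.node (.leaf 945429901572) (.leaf 3224447466259)) (.node (.leaf 2326798936450) (.leaf 3788698929289))) (.node (.node (.leaf 2163052915610) (.leaf 2314988044958)) (.node (.leaf 2784213213464) (.leaf 4152697506324))))))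
def dF_1573 : BT := .node (.node (.node (.node (.node (.node (.node (.leaf 40265328016) (.leaf 4257924218266)) (.leaf 2850785222418)) (.node (.leaf 321049067294) (.leaf 2359011403149))) (.node (.node (.leaf 1156420197902) (.leaf 2942590157575)) (.node (.leaf 2023467032342) (.leaf 3850438786444)))) (.node (.node (.node (.node (.leaf 23622434307) (.leaf 4442070984975)) (.leaf 3087545351172)) (.node (.leaf 1132797894415) (.leaf 3634080069787))) (.node (.node (.leaf 2018635111425) (.leaf 3132105739524)) (.node (.leaf 2634426193307) (.leaf 2903935730953))))) (.node (.node (.node (.node (.node (.leaf 371514759697) (.leaf 4373888362909)) (.leaf 2983392369296)) (.node (.leaf 1180579463949) (.leaf 2390686964484))) (.node (.node (.leaf 19327741711) (.leaf 3343095977622)) (.node (.leaf 2504503401629) (.leaf 3966403182102)))) (.node (.node (.node (.leaf 763967488279) (.leaf 3180960912016)) (.node (.leaf 2024540646276) (.leaf 3740380525335))) (.node (.node (.leaf 965831217300) (.leaf 2651069387166)) (.node (.leaf 2553895580567) (.leaf 4070019374081)))))) (.node (.node (.node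 (.node (.node (.node (.leaf 231928289296) (.leaf 4323959356186)) (.leaf 2925947168141)) (.node (.leaf 339302497304) (.leaf 3091840220032))) (.node (.node (.leaf 134754922253) (.leaf 3331284803332)) (.node (.leaf 2418067164177) (.leaf 3905736816015)))) (.node (.node (.node (.leaf 612032985629) (.leaf 3143916810266)) (.node (.leaf 1450625520663) (.leaf 3692599013149))) (.node (.node (.leaf 13421804698) (.leaf 3565360297607)) (.node (.leaf 2676839005459) (.leaf 4118874618907))))) (.node (.node (.node (.node (.node (.leaf 477278354579) (.leaf 4409858722575)) (.leaf 2586644747266)) (.node (.leaf 1069984250391) (.leaf 2906083074816))) (.node (.node (.leaf 1836098956829) (.leaf 3458523239699)) (.node (.leaf 2339147173383) (.leaf 4003984216337)))) (.node (.node (.node (.leaf 964220387857) (.leaf 3229279305628)) (.node (.leaf 2333778294021) (.leaf 3789235655299))) (.node (.node (.leaf 945430169349) (.leaf 2550674254860)) (.node (.leaf 2786897568667) (.leaf 4206384598417))))))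
def dF_1581 : BT := .node (.node (.node (.node (.node (.node (.node (.leaf 88583721617) (.leaf 3313031410825)) (.leaf 2845416511895)) (.node (.leaf 917512572574) (.leaf 1897302424990))) (.node (.node (.leaf 1137092853018) (.leaf 3210488832020)) (.node (.leaf 2365990673797) (.leaf 3692062177412)))) (.node (.node (.node (.node (.leaf 130459737091) (.leaf 4408784988033)) (.leaf 3077881672336)) (.node (.leaf 1281511172495) (.leaf 3632469456664))) (.node (.node (.leaf 1807107970311) (.leaf 3514894698907)) (.node (.leaf 2625836256772) (.leaf 4047470770579))))) (.node (.node (.node (.node (.node (.leaf 230317676163) (.leaf 3073587013899)) (.leaf 2986613595652)) (.node (.leaf 630823472027) (.leaf 2574833515141))) (.node (.node (.leaf 1609002507021) (.leaf 3396783070099)) (.node (.leaf 2493229109776) (.leaf 3955665822747)))) (.node (.node (.node (.leaf 760746249097) (.leaf 2710125122951)) (.node (.leaf 617401696133) (.leaf 1833951926918))) (.node (.node (.leaf 2200097078042) (.leaf 3609920873091)) (.node (.leaf 2729452367386) (.leaf 3926674840320)))))) (.node (.node (.node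 (.node (.node (.node (.leaf 141197100935) (.leaf 4312147743498)) (.leaf 2912525392018)) (.node (.leaf 11811162905) (.leaf 3202972442112))) (.node (.node (.leaf 1337345749016) (.leaf 3318936769295)) (.node (.leaf 2421288390425) (.leaf 3900368103319)))) (.node (.node (.node (.leaf 580357594373) (.leaf 3068754877828)) (.node (.leaf 1550483526531) (.leaf 3691525271066))) (.node (.node (.leaf 2175937909893) (.leaf 3562139350419)) (.node (.leaf 2682744586905) (.leaf 4107600327181))))) (.node (.node (.node (.node (.node (.leaf 7516303385) (.leaf 4407174367379)) (.leaf 3026342052499)) (.node (.leaf 1070521121428) (.leaf 2478733836299))) (.node (.node (.leaf 1830193375494) (.leaf 2493229339268)) (.node (.leaf 2557653634574) (.leaf 4007205442585)))) (.node (.node (.node (.leaf 968515356288) (.leaf 2756832902279)) (.node (.leaf 2331630808837) (.leaf 3796215123868))) (.node (.node (.leaf 49929084687) (.leaf 2640331962782)) (.node (.leaf 2726231154711) (.leaf 4198868403858))))))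
def dF_1588 : BT := .node (.node (.node (.node (.node (.node (.node (.leaf 89120592515) (.leaf 4261145364884)) (.leaf 2857227674905)) (.node (.leaf 89120598797) (.leaf 1845226082573))) (.node (.node (.leaf 1183263754509) (.leaf 3277060828179)) (.node (.leaf 2371895856258) (.leaf 3859565906589)))) (.node (.node (.node (.node (.leaf 46170995351) (.leaf 4442607856138)) (.leaf 3092914061464)) (.node (.leaf 1046361656975) (.leaf 3114389027724))) (.node (.node (.leaf 2026688176016) (.leaf 2593086909190)) (.node (.leaf 2635499886356) (.leaf 4054986787208))))) (.node (.node (.node (.node (.node (.leaf 384936535820) (.leaf 4312148208640)) (.leaf 2991445434908)) (.node (.leaf 1694365002255) (.leaf 2507187800470))) (.node (.node (.leaf 1639604156177) (.leaf 3402151780509)) (.node (.leaf 2507187756818) (.leaf 3956739534110)))) (.node (.node (.node (.leaf 768799329299) (.leaf 3176129060244)) (.node (.leaf 635118725004) (.leaf 3743601761949))) (.node (.node (.leaf 832150337942) (.leaf 2532957543701)) (.node (.leaf 2739116046213) (.leaf 4171487939973)))))) (.node (.node (.node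 (.node (.node (.node (.leaf 179851809560) (.leaf 2547453507720)) (.leaf 2922188963732)) (.node (.leaf 1114007308574) (.leaf 2539936893059))) (.node (.node (.leaf 426275831949) (.leaf 3332895416348)) (.node (.leaf 2436857650692) (.leaf 3906273687041)))) (.node (.node (.node (.leaf 614717340702) (.leaf 3138011228818)) (.node (.leaf 1251446470789) (.leaf 3697430852509))) (.node (.node (.leaf 881542288391) (.leaf 3582003579013)) (.node (.leaf 2647847976854) (.leaf 4115653392659))))) (.node (.node (.node (.node (.node (.leaf 473520257287) (.leaf 4411469335709)) (.leaf 2833605395223)) (.node (.leaf 441844931230) (.leaf 3382824310155))) (.node (.node (.leaf 1840393925149) (.leaf 3464428821252)) (.node (.leaf 2579128433943) (.leaf 2497524439563)))) (.node (.node (.node (.leaf 990527069187) (.leaf 3233574273934)) (.node (.leaf 2332167798913) (.leaf 2511483032321))) (.node (.node (.leaf 673236271897) (.leaf 2435247086473)) (.node (.leaf 2786897568654) (.leaf 4203163372177))))))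
def dF_1598 : BT := .node (.node (.node (.node (.node (.node (.node (.leaf 26306680979) (.leaf 3772592910878)) (.leaf 2838974059538)) (.node (.leaf 414) (.leaf 2466922463902))) (.node (.node (.leaf 223338570122) (.leaf 3272765847062)) (.node (.leaf 828392381190) (.leaf 3837017323008)))) (.node (.node (.node (.node (.leaf 443992275715) (.leaf 4437776016669)) (.leaf 2846490307221)) (.node (.leaf 1827509020175) (.leaf 3627100746264))) (.node (.node (.leaf 1926830176513) (.leaf 3505231020178)) (.node (.leaf 2581275967894) (.leaf 4031364604937))))) (.node (.node (.node (.node (.node (.leaf 353261144336) (.leaf 4365298426258)) (.leaf 2973728651413)) (.node (.leaf 321585752987) (.leaf 2454574534686))) (.node (.node (.leaf 227633643014) (.leaf 2904472440214)) (.node (.leaf 2498060949260) (.leaf 3064996979202)))) (.node (.node (.node (.leaf 751619456018) (.leaf 3174518459534)) (.node (.leaf 159987969421) (.leaf 2742874378762))) (.node (.node (.leaf 26844081176) (.leaf 2416456771201)) (.node (.leaf 2724083656974) (.leaf 4146254993674)))))) (.node (.node (.node (.node (.node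 (.node (.leaf 198642284933) (.leaf 4304094931081)) (.leaf 2918430973469)) (.node (.leaf 814970111518) (.leaf 2455648005389))) (.node (.node (.leaf 1329292691221) (.leaf 3315178672027)) (.node (.leaf 2430952069137) (.leaf 2443300451082)))) (.node (.node (.node (.leaf 155692698764) (.leaf 3131568736279)) (.node (.leaf 551366767902) (.leaf 3685619689627))) (.node (.node (.leaf 404800754048) (.leaf 3558918124438)) (.node (.leaf 2670933424017) (.leaf 3732864429206))))) (.node (.node (.node (.node (.node (.leaf 136902189590) (.leaf 2971044677254)) (.leaf 3024194568347)) (.node (.leaf 499290036766) (.leaf 3503620401280))) (.node (.node (.leaf 1756642058117) (.leaf 3453154529309)) (.node (.leaf 2571612239383) (.leaf 4019016605469)))) (.node (.node (.node (.leaf 925565676183) (.leaf 3227131821464)) (.node (.leaf 2329483441925) (.leaf 3788162058258))) (.node (.node (.leaf 2088428141726) (.leaf 2629594410112)) (.node (.leaf 2784213213468) (.leaf 4199405275009))))))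
def dF_1605 : BT := .node (.node (.node (.node (.node (.node (.node (.leaf 81604398080) (.leaf 4261682315548)) (.leaf 2851858964506)) (.node (.leaf 610959631898) (.leaf 2687576489758))) (.node (.node (.leaf 1170915720704) (.leaf 2452427067906)) (.node (.leaf 2312840453898) (.leaf 3850439099011)))) (.node (.node (.node (.node (.leaf 404263914374) (.leaf 4440997243030)) (.leaf 3079492278421)) (.node (.leaf 1248762039055) (.leaf 3635153811868))) (.node (.node (.leaf 2021319465345) (.leaf 3515968441089)) (.node (.leaf 2627446869788) (.leaf 4052839481091))))) (.node (.node (.node (.node (.node (.leaf 368830404509) (.leaf 4255239891331)) (.leaf 2986613595538)) (.node (.leaf 1217086652062) (.leaf 2937758435358))) (.node (.node (.leaf 227633655064) (.leaf 3393561832343)) (.node (.leaf 2513093338269) (.leaf 3954592083870)))) (.node (.node (.node (.leaf 692026787478) (.leaf 3130495046677)) (.node (.leaf 1962263623447) (.leaf 646393469827))) (.node (.node (.leaf 1855426336653) (.leaf 3253438462494)) (.node (.leaf 2729452367376) (.leaf 4154844978569)))))) (.node (.node (.node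 (.node (.node (.node (.leaf 231391418381) (.leaf 4326106840348)) (.leaf 2911451649934)) (.node (.leaf 1219233946526) (.leaf 3082713497095))) (.node (.node (.leaf 1360968086533) (.leaf 3317863002247)) (.node (.leaf 2426657100817) (.leaf 3333969294467)))) (.node (.node (.node (.leaf 605053662208) (.leaf 3140695584028)) (.node (.leaf 1268626293901) (.leaf 2389076439051))) (.node (.node (.leaf 134754630661) (.leaf 3564823411459)) (.node (.leaf 2682207715857) (.leaf 4111895295388))))) (.node (.node (.node (.node (.node (.leaf 474057128348) (.leaf 4408784570762)) (.leaf 3028489536655)) (.node (.leaf 46171336203) (.leaf 2961380656775))) (.node (.node (.leaf 1835025214737) (.leaf 2499671791362)) (.node (.leaf 2571075368340) (.leaf 4012574152977)))) (.node (.node (.node (.leaf 974957808657) (.leaf 2528125896215)) (.node (.leaf 1836099075456) (.leaf 3789772669574))) (.node (.node (.leaf 620623262873) (.leaf 2925410189718)) (.node (.leaf 2787434439708) (.leaf 4204773985305))))))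
def dF_1613 : BT := .node (.node (.node (.node (.node (.node (.node (.leaf 83215011216) (.leaf 4248260391051)) (.leaf 2835752833294)) (.node (.leaf 1184337513886) (.leaf 2466922464001))) (.node (.node (.leaf 1147830283538) (.leaf 3211562574100)) (.node (.leaf 2367601286149) (.leaf 3837554145155)))) (.node (.node (.node (.node (.leaf 349502994306) (.leaf 4439923500673)) (.leaf 3080029103380)) (.node (.leaf 638876537615) (.leaf 3631932459264))) (.node (.node (.leaf 2012729529092) (.leaf 2994129913226)) (.node (.leaf 2414309116033) (.leaf 4049081383812))))) (.node (.node (.node (.node (.node (.leaf 232465160326) (.leaf 4369056523651)) (.leaf 2476049279623)) (.node (.leaf 47781936926) (.leaf 3289945536001))) (.node (.node (.leaf 1600412570380) (.leaf 3397856812184)) (.node (.leaf 2494302851858) (.leaf 3955128951707)))) (.node (.node (.node (.leaf 759135650579) (.leaf 3177202814851)) (.node (.leaf 1899986641182) (.leaf 3738769499138))) (.node (.node (.leaf 903554264091) (.leaf 3262565346304)) (.node (.leaf 2729989238429) (.leaf 4150550010267)))))) (.node (.node (.node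 (.node (.node (.node (.leaf 212600910095) (.leaf 3554623337246)) (.leaf 2921115328658)) (.node (.leaf 524523333662) (.leaf 3481071823360))) (.node (.node (.leaf 111132596505) (.leaf 3316789285137)) (.node (.leaf 2429878327065) (.leaf 3901441519368)))) (.node (.node (.node (.leaf 572304529793) (.leaf 3128347462918)) (.node (.leaf 1395864634252) (.leaf 3686693431709))) (.node (.node (.leaf 24696580488) (.leaf 3560528737558)) (.node (.leaf 2679523360768) (.leaf 4103842229779))))) (.node (.node (.node (.node (.node (.leaf 459561536279) (.leaf 3610994804747)) (.leaf 3034931989139)) (.node (.leaf 1104343828894) (.leaf 2403571924126))) (.node (.node (.leaf 1823214053258) (.leaf 3450470150421)) (.node (.leaf 2566243571214) (.leaf 4015795379225)))) (.node (.node (.node (.leaf 959925419648) (.leaf 2899640564486)) (.node (.leaf 2331094055707) (.leaf 2364917272460))) (.node (.node (.leaf 493921412237) (.leaf 1275605959454)) (.node (.leaf 2780455046151) (.leaf 3892851984258))))))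
def dF_1620 : BT := .node (.node (.node (.node (.node (.node (.node (.leaf 35433488659) (.leaf 4262219127424)) (.leaf 2856153932829)) (.node (.leaf 667867578270) (.leaf 2700461469214))) (.node (.node (.leaf 1178968803856) (.leaf 3280281872919)) (.node (.leaf 2369211900165) (.leaf 3858492164609)))) (.node (.node (.node (.node (.leaf 50465985429) (.leaf 4443144727068)) (.leaf 3090229706267)) (.node (.leaf 514322456335) (.leaf 3614215846676))) (.node (.node (.leaf 2024540692119) (.leaf 2022393516190)) (.node (.leaf 2624225643544) (.leaf 4053913223065))))) (.node (.node (.node (.node (.node (.leaf 376346599180) (.leaf 4374962069509)) (.leaf 2990371692933)) (.node (.leaf 129923119518) (.leaf 2597918928256))) (.node (.node (.leaf 1636919800989) (.leaf 3403762393732)) (.node (.leaf 2503429659545) (.leaf 3961571404184)))) (.node (.node (.node (.leaf 767188716177) (.leaf 2958159482903)) (.node (.leaf 762357131014) (.leaf 2680597356042))) (.node (.node (.leaf 2247878864023) (.leaf 2728378625290)) (.node (.leaf 2729452324117) (.leaf 4162898044293)))))) (.node (.node (.node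 (.node (.node (.node (.leaf 14495567758) (.leaf 4054987028766)) (.leaf 2925410296976)) (.node (.leaf 1073793310) (.leaf 2633352542750))) (.node (.node (.leaf 1373316114319) (.leaf 3336653513729)) (.node (.leaf 1831804127874) (.leaf 3906273568644)))) (.node (.node (.node (.leaf 618475438099) (.leaf 3143379927060)) (.node (.leaf 1379758616076) (.leaf 3696893788555))) (.node (.node (.leaf 904627736350) (.leaf 3573413642373)) (.node (.leaf 2678986433046) (.leaf 4108674069144))))) (.node (.node (.node (.node (.node (.leaf 477278246039) (.leaf 4410932464655)) (.leaf 2508798383875)) (.node (.leaf 1068373387806) (.leaf 2855617139590))) (.node (.node (.leaf 1838783312136) (.leaf 3455838872340)) (.node (.leaf 2575907249946) (.leaf 4015258487319)))) (.node (.node (.node (.leaf 13422008591) (.leaf 3235184887057)) (.node (.leaf 2335389024026) (.leaf 3798362539540))) (.node (.node (.leaf 23622481694) (.leaf 2640331782283)) (.node (.leaf 2788508181777) (.leaf 4203699556998))))))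
def dF_1629 : BT := .node (.node (.node (.node (.node (.node (.node (.leaf 10737420819) (.leaf 4013647950980)) (.leaf 2837363446417)) (.node (.leaf 175019964034) (.leaf 3365644516382))) (.node (.node (.leaf 1148904025740) (.leaf 2508261680533)) (.node (.leaf 2365990673307) (.leaf 3849902227858)))) (.node (.node (.node (.node (.leaf 127238510851) (.leaf 4438849679242)) (.leaf 3081102898587)) (.node (.leaf 1772211303054) (.leaf 2779381577728))) (.node (.node (.leaf 1999307753093) (.leaf 3506304721301)) (.node (.leaf 2408403535255) (.leaf 3892315074824))))) (.node (.node (.node (.node (.node (.leaf 136902167956) (.leaf 4366371778314)) (.leaf 2801929996821)) (.node (.leaf 334470669470) (.leaf 3535295688734))) (.node (.node (.leaf 1585917052292) (.leaf 3394635586053)) (.node (.leaf 2496450336026) (.leaf 3954055209625)))) (.node (.node (.node (.leaf 11811340424) (.leaf 3172370922901)) (.node (.leaf 46170908928) (.leaf 3728569374084))) (.node (.node (.leaf 2250025999641) (.leaf 2473364973451)) (.node (.leaf 2733210464780) (.leaf 4141423202439)))))) (.node (.node (.node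 (.node (.node (.node (.leaf 112742939034) (.leaf 4318053774852)) (.leaf 2913599134106)) (.node (.leaf 331249431706) (.leaf 2479807525898))) (.node (.node (.leaf 1340030115969) (.leaf 3323231737619)) (.node (.leaf 2415919680029) (.leaf 3900368105628)))) (.node (.node (.node (.leaf 565325204867) (.leaf 2959770083605)) (.node (.leaf 526133757470) (.leaf 2814815071873))) (.node (.node (.leaf 2079301538311) (.leaf 3556233770133)) (.node (.leaf 2436320836119) (.leaf 4103304645644))))) (.node (.node (.node (.node (.node (.leaf 456877255169) (.leaf 4405563754255)) (.leaf 2844879687296)) (.node (.leaf 396747775390) (.leaf 2955474987529))) (.node (.node (.leaf 1825361536019) (.leaf 3453691400337)) (.node (.leaf 2570001668497) (.leaf 4017405992346)))) (.node (.node (.node (.leaf 954019838212) (.leaf 3224984168470)) (.node (.leaf 2327335807491) (.leaf 3788698880130))) (.node (.node (.leaf 752693244057) (.leaf 1956358353822)) (.node (.leaf 2784213213459) (.leaf 4201552759067))))))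
def dF_1636 : BT := .node (.node (.node (.node (.node (.node (.node (.leaf 30064778257) (.leaf 4253092340237)) (.leaf 2850248351375)) (.node (.leaf 523986304030) (.leaf 2309619444999))) (.node (.node (.leaf 1175747577732) (.leaf 3280818925457)) (.node (.leaf 2369211899799) (.leaf 3850439061908)))) (.node (.node (.node (.node (.leaf 405337656471) (.leaf 4442070985093)) (.leaf 2779381448966)) (.node (.leaf 695784867855) (.leaf 3634080069774))) (.node (.node (.leaf 2024003820817) (.leaf 3170223562253)) (.node (.leaf 2625836256667) (.leaf 4058208191389))))) (.node (.node (.node (.node (.node (.leaf 145492104596) (.leaf 3701189110285)) (.leaf 2641405598851)) (.node (.leaf 368293533465) (.leaf 2839510976645))) (.node (.node (.leaf 1633698189962) (.leaf 3084324197510)) (.node (.leaf 2508261498906) (.leaf 3962645146268)))) (.node (.node (.node (.leaf 764504360724) (.leaf 3182571512727)) (.node (.leaf 1901597222679) (.leaf 3741991148826))) (.node (.node (.leaf 2222646105603) (.leaf 2807298798476)) (.node (.leaf 2550674354324) (.leaf 4153234365449)))))) (.node (.node (.node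 (.node (.node (.node (.leaf 223338352656) (.leaf 4321811872024)) (.leaf 2925410296988)) (.node (.leaf 1112396794907) (.leaf 2441152699393))) (.node (.node (.leaf 1363652120731) (.leaf 3331284803218)) (.node (.leaf 2425046487694) (.leaf 3905736816027)))) (.node (.node (.node (.leaf 610959243539) (.leaf 3135326873626)) (.node (.leaf 1501091385494) (.leaf 3692599013136))) (.node (.node (.leaf 379031100446) (.leaf 3565360576668)) (.node (.leaf 2437931449236) (.leaf 4110284682267))))) (.node (.node (.node (.node (.node (.leaf 468688417939) (.leaf 4406637496983)) (.leaf 2470143689990)) (.node (.leaf 30064854164) (.leaf 2408403682206))) (.node (.node (.leaf 1836635809549) (.leaf 3459596969623)) (.node (.leaf 2576980992133) (.leaf 4010963539854)))) (.node (.node (.node (.leaf 977105271707) (.leaf 3235721758104)) (.node (.leaf 1895691746949) (.leaf 3798899479169))) (.node (.node (.leaf 1337345934745) (.leaf 2672543704067)) (.node (.leaf 2786360697624) (.leaf 4205310843011))))))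
def dF_1644 : BT := .node (.node (.node (.node (.node (.node (.node (.leaf 18253615377) (.leaf 4260608573580)) (.leaf 2830920994071)) (.node (.leaf 44560345118) (.leaf 3225521127428))) (.node (.node (.leaf 1111859933953) (.leaf 2451353350535)) (.node (.leaf 2366527544837) (.leaf 3355980985219)))) (.node (.node (.node (.node (.leaf 39191693973) (.leaf 3821448210442)) (.leaf 2470143800066)) (.node (.leaf 1449014936974) (.leaf 3630858843422))) (.node (.node (.leaf 22549059355) (.leaf 3514357827864)) (.node (.leaf 2634426193412) (.leaf 4051765346699))))) (.node (.node (.node (.node (.node (.leaf 363461630235) (.leaf 4107600390302)) (.leaf 2983929240349)) (.node (.leaf 32749133466) (.leaf 2889976796545))) (.node (.node (.leaf 1617592425741) (.leaf 3394635585935)) (.node (.leaf 2493765980547) (.leaf 3960497662213)))) (.node (.node (.node (.leaf 761283134749) (.leaf 3179350298908)) (.node (.leaf 826781608458) (.leaf 3739306793629))) (.node (.node (.leaf 913217890324) (.leaf 2986076707230)) (.node (.leaf 2736968518678) (.leaf 4151086881297)))))) (.node (.node (.node (.node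 (.node (.node (.leaf 216359029123) (.leaf 4322348743169)) (.leaf 2916283489297)) (.node (.leaf 852014564879) (.leaf 2547453253504))) (.node (.node (.leaf 840740157208) (.leaf 3034932057858)) (.node (.leaf 2428267713938) (.leaf 3904125576333)))) (.node (.node (.node (.leaf 588947531013) (.leaf 3137474357893)) (.node (.leaf 1174136815380) (.leaf 3695820239374))) (.node (.node (.leaf 463856914846) (.leaf 2572686259846)) (.node (.leaf 2675228392349) (.leaf 4116190263820))))) (.node (.node (.node (.node (.node (.leaf 469225289092) (.leaf 4407711238429)) (.leaf 3031710762897)) (.node (.leaf 46708222216) (.leaf 3129958113035))) (.node (.node (.leaf 1824287795845) (.leaf 2883534493574)) (.node (.leaf 2561948560663) (.leaf 4014184766098)))) (.node (.node (.node (.leaf 976031550739) (.leaf 2953327474051)) (.node (.leaf 2327335959690) (.leaf 3773129674755))) (.node (.node (.leaf 519154291596) (.leaf 2308008769421)) (.node (.leaf 2789045052929) (.leaf 4205847727489))))))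
def dF_1651 : BT := .node (.node (.node (.node (.node (.node (.node (.leaf 26843552006) (.leaf 4021701018761)) (.leaf 2853469577618)) (.node (.leaf 816581132549) (.leaf 2851321997982))) (.node (.node (.leaf 1184874385666) (.leaf 3226058092055)) (.node (.leaf 2368675029387) (.leaf 3859029035545)))) (.node (.node (.node (.node (.leaf 499290045443) (.leaf 4436702276375)) (.leaf 3084324124824)) (.node (.leaf 2030983144334) (.leaf 2407330036870))) (.node (.node (.leaf 1952063119623) (.leaf 627602797214)) (.node (.leaf 2630668096019) (.leaf 4052839444229))))) (.node (.node (.node (.node (.node (.leaf 23622413058) (.leaf 3873524673410)) (.leaf 2990371692824)) (.node (.leaf 424128112670) (.leaf 2889440032789))) (.node (.node (.leaf 1640141026839) (.leaf 3401078038425)) (.node (.leaf 2510945854097) (.leaf 3956202618517)))) (.node (.node (.node (.leaf 769336200338) (.leaf 3183108343702)) (.node (.leaf 1701344324373) (.leaf 3744138596884))) (.node (.node (.leaf 574988780315) (.leaf 2822330980500)) (.node (.leaf 2747705982853) (.leaf 4169877367708)))))) (.node (.node (.node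 (.node (.node (.node (.leaf 239981355013) (.leaf 4158603117186)) (.leaf 2782602622086)) (.node (.leaf 2122787593246) (.leaf 2978023773196))) (.node (.node (.leaf 17180197531) (.leaf 3333969158424)) (.node (.leaf 2433099553309) (.leaf 3870303336085)))) (.node (.node (.node (.leaf 621159793284) (.leaf 3140158712976)) (.node (.leaf 1560147172629) (.leaf 3698504391946))) (.node (.node (.leaf 941134947870) (.leaf 2699924668958)) (.node (.leaf 2494302887427) (.leaf 4107063456019))))) (.node (.node (.node (.node (.node (.leaf 470835793559) (.leaf 4412006206487)) (.leaf 3024731393288)) (.node (.leaf 710280363671) (.leaf 2525978243079))) (.node (.node (.leaf 1841467667217) (.leaf 3473018757892)) (.node (.leaf 2578054734097) (.leaf 4010963465222)))) (.node (.node (.node (.leaf 380104843016) (.leaf 2406793069186)) (.node (.leaf 2336999562885) (.leaf 2414309397384))) (.node (.node (.leaf 1285269457560) (.leaf 2440078889748)) (.node (.leaf 2550137496853) (.leaf 4210142695809))))))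
def dF_1662 : BT := .node (.node (.node (.node (.node (.node (.node (.leaf 8053065619) (.leaf 3925064250388)) (.leaf 2843269027858)) (.node (.leaf 926102823067) (.leaf 2403035037598))) (.node (.node (.leaf 1133871630991) (.leaf 3271692117774)) (.node (.leaf 2364380048770) (.leaf 3834332967709)))) (.node (.node (.node (.node (.leaf 444529199494) (.leaf 4437776016657)) (.leaf 3070902295700)) (.node (.leaf 767725587224) (.leaf 3627637617307))) (.node (.node (.leaf 1975148556179) (.leaf 3508452246414)) (.node (.leaf 2615635699351) (.leaf 4042102060162))))) (.node (.node (.node (.node (.node (.leaf 359703596816) (.leaf 4364761555228)) (.leaf 2977486656770)) (.node (.leaf 515933112205) (.leaf 2451890235038))) (.node (.node (.leaf 1563905342475) (.leaf 3382824405782)) (.node (.leaf 2493765980935) (.leaf 3952444596509)))) (.node (.node (.node (.leaf 751082585100) (.leaf 3171834104344)) (.node (.leaf 331786228757) (.leaf 3716758214677))) (.node (.node (.leaf 1336808606107) (.leaf 642098370563)) (.node (.leaf 2724083656976) (.leaf 3553012683550)))))) (.node (.node (.node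 (.node (.node (.node (.leaf 194347316612) (.leaf 4305168730764)) (.leaf 2921652199705)) (.node (.leaf 16106180894) (.leaf 3034931848714))) (.node (.node (.leaf 1325534598281) (.leaf 3319473640347)) (.node (.leaf 2429341456141) (.leaf 3903589290880)))) (.node (.node (.node (.leaf 139586570881) (.leaf 3128347550106)) (.node (.leaf 1526324284318) (.leaf 3685619078019))) (.node (.node (.leaf 861678295447) (.leaf 3556233769856)) (.node (.leaf 2670396552978) (.leaf 2765959916680))))) (.node (.node (.node (.node (.node (.leaf 445602888855) (.leaf 3102041179660)) (.leaf 3028489536667)) (.node (.leaf 132070431390) (.leaf 3030100103689))) (.node (.node (.leaf 229244313240) (.leaf 3355980894743)) (.node (.leaf 2572686023697) (.leaf 4019016605442)))) (.node (.node (.node (.leaf 937913704975) (.leaf 3223910595228)) (.node (.leaf 1829656623380) (.leaf 2831458093069))) (.node (.node (.leaf 751082623757) (.leaf 2809982989836)) (.node (.leaf 2728915509908) (.leaf 4183835908876))))))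
def dF_1669 : BT := .node (.node (.node (.node (.node (.node (.node (.leaf 92878689937) (.leaf 1896229076766)) (.leaf 2852395835549)) (.node (.leaf 2294586821150) (.leaf 2516851523604))) (.node (.node (.leaf 1166620770048) (.leaf 2944737550339)) (.node (.leaf 2369211899537) (.leaf 2979097606273)))) (.node (.node (.node (.node (.leaf 39728565013) (.leaf 4440997242904)) (.leaf 2853469630741)) (.node (.leaf 1268626267534) (.leaf 3614752717315))) (.node (.node (.leaf 2019708852610) (.leaf 3512747214735)) (.node (.leaf 2631741838108) (.leaf 4051765710473))))) (.node (.node (.node (.node (.node (.leaf 373125372829) (.leaf 4367445907220)) (.leaf 2982855498265)) (.node (.leaf 8053065624) (.leaf 2575370596096))) (.node (.node (.leaf 1626182380292) (.leaf 3089692907910)) (.node (.leaf 2512019596289) (.leaf 3872987705364)))) (.node (.node (.node (.leaf 693100529283) (.leaf 3178276556824)) (.node (.leaf 1954210558087) (.leaf 1267553115143))) (.node (.node (.leaf 151397606669) (.leaf 2913599158292)) (.node (.leaf 2733747335696) (.leaf 4148939395331)))))) (.node (.node (.node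 (.node (.node (.node (.leaf 227096450060) (.leaf 3171297509003)) (.leaf 2915746618254)) (.node (.leaf 539018529054) (.leaf 3594888264606))) (.node (.node (.leaf 1356673118213) (.leaf 2834679206018)) (.node (.leaf 2415382808978) (.leaf 3904663074078)))) (.node (.node (.node (.leaf 600758693888) (.leaf 3144453681307)) (.node (.leaf 1511828830850) (.leaf 3610994634775))) (.node (.node (.leaf 1077499948318) (.leaf 2416456824711)) (.node (.leaf 2677375876505) (.leaf 4116190263708))))) (.node (.node (.node (.node (.node (.leaf 478352096668) (.leaf 4407174367747)) (.leaf 3032784504975)) (.node (.leaf 132070433822) (.leaf 2523831012109))) (.node (.node (.leaf 1775432543369) (.leaf 3460133852825)) (.node (.leaf 2566780400020) (.leaf 4016869121297)))) (.node (.node (.node (.leaf 961536032658) (.leaf 3234648016132)) (.node (.leaf 2333241539865) (.leaf 3789772321932))) (.node (.node (.leaf 619012639626) (.leaf 2925410158083)) (.node (.leaf 2791729408028) (.leaf 4205310856346))))))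
def dF_1677 : BT := .node (.node (.node (.node (.node (.node (.node (.leaf 7516194560) (.leaf 4015258564758)) (.leaf 2840047801614)) (.node (.leaf 23622329886) (.leaf 2371359647262))) (.node (.node (.leaf 1151588380817) (.leaf 3266323394582)) (.node (.leaf 2367064415389) (.leaf 3835943491358)))) (.node (.node (.node (.node (.leaf 442381662599) (.leaf 4423280502412)) (.leaf 3078418543384)) (.node (.leaf 639950279695) (.leaf 3631932585626))) (.node (.node (.leaf 2008434560772) (.leaf 3335579812500)) (.node (.leaf 2619930675226) (.leaf 3897146912004))))) (.node (.node (.node (.node (.node (.leaf 345208078726) (.leaf 4366372168345)) (.leaf 2975876135574)) (.node (.leaf 372051630745) (.leaf 2892661217540))) (.node (.node (.leaf 1553704800397) (.leaf 3394635585948)) (.node (.leaf 2498597820178) (.leaf 3955128891149)))) (.node (.node (.node (.leaf 758598779013) (.leaf 2954401385620)) (.node (.leaf 132070682635) (.leaf 3738233051545))) (.node (.node (.leaf 2106144838810) (.leaf 2737505515904)) (.node (.leaf 2734284206749) (.leaf 4151086881308)))))) (.node (.node (.node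 (.node (.node (.node (.leaf 211527175821) (.leaf 3921843042309)) (.leaf 2913062263065)) (.node (.leaf 1896228513295) (.leaf 3076807985665))) (.node (.node (.leaf 116501308446) (.leaf 3321084253457)) (.node (.leaf 2418604035226) (.leaf 3899831234575)))) (.node (.node (.node (.leaf 576062625936) (.leaf 3128347496835)) (.node (.leaf 1550483610270) (.leaf 3686693310728))) (.node (.node (.leaf 2094333930883) (.leaf 1320166421762)) (.node (.leaf 2675228392451) (.leaf 4102768487707))))) (.node (.node (.node (.node (.node (.leaf 457414126099) (.leaf 4406100625297)) (.leaf 3037616233222)) (.node (.leaf 406411285534) (.leaf 3612068080904))) (.node (.node (.leaf 1828045891219) (.leaf 3352222797463)) (.node (.leaf 2570538539534) (.leaf 4004521087386)))) (.node (.node (.node (.leaf 957241057689) (.leaf 3222299827591)) (.node (.leaf 1692217670402) (.leaf 3797825736979))) (.node (.node (.leaf 451508611230) (.leaf 3186866431134)) (.node (.leaf 2781528801428) (.leaf 4200479005078))))))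
def dF_1684 : BT := .node (.node (.node (.node (.node (.node (.node (.leaf 49929006739) (.leaf 4255239804053)) (.leaf 2858301416977)) (.node (.leaf 184146769566) (.leaf 2577517805579))) (.node (.node (.leaf 1177895061778) (.leaf 3277060828186)) (.node (.leaf 2371359383819) (.leaf 3854197196289)))) (.node (.node (.node (.node (.leaf 51002856451) (.leaf 3674882452105)) (.leaf 3083250382748)) (.node (.leaf 518080553615) (.leaf 3424700414724))) (.node (.node (.leaf 2026151304977) (.leaf 1842541760542)) (.node (.leaf 2628520611864) (.leaf 4054986965145))))) (.node (.node (.node (.node (.node (.leaf 374735933447) (.leaf 4375498976029)) (.leaf 2821794225428)) (.node (.leaf 578210110105) (.leaf 2565706686337))) (.node (.node (.leaf 1636382929939) (.leaf 3399467425412)) (.node (.leaf 2507724627865) (.leaf 3957276435864)))) (.node (.node (.node (.leaf 693100530185) (.leaf 2958696353940)) (.node (.leaf 1695438779395) (.leaf 3742528019867))) (.node (.node (.leaf 457414373133) (.leaf 3136937332629)) (.node (.leaf 2314988023299) (.leaf 4158603075973)))))) (.node (.node (.node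 (.node (.node (.node (.leaf 18790536078) (.leaf 4273493490452)) (.leaf 2925410296978)) (.node (.leaf 110595875081) (.leaf 2869038710028))) (.node (.node (.leaf 1372242142479) (.leaf 3332358545409)) (.node (.leaf 2430415197974) (.leaf 3885872249737)))) (.node (.node (.node (.leaf 619012309148) (.leaf 3134253131544)) (.node (.leaf 1447941165332) (.leaf 1127429796611))) (.node (.node (.leaf 958314842893) (.leaf 3569118674053)) (.node (.leaf 2676838948886) (.leaf 4112969037464))))) (.node (.node (.node (.node (.node (.leaf 468688417937) (.leaf 4410395593629)) (.leaf 3035468826502)) (.node (.leaf 372588602636) (.leaf 3049427507210))) (.node (.node (.leaf 1829656506389) (.leaf 3456912454022)) (.node (.leaf 2574296636829) (.leaf 1894081535262)))) (.node (.node (.node (.leaf 937376847750) (.leaf 3232500531858)) (.node (.leaf 2335925895057) (.leaf 2584497476225))) (.node (.node (.leaf 673773023134) (.leaf 2493229315614)) (.node (.leaf 2792803150097) (.leaf 4204237114258))))))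
def dF_1693 : BT := .node (.node (.node (.node (.node (.node (.node (.leaf 15032389139) (.leaf 4243965451540)) (.leaf 2841658414737)) (.node (.leaf 478889357726) (.leaf 3178276605086))) (.node (.node (.leaf 1144609057421) (.leaf 3271155065111)) (.node (.leaf 2365990672906) (.leaf 3849902119808)))) (.node (.node (.node (.node (.leaf 438623565315) (.leaf 4438312883074)) (.leaf 3081102895245)) (.node (.leaf 627065374735) (.leaf 3630858843653))) (.node (.node (.leaf 1995012784772) (.leaf 3506304756500)) (.node (.leaf 2406256051095) (.leaf 4031901374344))))) (.node (.node (.node (.node (.node (.leaf 355945446805) (.leaf 4366909039379)) (.leaf 2965675585925)) (.node (.leaf 93415560987) (.leaf 2840047854464))) (.node (.node (.leaf 1506997027222) (.leaf 3390340617733)) (.node (.leaf 2493229109788) (.leaf 2849711743624)))) (.node (.node (.node (.leaf 687194947205) (.leaf 3173981576087)) (.node (.leaf 769873291777) (.leaf 3733400973963))) (.node (.node (.leaf 923955165333) (.leaf 2624225846026)) (.node (.leaf 2413772271109) (.leaf 3156265077641)))))) (.node (.node (.node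 (.node (.node (.node (.leaf 189515477139) (.leaf 4313758806532)) (.leaf 2917894102426)) (.node (.leaf 331249358214) (.leaf 3284577022731))) (.node (.node (.leaf 1335735147649) (.leaf 2512556660998)) (.node (.leaf 2420214648349) (.leaf 3901978718739)))) (.node (.node (.node (.leaf 568546431389) (.leaf 3128347550095)) (.node (.leaf 565325204886) (.leaf 3689377787013))) (.node (.node (.leaf 2164663987342) (.leaf 1326072001671)) (.node (.leaf 2638721169174) (.leaf 4100621003545))))) (.node (.node (.node (.node (.node (.leaf 41876039190) (.leaf 4401805657623)) (.leaf 3026878923544)) (.node (.leaf 534186689036) (.leaf 2684355143560))) (.node (.node (.leaf 1824287794056) (.leaf 3454228271374)) (.node (.leaf 2560874860818) (.leaf 4006131700509)))) (.node (.node (.node (.leaf 949724869892) (.leaf 3226594950415)) (.node (.leaf 2330020313625) (.leaf 3541201438871))) (.node (.node (.leaf 865436380057) (.leaf 1130650748941)) (.node (.leaf 2785286955537) (.leaf 4202089630108))))))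
def dF_1700 : BT := .node (.node (.node (.node (.node (.node (.node (.leaf 36507230736) (.leaf 4253092323073)) (.leaf 2850785222416)) (.node (.leaf 316754293258) (.leaf 2371359391757))) (.node (.node (.leaf 135291749386) (.leaf 3278134570373)) (.node (.leaf 2314987937666) (.leaf 3693135922206)))) (.node (.node (.node (.node (.leaf 344671229314) (.leaf 4442070984987)) (.leaf 3091840319492)) (.node (.leaf 1122597344655) (.leaf 3634616940819))) (.node (.node (.leaf 2023466949777) (.leaf 2566243752460)) (.node (.leaf 2630131224987) (.leaf 3900368142366))))) (.node (.node (.node (.node (.node (.leaf 149787072916) (.leaf 4247723698691)) (.leaf 2984466111374)) (.node (.leaf 47781522575) (.leaf 2898029873815))) (.node (.node (.leaf 1632624832657) (.leaf 2862596511110)) (.node (.leaf 2512556467226) (.leaf 3958350177948)))) (.node (.node (.node (.leaf 765041232019) (.leaf 3181497783055)) (.node (.leaf 1835025261973) (.leaf 3741454277900))) (.node (.node (.leaf 280247113859) (.leaf 3105262172318)) (.node (.leaf 2549600612247) (.leaf 4153234365444)))))) (.node (.node (.node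 (.node (.node (.node (.leaf 227633320976) (.leaf 4326106840344)) (.leaf 2928094652179)) (.node (.leaf 427886385540) (.leaf 2665027919646))) (.node (.node (.leaf 864899362191) (.leaf 3331821674267)) (.node (.leaf 2429341456014) (.leaf 3542812079495)))) (.node (.node (.node (.leaf 605590533149) (.leaf 3139621841946)) (.node (.leaf 1319629031830) (.leaf 3695283367828))) (.node (.node (.leaf 380641688222) (.leaf 2801930139914)) (.node (.leaf 2644089879573) (.leaf 4114579650587))))) (.node (.node (.node (.node (.node (.leaf 472983386259) (.leaf 4409321369867)) (.leaf 2765422691974)) (.node (.leaf 11811346334) (.leaf 2906083005334))) (.node (.node (.leaf 1835562086144) (.leaf 3459596981775)) (.node (.leaf 2572685981334) (.leaf 4015258508174)))) (.node (.node (.node (.leaf 959925419537) (.leaf 3232500531866)) (.node (.leaf 2334315281945) (.leaf 3789235800337))) (.node (.node (.leaf 620086051206) (.leaf 2925946774535)) (.node (.leaf 2790655665944) (.leaf 4205847713923))))))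
def dF_1708 : BT := .node (.node (.node (.node (.node (.node (.node (.leaf 22548583697) (.leaf 4256313605261)) (.leaf 2830383630851)) (.node (.leaf 2218888003486) (.leaf 2033130716062))) (.node (.node (.leaf 1140314072856) (.leaf 2937758408451)) (.node (.leaf 2365990673812) (.leaf 3834869594124)))) (.node (.node (.node (.node (.leaf 347355584515) (.leaf 4440460371867)) (.leaf 3077344801295)) (.node (.leaf 1450088679054) (.leaf 3633006327694))) (.node (.node (.leaf 2016487626256) (.leaf 3511136601628)) (.node (.leaf 2630131225092) (.leaf 4051765738904))))) (.node (.node (.node (.node (.node (.leaf 41876017538) (.leaf 4225175119492)) (.leaf 2987150466585)) (.node (.leaf 2276869626270) (.leaf 2690797595779))) (.node (.node (.leaf 1611149991692) (.leaf 3395709328017)) (.node (.leaf 2496450336014) (.leaf 3956202693893)))) (.node (.node (.node (.leaf 761283117827) (.leaf 3183645267228)) (.node (.leaf 828391942020) (.leaf 3739306793617))) (.node (.node (.leaf 912681005447) (.leaf 3612605228176)) (.node (.leaf 2733210464665) (.leaf 4152160623379)))))) (.node (.node (.node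 (.node (.node (.node (.leaf 215285269399) (.leaf 4185446660103)) (.leaf 2920578457617)) (.node (.leaf 395137079582) (.leaf 2583423458699))) (.node (.node (.leaf 1332513647257) (.leaf 3314641800975)) (.node (.leaf 2416993422105) (.leaf 3898757398922)))) (.node (.node (.node (.leaf 584652562693) (.leaf 3133179389573)) (.node (.leaf 1433445615893) (.leaf 3692599013251))) (.node (.node (.leaf 134755117722) (.leaf 3562138816903)) (.node (.leaf 2679523360669) (.leaf 4111895295501))))) (.node (.node (.node (.node (.node (.leaf 464930320772) (.leaf 4407711238400)) (.leaf 3036005731217)) (.node (.leaf 372051553287) (.leaf 2624225655557))) (.node (.node (.leaf 1831267117576) (.leaf 3459596981892)) (.node (.leaf 2566243528983) (.leaf 4018479734418)))) (.node (.node (.node (.leaf 972810324609) (.leaf 2518999076098)) (.node (.leaf 2332167797777) (.leaf 3796751994897))) (.node (.node (.leaf 409632558210) (.leaf 2336999818398)) (.node (.leaf 2728378638871) (.leaf 4149476280202))))))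
def dF_1715 : BT := .node (.node (.node (.node (.node (.node (.node (.leaf 44560296580) (.leaf 4262756057731)) (.leaf 2857764545938)) (.node (.leaf 1152662129822) (.leaf 2339147163523))) (.node (.node (.leaf 15569539082) (.leaf 3278671441294)) (.node (.leaf 2030446354581) (.leaf 3859028818051)))) (.node (.node (.node (.node (.leaf 498753174406) (.leaf 4436702276358)) (.leaf 3088619093144)) (.node (.leaf 1956358069775) (.leaf 3638374474509))) (.node (.node (.leaf 2027761900167) (.leaf 2384244424990)) (.node (.leaf 2634963064339) (.leaf 4054986965134))))) (.node (.node (.node (.node (.node (.leaf 389231504141) (.leaf 4365298428950)) (.leaf 2990908563867)) (.node (.leaf 1635309209374) (.leaf 2596308298526))) (.node (.node (.leaf 1640141027331) (.leaf 3401614909466)) (.node (.leaf 2502892788498) (.leaf 3956202531849)))) (.node (.node (.node (.leaf 759672523915) (.leaf 2956011998729)) (.node (.leaf 2030983096325) (.leaf 2600603590411))) (.node (.node (.leaf 1789390975131) (.leaf 3015604485643)) (.node (.leaf 2743411014533) (.leaf 4171487980819)))))) (.node (.node (.node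 (.node (.node (.node (.leaf 235686386693) (.leaf 4330938679809)) (.leaf 2638721138819)) (.node (.leaf 694710998540) (.leaf 2869575633031))) (.node (.node (.leaf 1348083188122) (.leaf 3333432287387)) (.node (.leaf 2437394521629) (.leaf 3616900265604)))) (.node (.node (.node (.leaf 615791082897) (.leaf 3133716260498)) (.node (.leaf 1255741438474) (.leaf 3697967723545))) (.node (.node (.leaf 940598076830) (.leaf 2689187251742)) (.node (.leaf 2676838997911) (.leaf 4111358424339))))) (.node (.node (.node (.node (.node (.leaf 17179981846) (.leaf 4412006206737)) (.leaf 2937221480834)) (.node (.leaf 499826907020) (.leaf 2408403682049))) (.node (.node (.leaf 1839857050388) (.leaf 3468723789572)) (.node (.leaf 2576980992019) (.leaf 1894081534238)))) (.node (.node (.node (.leaf 14495751561) (.leaf 3229279305614)) (.node (.leaf 1963337482390) (.leaf 2511483032331))) (.node (.node (.leaf 2069100801689) (.leaf 2643553056926)) (.node (.leaf 2791192480148) (.leaf 3938486012694))))))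
def dF_1725 : BT := .node (.node (.node (.node (.node (.node (.node (.leaf 23622325779) (.leaf 4247723637765)) (.leaf 2834679091218)) (.node (.leaf 104689868574) (.leaf 3284039956766))) (.node (.node (.leaf 1136555991573) (.leaf 3272228976021)) (.node (.leaf 2365453802259) (.leaf 3841312291328)))) (.node (.node (.node (.node (.leaf 130996608149) (.leaf 4431870436740)) (.leaf 3043521932820)) (.node (.leaf 1838246440974) (.leaf 2921652367902))) (.node (.node (.leaf 1986422848132) (.leaf 3504694149137)) (.node (.leaf 2522219948812) (.leaf 3891778202373))))) (.node (.node (.node (.node (.node (.leaf 348966176016) (.leaf 4365298392832)) (.leaf 2969433683093)) (.node (.leaf 418222443529) (.leaf 3485903445662))) (.node (.node (.leaf 1580011207181) (.leaf 3308199365780)) (.node (.leaf 2500208433299) (.leaf 3859565928982)))) (.node (.node (.node (.leaf 747324487698) (.leaf 3171297233298)) (.node (.leaf 1692217518613) (.leaf 3731790478857))) (.node (.node (.leaf 2245731560588) (.leaf 2929168503565)) (.node (.leaf 2542084417687) (.leaf 4147328661641)))))) (.node (.node (.node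 (.node (.node (.node (.leaf 200252897939) (.leaf 4304631564936)) (.leaf 2914136005149)) (.node (.leaf 755914788510) (.leaf 2455111322634))) (.node (.node (.leaf 1329829566228) (.leaf 3322157995544)) (.node (.leaf 2428804584989) (.leaf 3743064929045)))) (.node (.node (.node (.leaf 566935818372) (.leaf 3129421292179)) (.node (.leaf 1430224365571) (.leaf 3686156560655))) (.node (.node (.leaf 2097018285206) (.leaf 3559454994838)) (.node (.leaf 2671470295054) (.leaf 4102231616666))))) (.node (.node (.node (.node (.node (.leaf 440234178455) (.leaf 4404489608449)) (.leaf 3035468860184)) (.node (.leaf 128849439242) (.leaf 2388002435712))) (.node (.node (.leaf 1791538667800) (.leaf 3452617658266)) (.node (.leaf 2569464797458) (.leaf 4014721637149)))) (.node (.node (.node (.leaf 941134933252) (.leaf 2518462217495)) (.node (.leaf 2329483326731) (.leaf 3788162058266))) (.node (.node (.leaf 1233729837721) (.leaf 2374580866694)) (.node (.leaf 2784213213466) (.leaf 3747896838656))))))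
def dF_1732 : BT := .node (.node (.node (.node (.node (.node (.node (.leaf 47244651536) (.leaf 3939022896005)) (.leaf 2851322093465)) (.node (.leaf 389231507614) (.leaf 2325188611230))) (.node (.node (.leaf 1170378867219) (.leaf 2451890196866)) (.node (.leaf 2369748770575) (.leaf 3612605285504)))) (.node (.node (.node (.node (.leaf 389231525254) (.leaf 4442070787080)) (.leaf 3083250382852)) (.node (.leaf 1195611806095) (.leaf 3635153576326))) (.node (.node (.leaf 2021856336778) (.leaf 3520263409409)) (.node (.leaf 2623151901468) (.leaf 4057134449408))))) (.node (.node (.node (.node (.node (.leaf 371514759699) (.leaf 3613142280589)) (.leaf 2982318627218)) (.node (.leaf 1081795161613) (.leaf 2446521345804))) (.node (.node (.leaf 1629940456727) (.leaf 3344169719701)) (.node (.leaf 2508798369949) (.leaf 3966402875401)))) (.node (.node (.node (.leaf 763430617239) (.leaf 3180424040979)) (.node (.leaf 2025077534089) (.leaf 3531000880150))) (.node (.node (.leaf 1869921454234) (.leaf 2436320859422)) (.node (.leaf 2732673593614) (.leaf 4154308107546)))))) (.node (.node (.node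 (.node (.node (.node (.leaf 174483101720) (.leaf 4321811872028)) (.leaf 765041746316)) (.node (.leaf 339302419203) (.leaf 3405372911646))) (.node (.node (.leaf 136365536414) (.leaf 3326989835012)) (.node (.leaf 2422362132497) (.leaf 2895345759372)))) (.node (.node (.node (.leaf 609348630529) (.leaf 3136400615708)) (.node (.leaf 1446867422359) (.leaf 3612605247875))) (.node (.node (.leaf 929860641694) (.leaf 3564823705627)) (.node (.leaf 2681133973779) (.leaf 4107600327068))))) (.node (.node (.node (.node (.node (.leaf 436476165528) (.leaf 4408784980741)) (.leaf 3024194568335)) (.node (.leaf 1212254666388) (.leaf 3078418493321))) (.node (.node (.leaf 1835562085789) (.leaf 3460133840660)) (.node (.leaf 2558190463498) (.leaf 4008279184657)))) (.node (.node (.node (.leaf 968515356177) (.leaf 3233574273948)) (.node (.leaf 2333778410899) (.leaf 3789772671385))) (.node (.node (.leaf 39728936478) (.leaf 2971044335518)) (.node (.leaf 2791192536987) (.leaf 4206384494985))))))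
def dF_1740 : BT := .node (.node (.node (.node (.node (.node (.node (.leaf 16) (.leaf 4248260463126)) (.leaf 2831457864974)) (.node (.leaf 837518674180) (.leaf 2404645416341))) (.node (.node (.leaf 1149977767696) (.leaf 3264175910422)) (.node (.leaf 2367601286425) (.leaf 3837554148757)))) (.node (.node (.node (.node (.leaf 440771049479) (.leaf 4439923500817)) (.leaf 3077881672338)) (.node (.leaf 766651845135) (.leaf 3631932416277))) (.node (.node (.leaf 1948305019905) (.leaf 3513820956928)) (.node (.leaf 2621541288452) (.leaf 4047470771585))))) (.node (.node (.node (.node (.node (.leaf 125627823363) (.leaf 4373351457413)) (.leaf 2982318627332)) (.node (.leaf 157840085787) (.leaf 2884608195742))) (.node (.node (.leaf 1604707538700) (.leaf 3349001559062)) (.node (.leaf 2497524078096) (.leaf 3706557719554)))) (.node (.node (.node (.leaf 759672521736) (.leaf 3181497783173)) (.node (.leaf 1900523482250) (.leaf 3738769922579))) (.node (.node (.leaf 1875290326806) (.leaf 3361886277248)) (.node (.leaf 2733747335706) (.leaf 4150013139224)))))) (.node (.node (.node (.node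 (.node (.node (.leaf 105763620632) (.leaf 4312148193295)) (.leaf 2916820360338)) (.node (.leaf 500363692684) (.leaf 2583960344705))) (.node (.node (.leaf 1335197964824) (.leaf 3323231737615)) (.node (.leaf 2425583358745) (.leaf 3719979479317)))) (.node (.node (.node (.leaf 523449277057) (.leaf 2406792957187)) (.node (.leaf 1394790999188) (.leaf 3691525271049))) (.node (.node (.leaf 2174864086169) (.leaf 3557307512193)) (.node (.leaf 2682744586895) (.leaf 3586835541512))))) (.node (.node (.node (.node (.node (.leaf 455266567959) (.leaf 3610457933960)) (.leaf 3030637020819)) (.node (.leaf 1622961218439) (.leaf 3479461231363))) (.node (.node (.leaf 1825361537025) (.leaf 3452617634581)) (.node (.leaf 2561948602894) (.leaf 4011500410905)))) (.node (.node (.node (.leaf 964220387968) (.leaf 2608656361478)) (.node (.leaf 2331630926737) (.leaf 2455111584414))) (.node (.node (.leaf 626528366350) (.leaf 2672007094150)) (.node (.leaf 2779918188311) (.leaf 4148939409281))))))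
def dF_1747 : BT := .node (.node (.node (.node (.node (.node (.node (.leaf 31138520339) (.leaf 4261145316866)) (.leaf 2856690803866)) (.node (.leaf 752693119518) (.leaf 2517388010246))) (.node (.node (.leaf 223338581270) (.leaf 2610267156102)) (.node (.leaf 2032593838358) (.leaf 2842195528322)))) (.node (.node (.node (.node (.leaf 409095646614) (.leaf 4442607856150)) (.leaf 3085934737947)) (.node (.leaf 2026151304975) (.leaf 2960307075972))) (.node (.node (.leaf 2025077563393) (.leaf 2371359471500)) (.node (.leaf 2429878376320) (.leaf 4052839480985))))) (.node (.node (.node (.node (.node (.leaf 380641567501) (.leaf 4364224686741)) (.leaf 2828773548948)) (.node (.leaf 20401099547) (.leaf 2388539306887))) (.node (.node (.leaf 1638530413699) (.leaf 3355980882581)) (.node (.leaf 2511482725138) (.leaf 3729643171230)))) (.node (.node (.node (.leaf 767725587229) (.leaf 3178276349708)) (.node (.leaf 159451096077) (.leaf 3743601337357))) (.node (.node (.leaf 490700020364) (.leaf 2546379342730)) (.node (.leaf 2734821034517) (.leaf 4167193012613)))))) (.node (.node (.node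 (.node (.node (.node (.leaf 219043334671) (.leaf 4321274613259)) (.leaf 2925410296974)) (.node (.leaf 392989838209) (.leaf 2977486729478))) (.node (.node (.leaf 38118159768) (.leaf 3337190384668)) (.node (.leaf 2432562682372) (.leaf 3906273687054)))) (.node (.node (.node (.leaf 614180469779) (.leaf 3142306197138)) (.node (.leaf 1562294656022) (.leaf 3697430852497))) (.node (.node (.leaf 903017112350) (.leaf 3577708610693)) (.node (.leaf 2681133917206) (.leaf 4104379100824))))) (.node (.node (.node (.node (.node (.leaf 20401208086) (.leaf 4409321852033)) (.leaf 2837900363543)) (.node (.leaf 339302587166) (.leaf 2906619851540))) (.node (.node (.leaf 476741808520) (.leaf 3361349605143)) (.node (.leaf 2577517863065) (.leaf 4014184546569)))) (.node (.node (.node (.leaf 990527068829) (.leaf 3230889918737)) (.node (.leaf 2336462766217) (.leaf 3799436278146))) (.node (.node (.leaf 680215963021) (.leaf 2548526918273)) (.node (.leaf 2791192536974) (.leaf 4153234377620))))))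
def dF_1756 : BT := .node (.node (.node (.node (.node (.node (.node (.leaf 91804947859) (.leaf 4252018636932)) (.leaf 2833068478097)) (.node (.leaf 122406601886) (.leaf 2612414446083))) (.node (.node (.leaf 1152125251868) (.leaf 3269007580951)) (.node (.leaf 2366527544335) (.leaf 2658585673758)))) (.node (.node (.node (.node (.leaf 440771102229) (.leaf 4438849758739)) (.leaf 3077344801308)) (.node (.leaf 1693828131215) (.leaf 2933463529492))) (.node (.node (.leaf 2003602721413) (.leaf 3504694143383)) (.node (.leaf 2611877602068) (.leaf 4037807090974))))) (.node (.node (.node (.node (.node (.leaf 349502994325) (.leaf 4365834710412)) (.leaf 2965138714773)) (.node (.leaf 335007452950) (.leaf 2451890237324))) (.node (.node (.leaf 1590212020612) (.leaf 3398393683215)) (.node (.leaf 2499671562264) (.leaf 3954592080655)))) (.node (.node (.node (.leaf 756451295496) (.leaf 3171297202306)) (.node (.leaf 46170977558) (.leaf 3735011574024))) (.node (.node (.leaf 2199560357278) (.leaf 2909304105345)) (.node (.leaf 2737505429389) (.leaf 4152160623493)))))) (.node (.node (.node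 (.node (.node (.node (.leaf 202937253253) (.leaf 4320738129936)) (.leaf 2909304165786)) (.node (.leaf 48318560670) (.leaf 2762201612801))) (.node (.node (.leaf 1344325084289) (.leaf 3318936769299)) (.node (.leaf 2427193971866) (.leaf 3899294363546)))) (.node (.node (.node (.leaf 572841296665) (.leaf 2581812960652)) (.node (.leaf 2206002832397) (.leaf 3008088599966))) (.node (.node (.leaf 2134061894552) (.leaf 3560528737306)) (.node (.leaf 2434173351959) (.leaf 4103305358746))))) (.node (.node (.node (.node (.node (.leaf 461172223489) (.leaf 4358855984903)) (.leaf 3038153215379)) (.node (.leaf 1520418789150) (.leaf 3153043585792))) (.node (.node (.leaf 1825898407170) (.leaf 3452080787214)) (.node (.leaf 2565706700177) (.leaf 4013111024026)))) (.node (.node (.node (.leaf 956167322258) (.leaf 3222836684310)) (.node (.leaf 2330557184657) (.leaf 3792457026689))) (.node (.node (.leaf 1299227783574) (.leaf 2308008769310)) (.node (.leaf 2783139471377) (.leaf 4201015888024))))))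
def dF_1763 : BT := .node (.node (.node (.node (.node (.node (.node (.leaf 92878687361) (.leaf 4253092378908)) (.leaf 2606508956679)) (.node (.leaf 1152125115550) (.leaf 699543639692))) (.node (.node (.leaf 1180042546052) (.leaf 3280818925465)) (.node (.leaf 2367601287179) (.leaf 2469607113996)))) (.node (.node (.node (.node (.leaf 390305267348) (.leaf 4442607856025)) (.leaf 3091840319388)) (.node (.leaf 628139116815) (.leaf 3636227245959))) (.node (.node (.leaf 2024540690453) (.leaf 2598456042508)) (.node (.leaf 2621541288347) (.leaf 4058745062426))))) (.node (.node (.node (.node (.node (.leaf 150860814983) (.leaf 4226785733253)) (.leaf 2984466072213)) (.node (.leaf 1349156914971) (.leaf 3032784459031))) (.node (.node (.leaf 1634772019201) (.leaf 3387656189698)) (.node (.leaf 2503966530586) (.leaf 3957813306907)))) (.node (.node (.node (.leaf 467614747017) (.leaf 3180423927942)) (.node (.leaf 1956358056853) (.leaf 3741454048395))) (.node (.node (.leaf 849330091159) (.leaf 3098282610435)) (.node (.leaf 2676838975134) (.leaf 4103842242068)))))) (.node (.node (.node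 (.node (.node (.node (.leaf 219043384336) (.leaf 4272956619678)) (.leaf 2925410296986)) (.node (.leaf 331786302746) (.leaf 2869575711134))) (.node (.node (.leaf 17717065612) (.leaf 2698850868355)) (.node (.leaf 2420751519374) (.leaf 3767224115969)))) (.node (.node (.node (.leaf 614717340932) (.leaf 3142843068184)) (.node (.leaf 1321776501269) (.leaf 2342368670342))) (.node (.node (.leaf 379567819418) (.leaf 3565897447572)) (.node (.leaf 2678449618577) (.leaf 4105989713947))))) (.node (.node (.node (.node (.node (.leaf 477278354577) (.leaf 4410395402891)) (.leaf 3037079427221)) (.node (.leaf 372588602526) (.leaf 2585034043524))) (.node (.node (.leaf 1836098957313) (.leaf 3018825962627)) (.node (.leaf 2579665347217) (.leaf 4006668571534)))) (.node (.node (.node (.leaf 979789648131) (.leaf 3231426789784)) (.node (.leaf 1833951592084) (.leaf 3799436350094))) (.node (.node (.leaf 2123861468955) (.leaf 2533494440862)) (.node (.leaf 2793340021134) (.leaf 4205310844181))))))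
def dF_1771 : BT := .node (.node (.node (.node (.node (.node (.node (.leaf 13958647057) (.leaf 2579128877449)) (.leaf 2847563996292)) (.node (.leaf 50465968414) (.leaf 2517388491550))) (.node (.node (.leaf 1158030833409) (.leaf 2565706686214)) (.node (.leaf 2367601286677) (.leaf 3834869838745)))) (.node (.node (.node (.node (.leaf 22011821191) (.leaf 4440997242887)) (.leaf 3077881665302)) (.node (.leaf 1322850242574) (.leaf 3630321699851))) (.node (.node (.leaf 2018635097220) (.leaf 3513820956819)) (.node (.leaf 2636573677455) (.leaf 3761318575500))))) (.node (.node (.node (.node (.node (.leaf 366146049411) (.leaf 4373351330444)) (.leaf 2985539853466)) (.node (.leaf 537944786974) (.leaf 2945811291779))) (.node (.node (.leaf 1542967387016) (.leaf 2777770908546)) (.node (.leaf 2503429659649) (.leaf 3964792630533)))) (.node (.node (.node (.leaf 690953045514) (.leaf 3180960912027)) (.node (.leaf 1832340448905) (.leaf 3589519809286))) (.node (.node (.leaf 2003602686232) (.leaf 3355443839646)) (.node (.leaf 2734821077778) (.leaf 4057671342605)))))) (.node (.node (.node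 (.node (.node (.node (.leaf 218506513420) (.leaf 4326643711489)) (.leaf 2911988520977)) (.node (.leaf 1904818001036) (.leaf 2822868072704))) (.node (.node (.leaf 1349156914969) (.leaf 3321621099527)) (.node (.leaf 2423972745618) (.leaf 3335043036167)))) (.node (.node (.node (.leaf 593242499333) (.leaf 3141769326213)) (.node (.leaf 1103807013141) (.leaf 3693135884176))) (.node (.node (.leaf 134217759902) (.leaf 3563213092499)) (.node (.leaf 2678449618587) (.leaf 4119948360966))))) (.node (.node (.node (.node (.node (.leaf 473520257412) (.leaf 4406100625798)) (.leaf 3027415794577)) (.node (.leaf 30601690886) (.leaf 2961917614464))) (.node (.node (.leaf 1832877730577) (.leaf 3461207594909)) (.node (.leaf 2381023104645) (.leaf 4009889797778)))) (.node (.node (.node (.leaf 972273453458) (.leaf 3173981511430)) (.node (.leaf 2332704668825) (.leaf 3796215123856))) (.node (.node (.leaf 616864824962) (.leaf 2439542075550)) (.node (.leaf 2793340021249) (.leaf 4206921469459))))))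
def dF_1778 : BT := .node (.node (.node (.node (.node (.node (.node (.leaf 96099916177) (.leaf 4264903541760)) (.leaf 2854006448657)) (.node (.leaf 971199780894) (.leaf 3042984973446))) (.node (.node (.leaf 16106410635) (.leaf 3278134557589)) (.node (.leaf 2364916933015) (.leaf 3857418232579)))) (.node (.node (.node (.node (.leaf 500363809286) (.leaf 4444755319817)) (.leaf 3092914061455)) (.node (.leaf 1895691642255) (.leaf 3637838167068))) (.node (.node (.leaf 2029372514055) (.leaf 2379412450590)) (.node (.leaf 2626373127699) (.leaf 4042638934404))))) (.node (.node (.node (.node (.node (.leaf 389231504017) (.leaf 4376572614408)) (.leaf 2992519176976)) (.node (.leaf 437013333406) (.leaf 2884608099094))) (.node (.node (.leaf 1571421550981) (.leaf 3403225522578)) (.node (.leaf 2506650885777) (.leaf 3958886994315)))) (.node (.node (.node (.leaf 771483611919) (.leaf 3186866493572)) (.node (.leaf 1701344117655) (.leaf 3747359859333))) (.node (.node (.leaf 505195546139) (.leaf 2875481195550)) (.node (.leaf 2752000777093) (.leaf 4165582399388)))))) (.node (.node (.node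 (.node (.node (.node (.leaf 244276323332) (.leaf 4332012421785)) (.leaf 2928631523341)) (.node (.leaf 393526920862) (.leaf 2646237499527))) (.node (.node (.leaf 1378147945989) (.leaf 3337190384656)) (.node (.leaf 2434710166426) (.leaf 3786551473924)))) (.node (.node (.node (.leaf 622770394880) (.leaf 3135863744656)) (.node (.leaf 1378684815764) (.leaf 2475512657032))) (.node (.node (.leaf 1100585631902) (.leaf 3583077320989)) (.node (.leaf 2645700449158) (.leaf 4118337747856))))) (.node (.node (.node (.node (.node (.leaf 469762051479) (.leaf 4413079948806)) (.leaf 3023657429638)) (.node (.leaf 797253309580) (.leaf 3506841399426))) (.node (.node (.leaf 1840930795798) (.leaf 3325916128022)) (.node (.leaf 2573759765777) (.leaf 2669323130634)))) (.node (.node (.node (.leaf 994285166599) (.leaf 2523830927892)) (.node (.leaf 1961189998613) (.leaf 3800510092175))) (.node (.node (.leaf 2013266139161) (.leaf 2439542018693)) (.node (.leaf 2493766051095) (.leaf 4214437664129))))))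
def dF_1790 : BT := .node (.node (.node (.node (.node (.node (.node (.leaf 81604398098) (.leaf 3637301441544)) (.leaf 2845416512018)) (.node (.leaf 1977832595614) (.leaf 2612414538014))) (.node (.node (.leaf 1131187281801) (.leaf 3271155246737)) (.node (.leaf 2032593836567) (.leaf 3686156595988)))) (.node (.node (.node (.node (.leaf 445066070549) (.leaf 3433290540298)) (.leaf 3071439166743)) (.node (.leaf 1770600689944) (.leaf 3626027004188))) (.node (.node (.leaf 1977296040339) (.leaf 2765959775235)) (.node (.leaf 2585034065173) (.leaf 4043175802121))))) (.node (.node (.node (.node (.node (.leaf 345208078739) (.leaf 3768297971991)) (.leaf 2978560398855)) (.node (.leaf 169651457664) (.leaf 3033858304798))) (.node (.node (.leaf 1506997025669) (.leaf 2584497376898)) (.node (.leaf 2486249786254) (.leaf 2663417536778)))) (.node (.node (.node (.leaf 748935100940) (.leaf 3173981588504)) (.node (.leaf 331786228743) (.leaf 3730716856975))) (.node (.node (.leaf 2238751709850) (.leaf 3240553681153)) (.node (.leaf 2726231141136) (.leaf 3555160166814)))))) (.node (.node (.node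 (.node (.node (.node (.leaf 192199832453) (.leaf 4305168637705)) (.leaf 2921652199697)) (.node (.leaf 1060320054789) (.leaf 3323231772811))) (.node (.node (.leaf 1326071469060) (.leaf 3321621124507)) (.node (.leaf 2427193971980) (.leaf 3887483204502)))) (.node (.node (.node (.leaf 551903429137) (.leaf 3130495034266)) (.node (.leaf 538481827339) (.leaf 3681861592335))) (.node (.node (.leaf 861678295552) (.leaf 3555160028043)) (.node (.leaf 2672544037138) (.leaf 4102231586436))))) (.node (.node (.node (.node (.node (.leaf 449897857175) (.leaf 4402879398422)) (.leaf 3030637020827)) (.node (.leaf 527744516638) (.leaf 2644089879560))) (.node (.node (.leaf 1811939759747) (.leaf 2877092041222)) (.node (.leaf 2395518622622) (.leaf 4019016579333)))) (.node (.node (.node (.leaf 936839951375) (.leaf 3226058079388)) (.node (.leaf 514322888973) (.leaf 3787625187227))) (.node (.node (.leaf 1292785335061) (.leaf 2809983114369)) (.node (.leaf 2785823826575) (.leaf 4183836014726))))))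
def dF_1797 : BT := .node (.node (.node (.node (.node (.node (.node (.leaf 82678140176) (.leaf 4247723671693)) (.leaf 2852395835537)) (.node (.leaf 421980571160) (.leaf 2516851388038))) (.node (.node (.leaf 1164473285888) (.leaf 3216394388354)) (.node (.leaf 826781769351) (.leaf 3840238549138)))) (.node (.node (.node (.node (.leaf 22548692245) (.leaf 4441534113947)) (.leaf 3046206288020)) (.node (.leaf 1316944661134) (.leaf 3635690682895))) (.node (.node (.leaf 2018098239746) (.leaf 3511136601616)) (.node (.leaf 2633889322268) (.leaf 3932580396318))))) (.node (.node (.node (.node (.node (.leaf 372588501892) (.leaf 4367445910415)) (.leaf 2985002982425)) (.node (.leaf 426812476814) (.leaf 2451353224067))) (.node (.node (.leaf 1624034896133) (.leaf 3396783058583)) (.node (.leaf 2509872112128) (.leaf 3968550727694)))) (.node (.node (.node (.leaf 691489916309) (.leaf 3180424040984)) (.node (.leaf 1841467694231) (.leaf 3740380535813))) (.node (.node (.leaf 436476229889) (.leaf 2913599033346)) (.node (.leaf 2735894819856) (.leaf 4150013139216)))))) (.node (.node (.node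 (.node (.node (.node (.leaf 224948965901) (.leaf 4276714716807)) (.leaf 2917894102414)) (.node (.leaf 346282190721) (.leaf 3455302013440))) (.node (.node (.leaf 1354525634053) (.leaf 2885681942402)) (.node (.leaf 2417530293138) (.leaf 3904126126473)))) (.node (.node (.node (.leaf 598611209729) (.leaf 2870649516180)) (.node (.leaf 1437740662658) (.leaf 3678103499038))) (.node (.node (.leaf 133681300505) (.leaf 2572686260106)) (.node (.leaf 2679523360665) (.leaf 4118337747868))))) (.node (.node (.node (.node (.node (.leaf 24159305366) (.leaf 4408248109442)) (.leaf 3034931989135)) (.node (.leaf 21474933248) (.leaf 3311420519198))) (.node (.node (.leaf 1833951472659) (.leaf 3458523239706)) (.node (.leaf 2564632915860) (.leaf 4003447345298)))) (.node (.node (.node (.leaf 963683516818) (.leaf 3232500531973)) (.node (.leaf 2333241539857) (.leaf 3796751991703))) (.node (.node (.leaf 619549133342) (.leaf 2415382813460)) (.node (.leaf 2793876892188) (.leaf 4203700243229))))))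
def dF_1805 : BT := .node (.node (.node (.node (.node (.node (.node (.leaf 7516212894) (.leaf 3927748606100)) (.leaf 2842195285774)) (.node (.leaf 1778116521502) (.leaf 2611877609605))) (.node (.node (.leaf 1145682799388) (.leaf 3267397136662)) (.node (.leaf 2367064415377) (.leaf 2672007445022)))) (.node (.node (.node (.node (.leaf 352187349511) (.leaf 2839511312011)) (.leaf 3080566027544)) (.node (.leaf 645855861134) (.leaf 3630858843548))) (.node (.node (.leaf 2006287076611) (.leaf 3480534958101)) (.node (.leaf 2413235374101) (.leaf 3552475787038))))) (.node (.node (.node (.node (.node (.leaf 360240415106) (.leaf 4365835297306)) (.leaf 2973728651414)) (.node (.leaf 1073205213854) (.leaf 3269544423582))) (.node (.node (.leaf 1596654473093) (.leaf 3396783070108)) (.node (.leaf 2493229109784) (.leaf 3954592080669)))) (.node (.node (.node (.leaf 758061817861) (.leaf 3173444664982)) (.node (.leaf 1841467712030) (.leaf 3738232959499))) (.node (.node (.leaf 1045288168859) (.leaf 3441343266433)) (.node (.leaf 2736431690909) (.leaf 4152697494427)))))) (.node (.node (.node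 (.node (.node (.node (.leaf 209379705740) (.leaf 4320738129923)) (.leaf 2915209747225)) (.node (.leaf 1891396228126) (.leaf 3333969158400))) (.node (.node (.leaf 114353825310) (.leaf 3323231737617)) (.node (.leaf 2420751519386) (.leaf 3901978677910)))) (.node (.node (.node (.leaf 509490632726) (.leaf 3127273664003)) (.node (.leaf 532576070019) (.leaf 3686693431680))) (.node (.node (.leaf 2090575432219) (.leaf 3557844382976)) (.node (.leaf 2668785896326) (.leaf 4102768487696))))) (.node (.node (.node (.node (.node (.leaf 459561610259) (.leaf 3677566797704)) (.leaf 2395518580360)) (.node (.leaf 204547905694) (.leaf 3061238616971))) (.node (.node (.leaf 1774358800010) (.leaf 3451543778311)) (.node (.leaf 2559264247697) (.leaf 4006668571546)))) (.node (.node (.node (.leaf 956167322256) (.leaf 3226057910549)) (.node (.leaf 2327335959301) (.leaf 3797825736975))) (.node (.node (.leaf 449361128094) (.leaf 2434173339914)) (.node (.leaf 2783139414551) (.leaf 4200479005057))))))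
def dF_1812 : BT := .node (.node (.node (.node (.node (.node (.node (.leaf 47781522579) (.leaf 4255239863051)) (.leaf 2857764546052)) (.node (.leaf 151398066314) (.leaf 2577517401991))) (.node (.node (.leaf 1180042545938) (.leaf 3279208312346)) (.node (.leaf 2370822512667) (.leaf 3853659978754)))) (.node (.node (.node (.node (.leaf 453119136150) (.leaf 4443144720133)) (.leaf 3085397866908)) (.node (.leaf 518080585357) (.leaf 695785569031))) (.node (.node (.leaf 2026151304195) (.leaf 3520800280334)) (.node (.leaf 2630668096024) (.leaf 4057134449305))))) (.node (.node (.node (.node (.node (.leaf 5905669263) (.leaf 4375498976019)) (.leaf 2981244845973)) (.node (.leaf 616864970773) (.leaf 2743947959557))) (.node (.node (.leaf 1632624833546) (.leaf 3386582447623)) (.node (.leaf 2509872112025) (.leaf 3964255759387)))) (.node (.node (.node (.leaf 760209394070) (.leaf 3179887000326)) (.node (.leaf 825707915523) (.leaf 3742528019859))) (.node (.node (.leaf 368293796621) (.leaf 2641405534464)) (.node (.leaf 2493229166342) (.leaf 4156455591812)))))) (.node (.node (.node (.node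 (.node (.node (.leaf 20938020238) (.leaf 4323959344020)) (.leaf 2927557781138)) (.node (.leaf 331786254979) (.leaf 2646237373982))) (.node (.node (.leaf 1371168636293) (.leaf 2753611700867)) (.node (.leaf 2430415178114) (.leaf 3736085606046)))) (.node (.node (.node (.leaf 620622922259) (.leaf 3136400615704)) (.node (.leaf 1314797192725) (.leaf 3696893666055))) (.node (.node (.leaf 958314826883) (.leaf 2528125975172)) (.node (.leaf 2680060231694) (.leaf 4115116521624))))) (.node (.node (.node (.node (.node (.leaf 470835902097) (.leaf 4407174368151)) (.leaf 3034931955462)) (.node (.leaf 396747790366) (.leaf 2856153957909))) (.node (.node (.leaf 1837709566998) (.leaf 3457449473941)) (.node (.leaf 2576444120989) (.leaf 4018479712005)))) (.node (.node (.node (.leaf 986232100612) (.leaf 3234648016018)) (.node (.leaf 643171909382) (.leaf 3798362604167))) (.node (.node (.leaf 672162846861) (.leaf 3255586022273)) (.node (.leaf 2787971310738) (.leaf 4204237102102))))))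
def dF_1821 : BT := .node (.node (.node (.node (.node (.node (.node (.leaf 17179873299) (.leaf 4243965571215)) (.leaf 2843805898897)) (.node (.leaf 7516220446) (.leaf 2521146495105))) (.node (.node (.leaf 1142461573261) (.leaf 3271155086595)) (.node (.leaf 2364916931214) (.leaf 3847754743809)))) (.node (.node (.node (.node (.leaf 127238489239) (.leaf 4418985534870)) (.leaf 3078955414540)) (.node (.leaf 1694901873294) (.leaf 3626026793610))) (.node (.node (.leaf 1992865300613) (.leaf 3506841627543)) (.node (.leaf 2614025043989) (.leaf 3744675574919))))) (.node (.node (.node (.node (.node (.leaf 360240415125) (.leaf 3731253879552)) (.leaf 2966749308931)) (.node (.leaf 82678140186) (.leaf 2897493099392))) (.node (.node (.leaf 1506997027221) (.leaf 3388193133572)) (.node (.leaf 2495376593948) (.leaf 2520073003658)))) (.node (.node (.node (.leaf 219580382723) (.leaf 3172370975374)) (.node (.leaf 143881840651) (.leaf 3732864078984))) (.node (.node (.leaf 883152976026) (.leaf 2655901009548)) (.node (.leaf 2727304839957) (.leaf 3882114550791)))))) (.node (.node (.node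 (.node (.node (.node (.leaf 191662961299) (.leaf 3910031880197)) (.leaf 2920041586586)) (.node (.leaf 109522147840) (.leaf 3470871216524))) (.node (.node (.leaf 1333587663488) (.leaf 3315715543064)) (.node (.leaf 2422362132509) (.leaf 3901978428299)))) (.node (.node (.node (.leaf 570693915549) (.leaf 3130495034255)) (.node (.leaf 1107027955084) (.leaf 3687230302852))) (.node (.node (.leaf 2162516549126) (.leaf 2798172042245)) (.node (.leaf 2671470287508) (.leaf 4100620692876))))) (.node (.node (.node (.node (.node (.leaf 435939284486) (.leaf 4404490012177)) (.leaf 3029026407704)) (.node (.leaf 1103269992707) (.leaf 2383170588808))) (.node (.node (.leaf 21475271432) (.leaf 3403762405781)) (.node (.leaf 2563022344978) (.leaf 4008279184669)))) (.node (.node (.node (.leaf 947577385733) (.leaf 3225521208337)) (.node (.leaf 2327335959046) (.leaf 3788698929298))) (.node (.node (.leaf 1971926919194) (.leaf 2994129899140)) (.node (.leaf 2782065729304) (.leaf 4152160635414))))))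
def dF_1828 : BT := .node (.node (.node (.node (.node (.node (.node (.leaf 35970359696) (.leaf 3711926500743)) (.leaf 2848637738258)) (.node (.leaf 841277200896) (.leaf 2520072740375))) (.node (.node (.leaf 1171452594843) (.leaf 3275987086212)) (.node (.leaf 2369748689669) (.leaf 3850439098898)))) (.node (.node (.node (.node (.leaf 389768396290) (.leaf 4442070984468)) (.leaf 3089692835333)) (.node (.leaf 694711125775) (.leaf 3634616712966))) (.node (.node (.leaf 2022930078858) (.leaf 3275450110989)) (.node (.leaf 2632278709147) (.leaf 4059818804496))))) (.node (.node (.node (.node (.node (.leaf 369367275537) (.leaf 4169877416452)) (.leaf 2981244885136)) (.node (.leaf 368293792014) (.leaf 2898029752967))) (.node (.node (.leaf 19327741979) (.leaf 3342022235542)) (.node (.leaf 2502355917469) (.leaf 3956202693788)))) (.node (.node (.node (.leaf 759672522759) (.leaf 3178813427856)) (.node (.leaf 1847910146581) (.leaf 3740380525332))) (.node (.node (.leaf 1953673327898) (.leaf 3262565205150)) (.node (.leaf 2551748096407) (.leaf 4154308107536)))))) (.node (.node (.node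 (.node (.node (.node (.leaf 229780805136) (.leaf 4321811872026)) (.leaf 2928094649741)) (.node (.leaf 1041529645854) (.leaf 3091840021644))) (.node (.node (.leaf 1356136247046) (.leaf 3331821674257)) (.node (.leaf 2415919680017) (.leaf 3637301360002)))) (.node (.node (.node (.leaf 609885501469) (.leaf 3141769326106)) (.node (.leaf 1449014907543) (.leaf 3692599013145))) (.node (.node (.leaf 428959961221) (.leaf 630824171651)) (.node (.leaf 2675228392338) (.leaf 4116727134747))))) (.node (.node (.node (.node (.node (.leaf 475130870419) (.leaf 4409858722587)) (.leaf 2586644643335)) (.node (.leaf 22011718535) (.leaf 2906082831116))) (.node (.node (.leaf 387621236362) (.leaf 3459060110736)) (.node (.leaf 2380486233622) (.leaf 4017405992334)))) (.node (.node (.node (.leaf 962072903697) (.leaf 3234648016026)) (.node (.leaf 2334315281937) (.leaf 3789235513095))) (.node (.node (.leaf 317827799297) (.leaf 2925947326721)) (.node (.leaf 2792803150104) (.leaf 4206384530836))))))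
def dF_1836 : BT := .node (.node (.node (.node (.node (.node (.node (.leaf 24696067857) (.leaf 4254166121101)) (.leaf 2844879533702)) (.node (.leaf 15032438814) (.leaf 2958159298181))) (.node (.node (.leaf 1138166589720) (.leaf 2739116171143)) (.node (.leaf 2368138157455) (.leaf 3837554193944)))) (.node (.node (.node (.node (.leaf 352187349507) (.leaf 4428112340877)) (.leaf 3079492285455)) (.node (.leaf 1501628298894) (.leaf 2440616031877))) (.node (.node (.leaf 1949378762113) (.leaf 3513284085788)) (.node (.leaf 2627983740933) (.leaf 4051765738908))))) (.node (.node (.node (.node (.node (.leaf 347355510146) (.leaf 4373351491859)) (.leaf 2987150466577)) (.node (.leaf 459024637059) (.leaf 2397666106782))) (.node (.node (.leaf 1609539378445) (.leaf 3394635585939)) (.node (.leaf 2498597820174) (.leaf 3726421887618)))) (.node (.node (.node (.leaf 760746263697) (.leaf 3132105659798)) (.node (.leaf 1824824695943) (.leaf 1771138030215))) (.node (.node (.leaf 911607257730) (.leaf 3612068357252)) (.node (.leaf 2735357948825) (.leaf 4152160410506)))))) (.node (.node (.node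 (.node (.node (.node (.leaf 214748393751) (.leaf 4312148193305)) (.leaf 2910377907858)) (.node (.leaf 401042662942) (.leaf 3002182731526))) (.node (.node (.leaf 1337882621338) (.leaf 3316789285135)) (.node (.leaf 2419140906265) (.leaf 3745749282562)))) (.node (.node (.node (.leaf 582505078532) (.leaf 2466385557771)) (.node (.leaf 1104880591372) (.leaf 3408057350408))) (.node (.node (.leaf 2175401454231) (.leaf 3557844383126)) (.node (.leaf 2681670844829) (.leaf 4109747811341))))) (.node (.node (.node (.node (.node (.leaf 464393449601) (.leaf 4406100625674)) (.leaf 3024194568339)) (.node (.leaf 150860737542) (.leaf 2859912087173))) (.node (.node (.leaf 1831267115781) (.leaf 3457449497733)) (.node (.leaf 2568391013143) (.leaf 4005057958425)))) (.node (.node (.node (.leaf 970662840448) (.leaf 3122978864515)) (.node (.leaf 1828582882309) (.leaf 3796751994880))) (.node (.node (.leaf 410169514253) (.leaf 2621004429188)) (.node (.leaf 2784213199893) (.leaf 4149476279957))))))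
def dF_1843 : BT := .node (.node (.node (.node (.node (.node (.node (.leaf 89657452813) (.leaf 4261145444507)) (.leaf 2855080190745)) (.node (.leaf 1076963311006) (.leaf 2338073578014))) (.node (.node (.leaf 1184337496588) (.leaf 3277597699216)) (.node (.leaf 1695438905478) (.leaf 3858491945246)))) (.node (.node (.node (.node (.leaf 498216303382) (.leaf 4437239147268)) (.leaf 3090766577304)) (.node (.leaf 2033130628494) (.leaf 3637301296028))) (.node (.node (.leaf 2026688174231) (.leaf 2593087209738)) (.node (.leaf 2429341505046) (.leaf 4052839481218))))) (.node (.node (.node (.node (.node (.leaf 387084019980) (.leaf 4321275014150)) (.leaf 2989297950748)) (.node (.leaf 617938567066) (.leaf 2610803932958))) (.node (.node (.leaf 1639604155159) (.leaf 3403762393626)) (.node (.leaf 2505040272658) (.leaf 3874061444766)))) (.node (.node (.node (.leaf 768262458256) (.leaf 3176129020182)) (.node (.leaf 1835561803394) (.leaf 3744138632341))) (.node (.node (.leaf 840740046849) (.leaf 2445447815812)) (.node (.leaf 2741263530372) (.leaf 2812667702537)))))) (.node (.node (.node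 (.node (.node (.node (.leaf 233538902532) (.leaf 4328791195648)) (.leaf 2542084465155)) (.node (.leaf 694174339340) (.leaf 2646774245121))) (.node (.node (.leaf 1375463604482) (.leaf 3335579771547)) (.node (.leaf 2437394521617) (.leaf 3906273579522)))) (.node (.node (.node (.leaf 614180469507) (.leaf 3135863744658)) (.node (.leaf 1574105813782) (.leaf 3697967723535))) (.node (.node (.leaf 987305871364) (.leaf 2687576639390)) (.node (.leaf 2646237363733) (.leaf 4113505908499))))) (.node (.node (.node (.node (.node (.leaf 472983386242) (.leaf 4406637497600)) (.leaf 3025805070342)) (.node (.leaf 1107565074078) (.leaf 2525441386372))) (.node (.node (.leaf 1840393922965) (.leaf 3466576305413)) (.node (.leaf 2579128476179) (.leaf 3927211678231)))) (.node (.node (.node (.leaf 14495751432) (.leaf 3231426789774)) (.node (.leaf 2336999637139) (.leaf 3637301334790))) (.node (.node (.leaf 584652730126) (.leaf 3188477043988)) (.node (.leaf 2553895594134) (.leaf 3938486012682))))))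
def dF_1853 : BT := .node (.node (.node (.node (.node (.node (.node (.leaf 91268076819) (.leaf 4247723668508)) (.leaf 2836826575378)) (.node (.leaf 572841400094) (.leaf 2522757016970))) (.node (.node (.leaf 1136019115030) (.leaf 3272228807191)) (.node (.leaf 1845762759297) (.leaf 3839164807169)))) (.node (.node (.node (.node (.leaf 131533479175) (.leaf 4437776016768)) (.leaf 3069291575299)) (.node (.leaf 1828582762254) (.leaf 2483565704094))) (.node (.node (.leaf 1789928094090) (.leaf 3506841633297)) (.node (.leaf 2522220160030) (.leaf 4031901510402))))) (.node (.node (.node (.node (.node (.leaf 351113660176) (.leaf 4353487266198)) (.leaf 2971581167253)) (.node (.leaf 44560296345) (.leaf 2945811479838))) (.node (.node (.leaf 1578937723919) (.leaf 3381750657926)) (.node (.leaf 2500208429837) (.leaf 3953518338577)))) (.node (.node (.node (.leaf 749471971858) (.leaf 3173444717458)) (.node (.leaf 819802305157) (.leaf 3730716618378))) (.node (.node (.leaf 1335735364889) (.leaf 3339337868810)) (.node (.leaf 2544231901847) (.leaf 4146255041925)))))) (.node (.node (.node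 (.node (.node (.node (.leaf 200789757572) (.leaf 4304095127829)) (.leaf 2916283489309)) (.node (.leaf 188978571678) (.leaf 2959233052429))) (.node (.node (.leaf 1282048054925) (.leaf 3324305479704)) (.node (.leaf 2430952069149) (.leaf 3592741073666)))) (.node (.node (.node (.leaf 564788334211) (.leaf 3131568776339)) (.node (.leaf 533649941406) (.leaf 3685619689729))) (.node (.node (.leaf 2016487660574) (.leaf 3559454995228)) (.node (.leaf 2668785939857) (.leaf 3901978766238))))) (.node (.node (.node (.node (.node (.leaf 442381662615) (.leaf 4405026883215)) (.leaf 3037616344344)) (.node (.leaf 1511828872990) (.leaf 2565169829130))) (.node (.node (.leaf 1821603423492) (.leaf 3454765142426)) (.node (.leaf 2571075410577) (.leaf 4016869121309)))) (.node (.node (.node (.leaf 940061078667) (.leaf 3224984337304)) (.node (.leaf 2329483442579) (.leaf 3531537762327))) (.node (.node (.leaf 1232656040727) (.leaf 631897760771)) (.node (.leaf 2782065729308) (.leaf 4201552759168))))))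
def dF_1860 : BT := .node (.node (.node (.node (.node (.node (.node (.leaf 45097167376) (.leaf 4019016662302)) (.leaf 2849711480346)) (.node (.leaf 175019947038) (.leaf 2849711368324))) (.node (.node (.leaf 1169841996188) (.leaf 2689723970946)) (.node (.leaf 2361695706880) (.leaf 3852586583172)))) (.node (.node (.node (.node (.leaf 124554155655) (.leaf 4439386630152)) (.leaf 2541547632133)) (.node (.leaf 1188095611535) (.leaf 3634616666637))) (.node (.node (.leaf 2021856335873) (.leaf 3518115925248)) (.node (.leaf 2625299385628) (.leaf 4054986965249))))) (.node (.node (.node (.node (.node (.leaf 150860814996) (.leaf 4070019426693)) (.leaf 2984466111378)) (.node (.leaf 338765675166) (.leaf 2738579303436))) (.node (.node (.leaf 1629403581463) (.leaf 3393024879746)) (.node (.leaf 2510945854109) (.leaf 3886946348544)))) (.node (.node (.node (.leaf 763430618897) (.leaf 3182571525139)) (.node (.leaf 1845762678152) (.leaf 3740917406735))) (.node (.node (.leaf 2077690678797) (.leaf 2546379556126)) (.node (.leaf 2734821077774) (.leaf 4154844978587)))))) (.node (.node (.node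 (.node (.node (.node (.leaf 186831132933) (.leaf 4323959356188)) (.leaf 2909304165774)) (.node (.leaf 1278289845662) (.leaf 3420942116382))) (.node (.node (.leaf 1363115249691) (.leaf 2451353375491)) (.node (.leaf 2424509616657) (.leaf 3904663073937)))) (.node (.node (.node (.leaf 607201146368) (.leaf 3138548099868)) (.node (.leaf 1447941165335) (.leaf 3693672459273))) (.node (.node (.leaf 445602963201) (.leaf 3564823705615)) (.node (.leaf 2649458589973) (.leaf 4109747811228))))) (.node (.node (.node (.node (.node (.leaf 471909644188) (.leaf 3610994805384)) (.leaf 3026342052495)) (.node (.leaf 46170903575) (.leaf 3078418465152))) (.node (.node (.leaf 1835562083971) (.leaf 3460670723855)) (.node (.leaf 2558190463509) (.leaf 4010426668817)))) (.node (.node (.node (.leaf 972810324497) (.leaf 3235721758108)) (.node (.leaf 2333778410895) (.leaf 3789772554635))) (.node (.node (.leaf 1293859386522) (.leaf 1700807699358)) (.node (.leaf 2793340021147) (.leaf 4206384494998))))))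
def dF_1868 : BT := .node (.node (.node (.node (.node (.node (.node (.leaf 5905581441) (.leaf 4248260539536)) (.leaf 2833605349134)) (.node (.leaf 81067587853) (.leaf 2466922414102))) (.node (.node (.leaf 1145682799378) (.leaf 2502892970133)) (.node (.leaf 2032056966411) (.leaf 3837554193934)))) (.node (.node (.node (.node (.leaf 349502994311) (.leaf 2690798069512)) (.leaf 3080029156498)) (.node (.leaf 701690449294) (.leaf 3631932429955))) (.node (.node (.leaf 2013802904847) (.leaf 3511673472769)) (.node (.leaf 2414309116042) (.leaf 4051228867973))))) (.node (.node (.node (.node (.node (.leaf 124554134018) (.leaf 4371204007812)) (.leaf 2624225686403)) (.node (.leaf 563714555013) (.leaf 3289945571210))) (.node (.node (.leaf 1602560054540) (.leaf 3395709328024)) (.node (.leaf 2499671562256) (.leaf 3725885072390)))) (.node (.node (.node (.leaf 756451296133) (.leaf 3179350299012)) (.node (.leaf 1900523468672) (.leaf 3738769719304))) (.node (.node (.leaf 2180769856538) (.leaf 3136400441099)) (.node (.leaf 2735894819866) (.leaf 4152160623384)))))) (.node (.node (.node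 (.node (.node (.node (.leaf 106837362311) (.leaf 3932580458782)) (.leaf 2918967844498)) (.node (.leaf 28991036175) (.leaf 2583423430272))) (.node (.node (.leaf 1296543570587) (.leaf 3314641800977)) (.node (.leaf 2427730842905) (.leaf 3455302119560)))) (.node (.node (.node (.leaf 217969728010) (.leaf 2583960344707)) (.node (.leaf 1436666814605) (.leaf 3691525253249))) (.node (.node (.leaf 2174864567435) (.leaf 3561601945734)) (.node (.leaf 2681670844929) (.leaf 4103842229785))))) (.node (.node (.node (.node (.node (.leaf 457414052119) (.leaf 4406637496345)) (.leaf 3032784504979)) (.node (.leaf 1212791537431) (.leaf 3568044781701))) (.node (.node (.leaf 1829119633299) (.leaf 3399467437461)) (.node (.leaf 2564096087054) (.leaf 4013647895065)))) (.node (.node (.node (.leaf 962072903809) (.leaf 2462090771335)) (.node (.leaf 2326799088522) (.leaf 2390687075486))) (.node (.node (.leaf 726386856340) (.leaf 2641942351774)) (.node (.leaf 2780455102614) (.leaf 1325535283084))))))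
def dF_1875 : BT := .node (.node (.node (.node (.node (.node (.node (.leaf 33286004499) (.leaf 4261145385860)) (.leaf 2854006448669)) (.node (.leaf 771483927070) (.leaf 2887829404694))) (.node (.node (.leaf 1176821319696) (.leaf 2518999101205)) (.node (.leaf 2371896254739) (.leaf 3859565906575)))) (.node (.node (.node (.node (.leaf 49929114389) (.leaf 4443144727057)) (.leaf 3088082222107)) (.node (.leaf 1045824785934) (.leaf 3636764424989))) (.node (.node (.leaf 2025614434186) (.leaf 635118885918)) (.node (.leaf 2622078159384) (.leaf 4052839480989))))) (.node (.node (.node (.node (.node (.leaf 378494083341) (.leaf 4374962104985)) (.leaf 2992519177092)) (.node (.leaf 1686311937438) (.leaf 2597918927895))) (.node (.node (.leaf 475131147658) (.leaf 3404299264657)) (.node (.leaf 2501282175385) (.leaf 3963718888344)))) (.node (.node (.node (.leaf 767725585419) (.leaf 2465311985438)) (.node (.leaf 1829656232967) (.leaf 3743064890909))) (.node (.node (.leaf 37581057420) (.leaf 2546916327070)) (.node (.leaf 2732673550357) (.leaf 4165045528452)))))) (.node (.node (.node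 (.node (.node (.node (.leaf 188978613772) (.leaf 4321275000976)) (.leaf 2927557781134)) (.node (.leaf 408559270157) (.leaf 2813204187142))) (.node (.node (.leaf 225486110618) (.leaf 3289408873606)) (.node (.leaf 758599174787) (.leaf 2959233398281)))) (.node (.node (.node (.leaf 616327953939) (.leaf 3143379939214)) (.node (.leaf 1268089451405) (.leaf 3257733575565))) (.node (.node (.leaf 889595362970) (.leaf 3575561126532)) (.node (.leaf 2442763288596) (.leaf 4106526584984))))) (.node (.node (.node (.node (.node (.leaf 477278354562) (.leaf 4410932464667)) (.leaf 2840047847703)) (.node (.leaf 1106491331998) (.leaf 2855616938381))) (.node (.node (.leaf 1839320183059) (.leaf 3459596958101)) (.node (.leaf 2573759765786) (.leaf 2885682109321)))) (.node (.node (.node (.leaf 13422008859) (.leaf 3233037402897)) (.node (.leaf 2335389024016) (.leaf 3308736336257))) (.node (.node (.leaf 680215943838) (.leaf 2494839595404)) (.node (.leaf 2786360697617) (.leaf 4203700243214))))))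
def dF_1884 : BT := .node (.node (.node (.node (.node (.node (.node (.leaf 1073742099) (.leaf 4249871152773)) (.leaf 2835215962257)) (.node (.leaf 504658777246) (.leaf 3364033734686))) (.node (.node (.leaf 1151051509901) (.leaf 3269544620822)) (.node (.leaf 2366526991624) (.leaf 3648038764951)))) (.node (.node (.node (.node (.leaf 439160489110) (.leaf 4438849753856)) (.leaf 3079492285468)) (.node (.leaf 1695438744334) (.leaf 3633543198739))) (.node (.node (.leaf 2001455237252) (.leaf 3505230979222)) (.node (.leaf 2410014148372) (.leaf 4033512124695))))) (.node (.node (.node (.node (.node (.leaf 351650478485) (.leaf 4366372168334)) (.leaf 2965138609923)) (.node (.leaf 335007733258) (.leaf 2514704029079))) (.node (.node (.leaf 1588064536453) (.leaf 3396783070212)) (.node (.leaf 2494302851866) (.leaf 3954055148165)))) (.node (.node (.node (.leaf 756451268993) (.leaf 3171297180822)) (.node (.leaf 1839857081630) (.leaf 3735011825282))) (.node (.node (.leaf 2251099741721) (.leaf 3133716272640)) (.node (.leaf 2735357948940) (.leaf 4150013139332)))))) (.node (.node (.node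 (.node (.node (.node (.leaf 201863500187) (.leaf 4320201259013)) (.leaf 2911451649946)) (.node (.leaf 111132345886) (.leaf 3232500334977))) (.node (.node (.leaf 1342177600128) (.leaf 3321084253459)) (.node (.leaf 2429341456026) (.leaf 3901441847706)))) (.node (.node (.node (.leaf 572304429839) (.leaf 2521146548228)) (.node (.leaf 527207499540) (.leaf 3692062142099))) (.node (.node (.leaf 124554085760) (.leaf 3561065608345)) (.node (.leaf 2672543980565) (.leaf 4103305358736))))) (.node (.node (.node (.node (.node (.leaf 459024739328) (.leaf 4360466597634)) (.leaf 3038152794498)) (.node (.leaf 1071057992471) (.leaf 2739652908040))) (.node (.node (.leaf 1825898085377) (.leaf 3451543916177)) (.node (.leaf 2567854184337) (.leaf 4015258508186)))) (.node (.node (.node (.leaf 956167322373) (.leaf 2575907404418)) (.node (.leaf 2329483442823) (.leaf 3790309542531))) (.node (.node (.leaf 945966726552) (.leaf 2965138745997)) (.node (.leaf 2782065729299) (.leaf 4199405274907))))))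
def dF_1891 : BT := .node (.node (.node (.node (.node (.node (.node (.leaf 82678142849) (.leaf 4253092319893)) (.leaf 2846490196611)) (.node (.leaf 11274341534) (.leaf 1901060645005))) (.node (.node (.leaf 1177895061893) (.leaf 2519535972245)) (.node (.leaf 2370285641629) (.leaf 3850439098909)))) (.node (.node (.node (.node (.leaf 344671229332) (.leaf 4442607856017)) (.leaf 3093450932507)) (.node (.leaf 1123134215695) (.leaf 3635153516681))) (.node (.node (.leaf 2024540691203) (.leaf 2950643365133)) (.node (.leaf 2623688772507) (.leaf 4056060707229))))) (.node (.node (.node (.node (.node (.leaf 365072254485) (.leaf 4374425233945)) (.leaf 2983392330134)) (.node (.leaf 1524713757982) (.leaf 2839510930710))) (.node (.node (.leaf 1633698574739) (.leaf 3388729911426)) (.node (.leaf 2506114014746) (.leaf 3964792630428)))) (.node (.node (.node (.leaf 765578103175) (.leaf 3129421304597)) (.node (.leaf 1956358056854) (.leaf 3741454277785))) (.node (.node (.leaf 1293322221849) (.leaf 2914136022028)) (.node (.leaf 2493765994261) (.leaf 4155381849617)))))) (.node (.node (.node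 (.node (.node (.node (.leaf 221190868496) (.leaf 4276714716804)) (.leaf 2927557781146)) (.node (.leaf 1119913013022) (.leaf 2646774245022))) (.node (.node (.leaf 1363115570824) (.leaf 3330211055363)) (.node (.leaf 2422899003534) (.leaf 3905736782986)))) (.node (.node (.node (.leaf 11274435341) (.leaf 3133179389466)) (.node (.leaf 1504312625556) (.leaf 2924873609866))) (.node (.node (.leaf 12348293022) (.leaf 3565360576656)) (.node (.leaf 2676302134417) (.leaf 4108137198107))))) (.node (.node (.node (.node (.node (.leaf 466540933779) (.leaf 4409321851549)) (.leaf 2855080155395)) (.node (.leaf 439697280653) (.leaf 2470143757196))) (.node (.node (.leaf 1836635828106) (.leaf 3458523227543)) (.node (.leaf 2579128476292) (.leaf 4008816055694)))) (.node (.node (.node (.leaf 880468528908) (.leaf 3233574273944)) (.node (.leaf 2334852152975) (.leaf 2571612574342))) (.node (.node (.leaf 2122250863129) (.leaf 2672544117512)) (.node (.leaf 2793876892179) (.leaf 4205310844171))))))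
def dF_1899 : BT := .node (.node (.node (.node (.node (.node (.node (.leaf 16106131217) (.leaf 3927211737477)) (.leaf 2591476567559)) (.node (.leaf 882079124766) (.leaf 3225521153160))) (.node (.node (.leaf 1155883349248) (.leaf 2506114071302)) (.node (.leaf 1118839545346) (.leaf 3686693467028)))) (.node (.node (.node (.node (.leaf 437549823238) (.leaf 4440460372097)) (.leaf 2854543372821)) (.node (.leaf 1318018403214) (.leaf 3630321826055))) (.node (.node (.leaf 2018098239379) (.leaf 3512210343704)) (.node (.leaf 2636573624581) (.leaf 4051765737985))))) (.node (.node (.node (.node (.node (.leaf 88583787404) (.leaf 4120485291806)) (.leaf 2981781756189)) (.node (.leaf 1969779845774) (.leaf 3514894605598))) (.node (.node (.leaf 1542967386886) (.leaf 3397319723523)) (.node (.leaf 2501282175488) (.leaf 3962645146372)))) (.node (.node (.node (.leaf 689879303555) (.leaf 3183108396187)) (.node (.leaf 1839857083403) (.leaf 3739843664513))) (.node (.node (.leaf 1946157590661) (.leaf 2491081633035)) (.node (.leaf 2736968561938) (.leaf 4151086784919)))))) (.node (.node (.node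 (.node (.node (.node (.leaf 172335614604) (.leaf 4324496227328)) (.leaf 2914136005137)) (.node (.leaf 591094881694) (.leaf 2468533229451))) (.node (.node (.leaf 1348619735193) (.leaf 3322694672775)) (.node (.leaf 2426120229778) (.leaf 3904126202897)))) (.node (.node (.node (.leaf 591095015172) (.leaf 3139621842052)) (.node (.leaf 1072131474567) (.leaf 3693135884677))) (.node (.node (.leaf 987842725790) (.leaf 3038153340551)) (.node (.leaf 2680597102747) (.leaf 4118337747981))))) (.node (.node (.node (.node (.node (.leaf 471372773253) (.leaf 4408247935113)) (.leaf 3029563278737)) (.node (.leaf 348429309982) (.leaf 3141769335690))) (.node (.node (.leaf 1832340859656) (.leaf 3361886476183)) (.node (.leaf 2559801076503) (.leaf 4012037281938)))) (.node (.node (.node (.leaf 974420937618) (.leaf 3173444686470)) (.node (.leaf 833761082501) (.leaf 2905546280834))) (.node (.node (.leaf 615790947470) (.leaf 2549600626177)) (.node (.leaf 2791192537088) (.leaf 4206921469455))))))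
def dF_1906 : BT := .node (.node (.node (.node (.node (.node (.node (.leaf 95563041941) (.leaf 4265440412818)) (.leaf 2856153932817)) (.node (.leaf 1807644825246) (.leaf 3042985004288))) (.node (.node (.leaf 16106410506) (.leaf 2517388488086)) (.node (.leaf 2372433125777) (.leaf 3857418193548)))) (.node (.node (.node (.node (.leaf 409095732486) (.leaf 4444218469149)) (.leaf 3082176640664)) (.node (.leaf 1963337393295) (.leaf 3542275144854))) (.node (.node (.leaf 1955284345236) (.leaf 635119042334)) (.node (.leaf 2628520611859) (.leaf 4052839480978))))) (.node (.node (.node (.node (.node (.leaf 23622413076) (.leaf 4376035726982)) (.leaf 2992519137814)) (.node (.leaf 20938014110) (.leaf 2884607982858))) (.node (.node (.leaf 1641214769416) (.leaf 2546916418055)) (.node (.leaf 2508798369937) (.leaf 3901441863189)))) (.node (.node (.node (.leaf 220117257730) (.leaf 3184719009413)) (.node (.leaf 641561145367) (.leaf 3745212375172))) (.node (.node (.leaf 1370094596378) (.leaf 3255049196289)) (.node (.leaf 2749853467012) (.leaf 4167729883548)))))) (.node (.node (.node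 (.node (.node (.node (.leaf 242128839173) (.leaf 4284767781525)) (.leaf 2874944406278)) (.node (.leaf 29527935390) (.leaf 2539399995669))) (.node (.node (.leaf 17717068682) (.leaf 3337190373127)) (.node (.leaf 2436857650586) (.leaf 3906810558107)))) (.node (.node (.node (.leaf 573378282241) (.leaf 3138011228816)) (.node (.leaf 1499480786196) (.leaf 3698504594579))) (.node (.node (.leaf 943282432030) (.leaf 2697777184798)) (.node (.leaf 2494302895254) (.leaf 4104915971859))))) (.node (.node (.node (.node (.node (.leaf 470299020952) (.leaf 4411469335939)) (.leaf 2830921040149)) (.node (.leaf 710817234708) (.leaf 2763812029191))) (.node (.node (.leaf 1840930796178) (.leaf 3473555628819)) (.node (.leaf 2575907249937) (.leaf 4010963466647)))) (.node (.node (.node (.leaf 995895778197) (.leaf 2522757185815)) (.node (.leaf 2310156091399) (.leaf 3701725844354))) (.node (.node (.leaf 2002529006872) (.leaf 2550137413767)) (.node (.leaf 2439542088967) (.leaf 4212290179968))))))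
def dF_1917 : BT := .node (.node (.node (.node (.node (.node (.node (.leaf 42412812162) (.leaf 4119411520414)) (.leaf 2841121543698)) (.node (.leaf 219580468894) (.leaf 2521683275141))) (.node (.node (.leaf 1058709708940) (.leaf 3273839589141)) (.node (.leaf 2364916931337) (.leaf 3834869838849)))) (.node (.node (.node (.node (.leaf 132607221254) (.leaf 4432407307543)) (.leaf 3040837577623)) (.node (.leaf 348966176014) (.leaf 3629248230424))) (.node (.node (.leaf 1969242974723) (.leaf 3507378504338)) (.node (.leaf 2614025086228) (.leaf 3767224150665))))) (.node (.node (.node (.node (.node (.leaf 355408628496) (.leaf 4059818877324)) (.leaf 2975876135573)) (.node (.leaf 5905581465) (.leaf 3118683817502))) (.node (.node (.leaf 1564442213643) (.leaf 3382287347462)) (.node (.leaf 2495913465100) (.leaf 3859029058053)))) (.node (.node (.node (.leaf 753230066317) (.leaf 2700998315271)) (.node (.leaf 828929094046) (.leaf 3731253628683))) (.node (.node (.leaf 29528436248) (.leaf 3339874761096)) (.node (.leaf 2726231141134) (.leaf 2329483875614)))))) (.node (.node (.node (.node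 (.node (.node (.leaf 196494800773) (.leaf 4305168869526)) (.leaf 2920578457629)) (.node (.leaf 1112396794895) (.leaf 2325188643468))) (.node (.node (.leaf 1328218949391) (.leaf 3317326156187)) (.node (.leaf 700617119750) (.leaf 3903052392713)))) (.node (.node (.node (.leaf 140660312968) (.leaf 3129958163225)) (.node (.leaf 1180042628638) (.leaf 3685619689615))) (.node (.node (.leaf 860604164741) (.leaf 3559991866259)) (.node (.leaf 2673080908177) (.leaf 4102231616656))))) (.node (.node (.node (.node (.node (.leaf 135828447510) (.leaf 2435784377986)) (.leaf 3026342052507)) (.node (.leaf 2192044461598) (.leaf 3195456319232))) (.node (.node (.leaf 1819992822927) (.leaf 3455302013469)) (.node (.leaf 2571612281617) (.leaf 4019016605457)))) (.node (.node (.node (.leaf 925565676054) (.leaf 3225521208347)) (.node (.leaf 2328946571549) (.leaf 2775623518217))) (.node (.node (.leaf 750008960281) (.leaf 2480344329472)) (.node (.leaf 2785823826587) (.leaf 4183836002838))))))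
def dF_1924 : BT := .node (.node (.node (.node (.node (.node (.node (.leaf 81604398096) (.leaf 4262219186587)) (.leaf 2850248351389)) (.node (.leaf 593242713090) (.leaf 1842004893709))) (.node (.node (.leaf 1168768254209) (.leaf 2891587511686)) (.node (.leaf 2369211899545) (.leaf 3840238513813)))) (.node (.node (.node (.node (.leaf 493921335574) (.leaf 4440997242894)) (.leaf 3075734181142)) (.node (.leaf 1275605591054) (.leaf 3635690682905))) (.node (.node (.leaf 1986422856194) (.leaf 3511136455181)) (.node (.leaf 2629594353948) (.leaf 4051765738883))))) (.node (.node (.node (.node (.node (.leaf 370977888669) (.leaf 4367445910429)) (.leaf 2986613556374)) (.node (.leaf 1266478788766) (.leaf 2398203189278))) (.node (.node (.leaf 1621350540547) (.leaf 3393561832340)) (.node (.leaf 2513093338257) (.leaf 3968550727704)))) (.node (.node (.node (.leaf 762893747859) (.leaf 3183645267217)) (.node (.leaf 702227592326) (.leaf 2829847469065))) (.node (.node (.leaf 492847607308) (.leaf 2490544738178)) (.node (.leaf 2731599851536) (.leaf 4154308107652)))))) (.node (.node (.node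 (.node (.node (.node (.leaf 229243934220) (.leaf 4327717453467)) (.leaf 2913599134094)) (.node (.leaf 295815903390) (.leaf 2675765426829))) (.node (.node (.leaf 1358820602372) (.leaf 3316789091335)) (.node (.leaf 2428804584977) (.leaf 3077344998535)))) (.node (.node (.node (.leaf 602906178049) (.leaf 3142843068188)) (.node (.leaf 539018736535) (.leaf 3693672755226))) (.node (.node (.leaf 115964352538) (.leaf 3564286834585)) (.node (.leaf 2675228392345) (.leaf 4114042779548))))) (.node (.node (.node (.node (.node (.leaf 476204612508) (.leaf 4408784980499)) (.leaf 3030637020815)) (.node (.leaf 46170903558) (.leaf 3287261183134))) (.node (.node (.leaf 1834488343818) (.leaf 3457986368665)) (.node (.leaf 2568927884180) (.leaf 4014721637137)))) (.node (.node (.node (.leaf 959388548498) (.leaf 637266544141)) (.node (.leaf 1837172817290) (.leaf 3789772671377))) (.node (.node (.leaf 423054426245) (.leaf 2925410359180)) (.node (.leaf 2789581923868) (.leaf 4203163372186))))))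
def dF_1932 : BT := .node (.node (.node (.node (.node (.node (.node (.leaf 5905602718) (.leaf 4248260415363)) (.leaf 2837900317454)) (.node (.leaf 51002797598) (.leaf 2405182266635))) (.node (.node (.leaf 1149977767698) (.leaf 3265786354711)) (.node (.leaf 2367064415124) (.leaf 3849902224926)))) (.node (.node (.node (.node (.leaf 439697307398) (.leaf 4439386629787)) (.leaf 3076271059224)) (.node (.leaf 637802795534) (.leaf 3631395495198))) (.node (.node (.leaf 2010582044933) (.leaf 2829847414021)) (.node (.leaf 2619930232326) (.leaf 3872450853253))))) (.node (.node (.node (.node (.node (.leaf 40802199046) (.leaf 1324461581196)) (.leaf 2474438740995)) (.node (.leaf 635655357448) (.leaf 2506651076748))) (.node (.node (.leaf 1524713771400) (.leaf 3396246199067)) (.node (.leaf 2496450336018) (.leaf 3721590104966)))) (.node (.node (.node (.leaf 758598779656) (.leaf 3175055278101)) (.node (.leaf 23085460228) (.leaf 3738232941832))) (.node (.node (.leaf 1045825037595) (.leaf 2651069271808)) (.node (.leaf 2732136722589) (.leaf 4148939397148)))))) (.node (.node (.node (.node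 (.node (.node (.leaf 104153007508) (.leaf 2342368818462)) (.leaf 2910914778905)) (.node (.leaf 132070323102) (.leaf 3381750632833))) (.node (.node (.leaf 1331439905177) (.leaf 3318936769297)) (.node (.leaf 2416456551066) (.leaf 3901441847699)))) (.node (.node (.node (.leaf 576599470351) (.leaf 2469606901127)) (.node (.leaf 1396401612062) (.leaf 3686693268365))) (.node (.node (.leaf 2174327199620) (.leaf 3561602479379)) (.node (.leaf 2677375876609) (.leaf 4102768487938))))) (.node (.node (.node (.node (.node (.leaf 455266641939) (.leaf 4406100625309)) (.leaf 3037079473299)) (.node (.leaf 497142547981) (.leaf 3567508060949))) (.node (.node (.leaf 1774358800139) (.leaf 3400004308502)) (.node (.leaf 2568391055374) (.leaf 4017942863385)))) (.node (.node (.node (.leaf 880468524161) (.leaf 2884071307413)) (.node (.leaf 2330020313877) (.leaf 3784403964182))) (.node (.node (.leaf 142807836318) (.leaf 1902134405133)) (.node (.leaf 2542621302293) (.leaf 3772592899974))))))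
def dF_1939 : BT := .node (.node (.node (.node (.node (.node (.node (.leaf 39728456979) (.leaf 4255239802509)) (.leaf 2858301416989)) (.node (.leaf 184683625367) (.leaf 2577517733271))) (.node (.node (.leaf 1181116288016) (.leaf 3278671441305)) (.node (.leaf 2312840454408) (.leaf 3856344680448)))) (.node (.node (.node (.node (.leaf 51002834711) (.leaf 4443681598099)) (.leaf 3092377190427)) (.node (.leaf 1053340980494) (.leaf 3636764424977))) (.node (.node (.leaf 2025614433938) (.leaf 1695438936716)) (.node (.leaf 2626373127704) (.leaf 4053913223057))))) (.node (.node (.node (.node (.node (.leaf 375272804487) (.leaf 4375498975882)) (.leaf 2988224208772)) (.node (.leaf 383862811020) (.leaf 2388002414855))) (.node (.node (.leaf 1633698575489) (.leaf 3401614909573)) (.node (.leaf 2505577143705) (.leaf 3959423920024)))) (.node (.node (.node (.leaf 766651845139) (.leaf 3178813415444)) (.node (.leaf 1699196876291) (.leaf 3743064890895))) (.node (.node (.leaf 1454920707482) (.leaf 2728378674946)) (.node (.leaf 2370285727234) (.leaf 4160750560132)))))) (.node (.node (.node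 (.node (.node (.node (.leaf 16643051918) (.leaf 4323422461086)) (.leaf 2927557781136)) (.node (.leaf 482647128606) (.leaf 3142842876812))) (.node (.node (.leaf 1372779034639) (.leaf 3334506029568)) (.node (.leaf 2415382416002) (.leaf 3884798804629)))) (.node (.node (.node (.leaf 616864824988) (.leaf 3143916798103)) (.node (.leaf 1384053569685) (.leaf 3696893981459))) (.node (.node (.leaf 469762159749) (.leaf 3571266158212)) (.node (.leaf 2440615804436) (.leaf 4110821553304))))) (.node (.node (.node (.node (.node (.leaf 466540933777) (.leaf 4410932464257)) (.leaf 2567854295431)) (.node (.leaf 1211180871948) (.leaf 3335042701708))) (.node (.node (.leaf 1838783312019) (.leaf 2495376823042)) (.node (.leaf 2578054734106) (.leaf 4015258444033)))) (.node (.node (.node (.leaf 926639429636) (.leaf 3230353047698)) (.node (.leaf 2335925895065) (.leaf 3798362318473))) (.node (.node (.leaf 121332987166) (.leaf 2640331812868)) (.node (.leaf 2790655665937) (.leaf 4203699556611))))))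
def dF_1948 : BT := .node (.node (.node (.node (.node (.node (.node (.leaf 12884904979) (.leaf 4243965571227)) (.leaf 2839510930577)) (.node (.leaf 250719039006) (.leaf 1901597342494))) (.node (.node (.leaf 1146756541580) (.leaf 3216931284500)) (.node (.leaf 2365990673295) (.leaf 2898566971786)))) (.node (.node (.node (.node (.leaf 439160489094) (.leaf 2450279900680)) (.leaf 2858301470090)) (.node (.leaf 1700270583694) (.leaf 3633006327812))) (.node (.node (.leaf 1997160268933) (.leaf 3382824452487)) (.node (.leaf 2616172528149) (.leaf 4038343929224))))) (.node (.node (.node (.node (.node (.leaf 353797962645) (.leaf 4366372016897)) (.leaf 2965675354883)) (.node (.leaf 9663678747) (.leaf 3062849276062))) (.node (.node (.leaf 1583769568133) (.leaf 3392488101892)) (.node (.leaf 2498597820186) (.leaf 3686156624533)))) (.node (.node (.node (.leaf 755377537412) (.leaf 3172370962964)) (.node (.leaf 43486554500) (.leaf 3733938076296))) (.node (.node (.leaf 816580982810) (.leaf 3186866583424)) (.node (.leaf 2731062980615) (.leaf 4147865532681)))))) (.node (.node (.node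 (.node (.node (.node (.leaf 110595454490) (.leaf 4315906290693)) (.leaf 2915746618266)) (.node (.leaf 331249835915) (.leaf 2785823932938))) (.node (.node (.leaf 1337882631808) (.leaf 3325379221779)) (.node (.leaf 2418067164189) (.leaf 3901978718747)))) (.node (.node (.node (.leaf 566398947229) (.leaf 2961917567765)) (.node (.leaf 547071594006) (.leaf 3691525271172))) (.node (.node (.leaf 2078227505027) (.leaf 3551938802689)) (.node (.leaf 2669322803348) (.leaf 3486440680200))))) (.node (.node (.node (.node (.node (.leaf 454729771011) (.leaf 4404490012189)) (.leaf 3024731439384)) (.node (.leaf 1520955675916) (.leaf 2410014228617))) (.node (.node (.leaf 1824824664989) (.leaf 3453154529298)) (.node (.leaf 2558727376658) (.leaf 4003984216349)))) (.node (.node (.node (.leaf 951872354053) (.leaf 3224447466255)) (.node (.leaf 2330020195457) (.leaf 3788698929306))) (.node (.node (.leaf 752156181914) (.leaf 2361158864404)) (.node (.leaf 2545842528533) (.leaf 4199942145948))))))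
def dF_1955 : BT := .node (.node (.node (.node (.node (.node (.node (.leaf 32212262417) (.leaf 4253092371463)) (.leaf 2848637738256)) (.node (.leaf 39728452894) (.leaf 1835025399326))) (.node (.node (.leaf 1173600093581) (.leaf 3280282054532)) (.node (.leaf 2370285641617) (.leaf 3850439061385)))) (.node (.node (.node (.node (.leaf 493921248788) (.leaf 4422743632140)) (.leaf 3093450932495)) (.node (.leaf 762893747854) (.leaf 3197067147392))) (.node (.node (.leaf 2024003819657) (.leaf 2574296765069)) (.node (.leaf 2627983740827) (.leaf 4059818804506))))) (.node (.node (.node (.node (.node (.leaf 147639588756) (.leaf 4247723698695)) (.leaf 2982318627214)) (.node (.leaf 28991117079) (.leaf 2390149884928))) (.node (.node (.leaf 1633161703697) (.leaf 3389266864020)) (.node (.leaf 2510408983066) (.leaf 3960497662108)))) (.node (.node (.node (.leaf 764504360976) (.leaf 3179350298895)) (.node (.leaf 1836098987016) (.leaf 3741991148816))) (.node (.node (.leaf 878858212759) (.leaf 3593277790110)) (.node (.leaf 2549600612244) (.leaf 4154308104322)))))) (.node (.node (.node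 (.node (.node (.node (.leaf 225485836816) (.leaf 4323959356184)) (.leaf 2927557781148)) (.node (.leaf 16106159902) (.leaf 2813204379294))) (.node (.node (.leaf 862751878031) (.leaf 3307125612167)) (.node (.leaf 2427193971854) (.leaf 3511136695703)))) (.node (.node (.node (.leaf 607201146269) (.leaf 3137474357786)) (.node (.leaf 1388885364490) (.leaf 3678103498496))) (.node (.node (.leaf 993748270366) (.leaf 3565897447699)) (.node (.leaf 2675228335766) (.leaf 4112432166427))))) (.node (.node (.node (.node (.node (.leaf 470835902099) (.leaf 4409321851537)) (.leaf 2408403570311)) (.node (.leaf 30064854146) (.leaf 2617246479489))) (.node (.node (.leaf 1837172698909) (.leaf 3457449497615)) (.node (.leaf 2574833507972) (.leaf 4013111024014)))) (.node (.node (.node (.leaf 134217960836) (.leaf 3230353047706)) (.node (.leaf 2334314920966) (.leaf 3789235764375))) (.node (.node (.leaf 620086210458) (.leaf 2925947061012)) (.node (.leaf 2788508181784) (.leaf 4205310856478))))))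
def dF_1963 : BT := .node (.node (.node (.node (.node (.node (.node (.leaf 20401099537) (.leaf 4258461089421)) (.leaf 2831457757702)) (.node (.leaf 91268118430) (.leaf 2465848856581))) (.node (.node (.leaf 114890650120) (.leaf 2387465724806)) (.node (.leaf 2368138157469) (.leaf 3834869593997)))) (.node (.node (.node (.node (.leaf 491773851413) (.leaf 4440460371734)) (.leaf 3079492232343)) (.node (.leaf 1378684830734) (.leaf 3616363329415))) (.node (.node (.leaf 2016487626247) (.leaf 3512747214747)) (.node (.leaf 2632278709253) (.leaf 4051765738896))))) (.node (.node (.node (.node (.node (.leaf 141734007302) (.leaf 4225175118878)) (.leaf 2986076724509)) (.node (.leaf 853088281743) (.leaf 2690797610380))) (.node (.node (.leaf 1615444959501) (.leaf 3396783070095)) (.node (.leaf 2494302851854) (.leaf 3958350178052)))) (.node (.node (.node (.leaf 761283134737) (.leaf 3181497783068)) (.node (.leaf 827855350272) (.leaf 3738233051799))) (.node (.node (.leaf 2243047134366) (.leaf 3612605228186)) (.node (.leaf 2731062980505) (.leaf 4151086480905)))))) (.node (.node (.node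 (.node (.node (.node (.leaf 215822140313) (.leaf 3255049369609)) (.leaf 2918430973457)) (.node (.leaf 591095408780) (.leaf 2987150452480))) (.node (.node (.leaf 842887643928) (.leaf 2894808750082)) (.node (.leaf 2430415198098) (.leaf 3504694243081)))) (.node (.node (.node (.leaf 586800046852) (.leaf 3135326873732)) (.node (.leaf 548145332126) (.leaf 3694746497409))) (.node (.node (.leaf 434328800667) (.leaf 702764873222)) (.node (.leaf 2677375876509) (.leaf 4114042779660))))) (.node (.node (.node (.node (.node (.leaf 467077804933) (.leaf 4406100625684)) (.leaf 3033858247057)) (.node (.leaf 372051553303) (.leaf 2919504289037))) (.node (.node (.leaf 1831803988499) (.leaf 639950952333)) (.node (.leaf 2564096044823) (.leaf 4016332250258)))) (.node (.node (.node (.leaf 974957808768) (.leaf 3121905010563)) (.node (.leaf 2332167797785) (.leaf 3796751991700))) (.node (.node (.leaf 499290117278) (.leaf 2430952289182)) (.node (.leaf 2786897568771) (.leaf 4203700243328))))))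
def dF_1970 : BT := .node (.node (.node (.node (.node (.node (.node (.leaf 44023425286) (.leaf 4264903541889)) (.leaf 2855617061778)) (.node (.leaf 330712513432) (.leaf 3122441903902))) (.node (.node (.leaf 1185411256458) (.leaf 3279208152711)) (.node (.leaf 2372433125513) (.leaf 3859028904332)))) (.node (.node (.node (.node (.leaf 408022012183) (.leaf 4444218469137)) (.leaf 3086471608984)) (.node (.leaf 1962263651214) (.leaf 3638375038097))) (.node (.node (.leaf 1954747474071) (.leaf 828392595468)) (.node (.leaf 2632815580179) (.leaf 4047470772373))))) (.node (.node (.node (.node (.node (.leaf 390305246086) (.leaf 4376572672512)) (.leaf 2992519176984)) (.node (.leaf 143881797534) (.leaf 3041374500871))) (.node (.node (.leaf 386010576779) (.leaf 3403225522585)) (.node (.leaf 2500745304338) (.leaf 3956202640013)))) (.node (.node (.node (.leaf 769873071377) (.leaf 2961917580180)) (.node (.leaf 1695438744580) (.leaf 3741454278423))) (.node (.node (.leaf 842350686486) (.leaf 2822330967427)) (.node (.leaf 2745558498692) (.leaf 4171487980827)))))) (.node (.node (.node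 (.node (.node (.node (.leaf 237833870852) (.leaf 4332012421775)) (.leaf 2670933450499)) (.node (.leaf 15032721310) (.leaf 3143379941516))) (.node (.node (.leaf 1376537061518) (.leaf 3336116642584)) (.node (.leaf 2435247037469) (.leaf 3906810558090)))) (.node (.node (.node (.leaf 617938567057) (.leaf 3142306197136)) (.node (.leaf 1574105813781) (.leaf 3698503863554))) (.node (.node (.leaf 904627738369) (.leaf 2691334734878)) (.node (.leaf 2643553008533) (.leaf 4109210940179))))) (.node (.node (.node (.node (.node (.leaf 448824194971) (.leaf 4412006206749)) (.leaf 3024730900355)) (.node (.leaf 112206191006) (.leaf 2408403513366))) (.node (.node (.leaf 1841467664903) (.leaf 3470871273733)) (.node (.leaf 2574833507859) (.leaf 2336463165324)))) (.node (.node (.node (.leaf 994285166216) (.leaf 3233574105110)) (.node (.leaf 2336462766108) (.leaf 3799973221147))) (.node (.node (.leaf 2069100814104) (.leaf 2440078889604)) (.node (.leaf 2551748109974) (.leaf 4207995211648))))))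
def dF_1980 : BT := .node (.node (.node (.node (.node (.node (.node (.leaf 21474841619) (.leaf 4243965487111)) (.leaf 2832531607058)) (.node (.leaf 1073742095) (.leaf 2467459318536))) (.node (.node (.leaf 1138166604940) (.leaf 3218541897623)) (.node (.leaf 2365453802267) (.leaf 3843459775489)))) (.node (.node (.node (.node (.leaf 351113607446) (.leaf 4436165404038)) (.leaf 3074123568022)) (.node (.leaf 1767916334735) (.leaf 3629784849160))) (.node (.node (.leaf 1988570332293) (.leaf 3506304762254)) (.node (.leaf 2522220117783) (.leaf 3882651399301))))) (.node (.node (.node (.node (.node (.leaf 346818691856) (.leaf 4365298338440)) (.leaf 2967286198933)) (.node (.leaf 418222540186) (.leaf 2683818457740))) (.node (.node (.leaf 1497870221324) (.leaf 2903935569173)) (.node (.leaf 2499671562268) (.leaf 3953518338587)))) (.node (.node (.node (.leaf 746787616387) (.leaf 3172907846417)) (.node (.leaf 1693290883081) (.leaf 3730716857238))) (.node (.node (.leaf 1367947619226) (.leaf 2729989256077)) (.node (.leaf 2542084417684) (.leaf 4147328687766)))))) (.node (.node (.node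 (.node (.node (.node (.leaf 195957929619) (.leaf 4304631931277)) (.leaf 2911988520989)) (.node (.leaf 236760289438) (.leaf 2959233306763))) (.node (.node (.leaf 1313186568085) (.leaf 3320010511384)) (.node (.leaf 2426657100829) (.leaf 3903052460826)))) (.node (.node (.node (.leaf 569083302533) (.leaf 3130495034257)) (.node (.leaf 533113088653) (.leaf 3686156560667))) (.node (.node (.leaf 97174135192) (.leaf 3559454995218)) (.node (.leaf 2669322810894) (.leaf 4014184698893))))) (.node (.node (.node (.node (.node (.leaf 438086694295) (.leaf 4404489595910)) (.leaf 3033321376024)) (.node (.leaf 497142653726) (.leaf 2559264205448))) (.node (.node (.leaf 1789390779416) (.leaf 3454228271385)) (.node (.leaf 2567317313298) (.leaf 4012574152989)))) (.node (.node (.node (.leaf 943282417413) (.leaf 3226594950419)) (.node (.leaf 1844689008262) (.leaf 2705293428865))) (.node (.node (.leaf 1357210181017) (.leaf 2308545501826)) (.node (.leaf 2782065729306) (.leaf 4202626501139))))))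
def dF_1987 : BT := .node (.node (.node (.node (.node (.node (.node (.leaf 49392135696) (.leaf 4005594889620)) (.leaf 2849174609305)) (.node (.leaf 143344565126) (.leaf 3053185608990))) (.node (.node (.leaf 1154272713742) (.leaf 3111704528774)) (.node (.leaf 2369748770579) (.leaf 3850439099550)))) (.node (.node (.node (.node (.leaf 478888946453) (.leaf 4442070984583)) (.leaf 3085397867013)) (.node (.leaf 1130650410254) (.leaf 3635153811734))) (.node (.node (.leaf 2022393207699) (.leaf 2886218638221)) (.node (.leaf 2621004417308) (.leaf 4059281933569))))) (.node (.node (.node (.node (.node (.leaf 369367275539) (.leaf 4255239891348)) (.leaf 2985539853456)) (.node (.leaf 1495185494296) (.leaf 2389613051917))) (.node (.node (.leaf 1524713778842) (.leaf 3343095977621)) (.node (.leaf 2506650885789) (.leaf 3966403187340)))) (.node (.node (.node (.leaf 763967489937) (.leaf 3178276556819)) (.node (.leaf 1847373291017) (.leaf 3740380535708))) (.node (.node (.leaf 857382913690) (.leaf 3085397725207)) (.node (.leaf 2730526109454) (.leaf 4154308107538)))))) (.node (.node (.node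 (.node (.node (.node (.leaf 231928289298) (.leaf 4326106840346)) (.leaf 2923799683980)) (.node (.leaf 1117765404702) (.leaf 2441152699294))) (.node (.node (.leaf 133144310558) (.leaf 3329137319173)) (.node (.leaf 2420214648337) (.leaf 3904663073948)))) (.node (.node (.node (.leaf 611496114688) (.leaf 3134253131548)) (.node (.leaf 1320165902230) (.leaf 2647311348108))) (.node (.node (.leaf 889058466718) (.leaf 3565897447045)) (.node (.leaf 2678986489619) (.leaf 4105452842908))))) (.node (.node (.node (.node (.node (.leaf 22548692246) (.leaf 4409321851651)) (.leaf 2858301352454)) (.node (.leaf 49392314910) (.leaf 2855617187742))) (.node (.node (.leaf 1836098955267) (.leaf 3460133852816)) (.node (.leaf 2558190505608) (.leaf 4006131700497)))) (.node (.node (.node (.leaf 966367872017) (.leaf 3231426789788)) (.node (.leaf 1828582882710) (.leaf 3789235800346))) (.node (.node (.leaf 245887097729) (.leaf 2550674353795)) (.node (.leaf 2789045052827) (.leaf 4022774746496))))))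
def dF_1995 : BT := .node (.node (.node (.node (.node (.node (.node (.leaf 42412812176) (.leaf 4248260539546)) (.leaf 2343979080194)) (.node (.leaf 836444971648) (.leaf 2466385571220))) (.node (.node (.leaf 1081258290968) (.leaf 3263638870551)) (.node (.leaf 2366527544597) (.leaf 3457449588228)))) (.node (.node (.node (.node (.leaf 441307994883) (.leaf 4439923500829)) (.leaf 3075734188178)) (.node (.leaf 1560684113294) (.leaf 3631932535703))) (.node (.node (.leaf 2014877006087) (.leaf 3514894698895)) (.node (.leaf 2623688772613) (.leaf 2536716024203))))) (.node (.node (.node (.node (.node (.leaf 39191585922) (.leaf 2391224084744)) (.leaf 2984466111493)) (.node (.leaf 28454267271) (.leaf 2459406349598))) (.node (.node (.leaf 1606855022861) (.leaf 3397856812175)) (.node (.leaf 2495376593936) (.leaf 2569465127946)))) (.node (.node (.node (.leaf 760209392657) (.leaf 3183645267332)) (.node (.leaf 616864825108) (.leaf 3738769922587))) (.node (.node (.leaf 910533516318) (.leaf 2521683320843)) (.node (.leaf 2731599851546) (.leaf 4152697494293)))))) (.node (.node (.node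 (.node (.node (.node (.leaf 213674673948) (.leaf 4312148193299)) (.leaf 2914672876178)) (.node (.leaf 432718164766) (.leaf 2583960277515))) (.node (.node (.leaf 1292248603803) (.leaf 3321084253455)) (.node (.leaf 2423435874585) (.leaf 3900904976522)))) (.node (.node (.node (.leaf 576062626564) (.leaf 3124052321031)) (.node (.leaf 1550483536276) (.leaf 3691525271058))) (.node (.node (.leaf 2175401017093) (.leaf 1319629550978)) (.node (.leaf 2651069203093) (.leaf 4105452843020))))) (.node (.node (.node (.node (.node (.leaf 143344641686) (.leaf 2507188209803)) (.leaf 3028489536659)) (.node (.leaf 49929185950) (.leaf 3570192196874))) (.node (.node (.leaf 1829656504349) (.leaf 3354370281623)) (.node (.leaf 2559801118734) (.leaf 4009352926745)))) (.node (.node (.node (.leaf 966367872129) (.leaf 2577518017542)) (.node (.leaf 2331630926745) (.leaf 3797825736987))) (.node (.node (.leaf 501437484062) (.leaf 2672007346570)) (.node (.leaf 2782065715733) (.leaf 4198868392071))))))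
def dF_2002 : BT := .node (.node (.node (.node (.node (.node (.node (.leaf 28991036179) (.leaf 4261145444495)) (.leaf 2854543319706)) (.node (.leaf 493921353246) (.leaf 2517388394902))) (.node (.node (.leaf 114890657178) (.leaf 3279208312339)) (.node (.leaf 2371359383708) (.leaf 3359739087498)))) (.node (.node (.node (.node (.leaf 498753088532) (.leaf 4443144727190)) (.leaf 3083787253787)) (.node (.leaf 2025077562894) (.leaf 3637301296016))) (.node (.node (.leaf 2027225047059) (.leaf 2593087072513)) (.node (.leaf 2635499459459) (.leaf 3900368142211))))) (.node (.node (.node (.node (.node (.leaf 382789051661) (.leaf 4376035847173)) (.leaf 2993056048027)) (.node (.leaf 20401099535) (.leaf 2507187813633))) (.node (.node (.leaf 1639604155395) (.leaf 3404299264669)) (.node (.leaf 2509335240978) (.leaf 3915937377798)))) (.node (.node (.node (.leaf 759135652747) (.leaf 3176128498691)) (.node (.leaf 165356436364) (.leaf 3743601761939))) (.node (.node (.leaf 1408749307780) (.leaf 2436320856842)) (.node (.leaf 2736968518677) (.leaf 4169340496772)))))) (.node (.node (.node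 (.node (.node (.node (.leaf 177704326424) (.leaf 4321275000963)) (.leaf 2922189033730)) (.node (.leaf 392989853966) (.leaf 2665564790796))) (.node (.node (.leaf 334470905869) (.leaf 3335042900508)) (.node (.leaf 2434710166533) (.leaf 3686693484053)))) (.node (.node (.node (.leaf 614180413324) (.leaf 3140158712978)) (.node (.leaf 1316407848332) (.leaf 2711735858058))) (.node (.node (.leaf 879931699480) (.leaf 3579856094852)) (.node (.leaf 2680597095188) (.leaf 4117800876819))))) (.node (.node (.node (.node (.node (.leaf 474057019799) (.leaf 4411469335697)) (.leaf 2835752879383)) (.node (.leaf 1211180866078) (.leaf 3382824375168))) (.node (.node (.leaf 1838783312388) (.leaf 3462281337093)) (.node (.leaf 2575370378905) (.leaf 4014184381704)))) (.node (.node (.node (.leaf 991600577800) (.leaf 3228742434577)) (.node (.leaf 2336462660868) (.leaf 3799972911373))) (.node (.node (.leaf 681289347596) (.leaf 2435247016834)) (.node (.leaf 2789045052814) (.leaf 4203163217031))))))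
def dF_2011 : BT := .node (.node (.node (.node (.node (.node (.node (.leaf 83215011218) (.leaf 3926137993344)) (.leaf 2830920993937)) (.node (.leaf 12884954654) (.leaf 3228205473310))) (.node (.node (.leaf 1149977767708) (.leaf 3214783800340)) (.node (.leaf 2366527544347) (.leaf 2536715976222)))) (.node (.node (.node (.node (.leaf 441844844309) (.leaf 4438849753878)) (.leaf 3080029156507)) (.node (.leaf 702764191375) (.leaf 3633543198745))) (.node (.node (.leaf 1807107967750) (.leaf 3333432328340)) (.node (.leaf 2521146418055) (.leaf 4038343961859))))) (.node (.node (.node (.node (.node (.leaf 347355510165) (.leaf 4365835183234)) (.leaf 2969433683094)) (.node (.leaf 1266478786462) (.leaf 2565169835269))) (.node (.node (.leaf 1592359504773) (.leaf 2779381521671)) (.node (.leaf 2497524078104) (.leaf 3879430152981)))) (.node (.node (.node (.leaf 756988166417) (.leaf 3170760309781)) (.node (.leaf 2027761871646) (.leaf 3735548475272))) (.node (.node (.leaf 1871532229909) (.leaf 3144990379137)) (.node (.leaf 2445447656835) (.leaf 4013647928193)))))) (.node (.node (.node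 (.node (.node (.node (.leaf 205084737415) (.leaf 3744675641364)) (.leaf 2919504715545)) (.node (.leaf 409096117258) (.leaf 3128347496832))) (.node (.node (.leaf 1346472568448) (.leaf 3316789285139)) (.node (.leaf 2425046487706) (.leaf 3900368105624)))) (.node (.node (.node (.leaf 9126942351) (.leaf 2958696341526)) (.node (.leaf 1069446982147) (.leaf 3648038726686))) (.node (.node (.leaf 2169495872645) (.leaf 1322313905154)) (.node (.leaf 2670396496405) (.leaf 4102768463766))))) (.node (.node (.node (.node (.node (.leaf 461709020439) (.leaf 3964792735499)) (.leaf 2845416557974)) (.node (.leaf 372051660958) (.leaf 3406446760960))) (.node (.node (.leaf 1823214052738) (.leaf 3452617646103)) (.node (.leaf 2563559216017) (.leaf 4010963539866)))) (.node (.node (.node (.leaf 954019838098) (.leaf 3222299800198)) (.node (.leaf 2329483442838) (.leaf 3794604510848))) (.node (.node (.leaf 448824258828) (.leaf 2434173340161)) (.node (.leaf 2784213213455) (.leaf 4198868403864))))))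
def dF_2018 : BT := .node (.node (.node (.node (.node (.node (.node (.leaf 43486554258) (.leaf 3939559766788)) (.leaf 2853469577732)) (.node (.leaf 410169411226) (.leaf 3059091179038))) (.node (.node (.leaf 1181653159057) (.leaf 3279745183389)) (.node (.leaf 2030446354440) (.leaf 3853660325136)))) (.node (.node (.node (.node (.leaf 342523647766) (.leaf 4443144727175)) (.leaf 3089692835228)) (.node (.leaf 627602245774) (.leaf 3636227553937))) (.node (.node (.leaf 389231894027) (.leaf 3518652703876)) (.node (.leaf 2634963064344) (.leaf 4056597578266))))) (.node (.node (.node (.node (.node (.leaf 150323943938) (.leaf 3729643268870)) (.leaf 2982855367175)) (.node (.leaf 425738745868) (.leaf 2452426937733))) (.node (.node (.leaf 1635309187859) (.leaf 2803540710019)) (.node (.leaf 2501819046426) (.leaf 3959960791067)))) (.node (.node (.node (.leaf 766114974109) (.leaf 2961380709143)) (.node (.leaf 1903744691589) (.leaf 3741454277779))) (.node (.node (.leaf 145492342809) (.leaf 3149822401054)) (.node (.leaf 2549600542741) (.leaf 4108674080278)))))) (.node (.node (.node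 (.node (.node (.node (.leaf 23085504398) (.leaf 4323959344006)) (.leaf 2927557781144)) (.node (.leaf 1441498402970) (.leaf 2813741250334))) (.node (.node (.leaf 1366873667971) (.leaf 3328600442246)) (.node (.leaf 2418604035214) (.leaf 2681671131913)))) (.node (.node (.node (.leaf 616864825093) (.leaf 3140695584024)) (.node (.leaf 1329292736267) (.leaf 3696357110417))) (.node (.node (.leaf 904090838814) (.leaf 3565897447061)) (.node (.leaf 2680597102737) (.leaf 4119411489944))))) (.node (.node (.node (.node (.node (.leaf 475130870417) (.leaf 4407174368130)) (.leaf 2570001779586)) (.node (.leaf 529355132940) (.leaf 2585034030358))) (.node (.node (.leaf 1838246440979) (.leaf 2880313267334)) (.node (.leaf 2579665347225) (.leaf 4004521087374)))) (.node (.node (.node (.leaf 981937132292) (.leaf 3229279305624)) (.node (.leaf 2334852152987) (.leaf 3512210412182))) (.node (.node (.leaf 609348973337) (.leaf 2421825261342)) (.node (.leaf 2792266279058) (.leaf 4204773296003))))))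
def dF_2026 : BT := .node (.node (.node (.node (.node (.node (.node (.leaf 11811162897) (.leaf 4262219186575)) (.leaf 2849711480453)) (.node (.leaf 98247441822) (.leaf 3278134477060))) (.node (.node (.leaf 1160178317568) (.leaf 3269007602439)) (.node (.leaf 2368675028507) (.leaf 3840238513668)))) (.node (.node (.node (.node (.leaf 388694654214) (.leaf 4441534113925)) (.leaf 3077344794261)) (.node (.leaf 1323387113614) (.leaf 3630321972505))) (.node (.node (.leaf 2018635110429) (.leaf 3511673472659)) (.node (.leaf 2430952118166) (.leaf 4048007637783))))) (.node (.node (.node (.node (.node (.leaf 368293533572) (.leaf 4367445796994)) (.leaf 2983392369306)) (.node (.leaf 426812658048) (.leaf 2833068482590))) (.node (.node (.leaf 1619739927821) (.leaf 3395709316500)) (.node (.leaf 2505577143808) (.leaf 3966940114692)))) (.node (.node (.node (.leaf 692563658260) (.leaf 3178813427867)) (.node (.leaf 1832877759637) (.leaf 3739843664659))) (.node (.node (.leaf 1856500086811) (.leaf 2491618727815)) (.node (.leaf 2732673593618) (.leaf 4150013139215)))))) (.node (.node (.node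 (.node (.node (.node (.leaf 220653997581) (.leaf 4327717453455)) (.leaf 2909841036817)) (.node (.leaf 1968706103694) (.leaf 2432025914240))) (.node (.node (.leaf 1350230665733) (.leaf 2745021764739)) (.node (.leaf 2421825261458) (.leaf 2896419501067)))) (.node (.node (.node (.leaf 594853092121) (.leaf 3143916810372)) (.node (.leaf 1437203764373) (.leaf 3695283368339))) (.node (.node (.leaf 133144219038) (.leaf 641024718598)) (.node (.leaf 2676302134427) (.leaf 4119948360975))))) (.node (.node (.node (.node (.node (.leaf 475667741573) (.leaf 4408248109459)) (.leaf 3025268310417)) (.node (.leaf 30601647117) (.leaf 2750390533790))) (.node (.node (.leaf 1833414587785) (.leaf 3459060110749)) (.node (.leaf 2560337947540) (.leaf 4007742313618)))) (.node (.node (.node (.leaf 967978485138) (.leaf 3228205563661)) (.node (.leaf 2332704668938) (.leaf 3782793351062))) (.node (.node (.leaf 617401696007) (.leaf 2434710253188)) (.node (.leaf 2500208503426) (.leaf 4206921469465))))))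
def dF_2033 : BT := .node (.node (.node (.node (.node (.node (.node (.leaf 81604401672) (.leaf 4264903483784)) (.leaf 2856690803854)) (.node (.leaf 144418303764) (.leaf 3042984930068))) (.node (.node (.leaf 1188632482698) (.leaf 2698850856199)) (.node (.leaf 2372433125789) (.leaf 3857418422410)))) (.node (.node (.node (.node (.leaf 49929092614) (.leaf 4444755340175)) (.leaf 3091840319379)) (.node (.leaf 1901060352655) (.leaf 3638375037960))) (.node (.node (.leaf 1954210603648) (.leaf 2317672467998)) (.node (.leaf 2624225643539) (.leaf 4059281926942))))) (.node (.node (.node (.node (.node (.leaf 387620890898) (.leaf 4376035847056)) (.leaf 2990908563859)) (.node (.leaf 517006872839) (.leaf 2691334583710))) (.node (.node (.leaf 1642825380617) (.leaf 3401078038418)) (.node (.leaf 2504503401617) (.leaf 3958887032725)))) (.node (.node (.node (.leaf 772020551823) (.leaf 3189013977733)) (.node (.leaf 823560384521) (.leaf 3749507343492))) (.node (.node (.leaf 936302932123) (.leaf 2821257337364)) (.node (.leaf 2354716476168) (.leaf 4163434915228)))))) (.node (.node (.node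 (.node (.node (.node (.leaf 246423807493) (.leaf 4330938679709)) (.leaf 2930779007492)) (.node (.leaf 393526733854) (.leaf 2633352417664))) (.node (.node (.leaf 1378684816773) (.leaf 3335579771539)) (.node (.leaf 2432562682266) (.leaf 3635153876738)))) (.node (.node (.node (.leaf 10737566980) (.leaf 3133716260496)) (.node (.leaf 1500554514436) (.leaf 3699041021062))) (.node (.node (.leaf 446676704901) (.leaf 3582003428097)) (.node (.leaf 2324114817804) (.leaf 4116190263696))))) (.node (.node (.node (.node (.node (.leaf 446139839643) (.leaf 3695283539339)) (.leaf 2520072782080)) (.node (.leaf 711354105751) (.leaf 3482682299139))) (.node (.node (.leaf 1824287798144) (.leaf 3473018757788)) (.node (.leaf 2576980992015) (.leaf 4010426668808)))) (.node (.node (.node (.leaf 997506392455) (.leaf 2525978412052)) (.node (.leaf 2337536506635) (.leaf 3701725844373))) (.node (.node (.leaf 2011655731226) (.leaf 2929168519937)) (.node (.leaf 2788508124951) (.leaf 4216585148288))))))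
def dP_1 : BT := .node (.node (.node (.node (.node (.node (.node (.leaf 8077) (.leaf 908938)) (.leaf 5901)) (.node (.leaf 53248) (.leaf 794497))) (.node (.node (.leaf 139140) (.leaf 663424)) (.node (.leaf 401284) (.leaf 925573)))) (.node (.node (.node (.leaf 24332) (.leaf 597889)) (.node (.leaf 335744) (.leaf 860045))) (.node (.node (.leaf 204677) (.leaf 728961)) (.node (.leaf 466823) (.leaf 991116))))) (.node (.node (.node (.node (.leaf 24842) (.leaf 483332)) (.node (.leaf 301830) (.leaf 827269))) (.node (.node (.leaf 171908) (.leaf 696196)) (.node (.leaf 5005) (.leaf 958339)))) (.node (.node (.node (.leaf 106373) (.leaf 630660)) (.node (.leaf 368519) (.leaf 892801))) (.node (.node (.leaf 111880) (.leaf 761740)) (.node (.leaf 498690) (.leaf 1023877)))))) (.node (.node (.node (.node (.node (.leaf 520) (.leaf 548740)) (.node (.leaf 286593) (.leaf 810880))) (.node (.node (.leaf 155525) (.leaf 679809)) (.node (.leaf 417669) (.leaf 941952)))) (.node (.node (.node (.leaf 89984) (.leaf 614272)) (.node (.leaf 352129) (.leaf 876423))) (.node (.node (.leaf 3087) (.leaf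 745348)) (.node (.leaf 483203) (.leaf 1007488))))) (.node (.node (.node (.node (.leaf 57221) (.leaf 581511)) (.node (.leaf 319364) (.leaf 843648))) (.node (.node (.leaf 188288) (.leaf 712588)) (.node (.leaf 450433) (.leaf 974724)))) (.node (.node (.node (.leaf 37640) (.leaf 647053)) (.node (.leaf 384897) (.leaf 571146))) (.node (.node (.leaf 253825) (.leaf 778117)) (.node (.leaf 515973) (.leaf 994700))))))
def dP_8 : BT := .node (.node (.node (.node (.node (.node (.node (.leaf 10125) (.leaf 911114)) (.leaf 534405)) (.node (.leaf 272260) (.leaf 796548))) (.node (.node (.leaf 141188) (.leaf 665472)) (.node (.leaf 4872) (.leaf 890240)))) (.node (.node (.node (.leaf 75652) (.leaf 599936)) (.node (.leaf 337797) (.leaf 716801))) (.node (.node (.leaf 32776) (.leaf 731009)) (.node (.leaf 92684) (.leaf 993164))))) (.node (.node (.node (.node (.leaf 42880) (.leaf 566914)) (.node (.leaf 304774) (.leaf 829313))) (.node (.node (.leaf 173953) (.leaf 698253)) (.node (.leaf 436106) (.leaf 876160)))) (.node (.node (.node (.leaf 108419) (.leaf 632716)) (.node (.leaf 91800) (.leaf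 894849))) (.node (.node (.leaf 239488) (.leaf 763777)) (.node (.leaf 114186) (.leaf 1025924)))))) (.node (.node (.node (.node (.node (.leaf 26501) (.leaf 550795)) (.node (.leaf 288641) (.leaf 812932))) (.node (.node (.leaf 157573) (.leaf 681869)) (.node (.leaf 419330) (.leaf 944005)))) (.node (.node (.node (.leaf 92032) (.leaf 616325)) (.node (.leaf 354176) (.leaf 878468))) (.node (.node (.leaf 220684) (.leaf 747393)) (.node (.leaf 55178) (.leaf 1009536))))) (.node (.node (.node (.node (.leaf 59267) (.leaf 583565)) (.node (.leaf 321412) (.leaf 845701))) (.node (.node (.leaf 190336) (.leaf 714637)) (.node (.leaf 452486) (.leaf 976772)))) (.node (.node (.node (.leaf 123652) (.leaf 466060)) (.node (.leaf 386948) (.leaf 911242))) (.node (.node (.leaf 255873) (.leaf 780165)) (.node (.leaf 518018) (.leaf 1042316))))))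
def dP_16 : BT := .node (.node (.node (.node (.node (.node (.node (.leaf 8588) (.leaf 723592)) (.leaf 533379)) (.node (.leaf 271236) (.leaf 795521))) (.node (.node (.leaf 140164) (.leaf 664451)) (.node (.leaf 402054) (.leaf 926597)))) (.node (.node (.node (.leaf 74628) (.leaf 598913)) (.node (.leaf 336773) (.leaf 861057))) (.node (.node (.leaf 205700) (.leaf 729985)) (.node (.leaf 467716) (.leaf 992141))))) (.node (.node (.node (.node (.leaf 41856) (.leaf 566016)) (.node (.leaf 298112) (.leaf 828289))) (.node (.node (.leaf 28298) (.leaf 697221)) (.node (.leaf 423306) (.leaf 959372)))) (.node (.node (.node (.leaf 107396) (.leaf 631684)) (.node (.leaf 369548) (.leaf 893825))) (.node (.node (.leaf 238475) (.leaf 762757)) (.node (.leaf 5768) (.leaf 1024900)))))) (.node (.node (.node (.node (.node (.leaf 517) (.leaf 549764)) (.node (.leaf 287617) (.leaf 811908))) (.node (.node (.leaf 156549) (.leaf 680837)) (.node (.leaf 397466) (.leaf 888326)))) (.node (.node (.node (.leaf 91008) (.leaf 615299)) (.node (.leaf 353153) (.leaf 877313))) (.node (.node (.leaf 222090) (.leaf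 746372)) (.node (.leaf 484233) (.leaf 1008512))))) (.node (.node (.node (.node (.leaf 58244) (.leaf 582540)) (.node (.leaf 320388) (.leaf 844685))) (.node (.node (.leaf 189312) (.leaf 667660)) (.node (.leaf 5258) (.leaf 975748)))) (.node (.node (.node (.leaf 40578) (.leaf 648076)) (.node (.leaf 371596) (.leaf 891658))) (.node (.node (.leaf 254849) (.leaf 779141)) (.node (.leaf 114202) (.leaf 1041285))))))
def dP_23 : BT := .node (.node (.node (.node (.node (.node (.node (.leaf 11148) (.leaf 961674)) (.leaf 535429)) (.node (.leaf 273284) (.leaf 797572))) (.node (.node (.leaf 142208) (.leaf 566404)) (.node (.leaf 92170) (.leaf 928640)))) (.node (.node (.node (.leaf 22794) (.leaf 600963)) (.node (.leaf 338821) (.leaf 863105))) (.node (.node (.leaf 207745) (.leaf 732036)) (.node (.leaf 469888) (.leaf 994189))))) (.node (.node (.node (.node (.leaf 43904) (.leaf 568197)) (.node (.leaf 306052) (.leaf 830341))) (.node (.node (.leaf 174977) (.leaf 699269)) (.node (.leaf 437130) (.leaf 961420)))) (.node (.node (.node (.leaf 109440) (.leaf 633741)) (.node (.leaf 4616) (.leaf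 895873))) (.node (.node (.leaf 240512) (.leaf 764801)) (.node (.leaf 499072) (.leaf 1026956)))))) (.node (.node (.node (.node (.node (.leaf 27525) (.leaf 551817)) (.node (.leaf 289665) (.leaf 813965))) (.node (.node (.leaf 158597) (.leaf 682893)) (.node (.leaf 405386) (.leaf 945029)))) (.node (.node (.node (.leaf 21376) (.leaf 617345)) (.node (.leaf 355200) (.leaf 879488))) (.node (.node (.leaf 223236) (.leaf 748417)) (.node (.leaf 486276) (.leaf 866956))))) (.node (.node (.node (.node (.leaf 60293) (.leaf 584589)) (.node (.leaf 322436) (.leaf 846728))) (.node (.node (.leaf 191360) (.leaf 715661)) (.node (.leaf 453513) (.leaf 977796)))) (.node (.node (.node (.leaf 125828) (.leaf 650125)) (.node (.leaf 387972) (.leaf 628362))) (.node (.node (.leaf 27528) (.leaf 781196)) (.node (.leaf 29192) (.leaf 1043333))))))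
def dP_32 : BT := .node (.node (.node (.node (.node (.node (.node (.leaf 8205) (.leaf 628106)) (.leaf 36616)) (.node (.leaf 90888) (.leaf 795008))) (.node (.node (.leaf 139653) (.leaf 663937)) (.node (.leaf 401797) (.leaf 926084)))) (.node (.node (.node (.leaf 74115) (.leaf 598400)) (.node (.leaf 336260) (.leaf 860547))) (.node (.node (.leaf 205189) (.leaf 729472)) (.node (.leaf 452100) (.leaf 991629))))) (.node (.node (.node (.node (.leaf 24321) (.leaf 564608)) (.node (.leaf 303496) (.leaf 827780))) (.node (.node (.leaf 172421) (.leaf 696708)) (.node (.leaf 423040) (.leaf 958849)))) (.node (.node (.node (.leaf 106885) (.leaf 631173)) (.node (.leaf 369036) (.leaf 893312))) (.node (.node (.leaf 222084) (.leaf 659716)) (.node (.leaf 498698) (.leaf 1024388)))))) (.node (.node (.node (.node (.node (.leaf 1418) (.leaf 549253)) (.node (.leaf 287104) (.leaf 811393))) (.node (.node (.leaf 156036) (.leaf 680324)) (.node (.leaf 418180) (.leaf 267660)))) (.node (.node (.node (.leaf 90497) (.leaf 614785)) (.node (.leaf 352640) (.leaf 166918))) (.node (.node (.leaf 3210) (.leaf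 745861)) (.node (.leaf 483592) (.leaf 1008001))))) (.node (.node (.node (.node (.leaf 57733) (.leaf 582028)) (.node (.leaf 319877) (.leaf 844161))) (.node (.node (.leaf 180225) (.leaf 713100)) (.node (.leaf 427034) (.leaf 975237)))) (.node (.node (.node (.leaf 122368) (.leaf 647565)) (.node (.leaf 385408) (.leaf 909699))) (.node (.node (.leaf 254336) (.leaf 778628)) (.node (.leaf 516484) (.leaf 1010308))))))
def dP_39 : BT := .node (.node (.node (.node (.node (.node (.node (.leaf 10631) (.leaf 729864)) (.leaf 534916)) (.node (.leaf 272773) (.leaf 797061))) (.node (.node (.leaf 28554) (.leaf 665985)) (.node (.leaf 5000) (.leaf 928129)))) (.node (.node (.node (.leaf 539) (.leaf 600449)) (.node (.leaf 338308) (.leaf 862595))) (.node (.node (.leaf 207235) (.leaf 731520)) (.node (.leaf 469377) (.leaf 993676))))) (.node (.node (.node (.node (.leaf 43393) (.leaf 567684)) (.node (.leaf 305549) (.leaf 829828))) (.node (.node (.leaf 174464) (.leaf 698756)) (.node (.leaf 436616) (.leaf 942854)))) (.node (.node (.node (.leaf 108929) (.leaf 633229)) (.node (.leaf 4493) (.leaf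 895360))) (.node (.node (.leaf 240001) (.leaf 764288)) (.node (.leaf 498818) (.leaf 1026439)))))) (.node (.node (.node (.node (.node (.leaf 27012) (.leaf 11658)) (.node (.leaf 289152) (.leaf 813453))) (.node (.node (.leaf 158084) (.leaf 682381)) (.node (.leaf 419338) (.leaf 944516)))) (.node (.node (.node (.leaf 92545) (.leaf 616836)) (.node (.leaf 354689) (.leaf 878977))) (.node (.node (.leaf 220678) (.leaf 747904)) (.node (.leaf 321926) (.leaf 1010049))))) (.node (.node (.node (.node (.leaf 59780) (.leaf 584077)) (.node (.leaf 321925) (.leaf 846212))) (.node (.node (.leaf 190849) (.leaf 715149)) (.node (.leaf 452872) (.leaf 977285)))) (.node (.node (.node (.leaf 125317) (.leaf 649612)) (.node (.leaf 387461) (.leaf 911751))) (.node (.node (.leaf 256384) (.leaf 780676)) (.node (.leaf 518406) (.leaf 994180))))))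
def dP_47 : BT := .node (.node (.node (.node (.node (.node (.node (.leaf 9613) (.leaf 584200)) (.leaf 533892)) (.node (.leaf 271749) (.leaf 796037))) (.node (.node (.leaf 140677) (.leaf 664961)) (.node (.leaf 397338) (.leaf 927108)))) (.node (.node (.node (.leaf 75141) (.leaf 599425)) (.node (.leaf 337284) (.leaf 436230))) (.node (.node (.leaf 206213) (.leaf 730496)) (.node (.leaf 55050) (.leaf 992653))))) (.node (.node (.node (.node (.leaf 42369) (.leaf 38786)) (.node (.leaf 284804) (.leaf 828800))) (.node (.node (.leaf 173440) (.leaf 697732)) (.node (.leaf 435586) (.leaf 959885)))) (.node (.node (.node (.leaf 34052) (.leaf 575490)) (.node (.leaf 54164) (.leaf 894336))) (.node (.node (.leaf 238977) (.leaf 763268)) (.node (.leaf 499082) (.leaf 1025413)))))) (.node (.node (.node (.node (.node (.leaf 25988) (.leaf 153728)) (.node (.leaf 288128) (.leaf 812421))) (.node (.node (.leaf 157060) (.leaf 681348)) (.node (.leaf 4992) (.leaf 943492)))) (.node (.node (.node (.leaf 91521) (.leaf 615812)) (.node (.leaf 353664) (.leaf 877955))) (.node (.node (.leaf 222472) (.leaf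 746880)) (.node (.leaf 55168) (.leaf 1009025))))) (.node (.node (.node (.node (.leaf 58757) (.leaf 181004)) (.node (.leaf 320901) (.leaf 845188))) (.node (.node (.leaf 189825) (.leaf 714124)) (.node (.leaf 5386) (.leaf 976261)))) (.node (.node (.node (.leaf 48384) (.leaf 648588)) (.node (.leaf 386435) (.leaf 910724))) (.node (.node (.leaf 255360) (.leaf 779652)) (.node (.leaf 5659) (.leaf 1041799))))))
def dP_54 : BT := .node (.node (.node (.node (.node (.node (.node (.leaf 11660) (.leaf 1036554)) (.leaf 535940)) (.node (.leaf 273797) (.leaf 798085))) (.node (.node (.leaf 142721) (.leaf 147210)) (.node (.leaf 404866) (.leaf 929153)))) (.node (.node (.node (.leaf 19591) (.leaf 601473)) (.node (.leaf 339333) (.leaf 863616))) (.node (.node (.leaf 208256) (.leaf 732549)) (.node (.leaf 470401) (.leaf 994692))))) (.node (.node (.node (.node (.leaf 44417) (.leaf 568708)) (.node (.leaf 306565) (.leaf 830852))) (.node (.node (.leaf 175488) (.leaf 699780)) (.node (.leaf 437642) (.leaf 961933)))) (.node (.node (.node (.leaf 109953) (.leaf 634253)) (.node (.leaf 372106) (.leaf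 896384))) (.node (.node (.leaf 241025) (.leaf 765317)) (.node (.leaf 499204) (.leaf 1027468)))))) (.node (.node (.node (.node (.node (.leaf 28036) (.leaf 180359)) (.node (.leaf 290176) (.leaf 814477))) (.node (.node (.leaf 28426) (.leaf 683404)) (.node (.leaf 421251) (.leaf 945540)))) (.node (.node (.node (.leaf 93569) (.leaf 617856)) (.node (.leaf 54040) (.leaf 880001))) (.node (.node (.leaf 224645) (.leaf 748928)) (.node (.leaf 486789) (.leaf 1011084))))) (.node (.node (.node (.node (.leaf 60804) (.leaf 585100)) (.node (.leaf 322949) (.leaf 147336))) (.node (.node (.leaf 191872) (.leaf 716172)) (.node (.leaf 448652) (.leaf 978178)))) (.node (.node (.node (.leaf 126341) (.leaf 575493)) (.node (.leaf 113178) (.leaf 912773))) (.node (.node (.leaf 257420) (.leaf 781709)) (.node (.leaf 499975) (.leaf 314636))))))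
def dP_64 : BT := .node (.node (.node (.node (.node (.node (.node (.leaf 8320) (.leaf 578954)) (.leaf 519943)) (.node (.leaf 53256) (.leaf 794764))) (.node (.node (.leaf 139397) (.leaf 663693)) (.node (.leaf 401541) (.leaf 925828)))) (.node (.node (.node (.leaf 73869) (.leaf 598156)) (.node (.leaf 321544) (.leaf 860288))) (.node (.node (.leaf 204933) (.leaf 729229)) (.node (.leaf 467079) (.leaf 991360))))) (.node (.node (.node (.node (.leaf 25226) (.leaf 565387)) (.node (.leaf 91272) (.leaf 827525))) (.node (.node (.leaf 172164) (.leaf 696452)) (.node (.leaf 5017) (.leaf 958599)))) (.node (.node (.node (.leaf 106629) (.leaf 630916)) (.node (.leaf 368769) (.leaf 893068))) (.node (.node (.leaf 237576) (.leaf 761985)) (.node (.leaf 498570) (.leaf 1024132)))))) (.node (.node (.node (.node (.node (.leaf 524) (.leaf 548996)) (.node (.leaf 286860) (.leaf 811149))) (.node (.node (.leaf 155781) (.leaf 587908)) (.node (.leaf 417924) (.leaf 901888)))) (.node (.node (.node (.leaf 90253) (.leaf 614541)) (.node (.leaf 352396) (.leaf 876673))) (.node (.node (.leaf 3099) (.leaf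 745604)) (.node (.leaf 114056) (.leaf 1007757))))) (.node (.node (.node (.node (.leaf 57477) (.leaf 581761)) (.node (.leaf 319620) (.leaf 843917))) (.node (.node (.leaf 28168) (.leaf 712832)) (.node (.leaf 54808) (.leaf 974980)))) (.node (.node (.node (.leaf 38016) (.leaf 647296)) (.node (.leaf 385165) (.leaf 690317))) (.node (.node (.leaf 254093) (.leaf 778372)) (.node (.leaf 516228) (.leaf 986369))))))
def dP_71 : BT := .node (.node (.node (.node (.node (.node (.node (.leaf 10371) (.leaf 584968)) (.leaf 534660)) (.node (.leaf 272517) (.leaf 796805))) (.node (.node (.leaf 141445) (.leaf 665740)) (.node (.leaf 403336) (.leaf 927884)))) (.node (.node (.node (.leaf 36378) (.leaf 600205)) (.node (.leaf 338052) (.leaf 638853))) (.node (.node (.leaf 168453) (.leaf 731277)) (.node (.leaf 469133) (.leaf 993408))))) (.node (.node (.node (.node (.leaf 43149) (.leaf 567044)) (.node (.leaf 91276) (.leaf 622724))) (.node (.node (.leaf 174220) (.leaf 698499)) (.node (.leaf 436358) (.leaf 942848)))) (.node (.node (.node (.leaf 108679) (.leaf 632960)) (.node (.leaf 113050) (.leaf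 895116))) (.node (.node (.leaf 239757) (.leaf 764044)) (.node (.leaf 501770) (.leaf 1026179)))))) (.node (.node (.node (.node (.node (.leaf 26757) (.leaf 152576)) (.node (.leaf 288908) (.leaf 813184))) (.node (.node (.leaf 157829) (.leaf 682113)) (.node (.leaf 419458) (.leaf 944261)))) (.node (.node (.node (.leaf 92300) (.leaf 616580)) (.node (.leaf 353932) (.leaf 565891))) (.node (.node (.leaf 52870) (.leaf 747661)) (.node (.leaf 321920) (.leaf 1009804))))) (.node (.node (.node (.node (.leaf 59524) (.leaf 583809)) (.node (.leaf 321418) (.leaf 845957))) (.node (.node (.leaf 190605) (.leaf 714881)) (.node (.leaf 113800) (.leaf 977028)))) (.node (.node (.node (.leaf 125060) (.leaf 649345)) (.node (.leaf 387205) (.leaf 911491))) (.node (.node (.leaf 256141) (.leaf 780420)) (.node (.leaf 5892) (.leaf 1042560))))))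
def dP_79 : BT := .node (.node (.node (.node (.node (.node (.node (.leaf 9345) (.leaf 1054720)) (.leaf 533636)) (.node (.leaf 271493) (.leaf 579717))) (.node (.node (.leaf 140421) (.leaf 664711)) (.node (.leaf 402573) (.leaf 926852)))) (.node (.node (.node (.leaf 74885) (.leaf 465932)) (.node (.leaf 337028) (.leaf 590472))) (.node (.node (.leaf 205956) (.leaf 730252)) (.node (.leaf 5388) (.leaf 992384))))) (.node (.node (.node (.node (.leaf 42125) (.leaf 37378)) (.node (.leaf 304128) (.leaf 828556))) (.node (.node (.leaf 173196) (.leaf 697477)) (.node (.leaf 435330) (.leaf 959617)))) (.node (.node (.node (.leaf 107653) (.leaf 631940)) (.node (.leaf 369793) (.leaf 894093))) (.node (.node (.leaf 238732) (.leaf 763013)) (.node (.leaf 498954) (.leaf 1025157)))))) (.node (.node (.node (.node (.node (.leaf 25733) (.leaf 550020)) (.node (.leaf 287885) (.leaf 812165))) (.node (.node (.leaf 156805) (.leaf 681092)) (.node (.leaf 4879) (.leaf 943237)))) (.node (.node (.node (.leaf 91277) (.leaf 615556)) (.node (.leaf 353421) (.leaf 599053))) (.node (.node (.leaf 111752) (.leaf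 746628)) (.node (.leaf 484489) (.leaf 1008781))))) (.node (.node (.node (.node (.leaf 58500) (.leaf 582785)) (.node (.leaf 320644) (.leaf 844931))) (.node (.node (.leaf 189580) (.leaf 713857)) (.node (.leaf 451466) (.leaf 976004)))) (.node (.node (.node (.leaf 40584) (.leaf 648320)) (.node (.leaf 386189) (.leaf 910469))) (.node (.node (.leaf 255116) (.leaf 779396)) (.node (.leaf 5645) (.leaf 1041539))))))
def dP_86 : BT := .node (.node (.node (.node (.node (.node (.node (.leaf 11392) (.leaf 1032970)) (.leaf 535684)) (.node (.leaf 273541) (.leaf 797829))) (.node (.node (.leaf 142476) (.leaf 565632)) (.node (.leaf 404490) (.leaf 928909)))) (.node (.node (.node (.leaf 22922) (.leaf 601223)) (.node (.leaf 339077) (.leaf 863372))) (.node (.node (.leaf 208012) (.leaf 732293)) (.node (.leaf 470157) (.leaf 994432))))) (.node (.node (.node (.node (.leaf 44172) (.leaf 568452)) (.node (.leaf 306309) (.leaf 830596))) (.node (.node (.leaf 175245) (.leaf 699525)) (.node (.leaf 437386) (.leaf 961664)))) (.node (.node (.node (.leaf 109708) (.leaf 633984)) (.node (.leaf 359306)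 (.leaf 896141))) (.node (.node (.leaf 240781) (.leaf 656261)) (.node (.leaf 502784) (.leaf 1027200)))))) (.node (.node (.node (.node (.node (.leaf 27781) (.leaf 552073)) (.node (.leaf 289933) (.leaf 814208))) (.node (.node (.leaf 158853) (.leaf 683137)) (.node (.leaf 421002) (.leaf 945285)))) (.node (.node (.node (.leaf 93324) (.leaf 617612)) (.node (.leaf 355469) (.leaf 879757))) (.node (.node (.leaf 224388) (.leaf 748684)) (.node (.leaf 486533) (.leaf 1010816))))) (.node (.node (.node (.node (.leaf 60548) (.leaf 584833)) (.node (.leaf 322692) (.leaf 667146))) (.node (.node (.leaf 191245) (.leaf 715905)) (.node (.leaf 453769) (.leaf 265228)))) (.node (.node (.node (.leaf 126084) (.leaf 650369)) (.node (.leaf 54296) (.leaf 558083))) (.node (.node (.leaf 236161) (.leaf 781440)) (.node (.leaf 502915) (.leaf 1043585))))))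
def dP_95 : BT := .node (.node (.node (.node (.node (.node (.node (.leaf 8832) (.leaf 699146)) (.leaf 533133)) (.node (.leaf 218244) (.leaf 795276))) (.node (.node (.leaf 139908) (.leaf 575749)) (.node (.leaf 402048) (.leaf 926341)))) (.node (.node (.node (.leaf 74372) (.leaf 598668)) (.node (.leaf 336517) (.leaf 860807))) (.node (.node (.leaf 205445) (.leaf 729741)) (.node (.leaf 452228) (.leaf 991873))))) (.node (.node (.node (.node (.leaf 41612) (.leaf 564736)) (.node (.leaf 297984) (.leaf 828036))) (.node (.node (.leaf 172677) (.leaf 696964)) (.node (.leaf 5128) (.leaf 801030)))) (.node (.node (.node (.leaf 107140) (.leaf 631429)) (.node (.leaf 369280) (.leaf 893581))) (.node (.node (.leaf 238219) (.leaf 762500)) (.node (.leaf 498824) (.leaf 1024644)))))) (.node (.node (.node (.node (.node (.leaf 266) (.leaf 549509)) (.node (.leaf 287373) (.leaf 698372))) (.node (.node (.leaf 156292) (.leaf 680581)) (.node (.leaf 54552) (.leaf 888320)))) (.node (.node (.node (.leaf 90765) (.leaf 439309)) (.node (.leaf 352909) (.leaf 833922))) (.node (.node (.leaf 221578) (.leaf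 746117)) (.node (.leaf 483968) (.leaf 1008269))))) (.node (.node (.node (.node (.leaf 57989) (.leaf 582272)) (.node (.leaf 320133) (.leaf 153484))) (.node (.node (.leaf 189068) (.leaf 713345)) (.node (.leaf 5147) (.leaf 975493)))) (.node (.node (.node (.leaf 48396) (.leaf 647809)) (.node (.leaf 367878) (.leaf 909956))) (.node (.node (.leaf 254605) (.leaf 778885)) (.node (.leaf 55320) (.leaf 1041028))))))
def dP_102 : BT := .node (.node (.node (.node (.node (.node (.node (.leaf 10881) (.leaf 686089)) (.leaf 6031)) (.node (.leaf 273028) (.leaf 797316))) (.node (.node (.leaf 141964) (.leaf 31496)) (.node (.leaf 403594) (.leaf 928396)))) (.node (.node (.node (.leaf 23176) (.leaf 566917)) (.node (.leaf 338565) (.leaf 862855))) (.node (.node (.leaf 207495) (.leaf 731780)) (.node (.leaf 469644) (.leaf 993921))))) (.node (.node (.node (.node (.leaf 43660) (.leaf 567941)) (.node (.leaf 305796) (.leaf 830085))) (.node (.node (.leaf 174733) (.leaf 699012)) (.node (.leaf 436872) (.leaf 961153)))) (.node (.node (.node (.leaf 109196) (.leaf 633473)) (.node (.leaf 359040) (.leaf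 895628))) (.node (.node (.leaf 240269) (.leaf 764556)) (.node (.leaf 498944) (.leaf 1026689)))))) (.node (.node (.node (.node (.node (.leaf 27268) (.leaf 551552)) (.node (.leaf 289420) (.leaf 813697))) (.node (.node (.leaf 158340) (.leaf 682624)) (.node (.leaf 419466) (.leaf 944772)))) (.node (.node (.node (.leaf 92813) (.leaf 567426)) (.node (.leaf 354957) (.leaf 879244))) (.node (.node (.leaf 220682) (.leaf 748173)) (.node (.leaf 55300) (.leaf 1001089))))) (.node (.node (.node (.node (.leaf 60037) (.leaf 584320)) (.node (.leaf 322181) (.leaf 846468))) (.node (.node (.leaf 191117) (.leaf 715392)) (.node (.leaf 453248) (.leaf 889731)))) (.node (.node (.node (.leaf 125573) (.leaf 649856)) (.node (.leaf 387716) (.leaf 912001))) (.node (.node (.leaf 27520) (.leaf 780929)) (.node (.leaf 518408) (.leaf 1043072))))))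
def dP_110 : BT := .node (.node (.node (.node (.node (.node (.node (.leaf 9856) (.leaf 910986)) (.leaf 534149)) (.node (.leaf 272004) (.leaf 796292))) (.node (.node (.leaf 140932) (.leaf 665228)) (.node (.leaf 4763) (.leaf 927365)))) (.node (.node (.node (.leaf 75396) (.leaf 599692)) (.node (.leaf 337541) (.leaf 861828))) (.node (.node (.leaf 206469) (.leaf 730764)) (.node (.leaf 468230) (.leaf 992897))))) (.node (.node (.node (.node (.leaf 42637) (.leaf 566924)) (.node (.leaf 53638) (.leaf 829069))) (.node (.node (.leaf 173708) (.leaf 697988)) (.node (.leaf 435850) (.leaf 589837)))) (.node (.node (.node (.leaf 108165) (.leaf 632449)) (.node (.leaf 54168) (.leaf 894605))) (.node (.node (.leaf 239244) (.leaf 763524)) (.node (.leaf 92938) (.leaf 1025668)))))) (.node (.node (.node (.node (.node (.leaf 26244) (.leaf 269067)) (.node (.leaf 288397) (.leaf 812676))) (.node (.node (.leaf 157316) (.leaf 681600)) (.node (.leaf 5002) (.leaf 943748)))) (.node (.node (.node (.leaf 91788) (.leaf 616069)) (.node (.leaf 353549) (.leaf 878212))) (.node (.node (.leaf 222848) (.leaf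 747149)) (.node (.leaf 55172) (.leaf 1009292))))) (.node (.node (.node (.node (.leaf 25613) (.leaf 583296)) (.node (.leaf 321157) (.leaf 845444))) (.node (.node (.leaf 190092) (.leaf 714368)) (.node (.leaf 439946) (.leaf 976517)))) (.node (.node (.node (.leaf 37644) (.leaf 648833)) (.node (.leaf 386692) (.leaf 910979))) (.node (.node (.leaf 255628) (.leaf 779909)) (.node (.leaf 5770) (.leaf 1042049))))))
def dP_117 : BT := .node (.node (.node (.node (.node (.node (.node (.leaf 11905) (.leaf 1050892)) (.leaf 536197)) (.node (.leaf 274052) (.leaf 798340))) (.node (.node (.leaf 142988) (.leaf 667276)) (.node (.leaf 389892) (.leaf 923779)))) (.node (.node (.node (.leaf 25092) (.leaf 601740)) (.node (.leaf 339588) (.leaf 863884))) (.node (.node (.leaf 208524) (.leaf 732804)) (.node (.leaf 470669) (.leaf 994948))))) (.node (.node (.node (.node (.leaf 28936) (.leaf 568965)) (.node (.leaf 306820) (.leaf 831104))) (.node (.node (.leaf 175373) (.leaf 700036)) (.node (.leaf 437891) (.leaf 962177)))) (.node (.node (.node (.leaf 29338) (.leaf 634497)) (.node (.leaf 372362)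 (.leaf 896645))) (.node (.node (.leaf 241292) (.leaf 765572)) (.node (.leaf 499332) (.leaf 1027713)))))) (.node (.node (.node (.node (.node (.leaf 28292) (.leaf 181636)) (.node (.leaf 27272) (.leaf 814721))) (.node (.node (.leaf 159364) (.leaf 683648)) (.node (.leaf 421507) (.leaf 945796)))) (.node (.node (.node (.leaf 93836) (.leaf 618125)) (.node (.leaf 91672) (.leaf 648973))) (.node (.node (.leaf 224901) (.leaf 749196)) (.node (.leaf 487044) (.leaf 1011329))))) (.node (.node (.node (.node (.leaf 16022) (.leaf 585344)) (.node (.leaf 323205) (.leaf 147208))) (.node (.node (.leaf 191628) (.leaf 716416)) (.node (.leaf 54920) (.leaf 978561)))) (.node (.node (.node (.leaf 126597) (.leaf 650883)) (.node (.leaf 4623) (.leaf 913028))) (.node (.node (.leaf 257664) (.leaf 781953)) (.node (.leaf 519812) (.leaf 1044109))))))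
def dP_128 : BT := .node (.node (.node (.node (.node (.node (.node (.leaf 8197) (.leaf 889866)) (.leaf 5903)) (.node (.leaf 53250) (.leaf 794628))) (.node (.node (.leaf 139277) (.leaf 663557)) (.node (.leaf 401421) (.leaf 925709)))) (.node (.node (.node (.leaf 73733) (.leaf 598020)) (.node (.leaf 335877) (.leaf 860165))) (.node (.node (.leaf 204800) (.leaf 729092)) (.node (.leaf 466824) (.leaf 991237))))) (.node (.node (.node (.node (.leaf 24844) (.leaf 565252)) (.node (.leaf 303110) (.leaf 827392))) (.node (.node (.leaf 172033) (.leaf 696321)) (.node (.leaf 5007) (.leaf 958467)))) (.node (.node (.node (.leaf 106125) (.leaf 630785)) (.node (.leaf 368644) (.leaf 892932))) (.node (.node (.leaf 237575) (.leaf 761860)) (.node (.leaf 499714) (.leaf 1024012)))))) (.node (.node (.node (.node (.node (.leaf 522) (.leaf 548865)) (.node (.leaf 286724) (.leaf 811013))) (.node (.node (.leaf 155648) (.leaf 679940)) (.node (.leaf 417804) (.leaf 942085)))) (.node (.node (.node (.leaf 90117) (.leaf 614405)) (.node (.leaf 352260) (.leaf 876548))) (.node (.node (.leaf 3097) (.leaf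 745473)) (.node (.leaf 466952) (.leaf 1007621))))) (.node (.node (.node (.node (.leaf 57344) (.leaf 581636)) (.node (.leaf 319489) (.leaf 843781))) (.node (.node (.leaf 188421) (.leaf 712709)) (.node (.leaf 450564) (.leaf 974849)))) (.node (.node (.node (.leaf 122887) (.leaf 647173)) (.node (.leaf 385028) (.leaf 622848))) (.node (.node (.leaf 253956) (.leaf 778253)) (.node (.leaf 516108) (.leaf 989324))))))
def dP_135 : BT := .node (.node (.node (.node (.node (.node (.node (.leaf 6285) (.leaf 1058819)) (.leaf 534540)) (.node (.leaf 272397) (.leaf 796685))) (.node (.node (.leaf 141325) (.leaf 665605)) (.node (.leaf 403464) (.leaf 927749)))) (.node (.node (.node (.leaf 51866) (.leaf 600069)) (.node (.leaf 337933) (.leaf 862212))) (.node (.node (.leaf 32778) (.leaf 731140)) (.node (.leaf 468234) (.leaf 993285))))) (.node (.node (.node (.node (.leaf 43013) (.leaf 22284)) (.node (.leaf 91274) (.leaf 829444))) (.node (.node (.leaf 174084) (.leaf 698371)) (.node (.leaf 434822) (.leaf 923141)))) (.node (.node (.node (.leaf 108547) (.leaf 632837)) (.node (.leaf 113048)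 (.leaf 894980))) (.node (.node (.leaf 239621) (.leaf 763908)) (.node (.leaf 501763) (.leaf 888461)))))) (.node (.node (.node (.node (.node (.leaf 26624) (.leaf 30858)) (.node (.leaf 288772) (.leaf 749829))) (.node (.node (.leaf 157696) (.leaf 681988)) (.node (.leaf 419842) (.leaf 944128)))) (.node (.node (.node (.leaf 92165) (.leaf 616460)) (.node (.leaf 354309) (.leaf 674954))) (.node (.node (.leaf 52868) (.leaf 747524)) (.node (.leaf 55180) (.leaf 1009669))))) (.node (.node (.node (.node (.leaf 59399) (.leaf 583684)) (.node (.leaf 321416) (.leaf 845824))) (.node (.node (.leaf 190469) (.leaf 714756)) (.node (.leaf 438792) (.leaf 976897)))) (.node (.node (.node (.leaf 124929) (.leaf 649220)) (.node (.leaf 387084) (.leaf 786957))) (.node (.node (.leaf 256004) (.leaf 780300)) (.node (.leaf 5898) (.leaf 1042437))))))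
def dP_143 : BT := .node (.node (.node (.node (.node (.node (.node (.leaf 9220) (.leaf 730760)) (.leaf 533511)) (.node (.leaf 271372) (.leaf 795652))) (.node (.node (.leaf 140300) (.leaf 664579)) (.node (.leaf 358789) (.leaf 926732)))) (.node (.node (.node (.leaf 74764) (.leaf 599044)) (.node (.leaf 336908) (.leaf 861188))) (.node (.node (.leaf 205825) (.leaf 730116)) (.node (.leaf 467979) (.leaf 992261))))) (.node (.node (.node (.node (.leaf 41989) (.leaf 566281)) (.node (.leaf 304137) (.leaf 828420))) (.node (.node (.leaf 124420) (.leaf 697344)) (.node (.leaf 423042) (.leaf 959492)))) (.node (.node (.node (.leaf 107533) (.leaf 631809)) (.node (.leaf 369668) (.leaf 893956))) (.node (.node (.leaf 3340) (.leaf 762880)) (.node (.leaf 500744) (.leaf 1025036)))))) (.node (.node (.node (.node (.node (.leaf 25600) (.leaf 549889)) (.node (.leaf 287748) (.leaf 812044))) (.node (.node (.leaf 156672) (.leaf 680972)) (.node (.leaf 4877) (.leaf 881408)))) (.node (.node (.node (.leaf 91141) (.leaf 615431)) (.node (.leaf 353284) (.leaf 877572))) (.node (.node (.leaf 214024)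 (.leaf 746497)) (.node (.leaf 484224) (.leaf 1008645))))) (.node (.node (.node (.node (.leaf 58369) (.leaf 582660)) (.node (.leaf 320513) (.leaf 844803))) (.node (.node (.leaf 189445) (.leaf 713732)) (.node (.leaf 451594) (.leaf 975873)))) (.node (.node (.node (.leaf 40580) (.leaf 648197)) (.node (.leaf 386053) (.leaf 686080))) (.node (.node (.leaf 254980) (.leaf 779277)) (.node (.leaf 508698) (.leaf 1041421))))))
def dP_150 : BT := .node (.node (.node (.node (.node (.node (.node (.leaf 11269) (.leaf 961802)) (.leaf 535564)) (.node (.leaf 273420) (.leaf 797708))) (.node (.node (.leaf 142341) (.leaf 438276)) (.node (.leaf 404483) (.leaf 928773)))) (.node (.node (.node (.leaf 76810) (.leaf 601091)) (.node (.leaf 338573) (.leaf 863236))) (.node (.node (.leaf 207876) (.leaf 732172)) (.node (.leaf 470021) (.leaf 994309))))) (.node (.node (.node (.node (.leaf 44037) (.leaf 568333)) (.node (.leaf 306189) (.leaf 830476))) (.node (.node (.leaf 175108) (.leaf 699392)) (.node (.leaf 435082) (.leaf 961541)))) (.node (.node (.node (.leaf 109573) (.leaf 633861)) (.node (.leaf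 371720) (.leaf 896004))) (.node (.node (.leaf 240645) (.leaf 764932)) (.node (.leaf 502793) (.leaf 1027077)))))) (.node (.node (.node (.node (.node (.leaf 27648) (.leaf 551808)) (.node (.leaf 289796) (.leaf 814085))) (.node (.node (.leaf 158720) (.leaf 683012)) (.node (.leaf 113546) (.leaf 945152)))) (.node (.node (.node (.leaf 93189) (.leaf 617476)) (.node (.leaf 355333) (.leaf 879621))) (.node (.node (.leaf 224257) (.leaf 748548)) (.node (.leaf 486412) (.leaf 1010693))))) (.node (.node (.node (.node (.leaf 60428) (.leaf 584708)) (.node (.leaf 322561) (.leaf 562570))) (.node (.node (.leaf 191493) (.leaf 715780)) (.node (.leaf 453504) (.leaf 977921)))) (.node (.node (.node (.leaf 125953) (.leaf 650244)) (.node (.leaf 54294) (.leaf 912394))) (.node (.node (.leaf 27530) (.leaf 781317)) (.node (.leaf 501898) (.leaf 1000836))))))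
def dP_159 : BT := .node (.node (.node (.node (.node (.node (.node (.leaf 8709) (.leaf 1054605)) (.leaf 481157)) (.node (.leaf 112136) (.leaf 795141))) (.node (.node (.leaf 139789) (.leaf 664068)) (.node (.leaf 401933) (.leaf 926220)))) (.node (.node (.node (.leaf 74247) (.leaf 598533)) (.node (.leaf 336396) (.leaf 860675))) (.node (.node (.leaf 205312) (.leaf 729605)) (.node (.leaf 467460) (.leaf 991748))))) (.node (.node (.node (.node (.leaf 41476) (.leaf 565760)) (.node (.leaf 303623) (.leaf 827905))) (.node (.node (.leaf 172544) (.leaf 696833)) (.node (.leaf 5252) (.leaf 958980)))) (.node (.node (.node (.leaf 106508) (.leaf 631296)) (.node (.leaf 369157) (.leaf 893445))) (.node (.node (.leaf 222212) (.leaf 762369)) (.node (.leaf 500234) (.leaf 887436)))))) (.node (.node (.node (.node (.node (.leaf 1420) (.leaf 549376)) (.node (.leaf 287237) (.leaf 811524))) (.node (.node (.leaf 156161) (.leaf 680460)) (.node (.leaf 54548) (.leaf 484358)))) (.node (.node (.node (.leaf 90628) (.leaf 614916)) (.node (.leaf 352773) (.leaf 850058))) (.node (.node (.leaf 221706)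 (.leaf 745984)) (.node (.leaf 465920) (.leaf 1008132))))) (.node (.node (.node (.node (.leaf 57856) (.leaf 582149)) (.node (.leaf 320000) (.leaf 844292))) (.node (.node (.leaf 188932) (.leaf 713220)) (.node (.leaf 5135) (.leaf 975360)))) (.node (.node (.node (.leaf 123401) (.leaf 647684)) (.node (.leaf 385541) (.leaf 909831))) (.node (.node (.leaf 254469) (.leaf 778765)) (.node (.leaf 55318) (.leaf 1040897))))))
def dP_166 : BT := .node (.node (.node (.node (.node (.node (.node (.leaf 10756) (.leaf 1059335)) (.leaf 36890)) (.node (.leaf 272909) (.leaf 797197))) (.node (.node (.leaf 120580) (.leaf 666116)) (.node (.leaf 403976) (.leaf 928260)))) (.node (.node (.node (.leaf 25098) (.leaf 600580)) (.node (.leaf 338445) (.leaf 862723))) (.node (.node (.leaf 207363) (.leaf 181260)) (.node (.leaf 469508) (.leaf 993796))))) (.node (.node (.node (.node (.leaf 43524) (.leaf 567820)) (.node (.leaf 54669) (.leaf 829964))) (.node (.node (.leaf 174597) (.leaf 698881)) (.node (.leaf 434824) (.leaf 898180)))) (.node (.node (.node (.leaf 109060) (.leaf 633348)) (.node (.leaf 4507)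 (.leaf 895493))) (.node (.node (.leaf 240132) (.leaf 764421)) (.node (.leaf 502274) (.leaf 1026564)))))) (.node (.node (.node (.node (.node (.leaf 27137) (.leaf 266752)) (.node (.leaf 289285) (.leaf 813572))) (.node (.node (.leaf 158209) (.leaf 682501)) (.node (.leaf 420362) (.leaf 944641)))) (.node (.node (.node (.leaf 92676) (.leaf 567436)) (.node (.leaf 354820) (.leaf 879108))) (.node (.node (.leaf 90508) (.leaf 748037)) (.node (.leaf 321930) (.leaf 1010180))))) (.node (.node (.node (.node (.leaf 59916) (.leaf 584197)) (.node (.leaf 322048) (.leaf 846337))) (.node (.node (.leaf 190980) (.leaf 715269)) (.node (.leaf 436608) (.leaf 977408)))) (.node (.node (.node (.leaf 125440) (.leaf 649733)) (.node (.leaf 387596) (.leaf 911876))) (.node (.node (.leaf 256517) (.leaf 687620)) (.node (.leaf 518662) (.leaf 1007749))))))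
def dP_174 : BT := .node (.node (.node (.node (.node (.node (.node (.leaf 9733) (.leaf 913290)) (.leaf 534028)) (.node (.leaf 271885) (.leaf 796173))) (.node (.node (.leaf 140812) (.leaf 665092)) (.node (.leaf 4751) (.leaf 927245)))) (.node (.node (.node (.leaf 75276) (.leaf 599556)) (.node (.leaf 337420) (.leaf 667917))) (.node (.node (.leaf 206336) (.leaf 730629)) (.node (.leaf 55052) (.leaf 992772))))) (.node (.node (.node (.node (.leaf 42500) (.leaf 19596)) (.node (.leaf 3980) (.leaf 828933))) (.node (.node (.leaf 173573) (.leaf 697857)) (.node (.leaf 423050) (.leaf 605441)))) (.node (.node (.node (.leaf 23564) (.leaf 632196)) (.node (.leaf 54166) (.leaf 894469))) (.node (.node (.leaf 239108) (.leaf 763393)) (.node (.leaf 501258) (.leaf 1025549)))))) (.node (.node (.node (.node (.node (.leaf 26113) (.leaf 268804)) (.node (.leaf 288261) (.leaf 812556))) (.node (.node (.leaf 157185) (.leaf 649221)) (.node (.leaf 419328) (.leaf 943617)))) (.node (.node (.node (.leaf 91652) (.leaf 615948)) (.node (.leaf 353797) (.leaf 878087))) (.node (.node (.leaf 211968) (.leaf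 747013)) (.node (.leaf 55170) (.leaf 1009156))))) (.node (.node (.node (.node (.leaf 58880) (.leaf 583173)) (.node (.leaf 321024) (.leaf 845313))) (.node (.node (.leaf 189956) (.leaf 714245)) (.node (.leaf 452106) (.leaf 976384)))) (.node (.node (.node (.leaf 48386) (.leaf 648708)) (.node (.leaf 386567) (.leaf 684301))) (.node (.node (.leaf 255493) (.leaf 779788)) (.node (.leaf 5888) (.leaf 1041924))))))
def dP_181 : BT := .node (.node (.node (.node (.node (.node (.node (.leaf 11780) (.leaf 1050508)) (.leaf 536076)) (.node (.leaf 273932) (.leaf 798220))) (.node (.node (.leaf 142852) (.leaf 37260)) (.node (.leaf 403584) (.leaf 929284)))) (.node (.node (.node (.leaf 19719) (.leaf 601604)) (.node (.leaf 338956) (.leaf 863749))) (.node (.node (.leaf 208389) (.leaf 732685)) (.node (.leaf 470532) (.leaf 994817))))) (.node (.node (.node (.node (.leaf 28934) (.leaf 568845)) (.node (.leaf 306701) (.leaf 621189))) (.node (.node (.leaf 175621) (.leaf 699905)) (.node (.leaf 92426) (.leaf 962052)))) (.node (.node (.node (.leaf 110084) (.leaf 634372)) (.node (.leaf 371466) (.leaf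 268812))) (.node (.node (.leaf 241156) (.leaf 765453)) (.node (.leaf 503300) (.leaf 1027588)))))) (.node (.node (.node (.node (.node (.leaf 28161) (.leaf 269824)) (.node (.leaf 290309) (.leaf 814596))) (.node (.node (.leaf 148737) (.leaf 683525)) (.node (.leaf 421258) (.leaf 945665)))) (.node (.node (.node (.leaf 93700) (.leaf 617989)) (.node (.leaf 54042) (.leaf 880132))) (.node (.node (.leaf 224768) (.leaf 749061)) (.node (.leaf 486925) (.leaf 1011204))))) (.node (.node (.node (.node (.leaf 41114) (.leaf 585221)) (.node (.leaf 323072) (.leaf 847368))) (.node (.node (.leaf 192005) (.leaf 716293)) (.node (.leaf 54918) (.leaf 978308)))) (.node (.node (.node (.leaf 126464) (.leaf 650765)) (.node (.leaf 363546) (.leaf 912909))) (.node (.node (.leaf 257541) (.leaf 781828)) (.node (.leaf 499972) (.leaf 1043973))))))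
def dP_191 : BT := .node (.node (.node (.node (.node (.node (.node (.leaf 8453) (.leaf 579082)) (.leaf 36872)) (.node (.leaf 53258) (.leaf 794885))) (.node (.node (.leaf 139520) (.leaf 663812)) (.node (.leaf 401664) (.leaf 925953)))) (.node (.node (.node (.leaf 73987) (.leaf 598277)) (.node (.leaf 312961) (.leaf 737421))) (.node (.node (.leaf 204685) (.leaf 729349)) (.node (.leaf 440192) (.leaf 991493))))) (.node (.node (.node (.node (.leaf 25478) (.leaf 565130)) (.node (.leaf 112520) (.leaf 827660))) (.node (.node (.leaf 172301) (.leaf 182412)) (.node (.leaf 5019) (.leaf 958724)))) (.node (.node (.node (.leaf 106752) (.leaf 631052)) (.node (.leaf 368900) (.leaf 893189))) (.node (.node (.leaf 237831) (.leaf 762116)) (.node (.leaf 499978) (.leaf 1024257)))))) (.node (.node (.node (.node (.node (.leaf 262) (.leaf 549132)) (.node (.leaf 286981) (.leaf 811268))) (.node (.node (.leaf 155917) (.leaf 680193)) (.node (.leaf 418049) (.leaf 942341)))) (.node (.node (.node (.leaf 90372) (.leaf 614660)) (.node (.leaf 352517) (.leaf 876804))) (.node (.node (.leaf 3200) (.leaf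 745740)) (.node (.leaf 483591) (.leaf 1007876))))) (.node (.node (.node (.node (.leaf 57229) (.leaf 581892)) (.node (.leaf 319756) (.leaf 844036))) (.node (.node (.leaf 28170) (.leaf 712965)) (.node (.leaf 54810) (.leaf 975117)))) (.node (.node (.node (.leaf 123136) (.leaf 647429)) (.node (.leaf 385285) (.leaf 909571))) (.node (.node (.leaf 254213) (.leaf 778497)) (.node (.leaf 516353) (.leaf 968965))))))
def dP_198 : BT := .node (.node (.node (.node (.node (.node (.node (.leaf 10499) (.leaf 676744)) (.leaf 534785)) (.node (.leaf 272640) (.leaf 796928))) (.node (.node (.leaf 141568) (.leaf 665860)) (.node (.leaf 403720) (.leaf 928004)))) (.node (.node (.node (.leaf 537) (.leaf 600324)) (.node (.leaf 338177) (.leaf 862477))) (.node (.node (.leaf 207117) (.leaf 731397)) (.node (.leaf 468356) (.leaf 993541))))) (.node (.node (.node (.node (.leaf 43268) (.leaf 567553)) (.node (.leaf 304778) (.leaf 829697))) (.node (.node (.leaf 174341) (.leaf 698631)) (.node (.leaf 5256) (.leaf 942850)))) (.node (.node (.node (.leaf 108804) (.leaf 633093)) (.node (.leaf 351130) (.leaf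 895237))) (.node (.node (.leaf 239876) (.leaf 764165)) (.node (.leaf 502019) (.leaf 1026307)))))) (.node (.node (.node (.node (.node (.leaf 26893) (.leaf 165636)) (.node (.leaf 289029) (.leaf 813317))) (.node (.node (.leaf 157964) (.leaf 682244)) (.node (.leaf 420098) (.leaf 944397)))) (.node (.node (.node (.leaf 92420) (.leaf 616705)) (.node (.leaf 354564) (.leaf 801540))) (.node (.node (.leaf 52874) (.leaf 747781)) (.node (.leaf 321922) (.leaf 1009924))))) (.node (.node (.node (.node (.leaf 59649) (.leaf 583940)) (.node (.leaf 5516) (.leaf 846092))) (.node (.node (.leaf 190724) (.leaf 715012)) (.node (.leaf 452871) (.leaf 977165)))) (.node (.node (.node (.leaf 125196) (.leaf 649476)) (.node (.leaf 387328) (.leaf 911619))) (.node (.node (.leaf 256261) (.leaf 780545)) (.node (.leaf 5896) (.leaf 313734))))))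
def dP_206 : BT := .node (.node (.node (.node (.node (.node (.node (.leaf 9476) (.leaf 1058048)) (.leaf 533761)) (.node (.leaf 271616) (.leaf 795904))) (.node (.node (.leaf 140544) (.leaf 664836)) (.node (.leaf 54424) (.leaf 926977)))) (.node (.node (.node (.leaf 75008) (.leaf 599300)) (.node (.leaf 337153) (.leaf 440583))) (.node (.node (.leaf 206093) (.leaf 730373)) (.node (.leaf 468236) (.leaf 992517))))) (.node (.node (.node (.node (.leaf 42244) (.leaf 38914)) (.node (.leaf 304393) (.leaf 828677))) (.node (.node (.leaf 173317) (.leaf 697613)) (.node (.leaf 434690) (.leaf 959748)))) (.node (.node (.node (.leaf 107776) (.leaf 575500)) (.node (.leaf 369924) (.leaf 894213))) (.node (.node (.leaf 238852) (.leaf 763149)) (.node (.leaf 501002) (.leaf 1025280)))))) (.node (.node (.node (.node (.node (.leaf 25869) (.leaf 304394)) (.node (.leaf 288005) (.leaf 812288))) (.node (.node (.leaf 156941) (.leaf 681217)) (.node (.leaf 4891) (.leaf 943373)))) (.node (.node (.node (.leaf 91396) (.leaf 615681)) (.node (.leaf 353541) (.leaf 877827))) (.node (.node (.leaf 222471)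 (.leaf 662789)) (.node (.leaf 481412) (.leaf 1008900))))) (.node (.node (.node (.node (.leaf 58637) (.leaf 582916)) (.node (.leaf 320781) (.leaf 845063))) (.node (.node (.leaf 189700) (.leaf 713988)) (.node (.leaf 451850) (.leaf 976140)))) (.node (.node (.node (.leaf 40586) (.leaf 648453)) (.node (.leaf 386307) (.leaf 910605))) (.node (.node (.leaf 255237) (.leaf 779521)) (.node (.leaf 5647) (.leaf 1041667))))))
def dP_213 : BT := .node (.node (.node (.node (.node (.node (.node (.leaf 11525) (.leaf 1021962)) (.leaf 535809)) (.node (.leaf 273664) (.leaf 797952))) (.node (.node (.leaf 142596) (.leaf 561162)) (.node (.leaf 403330) (.leaf 929028)))) (.node (.node (.node (.leaf 77066) (.leaf 601348)) (.node (.leaf 339200) (.leaf 863493))) (.node (.node (.leaf 208133) (.leaf 732416)) (.node (.leaf 470276) (.leaf 313100))))) (.node (.node (.node (.node (.leaf 44292) (.leaf 568577)) (.node (.leaf 306432) (.leaf 830721))) (.node (.node (.leaf 175365) (.leaf 699660)) (.node (.leaf 113674) (.leaf 961797)))) (.node (.node (.node (.leaf 109828) (.leaf 634117)) (.node (.leaf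 359050) (.leaf 896261))) (.node (.node (.leaf 240900) (.leaf 765184)) (.node (.leaf 503049) (.leaf 1027333)))))) (.node (.node (.node (.node (.node (.leaf 27916) (.leaf 552074)) (.node (.leaf 290053) (.leaf 814341))) (.node (.node (.leaf 28424) (.leaf 683268)) (.node (.leaf 92298) (.leaf 945420)))) (.node (.node (.node (.leaf 93444) (.leaf 617733)) (.node (.leaf 355588) (.leaf 879876))) (.node (.node (.leaf 224524) (.leaf 748805)) (.node (.leaf 486656) (.leaf 1010949))))) (.node (.node (.node (.node (.leaf 60673) (.leaf 584964)) (.node (.leaf 322829) (.leaf 771722))) (.node (.node (.leaf 191749) (.leaf 716036)) (.node (.leaf 451716) (.leaf 978188)))) (.node (.node (.node (.leaf 126221) (.leaf 650500)) (.node (.leaf 113176) (.leaf 594304))) (.node (.node (.leaf 257284) (.leaf 781573)) (.node (.leaf 519303) (.leaf 1043716))))))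
def dP_222 : BT := .node (.node (.node (.node (.node (.node (.node (.leaf 8965) (.leaf 739466)) (.leaf 533251)) (.node (.leaf 271105) (.leaf 795396))) (.node (.node (.leaf 140033) (.leaf 664333)) (.node (.leaf 402050) (.leaf 926464)))) (.node (.node (.node (.leaf 74497) (.leaf 598788)) (.node (.leaf 336640) (.leaf 860932))) (.node (.node (.leaf 205068) (.leaf 729860)) (.node (.leaf 467723) (.leaf 992004))))) (.node (.node (.node (.node (.leaf 41733) (.leaf 566025)) (.node (.leaf 303872) (.leaf 728324))) (.node (.node (.leaf 28296) (.leaf 697100)) (.node (.leaf 434952) (.leaf 903557)))) (.node (.node (.node (.leaf 107265) (.leaf 631564)) (.node (.leaf 369413) (.leaf 893700))) (.node (.node (.leaf 238212) (.leaf 762636)) (.node (.leaf 500488) (.leaf 1024769)))))) (.node (.node (.node (.node (.node (.leaf 1804) (.leaf 549644)) (.node (.leaf 287492) (.leaf 811777))) (.node (.node (.leaf 156429) (.leaf 680704)) (.node (.leaf 54554) (.leaf 888322)))) (.node (.node (.node (.leaf 90885) (.leaf 615171)) (.node (.leaf 353028) (.leaf 833930))) (.node (.node (.leaf 3338) (.leaf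 746252)) (.node (.leaf 466048) (.leaf 1008389))))) (.node (.node (.node (.node (.leaf 57612) (.leaf 582405)) (.node (.leaf 320268) (.leaf 844549))) (.node (.node (.leaf 189189) (.leaf 713476)) (.node (.leaf 5248) (.leaf 975629)))) (.node (.node (.node (.leaf 40576) (.leaf 647940)) (.node (.leaf 367880) (.leaf 910081))) (.node (.node (.leaf 254724) (.leaf 779008)) (.node (.leaf 114200) (.leaf 315788))))))
def dP_229 : BT := .node (.node (.node (.node (.node (.node (.node (.leaf 11012) (.leaf 962826)) (.leaf 518400)) (.node (.leaf 273153) (.leaf 797441))) (.node (.node (.leaf 142085) (.leaf 559616)) (.node (.leaf 390922) (.leaf 928517)))) (.node (.node (.node (.leaf 21384) (.leaf 600845)) (.node (.leaf 338688) (.leaf 862980))) (.node (.node (.leaf 207620) (.leaf 731905)) (.node (.leaf 469765) (.leaf 994052))))) (.node (.node (.node (.node (.leaf 43781) (.leaf 568064)) (.node (.leaf 305921) (.leaf 830208))) (.node (.node (.leaf 174852) (.leaf 699148)) (.node (.leaf 434954) (.leaf 961284)))) (.node (.node (.node (.leaf 109317) (.leaf 633604)) (.node (.leaf 4612) (.leaf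 895748))) (.node (.node (.leaf 240389) (.leaf 764676)) (.node (.leaf 502528) (.leaf 1026820)))))) (.node (.node (.node (.node (.node (.leaf 27404) (.leaf 266880)) (.node (.leaf 289540) (.leaf 813828))) (.node (.node (.leaf 158477) (.leaf 682757)) (.node (.leaf 420618) (.leaf 944908)))) (.node (.node (.node (.leaf 92933) (.leaf 617092)) (.node (.leaf 355077) (.leaf 879365))) (.node (.node (.leaf 224013) (.leaf 748292)) (.node (.leaf 486145) (.leaf 1010436))))) (.node (.node (.node (.node (.leaf 60160) (.leaf 584453)) (.node (.leaf 322317) (.leaf 147080))) (.node (.node (.leaf 191237) (.leaf 715525)) (.node (.leaf 436736) (.leaf 977671)))) (.node (.node (.node (.leaf 125709) (.leaf 649989)) (.node (.leaf 387841) (.leaf 912132))) (.node (.node (.leaf 27524) (.leaf 781060)) (.node (.leaf 518920) (.leaf 979456))))))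
def dP_237 : BT := .node (.node (.node (.node (.node (.node (.node (.leaf 9989) (.leaf 861194)) (.leaf 534272)) (.node (.leaf 272129) (.leaf 796417))) (.node (.node (.leaf 141057) (.leaf 665349)) (.node (.leaf 4868) (.leaf 927488)))) (.node (.node (.node (.leaf 75521) (.leaf 599813)) (.node (.leaf 337664) (.leaf 861953))) (.node (.node (.leaf 32768) (.leaf 730884)) (.node (.leaf 92682) (.leaf 993028))))) (.node (.node (.node (.node (.leaf 42757) (.leaf 566912)) (.node (.leaf 53642) (.leaf 829188))) (.node (.node (.leaf 173828) (.leaf 667269)) (.node (.leaf 434698) (.leaf 761857)))) (.node (.node (.node (.leaf 108301) (.leaf 632580)) (.node (.leaf 54170) (.leaf 894724))) (.node (.node (.leaf 239365) (.leaf 581508)) (.node (.leaf 501514) (.leaf 1025793)))))) (.node (.node (.node (.node (.node (.leaf 26381) (.leaf 269060)) (.node (.leaf 288516) (.leaf 812801))) (.node (.node (.leaf 157452) (.leaf 681733)) (.node (.leaf 419594) (.leaf 943885)))) (.node (.node (.node (.leaf 91909) (.leaf 616192)) (.node (.leaf 354053) (.leaf 878337))) (.node (.node (.leaf 222985) (.leaf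 747268)) (.node (.leaf 55176) (.leaf 1009413))))) (.node (.node (.node (.node (.leaf 59139) (.leaf 583429)) (.node (.leaf 321293) (.leaf 845580))) (.node (.node (.leaf 190213) (.leaf 714501)) (.node (.leaf 451462) (.leaf 976652)))) (.node (.node (.node (.leaf 48394) (.leaf 648964)) (.node (.leaf 386817) (.leaf 571018))) (.node (.node (.leaf 255748) (.leaf 780032)) (.node (.leaf 517762) (.leaf 1042180))))))
def dP_244 : BT := .node (.node (.node (.node (.node (.node (.node (.leaf 12036) (.leaf 1051020)) (.leaf 536320)) (.node (.leaf 274177) (.leaf 798465))) (.node (.node (.leaf 143109) (.leaf 667264)) (.node (.leaf 405252) (.leaf 929539)))) (.node (.node (.node (.leaf 77572) (.leaf 601861)) (.node (.leaf 339713) (.leaf 864004))) (.node (.node (.leaf 208644) (.leaf 732929)) (.node (.leaf 470789) (.leaf 995084))))) (.node (.node (.node (.node (.leaf 28938) (.leaf 569088)) (.node (.leaf 306945) (.leaf 831237))) (.node (.node (.leaf 175877) (.leaf 182156)) (.node (.leaf 437898) (.leaf 962308)))) (.node (.node (.node (.leaf 1807) (.leaf 634628)) (.node (.leaf 371590)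 (.leaf 896768))) (.node (.node (.leaf 241413) (.leaf 765697)) (.node (.leaf 503556) (.leaf 1027844)))))) (.node (.node (.node (.node (.node (.leaf 28429) (.leaf 552708)) (.node (.leaf 264964) (.leaf 814852))) (.node (.node (.leaf 159500) (.leaf 683781)) (.node (.leaf 403968) (.leaf 945933)))) (.node (.node (.node (.leaf 93957) (.leaf 618244)) (.node (.leaf 112920) (.leaf 880387))) (.node (.node (.leaf 225037) (.leaf 749316)) (.node (.leaf 487169) (.leaf 1011460))))) (.node (.node (.node (.node (.leaf 16024) (.leaf 585477)) (.node (.leaf 322957) (.leaf 847624))) (.node (.node (.leaf 192260) (.leaf 716549)) (.node (.leaf 54922) (.leaf 978692)))) (.node (.node (.node (.leaf 126733) (.leaf 651011)) (.node (.leaf 4633) (.leaf 861187))) (.node (.node (.leaf 257797) (.leaf 782084)) (.node (.leaf 55554) (.leaf 1044227))))))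
def dJ0 : List (List ℕ) := [[1, 0], [1, 0], [1, 0], [1, 0], [1, 0], [1, 0], [0, 0], [0, 0], [0, 0], [249, 3, 12, 14, 16], [251, 1, 18, 1, 19], [253, 1, 18, 3, 19], [255, 1, 18, 5, 19], [257, 1, 18, 7, 19], [261, 1, 18, 11, 19], [0, 0], [263, 2, 13, 19, 30], [0, 0], [0, 0], [0, 0], [265, 4, 12, 34, 36, 38], [267, 2, 40, 1, 41, 39], [20, 0, 41, 43], [280, 1, 36, 44, 12], [0, 0], [0, 0], [0, 0], [281, 4, 12, 48, 50, 52], [285, 2, 54, 3, 55, 53], [22, 0, 55, 57], [296, 1, 50, 58, 12], [0, 0], [0, 0], [0, 0], [297, 4, 12, 62, 64, 66], [299, 1, 68, 1, 69], [301, 1, 68, 3, 69], [303, 1, 68, 5, 69], [305, 2, 68, 7, 69, 67], [3, 0, 76, 71, 77], [5, 0, 76, 73, 77], [7, 0, 76, 75, 77], [9, 0, 66, 77], [24, 0, 69, 77], [307, 1, 86, 9, 87], [309, 1, 86, 11, 87], [312, 1, 64, 86, 12], [0, 0], [0, 0], [0, 0], [313, 4, 12, 94, 96, 98], [315, 1, 100, 1, 101], [317, 1, 100, 3, 101], [319, 1, 100, 5, 101], [321, 1, 100, 7, 101], [323, 1, 100, 9, 101], [325, 2, 100, 11, 101, 99], [3, 0, 112, 103, 113], [5, 0, 112, 105, 113], [7, 0, 112, 107, 113], [9, 0, 112, 109, 113], [11, 0, 112,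 111, 113], [13, 0, 98, 113], [26, 0, 101, 113], [328, 1, 96, 126, 12], [0, 0], [0, 0], [0, 0], [0, 0], [0, 0], [0, 0], [0, 0], [0, 0], [0, 0], [0, 0], [0, 0], [0, 0], [0, 0], [0, 0], [0, 0], [0, 0], [0, 0], [0, 0], [0, 0], [0, 0], [0, 0], [0, 0], [0, 0], [0, 0], [0, 0], [0, 0], [0, 0], [0, 0], [0, 0], [0, 0], [0, 0], [0, 0], [329, 34, 12, 14, 130, 132, 134, 136, 138, 140, 142, 144, 146, 148, 150, 152, 154, 156, 158, 160, 162, 164, 166, 168, 170, 172, 174, 176, 178, 180, 182, 184, 186, 188, 190, 192], [331, 1, 194, 1, 195], [333, 1, 194, 3, 195], [335, 1, 194, 5, 195], [337, 1, 194, 7, 195], [344, 1, 192, 194, 12], [0, 0], [0, 0], [0, 0], [0, 0], [0, 0], [0, 0], [0, 0], [0, 0], [0, 0], [0, 0], [0, 0], [0, 0], [0, 0], [0, 0], [0, 0], [0, 0], [0, 0], [0, 0], [0, 0], [0, 0], [0, 0], [0, 0], [0, 0], [0, 0], [0, 0], [0, 0], [0, 0], [0, 0], [0, 0], [0, 0], [0, 0], [0, 0], [345, 46, 4, 1, 4, 12, 206, 208, 210, 212, 214, 216, 218, 220, 222, 224, 226, 228, 230, 232, 234, 236, 238, 240, 242, 243, 241, 239, 244, 246, 248, 250, 251, 249, 247, 245, 238, 240, 242, 252, 254, 256,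 258, 260, 262, 264, 266, 268], [347, 1, 270, 1, 271], [349, 1, 270, 3, 271], [351, 1, 270, 5, 271], [353, 1, 270, 7, 271], [360, 1, 268, 270, 12], [0, 0], [0, 0], [0, 0], [0, 0], [0, 0], [0, 0], [0, 0], [0, 0], [0, 0], [0, 0], [0, 0], [0, 0], [0, 0], [0, 0], [0, 0], [0, 0], [0, 0], [0, 0], [0, 0], [0, 0], [0, 0], [0, 0], [0, 0], [0, 0], [0, 0], [0, 0], [0, 0], [0, 0], [0, 0], [0, 0], [0, 0], [0, 0], [0, 0], [0, 0], [0, 0], [0, 0], [0, 0], [0, 0], [0, 0], [0, 0], [0, 0], [0, 0], [0, 0], [361, 46, 4, 12, 206, 282, 284, 286, 288, 290, 292, 294, 296, 298, 300, 302, 304, 306, 308, 310, 312, 314, 316, 318, 320, 322, 324, 326, 328, 330, 332, 334, 336, 338, 340, 342, 344, 346, 348, 350, 352, 354, 356, 358, 360, 362, 364, 366], [363, 1, 368, 1, 369], [367, 2, 368, 5, 369, 367], [3, 0, 372, 370, 373, 365], [8, 0, 374, 366, 373, 375, 363], [2, 0, 376, 374, 372], [32, 0, 369, 378], [376, 1, 360, 380, 12], [434, 0, 380], [16, 0, 360, 385, 12], [32, 0, 381, 385], [7, 0, 358, 387, 206], [32, 0, 382, 387], [4, 0, 356, 391, 208], [7, 0, 354, 395, 210], [16, 0, 352, 397, 212]]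
def dJ4 : List (List ℕ) := [[78, 1, 1596, 1598], [174, 1, 1598, 921, 1581], [241, 1, 1598, 922, 771, 946], [277, 2, 1598, 1229, 1599], [293, 2, 1598, 1071, 1599], [373, 2, 1598, 927, 1599], [319, 2, 916, 950, 1604], [326, 1, 1596, 1612, 1581], [320, 1, 745, 783, 1594], [0, 0], [0, 0], [247, 5, 930, 916, 767, 94, 776, 1594, 1618, 1620], [78, 1, 1620, 1622], [173, 2, 1622, 936, 1589], [242, 3, 1622, 936, 941, 966], [246, 5, 1620, 1622, 936, 943, 207, 94, 776], [277, 2, 1622, 1299, 1623], [293, 2, 1622, 1143, 1623], [373, 2, 1622, 935, 1623], [319, 0, 207, 783, 1630], [320, 3, 1591, 781, 1630], [325, 0, 1621, 1640, 1588], [0, 0], [255, 2, 745, 33, 1644], [0, 0], [257, 2, 63, 33, 1648], [253, 1, 1650, 1033, 1651], [263, 1, 1650, 64, 603], [381, 1, 1650, 93, 33], [0, 0], [259, 2, 767, 33, 1658], [0, 0], [261, 2, 95, 33, 1662], [263, 1, 1664, 96, 611], [383, 1, 1664, 129, 33], [0, 0], [263, 2, 15, 33, 1670], [0, 0], [297, 2, 753, 93, 14, 1674], [265, 1, 1676, 1319, 1311, 1677], [279, 2, 1676, 1310, 1677], [281, 1, 1676, 1037, 1039, 1677], [295, 2, 1676, 1038, 1677],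 [311, 2, 1676, 758, 14], [375, 2, 1676, 761, 1677], [0, 0], [309, 2, 95, 92, 1690], [311, 1, 1692, 96, 675], [413, 1, 1692, 129, 92], [322, 2, 129, 62, 1696], [0, 0], [311, 2, 15, 92, 1700], [297, 3, 1702, 16, 26, 17], [299, 1, 1702, 1292, 1703], [301, 1, 1702, 1136, 1703], [312, 2, 1702, 16, 600], [393, 2, 1702, 1291, 1703], [403, 2, 1702, 1135, 1703], [419, 1, 1702, 447, 1703], [62, 1, 1675, 1704], [305, 0, 1719, 1702, 1704], [0, 0], [313, 2, 777, 129, 14, 1722], [265, 1, 1724, 1189, 1191, 1725], [279, 2, 1724, 1190, 1725], [295, 2, 1724, 1150, 1725], [327, 2, 1724, 782, 14], [375, 2, 1724, 785, 1725], [0, 0], [327, 2, 15, 128, 1736], [313, 3, 1738, 16, 28, 17], [315, 1, 1738, 1292, 1739], [328, 2, 1738, 16, 608], [395, 2, 1738, 1291, 1739], [405, 2, 1738, 1135, 1739], [425, 1, 1738, 447, 1739], [78, 1, 1723, 1740], [325, 0, 1753, 1738, 1740], [0, 0], [0, 0], [0, 0], [0, 0], [0, 0], [0, 0], [0, 0], [0, 0], [0, 0], [0, 0], [0, 0], [0, 0], [0, 0], [0, 0], [0, 0], [0, 0], [0, 0], [0, 0], [0, 0], [0, 0], [0, 0], [0, 0], [0, 0], [0, 0], [0, 0], [0, 0], [0, 0], [329,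 33, 205, 14, 16, 24, 21, 24, 30, 1756, 1758, 1760, 1762, 1764, 1766, 1768, 1770, 1772, 1774, 1776, 1778, 1780, 1782, 1784, 1786, 1788, 1790, 1792, 1794, 1796, 1798, 1800, 1802, 1804, 1806, 1808], [250, 1, 1810, 192, 621], [281, 1, 1810, 1473, 1077, 1811], [344, 1, 1810, 205, 14], [375, 2, 1810, 450, 1811], [368, 1, 1808, 1818, 1809], [364, 3, 1806, 1820, 1807], [368, 1, 1804, 1822, 1805], [375, 2, 1802, 1824, 1803], [367, 0, 1800, 1826, 1801], [363, 2, 1798, 1828, 1799], [367, 0, 1796, 1830, 1797], [376, 3, 1794, 1832, 1795], [368, 1, 1792, 1834, 1793], [364, 3, 1790, 1836, 1791], [368, 1, 1788, 1838, 1789], [376, 3, 1786, 1840, 1787], [367, 0, 1784, 1842, 1785], [363, 2, 1782, 1844, 1783], [367, 0, 1780, 1846, 1781], [375, 2, 1778, 1848, 1779], [368, 1, 1776, 1850, 1777], [364, 3, 1774, 1852, 1775], [368, 1, 1772, 1854, 1773], [375, 2, 1770, 1856, 1771], [367, 0, 1768, 1858, 1769], [363, 2, 1766, 1860, 1767], [367, 0, 1764, 1862, 1765], [335, 2, 131, 1816, 1809], [331, 0, 1806, 1866, 132], [397, 2, 1866, 1288, 1867], [407, 2, 1866, 1132, 1867], [283, 0, 1806,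 1872, 1807], [287, 2, 1804, 1874, 1805], [296, 1, 1802, 1876, 1803], [288, 3, 1800, 1878, 1801], [284, 1, 1798, 1880, 1799], [288, 3, 1796, 1882, 1797], [295, 0, 1794, 1884, 1795], [287, 2, 1792, 1886, 1793], [283, 0, 1790, 1888, 1791], [287, 2, 1788, 1890, 1789], [295, 0, 1786, 1892, 1787], [288, 3, 1784, 1894, 1785], [284, 1, 1782, 1896, 1783], [288, 3, 1780, 1898, 1781], [296, 1, 1778, 1900, 1779], [287, 2, 1776, 1902, 1777], [283, 0, 1774, 1904, 1775], [287, 2, 1772, 1906, 1773], [296, 1, 1770, 1908, 1771], [288, 3, 1768, 1910, 1769], [284, 1, 1766, 1912, 1767], [288, 3, 1764, 1914, 1765], [296, 1, 1762, 1916, 1763], [287, 2, 1760, 1918, 1761], [267, 0, 1806, 1870, 1807], [271, 2, 1804, 1922, 1805], [280, 1, 1802, 1924, 1803], [272, 3, 1800, 1926, 1801], [268, 1, 1798, 1928, 1799], [272, 3, 1796, 1930, 1797], [279, 0, 1794, 1932, 1795], [271, 2, 1792, 1934, 1793], [267, 0, 1790, 1936, 1791], [271, 2, 1788, 1938, 1789], [279, 0, 1786, 1940, 1787], [272, 3, 1784, 1942, 1785], [268, 1, 1782, 1944, 1783], [272, 3, 1780, 1946, 1781], [280, 1, 1778, 1948, 1779],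 [271, 2, 1776, 1950, 1777], [267, 0, 1774, 1952, 1775], [271, 2, 1772, 1954, 1773], [280, 1, 1770, 1956, 1771], [272, 3, 1768, 1958, 1769], [268, 1, 1766, 1960, 1767], [272, 3, 1764, 1962, 1765], [280, 1, 1762, 1964, 1763], [271, 2, 1760, 1966, 1761], [335, 2, 135, 1868, 1805], [344, 1, 1802, 1970, 136], [336, 3, 139, 1972, 1801], [332, 1, 1798, 1974, 140], [336, 3, 143, 1976, 1797], [343, 0, 1794, 1978, 144], [335, 2, 147, 1980, 1793], [331, 0, 1790, 1982, 148], [335, 2, 151, 1984, 1789], [343, 0, 1786, 1986, 152], [336, 3, 155, 1988, 1785], [332, 1, 1782, 1990, 156], [336, 3, 159, 1992, 1781], [54, 1, 1645, 1756], [256, 3, 207, 33, 1756]]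
def dJ8 : List (List ℕ) := [[0, 0], [0, 0], [0, 0], [0, 0], [0, 0], [0, 0], [0, 0], [0, 0], [0, 0], [0, 0], [0, 0], [361, 18, 3119, 3117, 3115, 3113, 3103, 3101, 3099, 3097, 3095, 3093, 3091, 3089, 3087, 3085, 3083, 3081, 3079, 3077, 3075, 3073, 143, 141, 139, 137, 135, 133, 131, 447, 130, 3188, 3190, 3192, 3194, 3196, 3198, 3200, 3202, 3204, 3206, 3208, 3210, 3212, 3214, 3216, 3218, 3220], [360, 1, 3222, 2483, 1670], [46, 1, 3194, 3196], [297, 1, 3189, 2548, 2561, 3188], [0, 0], [381, 2, 1702, 1673, 3230], [258, 2, 3232, 1705, 1673], [0, 0], [385, 2, 1817, 1673, 3236], [249, 2, 3238, 1813, 2480], [0, 0], [413, 2, 1738, 1703, 3242], [297, 3, 3244, 1745, 616, 1744], [310, 2, 3244, 1741, 1703], [311, 1, 3244, 1737, 1693], [309, 0, 2874, 1721, 3248], [0, 0], [415, 2, 1817, 1703, 3254], [297, 3, 3256, 1813, 626, 1812], [311, 1, 3256, 1810, 2016], [419, 1, 3256, 1818, 3257], [62, 1, 3061, 3258], [0, 0], [417, 2, 2107, 1703, 3266], [297, 3, 3268, 2101, 636, 2100], [311, 1, 3268, 2098, 2324], [419, 1, 3268, 2108, 3269], [0, 0], [421, 2, 1817, 1739, 3276], [327, 1, 3278,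 1810, 2028], [425, 1, 3278, 1818, 3279], [0, 0], [423, 2, 2107, 1739, 3284], [327, 1, 3286, 2098, 2334], [425, 1, 3286, 2108, 3287], [0, 0], [427, 2, 2107, 1816, 3292], [331, 1, 3294, 2103, 3295], [343, 1, 3294, 2098, 2491], [0, 0], [333, 3, 3301, 1137, 3300], [343, 3, 2499, 14, 3300], [0, 0], [359, 3, 2503, 14, 3306], [0, 0], [263, 2, 31, 2855, 3310], [0, 0], [0, 0], [0, 0], [0, 0], [0, 0], [0, 0], [0, 0], [0, 0], [0, 0], [0, 0], [0, 0], [0, 0], [0, 0], [0, 0], [0, 0], [0, 0], [0, 0], [0, 0], [0, 0], [0, 0], [0, 0], [0, 0], [0, 0], [0, 0], [0, 0], [0, 0], [0, 0], [0, 0], [0, 0], [329, 32, 2481, 619, 30, 1670, 2836, 3314, 3316, 3318, 3320, 3322, 3324, 3326, 3328, 3330, 3332, 3334, 3336, 3338, 3340, 3342, 3344, 3346, 3348, 3350, 3352, 3354, 3356, 3358, 3360, 3362, 3364, 3366, 3368, 3370], [54, 2, 3372, 2927], [256, 1, 3372, 2478, 191], [336, 1, 3372, 2477, 1644], [332, 3, 2877, 3378, 3371], [336, 1, 3368, 3380, 2878], [386, 1, 3380, 3046, 2294], [397, 2, 3380, 3028, 3381], [407, 2, 3380, 2982, 3381], [288, 1, 3368, 3388, 3369], [295, 2, 3366, 3390, 3367], [287,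 0, 3364, 3392, 3365], [283, 2, 3362, 3394, 3363], [272, 1, 3368, 3386, 3369], [279, 2, 3366, 3398, 3367], [271, 0, 3364, 3400, 3365], [267, 2, 3362, 3402, 3363], [271, 0, 3360, 3404, 3361], [280, 3, 3358, 3406, 3359], [272, 1, 3356, 3408, 3357], [268, 3, 3354, 3410, 3355], [272, 1, 3352, 3412, 3353], [280, 3, 3350, 3414, 3351], [271, 0, 3348, 3416, 3349], [267, 2, 3346, 3418, 3347], [271, 0, 3344, 3420, 3345], [279, 2, 3342, 3422, 3343], [272, 1, 3340, 3424, 3341], [268, 3, 3338, 3426, 3339], [272, 1, 3336, 3428, 3337], [279, 2, 3334, 3430, 3335], [271, 0, 3332, 3432, 3333], [267, 2, 3330, 3434, 3331], [271, 0, 3328, 3436, 3329], [279, 2, 3326, 3438, 3327], [272, 1, 3324, 3440, 3325], [268, 3, 3322, 3442, 3323], [272, 1, 3320, 3444, 3321], [280, 3, 3318, 3446, 3319], [271, 0, 3316, 3448, 3317], [255, 2, 186, 3384, 3369], [264, 1, 3366, 3452, 185], [256, 3, 182, 3454, 3365], [386, 2, 3050, 2310, 3454], [335, 0, 3364, 3458, 2882], [331, 2, 2885, 3460, 3363], [335, 0, 3360, 3462, 2886], [386, 1, 3462, 3054, 2314], [256, 3, 178, 3466, 3361], [263, 0, 3358, 3468, 177],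 [255, 2, 174, 3470, 3357], [251, 0, 3354, 3472, 173], [255, 2, 170, 3474, 3353], [263, 0, 3350, 3476, 169], [256, 3, 166, 3478, 3349], [252, 1, 3346, 3480, 165], [256, 3, 162, 3482, 3345], [264, 1, 3342, 3484, 161], [255, 2, 158, 3486, 3341], [251, 0, 3338, 3488, 157], [255, 2, 154, 3490, 3337], [264, 1, 3334, 3492, 153], [256, 3, 150, 3494, 3333], [252, 1, 3330, 3496, 149], [256, 3, 146, 3498, 3329], [249, 2, 3500, 145, 3072], [264, 1, 3326, 3500, 145], [255, 2, 142, 3504, 3325], [251, 0, 3322, 3506, 141], [255, 2, 138, 3508, 3321], [263, 0, 3318, 3510, 137], [256, 3, 134, 3512, 3317], [344, 3, 2889, 3464, 3359], [336, 1, 3356, 3516, 2890], [332, 3, 2893, 3518, 3355], [336, 1, 3352, 3520, 2894], [344, 3, 2897, 3522, 3351], [335, 0, 3348, 3524, 2898], [331, 2, 2901, 3526, 3347], [335, 0, 3344, 3528, 2902], [0, 0], [0, 0], [0, 0], [0, 0], [0, 0], [0, 0], [0, 0], [0, 0], [0, 0], [0, 0], [0, 0], [0, 0], [0, 0], [0, 0], [0, 0], [0, 0], [0, 0], [0, 0], [0, 0], [0, 0], [0, 0], [0, 0], [0, 0], [0, 0], [0, 0], [0, 0], [0, 0], [345, 44, 2487, 629, 24, 21, 24, 30, 1756,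 1758, 1760, 3532, 3534, 3536, 3538, 3540, 3542, 3544, 3546, 3548, 3550, 3552, 3554, 3556, 3558, 3560, 3562, 3563, 3561, 3559, 3564, 3566, 3568, 3570, 3571, 3569, 3567, 3565, 3558, 3560, 3562, 3572, 3574, 3576, 3578, 3580, 3582, 3584], [54, 2, 3586, 3119], [256, 1, 3586, 2484, 267], [352, 1, 3586, 2483, 1644], [348, 3, 2877, 3592, 3585], [352, 1, 3582, 3594, 2878], [388, 1, 3594, 3046, 2296]]
def dJ12 : List (List ℕ) := [[272, 1, 4650, 4798, 4651], [280, 3, 4648, 4800, 4649], [271, 0, 4646, 4802, 4647], [267, 2, 4644, 4804, 4645], [271, 0, 4642, 4806, 4643], [279, 2, 4640, 4808, 4641], [272, 1, 4638, 4810, 4639], [268, 3, 4636, 4812, 4637], [272, 1, 4634, 4814, 4635], [279, 2, 4632, 4816, 4633], [271, 0, 4630, 4818, 4631], [267, 2, 4628, 4820, 4629], [271, 0, 4626, 4822, 4627], [279, 2, 4624, 4824, 4625], [272, 1, 4622, 4826, 4623], [311, 2, 1802, 4732, 4665], [303, 0, 4662, 4830, 1801], [299, 2, 1798, 4832, 4661], [303, 0, 4658, 4834, 1797], [312, 3, 1794, 4836, 4657], [304, 1, 4654, 4838, 1793], [300, 3, 1790, 4840, 4653], [304, 1, 4650, 4842, 1789], [312, 3,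 1786, 4844, 4649], [303, 0, 4646, 4846, 1785], [299, 2, 1782, 4848, 4645], [303, 0, 4642, 4850, 1781], [311, 2, 1778, 4852, 4641], [304, 1, 4638, 4854, 1777], [300, 3, 1774, 4856, 4637], [304, 1, 4634, 4858, 1773], [311, 2, 1770, 4860, 4633], [303, 0, 4630, 4862, 1769], [299, 2, 1766, 4864, 4629], [303, 0, 4626, 4866, 1765], [298, 1, 1763, 2006, 1762, 4868], [311, 2, 1762, 4868, 4625], [305, 1, 4872, 2006, 4873], [126, 2, 4622, 4874, 4623], [126, 2, 4627, 4870, 1764], [86, 0, 1806, 4674, 4669], [202, 1, 1806, 4672, 4669, 4880], [113, 3, 4880, 4882, 4881], [217, 1, 1804, 4881, 4884, 4667], [282, 3, 4664, 4738, 4886, 1803], [125, 1, 4666, 4884, 4667], [114, 2, 4887, 4890, 4886], [298, 3, 1802, 4732, 4890, 4665], [126, 0, 4662, 4894, 1801], [338, 0, 1971, 4892, 1970], [125, 3, 134, 4898, 135], [354, 2, 2268, 4898, 2269], [126, 0, 2093, 4902, 2092], [257, 1, 4276, 4902, 4277], [85, 1, 1759, 3910, 4620], [217, 3, 4875, 4623, 4908, 1760], [282, 1, 1763, 4910, 4624, 4778], [0, 0], [335, 2, 880, 2013, 4914], [333, 1, 4916, 1482, 748], [337, 1, 4916, 879, 748], [397, 2,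 4916, 1223, 4917], [416, 1, 4916, 883, 748], [0, 0], [337, 2, 753, 2013, 4926], [344, 2, 4928, 1677, 3063], [0, 0], [339, 2, 1515, 2013, 4932], [0, 0], [341, 2, 1691, 2013, 4936], [337, 1, 4938, 1698, 2025], [0, 0], [0, 0], [0, 0], [0, 0], [0, 0], [0, 0], [0, 0], [0, 0], [0, 0], [0, 0], [0, 0], [0, 0], [0, 0], [0, 0], [0, 0], [0, 0], [0, 0], [0, 0], [0, 0], [0, 0], [0, 0], [0, 0], [0, 0], [0, 0], [0, 0], [0, 0], [0, 0], [0, 0], [0, 0], [0, 0], [0, 0], [0, 0], [0, 0], [345, 44, 3273, 2320, 881, 4942, 4944, 4946, 4948, 4950, 4952, 4954, 4956, 4958, 4960, 4962, 4964, 4966, 4968, 4970, 4972, 4974, 4976, 4978, 4980, 4982, 4984, 4985, 4983, 4981, 4986, 4988, 4990, 4992, 4993, 4991, 4989, 4987, 4980, 4982, 4984, 4994, 4996, 4998, 5000, 5002, 5004, 5006], [218, 3, 5008, 3271, 2104, 2097], [304, 1, 5008, 3268, 2097], [352, 1, 5008, 3267, 2547], [367, 2, 5008, 3274, 5009], [363, 0, 5006, 5016, 5007], [367, 2, 5004, 5018, 5005], [376, 1, 5002, 5020, 5003], [368, 3, 5000, 5022, 5001], [364, 1, 4998, 5024, 4999], [368, 3, 4996, 5026, 4997], [375, 0, 4994, 5028, 4995], [367,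 2, 4984, 5030, 4985], [363, 0, 4982, 5032, 4983], [367, 2, 4980, 5034, 4981], [376, 1, 4978, 5036, 4979], [368, 3, 4976, 5038, 4977], [364, 1, 4974, 5040, 4975], [368, 3, 4972, 5042, 4973], [376, 1, 4970, 5044, 4971], [367, 2, 4968, 5046, 4969], [363, 0, 4966, 5048, 4967], [367, 2, 4964, 5050, 4965], [375, 0, 4962, 5052, 4963], [368, 3, 4960, 5054, 4961], [364, 1, 4958, 5056, 4959], [368, 3, 4956, 5058, 4957], [375, 0, 4954, 5060, 4955], [367, 2, 4952, 5062, 4953], [363, 0, 4950, 5064, 4951], [367, 2, 4948, 5066, 4949], [375, 0, 4946, 5068, 4947], [368, 3, 4944, 5070, 4945], [300, 3, 2094, 5012, 5007], [304, 1, 5004, 5074, 2093], [305, 1, 5074, 4905, 5075], [393, 2, 5074, 2214, 5075], [403, 2, 5074, 2158, 5075], [288, 1, 5004, 5082, 5005], [295, 2, 5002, 5084, 5003], [287, 0, 5000, 5086, 5001], [283, 2, 4998, 5088, 4999], [287, 0, 4996, 5090, 4997], [296, 3, 4994, 5092, 4995], [288, 1, 4984, 5094, 4985], [284, 3, 4982, 5096, 4983], [288, 1, 4980, 5098, 4981], [295, 2, 4978, 5100, 4979], [287, 0, 4976, 5102, 4977], [283, 2, 4974, 5104, 4975], [287, 0, 4972, 5106,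 4973], [295, 2, 4970, 5108, 4971], [288, 1, 4968, 5110, 4969], [284, 3, 4966, 5112, 4967], [288, 1, 4964, 5114, 4965], [296, 3, 4962, 5116, 4963], [287, 0, 4960, 5118, 4961], [283, 2, 4958, 5120, 4959], [287, 0, 4956, 5122, 4957], [296, 3, 4954, 5124, 4955], [288, 1, 4952, 5126, 4953], [284, 3, 4950, 5128, 4951], [288, 1, 4948, 5130, 4949], [296, 3, 4946, 5132, 4947], [287, 0, 4944, 5134, 4945], [272, 1, 5004, 5080, 5005], [279, 2, 5002, 5138, 5003], [271, 0, 5000, 5140, 5001], [267, 2, 4998, 5142, 4999], [271, 0, 4996, 5144, 4997], [280, 3, 4994, 5146, 4995], [272, 1, 4984, 5148, 4985], [268, 3, 4982, 5150, 4983], [272, 1, 4980, 5152, 4981], [279, 2, 4978, 5154, 4979], [271, 0, 4976, 5156, 4977], [267, 2, 4974, 5158, 4975], [271, 0, 4972, 5160, 4973], [279, 2, 4970, 5162, 4971], [272, 1, 4968, 5164, 4969], [268, 3, 4966, 5166, 4967], [272, 1, 4964, 5168, 4965], [280, 3, 4962, 5170, 4963], [271, 0, 4960, 5172, 4961], [267, 2, 4958, 5174, 4959], [271, 0, 4956, 5176, 4957], [280, 3, 4954, 5178, 4955], [272, 1, 4952, 5180, 4953], [268, 3, 4950, 5182, 4951], [272,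 1, 4948, 5184, 4949], [280, 3, 4946, 5186, 4947], [271, 0, 4944, 5188, 4945], [126, 2, 5004, 5078, 5005], [297, 1, 5002, 5192, 5077, 2091], [125, 3, 2088, 5194, 5001], [311, 2, 2090, 5076, 5003]]
def dJ16 : List (List ℕ) := [[393, 2, 6396, 1346, 6397], [403, 2, 6396, 1432, 6397], [284, 1, 6374, 6402, 6375], [288, 3, 6372, 6404, 6373], [295, 0, 6370, 6406, 6371], [268, 1, 6374, 6400, 6375], [272, 3, 6372, 6410, 6373], [279, 0, 6370, 6412, 6371], [304, 3, 306, 6398, 6373], [311, 0, 6370, 6416, 305], [303, 2, 302, 6418, 6369], [299, 0, 6366, 6420, 301], [303, 2, 298, 6422, 6365], [311, 0, 6362, 6424, 297], [304, 3, 294, 6426, 6361], [300, 1, 6358, 6428, 293], [305, 1, 6431, 1508, 6430], [125, 3, 6376, 6394, 311], [217, 1, 1495, 594, 1504, 6356], [85, 3, 6359, 6436, 292], [201, 3, 6438, 6359, 6432, 6358], [217, 1, 295, 6438, 6440, 294], [282, 3, 297, 1419, 6442, 296], [125, 1, 6361, 6440, 294], [0, 0], [413, 2, 673, 764, 6448], [312, 2, 6450, 1694, 4611], [298, 0, 120, 97, 4612, 6452], [0, 0], [421, 2, 677, 672, 6456], [414, 1, 6458, 678, 687], [0, 0], [423, 2, 681,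 672, 6462], [414, 1, 6464, 682, 691], [0, 0], [427, 2, 681, 676, 6468], [416, 1, 6470, 682, 699], [0, 0], [250, 3, 5519, 64, 6474], [312, 3, 703, 87, 6474], [297, 3, 6478, 703, 6, 702], [0, 0], [249, 0, 6477, 6475, 6482], [261, 3, 6483, 90, 6482], [0, 0], [313, 0, 4448, 64, 91, 6488], [0, 0], [341, 3, 6493, 90, 6492], [344, 0, 5525, 64, 6492], [416, 3, 721, 87, 6492], [0, 0], [357, 3, 6501, 90, 6500], [360, 0, 5531, 64, 6500], [418, 3, 723, 87, 6500], [0, 0], [127, 3, 4615, 1698, 1578, 4550, 6508], [126, 2, 6510, 4613, 1578], [304, 1, 6510, 4610, 4540], [0, 0], [131, 4, 6510, 4615, 1698, 1578, 1586, 4564, 6516], [54, 2, 6518, 6510], [218, 3, 6518, 6513, 4548, 4552], [304, 1, 6518, 6515, 4552], [0, 0], [135, 3, 968, 948, 1578, 1602, 6526], [54, 2, 6528, 1628], [134, 2, 6528, 971, 1578], [242, 2, 6528, 967, 772, 744], [271, 2, 6528, 1309, 6529], [287, 2, 6528, 1155, 6529], [320, 1, 6528, 973, 923], [367, 2, 6528, 975, 6529], [321, 1, 4600, 1558, 6540], [0, 0], [137, 3, 1605, 948, 1578, 1586, 6546], [54, 2, 6548, 1605], [126, 2, 6548, 4498, 4574], [134, 2, 6548, 6526,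 6531], [242, 2, 6548, 1598, 925, 746], [271, 2, 6548, 1607, 6549], [287, 2, 6548, 1609, 6549], [320, 1, 6548, 1612, 931], [367, 2, 6548, 1611, 6549], [0, 0], [229, 3, 6552, 6547, 1587, 1579, 1699, 4614, 6566], [62, 2, 6568, 6552], [0, 0], [231, 4, 6545, 6527, 1603, 1579, 1699, 4614, 6566, 6572], [62, 2, 6574, 6545], [226, 3, 6574, 4595, 4513, 4614], [0, 0], [245, 4, 6528, 968, 948, 776, 778, 744, 6580], [174, 1, 6582, 6527, 1597], [241, 1, 6582, 6528, 968, 954], [326, 1, 6582, 6541, 1599], [0, 0], [247, 5, 6548, 1605, 948, 776, 778, 744, 746, 6590], [173, 2, 6592, 6555, 1621], [242, 3, 6592, 6555, 1629, 976], [326, 1, 6592, 6563, 1623], [0, 0], [0, 0], [0, 0], [0, 0], [0, 0], [0, 0], [0, 0], [0, 0], [0, 0], [0, 0], [0, 0], [0, 0], [0, 0], [0, 0], [0, 0], [0, 0], [0, 0], [0, 0], [0, 0], [0, 0], [0, 0], [0, 0], [0, 0], [0, 0], [0, 0], [329, 32, 3281, 2024, 1736, 1745, 614, 613, 614, 1666, 4024, 6600, 6602, 6604, 6606, 6608, 6610, 6612, 6614, 6616, 6618, 6620, 6622, 6624, 6626, 6628, 6630, 6632, 6634, 6636, 6638, 6640, 6642, 6644, 6646, 6648], [320, 1, 6650, 3278,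 1809], [336, 1, 6650, 3277, 2790], [367, 2, 6650, 3282, 6651], [363, 0, 6648, 6656, 6649], [367, 2, 6646, 6658, 6647], [376, 1, 6644, 6660, 6645], [368, 3, 6642, 6662, 6643], [364, 1, 6640, 6664, 6641], [368, 3, 6638, 6666, 6639], [375, 0, 6636, 6668, 6637], [367, 2, 6634, 6670, 6635], [363, 0, 6632, 6672, 6633], [367, 2, 6630, 6674, 6631], [375, 0, 6628, 6676, 6629], [368, 3, 6626, 6678, 6627], [364, 1, 6624, 6680, 6625], [368, 3, 6622, 6682, 6623], [376, 1, 6620, 6684, 6621], [367, 2, 6618, 6686, 6619], [363, 0, 6616, 6688, 6617], [367, 2, 6614, 6690, 6615], [376, 1, 6612, 6692, 6613], [368, 3, 6610, 6694, 6611], [364, 1, 6608, 6696, 6609], [368, 3, 6606, 6698, 6607], [376, 1, 6604, 6700, 6605], [367, 2, 6602, 6702, 6603], [316, 3, 1806, 6652, 6649], [320, 1, 6646, 6706, 1805], [395, 2, 6706, 1922, 6707], [405, 2, 6706, 1874, 6707], [288, 1, 6646, 6712, 6647], [295, 2, 6644, 6714, 6645], [287, 0, 6642, 6716, 6643], [283, 2, 6640, 6718, 6641], [287, 0, 6638, 6720, 6639], [296, 3, 6636, 6722, 6637], [288, 1, 6634, 6724, 6635], [284, 3, 6632, 6726, 6633], [288,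 1, 6630, 6728, 6631], [296, 3, 6628, 6730, 6629], [287, 0, 6626, 6732, 6627], [283, 2, 6624, 6734, 6625], [287, 0, 6622, 6736, 6623], [295, 2, 6620, 6738, 6621], [288, 1, 6618, 6740, 6619], [284, 3, 6616, 6742, 6617], [288, 1, 6614, 6744, 6615], [295, 2, 6612, 6746, 6613], [287, 0, 6610, 6748, 6611], [283, 2, 6608, 6750, 6609], [287, 0, 6606, 6752, 6607], [295, 2, 6604, 6754, 6605], [288, 1, 6602, 6756, 6603], [272, 1, 6646, 6710, 6647], [279, 2, 6644, 6760, 6645], [271, 0, 6642, 6762, 6643], [267, 2, 6640, 6764, 6641], [271, 0, 6638, 6766, 6639], [280, 3, 6636, 6768, 6637], [272, 1, 6634, 6770, 6635], [268, 3, 6632, 6772, 6633], [272, 1, 6630, 6774, 6631], [280, 3, 6628, 6776, 6629], [271, 0, 6626, 6778, 6627], [267, 2, 6624, 6780, 6625], [271, 0, 6622, 6782, 6623], [279, 2, 6620, 6784, 6621], [272, 1, 6618, 6786, 6619], [268, 3, 6616, 6788, 6617], [272, 1, 6614, 6790, 6615], [279, 2, 6612, 6792, 6613], [271, 0, 6610, 6794, 6611], [267, 2, 6608, 6796, 6609]]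
def dJ20 : List (List ℕ) := [[312, 3, 7998, 7994, 6524, 7996], [7, 0, 7939, 8001], [327, 0, 7994, 4560, 1486], [317, 2, 284, 8004, 7933], [318, 3, 287, 8004, 7934], [320, 1, 8003, 8008, 1494], [316, 3, 293, 8010, 7940], [320, 1, 7943, 8012, 294], [327, 2, 297, 8014, 7944], [317, 1, 8016, 6444, 8017], [319, 0, 7947, 8016, 298], [315, 2, 301, 8020, 7948], [319, 0, 7951, 8022, 302], [327, 2, 305, 8024, 7952], [0, 0], [427, 2, 689, 684, 8028], [331, 1, 8030, 693, 8031], [335, 1, 8030, 695, 8031], [344, 2, 8030, 2332, 7363], [422, 1, 8030, 690, 699], [0, 0], [250, 3, 7365, 96, 8040], [328, 3, 703, 127, 8040], [313, 3, 8044, 703, 10, 702], [0, 0], [249, 0, 8043, 8041, 8048], [0, 0], [344, 0, 7367, 96, 8052], [422, 3, 721, 127, 8052], [0, 0], [360, 0, 7373, 96, 8058], [424, 3, 723, 127, 8058], [0, 0], [37, 1, 133, 8064], [267, 2, 8065, 1288, 8064], [0, 0], [173, 2, 2794, 2609, 8070], [174, 1, 2778, 2595, 8070], [241, 1, 2816, 2618, 2595, 8070], [242, 3, 2677, 2526, 130, 8070], [277, 2, 8071, 1288, 8070], [293, 2, 8071, 1132, 8070], [326, 1, 2796, 2810, 8070], [373, 2,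 8071, 586, 8070], [0, 0], [77, 1, 8070, 8088], [173, 2, 2792, 8073, 8088], [242, 3, 2657, 2679, 8079, 8088], [277, 2, 8089, 8081, 8088], [293, 2, 8089, 8083, 8088], [326, 1, 2794, 8085, 8088], [373, 2, 8089, 8087, 8088], [320, 1, 8094, 2673, 2597], [0, 0], [85, 2, 2539, 8064, 8106], [299, 2, 8108, 2543, 8064], [0, 0], [87, 3, 2551, 2539, 8064, 8106, 8112], [38, 2, 8114, 5538], [86, 2, 8114, 2553, 8064], [0, 0], [89, 3, 8108, 2539, 8064, 8066, 8120], [38, 2, 8122, 8108], [86, 2, 8122, 8112, 8117], [299, 2, 8122, 8111, 8066], [0, 0], [93, 2, 8071, 8064, 8130], [267, 2, 8132, 8081, 8133], [283, 2, 8132, 8083, 8133], [363, 2, 8132, 8087, 8133], [0, 0], [95, 3, 8089, 8071, 8064, 8130, 8140], [94, 2, 8142, 8090, 8064], [267, 2, 8142, 8097, 8143], [283, 2, 8142, 8099, 8143], [363, 2, 8142, 8103, 8143], [0, 0], [97, 3, 8132, 8071, 8064, 8066, 8152], [38, 2, 8154, 8132], [267, 2, 8154, 8135, 8155], [283, 2, 8154, 8137, 8155], [363, 2, 8154, 8139, 8155], [0, 0], [99, 4, 8142, 8089, 8071, 8064, 8066, 8152, 8164], [38, 2, 8166, 8142], [94, 2, 8166, 8145, 8066], [267, 2, 8166,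 8147, 8167], [283, 2, 8166, 8149, 8167], [363, 2, 8166, 8151, 8167], [0, 0], [175, 3, 8089, 8071, 2594, 2779, 8178], [70, 2, 8180, 8092], [134, 1, 8180, 8094, 2693], [174, 2, 8180, 8090, 2594], [275, 2, 8180, 8097, 8181], [291, 2, 8180, 8099, 8181], [323, 2, 8180, 8100, 8073], [324, 1, 8180, 8105, 2604], [371, 2, 8180, 8103, 8181], [0, 0], [209, 2, 8131, 8065, 2538, 8198], [310, 1, 8071, 2542, 8198], [0, 0], [211, 3, 8165, 8153, 8067, 8065, 2538, 8198, 8204], [210, 3, 8206, 8169, 8090, 2538], [309, 0, 8090, 2542, 8208], [414, 0, 8210, 8105, 2745], [0, 0], [0, 0], [213, 4, 8153, 8067, 8065, 2538, 2550, 8214, 8216], [46, 1, 8216, 8218], [86, 1, 8218, 8154, 8201], [209, 1, 8218, 8153, 8067, 8106], [285, 2, 8218, 8161, 8219], [310, 1, 8131, 8110, 8224], [309, 2, 8071, 2560, 8214], [0, 0], [0, 0], [215, 5, 8141, 8131, 8065, 2538, 2550, 8214, 8232, 8234], [46, 1, 8234, 8236], [85, 2, 8236, 8167, 8207], [210, 3, 8236, 8167, 8171, 8120], [214, 5, 8234, 8236, 8167, 8169, 8090, 2538, 2550], [269, 2, 8236, 8147, 8237], [285, 2, 8236, 8149, 8237], [365, 2, 8236, 8151, 8237],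 [309, 0, 8209, 2558, 8244], [310, 3, 8090, 2560, 8244], [302, 3, 8235, 8252, 8206], [0, 0], [227, 3, 2525, 2517, 2509, 2507, 2534, 2736, 8258], [125, 2, 8260, 2607, 2755], [305, 2, 8260, 2773, 2757], [0, 0], [0, 0], [229, 4, 2517, 2509, 2507, 2534, 2544, 8266, 8268], [62, 1, 8268, 8270], [125, 2, 8270, 2597, 2715], [126, 1, 8270, 2620, 2731], [128, 5, 2733, 2731, 8276, 8270, 8272], [225, 1, 8270, 2517, 2509, 2564], [226, 3, 8270, 2597, 2604, 2755], [273, 2, 8270, 2519, 8271], [289, 2, 8270, 2521, 8271], [305, 2, 8270, 2749, 2733], [369, 2, 8270, 2523, 8271], [306, 1, 2730, 8288, 8269], [413, 3, 8292, 8212, 8253], [322, 2, 8294, 8273, 2672], [414, 3, 8104, 8255, 8294], [201, 1, 8273, 2664, 8296, 8234, 8241], [8, 0, 8279, 8301], [9, 0, 8272, 8301], [10, 0, 8269, 8301], [24, 0, 8293, 8301, 8210], [23, 0, 8299, 8301, 8253], [25, 0, 8300, 8295, 8310, 2809], [3, 0, 8142, 8308], [4, 0, 8169, 8308], [7, 0, 8095, 8308, 2735], [12, 0, 8180, 8308, 8258], [11, 0, 8093, 8308, 2737], [13, 0, 8091, 8308], [14, 0, 8088, 8308], [24, 0, 8312, 8210, 8308], [26, 0, 8104, 8308], [5,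 0, 8238, 8310], [6, 0, 8235, 8310], [14, 0, 8244, 8310, 2779], [13, 0, 8232, 8310, 8186], [23, 0, 8312, 8253, 8310], [4, 0, 8241, 8313], [6, 0, 8207, 8313], [7, 0, 8303, 8313, 2801], [9, 0, 8305, 8313], [10, 0, 8307, 8313], [13, 0, 8204, 8313, 2794], [26, 0, 8212, 8313], [7, 0, 2735, 8318], [8, 0, 8275, 8318], [10, 0, 2715, 8318], [12, 0, 2719, 8318, 2693], [11, 0, 2712, 8318, 2658], [23, 0, 2717, 8318], [24, 0, 8346, 2747, 8318], [7, 0, 8262, 8320], [10, 0, 8261, 8320], [12, 0, 8258, 8320], [23, 0, 8264, 8320], [3, 0, 7381, 8323, 8124], [8, 0, 2813, 8323, 2567], [12, 0, 8183, 8323], [14, 0, 2793, 8323], [26, 0, 2811, 8323], [27, 0, 6655, 8323], [29, 0, 7001, 8323], [8, 0, 2783, 8336, 2577], [7, 0, 2776, 8336, 2546], [11, 0, 2799, 8336], [12, 0, 8074, 8336]]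
def dJ24 : List (List ℕ) := [[318, 0, 9595, 4919, 9599], [322, 0, 9595, 4921, 9599], [61, 1, 4920, 9602], [114, 1, 9605, 9601, 9602], [300, 1, 7785, 9576, 6120], [302, 2, 5339, 5334, 9608], [306, 2, 5339, 5336, 9608], [413, 1, 5339, 9572, 9608], [414, 3, 9614, 9608, 7255], [302, 2, 9609, 9611, 9617], [62, 2, 9514, 6395], [113, 2, 9514, 6380, 6394], [126, 0, 7958, 9514, 311], [128, 1, 6376, 9620, 9514, 311, 9624], [305, 2, 9514, 6382, 6394], [322, 3, 6394, 7962, 9514], [319, 0, 310, 9630, 6377], [315, 2, 6374, 9632, 309], [322, 3, 9626, 9632, 6434], [413, 2, 7964, 6397, 9632], [414, 3, 9632, 6397, 9636], [300, 1, 7956, 9640, 6375], [413, 1, 6399, 9634, 9642], [414, 3, 9644, 9642, 7967], [303, 0, 306, 9646, 7955], [312, 3, 7952, 9648, 305], [414, 2, 6416, 8027, 9648], [327, 0, 304, 9652, 6371], [319, 2, 6368, 9654, 303], [414, 1, 9656, 6420, 8023], [300, 3, 7948, 9658, 301], [304, 1, 298, 9660, 7947], [312, 3, 7944, 9662, 297], [414, 2, 6424, 8017, 9662], [327, 0, 296, 9666, 6363], [320, 3, 6360, 9668, 295], [322, 2, 8015, 6446, 9668], [62, 1, 6447, 9672], [306,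 3, 9675, 9665, 9672], [321, 0, 9675, 8015, 9672], [298, 3, 6363, 9677, 9673, 296], [126, 0, 299, 9680, 6364], [306, 0, 9662, 9680, 6424], [61, 2, 9681, 9684], [127, 4, 9683, 6365, 9681, 9684, 7946], [127, 5, 7947, 9686, 9681, 298, 9683], [321, 0, 9681, 9666, 9687], [320, 3, 7947, 9692, 6364], [413, 2, 9694, 9661, 8020], [300, 1, 7949, 9696, 6366], [304, 3, 6369, 9698, 7950], [217, 3, 9690, 7947, 8018, 7946], [219, 4, 9702, 9690, 9688, 299, 6445, 6445, 298], [219, 5, 9683, 9690, 7947, 8018, 8018, 7946, 9702], [202, 3, 6367, 9703, 9691, 6366], [126, 0, 6369, 9708, 6368], [306, 0, 6421, 9708, 6420], [125, 3, 303, 9712, 302], [297, 1, 305, 9714, 9650, 7952], [306, 0, 9651, 9714, 9650], [298, 3, 6371, 9701, 9718, 7952], [62, 1, 9717, 9720], [125, 1, 7955, 9720, 6372], [127, 1, 9724, 7955, 9720, 9722, 306], [127, 2, 307, 9717, 9720, 6372, 9724], [201, 4, 7957, 9728, 308, 6434], [203, 6, 9730, 7957, 9728, 9726, 6374, 9627, 9625], [203, 6, 9732, 6375, 9724, 9728, 308, 6434, 9627], [85, 1, 7956, 9734, 309], [87, 1, 9736, 7956, 9734, 9732, 6375], [87, 2, 6374, 9730, 9734,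 309, 9736], [217, 3, 9717, 7954, 9740, 6373], [219, 5, 9720, 9722, 306, 9736, 9740, 6373, 9742], [220, 2, 9745, 306, 9739, 9741, 7955, 9716, 9723], [281, 3, 6409, 6370, 9746, 7953], [217, 1, 7950, 9748, 9711, 6369], [301, 1, 9650, 9748, 9701], [302, 0, 9701, 9748, 6419], [220, 5, 9751, 6368, 9710, 9710, 9749, 9752, 303], [320, 3, 7942, 9678, 6361], [414, 3, 9671, 6429, 9758], [414, 3, 9759, 9761, 8012], [300, 1, 292, 9762, 7941], [302, 0, 9764, 6437, 6431], [413, 2, 8823, 9764, 8010], [302, 0, 9769, 9767, 9765], [303, 0, 7426, 9472, 5585], [301, 1, 5723, 5719, 9772], [312, 3, 5582, 9772, 7425], [301, 3, 9076, 9078, 9776], [304, 1, 7422, 9776, 5581], [413, 3, 9076, 7605, 9776], [301, 1, 5729, 5859, 9780], [418, 3, 5774, 9232, 7653], [301, 1, 9786, 5973, 5778], [303, 0, 7403, 9786, 5560], [416, 1, 7663, 9786, 5784], [301, 3, 9792, 9194, 9167], [311, 2, 4649, 9792, 6628], [413, 1, 4846, 9192, 9792], [320, 3, 6626, 9798, 4647], [421, 0, 5781, 9800, 7658], [317, 1, 7654, 9170, 9802], [423, 2, 7650, 9802, 5773], [317, 3, 9144, 5961, 9806], [201, 1, 6979, 7202, 9808,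 4990], [353, 3, 5770, 9810, 7649], [113, 0, 9155, 9152, 9812], [126, 0, 7407, 9812, 5564], [305, 0, 9155, 9134, 9812], [337, 1, 7661, 9812, 5782], [125, 3, 4642, 9820, 6623], [127, 4, 9822, 4642, 9820, 9160, 1781], [305, 2, 5993, 4851, 9820], [303, 0, 6622, 9826, 4643], [298, 3, 4640, 9828, 9825, 1779], [311, 2, 4640, 9828, 6621], [413, 1, 4853, 9159, 9828], [416, 3, 5767, 9828, 7644], [311, 0, 7409, 9836, 5566], [413, 3, 9132, 7641, 9836], [327, 0, 5567, 9840, 7408], [319, 2, 7411, 9842, 5568], [413, 2, 9844, 9126, 7637], [299, 0, 7413, 9846, 5570], [327, 2, 6620, 9834, 4641], [414, 0, 4855, 9850, 9832], [321, 3, 9851, 9831, 9853], [322, 0, 9851, 9854, 6836], [126, 2, 1776, 9856, 6619], [218, 3, 1776, 9856, 6838, 6619], [220, 5, 9860, 1776, 9856, 9855, 5939, 5939, 4639], [220, 6, 4638, 9831, 9856, 6838, 6838, 6619, 9860], [86, 0, 1774, 9864, 4637], [88, 0, 9866, 1774, 9864, 9862, 6617], [88, 1, 6616, 9860, 9864, 4637, 9866], [317, 0, 9861, 6841, 9864], [316, 3, 4636, 9872, 1775], [414, 1, 9874, 4858, 6843], [303, 2, 6614, 9876, 1773], [312, 1, 1770, 9878, 6613],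 [414, 2, 4862, 6847, 9880], [319, 0, 1768, 9882, 4631], [315, 2, 4628, 9884, 1767], [321, 3, 8844, 4879, 9886], [322, 2, 9886, 4879, 6851], [413, 0, 8844, 4866, 9886], [300, 3, 4629, 9892, 6608], [304, 1, 6611, 9894, 4630], [202, 1, 6616, 9858, 1775, 9870], [113, 3, 9870, 9898, 9871], [117, 5, 9866, 9870, 9898, 9871, 9867], [217, 1, 6614, 9871, 9900, 1773], [219, 1, 9904, 6614, 9871, 9867, 9902, 9902, 4635], [219, 2, 4634, 9869, 9871, 9900, 9900, 1773, 9904], [282, 3, 6612, 6746, 9908, 4633], [301, 1, 9897, 9910, 9880], [302, 0, 4863, 9910, 9897], [125, 1, 4634, 9902, 4635], [114, 2, 9907, 9916, 9906], [298, 3, 1770, 4860, 9916, 4633], [113, 1, 9915, 9920, 9912], [114, 0, 9911, 9920, 9915], [126, 0, 4630, 9920, 1769], [128, 0, 9926, 4630, 9920, 9923, 6611], [128, 1, 6610, 9925, 9920, 1769, 9926], [202, 0, 9930, 6609, 9890, 1766], [204, 0, 9932, 9930, 9928, 1767, 4878, 9888, 6608], [204, 0, 9934, 9926, 9930, 6609, 9890, 4878, 4628], [86, 2, 4628, 9936, 6609], [88, 3, 9938, 4628, 9936, 9934, 1767], [88, 4, 1766, 9932, 9936, 6609, 9938], [303, 0, 6631, 9796, 4650],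 [306, 2, 4842, 6035, 9944], [416, 3, 5788, 9944, 7669], [306, 2, 9945, 9947, 9202], [201, 1, 1791, 9950, 6822, 6632], [203, 1, 9952, 1791, 9950, 9946, 6037, 6037, 4652], [125, 3, 4655, 9954, 6634], [337, 3, 5807, 9954, 7686], [62, 2, 9958, 6018], [126, 0, 7394, 9958, 5553], [306, 1, 9958, 5802, 6019], [322, 3, 9961, 7683, 9958], [353, 1, 7678, 9958, 5799], [306, 1, 9960, 9965, 9959], [322, 3, 9959, 9967, 6018], [319, 0, 146, 9972, 5553], [424, 1, 2280, 9972, 5799], [320, 3, 4985, 9976, 2072], [321, 2, 9969, 9976, 6014], [322, 2, 7189, 6014, 9976], [413, 2, 7189, 5208, 9976], [414, 3, 9976, 5208, 9980], [303, 0, 6973, 9986, 4984], [301, 1, 5206, 6046, 9988], [306, 2, 5206, 6017, 9988], [311, 2, 4995, 9988, 6982], [413, 1, 5206, 9978, 9988], [414, 3, 9996, 9988, 7186]]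
def dJ28 : List (List ℕ) := [[368, 1, 11138, 11198, 11139], [375, 2, 11136, 11200, 11137], [367, 0, 11134, 11202, 11135], [363, 2, 11132, 11204, 11133], [367, 0, 11130, 11206, 11131], [375, 2, 11128, 11208, 11129], [368, 1, 11126, 11210, 11127], [364, 3, 11124, 11212, 11125], [368, 1, 11122, 11214, 11123], [376, 3, 11120, 11216, 11121], [367, 0, 11118, 11218, 11119], [363, 2, 11116, 11220, 11117], [367, 0, 11114, 11222, 11115], [376, 3, 11112, 11224, 11113], [288, 1, 11166, 11174, 11167], [284, 3, 11164, 11228, 11165], [288, 1, 11162, 11230, 11163], [295, 2, 11160, 11232, 11161], [287, 0, 11158, 11234, 11159], [283, 2, 11156, 11236, 11157], [287, 0, 11154, 11238, 11155], [296, 3, 11152, 11240, 11153], [288, 1, 11142, 11242, 11143], [284, 3, 11140, 11244, 11141], [288, 1, 11138, 11246, 11139], [295, 2, 11136, 11248, 11137], [287, 0, 11134, 11250, 11135], [283, 2, 11132, 11252, 11133], [272, 1, 11166, 11172, 11167], [268, 3, 11164, 11256, 11165], [272, 1, 11162, 11258, 11163], [279, 2, 11160, 11260, 11161], [271, 0, 11158, 11262, 11159], [267, 2, 11156, 11264, 11157],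 [271, 0, 11154, 11266, 11155], [280, 3, 11152, 11268, 11153], [272, 1, 11142, 11270, 11143], [268, 3, 11140, 11272, 11141], [272, 1, 11138, 11274, 11139], [279, 2, 11136, 11276, 11137], [271, 0, 11134, 11278, 11135], [0, 0], [347, 2, 8065, 2151, 11282], [348, 2, 11284, 8066, 10721], [0, 0], [351, 2, 2507, 2151, 11288], [352, 2, 11290, 2508, 2106], [0, 0], [355, 2, 2595, 2151, 11294], [0, 0], [357, 2, 8071, 2151, 11298], [0, 0], [0, 0], [0, 0], [0, 0], [0, 0], [0, 0], [0, 0], [0, 0], [0, 0], [0, 0], [0, 0], [0, 0], [0, 0], [0, 0], [0, 0], [0, 0], [0, 0], [361, 18, 11159, 11157, 11155, 11153, 11143, 11141, 11139, 11137, 11135, 11133, 11131, 11129, 11127, 11125, 11123, 11121, 11119, 11117, 11115, 11113, 11111, 11109, 11107, 11105, 11103, 11101, 2507, 587, 2506, 11302, 11304, 11306, 11308, 11310, 11312, 11314, 11316, 11318, 11320, 11322, 11324, 11326, 11328, 11330, 11332, 11334], [375, 2, 11336, 11187, 11337], [367, 0, 11334, 11338, 11335], [363, 2, 11332, 11340, 11333], [367, 0, 11330, 11342, 11331], [376, 3, 11328, 11344, 11329], [368, 1, 11326, 11346, 11327], [364,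 3, 11324, 11348, 11325], [368, 1, 11322, 11350, 11323], [376, 3, 11320, 11352, 11321], [367, 0, 11318, 11354, 11319], [363, 2, 11316, 11356, 11317], [367, 0, 11314, 11358, 11315], [369, 2, 11312, 11360, 11313], [366, 1, 11310, 11362, 11311], [46, 1, 11308, 11310], [297, 1, 11303, 2580, 2591, 11302], [125, 3, 11305, 11368, 11304], [0, 0], [381, 2, 2561, 2839, 11372], [255, 1, 11374, 2546, 8551], [379, 1, 11374, 2556, 11375], [0, 0], [427, 2, 2150, 1867, 11380], [335, 1, 11382, 2096, 3295], [0, 0], [250, 0, 10843, 3189, 11386], [0, 0], [255, 3, 704, 130, 11390], [0, 0], [335, 3, 3301, 130, 11394], [0, 0], [351, 3, 3307, 130, 11398], [0, 0], [215, 5, 8326, 8071, 132, 8463, 8460, 10796, 10799, 11402], [318, 1, 11404, 8330, 8332], [323, 1, 10229, 10736, 11406], [0, 0], [249, 2, 3514, 10678, 11410], [279, 0, 11412, 3451, 11413], [360, 3, 11412, 10733, 4279], [266, 1, 10844, 3314, 11413, 11414], [0, 0], [253, 2, 8462, 3515, 11420], [252, 2, 11422, 8456, 10855], [0, 0], [259, 2, 10735, 3515, 11426], [252, 2, 11428, 5539, 11375], [254, 2, 11428, 5855, 3515], [255, 1, 11428,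 10668, 11429], [381, 1, 11428, 5849, 3515], [0, 0], [261, 2, 8153, 3515, 11438], [0, 0], [313, 2, 10800, 7721, 10678, 11442], [266, 3, 11444, 10824, 10807, 10899], [279, 2, 11444, 10824, 11445], [295, 2, 11444, 10822, 11445], [375, 2, 11444, 10820, 11445], [0, 0], [0, 0], [0, 0], [0, 0], [0, 0], [0, 0], [0, 0], [0, 0], [0, 0], [0, 0], [0, 0], [0, 0], [0, 0], [0, 0], [0, 0], [0, 0], [0, 0], [0, 0], [0, 0], [0, 0], [0, 0], [0, 0], [0, 0], [0, 0], [0, 0], [0, 0], [0, 0], [0, 0], [0, 0], [0, 0], [329, 32, 1802, 10714, 10678, 11410, 11454, 11456, 11458, 11460, 11462, 11464, 11466, 11468, 11470, 11472, 11474, 11476, 11478, 11480, 11482, 11484, 11486, 11488, 11490, 11492, 11494, 11496, 11498, 11500, 11502, 11504, 11506, 11508, 11510, 11512], [0, 0], [341, 2, 8153, 10715, 11516], [0, 0], [0, 0], [0, 0], [0, 0], [0, 0], [0, 0], [0, 0], [0, 0], [0, 0], [0, 0], [0, 0], [0, 0], [0, 0], [0, 0], [0, 0], [0, 0], [0, 0], [0, 0], [0, 0], [0, 0], [0, 0], [0, 0], [0, 0], [0, 0], [0, 0], [0, 0], [0, 0], [0, 0], [0, 0], [0, 0], [0, 0], [0, 0], [345, 44, 2090, 10720, 10677, 8067, 11520,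 11522, 11524, 11526, 11528, 11530, 11532, 11534, 11536, 11538, 11540, 11542, 11544, 11546, 11548, 11550, 11552, 11554, 11556, 11558, 11560, 11561, 11559, 11557, 11562, 11564, 11566, 11568, 11569, 11567, 11565, 11563, 11556, 11558, 11560, 11570, 11572, 11574, 11576, 11578, 11580, 11582], [54, 2, 11584, 2089], [287, 2, 11584, 2162, 11585], [367, 2, 11584, 2117, 11585], [363, 0, 11582, 11590, 11583], [367, 2, 11580, 11592, 11581], [376, 1, 11578, 11594, 11579], [368, 3, 11576, 11596, 11577]]
def dJ32 : List (List ℕ) := [[0, 0], [0, 0], [213, 4, 12729, 12665, 141, 10165, 10170, 12800, 12802], [46, 1, 12802, 12804], [86, 1, 12804, 12730, 12773], [209, 1, 12804, 12729, 12665, 10177], [269, 2, 12804, 12735, 12805], [285, 2, 12804, 12737, 12805], [365, 2, 12804, 12739, 12805], [366, 1, 12802, 12816, 12803], [286, 1, 12802, 12814, 12803], [270, 1, 12802, 12812, 12803], [309, 2, 12707, 5816, 12810], [326, 1, 12707, 10078, 12810], [317, 2, 12802, 12826, 12773], [414, 3, 12782, 12781, 12828], [310, 1, 12671, 10122, 12800], [325, 2, 12671, 7707, 12800], [0, 0], [0, 0], [215,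 5, 12717, 12707, 141, 10165, 10170, 12800, 12836, 12838], [46, 1, 12838, 12840], [85, 2, 12840, 12743, 12787], [210, 3, 12840, 12743, 12747, 12700], [214, 5, 12838, 12840, 12743, 12745, 12688, 10165, 10170], [269, 2, 12840, 12723, 12841], [285, 2, 12840, 12725, 12841], [365, 2, 12840, 12727, 12841], [366, 1, 12838, 12854, 12839], [286, 1, 12838, 12852, 12839], [270, 1, 12838, 12850, 12839], [309, 0, 12688, 10122, 12848], [310, 3, 12789, 10103, 12848], [325, 0, 12789, 10124, 12848], [326, 3, 12688, 7707, 12848], [318, 3, 12839, 12866, 12786], [301, 0, 12839, 12864, 12786], [0, 0], [225, 2, 11783, 138, 5827, 12874], [125, 2, 12876, 11893, 12105], [126, 1, 12876, 11916, 12137], [226, 3, 12876, 11893, 11900, 12173], [273, 2, 12876, 11785, 12877], [289, 2, 12876, 11787, 12877], [306, 1, 12876, 12165, 12139], [321, 2, 12876, 12167, 12139], [369, 2, 12876, 11789, 12877], [0, 0], [229, 3, 12104, 11891, 11775, 138, 5827, 10116, 12894], [62, 2, 12896, 12104], [125, 2, 12896, 12140, 12135], [273, 2, 12896, 12107, 12897], [289, 2, 12896, 12109, 12897], [305, 2, 12896, 12163,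 12139], [306, 1, 12896, 12112, 12877], [321, 2, 12896, 12114, 12877], [322, 1, 12896, 12160, 12139], [369, 2, 12896, 12111, 12897], [0, 0], [0, 0], [231, 5, 11791, 11783, 138, 5827, 10116, 12894, 12916, 12918], [62, 1, 12918, 12920], [125, 2, 12920, 11903, 12173], [126, 1, 12920, 11928, 12119], [127, 0, 12175, 12173, 12924, 12920, 12922], [225, 1, 12920, 11791, 11916, 12137], [226, 3, 12920, 11903, 11905, 11874], [230, 5, 12918, 12920, 11903, 11927, 11931, 5827, 10116], [273, 2, 12920, 11795, 12921], [289, 2, 12920, 11797, 12921], [306, 1, 12920, 12195, 12175], [321, 2, 12920, 12201, 12175], [369, 2, 12920, 11799, 12921], [370, 1, 12918, 12944, 12919], [322, 1, 12172, 12942, 12919], [395, 0, 12948, 12182, 12949], [405, 0, 12948, 12184, 12949], [413, 0, 12948, 12205, 12202], [307, 0, 11931, 10122, 12934], [324, 3, 11931, 7707, 12934], [0, 0], [233, 2, 12708, 12671, 11912, 12960], [275, 2, 12962, 12711, 12963], [291, 2, 12962, 12713, 12963], [371, 2, 12962, 12715, 12963], [0, 0], [235, 3, 12742, 12718, 12687, 12671, 11912, 12960, 12970], [234, 3, 12972, 12747, 12666,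 11912], [275, 2, 12972, 12749, 12973], [291, 2, 12972, 12751, 12973], [371, 2, 12972, 12753, 12973], [0, 0], [0, 0], [237, 4, 12718, 12687, 12671, 11912, 11924, 12982, 12984], [70, 1, 12984, 12986], [173, 1, 12986, 12717, 12963], [233, 1, 12986, 12718, 12687, 12674], [275, 2, 12986, 12723, 12987], [291, 2, 12986, 12725, 12987], [371, 2, 12986, 12727, 12987], [372, 1, 12984, 12998, 12985], [292, 1, 12984, 12996, 12985], [276, 1, 12984, 12994, 12985], [0, 0], [0, 0], [239, 5, 12730, 12708, 12671, 11912, 11924, 12982, 13006, 13008], [70, 1, 13008, 13010], [174, 2, 13010, 12740, 12973], [234, 3, 13010, 12740, 12745, 12690], [238, 5, 13008, 13010, 12740, 12747, 12666, 11912, 11924], [275, 2, 13010, 12735, 13011], [291, 2, 13010, 12737, 13011], [371, 2, 13010, 12739, 13011], [372, 1, 13008, 13024, 13009], [292, 1, 13008, 13022, 13009], [276, 1, 13008, 13020, 13009], [0, 0], [247, 4, 12280, 11892, 11916, 11913, 12670, 12686, 12692, 13032], [78, 2, 13034, 12280], [173, 2, 13034, 12308, 12303], [242, 3, 13034, 12308, 12679, 12686], [277, 2, 13034, 12283, 13035], [293, 2,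 13034, 12285, 13035], [373, 2, 13034, 12287, 13035], [0, 0], [0, 0], [249, 2, 3509, 13048, 13050], [263, 0, 13052, 3509, 11630], [0, 0], [253, 2, 10164, 3508, 13056], [256, 2, 13058, 5545, 12361], [0, 0], [259, 2, 11913, 3508, 13062], [0, 0], [261, 2, 12671, 3508, 13066], [0, 0], [263, 2, 13049, 3508, 13070], [0, 0], [265, 2, 141, 1281, 13048, 13074], [0, 0], [281, 2, 10164, 1125, 13048, 13078], [0, 0], [297, 2, 10117, 5828, 13048, 13082], [0, 0], [313, 2, 12801, 7706, 13048, 13086], [0, 0], [0, 0], [0, 0], [0, 0], [0, 0], [0, 0], [0, 0], [0, 0], [0, 0], [0, 0], [0, 0], [0, 0], [0, 0], [0, 0], [0, 0], [0, 0], [0, 0], [0, 0], [0, 0], [0, 0], [0, 0], [0, 0], [0, 0], [0, 0], [0, 0], [0, 0], [0, 0], [0, 0], [0, 0], [0, 0], [0, 0], [329, 33, 1974, 13048, 13050, 13090, 13092, 13094, 13096, 13098, 13100, 13102, 13104, 13106, 13108, 13110, 13112, 13114, 13116, 13118, 13120, 13122, 13124, 13126, 13128, 13130, 13132, 13134, 13136, 13138, 13140, 13142, 13144, 13146, 13148, 13150], [344, 1, 13152, 1974, 13048], [0, 0], [339, 2, 11913, 1975, 13156], [0, 0], [341, 2, 12671,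 1975, 13160], [0, 0], [0, 0], [0, 0], [0, 0], [0, 0], [0, 0], [0, 0], [0, 0], [0, 0], [0, 0], [0, 0], [0, 0], [0, 0], [0, 0], [0, 0], [0, 0], [0, 0], [0, 0]]
def dJ36 : List (List ℕ) := [[253, 2, 10060, 3504, 14398], [0, 0], [259, 2, 13483, 3504, 14402], [0, 0], [261, 2, 14029, 3504, 14406], [0, 0], [0, 0], [265, 2, 14023, 1277, 3072, 14412], [0, 0], [281, 2, 10060, 1121, 3072, 14416], [311, 2, 14418, 10059, 3072], [328, 1, 14418, 7694, 3072], [0, 0], [311, 2, 3073, 5815, 14424], [414, 2, 14426, 14422, 14421], [0, 0], [313, 2, 14149, 7694, 3072, 14430], [279, 2, 14432, 14153, 14433], [295, 2, 14432, 14155, 14433], [375, 2, 14432, 14157, 14433], [0, 0], [0, 0], [0, 0], [0, 0], [0, 0], [0, 0], [0, 0], [0, 0], [0, 0], [0, 0], [0, 0], [0, 0], [0, 0], [0, 0], [0, 0], [0, 0], [0, 0], [0, 0], [0, 0], [0, 0], [0, 0], [0, 0], [0, 0], [0, 0], [0, 0], [0, 0], [0, 0], [0, 0], [329, 33, 1978, 3072, 3502, 3328, 3330, 3332, 14440, 14442, 14444, 14446, 14448, 14450, 14452, 14454, 14456, 14458, 14460, 14462, 14464, 14466, 14468, 14470, 14472, 14474, 14476, 14478, 14480, 14482,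 14484, 14486, 14488, 14490, 14492, 14494], [250, 1, 14496, 1795, 4142], [344, 1, 14496, 1978, 3072], [335, 2, 3075, 14500, 14495], [331, 0, 14492, 14502, 3076], [335, 2, 3079, 14504, 14491], [344, 1, 14488, 14506, 3080], [336, 3, 3083, 14508, 14487], [332, 1, 14484, 14510, 3084], [336, 3, 3087, 14512, 14483], [343, 0, 14480, 14514, 3088], [335, 2, 3091, 14516, 14479], [331, 0, 14476, 14518, 3092], [335, 2, 3095, 14520, 14475], [343, 0, 14472, 14522, 3096], [336, 3, 3099, 14524, 14471], [428, 2, 3037, 3166, 14524], [351, 0, 14470, 14528, 2914], [347, 2, 2917, 14530, 14469], [351, 0, 14466, 14532, 2918], [428, 1, 14532, 3033, 3162], [336, 3, 3103, 14536, 14467], [344, 1, 14464, 14538, 3112], [335, 2, 14541, 6906, 14540, 14463], [28, 0, 14540, 14543], [428, 2, 6902, 6909, 14545], [331, 0, 14460, 14544, 6904], [335, 2, 4432, 3119, 14548, 14459], [8, 0, 14459, 14550], [15, 0, 14456, 14550], [428, 2, 2929, 3120, 14548], [249, 3, 3830, 4434, 14554], [343, 2, 3222, 4433, 14554], [359, 2, 3241, 4430, 14554], [335, 0, 14454, 14560, 3221], [331, 2, 3218, 14564, 14453], [335,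 0, 14450, 14566, 3217], [360, 1, 4234, 4303, 14440], [352, 3, 14443, 14570, 4233], [348, 1, 4230, 14572, 14444], [352, 3, 14447, 14574, 4229], [0, 0], [331, 2, 14023, 1979, 14578], [0, 0], [339, 2, 13483, 1979, 14582], [0, 0], [341, 2, 14029, 1979, 14586], [0, 0], [0, 0], [0, 0], [0, 0], [0, 0], [0, 0], [0, 0], [0, 0], [0, 0], [0, 0], [0, 0], [0, 0], [0, 0], [0, 0], [0, 0], [0, 0], [0, 0], [0, 0], [0, 0], [0, 0], [0, 0], [0, 0], [0, 0], [0, 0], [0, 0], [0, 0], [0, 0], [0, 0], [0, 0], [0, 0], [345, 45, 2276, 143, 141, 139, 11410, 13310, 14590, 14592, 14594, 14596, 14598, 14600, 14602, 14604, 14606, 14608, 14610, 14612, 14614, 14616, 14618, 14620, 14622, 14624, 14625, 14623, 14621, 14626, 14628, 14630, 14632, 14633, 14631, 14629, 14627, 14620, 14622, 14624, 14634, 14636, 14638, 14640, 14642, 14644, 14646, 14648], [360, 1, 14650, 2276, 3072], [351, 2, 3075, 14652, 14649], [347, 0, 14646, 14654, 3076], [409, 2, 14654, 3159, 14655], [283, 0, 14646, 14658, 14647], [287, 2, 14644, 14660, 14645], [296, 1, 14642, 14662, 14643], [288, 3, 14640, 14664, 14641], [284, 1, 14638,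 14666, 14639], [288, 3, 14636, 14668, 14637], [295, 0, 14634, 14670, 14635], [287, 2, 14624, 14672, 14625], [283, 0, 14622, 14674, 14623], [287, 2, 14620, 14676, 14621], [295, 0, 14627, 14678, 14626], [351, 2, 3079, 14656, 14645], [360, 1, 14642, 14682, 3080], [352, 3, 3083, 14684, 14641], [348, 1, 14638, 14686, 3084], [352, 3, 3087, 14688, 14637], [359, 0, 14634, 14690, 3088], [351, 2, 3091, 14692, 14625], [347, 0, 14622, 14694, 3092], [351, 2, 3095, 14696, 14621], [359, 0, 14627, 14698, 3096], [352, 3, 3099, 14700, 14628], [348, 1, 14631, 14702, 3100], [352, 3, 3103, 14704, 14632], [348, 1, 2366, 13379, 14590], [352, 3, 14593, 14708, 2365], [0, 0], [347, 2, 14023, 2277, 14712], [0, 0], [355, 2, 13483, 2277, 14716], [0, 0], [357, 2, 14029, 2277, 14720], [0, 0], [0, 0], [0, 0], [0, 0], [0, 0], [0, 0], [0, 0], [0, 0], [0, 0], [0, 0], [0, 0], [0, 0], [0, 0], [0, 0], [0, 0], [0, 0], [361, 18, 14641, 14639, 14637, 14635, 14625, 14623, 14621, 14619, 14617, 14615, 14613, 14611, 14609, 14607, 14605, 14603, 14601, 14599, 14597, 14595, 14593, 14591, 13311, 11411, 138, 140,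 142, 575, 143, 13077, 14724, 14726, 14728, 14730, 14732, 14734, 14736, 14738, 14740, 14742, 14744, 14746, 14748, 14750, 14752, 14754], [0, 0], [427, 2, 2276, 1979, 14758], [336, 2, 14760, 2084, 14009], [0, 0], [0, 0], [336, 0, 14015, 142, 14766], [0, 0], [352, 0, 14019, 142, 14770], [0, 0], [266, 2, 14023, 144, 1275, 14774], [0, 0], [37, 1, 14774, 14778], [0, 0], [53, 1, 146, 14782], [0, 0], [291, 2, 14787, 1119, 14786], [0, 0], [69, 1, 14786, 14790], [291, 2, 14791, 14789, 14790], [0, 0], [277, 2, 14797, 1275, 14796]]
def dJ40 : List (List ℕ) := [[0, 0], [0, 0], [0, 0], [0, 0], [0, 0], [0, 0], [0, 0], [0, 0], [0, 0], [0, 0], [0, 0], [0, 0], [0, 0], [0, 0], [0, 0], [0, 0], [0, 0], [345, 45, 2283, 150, 15966, 15968, 15970, 15972, 15974, 15976, 15978, 15980, 15982, 15984, 15986, 15988, 15990, 15992, 15994, 15996, 15998, 16000, 16002, 16004, 16006, 16008, 16009, 16007, 16005, 16010, 16012, 16014, 16016, 16017, 16015, 16013, 16011, 16004, 16006, 16008, 16018, 16020, 16022, 16024, 16026, 16028, 16030, 16032], [360, 1, 16034, 2283, 15896], [0, 0], [357, 2, 15323, 2282,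 16038], [0, 0], [383, 2, 7673, 3497, 16042], [0, 0], [427, 2, 2283, 1984, 16046], [332, 2, 16048, 2070, 15773], [0, 0], [250, 0, 15899, 15897, 16052], [279, 0, 16053, 1270, 16052], [295, 0, 16053, 1114, 16052], [265, 3, 16057, 16053, 149, 15776], [281, 3, 16059, 16053, 6022, 16052], [201, 3, 16062, 16061, 15781, 16060], [0, 0], [0, 0], [332, 0, 15787, 148, 16068], [0, 0], [37, 1, 15967, 16072], [205, 2, 16075, 16073, 9210, 9214, 5976, 16072, 16074], [267, 2, 16073, 1268, 16072], [283, 2, 16073, 1112, 16072], [0, 0], [173, 2, 15888, 15831, 16082], [174, 1, 15882, 15823, 16082], [241, 1, 15894, 15834, 15823, 16082], [242, 3, 15809, 15806, 150, 16082], [277, 2, 16083, 1268, 16082], [293, 2, 16083, 1112, 16082], [373, 2, 16083, 566, 16082], [0, 0], [77, 1, 16082, 16098], [277, 2, 16099, 16093, 16098], [293, 2, 16099, 16095, 16098], [373, 2, 16099, 16097, 16098], [0, 0], [85, 2, 5976, 16072, 16108], [300, 1, 16110, 5790, 16072], [315, 2, 16110, 9191, 16072], [0, 0], [87, 3, 9214, 5976, 16072, 16108, 16116], [86, 2, 16118, 9207, 16072], [201, 1, 16118, 9212, 5976, 16072],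 [202, 3, 16118, 9207, 5998, 16111], [283, 2, 16118, 7523, 16119], [299, 2, 16118, 9204, 16072], [300, 1, 16118, 9220, 16111], [315, 2, 16118, 9222, 16111], [316, 1, 16118, 7670, 16072], [0, 0], [89, 3, 16110, 5976, 16072, 16074, 16136], [38, 2, 16138, 16110], [201, 1, 16138, 16124, 16117, 16139], [0, 0], [91, 4, 16118, 9214, 5976, 16072, 16074, 16136, 16144], [38, 2, 16146, 16118], [86, 2, 16146, 16121, 16074], [201, 1, 16146, 16123, 16120, 16147], [283, 2, 16146, 16127, 16147], [299, 2, 16146, 16129, 16074], [300, 1, 16146, 16131, 16139], [315, 2, 16146, 16133, 16139], [316, 1, 16146, 16135, 16074], [0, 0], [93, 2, 16083, 16072, 16164], [267, 2, 16166, 16093, 16167], [283, 2, 16166, 16095, 16167], [363, 2, 16166, 16097, 16167], [0, 0], [95, 3, 16099, 16083, 16072, 16164, 16174], [94, 2, 16176, 16100, 16072], [267, 2, 16176, 16103, 16177], [283, 2, 16176, 16105, 16177], [363, 2, 16176, 16107, 16177], [0, 0], [97, 3, 16166, 16083, 16072, 16074, 16186], [38, 2, 16188, 16166], [267, 2, 16188, 16169, 16189], [283, 2, 16188, 16171, 16189], [363, 2, 16188, 16173, 16189],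 [0, 0], [99, 4, 16176, 16099, 16083, 16072, 16074, 16186, 16198], [38, 2, 16200, 16176], [94, 2, 16200, 16179, 16074], [267, 2, 16200, 16181, 16201], [283, 2, 16200, 16183, 16201], [363, 2, 16200, 16185, 16201], [0, 0], [175, 3, 16099, 16083, 15822, 15883, 16212], [174, 2, 16214, 16100, 15822], [0, 0], [209, 2, 16165, 16073, 5977, 16218], [309, 2, 16083, 5791, 16218], [326, 1, 16083, 9190, 16218], [0, 0], [211, 3, 16199, 16187, 16075, 16073, 5977, 16218, 16226], [210, 3, 16228, 16203, 16100, 5977], [0, 0], [0, 0], [213, 4, 16187, 16075, 16073, 5977, 9215, 16232, 16234], [46, 1, 16234, 16236], [86, 1, 16236, 16188, 16221], [209, 1, 16236, 16187, 16075, 16108], [269, 2, 16236, 16193, 16237], [285, 2, 16236, 16195, 16237], [365, 2, 16236, 16197, 16237], [366, 1, 16234, 16248, 16235], [286, 1, 16234, 16246, 16235], [270, 1, 16234, 16244, 16235], [309, 2, 16165, 16112, 16242], [326, 1, 16165, 16114, 16242], [317, 2, 16234, 16258, 16221], [414, 3, 16224, 16223, 16260], [310, 1, 16083, 9205, 16232], [0, 0], [0, 0], [215, 5, 16175, 16165, 16073, 5977, 9215, 16232, 16266,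 16268], [46, 1, 16268, 16270], [85, 2, 16270, 16201, 16229], [210, 3, 16270, 16201, 16205, 16136], [214, 5, 16268, 16270, 16201, 16203, 16100, 5977, 9215], [269, 2, 16270, 16181, 16271], [285, 2, 16270, 16183, 16271], [365, 2, 16270, 16185, 16271], [309, 0, 16100, 9205, 16278], [310, 3, 16231, 9221, 16278], [325, 0, 16231, 9223, 16278], [318, 3, 16269, 16290, 16228], [301, 0, 16269, 16288, 16228], [0, 0], [227, 3, 15805, 15801, 15797, 15795, 5998, 15864, 16296], [126, 1, 16298, 15842, 15851], [226, 3, 16298, 15829, 15831, 5998], [0, 0], [0, 0], [229, 4, 15801, 15797, 15795, 5998, 9213, 16304, 16306], [62, 1, 16306, 16308], [126, 1, 16308, 15836, 15861], [128, 5, 15863, 15861, 16312, 16308, 16310], [303, 2, 16314, 15866, 15825], [0, 0], [231, 4, 15850, 15839, 15833, 15795, 5998, 9213, 16304, 16318], [62, 2, 16320, 15850], [226, 3, 16320, 16300, 16303, 9213], [305, 2, 16320, 15879, 15875], [306, 1, 16320, 15854, 16299], [0, 0], [233, 2, 16166, 16083, 15822, 16330], [0, 0], [235, 3, 16200, 16176, 16099, 16083, 15822, 16330, 16334], [234, 3, 16336, 16205, 15967, 15822],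 [275, 2, 16336, 16207, 16337], [291, 2, 16336, 16209, 16337], [371, 2, 16336, 16211, 16337], [0, 0], [0, 0], [237, 4, 16176, 16099, 16083, 15822, 15826, 16346, 16348], [70, 1, 16348, 16350], [173, 1, 16350, 16175, 16333], [233, 1, 16350, 16176, 16099, 16086], [0, 0], [0, 0], [239, 5, 16188, 16166, 16083, 15822, 15826, 16346, 16358, 16360], [70, 1, 16360, 16362], [174, 2, 16362, 16198, 16337], [234, 3, 16362, 16198, 16203, 16215], [238, 5, 16360, 16362, 16198, 16205, 15967, 15822, 15826], [275, 2, 16362, 16193, 16363], [291, 2, 16362, 16195, 16363], [371, 2, 16362, 16197, 16363], [372, 1, 16360, 16376, 16361], [292, 1, 16360, 16374, 16361], [276, 1, 16360, 16372, 16361], [0, 0], [253, 2, 5976, 3494, 16384], [0, 0], [255, 2, 15795, 3494, 16388], [0, 0], [259, 2, 15823, 3494, 16392], [0, 0], [261, 2, 16083, 3494, 16396]]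
def dJ44 : List (List ℕ) := [[336, 3, 16589, 17598, 17513], [53, 1, 15185, 17464], [336, 1, 16488, 16499, 17464], [352, 1, 16644, 15223, 17464], [348, 3, 17467, 17606, 16643], [349, 3, 17609, 16815, 17608], [332, 3, 17467, 17604, 16487], [336, 1, 16484, 17612, 17468], [343, 2, 17471, 17614, 16483], [335, 0, 16480, 17616, 17472], [331, 2, 17475, 17618, 16479], [335, 0, 16476, 17620, 17476], [344, 3, 17479, 17622, 16475], [0, 0], [331, 2, 16949, 1988, 17626], [0, 0], [339, 2, 16969, 1988, 17630], [0, 0], [341, 2, 16987, 1988, 17634], [0, 0], [0, 0], [0, 0], [0, 0], [0, 0], [0, 0], [0, 0], [0, 0], [0, 0], [0, 0], [0, 0], [0, 0], [0, 0], [0, 0], [0, 0], [0, 0], [0, 0], [0, 0], [0, 0], [0, 0], [0, 0], [0, 0], [0, 0], [0, 0], [0, 0], [0, 0], [0, 0], [0, 0], [0, 0], [0, 0], [0, 0], [0, 0], [345, 43, 16821, 2074, 2287, 16960, 17638, 17640, 17642, 17644, 17646, 17648, 17650, 17652, 17654, 17656, 17658, 17660, 17662, 17664, 17666, 17668, 17670, 17672, 17674, 17676, 17678, 17680, 17681, 17679, 17677, 17682, 17684, 17686, 17688, 17689, 17687, 17685, 17683, 17676, 17678, 17680,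 17690, 17692, 17694, 17696, 17698, 17700], [347, 0, 17702, 16822, 16578], [363, 0, 17702, 16827, 17703], [367, 2, 17700, 17706, 17701], [376, 1, 17698, 17708, 17699], [351, 2, 16581, 17704, 17701], [360, 1, 17698, 17712, 16582], [399, 2, 17712, 16812, 17713], [409, 2, 17712, 16758, 17713], [296, 1, 17698, 17718, 17699], [280, 1, 17698, 17716, 17699], [352, 3, 16585, 17714, 17697], [251, 0, 16431, 16967, 17638], [255, 2, 17641, 17726, 16432], [264, 1, 16435, 17728, 17642], [256, 3, 17645, 17730, 16436], [252, 1, 16439, 17732, 17646], [256, 3, 17649, 17734, 16440], [249, 1, 16443, 17736, 17650], [0, 0], [347, 2, 16949, 2286, 17740], [360, 2, 17742, 16950, 16819], [0, 0], [355, 2, 16969, 2286, 17746], [0, 0], [357, 2, 16987, 2286, 17750], [0, 0], [0, 0], [0, 0], [0, 0], [0, 0], [0, 0], [0, 0], [0, 0], [0, 0], [0, 0], [0, 0], [0, 0], [0, 0], [0, 0], [0, 0], [0, 0], [0, 0], [361, 18, 17697, 17695, 17693, 17691, 17681, 17679, 17677, 17675, 17673, 17671, 17669, 17667, 17665, 17663, 17661, 17659, 17657, 17655, 17653, 17651, 17649, 17647, 17645, 17643, 17641, 17639, 16961,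 564, 16960, 17754, 17756, 17758, 17760, 17762, 17764, 17766, 17768, 17770, 17772, 17774, 17776, 17778, 17780, 17782, 17784, 17786], [279, 2, 17788, 17722, 17789], [295, 2, 17788, 17720, 17789], [375, 2, 17788, 17710, 17789], [367, 0, 17786, 17794, 17787], [363, 2, 17784, 17796, 17785], [367, 0, 17782, 17798, 17783], [287, 0, 17786, 17792, 17787], [283, 2, 17784, 17802, 17785], [287, 0, 17782, 17804, 17783], [296, 3, 17780, 17806, 17781], [288, 1, 17778, 17808, 17779], [284, 3, 17776, 17810, 17777], [288, 1, 17774, 17812, 17775], [296, 3, 17772, 17814, 17773], [287, 0, 17770, 17816, 17771], [283, 2, 17768, 17818, 17769], [271, 0, 17786, 17790, 17787], [267, 2, 17784, 17822, 17785], [271, 0, 17782, 17824, 17783], [280, 3, 17780, 17826, 17781], [272, 1, 17778, 17828, 17779], [268, 3, 17776, 17830, 17777], [272, 1, 17774, 17832, 17775], [280, 3, 17772, 17834, 17773], [271, 0, 17770, 17836, 17771], [267, 2, 17768, 17838, 17769], [271, 0, 17766, 17840, 17767], [46, 1, 17760, 17762], [0, 0], [383, 2, 7657, 3493, 17846], [249, 2, 17848, 7401, 16411], [264, 2, 17848, 7401,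 16929], [0, 0], [427, 2, 2287, 1988, 17854], [344, 2, 17856, 2075, 16935], [0, 0], [250, 3, 16939, 152, 17860], [0, 0], [344, 0, 16943, 152, 17864], [0, 0], [360, 0, 16947, 152, 17868], [409, 0, 17869, 1110, 17868], [0, 0], [37, 1, 156, 17874], [0, 0], [174, 1, 17418, 17117, 17878], [241, 1, 17151, 17120, 17117, 17878], [242, 3, 17394, 17107, 16962, 17878], [0, 0], [77, 1, 17878, 17886], [174, 1, 17416, 17881, 17886], [241, 1, 17185, 17424, 17881, 17886], [0, 0], [89, 3, 5563, 5965, 156, 17874, 17894], [0, 0], [91, 4, 7405, 9805, 5965, 156, 17874, 17894, 17898], [0, 0], [93, 2, 17879, 156, 17902], [0, 0], [95, 3, 17887, 17879, 156, 17902, 17906], [94, 2, 17908, 17888, 156], [0, 0], [97, 3, 17904, 17879, 156, 17874, 17912], [38, 2, 17914, 17904], [0, 0], [99, 4, 17908, 17887, 17879, 156, 17874, 17912, 17918], [38, 2, 17920, 17908], [94, 2, 17920, 17911, 17874], [0, 0], [179, 4, 17891, 17887, 17879, 17116, 17132, 17387, 17926], [133, 2, 17928, 17427, 17163], [174, 2, 17928, 17421, 17132], [0, 0], [0, 0], [211, 3, 17919, 17913, 17875, 157, 5964, 17934, 17936], [210,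 3, 17938, 17923, 17888, 5964], [0, 0], [0, 0], [213, 4, 17913, 17875, 157, 5964, 9804, 17942, 17944], [209, 1, 17946, 17913, 17875, 5953], [310, 1, 17879, 9169, 17942], [0, 0], [0, 0], [215, 5, 17907, 17903, 157, 5964, 9804, 17942, 17952, 17954], [46, 1, 17954, 17956], [214, 5, 17954, 17956, 17921, 17923, 17888, 5964, 9804], [309, 0, 17888, 9169, 17960], [310, 3, 17941, 9790, 17960], [326, 3, 17888, 7655, 17960], [0, 0], [233, 2, 17904, 17879, 17116, 17968], [0, 0], [235, 3, 17920, 17908, 17887, 17879, 17116, 17968, 17972], [0, 0], [0, 0], [237, 4, 17908, 17887, 17879, 17116, 17132, 17976, 17978], [173, 1, 17980, 17907, 17971], [233, 1, 17980, 17908, 17887, 17880], [0, 0], [0, 0], [239, 5, 17914, 17904, 17879, 17116, 17132, 17976, 17986, 17988], [70, 1, 17988, 17990], [174, 2, 17990, 17918, 17975], [238, 5, 17988, 17990, 17918, 17925, 17876, 17116, 17132], [0, 0]]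
def dJ48 : List (List ℕ) := [[210, 2, 19171, 5927, 19134, 19190], [0, 0], [95, 3, 19181, 19171, 19134, 19190, 19202], [94, 2, 19204, 19182, 19134], [209, 0, 19207, 19137, 19206, 19204], [267, 2, 19204, 19185, 19205], [283, 2, 19204, 19187, 19205], [363, 2, 19204, 19189, 19205], [0, 0], [97, 3, 19192, 19171, 19134, 19142, 19216], [38, 2, 19218, 19192], [86, 2, 19218, 19200, 19193], [88, 1, 19221, 19201, 19222, 19218, 19200], [267, 2, 19218, 19195, 19219], [283, 2, 19218, 19197, 19219], [363, 2, 19218, 19199, 19219], [0, 0], [99, 4, 19204, 19181, 19171, 19134, 19142, 19216, 19232], [38, 2, 19234, 19204], [85, 1, 19234, 19209, 19205], [86, 2, 19234, 19238, 19237], [94, 2, 19234, 19207, 19142], [267, 2, 19234, 19211, 19235], [283, 2, 19234, 19213, 19235], [363, 2, 19234, 19215, 19235], [0, 0], [133, 2, 19153, 162, 19250], [271, 2, 19252, 19155, 19253], [287, 2, 19252, 19157, 19253], [367, 2, 19252, 19159, 19253], [226, 2, 19153, 5913, 162, 19250], [0, 0], [135, 3, 19161, 19153, 162, 19250, 19262], [134, 2, 19264, 19162, 162], [225, 0, 19267, 5910, 19266, 19264], [271,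 2, 19264, 19165, 19265], [287, 2, 19264, 19167, 19265], [367, 2, 19264, 19169, 19265], [0, 0], [137, 3, 19252, 19153, 162, 19148, 19276], [54, 2, 19278, 19252], [126, 2, 19278, 19260, 19253], [128, 1, 19281, 19261, 19282, 19278, 19260], [271, 2, 19278, 19255, 19279], [287, 2, 19278, 19257, 19279], [367, 2, 19278, 19259, 19279], [0, 0], [139, 4, 19264, 19161, 19153, 162, 19148, 19276, 19292], [54, 2, 19294, 19264], [125, 1, 19294, 19269, 19265], [126, 2, 19294, 19298, 19297], [134, 2, 19294, 19267, 19148], [271, 2, 19294, 19271, 19295], [287, 2, 19294, 19273, 19295], [367, 2, 19294, 19275, 19295], [0, 0], [173, 2, 19171, 19152, 19310], [275, 2, 19312, 19173, 19313], [291, 2, 19312, 19175, 19313], [371, 2, 19312, 19179, 19313], [0, 0], [175, 3, 19181, 19171, 19152, 19310, 19320], [174, 2, 19322, 19182, 19152], [275, 2, 19322, 19185, 19323], [291, 2, 19322, 19187, 19323], [371, 2, 19322, 19189, 19323], [0, 0], [177, 3, 19312, 19171, 19152, 19160, 19332], [70, 2, 19334, 19312], [275, 2, 19334, 19315, 19335], [291, 2, 19334, 19317, 19335], [371, 2, 19334, 19319, 19335],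 [0, 0], [179, 4, 19322, 19181, 19171, 19152, 19160, 19332, 19344], [70, 2, 19346, 19322], [174, 2, 19346, 19325, 19160], [275, 2, 19346, 19327, 19347], [291, 2, 19346, 19329, 19347], [371, 2, 19346, 19331, 19347], [0, 0], [233, 2, 19192, 19171, 19152, 19358], [275, 2, 19360, 19195, 19361], [291, 2, 19360, 19197, 19361], [371, 2, 19360, 19199, 19361], [0, 0], [235, 3, 19234, 19204, 19181, 19171, 19152, 19358, 19368], [234, 3, 19370, 19243, 19144, 19152], [275, 2, 19370, 19245, 19371], [291, 2, 19370, 19247, 19371], [371, 2, 19370, 19249, 19371], [0, 0], [0, 0], [237, 4, 19204, 19181, 19171, 19152, 19160, 19380, 19382], [70, 1, 19382, 19384], [173, 1, 19384, 19203, 19361], [233, 1, 19384, 19204, 19181, 19313], [275, 2, 19384, 19211, 19385], [291, 2, 19384, 19213, 19385], [371, 2, 19384, 19215, 19385], [372, 1, 19382, 19396, 19383], [292, 1, 19382, 19394, 19383], [276, 1, 19382, 19392, 19383], [0, 0], [0, 0], [239, 5, 19218, 19192, 19171, 19152, 19160, 19380, 19404, 19406], [70, 1, 19406, 19408], [174, 2, 19408, 19232, 19371], [234, 3, 19408, 19232, 19237, 19323],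 [238, 5, 19406, 19408, 19232, 19243, 19144, 19152, 19160], [275, 2, 19408, 19227, 19409], [291, 2, 19408, 19229, 19409], [371, 2, 19408, 19231, 19409], [372, 1, 19406, 19422, 19407], [292, 1, 19406, 19420, 19407], [276, 1, 19406, 19418, 19407], [0, 0], [241, 2, 19252, 19153, 19170, 19430], [0, 0], [243, 3, 19294, 19264, 19161, 19153, 19170, 19430, 19434], [242, 3, 19436, 19303, 19150, 19170], [277, 2, 19436, 19305, 19437], [293, 2, 19436, 19307, 19437], [373, 2, 19436, 19309, 19437], [0, 0], [0, 0], [245, 4, 19264, 19161, 19153, 19170, 19180, 19446, 19448], [78, 1, 19448, 19450], [174, 1, 19450, 19263, 19433], [241, 1, 19450, 19264, 19161, 19310], [277, 2, 19450, 19271, 19451], [293, 2, 19450, 19273, 19451], [373, 2, 19450, 19275, 19451], [374, 1, 19448, 19462, 19449], [294, 1, 19448, 19460, 19449], [278, 1, 19448, 19458, 19449], [0, 0], [0, 0], [247, 5, 19278, 19252, 19153, 19170, 19180, 19446, 19470, 19472], [78, 1, 19472, 19474], [173, 2, 19474, 19292, 19437], [242, 3, 19474, 19292, 19297, 19332], [246, 5, 19472, 19474, 19292, 19303, 19150, 19170, 19180], [0,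 0], [259, 2, 19153, 3485, 19484], [0, 0], [261, 2, 19171, 3485, 19488], [0, 0], [307, 2, 19153, 5760, 19492], [324, 1, 19153, 9125, 19492], [0, 0], [309, 2, 19171, 5760, 19498], [312, 2, 19500, 19176, 18876], [0, 0], [313, 3, 7639, 161, 18574, 19504], [309, 2, 19506, 9129, 19170], [310, 1, 19506, 9839, 19498], [326, 1, 19506, 7639, 19170], [0, 0], [323, 2, 19153, 7638, 19514], [413, 2, 19516, 19495, 19496], [307, 2, 19493, 9838, 19514], [324, 1, 19493, 9843, 19514], [0, 0], [0, 0], [0, 0], [0, 0], [0, 0], [0, 0], [0, 0], [0, 0], [0, 0], [0, 0], [0, 0], [0, 0], [0, 0], [0, 0], [0, 0], [0, 0], [0, 0], [0, 0], [0, 0], [0, 0], [0, 0], [0, 0], [0, 0], [0, 0], [0, 0], [0, 0], [0, 0], [0, 0], [0, 0], [0, 0], [0, 0], [0, 0], [329, 34, 161, 18830, 19524, 19526, 19528, 19530, 19532, 19534, 19536, 19538, 19540, 19542, 19544, 19546, 19548, 19550, 19552, 19554, 19556, 19558, 19560, 19562, 19564, 19566, 19568, 19570, 19572, 19574, 19576, 19578, 19580, 19582, 19584, 19586], [337, 1, 19588, 5913, 19589], [344, 2, 19586, 19588, 161, 1995], [8, 0, 19584, 19593, 1780], [16, 0, 19587,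 19593], [3, 0, 19582, 19595, 1782]]
def dJ52 : List (List ℕ) := [[415, 2, 20678, 5756, 20798], [300, 2, 20800, 20681, 20421], [393, 2, 20800, 20683, 20801], [0, 0], [421, 2, 20678, 7618, 20806], [316, 2, 20808, 20681, 20435], [395, 2, 20808, 20683, 20809], [300, 3, 20803, 20441, 20810], [0, 0], [423, 2, 20764, 7618, 20816], [316, 2, 20818, 20767, 20445], [0, 0], [427, 2, 20764, 20679, 20822], [332, 2, 20824, 20767, 20455], [331, 0, 248, 20459, 20826], [0, 0], [250, 0, 20563, 20561, 20830], [0, 0], [0, 0], [348, 0, 20465, 164, 20836], [399, 0, 20837, 1254, 20836], [0, 0], [37, 1, 20695, 20842], [85, 1, 20843, 5866, 20842], [267, 2, 20843, 1252, 20842], [283, 2, 20843, 1096, 20842], [0, 0], [173, 2, 20542, 20499, 20852], [174, 1, 20532, 20491, 20852], [241, 1, 20552, 20502, 20491, 20852], [242, 3, 20487, 20484, 166, 20852], [277, 2, 20853, 1252, 20852], [0, 0], [77, 1, 20852, 20864], [173, 2, 20540, 20855, 20864], [242, 3, 20032, 20027, 20861, 20864], [277, 2, 20865, 20863, 20864], [0, 0], [93, 2, 20853, 20842, 20874], [0, 0], [95, 3, 20865, 20853, 20842, 20874,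 20878], [94, 2, 20880, 20866, 20842], [267, 2, 20880, 20873, 20881], [0, 0], [97, 3, 20876, 20853, 20842, 20844, 20886], [38, 2, 20888, 20876], [0, 0], [99, 4, 20880, 20865, 20853, 20842, 20844, 20886, 20892], [38, 2, 20894, 20880], [94, 2, 20894, 20883, 20844], [0, 0], [175, 3, 20865, 20853, 20490, 20533, 20900], [70, 2, 20902, 20868], [134, 1, 20902, 20870, 20515], [174, 2, 20902, 20866, 20490], [0, 0], [233, 2, 20876, 20853, 20490, 20910], [0, 0], [235, 3, 20894, 20880, 20865, 20853, 20490, 20910, 20914], [0, 0], [0, 0], [237, 4, 20880, 20865, 20853, 20490, 20494, 20918, 20920], [70, 1, 20920, 20922], [173, 1, 20922, 20879, 20913], [0, 0], [0, 0], [239, 5, 20888, 20876, 20853, 20490, 20494, 20918, 20928, 20930], [70, 1, 20930, 20932], [174, 2, 20932, 20892, 20917], [234, 3, 20932, 20892, 20897, 20903], [238, 5, 20930, 20932, 20892, 20899, 20695, 20490, 20494], [0, 0], [249, 2, 3479, 168, 20942], [0, 0], [255, 2, 20469, 3478, 20946], [256, 2, 20948, 20470, 3481], [0, 0], [265, 2, 20843, 1253, 168, 20952], [281, 1, 20954, 20847, 20850, 20955], [0, 0], [0, 0],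 [0, 0], [313, 3, 7614, 168, 20960, 20962], [309, 2, 20964, 9116, 20852], [326, 1, 20964, 7614, 20852], [0, 0], [0, 0], [0, 0], [0, 0], [0, 0], [0, 0], [0, 0], [0, 0], [0, 0], [0, 0], [0, 0], [0, 0], [0, 0], [0, 0], [0, 0], [0, 0], [0, 0], [0, 0], [0, 0], [0, 0], [0, 0], [0, 0], [0, 0], [0, 0], [0, 0], [0, 0], [0, 0], [0, 0], [0, 0], [0, 0], [0, 0], [0, 0], [329, 33, 20688, 168, 20942, 20972, 20974, 20976, 20978, 20980, 20982, 20984, 20986, 20988, 20990, 20992, 20994, 20996, 20998, 21000, 21002, 21004, 21006, 21008, 21010, 21012, 21014, 21016, 21018, 21020, 21022, 21024, 21026, 21028, 21030, 21032], [295, 2, 21034, 20693, 21035], [344, 1, 21034, 20688, 168], [288, 1, 21032, 21036, 21033], [284, 3, 21030, 21040, 21031], [288, 1, 21028, 21042, 21029], [295, 2, 21026, 21044, 21027], [287, 0, 21024, 21046, 21025], [283, 2, 21022, 21048, 21023], [287, 0, 21020, 21050, 21021], [296, 3, 21018, 21052, 21019], [288, 1, 21016, 21054, 21017], [284, 3, 21014, 21056, 21015], [288, 1, 21012, 21058, 21013], [296, 3, 21010, 21060, 21011], [287, 0, 21008, 21062, 21009], [283, 2,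 21006, 21064, 21007], [287, 0, 21004, 21066, 21005], [295, 2, 21002, 21068, 21003], [288, 1, 21000, 21070, 21001], [284, 3, 20998, 21072, 20999], [288, 1, 20996, 21074, 20997], [295, 2, 20994, 21076, 20995], [287, 0, 20992, 21078, 20993], [283, 2, 20990, 21080, 20991], [287, 0, 20988, 21082, 20989], [295, 2, 20986, 21084, 20987], [288, 1, 20984, 21086, 20985], [0, 0], [0, 0], [0, 0], [0, 0], [0, 0], [0, 0], [0, 0], [0, 0], [0, 0], [0, 0], [0, 0], [0, 0], [0, 0], [0, 0], [0, 0], [0, 0], [0, 0], [0, 0], [0, 0], [0, 0], [0, 0], [0, 0], [0, 0], [0, 0], [0, 0], [0, 0], [0, 0], [0, 0], [0, 0], [0, 0], [0, 0], [0, 0], [0, 0], [0, 0], [345, 45, 20778, 20468, 21090, 21092, 21094, 21096, 21098, 21100, 21102, 21104, 21106, 21108, 21110, 21112, 21114, 21116, 21118, 21120, 21122, 21124, 21126, 21128, 21130, 21132, 21133, 21131, 21129, 21134, 21136, 21138, 21140, 21141, 21139, 21137, 21135, 21128, 21130, 21132, 21142, 21144, 21146, 21148, 21150, 21152, 21154, 21156], [279, 2, 21158, 20781, 21159], [344, 1, 21158, 20784, 245], [360, 1, 21158, 20778, 168], [375, 2, 21158, 20782,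 21159], [368, 1, 21156, 21166, 21157], [364, 3, 21154, 21168, 21155], [368, 1, 21152, 21170, 21153], [375, 2, 21150, 21172, 21151], [272, 1, 21156, 21160, 21157], [268, 3, 21154, 21176, 21155], [272, 1, 21152, 21178, 21153], [279, 2, 21150, 21180, 21151], [0, 0], [0, 0], [0, 0], [0, 0], [0, 0], [0, 0], [0, 0], [0, 0]]
def dJ56 : List (List ℕ) := [[233, 1, 22394, 22013, 21534, 21931], [275, 2, 22394, 22017, 22395], [291, 2, 22394, 22019, 22395], [371, 2, 22394, 22021, 22395], [0, 0], [211, 3, 21861, 21849, 21845, 21843, 9085, 21956, 22408], [86, 1, 22410, 21918, 21943], [210, 3, 22410, 21893, 21895, 9085], [301, 2, 22410, 21987, 21979], [318, 1, 22410, 21989, 21979], [0, 0], [0, 0], [213, 4, 21849, 21845, 21843, 9085, 9784, 22420, 22422], [46, 1, 22422, 22424], [85, 2, 22424, 21883, 21937], [86, 1, 22424, 21906, 21951], [88, 5, 21953, 21951, 22430, 22424, 22426], [318, 1, 22424, 21971, 21953], [365, 2, 22424, 21859, 22425], [366, 1, 22422, 22436, 22423], [317, 2, 21950, 22434, 22423], [395, 2, 22440, 21959, 22441], [405, 2, 22440, 21961, 22441], [413, 2, 22440,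 21964, 21967], [300, 1, 22432, 21968, 21883], [315, 2, 22432, 21970, 21883], [0, 0], [215, 4, 21942, 21915, 21903, 21843, 9085, 9784, 22420, 22452], [86, 1, 22454, 21980, 21975], [210, 3, 22454, 22412, 22415, 9784], [302, 1, 22454, 21985, 21979], [317, 2, 22454, 21991, 21979], [0, 0], [217, 2, 9084, 5733, 22296, 22464], [54, 2, 22466, 7422], [303, 2, 22466, 9081, 22296], [320, 1, 22466, 7607, 22296], [0, 0], [219, 3, 9785, 9084, 5733, 5733, 22296, 22464, 22474], [125, 1, 22476, 5748, 22477], [304, 1, 22476, 5729, 22296], [319, 2, 22476, 9086, 22296], [0, 0], [237, 3, 22024, 21916, 21891, 21881, 22302, 22318, 22484], [70, 2, 22486, 22024], [173, 1, 22486, 22050, 22047], [238, 5, 22486, 22024, 21921, 21902, 21907, 21850, 21537], [275, 2, 22486, 22029, 22487], [291, 2, 22486, 22031, 22487], [371, 2, 22486, 22033, 22487], [0, 0], [241, 2, 22334, 22303, 21880, 22500], [277, 2, 22502, 22337, 22503], [293, 2, 22502, 22339, 22503], [373, 2, 22502, 22341, 22503], [0, 0], [243, 3, 22376, 22346, 22319, 22303, 21880, 22500, 22510], [242, 3, 22512, 22385, 175, 21880], [0, 0],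 [0, 0], [245, 4, 22346, 22319, 22303, 21880, 21890, 22516, 22518], [78, 1, 22518, 22520], [174, 1, 22520, 22345, 22503], [241, 1, 22520, 22346, 22319, 22304], [277, 2, 22520, 22353, 22521], [293, 2, 22520, 22355, 22521], [373, 2, 22520, 22357, 22521], [374, 1, 22518, 22532, 22519], [294, 1, 22518, 22530, 22519], [278, 1, 22518, 22528, 22519], [0, 0], [0, 0], [247, 5, 22360, 22334, 22303, 21880, 21890, 22516, 22540, 22542], [78, 1, 22542, 22544], [242, 3, 22544, 22374, 22379, 22392], [246, 5, 22542, 22544, 22374, 22385, 175, 21880, 21890], [277, 2, 22544, 22369, 22545], [293, 2, 22544, 22371, 22545], [373, 2, 22544, 22373, 22545], [374, 1, 22542, 22556, 22543], [294, 1, 22542, 22554, 22543], [278, 1, 22542, 22552, 22543], [0, 0], [249, 2, 3472, 22073, 22564], [0, 0], [253, 2, 9084, 3473, 22568], [251, 1, 22570, 7421, 22061], [0, 0], [259, 2, 22303, 3473, 22574], [0, 0], [261, 2, 21881, 3473, 22578], [0, 0], [265, 2, 21843, 1246, 22073, 22582], [266, 3, 22584, 21847, 21844, 22054], [0, 0], [281, 2, 9084, 1090, 22073, 22588], [0, 0], [297, 2, 5748, 5729, 22073, 22592],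 [282, 3, 22594, 5634, 5858, 22073], [0, 0], [307, 2, 22303, 5728, 22598], [324, 1, 22303, 9087, 22598], [0, 0], [313, 2, 21957, 7607, 22073, 22604], [265, 1, 22606, 21955, 21938, 22081], [279, 2, 22606, 21959, 22607], [295, 2, 22606, 21961, 22607], [375, 2, 22606, 21963, 22607], [0, 0], [323, 2, 22303, 7606, 22616], [413, 2, 22618, 22601, 22602], [0, 0], [0, 0], [0, 0], [0, 0], [0, 0], [0, 0], [0, 0], [0, 0], [0, 0], [0, 0], [0, 0], [0, 0], [0, 0], [0, 0], [0, 0], [0, 0], [0, 0], [0, 0], [0, 0], [0, 0], [0, 0], [0, 0], [0, 0], [0, 0], [0, 0], [0, 0], [0, 0], [0, 0], [0, 0], [0, 0], [0, 0], [329, 33, 22154, 22073, 22564, 22622, 22624, 22626, 22628, 22630, 22632, 22634, 22636, 22638, 22640, 22642, 22644, 22646, 22648, 22650, 22652, 22654, 22656, 22658, 22660, 22662, 22664, 22666, 22668, 22670, 22672, 22674, 22676, 22678, 22680, 22682], [344, 1, 22684, 22154, 22073], [0, 0], [339, 2, 22303, 22155, 22688], [0, 0], [341, 2, 21881, 22155, 22692], [0, 0], [0, 0], [0, 0], [0, 0], [0, 0], [0, 0], [0, 0], [0, 0], [0, 0], [0, 0], [0, 0], [0, 0], [0, 0], [0, 0], [0, 0], [0,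 0], [0, 0], [0, 0], [0, 0], [0, 0], [0, 0], [0, 0], [0, 0], [0, 0], [0, 0], [0, 0], [0, 0], [0, 0], [0, 0], [0, 0], [0, 0], [0, 0], [0, 0], [0, 0], [345, 45, 22246, 22296, 22696, 22698, 22700, 22702, 22704, 22706, 22708, 22710, 22712, 22714, 22716, 22718, 22720, 22722, 22724, 22726, 22728, 22730, 22732, 22734, 22736, 22738, 22739, 22737, 22735, 22740, 22742, 22744, 22746, 22747, 22745, 22743, 22741, 22734, 22736, 22738, 22748, 22750, 22752, 22754, 22756, 22758, 22760, 22762], [295, 2, 22764, 22249, 22765], [360, 1, 22764, 22246, 22073], [288, 1, 22762, 22766, 22763], [284, 3, 22760, 22770, 22761], [288, 1, 22758, 22772, 22759], [295, 2, 22756, 22774, 22757], [0, 0], [349, 2, 9084, 22247, 22778], [347, 1, 22780, 7421, 22255], [0, 0], [355, 2, 22303, 22247, 22784], [0, 0], [357, 2, 21881, 22247, 22788], [0, 0], [0, 0], [0, 0], [0, 0]]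
def dJ60 : List (List ℕ) := [[225, 1, 23994, 23779, 23627, 5713], [273, 2, 23994, 23785, 23995], [289, 2, 23994, 23787, 23995], [369, 2, 23994, 23789, 23995], [370, 1, 23992, 24006, 23993], [290, 1, 23992, 24004, 23993], [274, 1, 23992, 24002, 23993], [307, 2, 23757, 5703, 24000], [324, 1, 23757, 9066, 24000], [321, 2, 23992, 24016, 23963], [414, 3, 23972, 23971, 24018], [308, 1, 23631, 9072, 23990], [323, 2, 23631, 7602, 23990], [0, 0], [0, 0], [231, 5, 23767, 23757, 179, 5716, 9466, 23990, 24026, 24028], [62, 1, 24028, 24030], [125, 2, 24030, 23793, 23977], [230, 5, 24028, 24030, 23793, 23795, 23640, 5716, 9466], [273, 2, 24030, 23773, 24031], [289, 2, 24030, 23775, 24031], [369, 2, 24030, 23777, 24031], [370, 1, 24028, 24042, 24029], [290, 1, 24028, 24040, 24029], [274, 1, 24028, 24038, 24029], [307, 0, 23640, 9072, 24036], [308, 3, 23979, 9772, 24036], [323, 0, 23979, 9432, 24036], [324, 3, 23640, 7602, 24036], [322, 3, 24029, 24054, 23976], [305, 0, 24029, 24052, 23976], [0, 0], [233, 2, 23696, 23149, 23630, 24062], [275, 2, 24064, 23701, 24065], [291, 2,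 24064, 23703, 24065], [371, 2, 24064, 23705, 24065], [0, 0], [235, 3, 23732, 23708, 23649, 23149, 23630, 24062, 24072], [234, 3, 24074, 23737, 23622, 23630], [275, 2, 24074, 23739, 24075], [291, 2, 24074, 23741, 24075], [371, 2, 24074, 23743, 24075], [0, 0], [0, 0], [237, 4, 23708, 23649, 23149, 23630, 23638, 24084, 24086], [70, 1, 24086, 24088], [173, 1, 24088, 23707, 24065], [233, 1, 24088, 23708, 23649, 23807], [275, 2, 24088, 23713, 24089], [291, 2, 24088, 23715, 24089], [371, 2, 24088, 23717, 24089], [372, 1, 24086, 24100, 24087], [292, 1, 24086, 24098, 24087], [276, 1, 24086, 24096, 24087], [0, 0], [0, 0], [239, 5, 23720, 23696, 23149, 23630, 23638, 24084, 24108, 24110], [70, 1, 24110, 24112], [174, 2, 24112, 23730, 24075], [234, 3, 24112, 23730, 23735, 23817], [238, 5, 24110, 24112, 23730, 23737, 23622, 23630, 23638], [275, 2, 24112, 23725, 24113], [291, 2, 24112, 23727, 24113], [371, 2, 24112, 23729, 24113], [372, 1, 24110, 24126, 24111], [292, 1, 24110, 24124, 24111], [276, 1, 24110, 24122, 24111], [0, 0], [241, 2, 23758, 23631, 23148, 24134], [277, 2,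 24136, 23761, 24137], [293, 2, 24136, 23763, 24137], [373, 2, 24136, 23765, 24137], [0, 0], [243, 3, 23792, 23768, 23639, 23631, 23148, 24134, 24144], [242, 3, 24146, 23797, 23628, 23148], [277, 2, 24146, 23799, 24147], [293, 2, 24146, 23801, 24147], [373, 2, 24146, 23803, 24147], [0, 0], [0, 0], [245, 4, 23768, 23639, 23631, 23148, 23648, 24156, 24158], [78, 1, 24158, 24160], [174, 1, 24160, 23767, 24137], [241, 1, 24160, 23768, 23639, 23804], [277, 2, 24160, 23773, 24161], [293, 2, 24160, 23775, 24161], [373, 2, 24160, 23777, 24161], [374, 1, 24158, 24172, 24159], [294, 1, 24158, 24170, 24159], [278, 1, 24158, 24168, 24159], [0, 0], [0, 0], [247, 5, 23780, 23758, 23631, 23148, 23648, 24156, 24180, 24182], [78, 1, 24182, 24184], [173, 2, 24184, 23790, 24147], [242, 3, 24184, 23790, 23795, 23826], [246, 5, 24182, 24184, 23790, 23797, 23628, 23148, 23648], [277, 2, 24184, 23785, 24185], [293, 2, 24184, 23787, 24185], [373, 2, 24184, 23789, 24185], [374, 1, 24182, 24198, 24183], [294, 1, 24182, 24196, 24183], [278, 1, 24182, 24194, 24183], [0, 0], [251, 2, 23137,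 3469, 24206], [263, 1, 24208, 23138, 23125], [0, 0], [253, 2, 9065, 3469, 24212], [263, 1, 24214, 7425, 23129], [0, 0], [257, 2, 5717, 3469, 24218], [254, 2, 24220, 5718, 3469], [263, 1, 24220, 5583, 23571], [0, 0], [259, 2, 23631, 3469, 24226], [0, 0], [261, 2, 23149, 3469, 24230], [0, 0], [0, 0], [265, 2, 23137, 1242, 18913, 24236], [250, 1, 24238, 23138, 23125], [0, 0], [281, 2, 9065, 1086, 18913, 24242], [328, 1, 24244, 7603, 18913], [0, 0], [313, 2, 23853, 7603, 18913, 24248], [0, 0], [0, 0], [0, 0], [0, 0], [0, 0], [0, 0], [0, 0], [0, 0], [0, 0], [0, 0], [0, 0], [0, 0], [0, 0], [0, 0], [0, 0], [0, 0], [0, 0], [0, 0], [0, 0], [0, 0], [0, 0], [0, 0], [0, 0], [0, 0], [0, 0], [0, 0], [0, 0], [329, 33, 23227, 18913, 18887, 3357, 3355, 3353, 21552, 24252, 24254, 24256, 24258, 24260, 24262, 24264, 24266, 24268, 24270, 24272, 24274, 24276, 24278, 24280, 24282, 24284, 24286, 24288, 24290, 24292, 24294, 24296, 24298, 24300, 24302, 24304], [250, 1, 24306, 23220, 23577], [344, 1, 24306, 23227, 18913], [335, 2, 18889, 24310, 24305], [331, 0, 24302, 24312, 18890], [335,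 2, 18893, 24314, 24301], [344, 1, 24298, 24316, 23164], [336, 3, 23167, 24318, 24297], [332, 1, 24294, 24320, 23168], [336, 3, 23171, 24322, 24293], [343, 0, 24290, 24324, 23172], [335, 2, 23175, 24326, 24289], [331, 0, 24286, 24328, 23176], [335, 2, 23179, 24330, 24285], [343, 0, 24282, 24332, 23287], [336, 3, 16936, 24334, 24281], [428, 2, 19095, 16932, 24334], [351, 0, 24280, 24338, 16944], [427, 2, 24338, 16943, 2285], [335, 0, 2069, 24342, 24281], [344, 1, 2066, 24342, 24282], [336, 3, 24285, 24346, 2065], [332, 1, 2062, 24348, 24286], [336, 3, 24289, 24350, 2061], [344, 1, 2058, 24352, 24290], [428, 0, 24354, 15237, 15244], [351, 2, 3212, 24356, 24292], [347, 0, 24295, 24358, 3211], [351, 2, 3208, 24360, 24296], [428, 1, 15241, 15248, 24360], [359, 0, 24299, 24362, 3207], [352, 3, 3204, 24366, 24300], [348, 1, 24303, 24368, 3203], [352, 3, 3200, 24370, 24304], [331, 2, 24278, 24344, 2070], [335, 0, 2073, 24374, 24277], [427, 3, 15787, 2281, 24374], [428, 1, 24378, 19099, 15770], [336, 3, 15774, 24380, 24277], [344, 1, 24274, 24382, 15279], [428, 2, 19103,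 14758, 24384], [427, 2, 24386, 14767, 2277], [336, 1, 2085, 24388, 24273], [332, 3, 24270, 24390, 2086], [336, 1, 2089, 24392, 24269], [427, 3, 13401, 2273, 24392], [352, 1, 24268, 24396, 13402]]
def dJ64 : List (List ℕ) := [[287, 0, 25566, 25598, 25567], [296, 3, 25564, 25600, 25565], [288, 1, 25562, 25602, 25563], [284, 3, 25560, 25604, 25561], [288, 1, 25558, 25606, 25559], [296, 3, 25556, 25608, 25557], [287, 0, 25554, 25610, 25555], [283, 2, 25552, 25612, 25553], [287, 0, 25550, 25614, 25551], [295, 2, 25548, 25616, 25549], [288, 1, 25546, 25618, 25547], [284, 3, 25544, 25620, 25545], [288, 1, 25542, 25622, 25543], [125, 1, 25519, 25456, 25518], [217, 1, 25519, 25454, 25456, 25518], [85, 3, 25521, 25628, 25520], [201, 3, 25630, 25521, 25626, 25520], [0, 0], [337, 2, 5711, 23248, 25634], [332, 2, 25636, 5587, 25047], [416, 1, 25636, 5621, 23248], [421, 2, 25636, 9480, 23248], [422, 0, 9493, 23612, 25642], [0, 0], [341, 2, 24671, 23248, 25646], [332, 2, 25648, 24675, 25059], [0, 0], [0, 0], [0, 0], [0, 0], [0, 0], [0, 0], [0, 0], [0, 0], [0, 0], [0, 0], [0,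 0], [0, 0], [0, 0], [0, 0], [0, 0], [0, 0], [0, 0], [0, 0], [0, 0], [0, 0], [0, 0], [0, 0], [0, 0], [0, 0], [0, 0], [0, 0], [0, 0], [0, 0], [0, 0], [0, 0], [0, 0], [0, 0], [0, 0], [0, 0], [345, 45, 23421, 182, 25652, 25654, 25656, 25658, 25660, 25662, 25664, 25666, 25668, 25670, 25672, 25674, 25676, 25678, 25680, 25682, 25684, 25686, 25688, 25690, 25692, 25694, 25695, 25693, 25691, 25696, 25698, 25700, 25702, 25703, 25701, 25699, 25697, 25690, 25692, 25694, 25704, 25706, 25708, 25710, 25712, 25714, 25716, 25718], [266, 3, 25720, 23402, 23372, 25129], [360, 1, 25720, 23421, 25442], [0, 0], [353, 2, 5711, 23420, 25726], [423, 2, 25728, 9480, 23420], [0, 0], [357, 2, 24671, 23420, 25732], [348, 2, 25734, 24675, 25139], [0, 0], [0, 0], [0, 0], [0, 0], [0, 0], [0, 0], [0, 0], [0, 0], [0, 0], [0, 0], [0, 0], [0, 0], [0, 0], [0, 0], [0, 0], [361, 18, 25711, 25709, 25707, 25705, 25695, 25693, 25691, 25689, 25687, 25685, 25683, 25681, 25679, 25677, 25675, 25673, 25671, 25669, 25667, 25665, 25663, 25661, 25659, 25657, 25655, 25653, 183, 536, 182, 19708, 19710, 25738, 25740,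 25742, 25744, 25746, 25748, 25750, 25752, 25754, 25756, 25758, 25760, 25762, 25764, 25766], [46, 1, 25740, 25742], [0, 0], [383, 2, 7487, 3457, 25772], [258, 2, 25774, 9468, 3457], [0, 0], [387, 2, 23421, 3457, 25778], [252, 2, 25780, 23372, 25149], [0, 0], [421, 2, 23249, 7486, 25784], [422, 2, 25786, 23613, 7235], [337, 3, 25644, 9461, 25788], [0, 0], [423, 2, 23421, 7486, 25792], [316, 2, 25794, 23372, 25155], [322, 2, 25794, 25726, 25731], [421, 1, 25794, 23416, 7800], [0, 0], [427, 2, 23421, 23248, 25802], [332, 2, 25804, 23372, 25161], [331, 0, 257, 25165, 25806], [0, 0], [250, 0, 25445, 25443, 25810], [279, 0, 25811, 1238, 25810], [295, 0, 25811, 1082, 25810], [265, 3, 25815, 25811, 181, 25166], [281, 3, 25817, 25811, 5307, 25810], [201, 3, 25820, 25819, 25171, 25818], [0, 0], [252, 0, 25173, 180, 25824], [377, 3, 25825, 1239, 25824], [0, 0], [348, 0, 25177, 180, 25830], [0, 0], [37, 1, 25653, 25834], [283, 2, 25835, 1080, 25834], [0, 0], [173, 2, 25396, 25257, 25840], [174, 1, 25372, 25243, 25840], [241, 1, 25420, 25266, 25243, 25840], [242, 3, 25207, 25204,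 182, 25840], [277, 2, 25841, 1236, 25840], [293, 2, 25841, 1080, 25840], [373, 2, 25841, 534, 25840], [0, 0], [77, 1, 25840, 25856], [173, 2, 25394, 25843, 25856], [242, 3, 24874, 24869, 25849, 25856], [277, 2, 25857, 25851, 25856], [293, 2, 25857, 25853, 25856], [373, 2, 25857, 25855, 25856], [0, 0], [85, 2, 5714, 25834, 25870], [300, 1, 25872, 5618, 25834], [315, 2, 25872, 9539, 25834], [0, 0], [87, 3, 9530, 5714, 25834, 25870, 25878], [86, 2, 25880, 9532, 25834], [315, 2, 25880, 9478, 25873], [0, 0], [89, 3, 25872, 5714, 25834, 25836, 25886], [38, 2, 25888, 25872], [0, 0], [91, 4, 25880, 9530, 5714, 25834, 25836, 25886, 25892], [38, 2, 25894, 25880], [86, 2, 25894, 25883, 25836], [0, 0], [93, 2, 25841, 25834, 25900], [267, 2, 25902, 25851, 25903], [283, 2, 25902, 25853, 25903], [363, 2, 25902, 25855, 25903], [0, 0], [95, 3, 25857, 25841, 25834, 25900, 25910], [94, 2, 25912, 25858, 25834], [267, 2, 25912, 25865, 25913], [283, 2, 25912, 25867, 25913], [363, 2, 25912, 25869, 25913], [0, 0], [97, 3, 25902, 25841, 25834, 25836, 25922], [38, 2, 25924, 25902], [267,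 2, 25924, 25905, 25925], [283, 2, 25924, 25907, 25925], [363, 2, 25924, 25909, 25925], [0, 0], [99, 4, 25912, 25857, 25841, 25834, 25836, 25922, 25934], [38, 2, 25936, 25912], [94, 2, 25936, 25915, 25836], [267, 2, 25936, 25917, 25937], [283, 2, 25936, 25919, 25937], [363, 2, 25936, 25921, 25937], [0, 0], [175, 3, 25857, 25841, 25242, 25373, 25948], [70, 2, 25950, 25860], [134, 1, 25950, 25862, 25293], [174, 2, 25950, 25858, 25242], [275, 2, 25950, 25865, 25951], [291, 2, 25950, 25867, 25951], [371, 2, 25950, 25869, 25951], [0, 0], [209, 2, 25901, 25835, 5715, 25964], [269, 2, 25966, 25905, 25967], [285, 2, 25966, 25907, 25967], [365, 2, 25966, 25909, 25967], [309, 2, 25841, 5619, 25964], [326, 1, 25841, 9538, 25964], [0, 0], [211, 3, 25935, 25923, 25837, 25835, 5715, 25964, 25978], [210, 3, 25980, 25939, 25858, 5715], [269, 2, 25980, 25943, 25981], [285, 2, 25980, 25945, 25981], [365, 2, 25980, 25947, 25981], [310, 3, 25858, 5619, 25982], [325, 0, 25858, 9538, 25982], [0, 0], [0, 0], [213, 4, 25923, 25837, 25835, 5715, 9531, 25994, 25996]]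
def dJ68 : List (List ℕ) := [[363, 0, 27195, 26487, 27194], [367, 2, 27178, 27200, 27179], [376, 1, 27176, 27202, 27177], [368, 3, 27174, 27204, 27175], [364, 1, 27172, 27206, 27173], [368, 3, 27170, 27208, 27171], [375, 0, 27168, 27210, 27169], [367, 2, 27158, 27212, 27159], [363, 0, 27156, 27214, 27157], [367, 2, 27154, 27216, 27155], [375, 0, 27161, 27218, 27160], [368, 3, 27163, 27220, 27162], [364, 1, 27165, 27222, 27164], [368, 3, 27167, 27224, 27166], [352, 1, 27178, 27198, 26338], [399, 2, 27229, 26466, 27228], [280, 1, 27176, 27230, 27177], [272, 3, 27174, 27232, 27175], [268, 1, 27172, 27234, 27173], [272, 3, 27170, 27236, 27171], [279, 0, 27168, 27238, 27169], [271, 2, 27158, 27240, 27159], [267, 0, 27156, 27242, 27157], [271, 2, 27154, 27244, 27155], [279, 0, 27161, 27246, 27160], [272, 3, 27163, 27248, 27162], [251, 0, 26245, 26625, 27116], [255, 2, 27119, 27252, 26246], [264, 1, 26249, 27254, 27120], [256, 3, 27123, 27256, 26250], [252, 1, 26253, 27258, 27124], [256, 3, 27127, 27260, 26254], [249, 1, 26257, 27262, 27128], [0, 0], [347, 2, 26609, 27187,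 27266], [360, 2, 27268, 26610, 26471], [0, 0], [349, 2, 5607, 27187, 27272], [360, 2, 27274, 5591, 26477], [423, 2, 27274, 9540, 27187], [0, 0], [351, 2, 26621, 27187, 27280], [0, 0], [355, 2, 26627, 27187, 27284], [0, 0], [357, 2, 26633, 27187, 27288], [0, 0], [0, 0], [0, 0], [0, 0], [0, 0], [0, 0], [0, 0], [0, 0], [0, 0], [0, 0], [0, 0], [0, 0], [0, 0], [0, 0], [0, 0], [0, 0], [0, 0], [361, 18, 27175, 27173, 27171, 27169, 27159, 27157, 27155, 27153, 27151, 27149, 27147, 27145, 27143, 27141, 27139, 27137, 27135, 27133, 27131, 27129, 27127, 27125, 27123, 27121, 27119, 27117, 26621, 532, 26620, 27292, 27294, 27296, 27298, 27300, 27302, 27304, 27306, 27308, 27310, 27312, 27314, 27316, 27318, 27320, 27322, 27324], [46, 1, 27298, 27300], [0, 0], [383, 2, 7483, 3453, 27330], [249, 2, 27332, 7433, 26235], [0, 0], [385, 2, 27004, 3453, 27336], [249, 2, 27338, 27013, 23213], [386, 2, 27338, 27028, 3048], [0, 0], [421, 2, 27004, 7482, 27344], [318, 2, 27346, 27094, 27101], [0, 0], [423, 2, 27186, 7482, 27350], [318, 2, 27352, 27272, 27279], [328, 2, 27352, 27193, 26587],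 [421, 1, 27352, 27197, 7796], [0, 0], [427, 2, 27186, 27005, 27360], [344, 2, 27362, 27193, 26595], [343, 0, 261, 26599, 27364], [0, 0], [250, 3, 26601, 184, 27368], [250, 0, 19709, 184, 27368], [279, 0, 27369, 1234, 27368], [0, 0], [249, 0, 27371, 27369, 27376], [0, 0], [360, 0, 26605, 184, 27380], [0, 0], [37, 1, 188, 27384], [0, 0], [0, 0], [0, 0], [91, 4, 7437, 9552, 5597, 188, 27384, 27390, 27392], [38, 2, 27394, 7437], [0, 0], [93, 2, 27389, 188, 27398], [341, 2, 6535, 748, 27398], [340, 2, 27402, 8605, 8610], [233, 1, 7436, 27404, 27400, 27389, 26732], [8, 0, 26736, 27406, 7435], [7, 0, 26735, 27406, 26850], [10, 0, 26738, 27406, 7474], [9, 0, 27408, 26740, 27406, 7475], [12, 0, 26743, 27406, 27414, 26934], [12, 0, 26732, 27406, 27414], [14, 0, 26902, 27406, 27414, 26788], [4, 0, 26855, 27409, 26665], [3, 0, 26863, 27409, 26684], [2, 0, 27415, 27412, 27411], [12, 0, 26629, 27409, 26934, 27416], [11, 0, 26626, 27409, 27418], [14, 0, 26747, 27409, 26788], [13, 0, 26755, 27409, 26824], [18, 0, 26922, 27409, 27333], [23, 0, 27429, 27417, 26939, 27409, 9534],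 [2, 0, 27438, 27429, 27417], [28, 0, 27110, 27409, 27344], [30, 0, 27286, 27409, 27350], [6, 0, 26852, 27426, 9543], [4, 0, 7437, 27414, 26665], [3, 0, 27397, 27414, 26684], [5, 0, 9553, 27414, 9551], [27, 0, 7440, 27414, 7472], [12, 0, 26934, 27440], [12, 0, 26904, 27421, 27432, 26759], [11, 0, 26857, 27423, 27448, 27404], [13, 0, 26873, 27423, 27448], [14, 0, 26885, 27425], [14, 0, 27458, 26894, 27428, 27439, 26766], [4, 0, 189, 27430, 26608], [3, 0, 27386, 27430, 26617], [11, 0, 27418, 27430], [18, 0, 3385, 27430, 3453], [27, 0, 2294, 27430, 2308], [5, 0, 26794, 27432], [6, 0, 26791, 27432], [15, 0, 26807, 27432], [23, 0, 26808, 27432], [26, 0, 26810, 27432], [5, 0, 26818, 27434], [6, 0, 26815, 27434], [15, 0, 26832, 27434], [25, 0, 26837, 27434], [26, 0, 26843, 27434], [16, 0, 27334, 27436], [18, 0, 27333, 27436], [4, 0, 26865, 27439, 26651], [3, 0, 26889, 27439, 26676], [11, 0, 26631, 27439], [13, 0, 26765, 27439, 26780], [5, 0, 27348, 27442], [26, 0, 27347, 27442], [28, 0, 27344, 27442], [5, 0, 27354, 27444], [15, 0, 27356, 27444], [28, 0, 27358, 27444],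 [3, 0, 27117, 27447, 26617], [8, 0, 26620, 27447], [16, 0, 27293, 27447, 185], [18, 0, 26625, 27447, 3453], [28, 0, 27106, 27447, 27005], [30, 0, 27282, 27447, 27187], [4, 0, 26665, 27448], [5, 0, 26662, 27448, 9601], [4, 0, 27395, 27451], [16, 0, 19020, 27453, 5591], [27, 0, 5602, 27453, 5604], [8, 0, 6932, 27454], [15, 0, 6935, 27454], [27, 0, 7472, 27454], [30, 0, 7788, 27454, 7786], [11, 0, 27404, 27460], [28, 0, 27403, 27460], [3, 0, 26797, 27466], [6, 0, 26769, 27466], [14, 0, 26766, 27466], [15, 0, 26770, 27466], [25, 0, 26773, 27466], [4, 0, 26608, 27468], [13, 0, 26691, 27468], [14, 0, 26703, 27468], [15, 0, 26611, 27468], [18, 0, 26908, 27468, 3376], [27, 0, 27090, 27468], [29, 0, 27268, 27468], [4, 0, 27384, 27471], [27, 0, 3381, 27475, 3383], [27, 0, 2308, 27476], [30, 0, 2298, 27476, 2296], [11, 0, 26870, 27503, 27537], [12, 0, 26867, 27503, 27537], [11, 0, 26882, 27505], [12, 0, 26879, 27505], [4, 0, 26821, 27508], [6, 0, 26779, 27508]]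
def dJ72 : List (List ℕ) := [[0, 0], [177, 3, 27553, 27569, 27814, 27816, 28800], [70, 2, 28802, 27553], [225, 2, 28802, 6917, 8729, 2018], [236, 6, 28802, 27462, 27823, 27826, 26887, 26763, 27596], [324, 1, 28802, 6921, 27814], [340, 1, 28802, 8611, 8741], [317, 1, 27802, 27834, 28810], [318, 2, 27605, 27832, 28810], [281, 2, 28816, 26646, 26775, 26037], [0, 0], [213, 4, 26633, 26617, 27580, 4918, 9600, 27462, 28820], [85, 2, 28822, 26693, 27559], [86, 1, 28822, 26712, 26793], [209, 1, 28822, 26633, 26617, 26672], [302, 1, 28822, 27485, 27478], [317, 2, 28822, 27487, 27478], [0, 0], [229, 4, 2019, 27807, 27805, 4920, 9602, 28803, 28834], [338, 1, 28836, 2020, 4482], [342, 2, 27859, 8756, 28838], [358, 1, 28840, 27863, 15262], [0, 0], [231, 5, 28777, 28769, 27805, 4920, 9602, 28803, 28805, 28844], [125, 2, 28846, 28791, 28798], [338, 1, 28846, 28785, 8691], [341, 1, 28797, 982, 28850], [422, 1, 28797, 984, 28850], [0, 0], [241, 2, 28770, 27815, 27568, 28856], [78, 2, 28858, 28773], [173, 2, 28858, 28776, 28783], [342, 1, 28858, 28775, 1623], [338, 2, 27708, 8747,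 28864], [0, 0], [243, 3, 28790, 28778, 27817, 27815, 27568, 28856, 28868], [78, 2, 28870, 28853], [173, 2, 28870, 28795, 2022], [174, 1, 28870, 28789, 6928], [326, 1, 28870, 28855, 28852], [342, 1, 28870, 28797, 966], [326, 1, 28872, 28879, 28871], [321, 3, 28882, 28845, 26803], [0, 0], [253, 2, 4919, 3376, 28886], [251, 1, 28888, 27620, 26915], [255, 1, 28888, 4915, 4194], [381, 1, 28888, 4925, 3376], [0, 0], [259, 2, 27815, 3376, 28896], [255, 1, 28898, 27818, 4200], [0, 0], [261, 2, 27569, 3376, 28902], [0, 0], [0, 0], [0, 0], [0, 0], [0, 0], [0, 0], [0, 0], [0, 0], [0, 0], [0, 0], [0, 0], [0, 0], [0, 0], [0, 0], [0, 0], [0, 0], [0, 0], [0, 0], [0, 0], [0, 0], [0, 0], [0, 0], [0, 0], [0, 0], [0, 0], [0, 0], [0, 0], [0, 0], [0, 0], [0, 0], [329, 32, 27092, 27577, 27572, 26227, 28906, 28908, 28910, 28912, 28914, 28916, 28918, 28920, 28922, 28924, 28926, 28928, 28930, 28932, 28934, 28936, 28938, 28940, 28942, 28944, 28946, 28948, 28950, 28952, 28954, 28956, 28958, 28960, 28962, 28964], [0, 0], [331, 2, 27580, 27576, 28968], [0, 0], [333, 2, 4919, 27576, 28972],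 [335, 1, 28974, 4915, 19126], [422, 1, 28974, 9594, 28257], [421, 1, 8755, 28249, 28978], [0, 0], [335, 2, 27805, 27576, 28982], [334, 2, 28984, 27850, 27874], [421, 2, 28984, 27856, 27874], [422, 0, 8625, 28262, 28988], [0, 0], [339, 2, 27815, 27576, 28992], [342, 2, 28994, 27820, 28257], [341, 0, 8607, 28249, 28996], [0, 0], [341, 2, 27569, 27576, 29000], [340, 2, 29002, 27552, 28257], [339, 0, 8605, 28249, 29004], [0, 0], [0, 0], [0, 0], [0, 0], [0, 0], [0, 0], [0, 0], [0, 0], [0, 0], [0, 0], [0, 0], [0, 0], [0, 0], [0, 0], [0, 0], [0, 0], [0, 0], [0, 0], [0, 0], [0, 0], [0, 0], [0, 0], [0, 0], [0, 0], [0, 0], [0, 0], [0, 0], [0, 0], [0, 0], [0, 0], [0, 0], [0, 0], [0, 0], [345, 44, 27270, 27579, 27804, 29008, 29010, 29012, 29014, 29016, 29018, 29020, 29022, 29024, 29026, 29028, 29030, 29032, 29034, 29036, 29038, 29040, 29042, 29044, 29046, 29048, 29050, 29051, 29049, 29047, 29052, 29054, 29056, 29058, 29059, 29057, 29055, 29053, 29046, 29048, 29050, 29060, 29062, 29064, 29066, 29068, 29070, 29072], [287, 2, 29074, 26473, 29075], [283, 0, 29072, 29076, 29073],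 [287, 2, 29070, 29078, 29071], [296, 1, 29068, 29080, 29069], [0, 0], [347, 2, 27580, 27578, 29084], [0, 0], [349, 2, 4919, 27578, 29088], [423, 2, 29090, 9598, 27578], [0, 0], [351, 2, 27805, 27578, 29094], [352, 2, 29096, 27806, 2488], [387, 2, 29096, 27808, 14557], [351, 0, 19846, 23565, 29098], [0, 0], [355, 2, 27815, 27578, 29104], [0, 0], [357, 2, 27569, 27578, 29108], [0, 0], [0, 0], [0, 0], [0, 0], [0, 0], [0, 0], [0, 0], [0, 0], [0, 0], [0, 0], [0, 0], [0, 0], [0, 0], [0, 0], [0, 0], [0, 0], [0, 0], [361, 18, 29067, 29065, 29063, 29061, 29051, 29049, 29047, 29045, 29043, 29041, 29039, 29037, 29035, 29033, 29031, 29029, 29027, 29025, 29023, 29021, 29019, 29017, 29015, 29013, 29011, 29009, 27805, 526, 27804, 29112, 29114, 29116, 29118, 29120, 29122, 29124, 29126, 29128, 29130, 29132, 29134, 29136, 29138, 29140, 29142, 29144], [295, 2, 29146, 29082, 29147], [287, 0, 29144, 29148, 29145], [283, 2, 29142, 29150, 29143], [287, 0, 29140, 29152, 29141], [296, 3, 29138, 29154, 29139], [288, 1, 29136, 29156, 29137], [284, 3, 29134, 29158, 29135], [288, 1, 29132,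 29160, 29133], [296, 3, 29130, 29162, 29131], [287, 0, 29128, 29164, 29129], [283, 2, 29126, 29166, 29127], [287, 0, 29124, 29168, 29125], [289, 2, 29122, 29170, 29123], [286, 1, 29120, 29172, 29121], [285, 2, 29118, 29174, 29119], [46, 1, 29118, 29120], [359, 2, 4995, 27867, 29112], [0, 0], [383, 2, 6921, 3376, 29182], [251, 1, 29184, 27534, 27501], [253, 1, 29184, 9601, 28889], [254, 2, 29184, 9606, 3376], [255, 1, 29184, 6917, 4208], [259, 1, 29184, 27553, 28905], [261, 1, 29184, 27821, 28899], [385, 1, 29184, 8611, 3900]]
def dJ76 : List (List ℕ) := [[316, 3, 29072, 30398, 17466], [317, 3, 30401, 17611, 30400], [320, 1, 17469, 30400, 29071], [327, 2, 29068, 30404, 17470], [319, 0, 17473, 30406, 29067], [315, 2, 29064, 30408, 17474], [319, 0, 17477, 30410, 29063], [328, 3, 29060, 30412, 17478], [320, 1, 17481, 30414, 29051], [316, 3, 29048, 30416, 17482], [320, 1, 17485, 30418, 29047], [328, 3, 29053, 30420, 17486], [319, 0, 17489, 30422, 29054], [315, 2, 29057, 30424, 17490], [319, 0, 17493, 30426, 29058], [201, 3, 30402, 29072, 30394, 17466], [125, 1, 17469,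 30430, 29071], [217, 1, 17469, 17610, 30430, 29071], [282, 3, 29068, 29081, 30434, 17470], [299, 0, 29072, 30396, 17466], [303, 2, 17469, 30438, 29071], [297, 1, 17471, 30433, 30440, 17470], [312, 1, 29068, 30440, 17470], [304, 3, 17473, 30444, 29067], [305, 1, 30445, 30443, 30444], [125, 3, 29066, 30448, 29067], [217, 3, 30450, 29066, 30437, 17472], [306, 0, 30447, 30450, 30446], [202, 3, 29064, 30453, 30454, 17474], [338, 2, 17619, 30454, 17618], [126, 0, 17477, 30456, 29063], [85, 1, 17475, 30452, 29065], [217, 3, 30461, 29062, 30462, 17476], [333, 1, 17623, 30464, 17622], [281, 3, 16514, 16474, 30466, 16475], [300, 1, 29064, 30446, 17474], [304, 3, 17477, 30470, 29063], [311, 0, 29060, 30472, 17478], [303, 2, 17481, 30474, 29051], [299, 0, 29048, 30476, 17482], [303, 2, 17485, 30478, 29047], [311, 0, 29053, 30480, 17486], [304, 3, 17489, 30482, 29054], [300, 1, 29057, 30484, 17490], [304, 3, 17493, 30486, 29058], [320, 3, 23545, 29504, 15268], [327, 3, 9653, 15271, 30490], [281, 1, 30492, 9742, 1429, 15271], [312, 1, 30492, 6416, 15271], [347, 0, 14843, 29448,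 29008], [348, 0, 30498, 14840, 30061], [351, 3, 29011, 30498, 28642, 29514], [8, 0, 29010, 30503], [16, 0, 29013, 30503, 26618], [8, 0, 29015, 30507], [54, 1, 25655, 30508], [54, 1, 27609, 30504], [0, 0], [0, 0], [361, 5, 23450, 23359, 23357, 23355, 23353, 23346, 23348, 23350, 23360, 23362, 23364, 23366, 29571, 29564, 23372, 23374, 23376, 23381, 22245, 22241, 21735, 29409, 29407, 29405, 29403, 29401, 29399, 29397, 29395, 29393, 29391, 29389, 29751, 29748, 29383, 27806, 192, 201, 196, 201, 528, 200, 193, 27807, 30514, 30516], [334, 1, 30518, 23475, 287], [350, 1, 30518, 23446, 30363], [418, 1, 23446, 30365, 30522], [423, 2, 23446, 30367, 30522], [318, 1, 30516, 30526, 30519], [414, 1, 30526, 30525, 30528], [416, 0, 30530, 30521, 1500], [0, 0], [427, 2, 697, 19120, 30534], [329, 33, 30536, 2492, 3298, 11384, 11748, 11750, 12648, 13398, 14010, 14762, 15278, 15774, 27889, 27890, 17858, 18308, 18554, 19074, 19930, 20456, 20826, 21294, 21826, 22284, 22880, 23590, 24594, 25162, 25806, 26596, 27364, 27774, 29543, 4650], [343, 0, 269, 29511, 30538], [0, 0], [344, 3, 703,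 195, 30542], [0, 0], [360, 0, 28164, 192, 30546], [428, 3, 723, 195, 30546], [0, 0], [37, 1, 208, 30552], [332, 1, 30501, 29752, 30552], [0, 0], [89, 3, 8613, 1476, 208, 30552, 30558], [316, 1, 30560, 7924, 30552], [0, 0], [91, 4, 6065, 1485, 1476, 208, 30552, 30558, 30564], [38, 2, 30566, 6065], [86, 2, 30566, 6315, 30552], [0, 0], [93, 2, 6557, 208, 30572], [210, 2, 8757, 1476, 208, 30572], [0, 0], [95, 3, 8788, 6557, 208, 30572, 30578], [94, 2, 30580, 8786, 208], [211, 3, 1622, 8673, 30568, 30566, 6315, 30572, 30578], [0, 0], [209, 2, 8673, 30568, 30571, 30586], [0, 0], [99, 4, 30580, 8788, 6557, 208, 30552, 30586, 30590], [38, 2, 30592, 30580], [94, 2, 30592, 30583, 30552], [236, 4, 30592, 30580, 4484, 8807, 8621, 8612, 30561], [202, 0, 8691, 1395, 8632, 30594], [0, 0], [213, 4, 30587, 30553, 209, 1477, 1484, 8672, 30602], [209, 1, 30604, 30587, 30553, 8862], [174, 1, 30573, 7929, 30606], [310, 1, 30573, 8861, 30606], [325, 2, 30573, 7925, 30606], [0, 0], [215, 5, 30579, 30573, 209, 1477, 1484, 8672, 1623, 30614], [85, 2, 30616, 30593, 30600], [210, 3, 30616,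 30593, 30597, 30558], [173, 0, 30590, 30599, 30620], [326, 3, 30597, 30562, 30620], [0, 0], [233, 2, 30574, 6557, 928, 30626], [70, 2, 30628, 30609], [173, 1, 30628, 30573, 8857], [308, 1, 30628, 30611, 30608], [308, 1, 30630, 30635, 30629], [301, 3, 30636, 30603, 10554], [0, 0], [235, 3, 30592, 30580, 8788, 6557, 928, 30626, 30640], [234, 3, 30642, 30597, 30554, 928], [323, 2, 30642, 30625, 30622], [317, 3, 10548, 30589, 30646], [318, 0, 30613, 30604, 30646], [0, 0], [0, 0], [237, 4, 30580, 8788, 6557, 928, 936, 30652, 30654], [70, 1, 30654, 30656], [174, 2, 30656, 30583, 8857], [178, 0, 7928, 8857, 30660, 30656, 30658], [241, 3, 30656, 30583, 6894, 30582], [243, 4, 30664, 30656, 30658, 30662, 7920, 7920, 30663], [243, 5, 30654, 30656, 30583, 6894, 6894, 30582, 30664], [221, 2, 30668, 30666, 30584, 8746, 4465, 923, 939], [221, 5, 1558, 8631, 6529, 6531, 30585, 30664, 30668], [0, 0], [249, 1, 3681, 1998, 30674], [279, 0, 30676, 3742, 30677], [266, 1, 2008, 6915, 30677, 30678], [0, 0], [261, 2, 6557, 1999, 30682], [255, 1, 30684, 6548, 4032], [256, 2, 30684, 6551,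 3962], [0, 0], [281, 2, 1476, 1062, 30674, 30690], [0, 0], [311, 2, 30675, 900, 30694], [300, 2, 30696, 30680, 6294], [312, 2, 30696, 30676, 3781], [343, 2, 15571, 29880, 30694], [0, 0], [313, 2, 8757, 8624, 30674, 30704], [0, 0], [0, 0], [0, 0], [0, 0], [0, 0], [0, 0], [0, 0], [0, 0], [0, 0], [0, 0], [0, 0], [0, 0], [0, 0], [0, 0], [0, 0], [0, 0], [0, 0], [0, 0], [0, 0], [0, 0], [0, 0], [0, 0], [0, 0], [0, 0], [0, 0], [0, 0], [0, 0], [0, 0], [0, 0], [0, 0], [329, 32, 29113, 27812, 30674, 30676, 30708, 30710, 30712, 30714, 30716, 30718, 30720, 30722, 30724, 30726, 30728, 30730, 30732, 30734, 30736, 30738, 30740, 30742, 30744, 30746, 30748, 30750, 30752, 30754, 30756, 30758, 30760, 30762, 30764, 30766], [54, 2, 30768, 29114], [352, 1, 30768, 29180, 4996], [348, 3, 4999, 30772, 30767], [350, 2, 30044, 10088, 30772], [86, 0, 30766, 30776, 14020], [350, 1, 10164, 13404, 30778], [351, 2, 30764, 30780, 5545], [424, 3, 30780, 10080, 13404], [320, 1, 13407, 30784, 30765], [424, 0, 30786, 30178, 10207], [359, 2, 5392, 30788, 30763], [351, 0, 30760, 30790, 5391], [347, 2,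 5388, 30792, 30759], [351, 0, 30756, 30794, 5387], [360, 3, 5384, 30796, 30755]]
def dJ80 : List (List ℕ) := [[217, 3, 31998, 11647, 31990, 11646], [202, 3, 11649, 32001, 31999, 11648], [85, 1, 11649, 32000, 11648], [348, 1, 11649, 31994, 27307], [352, 3, 27698, 32006, 11650], [360, 2, 11653, 32008, 25811, 23420], [3, 0, 23373, 32010], [8, 0, 29564, 32010, 11654], [8, 0, 29620, 32010], [9, 0, 25727, 32010], [10, 0, 29626, 32010], [13, 0, 25733, 32010], [15, 0, 25720, 32010], [29, 0, 31704, 32010], [4, 0, 11657, 32014], [8, 0, 11654, 32014], [346, 43, 11659, 32029, 32030, 32026, 18903, 18901, 18899, 18897, 18895, 18893, 18891, 18889, 18912, 178, 180, 182, 184, 27524, 27567, 190, 191, 27566, 27525, 185, 183, 181, 179, 178, 180, 182, 19708, 19710, 19712, 19714, 19808, 31197, 31194, 14621, 14626, 27678, 27665, 14632, 29339, 29336, 29264, 29266], [250, 0, 32032, 11660, 11578], [250, 0, 29269, 32032, 11660], [344, 3, 31475, 29319, 32032], [360, 3, 31587, 29322, 32032], [351, 0, 11658, 32040, 25655], [359, 3, 12620, 11661, 32040], [428, 0, 32039, 32040, 31738], [352,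 3, 18937, 32046, 26282], [348, 2, 26285, 32048, 31725, 2300], [4, 0, 26284, 32051], [7, 0, 26287, 32051, 259], [18, 0, 31461, 32051, 3610], [27, 0, 27074, 32051, 31609], [16, 0, 26289, 32055, 29975], [4, 0, 15211, 32057], [30, 0, 27049, 32059, 31610], [8, 0, 26291, 32061, 2368], [4, 0, 26376, 32065], [8, 0, 26379, 32065], [4, 0, 26293, 32067], [18, 0, 31454, 32067, 4390], [27, 0, 27069, 32067, 24404], [4, 0, 15202, 32075], [4, 0, 26950, 32077], [29, 0, 27042, 32077], [427, 2, 32048, 31736, 32042], [337, 1, 32084, 31472, 32085], [202, 0, 32086, 32029, 9931, 28668], [85, 2, 9938, 28202, 32088], [281, 2, 16109, 16080, 16403, 32088], [350, 1, 31744, 28635, 32088], [427, 3, 32085, 32094, 19656], [428, 1, 32096, 27076, 27051], [332, 0, 32098, 31849, 31853], [335, 2, 26374, 32098, 19549], [331, 2, 31742, 30155, 32100], [427, 0, 27051, 32104, 32095], [334, 2, 28633, 32088, 32106], [335, 2, 11659, 32106, 26960], [343, 0, 26963, 32110, 11660], [428, 2, 12629, 12620, 32112], [351, 0, 26965, 32114, 11507], [347, 2, 11504, 32116, 26966], [351, 0, 26969, 32118, 11503], [428,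 1, 32118, 12633, 12624], [386, 3, 32122, 31486, 29363], [385, 3, 31491, 29312, 32124], [387, 0, 29311, 32124, 12625], [252, 3, 12524, 32128, 15135], [256, 3, 12527, 32128, 15136], [264, 1, 15139, 32132, 12528], [255, 2, 12531, 32134, 15140], [249, 0, 25167, 29917, 32136], [251, 0, 15143, 32136, 12532], [263, 3, 25173, 29917, 32136], [265, 0, 12533, 32142, 25827, 25828], [249, 1, 25811, 25824, 32144], [255, 2, 12535, 32140, 15144], [249, 1, 1803, 12475, 32148, 12536], [7, 0, 12539, 32150, 10713], [16, 0, 12536, 32150], [4, 0, 12541, 32153, 10710], [7, 0, 12543, 32157, 1808], [15, 0, 12545, 32159, 1810], [8, 0, 12547, 32161, 191], [3, 0, 12549, 32163, 27566], [8, 0, 12551, 32165, 27525], [15, 0, 12553, 32167, 27368], [3, 0, 29226, 32168], [15, 0, 27368, 32168], [15, 0, 27371, 32168, 12560], [17, 0, 27373, 32168], [29, 0, 30250, 32168], [7, 0, 26603, 32175, 12562], [16, 0, 27378, 32175], [4, 0, 25827, 32181, 12564], [15, 0, 32145, 32181], [7, 0, 25175, 32185, 12566], [15, 0, 32142, 32185], [15, 0, 24601, 32189], [16, 0, 24603, 32189], [17, 0, 24598, 32189], [385,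 3, 11754, 12478, 32148], [388, 3, 12612, 32196, 24604], [256, 1, 25178, 32200, 11483], [252, 3, 11480, 32202, 31699], [256, 1, 18905, 32204, 11479], [250, 2, 11476, 32206, 31710], [385, 2, 12503, 32206, 31712], [255, 0, 32071, 32210, 12449], [386, 2, 32204, 12505, 32212], [428, 2, 32214, 31702, 23248], [351, 3, 30168, 26327, 32216], [360, 1, 25580, 32216, 26388], [427, 0, 31729, 23612, 32216], [336, 2, 31855, 32219, 32222], [351, 2, 26391, 32220, 25579], [428, 3, 31694, 29995, 32226], [331, 0, 26393, 32228, 18899], [427, 3, 29942, 32082, 32228], [347, 0, 18898, 32232, 25717], [428, 3, 32234, 32230, 27041], [336, 1, 26948, 32236, 25715], [343, 2, 25712, 32238, 31442], [428, 0, 24317, 24367, 32240], [359, 2, 25768, 32242, 23164], [428, 3, 15243, 23310, 32244], [335, 0, 25766, 32246, 15197], [331, 2, 15194, 32248, 25765], [428, 2, 32250, 15239, 23306], [351, 0, 23171, 32252, 25763], [360, 3, 25760, 32254, 23172], [428, 3, 15235, 23302, 32256], [336, 1, 25758, 32258, 15189], [332, 3, 28222, 32260, 25757], [334, 2, 32262, 4912, 3031], [335, 1, 32262, 28224, 17604],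 [336, 2, 25754, 32262, 4626, 28214], [8, 0, 25755, 32269], [15, 0, 25752, 32269, 16490], [7, 0, 25750, 32273, 1788], [4, 0, 25748, 32275, 27976], [7, 0, 25746, 32277, 27979], [10, 0, 25744, 32279, 6027], [5, 0, 25771, 32281, 10047], [16, 0, 25738, 32283, 6636], [8, 0, 19710, 32285, 6638], [27, 0, 23254, 32285], [6, 0, 26229, 32287, 10191], [5, 0, 26237, 32287, 10187], [7, 0, 26941, 32287], [13, 0, 26239, 32287], [15, 0, 19810, 32287], [16, 0, 19708, 32287], [17, 0, 26222, 32287], [18, 0, 32176, 32287], [16, 0, 26917, 32291, 13913], [28, 0, 31147, 32291, 19105], [15, 0, 27498, 32293], [16, 0, 26235, 32293], [6, 0, 26912, 32307], [8, 0, 32306, 27793, 32307, 13911], [6, 0, 31155, 32309], [7, 0, 31050, 32309, 14769], [3, 0, 13914, 32317, 13909], [6, 0, 32315, 32317], [28, 0, 13916, 32317], [3, 0, 31048, 32321], [3, 0, 13909, 32322], [8, 0, 13906, 32322, 13151], [15, 0, 13904, 32333], [428, 2, 32262, 28228, 23298], [427, 0, 30847, 24331, 32336], [428, 0, 32338, 30839, 28247], [347, 2, 24461, 32340, 25756], [351, 0, 25759, 32342, 24462], [359, 2, 24473, 32344, 25760],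 [352, 1, 25763, 32346, 24474], [348, 3, 24477, 32348, 25764], [352, 1, 25767, 32350, 24478], [360, 3, 24481, 32352, 25768], [351, 0, 25710, 32354, 24482], [347, 2, 24485, 32356, 25709], [351, 0, 25706, 32358, 24486], [360, 3, 30242, 24489, 32360, 25705], [8, 0, 25694, 32362, 25179], [3, 0, 25692, 32365, 31699], [8, 0, 25690, 32367, 18904], [15, 0, 25688, 32369], [15, 0, 25697, 32369, 31710], [3, 0, 28162, 32372], [15, 0, 31710, 32372], [16, 0, 32209, 32372], [30, 0, 28674, 32372], [359, 0, 32379, 32380, 17032], [347, 1, 5775, 17030, 32382], [250, 0, 32371, 32377, 32378], [387, 1, 28748, 32304, 12605, 32386], [7, 0, 25686, 32388, 15573], [18, 0, 32386, 32388], [4, 0, 25684, 32391, 30843], [4, 0, 30843, 32394], [7, 0, 30741, 32394]]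
def dJ84 : List (List ℕ) := [[27, 0, 33238, 30273, 33295, 32441], [4, 0, 11773, 33242, 11766], [7, 0, 12530, 33245, 2365], [15, 0, 32139, 33245], [8, 0, 26948, 33249, 30708], [27, 0, 27067, 33249], [28, 0, 33316, 32237, 33249], [4, 0, 24262, 33251, 14590], [15, 0, 31614, 33251, 29963], [28, 0, 24407, 33251, 33581], [3, 0, 32535, 33252, 32072], [8, 0, 2918, 33252, 33303], [15, 0, 33221, 33252, 2370], [28, 0, 3031, 33252], [16, 0, 24473, 33255, 32626], [29, 0, 24508, 33255, 32632], [4, 0, 23177, 33257], [15, 0, 30148, 33257, 15432], [28, 0, 24328, 33257, 31854], [7, 0, 24454, 33261, 154], [30, 0, 29831, 33261, 2286], [3, 0, 28255, 33263, 33491, 28041], [28, 0, 28249, 33263, 33491, 1987], [27, 0, 28257, 33263, 33491, 29583], [30, 0, 33645, 29829, 33263, 33491, 2285], [4, 0, 28660, 33265, 33269, 28649], [16, 0, 33640, 16492, 33265, 33269, 4308], [28, 0, 30851, 33265, 33269, 23295], [27, 0, 28214, 33265, 33269, 24347], [30, 0, 23296, 33265, 33269, 28231], [18, 0, 4315, 33267], [18, 0, 4312, 33269], [29, 0, 14570, 33269, 28217], [4, 0, 16642, 33270, 33536], [7, 0, 16646,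 33270, 33536], [8, 0, 16645, 33270, 33536], [15, 0, 32400, 33273, 30146], [4, 0, 33636, 24287, 33274, 28222], [7, 0, 26574, 33278, 32620], [17, 0, 29572, 33278, 15231], [29, 0, 26570, 33278, 32632], [5, 0, 26567, 33284], [29, 0, 33446, 30205, 33287, 33459, 5513], [7, 0, 18303, 33291, 15564], [16, 0, 28200, 33291], [6, 0, 33294, 10113, 33624, 10148], [8, 0, 6988, 33295], [16, 0, 6991, 33295], [29, 0, 7704, 33295, 31769, 33601], [4, 0, 29968, 33297, 28649, 33650], [4, 0, 14445, 33299, 28222, 33674], [16, 0, 32701, 33299, 6889], [15, 0, 33035, 33299, 33188], [8, 0, 12578, 33301, 3099], [5, 0, 33305, 5262, 33624, 4888], [7, 0, 5000, 33304, 30143], [16, 0, 5003, 33304], [30, 0, 33196, 33304, 32403, 33673], [29, 0, 33705, 5824, 33304, 32414], [3, 0, 11582, 33306, 2350], [7, 0, 11586, 33306], [8, 0, 33307, 11584, 33624, 11515], [27, 0, 33209, 33306, 30099], [29, 0, 33211, 33306, 19007], [6, 0, 4360, 33309, 10148, 33690], [8, 0, 10449, 33309, 11515, 33722], [7, 0, 13406, 33311, 13398], [7, 0, 13402, 33313, 13398], [3, 0, 30064, 33315, 10878], [7, 0, 33241, 33315, 138],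 [29, 0, 33582, 32235, 33317], [7, 0, 26271, 33321, 4383], [27, 0, 4120, 33323, 31685], [3, 0, 33325, 11287, 33327, 33147], [27, 0, 32919, 33324, 2929], [4, 0, 10717, 33327, 10710], [6, 0, 10204, 33327, 10501], [5, 0, 5261, 33327, 4887], [14, 0, 11627, 33327, 11516], [4, 0, 32823, 33329, 133], [3, 0, 1758, 33329, 32765], [6, 0, 10520, 33329, 8463], [14, 0, 32825, 33329, 8152], [16, 0, 6877, 33329], [18, 0, 32827, 33329], [29, 0, 33020, 33329], [3, 0, 33333, 31835, 33524, 14413], [8, 0, 25530, 33332, 33773, 3074], [15, 0, 31658, 33332, 33773, 3073], [28, 0, 31832, 33332, 33773, 14500], [30, 0, 31823, 33332, 33773, 14652, 33779], [16, 0, 32193, 33335, 24234], [15, 0, 32195, 33335, 3359], [30, 0, 12612, 33335], [15, 0, 24928, 33336, 29979], [8, 0, 3365, 33341, 258], [8, 0, 33340, 26210, 33531, 32219], [9, 0, 25777, 33341, 9451], [13, 0, 25463, 33341], [30, 0, 33676, 25779, 33341, 31719], [29, 0, 33071, 33341, 2302], [10, 0, 23494, 33343, 33486, 32582], [16, 0, 33679, 23554, 33343, 33486, 14449], [30, 0, 32694, 33343, 33486, 32590], [4, 0, 16072, 33344], [16, 0, 16402,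 33344, 15273], [15, 0, 16950, 33344, 15270], [30, 0, 29836, 33344], [18, 0, 30884, 33349], [4, 0, 17028, 33350, 31956], [4, 0, 17009, 33350], [6, 0, 17019, 33350, 31958], [13, 0, 17245, 33350], [15, 0, 33485, 17010, 33350], [30, 0, 30206, 33357, 30199], [27, 0, 33361, 30540, 33442, 194], [16, 0, 3830, 33363, 33385], [23, 0, 33828, 30212, 33363, 33385, 10528], [15, 0, 33453, 31592, 33364, 33371, 15], [8, 0, 33602, 11400, 33366, 33374, 11384], [10, 0, 31200, 33366, 33374, 29502], [8, 0, 15584, 33369, 10856], [8, 0, 31207, 33369], [30, 0, 33368, 15593, 33840, 31184], [7, 0, 32643, 33371, 2509], [9, 0, 32686, 33371, 1704], [12, 0, 32649, 33371, 2516], [18, 0, 32651, 33371], [7, 0, 11293, 33372, 33080], [10, 0, 3177, 33372, 3060], [9, 0, 8558, 33372, 8553], [12, 0, 3181, 33372, 3064], [30, 0, 2106, 33372], [10, 0, 31249, 33374, 29502, 33840], [7, 0, 33503, 27965, 33379, 8615], [29, 0, 27934, 33381, 33449, 2330], [29, 0, 722, 33385], [12, 0, 29243, 33388, 29501], [2, 0, 33647, 33472, 33392], [3, 0, 29186, 33876, 27534], [5, 0, 33470, 29188, 33876, 9601], [11, 0, 29194,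 33876, 27553], [13, 0, 29196, 33876, 27821], [3, 0, 19728, 33395, 3690], [6, 0, 33403, 31133, 33479, 9215], [28, 0, 33569, 31123, 33402, 33889, 7667], [4, 0, 18907, 33409], [5, 0, 31709, 33409], [18, 0, 4421, 33418], [28, 0, 33427, 27760, 33566, 27756], [30, 0, 3808, 33433], [28, 0, 33834, 33828, 30211, 33437, 19123], [30, 0, 33870, 29897, 33438, 33461, 33383], [27, 0, 720, 33444], [27, 0, 4191, 33447, 33685, 2012], [7, 0, 33450, 28900, 33885, 27818], [27, 0, 4199, 33451, 33911, 2020], [28, 0, 29513, 33452, 33837], [15, 0, 17441, 33455, 5558], [6, 0, 29487, 33457, 6050], [14, 0, 29491, 33457, 28435], [3, 0, 32063, 33463, 25652], [16, 0, 3710, 33463, 32301], [3, 0, 32601, 33464], [7, 0, 3212, 33464], [7, 0, 32603, 33464, 311], [15, 0, 32605, 33464], [17, 0, 33925, 33073, 33464, 32693], [28, 0, 15244, 33464, 23453], [29, 0, 33818, 32660, 33464], [29, 0, 32611, 33464, 32468], [4, 0, 33467, 31543, 33857, 32545], [6, 0, 32324, 33466, 33943, 5606], [14, 0, 26925, 33466, 33943, 26632], [16, 0, 33790, 3366, 33466, 33943, 185], [15, 0, 33925, 32298, 33466, 33943, 33933],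 [18, 0, 3453, 33466, 33943], [27, 0, 27650, 33466, 33943, 27585], [8, 0, 28265, 33473, 33646, 29593], [15, 0, 17859, 33473, 33646, 29586], [27, 0, 24335, 33473, 33646], [15, 0, 33475, 31619, 33483, 29222], [3, 0, 33807, 31596, 33480, 33498, 2030], [16, 0, 4648, 33480, 33498], [18, 0, 33477, 33483], [27, 0, 29482, 33483], [4, 0, 16111, 33484], [7, 0, 33347, 33484], [11, 0, 28471, 33484], [12, 0, 28468, 33484], [13, 0, 16243, 33484], [3, 0, 16140, 33486], [6, 0, 16145, 33486, 32578], [14, 0, 28498, 33486, 32584], [14, 0, 16277, 33486], [15, 0, 33818, 17033, 33486, 15232], [30, 0, 29525, 33486], [11, 0, 33289, 33489, 28351], [15, 0, 15563, 33489, 7400], [15, 0, 3335, 33491, 152]]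
def dJ88 : List (List ℕ) := [[3, 0, 32466, 34298], [29, 0, 34314, 7703, 34298, 28746, 34891], [16, 0, 15760, 34307, 34324], [13, 0, 12031, 34309], [16, 0, 10883, 34309], [3, 0, 13330, 34312, 7736], [5, 0, 10166, 34315], [8, 0, 33172, 34315], [9, 0, 10115, 34315], [11, 0, 12895, 34315], [14, 0, 12801, 34315, 33824], [14, 0, 12849, 34315], [16, 0, 13084, 34315, 33826], [23, 0, 10122, 34315], [26, 0, 7707, 34315], [8, 0, 26961, 35070, 11658], [2, 0, 34964, 34942, 34753], [17, 0, 35071, 31466, 35232, 33816], [2, 0, 35234, 34964, 34790], [27, 0, 35237, 27076, 35070, 35235], [4, 0, 17694, 34328, 17515], [7, 0, 34329, 34261, 35168, 34580], [4, 0, 32948, 34332], [18, 0, 11375, 34332], [3, 0, 20055, 34356], [3, 0, 20573, 34356, 6072], [8, 0, 32420, 34356], [13, 0, 20099, 34356], [15, 0, 20047, 34356], [15, 0, 19830, 34356, 30127], [3, 0, 12705, 34359, 34588], [6, 0, 10165, 34359], [8, 0, 33180, 34359], [11, 0, 12875, 34359], [12, 0, 12179, 34359], [14, 0, 12771, 34359, 34590], [13, 0, 12789, 34359, 34592], [16, 0, 13080, 34359, 15271, 34643], [15, 0, 11710, 34359, 305],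 [28, 0, 5832, 34359, 34594, 35155], [18, 0, 3746, 34372], [8, 0, 12574, 34379], [30, 0, 34386, 30774, 34380, 35279, 34596, 35141], [4, 0, 30767, 34387, 35285, 31952, 34607, 35132], [15, 0, 19717, 34389, 305], [24, 0, 31160, 34391, 10437], [16, 0, 11578, 34395, 2354], [15, 0, 34742, 34083, 34395, 31474], [18, 0, 32035, 34395, 4406], [28, 0, 34085, 34395], [30, 0, 35296, 34087, 34395, 29719], [29, 0, 34089, 34395, 19003], [15, 0, 20606, 34396, 34398, 30129], [29, 0, 19004, 34398], [8, 0, 11510, 34401, 2352], [10, 0, 33553, 34401, 10462], [15, 0, 33555, 34401, 30107], [28, 0, 33557, 34401], [8, 0, 20312, 34403, 34385, 35279], [15, 0, 20315, 34403, 30088], [7, 0, 20436, 34404, 18134], [15, 0, 30104, 34404], [7, 0, 7771, 34406, 7411], [15, 0, 30135, 34406], [8, 0, 4371, 34413, 2352], [17, 0, 34759, 32474, 34423], [2, 0, 35133, 34606, 34586], [8, 0, 26275, 34435, 4379], [28, 0, 27086, 34435], [28, 0, 15177, 34447], [15, 0, 31235, 34453, 34646, 3096, 35085], [30, 0, 5014, 34455], [30, 0, 11297, 34457], [30, 0, 11301, 34459], [29, 0, 28743, 34462], [4, 0, 32930, 34469],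 [18, 0, 10869, 34471], [18, 0, 10873, 34473], [4, 0, 32990, 34475], [15, 0, 10842, 34475, 4632], [17, 0, 34474, 34153, 34475], [18, 0, 3956, 34481], [18, 0, 33145, 34483], [30, 0, 15261, 34483], [3, 0, 6915, 34485], [8, 0, 34180, 34485, 6356], [16, 0, 34428, 34485], [18, 0, 3783, 34485], [28, 0, 34196, 34485, 30532], [28, 0, 33613, 34485], [30, 0, 33740, 34485], [12, 0, 14403, 34509, 13482], [14, 0, 14407, 34509, 14028], [18, 0, 3504, 34509], [8, 0, 19568, 34511, 1494], [29, 0, 23289, 34511], [8, 0, 25526, 34513, 3078], [28, 0, 31830, 34513, 14504], [30, 0, 31819, 34513, 14656, 35395], [2, 0, 34522, 34517, 34514], [3, 0, 35397, 35394, 14646, 35398, 292], [4, 0, 35290, 32329, 34518, 35037, 14022, 35028], [5, 0, 30043, 34520, 35037, 6052], [29, 0, 14770, 34520, 35037], [3, 0, 22889, 34529, 3355], [3, 0, 24207, 34531], [6, 0, 24213, 34531, 9050], [5, 0, 24223, 34531, 6231], [11, 0, 24227, 34531], [13, 0, 24231, 34531], [15, 0, 34526, 34531], [15, 0, 3358, 34531, 253], [18, 0, 3469, 34531], [28, 0, 24579, 34531, 23411], [27, 0, 3464, 34531, 24597, 35057], [29, 0, 33787,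 34531, 2306], [18, 0, 24919, 34533], [7, 0, 35426, 25144, 34541, 34558, 23218], [7, 0, 254, 34543, 179], [10, 0, 6224, 34543, 5713], [9, 0, 9449, 34543, 9462], [12, 0, 34535, 34543, 23756], [14, 0, 34537, 34543, 24614], [15, 0, 29979, 34543], [18, 0, 34539, 34543], [7, 0, 25179, 34544, 34567, 2040], [29, 0, 25176, 34544, 34567], [18, 0, 34948, 26565, 34547, 34949], [18, 0, 26215, 34549], [18, 0, 26219, 34551], [8, 0, 28677, 35162], [10, 0, 32020, 35162, 9459], [4, 0, 34559, 32013, 35463, 2038], [7, 0, 35434, 23375, 34558, 35465, 2040], [11, 0, 25133, 34558, 35465], [29, 0, 23409, 34558, 35465, 35058, 35465], [7, 0, 29610, 35086, 35088], [8, 0, 30035, 35086, 35088], [2, 0, 35089, 34976, 34953], [4, 0, 25736, 34562, 25651], [14, 0, 35462, 32022, 34562], [30, 0, 25735, 34562], [8, 0, 19738, 34565, 11651], [25, 0, 30381, 34565], [7, 0, 35430, 11483, 34567, 35470, 179], [17, 0, 34554, 34569], [2, 0, 34831, 34826, 34570], [6, 0, 34572, 23490, 35492, 9558], [16, 0, 23488, 34573, 35495, 27546, 35083], [12, 0, 34575, 29567, 34775, 25242], [30, 0, 26491, 34574, 35499], [6,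 0, 30000, 34576], [9, 0, 30002, 34576], [14, 0, 34577, 29569, 34775, 25840], [15, 0, 29999, 34576, 35507, 27483], [30, 0, 26495, 34576, 35507], [3, 0, 16957, 35332], [7, 0, 18127, 35332], [13, 0, 17067, 35332], [14, 0, 17083, 35332], [16, 0, 35494, 28054, 35332, 34679], [14, 0, 34601, 34603, 34613], [12, 0, 13821, 34605, 13414], [14, 0, 13825, 34605, 12706], [16, 0, 13829, 34605, 13077, 34787], [15, 0, 13804, 34605, 14012], [18, 0, 3507, 34605], [6, 0, 9418, 34609, 32483, 34756, 35031], [8, 0, 2056, 34609, 33928], [8, 0, 13446, 34613, 33928, 35536], [11, 0, 13611, 34613], [12, 0, 13629, 34613], [14, 0, 13545, 34613, 34762], [13, 0, 13595, 34613, 35522], [3, 0, 12667, 34614, 35142], [4, 0, 12664, 34614, 35142], [13, 0, 12729, 34614, 35142], [14, 0, 12747, 34614, 35142], [15, 0, 13834, 34614, 35142], [3, 0, 16119, 34617, 13836], [16, 0, 1711, 34623], [18, 0, 603, 34623], [29, 0, 33900, 34623], [16, 0, 8513, 34625], [18, 0, 611, 34625], [18, 0, 3875, 34629], [15, 0, 35184, 14627, 34635, 14473, 34951], [27, 0, 31224, 34637], [16, 0, 30900, 34638, 35161, 34439], [27,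 0, 30861, 34638, 35161], [4, 0, 33809, 34643, 35274], [16, 0, 15272, 34643, 35274, 31979], [16, 0, 15271, 34643, 35274], [30, 0, 33815, 34643, 35274], [7, 0, 8528, 34646, 35282], [28, 0, 8388, 34646], [15, 0, 19050, 34649, 31169, 35138, 35141], [3, 0, 33376, 34652, 34783, 32544], [16, 0, 14635, 34669, 35274, 31979], [29, 0, 14692, 34669, 35274, 35586]]
def dJ92 : List (List ℕ) := [[10, 0, 4920, 35741], [24, 0, 4924, 35741], [25, 0, 9599, 35741], [28, 0, 4917, 35741], [30, 0, 34685, 35741], [12, 0, 34803, 35743, 14786], [11, 0, 34805, 35743, 14793, 36725], [14, 0, 34807, 35743, 14796, 36719], [13, 0, 34809, 35743, 14805], [15, 0, 23281, 35743, 34732, 35886], [11, 0, 28875, 35745, 36170, 970], [8, 0, 36810, 30907, 35747, 36172, 6549], [10, 0, 28806, 35747, 36172, 8736], [15, 0, 28818, 35747, 36172], [5, 0, 35824, 27558, 35749, 35772], [10, 0, 36816, 28786, 35749, 35772, 8805], [9, 0, 28845, 35749, 35772, 8703], [14, 0, 27568, 35749, 35772], [15, 0, 26694, 35749, 35772], [17, 0, 35773, 35748, 34686, 35749, 35772], [29, 0, 35773, 29532, 35749, 35772], [8, 0, 29239,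 35751, 36174, 4463], [9, 0, 28798, 35751, 36174, 4465], [15, 0, 27707, 35751, 36174], [5, 0, 36622, 27834, 35753, 35768], [8, 0, 28770, 35753, 35768, 931], [10, 0, 27825, 35753, 35768, 8679], [12, 0, 27814, 35753, 35768], [29, 0, 35769, 29530, 35753, 35768], [28, 0, 17633, 35757], [28, 0, 36293, 17637, 35759, 36292], [4, 0, 4629, 35760], [8, 0, 28205, 35760, 33671], [13, 0, 28209, 35760], [15, 0, 34854, 35760], [16, 0, 28213, 35760], [27, 0, 34271, 35760], [29, 0, 28217, 35760], [4, 0, 34441, 35764, 32764], [8, 0, 34443, 35764], [7, 0, 190, 35766], [4, 0, 28421, 35768], [6, 0, 28534, 35768], [7, 0, 15344, 35768, 916], [13, 0, 28423, 35768], [16, 0, 28425, 35768], [27, 0, 34003, 35768], [4, 0, 35824, 27556, 35770], [11, 0, 27701, 35770], [28, 0, 27716, 35770], [29, 0, 36543, 29864, 35770], [3, 0, 28462, 35772], [4, 0, 28083, 35772], [6, 0, 36264, 28411, 35772], [7, 0, 14907, 35772, 6528], [9, 0, 28326, 35772, 8703], [11, 0, 28085, 35772], [16, 0, 36293, 28415, 35772], [27, 0, 34005, 35772], [3, 0, 36622, 26716, 35774], [13, 0, 27570, 35774], [28, 0, 27710, 35774],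 [29, 0, 36646, 29850, 35774], [8, 0, 35666, 35782], [4, 0, 5563, 35785, 4645], [8, 0, 17293, 35785], [11, 0, 18041, 35785], [14, 0, 17941, 35785], [15, 0, 18038, 35785], [5, 0, 36264, 28480, 35795], [7, 0, 28520, 35795], [8, 0, 28519, 35795], [9, 0, 28589, 35795], [11, 0, 16360, 35795], [12, 0, 16363, 35795], [13, 0, 16366, 35795], [23, 0, 28606, 35795], [24, 0, 28604, 35795], [25, 0, 28610, 35795], [26, 0, 28608, 35795], [30, 0, 35824, 29866, 35795], [8, 0, 13851, 35798, 1768], [16, 0, 35712, 35798], [15, 0, 27563, 35825], [6, 0, 36622, 27599, 35827], [15, 0, 27603, 35827], [29, 0, 29848, 35827], [12, 0, 35698, 35835], [13, 0, 36622, 26715, 35835], [29, 0, 29845, 35835], [29, 0, 15241, 35847], [7, 0, 15569, 35849, 7406], [18, 0, 35199, 35849], [8, 0, 17641, 35851, 16432], [7, 0, 3341, 35863, 158], [15, 0, 18520, 35863, 18556], [18, 0, 18031, 35865], [15, 0, 18310, 35866], [16, 0, 29068, 35875, 28961], [3, 0, 14027, 35878, 35951], [13, 0, 14107, 35878, 35951], [14, 0, 14125, 35878, 35951], [28, 0, 14585, 35881], [28, 0, 14589, 35883], [4, 0, 14123, 35884], [7,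 0, 14051, 35884], [8, 0, 14391, 35884], [11, 0, 14049, 35884], [12, 0, 14137, 35884], [13, 0, 14047, 35884], [14, 0, 14044, 35884], [24, 0, 14174, 35884], [25, 0, 14176, 35884], [13, 0, 14431, 35886], [16, 0, 3072, 35886], [5, 0, 1485, 35889], [10, 0, 904, 35889], [16, 0, 1488, 35889], [24, 0, 912, 35889], [25, 0, 8759, 35889], [28, 0, 34671, 35889], [30, 0, 34884, 35889], [8, 0, 18159, 35893, 7942], [3, 0, 30919, 35895, 36574, 4967], [7, 0, 16636, 35897, 16481], [15, 0, 16870, 35897], [27, 0, 36060, 18990, 35903, 36373], [29, 0, 37052, 36058, 29310, 35903], [29, 0, 15165, 35903, 37055], [2, 0, 37057, 37052, 36058], [7, 0, 3543, 35910, 222], [18, 0, 3653, 35910], [5, 0, 34201, 35915], [10, 0, 34203, 35915], [16, 0, 34694, 35915], [23, 0, 34205, 35915], [26, 0, 34207, 35915], [3, 0, 35045, 35945], [13, 0, 35047, 35945, 8384], [16, 0, 35898, 35947, 36474], [7, 0, 4083, 35951, 1772], [14, 0, 35207, 35951, 37000], [16, 0, 35209, 35951], [3, 0, 35800, 35953], [4, 0, 35918, 35953], [14, 0, 26041, 35953], [16, 0, 35706, 35953], [8, 0, 23350, 35954, 303], [28, 0, 23461,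 35954], [15, 0, 36254, 13327, 35959], [7, 0, 11305, 35970, 35964], [16, 0, 11302, 35970], [15, 0, 26971, 35976, 36066, 228], [8, 0, 3562, 35981, 175], [3, 0, 24722, 35985], [7, 0, 23746, 35985], [10, 0, 5713, 35985], [11, 0, 24001, 35985], [12, 0, 24745, 35985], [13, 0, 24937, 35985], [24, 0, 5703, 35985], [25, 0, 9066, 35985], [28, 0, 5708, 35985], [16, 0, 35948, 35986], [3, 0, 36006, 24728, 35989], [7, 0, 23752, 35989], [11, 0, 24757, 35989], [12, 0, 24805, 35989], [4, 0, 34912, 35999], [15, 0, 6888, 35999], [16, 0, 34370, 35999], [16, 0, 35192, 36000], [28, 0, 35575, 36000, 4678], [9, 0, 24732, 36007], [10, 0, 24726, 36007], [25, 0, 24734, 36007], [18, 0, 3654, 36013], [4, 0, 14774, 36031, 36422], [14, 0, 14849, 36031, 36422, 34494], [13, 0, 14857, 36031, 36422, 34496], [7, 0, 35095, 36033, 32979], [12, 0, 13157, 36033, 11912], [14, 0, 13161, 36033, 12670], [28, 0, 13921, 36035], [28, 0, 13925, 36037], [8, 0, 6102, 36046, 5572], [15, 0, 30131, 36046], [6, 0, 10499, 36051, 8927], [28, 0, 29314, 36051, 35909], [28, 0, 24425, 36051], [7, 0, 7747, 36052, 7280],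 [5, 0, 8952, 36054], [7, 0, 6083, 36054, 5382], [28, 0, 30823, 36054], [15, 0, 2363, 36057], [3, 0, 37176, 29272, 37058, 225], [15, 0, 29403, 36064, 36078, 228], [16, 0, 18918, 36066, 37188], [3, 0, 24254, 36069, 14598], [18, 0, 24414, 36069]]
def dJ96 : List (List ℕ) := [[28, 0, 11095, 37803], [30, 0, 35345, 37803], [28, 0, 11099, 37805], [30, 0, 35347, 37805], [28, 0, 8557, 37815], [30, 0, 34665, 37815], [8, 0, 19044, 37821, 310], [28, 0, 3067, 37823], [30, 0, 34667, 37823], [30, 0, 14687, 37829], [3, 0, 3084, 37831, 301], [8, 0, 38285, 23346, 37832, 38055, 299], [28, 0, 23465, 37832, 38055], [16, 0, 38272, 19864, 37841], [8, 0, 13988, 37843, 2579], [16, 0, 35993, 37847], [27, 0, 37403, 37849], [29, 0, 36223, 37849], [8, 0, 13146, 37897, 2547], [7, 0, 13902, 37899, 83], [28, 0, 676, 37917], [30, 0, 35564, 37917], [3, 0, 23193, 37933, 292], [8, 0, 17469, 37977, 16485], [28, 0, 11519, 37979], [30, 0, 34467, 37979], [8, 0, 18353, 37991], [10, 0, 5948, 37991], [11, 0, 18695, 37991], [12, 0, 18465, 37991], [13, 0, 18857, 37991], [24, 0, 5763, 37991], [25, 0, 9136,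 37991], [8, 0, 13855, 38009, 2339], [7, 0, 17645, 38013, 16436], [18, 0, 18847, 38015], [12, 0, 19485, 38017, 19152], [14, 0, 19489, 38017, 19170], [18, 0, 3485, 38017], [4, 0, 29064, 38023, 28957], [5, 0, 30452, 38023], [9, 0, 38022, 30450, 38023], [15, 0, 30923, 38029], [7, 0, 16632, 38031, 16477], [3, 0, 26975, 38065, 232], [8, 0, 3558, 38067, 38371, 32981], [7, 0, 18135, 38081, 7411], [7, 0, 6095, 38093, 5576], [16, 0, 6092, 38093, 21570], [8, 0, 30752, 38102, 5383], [3, 0, 29407, 38105, 232], [28, 0, 29808, 38105], [7, 0, 38488, 31409, 38109, 38204, 36576], [8, 0, 38310, 22268, 38115, 234], [8, 0, 22273, 38115], [16, 0, 22271, 38115], [18, 0, 38110, 38115, 3641], [29, 0, 38500, 29417, 38115], [3, 0, 38512, 14599, 38117, 38121, 232], [18, 0, 3642, 38121], [8, 0, 22284, 38125, 38371, 32981], [7, 0, 11158, 38135, 10959], [15, 0, 11336, 38135], [3, 0, 20791, 38139, 164], [4, 0, 18691, 38147], [8, 0, 18359, 38147], [11, 0, 18705, 38147], [12, 0, 18735, 38147], [13, 0, 18870, 38147], [13, 0, 37255, 38160, 38176], [16, 0, 37257, 38160, 38176], [30, 0, 19025, 38171],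 [28, 0, 18917, 38175], [12, 0, 19701, 38179, 19152], [14, 0, 19705, 38179, 19170], [16, 0, 38141, 38179], [28, 0, 19589, 38179], [30, 0, 37503, 38179], [8, 0, 18186, 38183, 18115], [30, 0, 21838, 38185, 38521, 38083], [7, 0, 11107, 38191, 36428], [3, 0, 17678, 38197, 17507], [27, 0, 38559, 38520, 21828, 38203, 21834], [30, 0, 38202, 21837, 38564, 21164, 38255], [16, 0, 11645, 38209, 38278], [17, 0, 31984, 38209], [7, 0, 20196, 38211, 17756], [15, 0, 30094, 38220], [18, 0, 38526, 20788, 38220, 3481], [28, 0, 20245, 38225], [30, 0, 37505, 38225], [12, 0, 20051, 38228, 19250], [15, 0, 20048, 38228, 20460], [18, 0, 3482, 38228], [27, 0, 38207, 38245], [29, 0, 37357, 38245], [16, 0, 21559, 38252], [8, 0, 21156, 38255, 38566, 21310], [10, 0, 38258, 21743, 38255, 38566, 5878], [12, 0, 21751, 38255, 38566, 21318], [16, 0, 21734, 38255, 38566, 20942, 38311, 38507], [6, 0, 22263, 38257, 22166], [7, 0, 38602, 22267, 38259, 38597, 5576], [15, 0, 20376, 38261], [29, 0, 38266, 38269], [27, 0, 23466, 38284, 38423, 38282], [8, 0, 21273, 38298, 5572], [15, 0, 30102, 38298], [15,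 0, 19902, 38301], [7, 0, 20973, 38311, 38507], [15, 0, 20945, 38311, 38507], [16, 0, 20942, 38311, 38507], [29, 0, 38600, 21741, 38311, 38507], [8, 0, 22062, 38313, 7419], [8, 0, 22068, 38315, 38495, 5577], [12, 0, 21549, 38317, 21318], [15, 0, 3350, 38317, 169], [5, 0, 38604, 38602, 22265, 38321, 38371, 34355], [7, 0, 22238, 38321, 38371, 138], [30, 0, 22787, 38323], [30, 0, 38385, 22791, 38325, 38384], [18, 0, 22577, 38329], [18, 0, 38385, 22581, 38331, 38384], [15, 0, 22884, 38332], [8, 0, 25523, 38345, 11647], [17, 0, 38344, 37219, 38345], [27, 0, 37221, 38345], [29, 0, 37223, 38345], [6, 0, 9308, 38352, 3197], [5, 0, 9303, 38352, 3226], [7, 0, 6945, 38352], [10, 0, 9305, 38352], [16, 0, 6942, 38352], [23, 0, 9300, 38352], [26, 0, 7228, 38352], [7, 0, 22148, 38355, 38371, 138], [28, 0, 22691, 38357], [28, 0, 38385, 22695, 38359, 38384], [4, 0, 37740, 38365], [15, 0, 22077, 38367, 2340], [3, 0, 22609, 38369], [15, 0, 22081, 38369, 12408], [3, 0, 173, 38371], [12, 0, 21377, 38371, 11782], [11, 0, 21389, 38371, 11793], [14, 0, 21849, 38371, 11442], [13, 0, 21862,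 38371, 11803], [6, 0, 9085, 38373], [7, 0, 22466, 38373], [7, 0, 7423, 38373, 1772], [11, 0, 22617, 38373], [14, 0, 21957, 38373, 38053], [13, 0, 22415, 38373, 37002], [4, 0, 37249, 38374, 21879], [6, 0, 9904, 38374], [7, 0, 6615, 38374, 5580], [13, 0, 36697, 38374, 22458], [15, 0, 37245, 38374], [16, 0, 38136, 38374], [3, 0, 22625, 38377, 37377], [4, 0, 21842, 38378], [14, 0, 21903, 38378, 34424], [13, 0, 21921, 38378, 34426], [3, 0, 22697, 38380, 10965], [5, 0, 22465, 38380], [7, 0, 22299, 38380], [8, 0, 22296, 38380], [11, 0, 22333, 38380], [12, 0, 22349, 38380], [15, 0, 22793, 38380], [23, 0, 22481, 38380], [24, 0, 22471, 38380], [25, 0, 22473, 38380], [26, 0, 22483, 38380], [4, 0, 37517, 38383, 22894], [7, 0, 22501, 38384], [8, 0, 22515, 38384], [12, 0, 22014, 38384, 12209], [12, 0, 22397, 38384], [14, 0, 21880, 38384], [23, 0, 22449, 38384], [26, 0, 22451, 38384], [5, 0, 21979, 38386, 12066], [7, 0, 22517, 38386], [8, 0, 22551, 38386], [12, 0, 22038, 38386, 12233], [11, 0, 22041, 38386, 12234], [13, 0, 21894, 38386], [23, 0, 38713, 22461, 38386], [24, 0,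 38704, 22417, 38386], [25, 0, 38704, 22419, 38386], [26, 0, 38713, 22463, 38386], [3, 0, 22680, 38391, 36004], [3, 0, 22760, 38393, 36004], [16, 0, 13931, 38395, 38484], [15, 0, 19042, 38413, 38504, 38510], [29, 0, 38418, 38421], [16, 0, 13986, 38429, 35561], [16, 0, 13144, 38437, 38717], [4, 0, 13900, 38439, 78]]
def dJ100 : List (List ℕ) := [[5, 0, 23670, 39887, 39999, 9767], [5, 0, 39528, 39900], [6, 0, 38728, 39900], [7, 0, 39014, 39900], [8, 0, 38696, 39900], [23, 0, 38742, 39900], [26, 0, 38744, 39900], [6, 0, 17296, 39902], [8, 0, 39493, 39902], [9, 0, 39903, 17301, 39902], [16, 0, 39670, 39902, 16854], [15, 0, 11136, 39905], [3, 0, 18164, 39907, 18101], [26, 0, 36518, 39907], [3, 0, 21769, 39917, 36110], [15, 0, 21679, 39945], [8, 0, 22666, 39951, 10922], [8, 0, 22738, 39953, 10922], [8, 0, 13964, 39955, 6886], [8, 0, 13130, 39957, 6086], [7, 0, 13886, 39959, 33669], [8, 0, 17485, 39961, 16469], [23, 0, 39694, 39961], [26, 0, 39696, 39961], [4, 0, 29057, 39967, 28941], [24, 0, 30485, 39967], [25, 0, 30425, 39967], [15, 0, 21142, 39971, 21019], [8, 0, 6364,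 39972, 2364], [3, 0, 7949, 39974], [5, 0, 9704, 39974], [8, 0, 7946, 39974, 5386], [10, 0, 9689, 39974], [23, 0, 9660, 39974], [26, 0, 8020, 39974], [3, 0, 7287, 39977, 39978], [15, 0, 36482, 39977, 297], [8, 0, 13871, 39981, 162], [15, 0, 21718, 39983, 20986], [6, 0, 10497, 39985, 3197], [5, 0, 38095, 39985, 38975], [8, 0, 7276, 39985, 38660], [7, 0, 29133, 39987, 17756], [3, 0, 23136, 39995, 6358], [14, 0, 23711, 39995], [4, 0, 39996, 37637, 40080, 224], [7, 0, 13933, 39999, 8793], [16, 0, 39087, 39999], [3, 0, 37682, 40001, 292], [13, 0, 23897, 40001], [16, 0, 39306, 40001], [7, 0, 21024, 40021, 16856], [15, 0, 39703, 40021], [8, 0, 18162, 40025, 18099], [23, 0, 37736, 40025], [26, 0, 37738, 40025], [3, 0, 36110, 40028], [4, 0, 37108, 40028], [9, 0, 37148, 40028], [10, 0, 24720, 40028], [26, 0, 37150, 40028], [3, 0, 22664, 40033, 10924], [3, 0, 22736, 40035, 10924], [16, 0, 13962, 40037, 32950], [15, 0, 13128, 40039, 39360], [4, 0, 13884, 40041, 5389], [15, 0, 17487, 40043, 16467], [23, 0, 39862, 40043], [26, 0, 39864, 40043], [7, 0, 29059, 40049, 28939], [8,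 0, 21132, 40055, 21017], [9, 0, 9680, 40057], [15, 0, 6362, 40057, 35447], [24, 0, 6425, 40057], [25, 0, 9666, 40057], [10, 0, 9684, 40063], [15, 0, 31971, 40063], [15, 0, 7944, 40063, 36475], [23, 0, 9663, 40063], [26, 0, 8017, 40063], [3, 0, 39978, 40070], [3, 0, 37129, 40073], [7, 0, 37131, 40073], [11, 0, 37133, 40073], [12, 0, 37135, 40073], [15, 0, 13873, 40075, 39571], [8, 0, 21708, 40077, 20988], [8, 0, 5378, 40079, 38964], [5, 0, 38975, 40080], [6, 0, 38977, 40080], [8, 0, 2045, 40080, 223], [9, 0, 38662, 40080], [10, 0, 38966, 40080], [13, 0, 37639, 40080], [15, 0, 37657, 40080], [16, 0, 37641, 40080], [23, 0, 38970, 40080], [24, 0, 38666, 40080], [25, 0, 38668, 40080], [26, 0, 38972, 40080], [3, 0, 39933, 40083, 6946], [16, 0, 39937, 40083], [4, 0, 29135, 40085, 38906], [3, 0, 6358, 40086], [5, 0, 9382, 40091, 37183], [15, 0, 2051, 40091], [16, 0, 38431, 40091], [4, 0, 13935, 40093, 37137], [4, 0, 37685, 40097], [6, 0, 37687, 40097], [8, 0, 37689, 40097], [9, 0, 37691, 40097], [11, 0, 37693, 40097], [12, 0, 37695, 40097], [13, 0, 37697, 40097], [14,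 0, 37699, 40097], [15, 0, 38664, 40097], [16, 0, 39022, 40097], [23, 0, 37701, 40097], [26, 0, 37703, 40097], [4, 0, 21022, 40103, 16858], [15, 0, 40154, 38026, 40107], [15, 0, 18169, 40107, 18097], [23, 0, 38286, 40107], [26, 0, 38288, 40107], [8, 0, 22662, 40123, 10926], [8, 0, 22734, 40125, 10926], [7, 0, 13960, 40127, 307], [7, 0, 13126, 40129, 1765], [7, 0, 13882, 40131, 5387], [7, 0, 17489, 40133, 16465], [26, 0, 39968, 40133], [24, 0, 30489, 40139], [25, 0, 30429, 40139], [3, 0, 21130, 40141, 21015], [10, 0, 6446, 40145], [24, 0, 6426, 40145], [25, 0, 9669, 40145], [9, 0, 9672, 40155], [7, 0, 13875, 40171, 37774], [3, 0, 21706, 40173, 20990], [3, 0, 39915, 40175, 4958], [16, 0, 5376, 40175], [5, 0, 9313, 40181], [6, 0, 9319, 40181], [9, 0, 9296, 40181], [10, 0, 5747, 40181], [23, 0, 5242, 40181], [24, 0, 9298, 40181], [25, 0, 7226, 40181], [26, 0, 9295, 40181], [16, 0, 39711, 40201], [7, 0, 29137, 40205, 20193], [27, 0, 40209, 38831, 40208], [29, 0, 40209, 38832, 40208], [7, 0, 13937, 40215, 33669], [7, 0, 21020, 40241, 16860], [7, 0, 18171, 40245, 18095],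 [15, 0, 22660, 40251, 10928], [15, 0, 22732, 40253], [4, 0, 13958, 40255, 36316], [4, 0, 13124, 40257, 35357], [15, 0, 13880, 40259], [4, 0, 17491, 40261, 16463], [23, 0, 40050, 40261], [26, 0, 40052, 40261], [8, 0, 21128, 40269, 21013], [4, 0, 13877, 40279, 39351], [8, 0, 21704, 40281, 20992], [15, 0, 5385, 40283], [15, 0, 29139, 40305], [15, 0, 13939, 40311], [16, 0, 40031, 40313, 16862], [16, 0, 21018, 40313], [4, 0, 18173, 40315, 18093], [15, 0, 39544, 40315], [7, 0, 22658, 40317, 10930], [7, 0, 13956, 40321, 4659], [7, 0, 13122, 40323, 4631], [7, 0, 17493, 40327, 16461], [15, 0, 21126, 40333], [7, 0, 13879, 40335, 6087], [15, 0, 21702, 40337], [8, 0, 21681, 40345, 16864], [15, 0, 39758, 40349], [4, 0, 22656, 40353, 10932], [16, 0, 13954, 40355, 35373], [16, 0, 13120, 40357, 35936], [16, 0, 17495, 40359], [23, 0, 40264, 40359], [26, 0, 40266, 40359], [15, 0, 40324, 40363, 40351], [3, 0, 21683, 40367, 16866], [7, 0, 22654, 40371, 10934], [8, 0, 13952, 40373, 6356], [8, 0, 13118, 40375, 37239], [4, 0, 18092, 40382, 40058], [8, 0, 18095, 40382, 5386], [15, 0,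 40351, 40382], [8, 0, 21685, 40385, 16868]]
def dJ104 : List (List ℕ) := [[339, 0, 11975, 41578, 11974], [335, 2, 39283, 41600, 39282], [342, 3, 11948, 41600, 11949], [332, 1, 12239, 41604, 12238], [336, 1, 12311, 41604, 12310], [340, 3, 12308, 41608, 12309], [341, 2, 12302, 41608, 12303], [336, 1, 12325, 41612, 12324], [332, 3, 13017, 41614, 13016], [340, 1, 13008, 41616, 13009], [332, 1, 39299, 41610, 39298], [342, 3, 21494, 41620, 21495], [339, 0, 21481, 41622, 21480], [331, 2, 39826, 41624, 39827], [415, 1, 18877, 41626, 18876], [343, 2, 18868, 41628, 18869], [344, 3, 19503, 41628, 19502], [342, 1, 39587, 41632, 39586], [339, 2, 20916, 41634, 20917], [331, 0, 20914, 41636, 20915], [341, 2, 20927, 41638, 20926], [340, 1, 20920, 41640, 20921], [332, 3, 20918, 41642, 20919], [342, 1, 20542, 41644, 20543], [336, 3, 20546, 41646, 20547], [342, 1, 20032, 41648, 20033], [340, 3, 20009, 41650, 20008], [332, 1, 19988, 41652, 19989], [336, 3, 19967, 41654, 19966], [340, 3, 19965, 41654, 19964], [335, 0, 19446, 41658, 19447], [342, 1, 19452, 41658, 19453], [335, 2, 19294,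 41662, 19295], [336, 3, 19265, 41662, 19264], [331, 0, 19417, 41666, 19416], [332, 1, 19381, 41666, 19380], [341, 0, 19351, 41666, 19350], [342, 1, 19333, 41666, 19332], [336, 3, 19481, 41674, 19480], [340, 3, 19335, 41674, 19334], [332, 1, 19391, 41678, 19390], [340, 3, 19385, 41680, 19384], [342, 3, 19388, 41680, 19389], [332, 1, 19369, 41684, 19368], [339, 0, 19361, 41684, 19360], [331, 2, 19218, 41688, 19219], [340, 1, 19408, 41690, 19409], [341, 0, 19216, 41690, 19217], [342, 1, 19233, 41690, 19232], [343, 2, 19147, 41694, 19146], [337, 0, 39740, 41698, 39741], [341, 0, 18657, 41698, 18656], [342, 1, 18631, 41698, 18630], [332, 3, 18633, 41704, 18632], [339, 2, 18798, 41704, 18799], [340, 3, 18801, 41704, 18800], [331, 0, 18794, 41710, 18795], [332, 1, 18806, 41710, 18807], [415, 3, 18748, 41714, 18749], [416, 2, 18477, 41714, 18476], [339, 0, 18699, 41718, 18698], [416, 2, 18717, 41720, 18716], [338, 1, 18708, 41722, 18709], [342, 3, 18825, 41724, 18824], [336, 1, 18828, 41726, 18829], [340, 1, 18826, 41726, 18827], [342, 3, 18497, 41730, 18496], [335, 0,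 18502, 41732, 18503], [339, 2, 18396, 41734, 18397], [341, 2, 17983, 41734, 17982], [331, 0, 17984, 41738, 17985], [335, 2, 17424, 41740, 17425], [341, 2, 17416, 41740, 17417], [335, 0, 17414, 41744, 17415], [340, 1, 17928, 41744, 17929], [335, 2, 17930, 41748, 17931], [341, 2, 17932, 41748, 17933], [335, 0, 17135, 41752, 17134], [336, 1, 17136, 41752, 17137], [331, 2, 17325, 41756, 17324], [342, 3, 17191, 41756, 17190], [336, 1, 17999, 41760, 17998], [341, 2, 18002, 41762, 18003], [342, 3, 18001, 41762, 18000], [340, 1, 17399, 41766, 17398], [336, 3, 17400, 41768, 17401], [332, 1, 17335, 41770, 17334], [342, 3, 17332, 41772, 17333], [335, 0, 18515, 41736, 18514], [331, 2, 18781, 41776, 18780], [339, 0, 18775, 41778, 18774], [341, 0, 18778, 41778, 18779], [331, 2, 18761, 41782, 18760], [336, 3, 17782, 41700, 17783], [343, 0, 17780, 41786, 17781], [335, 2, 17778, 41788, 17779], [331, 0, 17776, 41790, 17777], [335, 2, 17774, 41792, 17775], [343, 0, 17772, 41794, 17773], [336, 3, 17770, 41796, 17771], [332, 1, 17768, 41798, 17769], [336, 3, 17766, 41800, 17767], [338,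 1, 17764, 41802, 17765], [334, 3, 17845, 41804, 17844], [344, 1, 17758, 41806, 17759], [331, 2, 38907, 41808, 38906], [335, 0, 20192, 41810, 20193], [343, 2, 40341, 41812, 40340], [344, 3, 20190, 41812, 20191], [336, 1, 20188, 41816, 20189], [332, 3, 20186, 41818, 20187], [336, 1, 20184, 41820, 20185], [344, 3, 20182, 41822, 20183], [335, 0, 20180, 41824, 20181], [331, 2, 20178, 41826, 20179], [335, 0, 20176, 41828, 20177], [336, 1, 29141, 41814, 29140], [332, 3, 29143, 41832, 29142], [336, 1, 29145, 41834, 29144], [344, 3, 38024, 41836, 38025], [335, 0, 28958, 41838, 28959], [331, 2, 28956, 41840, 28957], [335, 0, 28954, 41842, 28955], [344, 3, 28952, 41844, 28953], [336, 1, 28950, 41846, 28951], [332, 3, 28948, 41848, 28949], [336, 1, 28946, 41850, 28947], [343, 2, 39859, 41852, 39858], [335, 0, 29042, 41854, 29043], [331, 2, 29040, 41856, 29041], [335, 0, 29038, 41858, 29039], [343, 2, 29036, 41860, 29037], [336, 1, 29034, 41862, 29035], [332, 3, 29032, 41864, 29033], [336, 1, 29030, 41866, 29031], [344, 3, 29028, 41868, 29029], [335, 0, 29026, 41870, 29027],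 [331, 2, 29024, 41872, 29025], [335, 0, 29022, 41874, 29023], [344, 3, 29020, 41876, 29021], [336, 1, 29018, 41878, 29019], [332, 3, 38058, 41880, 38059], [343, 0, 11307, 41882, 11306], [333, 2, 11366, 41884, 11367], [337, 0, 11313, 41886, 11312], [335, 2, 11315, 41888, 11314], [331, 0, 11317, 41890, 11316], [335, 2, 11319, 41892, 11318], [344, 1, 11321, 41894, 11320], [336, 3, 11323, 41896, 11322], [332, 1, 11325, 41898, 11324], [336, 3, 11327, 41900, 11326], [344, 1, 11329, 41902, 11328], [335, 2, 11331, 41904, 11330], [331, 0, 11333, 41906, 11332], [335, 2, 11335, 41908, 11334], [343, 0, 38524, 41910, 38525], [336, 3, 10958, 41912, 10959], [332, 1, 10956, 41914, 10957], [336, 3, 10954, 41916, 10955], [343, 0, 10952, 41918, 10953], [344, 1, 39949, 41918, 39948], [335, 2, 22711, 41922, 22710], [331, 0, 22713, 41924, 22712], [335, 2, 22715, 41926, 22714], [344, 1, 22717, 41928, 22716], [336, 3, 22719, 41930, 22718], [332, 1, 22721, 41932, 22720], [336, 3, 22723, 41934, 22722], [343, 0, 22725, 41936, 22724], [335, 2, 22727, 41938, 22726], [331, 0, 22729, 41940,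 22728], [335, 2, 22731, 41942, 22730], [343, 0, 40318, 41944, 40319], [344, 3, 10929, 41946, 10928], [335, 0, 10931, 41948, 10930], [331, 2, 10933, 41950, 10932], [335, 0, 10935, 41952, 10934], [344, 3, 10937, 41954, 10936], [330, 17, 10922, 10924, 10926, 40318, 22731, 22729, 22727, 22725, 22723, 22721, 22719, 22717, 22715, 22713, 22711, 39949, 10953, 41920, 10952, 10954, 10956, 10958, 38524, 11335, 11333, 11331, 11329, 11327, 11325, 11323, 11321, 11319, 11317, 11315], [340, 1, 19478, 41676, 19479], [341, 0, 19475, 41676, 19474], [336, 3, 39071, 41606, 39070], [342, 3, 12236, 41606, 12237], [336, 1, 39063, 41966, 39062], [340, 3, 22524, 41968, 22525], [341, 2, 22518, 41968, 22519], [342, 3, 22521, 41968, 22520], [335, 0, 22347, 41974, 22346], [336, 1, 22376, 41974, 22377], [339, 0, 22344, 41974, 22345], [342, 3, 23111, 41980, 23110], [336, 1, 23114, 41982, 23115], [416, 2, 23056, 41984, 23057], [341, 0, 23046, 41986, 23047], [343, 2, 23859, 41988, 23858], [416, 2, 23043, 41988, 23042], [333, 0, 23007, 41992, 23006], [339, 2, 23064, 41994, 23065], [342, 1, 23081,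 41996, 23080]]
def dJ108 : List (List ℕ) := [[25, 0, 39537, 43182], [15, 0, 21095, 43185], [8, 0, 21112, 43187, 16464], [8, 0, 20996, 43189, 36611], [7, 0, 21786, 43197, 16452], [16, 0, 39716, 43197], [15, 0, 21110, 43205, 43060], [16, 0, 20994, 43207, 304], [4, 0, 21784, 43209, 16454], [7, 0, 21108, 43213, 16613], [7, 0, 20992, 43215, 37445], [16, 0, 40365, 43215, 36795], [7, 0, 21782, 43217, 16456], [4, 0, 21106, 43219, 16611], [4, 0, 20990, 43221, 37346], [7, 0, 21700, 43223, 2566], [15, 0, 21780, 43225, 16458], [7, 0, 21104, 43227, 16609], [7, 0, 20988, 43229, 17783], [4, 0, 21698, 43231, 37074], [8, 0, 21778, 43233, 16460], [16, 0, 21102, 43235], [15, 0, 20986, 43237], [7, 0, 21696, 43239, 28008], [3, 0, 21776, 43241, 16462], [16, 0, 21694, 43247, 36871], [8, 0, 21774, 43249, 16464], [8, 0, 21692, 43251, 33671], [15, 0, 21772, 43253, 43060], [3, 0, 21690, 43255, 34923], [7, 0, 21770, 43257, 16613], [8, 0, 21688, 43259, 16485], [4, 0, 40113, 43261, 16611], [4, 0, 40115, 43261], [10, 0, 40119, 43261], [26, 0, 40121, 43261], [16, 0, 40410, 43263], [4, 0, 16611,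 43264], [7, 0, 16608, 43264, 35474], [16, 0, 16606, 43277, 35912], [15, 0, 43243, 43277, 1770], [8, 0, 16604, 43279, 2567], [8, 0, 21100, 43281, 40009], [3, 0, 16602, 43283, 36792], [4, 0, 21098, 43285], [8, 0, 16600, 43287, 28009], [15, 0, 16598, 43291, 37034], [8, 0, 16596, 43293], [330, 5, 16433, 16431, 35854, 36869, 33671, 34923, 16485, 43272, 16869, 16867, 16865, 43106, 17668, 17670, 17672, 43085, 17501, 17499, 17497, 40377, 16460, 16462, 16464, 43060, 16613, 43275, 35474, 1770, 37084, 37225, 37085, 40009, 43288, 21097], [346, 0, 43106, 17668, 17670, 17672, 43085, 17501, 17499, 17497, 43074, 16457, 16455, 16453, 43210, 20980, 20982, 20984, 20985, 20983, 20981, 43211, 16452, 16454, 16456, 16457, 16455, 16453, 16451, 43190, 39035, 39154, 38947, 43169, 16439, 16437, 16435, 16433, 16431, 35854, 36869, 33671, 34923, 16485, 43272, 16869, 16867, 16865], [359, 2, 43107, 43298, 43106], [352, 1, 17669, 43300, 17668], [348, 3, 17671, 43302, 17670], [352, 1, 17673, 43304, 17672], [360, 3, 39234, 43306, 39235], [351, 0, 17505, 43308, 17504], [347, 2, 17507, 43310, 17506],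 [351, 0, 17509, 43312, 17508], [346, 27, 21202, 21204, 21206, 21208, 21210, 21212, 21214, 21216, 40105, 16856, 16858, 16860, 43119, 17668, 17670, 17672, 39235, 17504, 17506, 17508, 43314, 38199, 16589, 16587, 36611, 304, 37445, 37346, 17783, 17781, 17779, 17777, 17775, 17773, 17771, 17769, 17767, 17766, 17768, 17770, 17772, 17774, 17776, 17778, 17779, 17777, 17775], [7, 0, 21200, 43317, 17774], [15, 0, 21203, 43317], [4, 0, 21198, 43319, 17776], [7, 0, 21196, 43323, 17778], [9, 0, 21194, 43325], [249, 1, 17772, 42794, 43320], [345, 11, 40016, 39348, 38922, 169, 43169, 16439, 16437, 16435, 16433, 16431, 35854, 35855, 16430, 16432, 43297, 21096, 43289, 40008, 40009, 43288, 21097, 43296, 16433, 16431, 35854, 153, 28009, 37075, 2567, 36794, 37445, 37346, 17783, 17781, 41081, 17779, 17777, 17775, 43320, 21204, 21206, 21208, 21210, 21212, 21214, 21216], [345, 15, 17766, 17768, 17770, 43329, 21204, 21206, 21208, 21209, 21207, 21205, 43321, 17774, 17776, 17778, 17779, 17777, 17775, 43320, 21204, 21206, 21208, 21210, 21212, 21214, 21216, 40105, 16856, 16858, 16860, 43119,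 43300, 17668, 17670, 17672, 43085, 17501, 17499, 17497, 40377, 16460, 16462, 16464, 16466, 16468, 16470, 16472], [361, 1, 40450, 35460, 38389, 5859, 38708, 9918, 40009, 43288, 21097, 43296, 16433, 16431, 35854, 153, 28009, 37075, 2567, 36794, 37445, 37346, 17783, 17781, 17779, 17777, 17775, 43320, 21204, 21206, 21208, 21210, 21212, 21214, 21216, 40105, 16856, 16858, 16860, 43119, 17668, 17670, 17672, 39235, 17504, 17506, 17508, 17539, 17509], [4, 0, 17506, 43334], [8, 0, 17509, 43334], [54, 1, 40469, 13102, 43338], [4, 0, 24979, 43341], [5, 0, 43340, 25043, 43341], [8, 0, 40468, 43341], [9, 0, 43340, 25041, 43341], [362, 46, 17497, 17553, 17496, 17498, 17500, 17502, 17504, 43337, 43338, 38199, 16589, 16587, 36611, 304, 37445, 37346, 17783, 17781, 17779, 17777, 17775, 17773, 17771, 17769, 17767, 43333, 16473, 16471, 16469, 39698, 16613, 43275, 35474, 1770, 40009, 43288, 21097, 43203, 16436, 16438, 43168, 5884, 5867, 5867, 168, 38923, 36023], [3, 0, 17499, 43351, 37088], [8, 0, 17496, 43351], [8, 0, 17501, 43353, 37863], [16, 0, 17503, 43357, 37711], [15, 0, 43085,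 43357, 34983], [8, 0, 17505, 43359], [7, 0, 17672, 43361, 35187], [4, 0, 17670, 43365, 35996], [8, 0, 17668, 43367], [362, 45, 21208, 21231, 21209, 21207, 21205, 43328, 17771, 17769, 17767, 43333, 16473, 16471, 16469, 39698, 16613, 43275, 35474, 1770, 40009, 43288, 21097, 43203, 16436, 16438, 43168, 168, 38923, 39349, 40017, 16854, 16856, 16858, 16860, 43119, 43369, 35997, 35186, 37709, 43362, 43337, 43338, 43348, 43344, 43344, 38199, 16589], [319, 0, 43339, 40452, 43362], [315, 1, 40498, 43336, 43372], [317, 3, 43372, 43344, 43373], [320, 0, 43372, 43346, 40446], [321, 3, 43372, 43348, 43373], [37, 2, 43343, 43374, 11648], [8, 0, 24981, 43383, 43378], [15, 0, 24983, 43385], [265, 0, 43105, 43374, 40494, 34923, 16534], [8, 0, 16593, 43389, 16485], [16, 0, 16590, 43389], [4, 0, 16595, 43391], [266, 4, 38198, 17594, 43374, 40501, 43274], [3, 0, 43274, 43396], [4, 0, 43267, 43396], [8, 0, 16613, 43396, 16589], [10, 0, 43269, 43396], [26, 0, 43271, 43396], [15, 0, 43060, 43403], [15, 0, 39698, 43403, 43370], [4, 0, 21206, 43410], [7, 0, 21209, 43410, 16468], [15, 0,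 43370, 43410], [15, 0, 21211, 43415], [266, 4, 21243, 43413, 43416, 16587], [327, 2, 39859, 40137, 43416], [319, 0, 43407, 16589, 43422, 29043], [4, 0, 29040, 43424, 36005], [8, 0, 29043, 43424, 10910], [7, 0, 29038, 43427, 35460], [16, 0, 43054, 43429, 10912], [15, 0, 39858, 43429, 42900], [16, 0, 29036, 43431, 34439], [7, 0, 28942, 43433, 10914], [25, 0, 40262, 43433], [7, 0, 28947, 43435, 22825], [24, 0, 40134, 43435], [25, 0, 40136, 43435], [8, 0, 29034, 43437, 2506], [4, 0, 28940, 43439, 10916], [25, 0, 40330, 43439], [4, 0, 28949, 43443, 22823], [24, 0, 40044, 43443], [25, 0, 40046, 43443], [3, 0, 29032, 43449, 37377], [7, 0, 28938, 43451, 10918], [7, 0, 28951, 43455, 22821], [24, 0, 39962, 43455], [25, 0, 39964, 43455], [8, 0, 29030, 43461, 36879], [16, 0, 28936, 43463, 42919], [24, 0, 40378, 43463], [25, 0, 40380, 43463], [16, 0, 28953, 43465, 42998], [24, 0, 39852, 43465], [25, 0, 39854, 43465], [15, 0, 29028, 43471, 282], [8, 0, 28934, 43473, 11314], [8, 0, 28955, 43479, 11130], [9, 0, 39686, 43479], [24, 0, 39690, 43479], [8, 0, 29026, 43485], [3, 0,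 28932, 43487, 11316], [3, 0, 28957, 43489, 11132], [5, 0, 39514, 43489], [9, 0, 39518, 43489], [8, 0, 28930, 43497, 11318], [5, 0, 39332, 43499], [8, 0, 28959, 43499, 11134], [9, 0, 43498, 38483, 43499], [16, 0, 42822, 43505, 11320], [16, 0, 42869, 43505], [16, 0, 38025, 43509, 42951], [15, 0, 28961, 43509, 40023], [4, 0, 43289, 43513], [6, 0, 40005, 43513], [7, 0, 40007, 43513], [7, 0, 40009, 43513, 11322], [15, 0, 20151, 43513], [23, 0, 40011, 43513], [26, 0, 40013, 43513], [7, 0, 29144, 43517, 10943], [7, 0, 28963, 43519, 10946], [4, 0, 11325, 43526, 36998], [7, 0, 11322, 43526], [4, 0, 29142, 43535, 10941], [4, 0, 38186, 43537, 10948], [7, 0, 11327, 43539, 37773], [7, 0, 29140, 43543, 10939], [4, 0, 10948, 43544], [7, 0, 10951, 43544, 38188], [16, 0, 11329, 43547, 39570], [16, 0, 42826, 43549, 10937], [15, 0, 40340, 43549, 42940], [16, 0, 10953, 43553, 39133], [15, 0, 42987, 43553, 36232], [8, 0, 11331, 43555, 19148], [8, 0, 20188, 43557, 10935], [8, 0, 22650, 43558, 20192], [15, 0, 42940, 43558], [16, 0, 40400, 43558], [8, 0, 10955, 43561, 39120], [8, 0, 22711,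 43563, 36879], [8, 0, 19148, 43564], [11, 0, 19277, 43564], [12, 0, 19303, 43564], [15, 0, 20343, 43564], [23, 0, 20076, 43564], [24, 0, 43176, 43564], [3, 0, 20186, 43567, 10933], [3, 0, 22648, 43569, 38907], [5, 0, 40014, 43574], [6, 0, 35852, 43574], [7, 0, 39378, 43574]]
def dJ112 : List (List ℕ) := [[226, 4, 24166, 24617, 44764, 18668], [125, 1, 18670, 44800, 24166], [226, 4, 24134, 24164, 44802, 17980], [125, 1, 18495, 44804, 24134], [202, 1, 17909, 44804, 23722, 23891], [305, 1, 18411, 44804, 23914], [306, 0, 18423, 44804, 23865], [113, 3, 23855, 44812, 18418], [201, 4, 44700, 39278, 44485, 44798], [209, 0, 24147, 44816, 17161, 44691], [210, 2, 24894, 44816, 44700, 44732], [217, 4, 44737, 44820, 24893, 24694], [113, 1, 24694, 44822, 39765], [125, 1, 25393, 44822, 44737], [113, 2, 13646, 44818, 23977], [114, 3, 13643, 44818, 24800], [217, 3, 14248, 14251, 44818, 23792], [218, 3, 14231, 13643, 44818, 23795], [302, 2, 13671, 44818, 24060], [114, 1, 24028, 44836, 14247], [202, 3, 44608, 44838, 24033, 24842], [225, 0, 24845, 44840, 11940, 12292], [226, 2, 24848,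 44840, 12310, 39420], [113, 0, 21332, 44844, 24663, 44825], [4, 0, 39826, 44847, 39762], [11, 0, 21480, 44847], [13, 0, 21335, 44847], [13, 0, 39796, 44847, 39766], [15, 0, 44478, 44847, 19502], [23, 0, 44524, 44847, 18877], [3, 0, 39762, 44848, 44858, 18632], [7, 0, 44736, 44848, 44858], [9, 0, 44822, 44848, 44858], [13, 0, 37452, 44848, 44858, 44045], [15, 0, 20101, 44848, 44858, 44326], [23, 0, 39926, 44848, 44858], [24, 0, 39413, 44848, 44858], [25, 0, 39415, 44848, 44858], [26, 0, 39928, 44848, 44858], [4, 0, 39791, 44855, 5373], [3, 0, 39793, 44855, 38213], [7, 0, 44023, 44855, 39606], [10, 0, 44881, 39795, 44855, 39641], [15, 0, 44025, 44855, 38575], [4, 0, 44868, 39621, 44856, 19221], [3, 0, 39581, 44856, 19218], [7, 0, 44411, 44856], [12, 0, 39583, 44856, 19409], [11, 0, 39585, 44856, 19410], [14, 0, 39587, 44856, 19232], [13, 0, 19498, 44856, 44031], [15, 0, 44857, 19503, 44861, 39922], [16, 0, 42181, 44856], [24, 0, 19511, 44856, 44546, 44891], [4, 0, 39825, 44858, 18635], [12, 0, 39829, 44858, 18799], [11, 0, 39831, 44858, 18800], [14, 0, 39833, 44858,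 18646], [9, 0, 44825, 44861], [12, 0, 44851, 44861, 18753], [14, 0, 44853, 44861, 18616], [13, 0, 39767, 44861, 39918], [16, 0, 18868, 44861, 39920], [7, 0, 10963, 44866, 44878, 39650], [13, 0, 44045, 44866, 44878], [16, 0, 10960, 44866, 44878, 39891], [8, 0, 39455, 44869, 44889, 19430], [7, 0, 39457, 44869, 44889, 19438], [12, 0, 39459, 44869, 44889, 19313], [11, 0, 39461, 44869, 44889, 19336], [14, 0, 39463, 44869, 44889, 19180], [13, 0, 39465, 44869, 44889, 19171], [4, 0, 5373, 44878], [8, 0, 37445, 44878, 218], [7, 0, 37447, 44878, 39650, 44926], [12, 0, 37449, 44878, 39654], [11, 0, 37451, 44878, 39656], [16, 0, 39572, 44878, 39891], [15, 0, 38226, 44878, 39662], [7, 0, 17782, 44880, 44885, 18323], [16, 0, 44065, 44880, 44885, 38541], [15, 0, 44067, 44880, 44885, 160], [3, 0, 44321, 44883], [15, 0, 44315, 44883], [4, 0, 39176, 44885], [8, 0, 38922, 44885, 159], [7, 0, 38887, 44885, 18323, 44958], [12, 0, 39204, 44885, 18380], [11, 0, 39216, 44885, 18392], [13, 0, 21326, 44885, 18593], [16, 0, 38622, 44885, 38541], [12, 0, 43581, 44887, 39595], [11, 0, 43583,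 44887, 20485], [13, 0, 44013, 44887, 19990], [12, 0, 20004, 44889, 19313], [11, 0, 20525, 44889, 19336], [14, 0, 19973, 44889, 19180], [15, 0, 44326, 44889], [23, 0, 44537, 44889], [26, 0, 44330, 44889], [12, 0, 20912, 44891, 19361], [14, 0, 44986, 20879, 44891, 19202], [4, 0, 20938, 44895, 19415], [14, 0, 20936, 44895, 19413], [14, 0, 44417, 44895], [24, 0, 44399, 44895, 44549, 45001], [4, 0, 20940, 44897, 19417], [7, 0, 44412, 44897], [23, 0, 44896, 44447, 44935, 44404], [7, 0, 44543, 44899], [15, 0, 44460, 44899], [3, 0, 44038, 44900, 44956, 164], [7, 0, 43995, 44900, 44956], [12, 0, 43999, 44900, 44956, 19250], [11, 0, 44001, 44900, 44956, 19266], [13, 0, 44033, 44900, 44956, 19963], [8, 0, 19957, 44902, 44892], [8, 0, 19959, 44902], [12, 0, 19955, 44902, 19409], [11, 0, 19953, 44902, 19410], [14, 0, 19950, 44902], [15, 0, 39922, 44902], [23, 0, 39774, 44902], [26, 0, 39776, 44902], [7, 0, 44936, 39599, 44907], [12, 0, 44934, 39601, 44907], [23, 0, 19508, 44907], [26, 0, 19512, 44907], [8, 0, 39466, 44909, 18580], [7, 0, 39294, 44909, 18582], [9, 0, 44845,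 44909], [12, 0, 39300, 44909, 18578], [11, 0, 39420, 44909, 18576], [16, 0, 39772, 44909], [23, 0, 44872, 44909], [24, 0, 39924, 44909], [25, 0, 39930, 44909], [26, 0, 44874, 44909], [4, 0, 39418, 44911, 18805], [14, 0, 21506, 44911, 18803], [14, 0, 44951, 44497, 44911], [24, 0, 45063, 44506, 44911], [25, 0, 45063, 44490, 44911], [3, 0, 21498, 44913, 18795], [14, 0, 44953, 44502, 44913], [24, 0, 45065, 44511, 44913], [25, 0, 45065, 44495, 44913], [9, 0, 44769, 44915, 44763], [13, 0, 39182, 44915], [24, 0, 44516, 44915], [25, 0, 44471, 44915], [14, 0, 21495, 44919, 18778], [24, 0, 44514, 44919], [25, 0, 44476, 44919], [24, 0, 44521, 44921], [25, 0, 44466, 44921], [4, 0, 39781, 44922], [8, 0, 37561, 44922, 5374], [7, 0, 10432, 44922, 39606], [12, 0, 39195, 44922, 39608], [11, 0, 39197, 44922, 39610], [13, 0, 39918, 44922], [14, 0, 39785, 44922], [16, 0, 39393, 44922, 39617], [16, 0, 39920, 44924], [7, 0, 39650, 44926, 44948], [11, 0, 18733, 44926, 44948, 34364], [8, 0, 10958, 44931], [13, 0, 45026, 20553, 44933, 45037, 45008], [3, 0, 20036, 44935], [4, 0, 20024,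 44935], [14, 0, 20513, 44935, 20041], [23, 0, 44435, 44935], [26, 0, 44345, 44935], [13, 0, 39448, 44937, 19311], [14, 0, 20540, 44939, 19344], [7, 0, 20871, 44941, 19482], [15, 0, 44462, 44941], [8, 0, 166, 44943], [4, 0, 36317, 44947, 39802], [3, 0, 34589, 44947, 39804], [7, 0, 307, 44947], [12, 0, 35267, 44947, 39810], [11, 0, 35269, 44947, 39812], [14, 0, 36300, 44947, 39814], [13, 0, 36308, 44947, 39816], [16, 0, 36794, 44947, 220], [15, 0, 304, 44947, 37472], [4, 0, 10965, 44948, 38950], [3, 0, 44499, 44950], [4, 0, 45102, 44501, 44950], [9, 0, 18697, 44950, 12136], [12, 0, 39654, 44950], [14, 0, 45078, 44489, 44950], [3, 0, 44505, 44952], [10, 0, 18458, 44952, 12919], [11, 0, 39656, 44952], [4, 0, 4966, 44955], [8, 0, 37773, 44955, 2053], [7, 0, 37775, 44955, 45134]]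
def dJ116 : List (List ℕ) := [[133, 0, 23843, 24192, 46398], [134, 3, 24709, 24180, 46398], [173, 0, 24183, 46398, 25979], [245, 2, 23805, 23818, 24900, 24899, 46398, 35813, 35810], [308, 1, 46398, 25990, 25951], [304, 3, 25954, 46408, 24181], [307, 2, 25952, 46408, 24898], [310, 3, 25948, 46408, 24182], [304, 1, 24190, 46414, 25380], [307, 3, 46416, 23831, 23865], [308, 3, 25425, 46416, 23828], [309, 2, 26184, 46416, 23838], [304, 1, 24711, 46422, 26191], [307, 0, 23841, 46422, 26189], [308, 0, 23880, 23842, 46422], [69, 1, 26188, 46428], [134, 1, 25292, 26190, 46428], [178, 4, 46418, 26185, 46428, 46430, 25418], [323, 0, 46428, 23884, 23842], [319, 2, 24711, 46436, 26191], [326, 3, 23838, 46436, 26184], [323, 0, 25425, 46440, 23828], [319, 2, 24167, 46442, 25427], [315, 0, 24866, 46444, 25298], [316, 0, 24753, 24878, 46444], [320, 0, 25976, 25848, 46444], [303, 0, 46450, 25974, 25848], [300, 3, 24866, 46452, 25298], [308, 3, 24869, 46452, 24165], [299, 3, 24790, 46240, 46456], [300, 1, 24853, 46456, 24877], [303, 3, 23864, 24134, 46456], [218, 3, 46462, 45773,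 12843, 13752], [209, 0, 13755, 46464, 46251, 46242], [210, 2, 13758, 46464, 24877, 24713], [113, 2, 23962, 46468, 13681], [114, 3, 46221, 46468, 13682], [217, 3, 24760, 23759, 46468, 13472], [218, 3, 46314, 46221, 46468, 13497], [301, 3, 24793, 46468, 14290], [86, 1, 46478, 46242, 46466], [114, 1, 14268, 46478, 24763], [218, 1, 14276, 46478, 24768, 23997], [85, 3, 24077, 46482, 44634], [86, 2, 24063, 46482, 44579], [202, 3, 24063, 46482, 14273, 13714], [209, 2, 24093, 24063, 46482, 44639], [210, 4, 24119, 23819, 46482, 44637], [85, 1, 39292, 46494, 24119], [86, 0, 12252, 46492, 24095], [217, 4, 45921, 12805, 44644, 46492], [225, 0, 24089, 46500, 17399, 37405], [113, 3, 13549, 46502, 23924], [114, 2, 13546, 46502, 23923], [201, 3, 12802, 13554, 46502, 23708], [202, 3, 12708, 13549, 46502, 23733], [297, 2, 37874, 42598, 42608, 46502], [298, 2, 8746, 37316, 13566, 46502], [265, 2, 23732, 23712, 46514, 32966], [266, 4, 23653, 23709, 46514, 32968], [281, 2, 23922, 23714, 46514, 32970], [282, 4, 23940, 23925, 46514, 32972], [311, 1, 8328, 46522, 23944], [249, 1, 46132,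 42035, 46524], [298, 1, 46524, 2730, 42720, 12781], [314, 4, 23867, 23868, 46524, 8326], [265, 0, 8157, 46530, 23722, 23724], [249, 2, 42026, 46532, 12045], [281, 2, 23890, 23726, 46532, 32959], [297, 4, 46532, 38396, 42574, 42658], [327, 0, 46532, 10838, 42382], [318, 0, 46540, 45831, 45846], [321, 1, 13607, 42658, 46540], [250, 2, 33116, 37882, 46536], [313, 2, 11801, 12058, 46534, 23730], [125, 2, 46510, 13730, 42653], [217, 1, 46433, 23870, 46510, 13730], [226, 2, 24074, 46510, 13730, 13760], [126, 1, 42635, 14036, 46554], [218, 2, 39275, 14036, 46554, 46487], [133, 1, 38751, 38756, 46558], [134, 2, 39063, 39066, 46558], [242, 3, 12237, 39066, 46558, 39043], [304, 3, 46558, 39031, 46108], [319, 0, 46558, 39033, 46108], [315, 3, 46568, 44635, 14298], [324, 3, 22524, 46568, 39067], [325, 2, 22518, 46568, 39081], [326, 3, 22521, 46568, 22393], [319, 0, 22379, 46576, 22346], [320, 1, 22346, 46576, 22377], [325, 2, 46300, 46580, 22521], [326, 3, 22997, 46580, 22522], [319, 3, 38783, 38766, 46584], [323, 0, 23113, 46584, 46309], [324, 2, 46584, 46129, 14220], [70,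 2, 46590, 23112], [238, 5, 46592, 46590, 22523, 22521, 46571, 35679, 35676], [307, 0, 46129, 14222, 46590], [308, 3, 12235, 38776, 46590], [299, 1, 46598, 12229, 12129], [304, 1, 46306, 46598, 39074], [307, 0, 23113, 46598, 12230], [310, 1, 22522, 46598, 39078], [303, 2, 22346, 46606, 22377], [304, 3, 22379, 46606, 22346], [299, 0, 39290, 46610, 23092], [309, 0, 39078, 46610, 22996], [299, 3, 46614, 12252, 44649], [300, 0, 46614, 12229, 12195], [302, 0, 46614, 46499, 46420], [413, 1, 46597, 46584, 46614], [319, 2, 39075, 46622, 39071], [93, 3, 46618, 22997, 23092], [95, 4, 46626, 46618, 22997, 46301, 14357], [326, 3, 11972, 44577, 46628], [317, 1, 46630, 46497, 46387], [320, 2, 46630, 45396, 45072], [126, 0, 24637, 44917, 46634], [225, 2, 18752, 46634, 46636, 23841], [306, 0, 46423, 46638, 45104], [125, 0, 46640, 26183, 42640], [226, 2, 25950, 42640, 46642, 18797], [126, 3, 46644, 46397, 46529], [310, 1, 46300, 46608, 22521], [304, 3, 39062, 46648, 46296], [308, 3, 22524, 46648, 14358], [299, 3, 12163, 44594, 46652], [413, 3, 44628, 44621, 46652], [86, 0, 24121,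 44834, 46594], [201, 3, 46365, 13423, 14227, 46594], [241, 3, 24110, 24117, 46556, 25911], [134, 1, 26112, 46662, 24115], [217, 1, 45823, 13590, 46545, 46664], [211, 3, 25949, 25372, 26124, 26121, 46666, 17191, 17172], [217, 2, 46668, 46645, 46647, 36296], [133, 1, 46670, 17174, 17400], [134, 2, 46670, 37411, 37404], [241, 1, 17217, 46670, 17174, 17160], [303, 0, 45921, 37328, 46670], [320, 3, 45921, 37330, 46670], [316, 0, 12948, 44723, 46680], [317, 3, 46393, 46669, 46680], [323, 0, 17175, 46680, 17399], [325, 0, 17172, 46680, 17394], [326, 1, 17185, 46680, 17393], [316, 0, 46690, 44689, 13708], [319, 2, 45892, 46690, 17998], [323, 3, 46690, 37429, 37434], [324, 3, 18005, 46690, 17186], [413, 0, 46690, 44702, 44725], [303, 2, 17999, 46700, 45893], [308, 3, 17187, 46700, 18004], [309, 2, 17190, 46700, 17397], [303, 0, 17105, 46706, 17136], [304, 1, 17134, 46706, 17105], [413, 1, 46706, 46689, 46710], [414, 0, 46708, 46689, 46706], [325, 2, 45948, 46712, 17395], [326, 3, 46026, 46712, 17396], [413, 2, 46718, 44703, 44724], [309, 0, 13720, 46720, 17392], [304, 3,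 17400, 46722, 45946], [308, 3, 17398, 46722, 13008], [299, 3, 13620, 13420, 46726], [413, 3, 44705, 44716, 46726], [300, 2, 46704, 44700, 12908], [307, 1, 46704, 37427, 37432], [125, 1, 24157, 46508, 44610], [306, 1, 44840, 44605, 46736], [321, 2, 44840, 44613, 46736], [316, 1, 25355, 46740, 24866], [319, 3, 23950, 24156, 46740], [323, 0, 24709, 46740, 24844], [324, 1, 24634, 46740, 24849], [325, 0, 24159, 46740, 25360], [326, 0, 24753, 24162, 46740], [77, 1, 25361, 46752], [94, 1, 25291, 24867, 46752], [173, 3, 24845, 46752, 24737], [175, 4, 46758, 24845, 46752, 46754, 25356], [94, 3, 24713, 24820, 46760], [241, 1, 46760, 23999, 46097, 37748], [246, 5, 24851, 46760, 24736, 37117, 46289, 35932, 26030], [309, 2, 46760, 24790, 46250], [310, 1, 46760, 24014, 24137], [325, 2, 46760, 24016, 24137], [326, 1, 46760, 24785, 46250], [325, 2, 24874, 46774, 24850], [323, 0, 24847, 46776, 24832], [413, 2, 46776, 46424, 46439], [307, 0, 24833, 46780, 24846], [299, 2, 24688, 46782, 24691], [300, 3, 24659, 46782, 24688], [307, 2, 24165, 46770, 25357], [304, 2, 46788, 46450, 26025],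 [306, 2, 46788, 45745, 44706], [413, 0, 46742, 46788, 46751], [233, 3, 14384, 13760, 46480, 14281], [86, 0, 46257, 44830, 46796]]
def dJ120 : List (List ℕ) := [[94, 1, 47994, 47519, 22523], [173, 2, 47994, 47521, 14162], [174, 1, 47994, 47618, 47605], [242, 3, 47994, 47521, 47363, 47327], [261, 2, 47994, 47525, 47995], [277, 2, 47994, 47527, 47995], [293, 2, 47994, 47529, 47995], [309, 2, 47994, 47531, 14132], [310, 1, 47994, 47533, 39284], [325, 2, 47994, 47535, 39284], [326, 1, 47994, 47537, 14132], [341, 2, 47994, 47539, 47995], [357, 2, 47994, 47541, 47995], [373, 2, 47994, 47543, 47995], [0, 0], [259, 2, 48029, 35375, 48028], [275, 2, 48029, 1320, 48028], [291, 2, 48029, 1406, 48028], [339, 2, 48029, 37524, 48028], [355, 2, 48029, 37526, 48028], [371, 2, 48029, 493, 48028], [0, 0], [69, 1, 48028, 48042], [259, 2, 48043, 48031, 48042], [275, 2, 48043, 48033, 48042], [291, 2, 48043, 48035, 48042], [339, 2, 48043, 48037, 48042], [355, 2, 48043, 48039, 48042], [371, 2, 48043, 48041, 48042], [0, 0], [93, 2, 37749, 38677, 48058], [94, 1, 32997, 35369, 48058], [210,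 2, 23149, 46091, 38677, 48058], [261, 2, 48059, 35375, 48058], [277, 2, 48059, 1320, 48058], [293, 2, 48059, 1406, 48058], [309, 2, 37027, 1507, 48058], [310, 1, 46009, 1500, 48058], [313, 2, 14029, 36713, 35373, 48058], [314, 2, 8673, 1486, 8821, 48058], [325, 2, 46009, 8821, 48058], [326, 1, 37027, 8750, 48058], [341, 2, 48059, 37524, 48058], [357, 2, 48059, 37526, 48058], [373, 2, 48059, 493, 48058], [321, 3, 48082, 42655, 37434], [125, 0, 46491, 45951, 48090], [0, 0], [77, 1, 48058, 48094], [93, 2, 45835, 48061, 48094], [210, 2, 23731, 45831, 48061, 48094], [211, 3, 23869, 40229, 46229, 37136, 285, 48058, 48094], [261, 2, 48095, 48067, 48094], [277, 2, 48095, 48069, 48094], [293, 2, 48095, 48071, 48094], [309, 2, 46079, 48073, 48094], [313, 2, 14163, 14160, 48077, 48094], [314, 2, 8806, 46536, 48081, 48094], [326, 1, 46079, 48083, 48094], [341, 2, 48095, 48085, 48094], [357, 2, 48095, 48087, 48094], [373, 2, 48095, 48089, 48094], [322, 0, 48116, 46503, 37418], [126, 1, 46367, 45821, 48124], [0, 0], [95, 3, 48095, 48059, 35368, 32996, 48128], [38, 2, 48130,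 48098], [86, 2, 48130, 48100, 23735], [94, 2, 48130, 48096, 35368], [201, 1, 48130, 48125, 36297, 12808], [251, 2, 48130, 48105, 48131], [265, 2, 48130, 48106, 48114, 32923], [266, 2, 48130, 48112, 14169, 42620], [267, 2, 48130, 48107, 48131], [283, 2, 48130, 48109, 48131], [300, 1, 48130, 48110, 23733], [315, 2, 48130, 48116, 23733], [331, 2, 48130, 48119, 48131], [347, 2, 48130, 48121, 48131], [363, 2, 48130, 48123, 48131], [312, 1, 46153, 12097, 48144], [327, 2, 46153, 12092, 48144], [0, 0], [133, 2, 48029, 46174, 48164], [241, 2, 48166, 48029, 48058, 48092], [255, 2, 48166, 48031, 48167], [271, 2, 48166, 48033, 48167], [287, 2, 48166, 48035, 48167], [335, 2, 48166, 48037, 48167], [351, 2, 48166, 48039, 48167], [367, 2, 48166, 48041, 48167], [78, 1, 24093, 48168], [93, 0, 24117, 24073, 48168], [94, 3, 23819, 24062, 48168], [86, 2, 48186, 46496, 39290], [201, 1, 48001, 22351, 48188, 48184], [226, 2, 48029, 1504, 46174, 48164], [308, 1, 48029, 1506, 48164], [323, 2, 48029, 8751, 48164], [318, 0, 46577, 48188, 48196], [0, 0], [135, 3, 48043, 48029, 46174, 48164,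 48200], [134, 2, 48202, 48044, 46174], [225, 0, 48205, 1497, 48204, 48202], [255, 2, 48202, 48047, 48203], [271, 2, 48202, 48049, 48203], [287, 2, 48202, 48051, 48203], [335, 2, 48202, 48053, 48203], [351, 2, 48202, 48055, 48203], [367, 2, 48202, 48057, 48203], [173, 3, 24091, 45915, 48204], [233, 3, 23827, 23640, 46066, 48204], [307, 0, 48044, 1506, 48204], [324, 3, 48044, 8751, 48204], [85, 1, 48222, 47040, 46984], [114, 3, 22365, 48228, 48207], [0, 0], [137, 3, 48166, 48029, 46174, 46236, 48232], [54, 2, 48234, 48166], [126, 2, 48234, 48192, 48167], [128, 1, 48237, 48193, 48238, 48234, 48192], [218, 3, 48234, 48192, 48198, 22377], [255, 2, 48234, 48171, 48235], [271, 2, 48234, 48173, 48235], [287, 2, 48234, 48175, 48235], [303, 2, 48234, 48194, 48167], [304, 1, 48234, 48250, 48237], [320, 1, 48234, 48196, 48167], [335, 2, 48234, 48177, 48235], [351, 2, 48234, 48179, 48235], [367, 2, 48234, 48181, 48235], [320, 1, 48236, 48255, 48235], [316, 2, 46386, 48187, 48254], [0, 0], [139, 4, 48202, 48043, 48029, 46174, 46236, 48232, 48266], [54, 2, 48268, 48202], [125,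 1, 48268, 48207, 48203], [126, 2, 48268, 48272, 48271], [134, 2, 48268, 48205, 46236], [217, 1, 48268, 48229, 22364, 22363], [255, 2, 48268, 48209, 48269], [271, 2, 48268, 48211, 48269], [287, 2, 48268, 48213, 48269], [303, 2, 48268, 48224, 48203], [304, 1, 48268, 48286, 48271], [320, 1, 48268, 48226, 48203], [335, 2, 48268, 48215, 48269], [351, 2, 48268, 48217, 48269], [367, 2, 48268, 48219, 48269], [320, 1, 48270, 48291, 48269], [316, 2, 46440, 48223, 48290], [0, 0], [173, 2, 48059, 48028, 48302], [233, 1, 48304, 48060, 37749, 46096], [259, 2, 48304, 48067, 48305], [275, 2, 48304, 48069, 48305], [291, 2, 48304, 48071, 48305], [308, 1, 48304, 48072, 46076], [323, 2, 48304, 48082, 46076], [339, 2, 48304, 48085, 48305], [355, 2, 48304, 48087, 48305], [371, 2, 48304, 48089, 48305], [318, 0, 47137, 46488, 48316], [319, 3, 48081, 48092, 48316], [322, 0, 44724, 46490, 48316], [0, 0], [175, 3, 48095, 48059, 48028, 48302, 48330], [133, 2, 48332, 48126, 24091], [174, 2, 48332, 48096, 48028], [226, 2, 48332, 48125, 45820, 13009], [259, 2, 48332, 48105, 48333], [275, 2,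 48332, 48107, 48333], [291, 2, 48332, 48109, 48333], [308, 1, 48332, 48110, 24089], [323, 2, 48332, 48116, 24089], [339, 2, 48332, 48119, 48333], [355, 2, 48332, 48121, 48333], [371, 2, 48332, 48123, 48333], [318, 0, 47535, 46492, 48348], [0, 0], [177, 3, 48304, 48059, 48028, 48042, 48358], [70, 2, 48360, 48304], [225, 2, 48360, 48326, 45827, 12973], [241, 3, 48360, 48330, 48335, 46079], [259, 2, 48360, 48309, 48361], [275, 2, 48360, 48311, 48361], [291, 2, 48360, 48313, 48361], [339, 2, 48360, 48319, 48361], [355, 2, 48360, 48321, 48361], [371, 2, 48360, 48323, 48361], [201, 4, 44593, 12139, 12974, 48364], [0, 0], [179, 4, 48332, 48095, 48059, 48028, 48042, 48358, 48382], [70, 2, 48384, 48332], [133, 2, 48384, 48335, 24089], [174, 2, 48384, 48337, 48042], [226, 2, 48384, 48339, 45944, 37408], [237, 2, 48384, 48332, 48098, 45835, 37749, 46096, 23974], [259, 2, 48384, 48341, 48385], [275, 2, 48384, 48343, 48385]]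
def dJ124 : List (List ℕ) := [[0, 0], [0, 0], [237, 4, 49066, 49043, 46179, 49012, 49026, 49600, 49602], [70, 1, 49602, 49604], [133, 2, 49604, 49093, 48891], [135, 0, 48887, 48891, 49608, 49604, 49606], [173, 1, 49604, 49065, 49541], [174, 2, 49604, 49069, 49416], [178, 0, 49495, 49416, 49614, 49604, 49606], [226, 2, 49604, 49071, 47624, 47619], [228, 7, 47564, 47567, 47620, 47619, 49618, 49604, 49606], [233, 1, 49604, 49066, 49043, 49271], [234, 3, 49604, 49069, 46084, 49364], [259, 2, 49604, 49075, 49605], [275, 2, 49604, 49079, 49605], [291, 2, 49604, 49081, 49605], [307, 2, 49604, 49152, 49571], [308, 1, 49604, 49088, 49293], [323, 2, 49604, 49090, 49293], [324, 1, 49604, 49154, 49571], [339, 2, 49604, 49083, 49605], [355, 2, 49604, 49085, 49605], [371, 2, 49604, 49087, 49605], [372, 1, 49602, 49644, 49603], [356, 1, 49602, 49642, 49603], [340, 1, 49602, 49640, 49603], [317, 1, 45093, 49599, 49638], [324, 1, 49340, 49636, 49603], [318, 0, 49654, 49362, 45107], [383, 0, 49654, 49350, 49655], [395, 0, 49654, 49352, 49655], [405, 0, 49654, 49354, 49655], [301,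 2, 49362, 45105, 49656], [0, 0], [0, 0], [239, 5, 49096, 25513, 46179, 49012, 49026, 49600, 49666, 49668], [70, 1, 49668, 49670], [133, 2, 49670, 49129, 24111], [135, 0, 24113, 24111, 49674, 49670, 49672], [173, 1, 49670, 49095, 49364], [174, 2, 49670, 49130, 49571], [177, 5, 49399, 49364, 49678, 49670, 49672], [233, 1, 49670, 49096, 35063, 49416], [234, 3, 49670, 49130, 49135, 49293], [238, 5, 49668, 49670, 49130, 49141, 46280, 49012, 49026], [259, 2, 49670, 49107, 49671], [275, 2, 49670, 49111, 49671], [291, 2, 49670, 49113, 49671], [307, 2, 49670, 49126, 49271], [308, 1, 49670, 49115, 49541], [323, 2, 49670, 49117, 49541], [324, 1, 49670, 49119, 49271], [339, 2, 49670, 49121, 49671], [355, 2, 49670, 49123, 49671], [371, 2, 49670, 49125, 49671], [372, 1, 49668, 49708, 49669], [356, 1, 49668, 49706, 49669], [340, 1, 49668, 49704, 49669], [317, 1, 46856, 49288, 49702], [320, 2, 26021, 49285, 49702], [321, 1, 47405, 49286, 49702], [323, 2, 49316, 49702, 49669], [317, 1, 49722, 49336, 45438], [322, 2, 49722, 49321, 47657], [383, 2, 49722, 49325, 49723], [395, 2,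 49722, 49327, 49723], [405, 2, 49722, 49329, 49723], [126, 3, 47600, 47602, 49726], [305, 0, 49321, 47664, 49726], [0, 0], [243, 3, 49246, 49198, 49027, 49013, 46178, 48480, 49738], [94, 1, 49740, 49266, 24895], [173, 2, 49740, 49251, 45936], [210, 2, 49740, 49253, 44678, 17357], [242, 3, 49740, 49251, 299, 46178], [261, 2, 49740, 49255, 49741], [277, 2, 49740, 49257, 49741], [293, 2, 49740, 49259, 49741], [341, 2, 49740, 49261, 49741], [357, 2, 49740, 49263, 49741], [373, 2, 49740, 49265, 49741], [126, 0, 47802, 47810, 49748], [0, 0], [245, 4, 49198, 49027, 49013, 46178, 49042, 49062, 49764], [94, 1, 49766, 49216, 48382], [99, 5, 49766, 49214, 48564, 48585, 48358, 48382, 48395], [173, 2, 49766, 49201, 32996], [174, 1, 49766, 49197, 49175], [210, 2, 49766, 49219, 44594, 14365], [241, 1, 49766, 49198, 49027, 49268], [242, 3, 49766, 49201, 45933, 45936], [261, 2, 49766, 49203, 49767], [277, 2, 49766, 49205, 49767], [293, 2, 49766, 49207, 49767], [341, 2, 49766, 49209, 49767], [357, 2, 49766, 49211, 49767], [373, 2, 49766, 49213, 49767], [126, 0, 37013, 42607, 49780],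 [303, 0, 49010, 42598, 49780], [304, 3, 46663, 26019, 49780], [319, 0, 46663, 26021, 49780], [320, 3, 49010, 42604, 49780], [0, 0], [0, 0], [247, 5, 49224, 49172, 49013, 46178, 49042, 49062, 49804, 49806], [78, 1, 49806, 49808], [94, 1, 49808, 49240, 24187], [96, 5, 24183, 24187, 49812, 49808, 49810], [173, 2, 49808, 49244, 49741], [174, 1, 49808, 49223, 45936], [209, 2, 49808, 49240, 46685, 17393], [241, 1, 49808, 49224, 49171, 32996], [242, 3, 49808, 49244, 49249, 49314], [246, 5, 49806, 49808, 49244, 49251, 299, 46178, 49042], [261, 2, 49808, 49229, 49809], [277, 2, 49808, 49231, 49809], [293, 2, 49808, 49233, 49809], [341, 2, 49808, 49235, 49809], [357, 2, 49808, 49237, 49809], [373, 2, 49808, 49239, 49809], [374, 1, 49806, 49838, 49807], [358, 1, 49806, 49836, 49807], [342, 1, 49806, 49834, 49807], [294, 1, 49806, 49832, 49807], [278, 1, 49806, 49830, 49807], [262, 1, 49806, 49828, 49807], [125, 3, 47730, 49060, 49826], [304, 3, 49169, 49164, 49826], [319, 0, 49169, 49157, 49826], [317, 3, 49856, 46800, 47377], [326, 3, 49807, 49856, 26141], [322, 0, 47591,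 47601, 49860], [305, 0, 49862, 47599, 47601], [0, 0], [313, 2, 49095, 40158, 38905, 49866], [250, 1, 49868, 49109, 36487], [263, 2, 49868, 49107, 49869], [279, 2, 49868, 49111, 49869], [295, 2, 49868, 49113, 49869], [298, 3, 49868, 49126, 47811, 47781], [343, 2, 49868, 49121, 49869], [359, 2, 49868, 49123, 49869], [375, 2, 49868, 49125, 49869], [0, 0], [77, 1, 45936, 49886], [93, 2, 25979, 26002, 49886], [100, 2, 26039, 25979, 35811, 45645, 301, 45936, 49886], [174, 1, 49806, 49819, 49886], [209, 2, 25857, 25926, 25999, 49886], [241, 1, 49339, 49824, 49819, 49886], [242, 3, 48525, 49774, 49781, 49886], [261, 2, 49887, 42423, 49886], [277, 2, 49887, 26007, 49886], [293, 2, 49887, 26009, 49886], [309, 2, 25911, 26019, 49886], [313, 2, 8798, 10561, 36836, 49886], [314, 2, 17217, 42353, 42604, 49886], [326, 1, 25911, 26021, 49886], [341, 2, 49887, 41352, 49886], [357, 2, 49887, 40666, 49886], [373, 2, 49887, 26011, 49886], [322, 0, 49914, 42635, 37869], [0, 0], [93, 2, 45937, 300, 49924], [38, 2, 49926, 26003], [85, 1, 49926, 25998, 25927], [86, 2, 49926, 25997, 42594],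 [94, 2, 49926, 49886, 49892], [202, 3, 49926, 25997, 42611, 39039], [251, 2, 49926, 42423, 49927], [265, 2, 49926, 26006, 42608, 13553], [266, 2, 49926, 36837, 6537, 36902], [267, 2, 49926, 26007, 49927], [283, 2, 49926, 26009, 49927], [299, 2, 49926, 42599, 47158], [300, 1, 49926, 26018, 25925], [315, 2, 49926, 26020, 25925], [316, 1, 49926, 42605, 47158], [331, 2, 49926, 41352, 49927], [347, 2, 49926, 40666, 49927], [363, 2, 49926, 26011, 49927], [217, 0, 47111, 47087, 37872, 49936], [126, 2, 49963, 49937, 46587], [0, 0], [179, 4, 49895, 49887, 45937, 49222, 49244, 49741, 49966], [70, 2, 49968, 49895], [133, 2, 49968, 49827, 49293], [134, 1, 49968, 49805, 48523], [174, 2, 49968, 49811, 49244], [226, 2, 49968, 49852, 47730, 47889], [233, 1, 49968, 49814, 24184, 23790], [259, 2, 49968, 49850, 49969], [275, 2, 49968, 49848, 49969], [291, 2, 49968, 49846, 49969], [308, 1, 49968, 49854, 26135], [323, 2, 49968, 49856, 26135], [339, 2, 49968, 49844, 49969], [355, 2, 49968, 49842, 49969], [371, 2, 49968, 49840, 49969], [317, 3, 44716, 46362, 49990]]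
def dJ128 : List (List ℕ) := [[367, 2, 51182, 51023, 51183], [363, 0, 51180, 51200, 51181], [367, 2, 51178, 51202, 51179], [376, 1, 51176, 51204, 51177], [368, 3, 51174, 51206, 51175], [364, 1, 51172, 51208, 51173], [368, 3, 51170, 51210, 51171], [375, 0, 51168, 51212, 51169], [367, 2, 51166, 51214, 51167], [363, 0, 51164, 51216, 51165], [367, 2, 51162, 51218, 51163], [375, 0, 51160, 51220, 51161], [368, 3, 51158, 51222, 51159], [364, 1, 51156, 51224, 51157], [368, 3, 51154, 51226, 51155], [376, 1, 51152, 51228, 51153], [367, 2, 51150, 51230, 51151], [363, 0, 51148, 51232, 51149], [367, 2, 51146, 51234, 51147], [376, 1, 51144, 51236, 51145], [368, 3, 51142, 51238, 51143], [364, 1, 51140, 51240, 51141], [368, 3, 51138, 51242, 51139], [376, 1, 51136, 51244, 51137], [367, 2, 51134, 51246, 51135], [363, 0, 51132, 51248, 51133], [367, 2, 51130, 51250, 51131], [375, 0, 51128, 51252, 51129], [368, 3, 51126, 51254, 51127], [364, 1, 51124, 51256, 51125], [347, 0, 51180, 51198, 51181], [351, 2, 51178, 51260, 51179], [360, 1, 51176, 51262, 51177], [352, 3, 51174, 51264, 51175],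 [348, 1, 51172, 51266, 51173], [352, 3, 51170, 51268, 51171], [359, 0, 51168, 51270, 51169], [351, 2, 51166, 51272, 51167], [347, 0, 51164, 51274, 51165], [351, 2, 51162, 51276, 51163], [359, 0, 51160, 51278, 51161], [352, 3, 51158, 51280, 51159], [348, 1, 51156, 51282, 51157], [352, 3, 51154, 51284, 51155], [360, 1, 51152, 51286, 51153], [351, 2, 51150, 51288, 51151], [347, 0, 51148, 51290, 51149], [351, 2, 51146, 51292, 51147], [360, 1, 51144, 51294, 51145], [352, 3, 51142, 51296, 51143], [348, 1, 51140, 51298, 51141], [352, 3, 51138, 51300, 51139], [360, 1, 51136, 51302, 51137], [351, 2, 51134, 51304, 51135], [347, 0, 51132, 51306, 51133], [351, 2, 51130, 51308, 51131], [359, 0, 51128, 51310, 51129], [352, 3, 51126, 51312, 51127], [348, 1, 51124, 51314, 51125], [331, 0, 51180, 51196, 51181], [335, 2, 51178, 51318, 51179], [344, 1, 51176, 51320, 51177], [336, 3, 51174, 51322, 51175], [332, 1, 51172, 51324, 51173], [336, 3, 51170, 51326, 51171], [343, 0, 51168, 51328, 51169], [335, 2, 51166, 51330, 51167], [331, 0, 51164, 51332, 51165], [335, 2, 51162, 51334,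 51163], [343, 0, 51160, 51336, 51161], [336, 3, 51158, 51338, 51159], [332, 1, 51156, 51340, 51157], [336, 3, 51154, 51342, 51155], [344, 1, 51152, 51344, 51153], [335, 2, 51150, 51346, 51151], [331, 0, 51148, 51348, 51149], [335, 2, 51146, 51350, 51147], [344, 1, 51144, 51352, 51145], [336, 3, 51142, 51354, 51143], [332, 1, 51140, 51356, 51141], [336, 3, 51138, 51358, 51139], [344, 1, 51136, 51360, 51137], [335, 2, 51134, 51362, 51135], [331, 0, 51132, 51364, 51133], [335, 2, 51130, 51366, 51131], [343, 0, 51128, 51368, 51129], [336, 3, 51126, 51370, 51127], [332, 1, 51124, 51372, 51125], [283, 0, 51180, 51194, 51181], [287, 2, 51178, 51376, 51179], [296, 1, 51176, 51378, 51177], [288, 3, 51174, 51380, 51175], [284, 1, 51172, 51382, 51173], [288, 3, 51170, 51384, 51171], [295, 0, 51168, 51386, 51169], [287, 2, 51166, 51388, 51167], [283, 0, 51164, 51390, 51165], [287, 2, 51162, 51392, 51163], [295, 0, 51160, 51394, 51161], [288, 3, 51158, 51396, 51159], [284, 1, 51156, 51398, 51157], [288, 3, 51154, 51400, 51155], [296, 1, 51152, 51402, 51153], [287, 2, 51150,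 51404, 51151], [283, 0, 51148, 51406, 51149], [287, 2, 51146, 51408, 51147], [296, 1, 51144, 51410, 51145], [288, 3, 51142, 51412, 51143], [284, 1, 51140, 51414, 51141], [288, 3, 51138, 51416, 51139], [296, 1, 51136, 51418, 51137], [287, 2, 51134, 51420, 51135], [283, 0, 51132, 51422, 51133], [287, 2, 51130, 51424, 51131], [295, 0, 51128, 51426, 51129], [288, 3, 51126, 51428, 51127], [284, 1, 51124, 51430, 51125], [267, 0, 51180, 51192, 51181], [271, 2, 51178, 51434, 51179], [280, 1, 51176, 51436, 51177], [272, 3, 51174, 51438, 51175], [268, 1, 51172, 51440, 51173], [272, 3, 51170, 51442, 51171], [279, 0, 51168, 51444, 51169], [271, 2, 51166, 51446, 51167], [267, 0, 51164, 51448, 51165], [271, 2, 51162, 51450, 51163], [279, 0, 51160, 51452, 51161], [272, 3, 51158, 51454, 51159], [268, 1, 51156, 51456, 51157], [272, 3, 51154, 51458, 51155], [280, 1, 51152, 51460, 51153], [271, 2, 51150, 51462, 51151], [267, 0, 51148, 51464, 51149], [271, 2, 51146, 51466, 51147], [280, 1, 51144, 51468, 51145], [272, 3, 51142, 51470, 51143], [268, 1, 51140, 51472, 51141], [272, 3,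 51138, 51474, 51139], [280, 1, 51136, 51476, 51137], [271, 2, 51134, 51478, 51135], [267, 0, 51132, 51480, 51133], [271, 2, 51130, 51482, 51131], [279, 0, 51128, 51484, 51129], [272, 3, 51126, 51486, 51127], [268, 1, 51124, 51488, 51125], [251, 0, 51180, 51190, 51181], [255, 2, 51178, 51492, 51179], [264, 1, 51176, 51494, 51177], [256, 3, 51174, 51496, 51175], [252, 1, 51172, 51498, 51173], [256, 3, 51170, 51500, 51171], [263, 0, 51168, 51502, 51169], [255, 2, 51166, 51504, 51167], [251, 0, 51164, 51506, 51165], [255, 2, 51162, 51508, 51163], [263, 0, 51160, 51510, 51161], [256, 3, 51158, 51512, 51159], [252, 1, 51156, 51514, 51157], [256, 3, 51154, 51516, 51155], [264, 1, 51152, 51518, 51153], [255, 2, 51150, 51520, 51151], [251, 0, 51148, 51522, 51149], [255, 2, 51146, 51524, 51147], [264, 1, 51144, 51526, 51145], [256, 3, 51142, 51528, 51143], [252, 1, 51140, 51530, 51141], [256, 3, 51138, 51532, 51139], [264, 1, 51136, 51534, 51137], [255, 2, 51134, 51536, 51135], [251, 0, 51132, 51538, 51133], [255, 2, 51130, 51540, 51131], [263, 0, 51128, 51542, 51129], [256,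 3, 51126, 51544, 51127], [252, 1, 51124, 51546, 51125], [46, 1, 46806, 51188], [86, 0, 46655, 51188, 51181], [88, 0, 51552, 46655, 51188, 51550, 50124], [218, 3, 49198, 50111, 51554, 51179], [302, 1, 51556, 50138, 51554], [317, 2, 51556, 50140, 51554], [318, 0, 12161, 51553, 51560], [125, 1, 48093, 51029, 51122], [126, 2, 45951, 51014, 51122], [217, 1, 24135, 48065, 51029, 51122], [45, 2, 51568, 47978], [85, 3, 51125, 51568, 46241], [87, 5, 47920, 51570, 51568, 46241, 51572], [217, 1, 51127, 51574, 14270, 13473], [301, 2, 51574, 14291, 51576], [318, 1, 51574, 14293, 51576], [210, 3, 51577, 47555, 47551, 51575], [317, 3, 51580, 51573, 24795], [0, 0], [0, 0], [0, 0], [0, 0], [0, 0], [0, 0], [0, 0]]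
def dJ132 : List (List ℕ) := [[271, 0, 52662, 52798, 52663], [267, 2, 52660, 52800, 52661], [271, 0, 52658, 52802, 52659], [255, 0, 52678, 52684, 52679], [251, 2, 52676, 52806, 52677], [255, 0, 52674, 52808, 52675], [263, 2, 52672, 52810, 52673], [256, 1, 52670, 52812, 52671], [252, 3, 52668, 52814, 52669], [256, 1, 52666, 52816, 52667], [264, 3, 52664, 52818, 52665], [255, 0, 52662, 52820, 52663], [251, 2, 52660, 52822, 52661], [255, 0, 52658, 52824, 52659], [0, 0], [0, 0], [0, 0], [0, 0], [0, 0], [0, 0], [0, 0], [0, 0], [0, 0], [0, 0], [0, 0], [0, 0], [0, 0], [0, 0], [0, 0], [361, 18, 52245, 52243, 52241, 52239, 52237, 52235, 52233, 52681, 52679, 52677, 52675, 52673, 52671, 52669, 52667, 52665, 52663, 52661, 52659, 52657, 24742, 46449, 46450, 35841, 36941, 36895, 922, 774, 923, 37762, 49011, 52828, 52830, 52832, 52834, 52836, 52838, 52840, 52842, 52844, 52846, 52848, 52850, 52852, 52854, 52856], [250, 1, 52858, 52246, 52565], [263, 2, 52858, 52566, 52859], [279, 2, 52858, 52508, 52859], [295, 2, 52858, 52450, 52859], [343, 2, 52858, 52392, 52859], [359, 2, 52858,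 52334, 52859], [375, 2, 52858, 52276, 52859], [367, 0, 52856, 52872, 52857], [363, 2, 52854, 52874, 52855], [367, 0, 52852, 52876, 52853], [376, 3, 52850, 52878, 52851], [368, 1, 52848, 52880, 52849], [364, 3, 52846, 52882, 52847], [368, 1, 52844, 52884, 52845], [376, 3, 52842, 52886, 52843], [367, 0, 52840, 52888, 52841], [363, 2, 52838, 52890, 52839], [367, 0, 52836, 52892, 52837], [369, 2, 52834, 52894, 52835], [366, 1, 52832, 52896, 52833], [365, 2, 52830, 52898, 52831], [351, 0, 52856, 52870, 52857], [347, 2, 52854, 52902, 52855], [351, 0, 52852, 52904, 52853], [360, 3, 52850, 52906, 52851], [352, 1, 52848, 52908, 52849], [348, 3, 52846, 52910, 52847], [352, 1, 52844, 52912, 52845], [360, 3, 52842, 52914, 52843], [351, 0, 52840, 52916, 52841], [347, 2, 52838, 52918, 52839], [351, 0, 52836, 52920, 52837], [353, 2, 52834, 52922, 52835], [350, 1, 52832, 52924, 52833], [349, 2, 52830, 52926, 52831], [335, 0, 52856, 52868, 52857], [331, 2, 52854, 52930, 52855], [335, 0, 52852, 52932, 52853], [344, 3, 52850, 52934, 52851], [336, 1, 52848, 52936, 52849], [332, 3,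 52846, 52938, 52847], [336, 1, 52844, 52940, 52845], [344, 3, 52842, 52942, 52843], [335, 0, 52840, 52944, 52841], [331, 2, 52838, 52946, 52839], [335, 0, 52836, 52948, 52837], [337, 2, 52834, 52950, 52835], [334, 1, 52832, 52952, 52833], [333, 2, 52830, 52954, 52831], [287, 0, 52856, 52866, 52857], [283, 2, 52854, 52958, 52855], [287, 0, 52852, 52960, 52853], [296, 3, 52850, 52962, 52851], [288, 1, 52848, 52964, 52849], [284, 3, 52846, 52966, 52847], [288, 1, 52844, 52968, 52845], [296, 3, 52842, 52970, 52843], [287, 0, 52840, 52972, 52841], [283, 2, 52838, 52974, 52839], [287, 0, 52836, 52976, 52837], [289, 2, 52834, 52978, 52835], [286, 1, 52832, 52980, 52833], [282, 4, 52982, 52831, 52829, 49008], [285, 2, 52830, 52982, 52831], [263, 0, 52985, 42077, 52984], [279, 0, 52985, 12240, 52984], [269, 2, 52830, 52990, 52831], [270, 3, 52833, 52990, 52832], [273, 0, 52835, 52994, 52834], [271, 2, 52837, 52996, 52836], [267, 0, 52839, 52998, 52838], [271, 2, 52841, 53000, 52840], [280, 1, 52843, 53002, 52842], [272, 3, 52845, 53004, 52844], [268, 1, 52847, 53006, 52846],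 [272, 3, 52849, 53008, 52848], [280, 1, 52851, 53010, 52850], [271, 2, 52853, 53012, 52852], [267, 0, 52855, 53014, 52854], [253, 2, 52830, 52988, 52831], [254, 3, 52833, 52988, 52832], [257, 0, 52835, 53020, 52834], [255, 2, 52837, 53022, 52836], [251, 0, 52839, 53024, 52838], [255, 2, 52841, 53026, 52840], [264, 1, 52843, 53028, 52842], [256, 3, 52845, 53030, 52844], [252, 1, 52847, 53032, 52846], [256, 3, 52849, 53034, 52848], [264, 1, 52851, 53036, 52850], [255, 2, 52853, 53038, 52852], [251, 0, 52855, 53040, 52854], [46, 1, 52830, 52832], [0, 0], [0, 0], [0, 0], [0, 0], [0, 0], [0, 0], [0, 0], [0, 0], [0, 0], [0, 0], [0, 0], [0, 0], [0, 0], [0, 0], [0, 0], [0, 0], [0, 0], [0, 0], [0, 0], [0, 0], [0, 0], [0, 0], [0, 0], [0, 0], [329, 29, 50121, 49397, 49899, 49910, 36893, 49911, 49912, 45950, 13715, 13473, 53046, 53048, 53050, 53052, 53054, 53056, 53058, 53060, 53062, 53064, 53066, 53068, 53070, 53072, 53074, 53076, 53078, 53080, 53082, 53084, 53086, 53088, 53090, 53092], [263, 2, 53094, 50133, 53095], [279, 2, 53094, 50135, 53095], [295, 2, 53094, 50137, 53095],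 [343, 2, 53094, 50143, 53095], [359, 2, 53094, 50145, 53095], [375, 2, 53094, 50147, 53095], [367, 0, 53092, 53106, 53093], [363, 2, 53090, 53108, 53091], [367, 0, 53088, 53110, 53089], [376, 3, 53086, 53112, 53087], [368, 1, 53084, 53114, 53085], [364, 3, 53082, 53116, 53083], [368, 1, 53080, 53118, 53081], [376, 3, 53078, 53120, 53079], [367, 0, 53076, 53122, 53077], [363, 2, 53074, 53124, 53075], [367, 0, 53072, 53126, 53073], [375, 2, 53070, 53128, 53071], [368, 1, 53068, 53130, 53069], [364, 3, 53066, 53132, 53067], [368, 1, 53064, 53134, 53065], [375, 2, 53062, 53136, 53063], [367, 0, 53060, 53138, 53061], [363, 2, 53058, 53140, 53059], [367, 0, 53056, 53142, 53057], [375, 2, 53054, 53144, 53055], [368, 1, 53052, 53146, 53053], [364, 3, 53050, 53148, 53051], [368, 1, 53048, 53150, 53049], [351, 0, 53092, 53104, 53093], [347, 2, 53090, 53154, 53091], [351, 0, 53088, 53156, 53089], [360, 3, 53086, 53158, 53087], [352, 1, 53084, 53160, 53085], [348, 3, 53082, 53162, 53083], [352, 1, 53080, 53164, 53081], [360, 3, 53078, 53166, 53079], [351, 0, 53076, 53168,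 53077], [347, 2, 53074, 53170, 53075], [351, 0, 53072, 53172, 53073], [359, 2, 53070, 53174, 53071], [352, 1, 53068, 53176, 53069], [348, 3, 53066, 53178, 53067], [352, 1, 53064, 53180, 53065], [359, 2, 53062, 53182, 53063], [351, 0, 53060, 53184, 53061], [347, 2, 53058, 53186, 53059], [351, 0, 53056, 53188, 53057], [359, 2, 53054, 53190, 53055], [352, 1, 53052, 53192, 53053], [348, 3, 53050, 53194, 53051], [352, 1, 53048, 53196, 53049]]
def dJ136 : List (List ℕ) := [[332, 3, 54306, 54398, 54307], [336, 1, 54304, 54400, 54305], [344, 3, 54302, 54402, 54303], [335, 0, 54300, 54404, 54301], [331, 2, 54298, 54406, 54299], [335, 0, 54296, 54408, 54297], [337, 2, 54294, 54410, 54295], [334, 1, 54292, 54412, 54293], [333, 2, 54290, 54414, 54291], [287, 0, 54316, 54326, 54317], [283, 2, 54314, 54418, 54315], [287, 0, 54312, 54420, 54313], [296, 3, 54310, 54422, 54311], [288, 1, 54308, 54424, 54309], [284, 3, 54306, 54426, 54307], [288, 1, 54304, 54428, 54305], [296, 3, 54302, 54430, 54303], [287, 0, 54300, 54432, 54301], [283, 2, 54298, 54434, 54299], [287, 0, 54296,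 54436, 54297], [289, 2, 54294, 54438, 54295], [286, 1, 54292, 54440, 54293], [285, 2, 54290, 54442, 54291], [271, 0, 54316, 54324, 54317], [267, 2, 54314, 54446, 54315], [271, 0, 54312, 54448, 54313], [280, 3, 54310, 54450, 54311], [272, 1, 54308, 54452, 54309], [268, 3, 54306, 54454, 54307], [272, 1, 54304, 54456, 54305], [280, 3, 54302, 54458, 54303], [271, 0, 54300, 54460, 54301], [267, 2, 54298, 54462, 54299], [271, 0, 54296, 54464, 54297], [273, 2, 54294, 54466, 54295], [270, 1, 54292, 54468, 54293], [269, 2, 54290, 54470, 54291], [255, 0, 54316, 54322, 54317], [251, 2, 54314, 54474, 54315], [255, 0, 54312, 54476, 54313], [264, 3, 54310, 54478, 54311], [256, 1, 54308, 54480, 54309], [252, 3, 54306, 54482, 54307], [256, 1, 54304, 54484, 54305], [264, 3, 54302, 54486, 54303], [255, 0, 54300, 54488, 54301], [251, 2, 54298, 54490, 54299], [255, 0, 54296, 54492, 54297], [257, 2, 54294, 54494, 54295], [254, 1, 54292, 54496, 54293], [253, 2, 54290, 54498, 54291], [46, 1, 54290, 54292], [281, 2, 54502, 54444, 54289, 47844], [0, 0], [0, 0], [0, 0], [0, 0], [0, 0],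 [0, 0], [0, 0], [0, 0], [0, 0], [0, 0], [0, 0], [0, 0], [0, 0], [0, 0], [0, 0], [0, 0], [0, 0], [0, 0], [0, 0], [0, 0], [0, 0], [0, 0], [0, 0], [0, 0], [329, 29, 11916, 12960, 14035, 37887, 37968, 37886, 48077, 48092, 24063, 23759, 54506, 54508, 54510, 54512, 54514, 54516, 54518, 54520, 54522, 54524, 54526, 54528, 54530, 54532, 54534, 54536, 54538, 54540, 54542, 54544, 54546, 54548, 54550, 54552], [263, 2, 54554, 35023, 54555], [279, 2, 54554, 11785, 54555], [295, 2, 54554, 11787, 54555], [343, 2, 54554, 38291, 54555], [359, 2, 54554, 38293, 54555], [375, 2, 54554, 11789, 54555], [367, 0, 54552, 54566, 54553], [363, 2, 54550, 54568, 54551], [367, 0, 54548, 54570, 54549], [376, 3, 54546, 54572, 54547], [368, 1, 54544, 54574, 54545], [364, 3, 54542, 54576, 54543], [368, 1, 54540, 54578, 54541], [376, 3, 54538, 54580, 54539], [367, 0, 54536, 54582, 54537], [363, 2, 54534, 54584, 54535], [367, 0, 54532, 54586, 54533], [375, 2, 54530, 54588, 54531], [368, 1, 54528, 54590, 54529], [364, 3, 54526, 54592, 54527], [368, 1, 54524, 54594, 54525], [375, 2, 54522, 54596, 54523],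 [367, 0, 54520, 54598, 54521], [363, 2, 54518, 54600, 54519], [367, 0, 54516, 54602, 54517], [375, 2, 54514, 54604, 54515], [368, 1, 54512, 54606, 54513], [364, 3, 54510, 54608, 54511], [368, 1, 54508, 54610, 54509], [351, 0, 54552, 54564, 54553], [347, 2, 54550, 54614, 54551], [351, 0, 54548, 54616, 54549], [360, 3, 54546, 54618, 54547], [352, 1, 54544, 54620, 54545], [348, 3, 54542, 54622, 54543], [352, 1, 54540, 54624, 54541], [360, 3, 54538, 54626, 54539], [351, 0, 54536, 54628, 54537], [347, 2, 54534, 54630, 54535], [351, 0, 54532, 54632, 54533], [359, 2, 54530, 54634, 54531], [352, 1, 54528, 54636, 54529], [348, 3, 54526, 54638, 54527], [352, 1, 54524, 54640, 54525], [359, 2, 54522, 54642, 54523], [351, 0, 54520, 54644, 54521], [347, 2, 54518, 54646, 54519], [351, 0, 54516, 54648, 54517], [359, 2, 54514, 54650, 54515], [352, 1, 54512, 54652, 54513], [348, 3, 54510, 54654, 54511], [352, 1, 54508, 54656, 54509], [335, 0, 54552, 54562, 54553], [331, 2, 54550, 54660, 54551], [335, 0, 54548, 54662, 54549], [344, 3, 54546, 54664, 54547], [336, 1, 54544, 54666,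 54545], [332, 3, 54542, 54668, 54543], [336, 1, 54540, 54670, 54541], [344, 3, 54538, 54672, 54539], [335, 0, 54536, 54674, 54537], [331, 2, 54534, 54676, 54535], [335, 0, 54532, 54678, 54533], [343, 2, 54530, 54680, 54531], [336, 1, 54528, 54682, 54529], [332, 3, 54526, 54684, 54527], [336, 1, 54524, 54686, 54525], [343, 2, 54522, 54688, 54523], [335, 0, 54520, 54690, 54521], [331, 2, 54518, 54692, 54519], [335, 0, 54516, 54694, 54517], [343, 2, 54514, 54696, 54515], [336, 1, 54512, 54698, 54513], [332, 3, 54510, 54700, 54511], [336, 1, 54508, 54702, 54509], [287, 0, 54552, 54560, 54553], [283, 2, 54550, 54706, 54551], [287, 0, 54548, 54708, 54549], [296, 3, 54546, 54710, 54547], [288, 1, 54544, 54712, 54545], [284, 3, 54542, 54714, 54543], [288, 1, 54540, 54716, 54541], [296, 3, 54538, 54718, 54539], [287, 0, 54536, 54720, 54537], [283, 2, 54534, 54722, 54535], [287, 0, 54532, 54724, 54533], [295, 2, 54530, 54726, 54531], [288, 1, 54528, 54728, 54529], [284, 3, 54526, 54730, 54527], [288, 1, 54524, 54732, 54525], [295, 2, 54522, 54734, 54523], [287, 0, 54520,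 54736, 54521], [283, 2, 54518, 54738, 54519], [287, 0, 54516, 54740, 54517], [295, 2, 54514, 54742, 54515], [288, 1, 54512, 54744, 54513], [284, 3, 54510, 54746, 54511], [288, 1, 54508, 54748, 54509], [271, 0, 54552, 54558, 54553], [267, 2, 54550, 54752, 54551], [271, 0, 54548, 54754, 54549], [280, 3, 54546, 54756, 54547], [272, 1, 54544, 54758, 54545], [268, 3, 54542, 54760, 54543], [272, 1, 54540, 54762, 54541], [280, 3, 54538, 54764, 54539], [271, 0, 54536, 54766, 54537], [267, 2, 54534, 54768, 54535], [271, 0, 54532, 54770, 54533], [279, 2, 54530, 54772, 54531], [272, 1, 54528, 54774, 54529], [268, 3, 54526, 54776, 54527], [272, 1, 54524, 54778, 54525], [279, 2, 54522, 54780, 54523], [271, 0, 54520, 54782, 54521], [267, 2, 54518, 54784, 54519], [271, 0, 54516, 54786, 54517], [279, 2, 54514, 54788, 54515], [272, 1, 54512, 54790, 54513], [268, 3, 54510, 54792, 54511], [272, 1, 54508, 54794, 54509], [255, 0, 54552, 54556, 54553]]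
def dJ140 : List (List ℕ) := [[126, 0, 49781, 52104, 55766], [223, 6, 50468, 46792, 46791, 48615, 48612, 52621, 52252, 55766], [46, 2, 56002, 50468], [282, 4, 55928, 55771, 55769, 56002], [281, 0, 50469, 56006, 55772, 55926], [0, 0], [249, 2, 35616, 51041, 56010], [249, 3, 56012, 51041, 56010], [266, 1, 56012, 1398, 51005, 51010], [279, 0, 56012, 1302, 56013], [295, 0, 56012, 1146, 56013], [297, 4, 56012, 8626, 48079, 51029], [298, 1, 56012, 8628, 37333, 12872], [327, 0, 56012, 951, 51005], [343, 0, 56012, 38163, 56013], [359, 0, 56012, 38165, 56013], [375, 0, 56012, 952, 56013], [313, 3, 56027, 51004, 946, 56013], [321, 1, 48083, 51029, 56026], [225, 1, 51015, 46696, 37423, 56024], [0, 0], [281, 2, 46830, 1146, 51041, 56040], [263, 2, 56042, 42730, 56043], [265, 1, 56042, 2699, 2528, 51069], [279, 2, 56042, 2703, 56043], [295, 2, 56042, 2705, 56043], [297, 1, 56042, 8430, 2774, 50492], [298, 3, 56042, 8432, 8373, 12034], [311, 2, 56042, 8432, 51069], [313, 1, 56042, 2691, 2706, 56043], [328, 1, 56042, 2709, 51069], [343, 2, 56042, 41540, 56043], [359, 2, 56042,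 40839, 56043], [375, 2, 56042, 2711, 56043], [226, 3, 51077, 50660, 50657, 56052], [0, 0], [0, 0], [0, 0], [0, 0], [0, 0], [0, 0], [0, 0], [0, 0], [0, 0], [0, 0], [0, 0], [0, 0], [0, 0], [0, 0], [0, 0], [0, 0], [0, 0], [0, 0], [0, 0], [0, 0], [0, 0], [0, 0], [0, 0], [0, 0], [0, 0], [0, 0], [0, 0], [0, 0], [0, 0], [0, 0], [329, 32, 51040, 38163, 51041, 56010, 56070, 56072, 56074, 56076, 56078, 56080, 56082, 56084, 56086, 56088, 56090, 56092, 56094, 56096, 56098, 56100, 56102, 56104, 56106, 56108, 56110, 56112, 56114, 56116, 56118, 56120, 56122, 56124, 56126, 56128], [125, 1, 56130, 51049, 49898], [126, 2, 56130, 51051, 44662], [218, 3, 56130, 51051, 12025, 46106], [255, 2, 56130, 51043, 56131], [271, 2, 56130, 51045, 56131], [287, 2, 56130, 51047, 56131], [303, 2, 56130, 51053, 51183], [320, 1, 56130, 51057, 51183], [335, 2, 56130, 51059, 56131], [351, 2, 56130, 51061, 56131], [367, 2, 56130, 51063, 56131], [363, 0, 56128, 56152, 56129], [367, 2, 56126, 56154, 56127], [376, 1, 56124, 56156, 56125], [368, 3, 56122, 56158, 56123], [364, 1, 56120, 56160, 56121], [368,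 3, 56118, 56162, 56119], [375, 0, 56116, 56164, 56117], [367, 2, 56114, 56166, 56115], [363, 0, 56112, 56168, 56113], [367, 2, 56110, 56170, 56111], [375, 0, 56108, 56172, 56109], [368, 3, 56106, 56174, 56107], [364, 1, 56104, 56176, 56105], [368, 3, 56102, 56178, 56103], [376, 1, 56100, 56180, 56101], [367, 2, 56098, 56182, 56099], [363, 0, 56096, 56184, 56097], [367, 2, 56094, 56186, 56095], [376, 1, 56092, 56188, 56093], [368, 3, 56090, 56190, 56091], [364, 1, 56088, 56192, 56089], [368, 3, 56086, 56194, 56087], [376, 1, 56084, 56196, 56085], [367, 2, 56082, 56198, 56083], [363, 0, 56080, 56200, 56081], [367, 2, 56078, 56202, 56079], [375, 0, 56076, 56204, 56077], [368, 3, 56074, 56206, 56075], [364, 1, 56072, 56208, 56073], [347, 0, 56128, 56150, 56129], [351, 2, 56126, 56212, 56127], [360, 1, 56124, 56214, 56125], [352, 3, 56122, 56216, 56123], [348, 1, 56120, 56218, 56121], [352, 3, 56118, 56220, 56119], [359, 0, 56116, 56222, 56117], [351, 2, 56114, 56224, 56115], [347, 0, 56112, 56226, 56113], [351, 2, 56110, 56228, 56111], [359, 0, 56108, 56230, 56109],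 [352, 3, 56106, 56232, 56107], [348, 1, 56104, 56234, 56105], [352, 3, 56102, 56236, 56103], [360, 1, 56100, 56238, 56101], [351, 2, 56098, 56240, 56099], [347, 0, 56096, 56242, 56097], [351, 2, 56094, 56244, 56095], [360, 1, 56092, 56246, 56093], [352, 3, 56090, 56248, 56091], [348, 1, 56088, 56250, 56089], [352, 3, 56086, 56252, 56087], [360, 1, 56084, 56254, 56085], [351, 2, 56082, 56256, 56083], [347, 0, 56080, 56258, 56081], [351, 2, 56078, 56260, 56079], [359, 0, 56076, 56262, 56077], [352, 3, 56074, 56264, 56075], [348, 1, 56072, 56266, 56073], [331, 0, 56128, 56148, 56129], [335, 2, 56126, 56270, 56127], [344, 1, 56124, 56272, 56125], [336, 3, 56122, 56274, 56123], [332, 1, 56120, 56276, 56121], [336, 3, 56118, 56278, 56119], [343, 0, 56116, 56280, 56117], [335, 2, 56114, 56282, 56115], [331, 0, 56112, 56284, 56113], [335, 2, 56110, 56286, 56111], [343, 0, 56108, 56288, 56109], [336, 3, 56106, 56290, 56107], [332, 1, 56104, 56292, 56105], [336, 3, 56102, 56294, 56103], [344, 1, 56100, 56296, 56101], [335, 2, 56098, 56298, 56099], [331, 0, 56096, 56300,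 56097], [335, 2, 56094, 56302, 56095], [344, 1, 56092, 56304, 56093], [336, 3, 56090, 56306, 56091], [332, 1, 56088, 56308, 56089], [336, 3, 56086, 56310, 56087], [344, 1, 56084, 56312, 56085], [335, 2, 56082, 56314, 56083], [331, 0, 56080, 56316, 56081], [335, 2, 56078, 56318, 56079], [343, 0, 56076, 56320, 56077], [336, 3, 56074, 56322, 56075], [332, 1, 56072, 56324, 56073], [316, 3, 51180, 56146, 56129], [318, 2, 46437, 51551, 56146], [318, 2, 56328, 51552, 12114], [320, 2, 56126, 56328, 51179, 51561], [8, 0, 56127, 56335], [15, 0, 56124, 56335], [383, 2, 56328, 51492, 56329], [395, 2, 56328, 51434, 56329], [405, 2, 56328, 51376, 56329], [413, 2, 56328, 51558, 51561], [263, 2, 56339, 51492, 56338], [279, 2, 56339, 51434, 56338], [282, 3, 53094, 50137, 51554, 56338], [295, 2, 56339, 51376, 56338], [312, 1, 51176, 51559, 56338], [327, 2, 51176, 51561, 56338], [319, 0, 56122, 56358, 51175], [315, 2, 51172, 56360, 56121], [383, 2, 56361, 51499, 56360], [395, 2, 56361, 51441, 56360], [405, 2, 56361, 51383, 56360], [284, 1, 56120, 56368, 56121], [288, 3, 56118, 56370,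 56119], [295, 0, 56116, 56372, 56117], [287, 2, 56114, 56374, 56115], [283, 0, 56112, 56376, 56113], [287, 2, 56110, 56378, 56111], [295, 0, 56108, 56380, 56109], [288, 3, 56106, 56382, 56107], [284, 1, 56104, 56384, 56105], [288, 3, 56102, 56386, 56103], [296, 1, 56100, 56388, 56101], [287, 2, 56098, 56390, 56099], [283, 0, 56096, 56392, 56097], [287, 2, 56094, 56394, 56095], [296, 1, 56092, 56396, 56093]]
def dJ144 : List (List ℕ) := [[267, 2, 57272, 57598, 57273], [271, 0, 57270, 57600, 57271], [279, 2, 57268, 57602, 57269], [272, 1, 57266, 57604, 57267], [268, 3, 57264, 57606, 57265], [272, 1, 57262, 57608, 57263], [279, 2, 57260, 57610, 57261], [271, 0, 57258, 57612, 57259], [267, 2, 57256, 57614, 57257], [271, 0, 57254, 57616, 57255], [279, 2, 57252, 57618, 57253], [272, 1, 57250, 57620, 57251], [268, 3, 57248, 57622, 57249], [272, 1, 57246, 57624, 57247], [280, 3, 57244, 57626, 57245], [271, 0, 57242, 57628, 57243], [267, 2, 57240, 57630, 57241], [255, 0, 57286, 57532, 57287], [264, 3, 57284, 57634, 57285], [256, 1, 57282, 57636, 57283], [252, 3, 57280,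 57638, 57281], [256, 1, 57278, 57640, 57279], [264, 3, 57276, 57642, 57277], [255, 0, 57274, 57644, 57275], [251, 2, 57272, 57646, 57273], [255, 0, 57270, 57648, 57271], [263, 2, 57268, 57650, 57269], [256, 1, 57266, 57652, 57267], [252, 3, 57264, 57654, 57265], [256, 1, 57262, 57656, 57263], [263, 2, 57260, 57658, 57261], [255, 0, 57258, 57660, 57259], [251, 2, 57256, 57662, 57257], [255, 0, 57254, 57664, 57255], [263, 2, 57252, 57666, 57253], [256, 1, 57250, 57668, 57251], [252, 3, 57248, 57670, 57249], [256, 1, 57246, 57672, 57247], [264, 3, 57244, 57674, 57245], [255, 0, 57242, 57676, 57243], [251, 2, 57240, 57678, 57241], [311, 0, 57284, 57530, 51169], [414, 2, 57530, 56520, 56610], [327, 0, 51168, 57684, 57285], [319, 2, 57282, 57686, 51167], [315, 0, 51164, 57688, 57281], [414, 3, 56524, 56606, 57688], [299, 0, 57280, 57692, 51165], [303, 2, 51162, 57694, 57279], [311, 0, 57276, 57696, 51161], [414, 2, 57696, 56528, 56602], [327, 0, 51160, 57700, 57277], [320, 3, 57274, 57702, 51159], [316, 1, 51156, 57704, 57273], [414, 3, 56532, 56598, 57704], [300, 1,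 57272, 57708, 51157], [304, 3, 51154, 57710, 57271], [312, 1, 57268, 57712, 51153], [414, 2, 57712, 56536, 56594], [328, 1, 51152, 57716, 57269], [319, 2, 57266, 57718, 51151], [315, 0, 51148, 57720, 57265], [414, 3, 56540, 56590, 57720], [299, 0, 57264, 57724, 51149], [303, 2, 51146, 57726, 57263], [312, 1, 57260, 57728, 51145], [414, 2, 57728, 56544, 56586], [328, 1, 51144, 57732, 57261], [320, 3, 57258, 57734, 51143], [316, 1, 51140, 57736, 57257], [414, 3, 56548, 56582, 57736], [300, 1, 57256, 57740, 51141], [304, 3, 51138, 57742, 57255], [312, 1, 57252, 57744, 51137], [414, 2, 57744, 56552, 56578], [328, 1, 51136, 57748, 57253], [319, 2, 57250, 57750, 51135], [315, 0, 51132, 57752, 57249], [414, 3, 56556, 56574, 57752], [299, 0, 57248, 57756, 51133], [303, 2, 51130, 57758, 57247], [309, 1, 57760, 56656, 56570], [311, 1, 57244, 57760, 51129, 56623], [7, 0, 57242, 57765, 56616], [15, 0, 57245, 57765], [3, 0, 57240, 57767], [414, 2, 57760, 56560, 56570], [85, 1, 24821, 51584, 57770], [86, 2, 47554, 51576, 57770], [93, 1, 51124, 51582, 57770], [94, 2, 56072, 56630,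 57770], [201, 1, 48307, 23962, 51584, 57770], [233, 2, 51124, 51582, 56641, 57770], [234, 2, 56072, 56639, 56630, 57770], [299, 2, 51124, 51579, 57770], [300, 1, 56072, 56622, 57770], [315, 2, 56072, 56627, 57770], [316, 1, 51124, 51581, 57770], [322, 0, 57794, 51566, 44725], [312, 1, 56569, 56621, 57768], [313, 1, 56569, 51582, 56626, 57768], [327, 2, 56569, 56625, 57768], [319, 0, 57247, 57802, 56078], [315, 2, 56081, 57804, 57248], [413, 0, 57804, 57759, 57755], [299, 2, 57249, 57808, 56080], [303, 0, 56083, 57810, 57250], [312, 3, 57253, 57812, 56084], [413, 1, 57747, 57751, 57812], [328, 3, 56085, 57816, 57252], [320, 1, 57255, 57818, 56086], [413, 0, 57820, 57743, 57739], [300, 3, 57257, 57822, 56088], [304, 1, 56091, 57824, 57258], [312, 3, 57261, 57826, 56092], [413, 1, 57731, 57735, 57826], [328, 3, 56093, 57830, 57260], [319, 0, 57263, 57832, 56094], [315, 2, 56097, 57834, 57264], [413, 0, 57834, 57727, 57723], [299, 2, 57265, 57838, 56096], [303, 0, 56099, 57840, 57266], [312, 3, 57269, 57842, 56100], [413, 1, 57715, 57719, 57842], [328, 3, 56101, 57846,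 57268], [320, 1, 57271, 57848, 56102], [413, 0, 57850, 57711, 57707], [300, 3, 57273, 57852, 56104], [304, 1, 56107, 57854, 57274], [311, 2, 57277, 57856, 56108], [413, 1, 57699, 57703, 57856], [327, 2, 56109, 57860, 57276], [319, 0, 57279, 57862, 56110], [315, 2, 56113, 57864, 57280], [413, 0, 57864, 57695, 57691], [299, 2, 57281, 57868, 56112], [303, 0, 56115, 57870, 57282], [311, 2, 57285, 57872, 56116], [413, 1, 57683, 57687, 57872], [327, 2, 56117, 57876, 57284], [320, 1, 57287, 57878, 56118], [413, 0, 57880, 57529, 57525], [0, 0], [0, 0], [0, 0], [0, 0], [0, 0], [0, 0], [0, 0], [0, 0], [0, 0], [0, 0], [0, 0], [0, 0], [345, 19, 57278, 57280, 57282, 57283, 57281, 57279, 57277, 57275, 57273, 57271, 57270, 57272, 57274, 57276, 57278, 57280, 57282, 57284, 57286, 57288, 57290, 57505, 56658, 57500, 57298, 51089, 37974, 8777, 37836, 28508, 36970, 25862, 24835, 23758, 57884, 57886, 57888, 57890, 57892, 57894, 57896, 57898, 57900, 57902, 57904, 57906], [250, 1, 57908, 57277, 57645], [263, 2, 57908, 57642, 57909], [279, 2, 57908, 57594, 57909], [295, 2, 57908, 57546,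 57909], [311, 2, 57908, 57859, 56689], [312, 1, 57908, 57696, 51611], [327, 2, 57908, 57701, 51611], [328, 1, 57908, 57862, 56689], [343, 2, 57908, 57459, 57909], [359, 2, 57908, 57401, 57909], [375, 2, 57908, 57343, 57909], [367, 0, 57906, 57930, 57907], [363, 2, 57904, 57932, 57905], [367, 0, 57902, 57934, 57903], [375, 2, 57900, 57936, 57901], [368, 1, 57898, 57938, 57899], [364, 3, 57896, 57940, 57897], [368, 1, 57894, 57942, 57895], [376, 3, 57892, 57944, 57893], [367, 0, 57890, 57946, 57891], [363, 2, 57888, 57948, 57889], [367, 0, 57886, 57950, 57887], [351, 0, 57906, 57928, 57907], [347, 2, 57904, 57954, 57905], [351, 0, 57902, 57956, 57903], [359, 2, 57900, 57958, 57901], [352, 1, 57898, 57960, 57899], [348, 3, 57896, 57962, 57897], [352, 1, 57894, 57964, 57895], [360, 3, 57892, 57966, 57893], [351, 0, 57890, 57968, 57891], [347, 2, 57888, 57970, 57889], [351, 0, 57886, 57972, 57887], [335, 0, 57906, 57926, 57907], [331, 2, 57904, 57976, 57905], [335, 0, 57902, 57978, 57903], [343, 2, 57900, 57980, 57901], [336, 1, 57898, 57982, 57899], [332, 3, 57896,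 57984, 57897], [336, 1, 57894, 57986, 57895], [344, 3, 57892, 57988, 57893], [335, 0, 57890, 57990, 57891], [331, 2, 57888, 57992, 57889], [335, 0, 57886, 57994, 57887], [320, 3, 56686, 57924, 57907]]
def dJ148 : List (List ℕ) := [[367, 0, 59146, 59198, 59147], [363, 2, 59144, 59200, 59145], [367, 0, 59142, 59202, 59143], [351, 0, 59162, 59180, 59163], [347, 2, 59160, 59206, 59161], [351, 0, 59158, 59208, 59159], [359, 2, 59156, 59210, 59157], [352, 1, 59154, 59212, 59155], [348, 3, 59152, 59214, 59153], [352, 1, 59150, 59216, 59151], [360, 3, 59148, 59218, 59149], [351, 0, 59146, 59220, 59147], [347, 2, 59144, 59222, 59145], [351, 0, 59142, 59224, 59143], [335, 0, 59162, 59178, 59163], [331, 2, 59160, 59228, 59161], [335, 0, 59158, 59230, 59159], [343, 2, 59156, 59232, 59157], [336, 1, 59154, 59234, 59155], [332, 3, 59152, 59236, 59153], [336, 1, 59150, 59238, 59151], [344, 3, 59148, 59240, 59149], [335, 0, 59146, 59242, 59147], [331, 2, 59144, 59244, 59145], [335, 0, 59142, 59246, 59143], [320, 3, 52678, 59176, 59163], [316, 1, 59160, 59250, 52677], [383, 2,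 59250, 52806, 59251], [395, 2, 59250, 52784, 59251], [405, 2, 59250, 52762, 59251], [284, 1, 59160, 59258, 59161], [288, 3, 59158, 59260, 59159], [296, 1, 59156, 59262, 59157], [287, 2, 59154, 59264, 59155], [283, 0, 59152, 59266, 59153], [287, 2, 59150, 59268, 59151], [295, 0, 59148, 59270, 59149], [288, 3, 59146, 59272, 59147], [284, 1, 59144, 59274, 59145], [288, 3, 59142, 59276, 59143], [268, 1, 59160, 59256, 59161], [272, 3, 59158, 59280, 59159], [280, 1, 59156, 59282, 59157], [271, 2, 59154, 59284, 59155], [267, 0, 59152, 59286, 59153], [271, 2, 59150, 59288, 59151], [279, 0, 59148, 59290, 59149], [272, 3, 59146, 59292, 59147], [268, 1, 59144, 59294, 59145], [272, 3, 59142, 59296, 59143], [252, 1, 59160, 59254, 59161], [256, 3, 59158, 59300, 59159], [264, 1, 59156, 59302, 59157], [255, 2, 59154, 59304, 59155], [251, 0, 59152, 59306, 59153], [255, 2, 59150, 59308, 59151], [263, 0, 59148, 59310, 59149], [256, 3, 59146, 59312, 59147], [252, 1, 59144, 59314, 59145], [256, 3, 59142, 59316, 59143], [320, 3, 52674, 59252, 59159], [328, 1, 59156, 59320, 52673], [319,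 2, 52670, 59322, 59155], [315, 0, 59152, 59324, 52669], [319, 2, 52666, 59326, 59151], [327, 0, 59148, 59328, 52665], [320, 3, 52662, 59330, 59147], [316, 1, 59144, 59332, 52661], [320, 3, 52658, 59334, 59143], [303, 0, 52678, 59174, 59163], [299, 2, 59160, 59338, 52677], [303, 0, 52674, 59340, 59159], [311, 2, 59156, 59342, 52673], [304, 1, 52670, 59344, 59155], [300, 3, 59152, 59346, 52669], [304, 1, 52666, 59348, 59151], [312, 3, 59148, 59350, 52665], [303, 0, 52662, 59352, 59147], [299, 2, 59144, 59354, 52661], [303, 0, 52658, 59356, 59143], [298, 3, 55619, 46348, 46287, 59140], [125, 1, 59143, 59360, 55620], [0, 0], [0, 0], [0, 0], [0, 0], [0, 0], [0, 0], [0, 0], [0, 0], [0, 0], [0, 0], [0, 0], [0, 0], [0, 0], [0, 0], [0, 0], [361, 18, 58599, 58597, 58595, 58593, 58591, 58589, 58587, 59165, 59163, 59161, 59159, 59157, 59155, 59153, 59151, 59149, 59147, 59145, 59143, 59141, 23769, 24878, 25849, 36547, 28516, 36905, 6528, 974, 6529, 36836, 49780, 59364, 59366, 59368, 59370, 59372, 59374, 59376, 59378, 59380, 59382, 59384, 59386, 59388, 59390, 59392], [250, 1,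 59394, 58600, 58817], [263, 2, 59394, 58835, 59395], [279, 2, 59394, 58837, 59395], [281, 1, 59394, 59139, 55324, 55799], [295, 2, 59394, 58839, 59395], [311, 2, 59394, 59106, 52859], [328, 1, 59394, 58831, 52859], [343, 2, 59394, 58750, 59395], [359, 2, 59394, 58692, 59395], [375, 2, 59394, 58634, 59395], [367, 0, 59392, 59414, 59393], [363, 2, 59390, 59416, 59391], [367, 0, 59388, 59418, 59389], [376, 3, 59386, 59420, 59387], [368, 1, 59384, 59422, 59385], [364, 3, 59382, 59424, 59383], [368, 1, 59380, 59426, 59381], [376, 3, 59378, 59428, 59379], [367, 0, 59376, 59430, 59377], [363, 2, 59374, 59432, 59375], [367, 0, 59372, 59434, 59373], [369, 2, 59370, 59436, 59371], [366, 1, 59368, 59438, 59369], [365, 2, 59366, 59440, 59367], [351, 0, 59392, 59412, 59393], [347, 2, 59390, 59444, 59391], [351, 0, 59388, 59446, 59389], [360, 3, 59386, 59448, 59387], [352, 1, 59384, 59450, 59385], [348, 3, 59382, 59452, 59383], [352, 1, 59380, 59454, 59381], [360, 3, 59378, 59456, 59379], [351, 0, 59376, 59458, 59377], [347, 2, 59374, 59460, 59375], [351, 0, 59372, 59462, 59373],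 [353, 2, 59370, 59464, 59371], [350, 1, 59368, 59466, 59369], [349, 2, 59366, 59468, 59367], [335, 0, 59392, 59410, 59393], [331, 2, 59390, 59472, 59391], [335, 0, 59388, 59474, 59389], [344, 3, 59386, 59476, 59387], [336, 1, 59384, 59478, 59385], [332, 3, 59382, 59480, 59383], [336, 1, 59380, 59482, 59381], [344, 3, 59378, 59484, 59379], [335, 0, 59376, 59486, 59377], [331, 2, 59374, 59488, 59375], [335, 0, 59372, 59490, 59373], [337, 2, 59370, 59492, 59371], [334, 1, 59368, 59494, 59369], [333, 2, 59366, 59496, 59367], [320, 3, 52856, 59408, 59393], [316, 1, 59390, 59500, 52855], [383, 2, 59500, 53042, 59501], [395, 2, 59500, 53016, 59501], [405, 2, 59500, 52958, 59501], [284, 1, 59390, 59508, 59391], [288, 3, 59388, 59510, 59389], [295, 0, 59386, 59512, 59387], [287, 2, 59384, 59514, 59385], [283, 0, 59382, 59516, 59383], [287, 2, 59380, 59518, 59381], [295, 0, 59378, 59520, 59379], [288, 3, 59376, 59522, 59377], [284, 1, 59374, 59524, 59375], [288, 3, 59372, 59526, 59373], [290, 1, 59370, 59528, 59371], [285, 2, 59368, 59530, 59369], [281, 0, 49776, 59364,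 59366, 59532], [286, 1, 59366, 59532, 59367], [263, 0, 59534, 42716, 59535], [279, 0, 59534, 14326, 59535], [312, 3, 59534, 44607, 52984], [327, 0, 59534, 44615, 52984], [317, 2, 52830, 59544, 59367], [318, 3, 52833, 59544, 59368], [317, 1, 59548, 53044, 59547], [321, 0, 59371, 59548, 52834], [383, 2, 59548, 53021, 59549], [395, 2, 59548, 52995, 59549], [269, 0, 59550, 59556, 59551], [273, 0, 59371, 59556, 59370], [271, 2, 59373, 59560, 59372], [267, 0, 59375, 59562, 59374], [271, 2, 59377, 59564, 59376], [280, 1, 59379, 59566, 59378], [272, 3, 59381, 59568, 59380], [268, 1, 59383, 59570, 59382], [272, 3, 59385, 59572, 59384], [280, 1, 59387, 59574, 59386], [271, 2, 59389, 59576, 59388], [253, 0, 59550, 59554, 59551], [257, 0, 59371, 59554, 59370], [255, 2, 59373, 59582, 59372], [251, 0, 59375, 59584, 59374], [255, 2, 59377, 59586, 59376], [264, 1, 59379, 59588, 59378], [256, 3, 59381, 59590, 59380], [252, 1, 59383, 59592, 59382], [256, 3, 59385, 59594, 59384], [264, 1, 59387, 59596, 59386]]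
def dJ152 : List (List ℕ) := [[280, 1, 60587, 60798, 60586], [257, 0, 60571, 60780, 60570], [255, 2, 60573, 60802, 60572], [251, 0, 60575, 60804, 60574], [255, 2, 60577, 60806, 60576], [264, 1, 60579, 60808, 60578], [256, 3, 60581, 60810, 60580], [252, 1, 60583, 60812, 60582], [256, 3, 60585, 60814, 60584], [264, 1, 60587, 60816, 60586], [303, 2, 52837, 60778, 60572], [413, 1, 59622, 59553, 60778], [319, 2, 60573, 60822, 52836], [315, 0, 52839, 60824, 60574], [319, 2, 60577, 60826, 52840], [413, 0, 60826, 59626, 59605], [303, 2, 52841, 60830, 60576], [312, 1, 60579, 60832, 52842], [304, 3, 52845, 60834, 60580], [413, 1, 59630, 59609, 60834], [320, 3, 60581, 60838, 52844], [316, 1, 52847, 60840, 60582], [320, 3, 60585, 60842, 52848], [413, 0, 60842, 59634, 59613], [304, 3, 52849, 60846, 60584], [312, 1, 60587, 60848, 52850], [303, 2, 52853, 60850, 60588], [413, 1, 59638, 59617, 60850], [414, 2, 60718, 60854, 60850], [327, 0, 60586, 60856, 59387], [319, 2, 59384, 60858, 60585], [413, 0, 60858, 60848, 60844], [303, 2, 60584, 60862, 59385], [299, 0, 59382, 60864, 60583],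 [303, 2, 60580, 60866, 59381], [413, 1, 60836, 60840, 60866], [319, 2, 59380, 60870, 60581], [327, 0, 60578, 60872, 59379], [413, 0, 60874, 60832, 60828], [304, 3, 60576, 60876, 59377], [300, 1, 59374, 60878, 60575], [304, 3, 60572, 60880, 59373], [413, 1, 60820, 60824, 60880], [320, 3, 59372, 60884, 60573], [322, 1, 60570, 60886, 59371], [318, 3, 59550, 60888, 60768], [413, 0, 60888, 60776, 60765], [302, 3, 60769, 60892, 59551], [297, 3, 60894, 60565, 47846, 54288], [113, 1, 54295, 54502, 60896, 59550], [5, 0, 59368, 60898], [6, 0, 59550, 60898], [10, 0, 59371, 60898], [23, 0, 59619, 60898], [24, 0, 60892, 60898], [25, 0, 60889, 60898], [26, 0, 59549, 60898], [114, 0, 54291, 60896, 59366], [62, 1, 54294, 60904], [125, 1, 54297, 60904, 59372], [319, 2, 60589, 60854, 52852], [315, 0, 52855, 60920, 60590], [413, 0, 60922, 59642, 59500], [0, 0], [0, 0], [0, 0], [0, 0], [0, 0], [0, 0], [0, 0], [0, 0], [0, 0], [0, 0], [0, 0], [0, 0], [0, 0], [0, 0], [0, 0], [0, 0], [0, 0], [0, 0], [0, 0], [0, 0], [0, 0], [0, 0], [0, 0], [0, 0], [329, 29, 49198, 49600, 50012, 50021,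 36922, 50020, 50019, 45822, 44689, 47858, 60926, 60928, 60930, 60932, 60934, 60936, 60938, 60940, 60942, 60944, 60946, 60948, 60950, 60952, 60954, 60956, 60958, 60960, 60962, 60964, 60966, 60968, 60970, 60972], [263, 2, 60974, 49203, 60975], [279, 2, 60974, 49205, 60975], [282, 3, 60974, 49207, 51557, 51177], [295, 2, 60974, 49207, 60975], [312, 1, 60974, 50138, 53095], [327, 2, 60974, 50140, 53095], [343, 2, 60974, 49209, 60975], [359, 2, 60974, 49211, 60975], [375, 2, 60974, 49213, 60975], [367, 0, 60972, 60992, 60973], [363, 2, 60970, 60994, 60971], [367, 0, 60968, 60996, 60969], [376, 3, 60966, 60998, 60967], [368, 1, 60964, 61000, 60965], [364, 3, 60962, 61002, 60963], [368, 1, 60960, 61004, 60961], [376, 3, 60958, 61006, 60959], [367, 0, 60956, 61008, 60957], [363, 2, 60954, 61010, 60955], [367, 0, 60952, 61012, 60953], [375, 2, 60950, 61014, 60951], [368, 1, 60948, 61016, 60949], [364, 3, 60946, 61018, 60947], [368, 1, 60944, 61020, 60945], [375, 2, 60942, 61022, 60943], [367, 0, 60940, 61024, 60941], [363, 2, 60938, 61026, 60939], [367, 0, 60936, 61028,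 60937], [375, 2, 60934, 61030, 60935], [368, 1, 60932, 61032, 60933], [364, 3, 60930, 61034, 60931], [368, 1, 60928, 61036, 60929], [351, 0, 60972, 60990, 60973], [347, 2, 60970, 61040, 60971], [351, 0, 60968, 61042, 60969], [360, 3, 60966, 61044, 60967], [352, 1, 60964, 61046, 60965], [348, 3, 60962, 61048, 60963], [352, 1, 60960, 61050, 60961], [360, 3, 60958, 61052, 60959], [351, 0, 60956, 61054, 60957], [347, 2, 60954, 61056, 60955], [351, 0, 60952, 61058, 60953], [359, 2, 60950, 61060, 60951], [352, 1, 60948, 61062, 60949], [348, 3, 60946, 61064, 60947], [352, 1, 60944, 61066, 60945], [359, 2, 60942, 61068, 60943], [351, 0, 60940, 61070, 60941], [347, 2, 60938, 61072, 60939], [351, 0, 60936, 61074, 60937], [359, 2, 60934, 61076, 60935], [352, 1, 60932, 61078, 60933], [348, 3, 60930, 61080, 60931], [352, 1, 60928, 61082, 60929], [335, 0, 60972, 60988, 60973], [331, 2, 60970, 61086, 60971], [335, 0, 60968, 61088, 60969], [344, 3, 60966, 61090, 60967], [336, 1, 60964, 61092, 60965], [332, 3, 60962, 61094, 60963], [336, 1, 60960, 61096, 60961], [344, 3, 60958,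 61098, 60959], [335, 0, 60956, 61100, 60957], [331, 2, 60954, 61102, 60955], [335, 0, 60952, 61104, 60953], [343, 2, 60950, 61106, 60951], [336, 1, 60948, 61108, 60949], [332, 3, 60946, 61110, 60947], [336, 1, 60944, 61112, 60945], [343, 2, 60942, 61114, 60943], [335, 0, 60940, 61116, 60941], [331, 2, 60938, 61118, 60939], [335, 0, 60936, 61120, 60937], [343, 2, 60934, 61122, 60935], [336, 1, 60932, 61124, 60933], [332, 3, 60930, 61126, 60931], [336, 1, 60928, 61128, 60929], [319, 0, 53092, 60986, 60973], [315, 2, 60970, 61132, 53091], [383, 0, 61132, 53339, 61133], [395, 0, 61132, 53293, 61133], [405, 0, 61132, 53247, 61133], [283, 2, 60970, 61140, 60971], [287, 0, 60968, 61142, 60969], [296, 3, 60966, 61144, 60967], [288, 1, 60964, 61146, 60965], [284, 3, 60962, 61148, 60963], [288, 1, 60960, 61150, 60961], [296, 3, 60958, 61152, 60959], [287, 0, 60956, 61154, 60957], [283, 2, 60954, 61156, 60955], [287, 0, 60952, 61158, 60953], [295, 2, 60950, 61160, 60951], [288, 1, 60948, 61162, 60949], [284, 3, 60946, 61164, 60947], [288, 1, 60944, 61166, 60945], [295, 2,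 60942, 61168, 60943], [287, 0, 60940, 61170, 60941], [283, 2, 60938, 61172, 60939], [287, 0, 60936, 61174, 60937], [295, 2, 60934, 61176, 60935], [288, 1, 60932, 61178, 60933], [284, 3, 60930, 61180, 60931], [288, 1, 60928, 61182, 60929], [267, 2, 60970, 61138, 60971], [271, 0, 60968, 61186, 60969], [280, 3, 60966, 61188, 60967], [272, 1, 60964, 61190, 60965], [268, 3, 60962, 61192, 60963], [272, 1, 60960, 61194, 60961], [280, 3, 60958, 61196, 60959]]
def dJ156 : List (List ℕ) := [[368, 1, 62362, 62398, 62363], [364, 3, 62360, 62400, 62361], [368, 1, 62358, 62402, 62359], [376, 3, 62356, 62404, 62357], [367, 0, 62354, 62406, 62355], [351, 0, 62370, 62388, 62371], [347, 2, 62368, 62410, 62369], [351, 0, 62366, 62412, 62367], [359, 2, 62364, 62414, 62365], [352, 1, 62362, 62416, 62363], [348, 3, 62360, 62418, 62361], [352, 1, 62358, 62420, 62359], [360, 3, 62356, 62422, 62357], [351, 0, 62354, 62424, 62355], [335, 0, 62370, 62386, 62371], [331, 2, 62368, 62428, 62369], [335, 0, 62366, 62430, 62367], [343, 2, 62364, 62432, 62365], [336, 1, 62362, 62434, 62363], [332,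 3, 62360, 62436, 62361], [336, 1, 62358, 62438, 62359], [344, 3, 62356, 62440, 62357], [335, 0, 62354, 62442, 62355], [319, 0, 55640, 62384, 62371], [315, 2, 62368, 62446, 55639], [383, 0, 62446, 55749, 62447], [395, 0, 62446, 55731, 62447], [405, 0, 62446, 55713, 62447], [283, 2, 62368, 62454, 62369], [287, 0, 62366, 62456, 62367], [295, 2, 62364, 62458, 62365], [288, 1, 62362, 62460, 62363], [284, 3, 62360, 62462, 62361], [288, 1, 62358, 62464, 62359], [296, 3, 62356, 62466, 62357], [287, 0, 62354, 62468, 62355], [267, 2, 62368, 62452, 62369], [271, 0, 62366, 62472, 62367], [279, 2, 62364, 62474, 62365], [272, 1, 62362, 62476, 62363], [268, 3, 62360, 62478, 62361], [272, 1, 62358, 62480, 62359], [280, 3, 62356, 62482, 62357], [271, 0, 62354, 62484, 62355], [251, 2, 62368, 62450, 62369], [255, 0, 62366, 62488, 62367], [263, 2, 62364, 62490, 62365], [256, 1, 62362, 62492, 62363], [252, 3, 62360, 62494, 62361], [256, 1, 62358, 62496, 62359], [264, 3, 62356, 62498, 62357], [255, 0, 62354, 62500, 62355], [319, 0, 55636, 62448, 62367], [327, 2, 62364, 62504, 55635],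 [320, 1, 55632, 62506, 62363], [316, 3, 62360, 62508, 55631], [320, 1, 55628, 62510, 62359], [328, 3, 62356, 62512, 55627], [319, 0, 55624, 62514, 62355], [315, 2, 62352, 62516, 55623], [319, 0, 55620, 62518, 62351], [322, 0, 59334, 59363, 62518], [125, 3, 62350, 62522, 52659], [305, 0, 62522, 59356, 59363], [300, 3, 55623, 62526, 62352], [304, 3, 55620, 62526, 62351], [304, 1, 62355, 62528, 55624], [311, 2, 55627, 62532, 62356], [303, 0, 62359, 62534, 55628], [299, 2, 55631, 62536, 62360], [303, 0, 62363, 62538, 55632], [312, 3, 55635, 62540, 62364], [304, 1, 62367, 62542, 55636], [300, 3, 55639, 62544, 62368], [62, 1, 55612, 62524], [0, 0], [0, 0], [0, 0], [0, 0], [0, 0], [0, 0], [0, 0], [0, 0], [0, 0], [0, 0], [0, 0], [0, 0], [0, 0], [0, 0], [0, 0], [0, 0], [361, 18, 61985, 61983, 61981, 61979, 61977, 61975, 61973, 62373, 62371, 62369, 62367, 62365, 62363, 62361, 62359, 62357, 62355, 62353, 62351, 62349, 46321, 48990, 49010, 37763, 922, 1400, 8785, 1572, 8784, 52113, 62550, 62552, 62554, 62556, 62558, 62560, 62562, 62564, 62566, 62568, 62570, 62572, 62574, 62576,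 62578, 62580], [250, 1, 62582, 61986, 42090], [263, 2, 62582, 61989, 62583], [279, 2, 62582, 61991, 62583], [282, 3, 62582, 61995, 61993, 52859], [295, 2, 62582, 61995, 62583], [312, 1, 62582, 61997, 55799], [327, 2, 62582, 61999, 55799], [343, 2, 62582, 62001, 62583], [359, 2, 62582, 62003, 62583], [375, 2, 62582, 62005, 62583], [367, 0, 62580, 62602, 62581], [363, 2, 62578, 62604, 62579], [367, 0, 62576, 62606, 62577], [376, 3, 62574, 62608, 62575], [368, 1, 62572, 62610, 62573], [364, 3, 62570, 62612, 62571], [368, 1, 62568, 62614, 62569], [376, 3, 62566, 62616, 62567], [367, 0, 62564, 62618, 62565], [363, 2, 62562, 62620, 62563], [367, 0, 62560, 62622, 62561], [369, 2, 62558, 62624, 62559], [366, 1, 62556, 62626, 62557], [365, 2, 62554, 62628, 62555], [376, 1, 62552, 62630, 62553], [351, 0, 62580, 62600, 62581], [347, 2, 62578, 62634, 62579], [351, 0, 62576, 62636, 62577], [360, 3, 62574, 62638, 62575], [352, 1, 62572, 62640, 62573], [348, 3, 62570, 62642, 62571], [352, 1, 62568, 62644, 62569], [360, 3, 62566, 62646, 62567], [351, 0, 62564, 62648, 62565], [347,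 2, 62562, 62650, 62563], [351, 0, 62560, 62652, 62561], [353, 2, 62558, 62654, 62559], [350, 1, 62556, 62656, 62557], [349, 2, 62554, 62658, 62555], [360, 1, 62552, 62660, 62553], [335, 0, 62580, 62598, 62581], [331, 2, 62578, 62664, 62579], [335, 0, 62576, 62666, 62577], [344, 3, 62574, 62668, 62575], [336, 1, 62572, 62670, 62573], [332, 3, 62570, 62672, 62571], [336, 1, 62568, 62674, 62569], [344, 3, 62566, 62676, 62567], [335, 0, 62564, 62678, 62565], [331, 2, 62562, 62680, 62563], [335, 0, 62560, 62682, 62561], [337, 2, 62558, 62684, 62559], [334, 1, 62556, 62686, 62557], [333, 2, 62554, 62688, 62555], [344, 1, 62552, 62690, 62553], [319, 0, 55796, 62596, 62581], [315, 2, 62578, 62694, 55795], [383, 0, 62694, 55965, 62695], [395, 0, 62694, 55935, 62695], [405, 0, 62694, 55905, 62695], [283, 2, 62578, 62702, 62579], [287, 0, 62576, 62704, 62577], [296, 3, 62574, 62706, 62575], [288, 1, 62572, 62708, 62573], [284, 3, 62570, 62710, 62571], [288, 1, 62568, 62712, 62569], [296, 3, 62566, 62714, 62567], [287, 0, 62564, 62716, 62565], [283, 2, 62562, 62718, 62563],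 [287, 0, 62560, 62720, 62561], [289, 2, 62558, 62722, 62559], [286, 1, 62556, 62724, 62557], [285, 2, 62554, 62726, 62555], [296, 1, 62552, 62728, 62553], [267, 2, 62578, 62700, 62579], [271, 0, 62576, 62732, 62577], [280, 3, 62574, 62734, 62575], [272, 1, 62572, 62736, 62573], [268, 3, 62570, 62738, 62571], [272, 1, 62568, 62740, 62569], [280, 3, 62566, 62742, 62567], [271, 0, 62564, 62744, 62565], [267, 2, 62562, 62746, 62563], [271, 0, 62560, 62748, 62561], [273, 2, 62558, 62750, 62559], [270, 1, 62556, 62752, 62557], [269, 2, 62554, 62754, 62555], [280, 1, 62552, 62756, 62553], [251, 2, 62578, 62698, 62579], [255, 0, 62576, 62760, 62577], [264, 3, 62574, 62762, 62575], [256, 1, 62572, 62764, 62573], [252, 3, 62570, 62766, 62571], [256, 1, 62568, 62768, 62569], [264, 3, 62566, 62770, 62567], [255, 0, 62564, 62772, 62565], [251, 2, 62562, 62774, 62563], [255, 0, 62560, 62776, 62561], [257, 2, 62558, 62778, 62559], [254, 1, 62556, 62780, 62557], [253, 2, 62554, 62782, 62555], [264, 1, 62552, 62784, 62553], [319, 0, 55792, 62696, 62577], [328, 3, 62574, 62788,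 55791], [320, 1, 55788, 62790, 62573], [316, 3, 62570, 62792, 55787], [320, 1, 55784, 62794, 62569], [328, 3, 62566, 62796, 55783]]
def dJ160 : List (List ℕ) := [[0, 0], [0, 0], [0, 0], [0, 0], [0, 0], [0, 0], [0, 0], [0, 0], [0, 0], [0, 0], [0, 0], [0, 0], [0, 0], [0, 0], [329, 29, 12176, 47080, 47087, 32975, 37922, 32974, 46513, 48822, 48829, 24802, 63980, 63982, 63984, 63986, 63988, 63990, 63992, 63994, 63996, 63998, 64000, 64002, 64004, 64006, 64008, 64010, 64012, 64014, 64016, 64018, 64020, 64022, 64024, 64026], [263, 2, 64028, 42142, 64029], [279, 2, 64028, 12123, 64029], [281, 1, 64028, 49194, 49180, 53825], [282, 3, 64028, 12125, 52624, 59948], [295, 2, 64028, 12125, 64029], [311, 2, 64028, 12197, 55319], [312, 1, 64028, 12128, 61987], [327, 2, 64028, 12130, 61987], [328, 1, 64028, 12199, 55319], [343, 2, 64028, 41583, 64029], [359, 2, 64028, 40875, 64029], [375, 2, 64028, 12127, 64029], [367, 0, 64026, 64052, 64027], [363, 2, 64024, 64054, 64025], [367, 0, 64022, 64056, 64023], [376, 3, 64020, 64058, 64021], [368, 1, 64018, 64060, 64019], [364, 3, 64016,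 64062, 64017], [368, 1, 64014, 64064, 64015], [376, 3, 64012, 64066, 64013], [367, 0, 64010, 64068, 64011], [363, 2, 64008, 64070, 64009], [367, 0, 64006, 64072, 64007], [375, 2, 64004, 64074, 64005], [368, 1, 64002, 64076, 64003], [364, 3, 64000, 64078, 64001], [368, 1, 63998, 64080, 63999], [375, 2, 63996, 64082, 63997], [367, 0, 63994, 64084, 63995], [363, 2, 63992, 64086, 63993], [367, 0, 63990, 64088, 63991], [375, 2, 63988, 64090, 63989], [368, 1, 63986, 64092, 63987], [364, 3, 63984, 64094, 63985], [368, 1, 63982, 64096, 63983], [351, 0, 64026, 64050, 64027], [347, 2, 64024, 64100, 64025], [351, 0, 64022, 64102, 64023], [360, 3, 64020, 64104, 64021], [352, 1, 64018, 64106, 64019], [348, 3, 64016, 64108, 64017], [352, 1, 64014, 64110, 64015], [360, 3, 64012, 64112, 64013], [351, 0, 64010, 64114, 64011], [347, 2, 64008, 64116, 64009], [351, 0, 64006, 64118, 64007], [359, 2, 64004, 64120, 64005], [352, 1, 64002, 64122, 64003], [348, 3, 64000, 64124, 64001], [352, 1, 63998, 64126, 63999], [359, 2, 63996, 64128, 63997], [351, 0, 63994, 64130, 63995], [347, 2,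 63992, 64132, 63993], [351, 0, 63990, 64134, 63991], [359, 2, 63988, 64136, 63989], [352, 1, 63986, 64138, 63987], [348, 3, 63984, 64140, 63985], [352, 1, 63982, 64142, 63983], [335, 0, 64026, 64048, 64027], [331, 2, 64024, 64146, 64025], [335, 0, 64022, 64148, 64023], [344, 3, 64020, 64150, 64021], [336, 1, 64018, 64152, 64019], [332, 3, 64016, 64154, 64017], [336, 1, 64014, 64156, 64015], [344, 3, 64012, 64158, 64013], [335, 0, 64010, 64160, 64011], [331, 2, 64008, 64162, 64009], [335, 0, 64006, 64164, 64007], [343, 2, 64004, 64166, 64005], [336, 1, 64002, 64168, 64003], [332, 3, 64000, 64170, 64001], [336, 1, 63998, 64172, 63999], [343, 2, 63996, 64174, 63997], [335, 0, 63994, 64176, 63995], [331, 2, 63992, 64178, 63993], [335, 0, 63990, 64180, 63991], [343, 2, 63988, 64182, 63989], [336, 1, 63986, 64184, 63987], [332, 3, 63984, 64186, 63985], [336, 1, 63982, 64188, 63983], [320, 3, 55316, 64046, 64027], [383, 2, 64192, 55562, 64193], [395, 2, 64192, 55516, 64193], [405, 2, 64192, 55470, 64193], [413, 2, 64192, 62303, 62132], [300, 1, 55314, 64200, 64025], [304,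 3, 64022, 64202, 55313], [381, 0, 64202, 55564, 64203], [393, 0, 64202, 55518, 64203], [403, 0, 64202, 55472, 64203], [288, 3, 64022, 64210, 64023], [295, 0, 64020, 64212, 64021], [287, 2, 64018, 64214, 64019], [283, 0, 64016, 64216, 64017], [287, 2, 64014, 64218, 64015], [295, 0, 64012, 64220, 64013], [288, 3, 64010, 64222, 64011], [284, 1, 64008, 64224, 64009], [288, 3, 64006, 64226, 64007], [296, 1, 64004, 64228, 64005], [287, 2, 64002, 64230, 64003], [283, 0, 64000, 64232, 64001], [287, 2, 63998, 64234, 63999], [296, 1, 63996, 64236, 63997], [288, 3, 63994, 64238, 63995], [284, 1, 63992, 64240, 63993], [288, 3, 63990, 64242, 63991], [296, 1, 63988, 64244, 63989], [287, 2, 63986, 64246, 63987], [283, 0, 63984, 64248, 63985], [287, 2, 63982, 64250, 63983], [272, 3, 64022, 64208, 64023], [279, 0, 64020, 64254, 64021], [271, 2, 64018, 64256, 64019], [267, 0, 64016, 64258, 64017], [271, 2, 64014, 64260, 64015], [279, 0, 64012, 64262, 64013], [272, 3, 64010, 64264, 64011], [268, 1, 64008, 64266, 64009], [272, 3, 64006, 64268, 64007], [280, 1, 64004, 64270, 64005],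 [271, 2, 64002, 64272, 64003], [267, 0, 64000, 64274, 64001], [271, 2, 63998, 64276, 63999], [280, 1, 63996, 64278, 63997], [272, 3, 63994, 64280, 63995], [268, 1, 63992, 64282, 63993], [272, 3, 63990, 64284, 63991], [280, 1, 63988, 64286, 63989], [271, 2, 63986, 64288, 63987], [267, 0, 63984, 64290, 63985], [271, 2, 63982, 64292, 63983], [256, 3, 64022, 64206, 64023], [263, 0, 64020, 64296, 64021], [255, 2, 64018, 64298, 64019], [251, 0, 64016, 64300, 64017], [255, 2, 64014, 64302, 64015], [263, 0, 64012, 64304, 64013], [256, 3, 64010, 64306, 64011], [252, 1, 64008, 64308, 64009], [256, 3, 64006, 64310, 64007], [264, 1, 64004, 64312, 64005], [255, 2, 64002, 64314, 64003], [251, 0, 64000, 64316, 64001], [255, 2, 63998, 64318, 63999], [264, 1, 63996, 64320, 63997], [256, 3, 63994, 64322, 63995], [252, 1, 63992, 64324, 63993], [256, 3, 63990, 64326, 63991], [264, 1, 63988, 64328, 63989], [255, 2, 63986, 64330, 63987], [251, 0, 63984, 64332, 63985], [255, 2, 63982, 64334, 63983], [311, 0, 55310, 64204, 64021], [413, 3, 62307, 62262, 64204], [327, 0, 64020, 64340,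 55311], [319, 2, 55308, 64342, 64019], [315, 0, 64016, 64344, 55307], [413, 2, 64344, 62311, 62266], [299, 0, 55306, 64348, 64017], [303, 2, 64014, 64350, 55305], [413, 3, 62315, 62270, 64352], [327, 0, 64012, 64354, 55303], [320, 3, 55300, 64356, 64011], [413, 2, 64358, 62319, 62274], [300, 1, 55298, 64360, 64009], [304, 3, 64006, 64362, 55297], [413, 3, 62323, 62278, 64364], [328, 1, 64004, 64366, 55295], [319, 2, 55292, 64368, 64003], [413, 2, 64370, 62327, 62282], [299, 0, 55290, 64372, 64001], [303, 2, 63998, 64374, 55289], [312, 1, 55286, 64376, 63997], [413, 3, 62331, 62286, 64376], [328, 1, 63996, 64380, 55287], [320, 3, 55284, 64382, 63995], [413, 2, 64384, 62335, 62290], [300, 1, 55282, 64386, 63993], [304, 3, 63990, 64388, 55281], [312, 1, 55278, 64390, 63989], [413, 3, 62339, 62294, 64390], [328, 1, 63988, 64394, 55279], [319, 2, 55276, 64396, 63987]]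
def dJ164 : List (List ℕ) := [[351, 2, 65492, 65598, 65493], [347, 0, 65490, 65600, 65491], [351, 2, 65488, 65602, 65489], [359, 0, 65486, 65604, 65487], [352, 3, 65484, 65606, 65485], [348, 1, 65482, 65608, 65483], [352, 3, 65480, 65610, 65481], [360, 1, 65478, 65612, 65479], [351, 2, 65476, 65614, 65477], [347, 0, 65474, 65616, 65475], [351, 2, 65472, 65618, 65473], [360, 1, 65470, 65620, 65471], [352, 3, 65468, 65622, 65469], [348, 1, 65466, 65624, 65467], [352, 3, 65464, 65626, 65465], [360, 1, 65462, 65628, 65463], [351, 2, 65460, 65630, 65461], [347, 0, 65458, 65632, 65459], [351, 2, 65456, 65634, 65457], [359, 0, 65454, 65636, 65455], [352, 3, 65452, 65638, 65453], [348, 1, 65450, 65640, 65451], [331, 0, 65506, 65522, 65507], [335, 2, 65504, 65644, 65505], [344, 1, 65502, 65646, 65503], [336, 3, 65500, 65648, 65501], [332, 1, 65498, 65650, 65499], [336, 3, 65496, 65652, 65497], [343, 0, 65494, 65654, 65495], [335, 2, 65492, 65656, 65493], [331, 0, 65490, 65658, 65491], [335, 2, 65488, 65660, 65489], [343, 0, 65486, 65662, 65487], [336, 3, 65484, 65664, 65485],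 [332, 1, 65482, 65666, 65483], [336, 3, 65480, 65668, 65481], [344, 1, 65478, 65670, 65479], [335, 2, 65476, 65672, 65477], [331, 0, 65474, 65674, 65475], [335, 2, 65472, 65676, 65473], [344, 1, 65470, 65678, 65471], [336, 3, 65468, 65680, 65469], [332, 1, 65466, 65682, 65467], [336, 3, 65464, 65684, 65465], [344, 1, 65462, 65686, 65463], [335, 2, 65460, 65688, 65461], [331, 0, 65458, 65690, 65459], [335, 2, 65456, 65692, 65457], [343, 0, 65454, 65694, 65455], [336, 3, 65452, 65696, 65453], [332, 1, 65450, 65698, 65451], [283, 0, 65506, 65520, 65507], [287, 2, 65504, 65702, 65505], [296, 1, 65502, 65704, 65503], [288, 3, 65500, 65706, 65501], [284, 1, 65498, 65708, 65499], [288, 3, 65496, 65710, 65497], [295, 0, 65494, 65712, 65495], [287, 2, 65492, 65714, 65493], [283, 0, 65490, 65716, 65491], [287, 2, 65488, 65718, 65489], [295, 0, 65486, 65720, 65487], [288, 3, 65484, 65722, 65485], [284, 1, 65482, 65724, 65483], [288, 3, 65480, 65726, 65481], [296, 1, 65478, 65728, 65479], [287, 2, 65476, 65730, 65477], [283, 0, 65474, 65732, 65475], [287, 2, 65472, 65734,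 65473], [296, 1, 65470, 65736, 65471], [288, 3, 65468, 65738, 65469], [284, 1, 65466, 65740, 65467], [288, 3, 65464, 65742, 65465], [296, 1, 65462, 65744, 65463], [287, 2, 65460, 65746, 65461], [283, 0, 65458, 65748, 65459], [287, 2, 65456, 65750, 65457], [295, 0, 65454, 65752, 65455], [288, 3, 65452, 65754, 65453], [284, 1, 65450, 65756, 65451], [267, 0, 65506, 65518, 65507], [271, 2, 65504, 65760, 65505], [280, 1, 65502, 65762, 65503], [272, 3, 65500, 65764, 65501], [268, 1, 65498, 65766, 65499], [272, 3, 65496, 65768, 65497], [279, 0, 65494, 65770, 65495], [271, 2, 65492, 65772, 65493], [267, 0, 65490, 65774, 65491], [271, 2, 65488, 65776, 65489], [279, 0, 65486, 65778, 65487], [272, 3, 65484, 65780, 65485], [268, 1, 65482, 65782, 65483], [272, 3, 65480, 65784, 65481], [280, 1, 65478, 65786, 65479], [271, 2, 65476, 65788, 65477], [267, 0, 65474, 65790, 65475], [271, 2, 65472, 65792, 65473], [280, 1, 65470, 65794, 65471], [272, 3, 65468, 65796, 65469], [268, 1, 65466, 65798, 65467], [272, 3, 65464, 65800, 65465], [280, 1, 65462, 65802, 65463], [271, 2, 65460,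 65804, 65461], [267, 0, 65458, 65806, 65459], [271, 2, 65456, 65808, 65457], [279, 0, 65454, 65810, 65455], [272, 3, 65452, 65812, 65453], [268, 1, 65450, 65814, 65451], [251, 0, 65506, 65516, 65507], [255, 2, 65504, 65818, 65505], [264, 1, 65502, 65820, 65503], [256, 3, 65500, 65822, 65501], [252, 1, 65498, 65824, 65499], [256, 3, 65496, 65826, 65497], [263, 0, 65494, 65828, 65495], [255, 2, 65492, 65830, 65493], [251, 0, 65490, 65832, 65491], [255, 2, 65488, 65834, 65489], [263, 0, 65486, 65836, 65487], [256, 3, 65484, 65838, 65485], [252, 1, 65482, 65840, 65483], [256, 3, 65480, 65842, 65481], [264, 1, 65478, 65844, 65479], [255, 2, 65476, 65846, 65477], [251, 0, 65474, 65848, 65475], [255, 2, 65472, 65850, 65473], [264, 1, 65470, 65852, 65471], [256, 3, 65468, 65854, 65469], [252, 1, 65466, 65856, 65467], [256, 3, 65464, 65858, 65465], [264, 1, 65462, 65860, 65463], [255, 2, 65460, 65862, 65461], [251, 0, 65458, 65864, 65459], [255, 2, 65456, 65866, 65457], [263, 0, 65454, 65868, 65455], [256, 3, 65452, 65870, 65453], [252, 1, 65450, 65872, 65451], [86, 0,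 49382, 65514, 65507], [88, 0, 65876, 49382, 65514, 65513, 46843], [114, 2, 52625, 45506, 65878], [218, 3, 12927, 45506, 65878, 65505], [301, 2, 65882, 45491, 65878], [318, 1, 65882, 45493, 65878], [210, 3, 65879, 46842, 46841, 65883], [317, 1, 49469, 65877, 65886], [322, 2, 52631, 65881, 65886], [297, 1, 65502, 65892, 58823, 58601], [125, 3, 58598, 65894, 65501], [125, 1, 46993, 65354, 65448], [126, 2, 46433, 65344, 65448], [217, 1, 45821, 36297, 65354, 65448], [45, 2, 65902, 46362], [85, 3, 65451, 65902, 13421], [86, 3, 65902, 13017, 65083], [87, 5, 26132, 65904, 65902, 13421, 65906], [89, 0, 65451, 65902, 13421, 13422, 65083], [113, 1, 65910, 46339, 52645], [217, 1, 65453, 65910, 46339, 24741], [302, 1, 65910, 46349, 65916], [317, 2, 65910, 46351, 65916], [315, 1, 65920, 65913, 65076], [318, 2, 65920, 65907, 13623], [321, 1, 65920, 65915, 52651], [226, 3, 65915, 52196, 59110, 65926], [298, 3, 58553, 59054, 65926, 65454], [114, 1, 65930, 64409, 64412], [126, 0, 65457, 65930, 58554], [0, 0], [0, 0], [0, 0], [0, 0], [0, 0], [0, 0], [0, 0], [0, 0], [0, 0], [0, 0],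 [0, 0], [0, 0], [345, 19, 65488, 65490, 65492, 65493, 65491, 65489, 65487, 65485, 65483, 65481, 65480, 65482, 65484, 65486, 65488, 65490, 65492, 65494, 65496, 65498, 65500, 65502, 65504, 65506, 65508, 65331, 38416, 2597, 10770, 10765, 12010, 47252, 47273, 14228, 65936, 65938, 65940, 65942, 65944, 65946, 65948, 65950, 65952, 65954, 65956, 65958], [250, 1, 65960, 65487, 65838], [263, 2, 65960, 65837, 65961], [279, 2, 65960, 65779, 65961], [295, 2, 65960, 65721, 65961], [343, 2, 65960, 65663, 65961], [359, 2, 65960, 65605, 65961], [375, 2, 65960, 65547, 65961], [367, 0, 65958, 65974, 65959], [363, 2, 65956, 65976, 65957], [367, 0, 65954, 65978, 65955], [375, 2, 65952, 65980, 65953], [368, 1, 65950, 65982, 65951], [364, 3, 65948, 65984, 65949], [368, 1, 65946, 65986, 65947], [376, 3, 65944, 65988, 65945], [367, 0, 65942, 65990, 65943], [363, 2, 65940, 65992, 65941], [367, 0, 65938, 65994, 65939], [351, 0, 65958, 65972, 65959]]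
def dJ168 : List (List ℕ) := [[351, 0, 67136, 67152, 67137], [347, 2, 67134, 67200, 67135], [351, 0, 67132, 67202, 67133], [360, 3, 67130, 67204, 67131], [352, 1, 67128, 67206, 67129], [348, 3, 67126, 67208, 67127], [352, 1, 67124, 67210, 67125], [360, 3, 67122, 67212, 67123], [351, 0, 67120, 67214, 67121], [347, 2, 67118, 67216, 67119], [351, 0, 67116, 67218, 67117], [359, 2, 67114, 67220, 67115], [352, 1, 67112, 67222, 67113], [348, 3, 67110, 67224, 67111], [352, 1, 67108, 67226, 67109], [359, 2, 67106, 67228, 67107], [351, 0, 67104, 67230, 67105], [347, 2, 67102, 67232, 67103], [351, 0, 67100, 67234, 67101], [359, 2, 67098, 67236, 67099], [352, 1, 67096, 67238, 67097], [348, 3, 67094, 67240, 67095], [335, 0, 67136, 67150, 67137], [331, 2, 67134, 67244, 67135], [335, 0, 67132, 67246, 67133], [344, 3, 67130, 67248, 67131], [336, 1, 67128, 67250, 67129], [332, 3, 67126, 67252, 67127], [336, 1, 67124, 67254, 67125], [344, 3, 67122, 67256, 67123], [335, 0, 67120, 67258, 67121], [331, 2, 67118, 67260, 67119], [335, 0, 67116, 67262, 67117], [343, 2, 67114, 67264, 67115],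 [336, 1, 67112, 67266, 67113], [332, 3, 67110, 67268, 67111], [336, 1, 67108, 67270, 67109], [343, 2, 67106, 67272, 67107], [335, 0, 67104, 67274, 67105], [331, 2, 67102, 67276, 67103], [335, 0, 67100, 67278, 67101], [343, 2, 67098, 67280, 67099], [336, 1, 67096, 67282, 67097], [332, 3, 67094, 67284, 67095], [125, 3, 55316, 67148, 67137], [217, 3, 67288, 55316, 59138, 58599], [257, 2, 67288, 55562, 67289], [273, 2, 67288, 55516, 67289], [289, 2, 67288, 55470, 67289], [284, 1, 67134, 67296, 67135], [288, 3, 67132, 67298, 67133], [295, 0, 67130, 67300, 67131], [287, 2, 67128, 67302, 67129], [283, 0, 67126, 67304, 67127], [287, 2, 67124, 67306, 67125], [295, 0, 67122, 67308, 67123], [288, 3, 67120, 67310, 67121], [284, 1, 67118, 67312, 67119], [288, 3, 67116, 67314, 67117], [296, 1, 67114, 67316, 67115], [287, 2, 67112, 67318, 67113], [283, 0, 67110, 67320, 67111], [287, 2, 67108, 67322, 67109], [296, 1, 67106, 67324, 67107], [288, 3, 67104, 67326, 67105], [284, 1, 67102, 67328, 67103], [288, 3, 67100, 67330, 67101], [296, 1, 67098, 67332, 67099], [287, 2, 67096,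 67334, 67097], [283, 0, 67094, 67336, 67095], [268, 1, 67134, 67294, 67135], [272, 3, 67132, 67340, 67133], [279, 0, 67130, 67342, 67131], [271, 2, 67128, 67344, 67129], [267, 0, 67126, 67346, 67127], [271, 2, 67124, 67348, 67125], [279, 0, 67122, 67350, 67123], [272, 3, 67120, 67352, 67121], [268, 1, 67118, 67354, 67119], [272, 3, 67116, 67356, 67117], [280, 1, 67114, 67358, 67115], [271, 2, 67112, 67360, 67113], [267, 0, 67110, 67362, 67111], [271, 2, 67108, 67364, 67109], [280, 1, 67106, 67366, 67107], [272, 3, 67104, 67368, 67105], [268, 1, 67102, 67370, 67103], [272, 3, 67100, 67372, 67101], [280, 1, 67098, 67374, 67099], [271, 2, 67096, 67376, 67097], [267, 0, 67094, 67378, 67095], [252, 1, 67134, 67292, 67135], [256, 3, 67132, 67382, 67133], [263, 0, 67130, 67384, 67131], [255, 2, 67128, 67386, 67129], [251, 0, 67126, 67388, 67127], [255, 2, 67124, 67390, 67125], [263, 0, 67122, 67392, 67123], [256, 3, 67120, 67394, 67121], [252, 1, 67118, 67396, 67119], [256, 3, 67116, 67398, 67117], [264, 1, 67114, 67400, 67115], [255, 2, 67112, 67402, 67113], [251, 0,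 67110, 67404, 67111], [255, 2, 67108, 67406, 67109], [264, 1, 67106, 67408, 67107], [256, 3, 67104, 67410, 67105], [252, 1, 67102, 67412, 67103], [256, 3, 67100, 67414, 67101], [264, 1, 67098, 67416, 67099], [255, 2, 67096, 67418, 67097], [251, 0, 67094, 67420, 67095], [85, 1, 58596, 67290, 67135], [201, 1, 65498, 65896, 67290, 67135], [125, 3, 67132, 67426, 65497], [217, 3, 67428, 67132, 67424, 58595], [282, 1, 58592, 67430, 65495, 65714], [54, 1, 62351, 67092], [125, 3, 55273, 62549, 67092], [217, 3, 67436, 55273, 55608, 52200], [85, 1, 52203, 67438, 67094], [0, 0], [0, 0], [0, 0], [0, 0], [0, 0], [0, 0], [0, 0], [0, 0], [0, 0], [0, 0], [0, 0], [0, 0], [345, 19, 67124, 67126, 67128, 67129, 67127, 67125, 67123, 67121, 67119, 67117, 67116, 67118, 67120, 67122, 67124, 67126, 67128, 67130, 67132, 67134, 67136, 67138, 12927, 46600, 38767, 11837, 38402, 2619, 37307, 4463, 32892, 37012, 46797, 13649, 67442, 67444, 67446, 67448, 67450, 67452, 67454, 67456, 67458, 67460, 67462, 67464], [250, 1, 67466, 67123, 67394], [263, 2, 67466, 67393, 67467], [279, 2, 67466, 67351,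 67467], [295, 2, 67466, 67309, 67467], [343, 2, 67466, 67256, 67467], [359, 2, 67466, 67212, 67467], [375, 2, 67466, 67168, 67467], [367, 0, 67464, 67480, 67465], [363, 2, 67462, 67482, 67463], [367, 0, 67460, 67484, 67461], [375, 2, 67458, 67486, 67459], [368, 1, 67456, 67488, 67457], [364, 3, 67454, 67490, 67455], [368, 1, 67452, 67492, 67453], [376, 3, 67450, 67494, 67451], [367, 0, 67448, 67496, 67449], [363, 2, 67446, 67498, 67447], [367, 0, 67444, 67500, 67445], [351, 0, 67464, 67478, 67465], [347, 2, 67462, 67504, 67463], [351, 0, 67460, 67506, 67461], [359, 2, 67458, 67508, 67459], [352, 1, 67456, 67510, 67457], [348, 3, 67454, 67512, 67455], [352, 1, 67452, 67514, 67453], [360, 3, 67450, 67516, 67451], [351, 0, 67448, 67518, 67449], [347, 2, 67446, 67520, 67447], [351, 0, 67444, 67522, 67445], [335, 0, 67464, 67476, 67465], [331, 2, 67462, 67526, 67463], [335, 0, 67460, 67528, 67461], [343, 2, 67458, 67530, 67459], [336, 1, 67456, 67532, 67457], [332, 3, 67454, 67534, 67455], [336, 1, 67452, 67536, 67453], [344, 3, 67450, 67538, 67451], [335, 0, 67448,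 67540, 67449], [331, 2, 67446, 67542, 67447], [335, 0, 67444, 67544, 67445], [287, 0, 67464, 67474, 67465], [283, 2, 67462, 67548, 67463], [287, 0, 67460, 67550, 67461], [295, 2, 67458, 67552, 67459], [288, 1, 67456, 67554, 67457], [284, 3, 67454, 67556, 67455], [288, 1, 67452, 67558, 67453], [296, 3, 67450, 67560, 67451], [287, 0, 67448, 67562, 67449], [283, 2, 67446, 67564, 67447], [287, 0, 67444, 67566, 67445], [271, 0, 67464, 67472, 67465], [267, 2, 67462, 67570, 67463], [271, 0, 67460, 67572, 67461], [279, 2, 67458, 67574, 67459], [272, 1, 67456, 67576, 67457], [268, 3, 67454, 67578, 67455], [272, 1, 67452, 67580, 67453], [280, 3, 67450, 67582, 67451], [271, 0, 67448, 67584, 67449], [267, 2, 67446, 67586, 67447], [271, 0, 67444, 67588, 67445], [255, 0, 67464, 67470, 67465], [251, 2, 67462, 67592, 67463], [255, 0, 67460, 67594, 67461], [263, 2, 67458, 67596, 67459]]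
def dJ172 : List (List ℕ) := [[284, 3, 68590, 68798, 68591], [288, 1, 68588, 68800, 68589], [295, 2, 68586, 68802, 68587], [287, 0, 68584, 68804, 68585], [283, 2, 68582, 68806, 68583], [287, 0, 68580, 68808, 68581], [295, 2, 68578, 68810, 68579], [288, 1, 68576, 68812, 68577], [284, 3, 68574, 68814, 68575], [288, 1, 68572, 68816, 68573], [271, 0, 68616, 68622, 68617], [267, 2, 68614, 68820, 68615], [271, 0, 68612, 68822, 68613], [280, 3, 68610, 68824, 68611], [272, 1, 68608, 68826, 68609], [268, 3, 68606, 68828, 68607], [272, 1, 68604, 68830, 68605], [280, 3, 68602, 68832, 68603], [271, 0, 68600, 68834, 68601], [267, 2, 68598, 68836, 68599], [271, 0, 68596, 68838, 68597], [279, 2, 68594, 68840, 68595], [272, 1, 68592, 68842, 68593], [268, 3, 68590, 68844, 68591], [272, 1, 68588, 68846, 68589], [279, 2, 68586, 68848, 68587], [271, 0, 68584, 68850, 68585], [267, 2, 68582, 68852, 68583], [271, 0, 68580, 68854, 68581], [279, 2, 68578, 68856, 68579], [272, 1, 68576, 68858, 68577], [268, 3, 68574, 68860, 68575], [272, 1, 68572, 68862, 68573], [255, 0, 68616, 68620, 68617],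 [251, 2, 68614, 68866, 68615], [255, 0, 68612, 68868, 68613], [264, 3, 68610, 68870, 68611], [256, 1, 68608, 68872, 68609], [252, 3, 68606, 68874, 68607], [256, 1, 68604, 68876, 68605], [264, 3, 68602, 68878, 68603], [255, 0, 68600, 68880, 68601], [251, 2, 68598, 68882, 68599], [255, 0, 68596, 68884, 68597], [263, 2, 68594, 68886, 68595], [256, 1, 68592, 68888, 68593], [252, 3, 68590, 68890, 68591], [256, 1, 68588, 68892, 68589], [263, 2, 68586, 68894, 68587], [255, 0, 68584, 68896, 68585], [251, 2, 68582, 68898, 68583], [255, 0, 68580, 68900, 68581], [263, 2, 68578, 68902, 68579], [256, 1, 68576, 68904, 68577], [252, 3, 68574, 68906, 68575], [256, 1, 68572, 68908, 68573], [281, 1, 64499, 44819, 13661, 68570], [312, 1, 67443, 13671, 68570], [327, 2, 67443, 13668, 68570], [0, 0], [0, 0], [0, 0], [0, 0], [0, 0], [0, 0], [0, 0], [0, 0], [0, 0], [0, 0], [0, 0], [0, 0], [345, 19, 68604, 68606, 68608, 68609, 68607, 68605, 68603, 68601, 68599, 68597, 68596, 68598, 68600, 68602, 68604, 68606, 68608, 68610, 68612, 68614, 68616, 68618, 50084, 50629, 50597, 42718, 40837,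 2621, 2664, 8356, 46526, 46126, 46595, 14231, 68918, 68920, 68922, 68924, 68926, 68928, 68930, 68932, 68934, 68936, 68938, 68940], [250, 1, 68942, 68603, 68881], [263, 2, 68942, 68878, 68943], [279, 2, 68942, 68832, 68943], [295, 2, 68942, 68786, 68943], [343, 2, 68942, 68740, 68943], [359, 2, 68942, 68694, 68943], [375, 2, 68942, 68648, 68943], [367, 0, 68940, 68956, 68941], [363, 2, 68938, 68958, 68939], [367, 0, 68936, 68960, 68937], [375, 2, 68934, 68962, 68935], [368, 1, 68932, 68964, 68933], [364, 3, 68930, 68966, 68931], [368, 1, 68928, 68968, 68929], [376, 3, 68926, 68970, 68927], [351, 0, 68940, 68954, 68941], [347, 2, 68938, 68974, 68939], [351, 0, 68936, 68976, 68937], [359, 2, 68934, 68978, 68935], [352, 1, 68932, 68980, 68933], [348, 3, 68930, 68982, 68931], [352, 1, 68928, 68984, 68929], [360, 3, 68926, 68986, 68927], [335, 0, 68940, 68952, 68941], [331, 2, 68938, 68990, 68939], [335, 0, 68936, 68992, 68937], [343, 2, 68934, 68994, 68935], [336, 1, 68932, 68996, 68933], [332, 3, 68930, 68998, 68931], [336, 1, 68928, 69000, 68929], [344, 3, 68926,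 69002, 68927], [287, 0, 68940, 68950, 68941], [283, 2, 68938, 69006, 68939], [287, 0, 68936, 69008, 68937], [295, 2, 68934, 69010, 68935], [288, 1, 68932, 69012, 68933], [284, 3, 68930, 69014, 68931], [288, 1, 68928, 69016, 68929], [296, 3, 68926, 69018, 68927], [271, 0, 68940, 68948, 68941], [267, 2, 68938, 69022, 68939], [271, 0, 68936, 69024, 68937], [279, 2, 68934, 69026, 68935], [272, 1, 68932, 69028, 68933], [268, 3, 68930, 69030, 68931], [272, 1, 68928, 69032, 68929], [280, 3, 68926, 69034, 68927], [255, 0, 68940, 68946, 68941], [251, 2, 68938, 69038, 68939], [255, 0, 68936, 69040, 68937], [263, 2, 68934, 69042, 68935], [256, 1, 68932, 69044, 68933], [252, 3, 68930, 69046, 68931], [256, 1, 68928, 69048, 68929], [264, 3, 68926, 69050, 68927], [281, 1, 63981, 44830, 13654, 68918], [282, 3, 58553, 58887, 59042, 68918], [297, 1, 67443, 13612, 13665, 68918], [298, 3, 65937, 14239, 13645, 68918], [312, 1, 53777, 13665, 68918], [327, 2, 53777, 13667, 68918], [125, 1, 68921, 69060, 65938], [127, 2, 67445, 69059, 69060, 65938, 69066], [114, 3, 69068, 67623, 59363],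 [86, 0, 55623, 69070, 68922], [202, 1, 67447, 69069, 68922, 69072], [126, 2, 55625, 69074, 67448], [218, 3, 55625, 69074, 67624, 59146], [114, 1, 67628, 69078, 69077], [281, 1, 59149, 69078, 55726, 55626], [302, 0, 60498, 69078, 64663], [282, 3, 64507, 64624, 69084, 60308], [302, 0, 60540, 69086, 64702], [282, 3, 67451, 67563, 69080, 65944], [113, 3, 69087, 67630, 69090], [126, 0, 67453, 69092, 64508], [218, 1, 60311, 69086, 64508, 69094], [86, 2, 67455, 69096, 60312], [202, 3, 67455, 69096, 67633, 65948], [126, 0, 65951, 69100, 67456], [218, 1, 60315, 69098, 67456, 69102], [281, 3, 66047, 65953, 69104, 60316], [0, 0], [0, 0], [0, 0], [0, 0], [0, 0], [0, 0], [0, 0], [0, 0], [0, 0], [0, 0], [0, 0], [0, 0], [0, 0], [0, 0], [0, 0], [0, 0], [361, 18, 68617, 68615, 68613, 68611, 68609, 68607, 68605, 68943, 68941, 68939, 68937, 68935, 68933, 68931, 68929, 68927, 68925, 68923, 68921, 68919, 14230, 46594, 46127, 46527, 8357, 2665, 2620, 2626, 2621, 65330, 69108, 69110, 69112, 69114, 69116, 69118, 69120, 69122, 69124, 69126, 69128, 69130, 69132, 69134, 69136, 69138], [250,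 1, 69140, 68618, 49456], [281, 1, 69140, 68625, 65707, 66133], [282, 3, 69140, 68629, 68627, 67659], [295, 2, 69140, 68629, 69141], [343, 2, 69140, 68631, 69141], [359, 2, 69140, 68633, 69141], [375, 2, 69140, 68635, 69141], [367, 0, 69138, 69154, 69139], [363, 2, 69136, 69156, 69137], [367, 0, 69134, 69158, 69135], [376, 3, 69132, 69160, 69133], [368, 1, 69130, 69162, 69131], [364, 3, 69128, 69164, 69129], [368, 1, 69126, 69166, 69127], [376, 3, 69124, 69168, 69125], [367, 0, 69122, 69170, 69123], [363, 2, 69120, 69172, 69121], [367, 0, 69118, 69174, 69119], [369, 2, 69116, 69176, 69117], [366, 1, 69114, 69178, 69115], [365, 2, 69112, 69180, 69113], [351, 0, 69138, 69152, 69139], [347, 2, 69136, 69184, 69137], [351, 0, 69134, 69186, 69135], [360, 3, 69132, 69188, 69133], [352, 1, 69130, 69190, 69131], [348, 3, 69128, 69192, 69129], [352, 1, 69126, 69194, 69127], [360, 3, 69124, 69196, 69125]]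
def dJ176 : List (List ℕ) := [[336, 3, 70248, 70398, 70249], [332, 1, 70246, 70400, 70247], [336, 3, 70244, 70402, 70245], [343, 0, 70242, 70404, 70243], [335, 2, 70240, 70406, 70241], [331, 0, 70238, 70408, 70239], [335, 2, 70236, 70410, 70237], [343, 0, 70234, 70412, 70235], [336, 3, 70232, 70414, 70233], [332, 1, 70230, 70416, 70231], [336, 3, 70228, 70418, 70229], [344, 1, 70226, 70420, 70227], [335, 2, 70224, 70422, 70225], [331, 0, 70222, 70424, 70223], [335, 2, 70220, 70426, 70221], [344, 1, 70218, 70428, 70219], [336, 3, 70216, 70430, 70217], [332, 1, 70214, 70432, 70215], [336, 3, 70212, 70434, 70213], [344, 1, 70210, 70436, 70211], [335, 2, 70208, 70438, 70209], [331, 0, 70206, 70440, 70207], [335, 2, 70204, 70442, 70205], [343, 0, 70202, 70444, 70203], [336, 3, 70200, 70446, 70201], [332, 1, 70198, 70448, 70199], [315, 0, 65506, 70270, 70255], [317, 3, 70452, 65876, 49386], [318, 0, 70452, 65879, 45494], [319, 3, 70252, 70452, 65505, 65887], [8, 0, 70253, 70459], [15, 0, 70250, 70459], [322, 0, 70452, 65880, 58827], [325, 3, 70452, 65889, 65887], [383,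 0, 70452, 65819, 70453], [395, 0, 70452, 65761, 70453], [405, 0, 70452, 65703, 70453], [413, 0, 70452, 65884, 65887], [78, 1, 65888, 70466], [233, 0, 70254, 70263, 65507, 70466], [244, 5, 65504, 70466, 70478, 70478, 70461, 65505, 70477], [247, 8, 65889, 70477, 70461, 65505, 65888, 70466, 70480, 65504], [248, 0, 70481, 70461, 65889, 70477, 70480, 65504, 70466, 70476], [309, 0, 70477, 70475, 70466], [326, 3, 70477, 70452, 70466], [314, 3, 65502, 70489, 70467, 70462], [261, 2, 70490, 65822, 70491], [277, 2, 70490, 65764, 70491], [293, 2, 70490, 65706, 70491], [287, 0, 70248, 70496, 70249], [283, 2, 70246, 70498, 70247], [287, 0, 70244, 70500, 70245], [296, 3, 70242, 70502, 70243], [288, 1, 70240, 70504, 70241], [284, 3, 70238, 70506, 70239], [288, 1, 70236, 70508, 70237], [296, 3, 70234, 70510, 70235], [287, 0, 70232, 70512, 70233], [283, 2, 70230, 70514, 70231], [287, 0, 70228, 70516, 70229], [295, 2, 70226, 70518, 70227], [288, 1, 70224, 70520, 70225], [284, 3, 70222, 70522, 70223], [288, 1, 70220, 70524, 70221], [295, 2, 70218, 70526, 70219], [287, 0, 70216, 70528,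 70217], [283, 2, 70214, 70530, 70215], [287, 0, 70212, 70532, 70213], [295, 2, 70210, 70534, 70211], [288, 1, 70208, 70536, 70209], [284, 3, 70206, 70538, 70207], [288, 1, 70204, 70540, 70205], [296, 3, 70202, 70542, 70203], [287, 0, 70200, 70544, 70201], [283, 2, 70198, 70546, 70199], [271, 0, 70248, 70494, 70249], [267, 2, 70246, 70550, 70247], [271, 0, 70244, 70552, 70245], [280, 3, 70242, 70554, 70243], [272, 1, 70240, 70556, 70241], [268, 3, 70238, 70558, 70239], [272, 1, 70236, 70560, 70237], [280, 3, 70234, 70562, 70235], [271, 0, 70232, 70564, 70233], [267, 2, 70230, 70566, 70231], [271, 0, 70228, 70568, 70229], [279, 2, 70226, 70570, 70227], [272, 1, 70224, 70572, 70225], [268, 3, 70222, 70574, 70223], [272, 1, 70220, 70576, 70221], [279, 2, 70218, 70578, 70219], [271, 0, 70216, 70580, 70217], [267, 2, 70214, 70582, 70215], [271, 0, 70212, 70584, 70213], [279, 2, 70210, 70586, 70211], [272, 1, 70208, 70588, 70209], [268, 3, 70206, 70590, 70207], [272, 1, 70204, 70592, 70205], [280, 3, 70202, 70594, 70203], [271, 0, 70200, 70596, 70201], [267, 2, 70198,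 70598, 70199], [255, 0, 70248, 70492, 70249], [251, 2, 70246, 70602, 70247], [255, 0, 70244, 70604, 70245], [264, 3, 70242, 70606, 70243], [256, 1, 70240, 70608, 70241], [252, 3, 70238, 70610, 70239], [256, 1, 70236, 70612, 70237], [264, 3, 70234, 70614, 70235], [255, 0, 70232, 70616, 70233], [251, 2, 70230, 70618, 70231], [255, 0, 70228, 70620, 70229], [263, 2, 70226, 70622, 70227], [256, 1, 70224, 70624, 70225], [252, 3, 70222, 70626, 70223], [256, 1, 70220, 70628, 70221], [263, 2, 70218, 70630, 70219], [255, 0, 70216, 70632, 70217], [251, 2, 70214, 70634, 70215], [255, 0, 70212, 70636, 70213], [263, 2, 70210, 70638, 70211], [256, 1, 70208, 70640, 70209], [252, 3, 70206, 70642, 70207], [256, 1, 70204, 70644, 70205], [264, 3, 70202, 70646, 70203], [255, 0, 70200, 70648, 70201], [251, 2, 70198, 70650, 70199], [225, 3, 58809, 65893, 70484, 65892], [227, 5, 58813, 58809, 65893, 70484, 70484, 65892, 70654], [70, 1, 70654, 70656], [298, 3, 52246, 52629, 65881, 70462], [311, 2, 65502, 65885, 70462], [328, 1, 65502, 65887, 70462], [320, 3, 70248, 70664, 65501], [316,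 1, 65498, 70666, 70247], [321, 3, 58833, 65897, 70666], [306, 1, 70670, 59104, 65897], [299, 2, 65498, 70672, 70247], [303, 0, 70244, 70674, 65497], [301, 1, 59100, 67430, 70676], [312, 3, 65494, 70676, 70243], [302, 2, 70680, 67432, 59098], [304, 1, 70240, 70680, 65493], [300, 3, 65490, 70684, 70239], [304, 1, 70236, 70686, 65489], [312, 3, 65486, 70688, 70235], [303, 0, 70232, 70690, 65485], [299, 2, 65482, 70692, 70231], [303, 0, 70228, 70694, 65481], [311, 2, 65478, 70696, 70227], [304, 1, 70224, 70698, 65477], [300, 3, 65474, 70700, 70223], [304, 1, 70220, 70702, 65473], [311, 2, 65470, 70704, 70219], [303, 0, 70216, 70706, 65469], [299, 2, 65466, 70708, 70215], [303, 0, 70212, 70710, 65465], [311, 2, 65462, 70712, 70211], [304, 1, 70208, 70714, 65461], [300, 3, 65458, 70716, 70207], [304, 1, 70204, 70718, 65457], [305, 1, 70718, 65935, 59062], [202, 3, 67095, 67439, 70722, 70206], [218, 1, 53779, 54114, 52200, 70722], [322, 1, 65935, 59037, 70722], [315, 2, 70207, 70728, 65458], [319, 2, 70204, 70728, 65457], [317, 3, 62520, 65932, 70732], [327, 0, 65921,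 65454, 70732, 70203], [8, 0, 70200, 70736], [15, 0, 70203, 70736], [54, 1, 65453, 70738], [125, 3, 59113, 65914, 70738], [134, 0, 65452, 65928, 70738], [136, 3, 65928, 70738, 70746, 65929, 70743], [217, 3, 24800, 46258, 65911, 70738], [304, 3, 65452, 65918, 70738], [319, 0, 65452, 65920, 70738], [320, 3, 70743, 70754, 70738], [304, 3, 70739, 70753, 70742], [299, 3, 62887, 65922, 70758], [302, 0, 13670, 65924, 70758], [86, 2, 70198, 70762, 44690], [88, 4, 49981, 70751, 70762, 44690, 70764], [89, 0, 70761, 70762, 44734, 17335, 70764], [202, 3, 70198, 70762, 13647, 14310], [62, 1, 46737, 70770], [306, 3, 65898, 47005, 70770], [321, 0, 65898, 47011, 70770], [319, 0, 65461, 70730, 70208], [328, 3, 70211, 70778, 65462], [320, 1, 65465, 70780, 70212], [316, 3, 70215, 70782, 65466], [320, 1, 65469, 70784, 70216], [328, 3, 70219, 70786, 65470], [319, 0, 65473, 70788, 70220], [315, 2, 70223, 70790, 65474], [319, 0, 65477, 70792, 70224], [328, 3, 70227, 70794, 65478], [320, 1, 65481, 70796, 70228]]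
def dJ180 : List (List ℕ) := [[375, 2, 71978, 71407, 71979], [367, 0, 71976, 72000, 71977], [363, 2, 71974, 72002, 71975], [367, 0, 71972, 72004, 71973], [375, 2, 71970, 72006, 71971], [368, 1, 71968, 72008, 71969], [364, 3, 71966, 72010, 71967], [368, 1, 71964, 72012, 71965], [376, 3, 71962, 72014, 71963], [367, 0, 71960, 72016, 71961], [363, 2, 71958, 72018, 71959], [367, 0, 71956, 72020, 71957], [351, 0, 71976, 71998, 71977], [347, 2, 71974, 72024, 71975], [351, 0, 71972, 72026, 71973], [359, 2, 71970, 72028, 71971], [352, 1, 71968, 72030, 71969], [348, 3, 71966, 72032, 71967], [352, 1, 71964, 72034, 71965], [360, 3, 71962, 72036, 71963], [351, 0, 71960, 72038, 71961], [347, 2, 71958, 72040, 71959], [351, 0, 71956, 72042, 71957], [335, 0, 71976, 71996, 71977], [331, 2, 71974, 72046, 71975], [335, 0, 71972, 72048, 71973], [343, 2, 71970, 72050, 71971], [336, 1, 71968, 72052, 71969], [332, 3, 71966, 72054, 71967], [336, 1, 71964, 72056, 71965], [344, 3, 71962, 72058, 71963], [335, 0, 71960, 72060, 71961], [331, 2, 71958, 72062, 71959], [335, 0, 71956, 72064, 71957],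 [320, 3, 65958, 71994, 71977], [316, 1, 71974, 72068, 65957], [383, 2, 72068, 66086, 72069], [395, 2, 72068, 66064, 72069], [405, 2, 72068, 66042, 72069], [413, 2, 72068, 71065, 70942], [300, 1, 65956, 72078, 71975], [304, 3, 71972, 72080, 65955], [381, 0, 72080, 66088, 72081], [393, 0, 72080, 66066, 72081], [403, 0, 72080, 66044, 72081], [288, 3, 71972, 72088, 71973], [296, 1, 71970, 72090, 71971], [287, 2, 71968, 72092, 71969], [283, 0, 71966, 72094, 71967], [287, 2, 71964, 72096, 71965], [295, 0, 71962, 72098, 71963], [288, 3, 71960, 72100, 71961], [284, 1, 71958, 72102, 71959], [288, 3, 71956, 72104, 71957], [272, 3, 71972, 72086, 71973], [280, 1, 71970, 72108, 71971], [271, 2, 71968, 72110, 71969], [267, 0, 71966, 72112, 71967], [271, 2, 71964, 72114, 71965], [279, 0, 71962, 72116, 71963], [272, 3, 71960, 72118, 71961], [268, 1, 71958, 72120, 71959], [272, 3, 71956, 72122, 71957], [256, 3, 71972, 72084, 71973], [264, 1, 71970, 72126, 71971], [255, 2, 71968, 72128, 71969], [251, 0, 71966, 72130, 71967], [255, 2, 71964, 72132, 71965], [263, 0, 71962, 72134,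 71963], [256, 3, 71960, 72136, 71961], [252, 1, 71958, 72138, 71959], [256, 3, 71956, 72140, 71957], [302, 0, 60524, 69106, 72082], [312, 1, 65952, 72082, 71971], [413, 3, 71061, 71012, 72082], [328, 1, 71970, 72148, 65953], [317, 1, 60530, 69105, 72150], [319, 2, 65950, 72150, 71969], [413, 2, 72154, 71031, 71018], [299, 0, 65948, 72156, 71967], [303, 2, 71964, 72158, 65947], [306, 0, 72158, 67632, 60538], [126, 2, 52666, 72162, 71965], [305, 2, 71024, 59349, 72162], [322, 1, 71024, 59327, 72162], [315, 2, 71967, 72168, 70844], [319, 2, 71964, 72168, 70843], [327, 0, 70840, 72172, 71963], [414, 3, 71022, 71033, 72172], [414, 2, 72160, 72173, 72177], [327, 0, 71962, 72178, 65945], [320, 3, 65942, 72180, 71961], [322, 2, 60503, 67629, 72180], [414, 1, 71042, 71035, 72180], [414, 1, 72181, 72187, 72174], [304, 3, 70838, 72188, 71961], [300, 1, 71958, 72190, 70837], [305, 1, 72190, 71041, 60552], [414, 2, 72190, 71044, 71037], [414, 3, 72197, 72191, 72182], [300, 1, 65940, 72198, 71959], [304, 3, 71956, 72200, 65939], [414, 0, 72200, 71046, 71057], [414, 0, 72192,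 72205, 72201], [320, 3, 71956, 72206, 70835], [318, 0, 60560, 71050, 72208], [414, 3, 71048, 71055, 72208], [414, 2, 72202, 72209, 72213], [321, 1, 72214, 67619, 68917], [413, 2, 72170, 72157, 72155], [303, 0, 71969, 72218, 70846], [312, 3, 70849, 72220, 71970], [304, 1, 71973, 72222, 70850], [413, 3, 72083, 72149, 72222], [320, 1, 70851, 72226, 71972], [316, 3, 71975, 72228, 70852], [413, 2, 72230, 72079, 72069], [0, 0], [0, 0], [0, 0], [0, 0], [0, 0], [0, 0], [0, 0], [0, 0], [0, 0], [0, 0], [0, 0], [361, 18, 71351, 71349, 71347, 71345, 71343, 71341, 71339, 71979, 71977, 71975, 71973, 71971, 71969, 71967, 71965, 71963, 71961, 71959, 71957, 71955, 14251, 44734, 44738, 12086, 10743, 8317, 8357, 2674, 8356, 46526, 46126, 60749, 60568, 60768, 62856, 72234, 72236, 72238, 72240, 72242, 72244, 72246, 72248, 72250, 72252, 72254], [250, 1, 72256, 71569, 70468], [279, 2, 72256, 71573, 72257], [297, 1, 72256, 71576, 59960, 52859], [311, 2, 72256, 71580, 66133], [312, 1, 72256, 71578, 71089], [313, 1, 72256, 71584, 71589, 72257], [328, 1, 72256, 71586, 66133], [343, 2, 72256,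 71508, 72257], [359, 2, 72256, 71450, 72257], [375, 2, 72256, 71392, 72257], [367, 0, 72254, 72276, 72255], [363, 2, 72252, 72278, 72253], [367, 0, 72250, 72280, 72251], [376, 3, 72248, 72282, 72249], [368, 1, 72246, 72284, 72247], [364, 3, 72244, 72286, 72245], [368, 1, 72242, 72288, 72243], [351, 0, 72254, 72274, 72255], [347, 2, 72252, 72292, 72253], [351, 0, 72250, 72294, 72251], [360, 3, 72248, 72296, 72249], [352, 1, 72246, 72298, 72247], [348, 3, 72244, 72300, 72245], [352, 1, 72242, 72302, 72243], [335, 0, 72254, 72272, 72255], [331, 2, 72252, 72306, 72253], [335, 0, 72250, 72308, 72251], [344, 3, 72248, 72310, 72249], [336, 1, 72246, 72312, 72247], [332, 3, 72244, 72314, 72245], [336, 1, 72242, 72316, 72243], [320, 3, 66130, 72270, 72255], [321, 1, 72320, 66204, 60922], [383, 2, 72320, 66209, 72321], [395, 2, 72320, 66211, 72321], [405, 2, 72320, 66213, 72321], [413, 2, 72320, 71201, 71150], [300, 1, 66128, 72330, 72253], [304, 3, 72250, 72332, 66127], [381, 0, 72332, 66251, 72333], [393, 0, 72332, 66233, 72333], [403, 0, 72332, 66215, 72333], [288, 3,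 72250, 72340, 72251], [295, 0, 72248, 72342, 72249], [287, 2, 72246, 72344, 72247], [283, 0, 72244, 72346, 72245], [287, 2, 72242, 72348, 72243], [272, 3, 72250, 72338, 72251], [279, 0, 72248, 72352, 72249], [271, 2, 72246, 72354, 72247], [267, 0, 72244, 72356, 72245], [271, 2, 72242, 72358, 72243], [256, 3, 72250, 72336, 72251], [263, 0, 72248, 72362, 72249], [255, 2, 72246, 72364, 72247], [251, 0, 72244, 72366, 72245], [255, 2, 72242, 72368, 72243], [302, 0, 60850, 67822, 72334], [311, 0, 66124, 72334, 72249], [413, 3, 71205, 71230, 72334], [327, 0, 72248, 72376, 66125], [317, 1, 60844, 67825, 72378], [319, 2, 66122, 72378, 72247], [315, 0, 72244, 72382, 66121], [413, 2, 72382, 71215, 71228], [299, 0, 66120, 72386, 72245], [303, 2, 72242, 72388, 66119], [413, 3, 71219, 71234, 72390], [327, 0, 72240, 72392, 66117], [320, 3, 66114, 72394, 72239], [316, 1, 72236, 72396, 66113]]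
def dJ184 : List (List ℕ) := [[0, 0], [0, 0], [0, 0], [0, 0], [0, 0], [361, 18, 72605, 72603, 72601, 72599, 72597, 72595, 72593, 73341, 73339, 73337, 73335, 73333, 73331, 73329, 73327, 73325, 73323, 73321, 73319, 73317, 13685, 47464, 47455, 11993, 10812, 8157, 8078, 2688, 8079, 42629, 46559, 58423, 58418, 56890, 61902, 73588, 73590, 73592, 73594, 73596, 73598, 73600, 73602, 73604, 73606, 73608], [250, 1, 73610, 72606, 72819], [312, 1, 73610, 73021, 66961], [314, 3, 73610, 72851, 66762, 66961], [327, 2, 73610, 72851, 66961], [343, 2, 73610, 72750, 73611], [359, 2, 73610, 72692, 73611], [375, 2, 73610, 72634, 73611], [367, 0, 73608, 73624, 73609], [363, 2, 73606, 73626, 73607], [367, 0, 73604, 73628, 73605], [376, 3, 73602, 73630, 73603], [368, 1, 73600, 73632, 73601], [364, 3, 73598, 73634, 73599], [368, 1, 73596, 73636, 73597], [351, 0, 73608, 73622, 73609], [347, 2, 73606, 73640, 73607], [351, 0, 73604, 73642, 73605], [360, 3, 73602, 73644, 73603], [352, 1, 73600, 73646, 73601], [348, 3, 73598, 73648, 73599], [352, 1, 73596, 73650, 73597], [335, 0, 73608, 73620,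 73609], [331, 2, 73606, 73654, 73607], [335, 0, 73604, 73656, 73605], [344, 3, 73602, 73658, 73603], [336, 1, 73600, 73660, 73601], [332, 3, 73598, 73662, 73599], [336, 1, 73596, 73664, 73597], [319, 0, 66958, 73618, 73609], [322, 0, 56932, 73023, 73618], [125, 3, 73608, 73670, 51787], [201, 4, 61599, 73044, 51784, 73672], [306, 3, 73027, 57164, 73672], [300, 1, 73606, 73676, 66957], [304, 3, 66954, 73678, 73605], [381, 2, 73679, 67069, 73678], [393, 2, 73679, 67051, 73678], [403, 2, 73679, 67033, 73678], [287, 0, 73604, 73686, 73605], [296, 3, 73602, 73688, 73603], [288, 1, 73600, 73690, 73601], [284, 3, 73598, 73692, 73599], [288, 1, 73596, 73694, 73597], [296, 3, 73594, 73696, 73595], [287, 0, 73592, 73698, 73593], [271, 0, 73604, 73684, 73605], [280, 3, 73602, 73702, 73603], [272, 1, 73600, 73704, 73601], [268, 3, 73598, 73706, 73599], [272, 1, 73596, 73708, 73597], [255, 0, 73604, 73682, 73605], [264, 3, 73602, 73712, 73603], [256, 1, 73600, 73714, 73601], [252, 3, 73598, 73716, 73599], [256, 1, 73596, 73718, 73597], [311, 0, 73602, 73680, 66953], [298, 1,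 68428, 73076, 66953, 73722], [302, 2, 57158, 73067, 73722], [303, 2, 66950, 73722, 73601], [299, 0, 73598, 73728, 66949], [301, 1, 73728, 73069, 63962], [85, 3, 63672, 73732, 73599], [318, 1, 73069, 63959, 73732], [316, 3, 73598, 73736, 66949], [320, 3, 73601, 73736, 66950], [328, 1, 66953, 73740, 73602], [319, 2, 73605, 73742, 66954], [320, 1, 66946, 73738, 73597], [322, 0, 57118, 73072, 73738], [126, 2, 73596, 73748, 51775], [306, 3, 73074, 57152, 73750], [311, 0, 73594, 73752, 66945], [298, 1, 56902, 73075, 66945, 73754], [304, 3, 66942, 73754, 73593], [300, 1, 73590, 73758, 66941], [301, 1, 73758, 67087, 61917], [306, 2, 73758, 67088, 58397], [217, 1, 68419, 68565, 73764, 73592], [321, 0, 67088, 58394, 73764], [315, 2, 73590, 73768, 66941], [319, 2, 73593, 73768, 66942], [317, 3, 61827, 67085, 73770], [114, 2, 73774, 61934, 68563], [113, 2, 73757, 73766, 68569], [282, 3, 73595, 73699, 73766, 68420], [218, 1, 68423, 73780, 73596, 73748], [86, 2, 51777, 73782, 68424], [113, 1, 73784, 73057, 73732], [281, 1, 55043, 73778, 57047, 56902], [0, 0], [249, 2, 42731,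 56043, 73790], [249, 3, 73792, 56043, 73790], [266, 1, 73792, 2699, 66277, 66280], [279, 0, 73792, 2702, 73793], [282, 1, 73792, 46830, 56013, 56020], [295, 0, 73792, 2704, 73793], [297, 4, 73792, 10638, 46530, 66295], [298, 1, 73792, 8430, 36311, 12865], [311, 0, 73792, 8434, 72505], [313, 4, 73792, 2697, 66277, 72532], [314, 1, 73792, 2691, 72505, 72519], [327, 0, 73792, 2709, 66277], [343, 0, 73792, 41541, 73793], [359, 0, 73792, 40838, 73793], [375, 0, 73792, 2710, 73793], [266, 1, 72504, 2700, 73793, 73798], [93, 3, 73822, 72533, 72527], [236, 7, 73825, 72533, 73796, 73822, 72530, 58534, 59690], [321, 1, 23866, 66295, 73814], [0, 0], [281, 2, 50929, 2704, 56043, 73830], [265, 1, 73832, 50930, 50916, 66301], [282, 3, 73832, 50947, 50933, 51041], [297, 1, 73832, 50937, 28489, 36970], [298, 3, 73832, 50956, 50908, 12045], [311, 2, 73832, 50956, 66301], [312, 1, 73832, 50982, 72537], [313, 1, 73832, 50935, 50958, 66301], [314, 3, 73832, 50986, 50968, 72537], [328, 1, 73832, 50958, 66301], [323, 1, 70180, 70192, 73850], [0, 0], [0, 0], [0, 0], [0, 0], [0, 0], [0,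 0], [0, 0], [0, 0], [0, 0], [0, 0], [0, 0], [0, 0], [0, 0], [0, 0], [0, 0], [0, 0], [0, 0], [0, 0], [0, 0], [0, 0], [0, 0], [0, 0], [0, 0], [0, 0], [0, 0], [0, 0], [0, 0], [0, 0], [0, 0], [0, 0], [329, 32, 56042, 41541, 56043, 73790, 73854, 73856, 73858, 73860, 73862, 73864, 73866, 73868, 73870, 73872, 73874, 73876, 73878, 73880, 73882, 73884, 73886, 73888, 73890, 73892, 73894, 73896, 73898, 73900, 73902, 73904, 73906, 73908, 73910, 73912], [126, 2, 73914, 56055, 46106], [133, 1, 73914, 56068, 66381], [134, 2, 73914, 57235, 72613], [217, 1, 73914, 56041, 51049, 49898], [218, 3, 73914, 56055, 12023, 46642], [241, 2, 73914, 56068, 51080, 66381], [242, 2, 73914, 56059, 57235, 72613], [303, 2, 73914, 56057, 66381], [304, 1, 73914, 57218, 72613], [320, 1, 73914, 56061, 66381], [335, 2, 73914, 56063, 73915], [351, 2, 73914, 56065, 73915], [367, 2, 73914, 56067, 73915], [363, 0, 73912, 73940, 73913], [367, 2, 73910, 73942, 73911], [376, 1, 73908, 73944, 73909], [368, 3, 73906, 73946, 73907], [364, 1, 73904, 73948, 73905], [368, 3, 73902, 73950, 73903], [375, 0, 73900,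 73952, 73901], [367, 2, 73898, 73954, 73899], [363, 0, 73896, 73956, 73897], [367, 2, 73894, 73958, 73895], [375, 0, 73892, 73960, 73893], [368, 3, 73890, 73962, 73891], [364, 1, 73888, 73964, 73889], [368, 3, 73886, 73966, 73887], [376, 1, 73884, 73968, 73885], [367, 2, 73882, 73970, 73883], [363, 0, 73880, 73972, 73881], [367, 2, 73878, 73974, 73879], [376, 1, 73876, 73976, 73877], [368, 3, 73874, 73978, 73875], [364, 1, 73872, 73980, 73873], [368, 3, 73870, 73982, 73871], [376, 1, 73868, 73984, 73869], [367, 2, 73866, 73986, 73867], [363, 0, 73864, 73988, 73865], [367, 2, 73862, 73990, 73863], [375, 0, 73860, 73992, 73861], [368, 3, 73858, 73994, 73859], [364, 1, 73856, 73996, 73857]]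
def dJ188 : List (List ℕ) := [[351, 0, 75062, 75198, 75063], [359, 2, 75060, 75200, 75061], [352, 1, 75058, 75202, 75059], [335, 0, 75098, 75116, 75099], [331, 2, 75096, 75206, 75097], [335, 0, 75094, 75208, 75095], [344, 3, 75092, 75210, 75093], [336, 1, 75090, 75212, 75091], [332, 3, 75088, 75214, 75089], [336, 1, 75086, 75216, 75087], [344, 3, 75084, 75218, 75085], [335, 0, 75082, 75220, 75083], [331, 2, 75080, 75222, 75081], [335, 0, 75078, 75224, 75079], [343, 2, 75076, 75226, 75077], [336, 1, 75074, 75228, 75075], [332, 3, 75072, 75230, 75073], [336, 1, 75070, 75232, 75071], [343, 2, 75068, 75234, 75069], [335, 0, 75066, 75236, 75067], [331, 2, 75064, 75238, 75065], [335, 0, 75062, 75240, 75063], [343, 2, 75060, 75242, 75061], [336, 1, 75058, 75244, 75059], [320, 3, 67136, 75114, 75099], [318, 2, 75248, 67291, 60295], [321, 1, 75248, 67288, 64193], [383, 2, 75248, 67293, 75249], [395, 2, 75248, 67295, 75249], [405, 2, 75248, 67297, 75249], [284, 1, 75096, 75258, 75097], [288, 3, 75094, 75260, 75095], [295, 0, 75092, 75262, 75093], [287, 2, 75090, 75264, 75091],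 [283, 0, 75088, 75266, 75089], [287, 2, 75086, 75268, 75087], [295, 0, 75084, 75270, 75085], [288, 3, 75082, 75272, 75083], [284, 1, 75080, 75274, 75081], [288, 3, 75078, 75276, 75079], [296, 1, 75076, 75278, 75077], [287, 2, 75074, 75280, 75075], [283, 0, 75072, 75282, 75073], [287, 2, 75070, 75284, 75071], [296, 1, 75068, 75286, 75069], [288, 3, 75066, 75288, 75067], [284, 1, 75064, 75290, 75065], [288, 3, 75062, 75292, 75063], [296, 1, 75060, 75294, 75061], [287, 2, 75058, 75296, 75059], [268, 1, 75096, 75256, 75097], [272, 3, 75094, 75300, 75095], [279, 0, 75092, 75302, 75093], [271, 2, 75090, 75304, 75091], [267, 0, 75088, 75306, 75089], [271, 2, 75086, 75308, 75087], [279, 0, 75084, 75310, 75085], [272, 3, 75082, 75312, 75083], [268, 1, 75080, 75314, 75081], [272, 3, 75078, 75316, 75079], [280, 1, 75076, 75318, 75077], [271, 2, 75074, 75320, 75075], [267, 0, 75072, 75322, 75073], [271, 2, 75070, 75324, 75071], [280, 1, 75068, 75326, 75069], [272, 3, 75066, 75328, 75067], [268, 1, 75064, 75330, 75065], [272, 3, 75062, 75332, 75063], [280, 1, 75060, 75334,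 75061], [271, 2, 75058, 75336, 75059], [252, 1, 75096, 75254, 75097], [256, 3, 75094, 75340, 75095], [263, 0, 75092, 75342, 75093], [255, 2, 75090, 75344, 75091], [251, 0, 75088, 75346, 75089], [255, 2, 75086, 75348, 75087], [263, 0, 75084, 75350, 75085], [256, 3, 75082, 75352, 75083], [252, 1, 75080, 75354, 75081], [256, 3, 75078, 75356, 75079], [264, 1, 75076, 75358, 75077], [255, 2, 75074, 75360, 75075], [251, 0, 75072, 75362, 75073], [255, 2, 75070, 75364, 75071], [264, 1, 75068, 75366, 75069], [256, 3, 75066, 75368, 75067], [252, 1, 75064, 75370, 75065], [256, 3, 75062, 75372, 75063], [264, 1, 75060, 75374, 75061], [255, 2, 75058, 75376, 75059], [306, 1, 67288, 64200, 75252], [299, 2, 75096, 75380, 67135], [302, 0, 60296, 67425, 75382], [303, 0, 67132, 75382, 75095], [306, 0, 71940, 67427, 75382], [114, 2, 75385, 75388, 71952], [125, 3, 75094, 75388, 71347], [322, 3, 67429, 71943, 75392], [327, 0, 75092, 75394, 67131], [319, 2, 67128, 75396, 75091], [315, 0, 75088, 75398, 67127], [319, 2, 67124, 75400, 75087], [327, 0, 75084, 75402, 67123], [320, 3, 67120,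 75404, 75083], [316, 1, 75080, 75406, 67119], [320, 3, 67116, 75408, 75079], [328, 1, 75076, 75410, 67115], [319, 2, 67112, 75412, 75075], [315, 0, 75072, 75414, 67111], [319, 2, 67108, 75416, 75071], [328, 1, 75068, 75418, 67107], [320, 3, 67104, 75420, 75067], [316, 1, 75064, 75422, 67103], [320, 3, 67100, 75424, 75063], [328, 1, 75060, 75426, 67099], [319, 2, 67096, 75428, 75059], [321, 1, 70779, 70825, 75428], [126, 2, 75058, 75432, 65461], [218, 3, 75058, 75432, 70831, 58559], [306, 3, 75432, 70715, 70825], [304, 1, 67096, 75438, 75059], [311, 0, 67099, 75438, 75060], [298, 1, 65463, 75433, 75060, 75442], [303, 2, 75063, 75442, 67100], [305, 3, 75442, 75444, 71880], [125, 1, 71315, 75448, 75062], [217, 1, 59733, 71812, 75448, 75062], [85, 3, 75065, 75452, 59734], [113, 2, 75451, 75452, 70823], [302, 2, 75446, 75452, 60234], [86, 0, 58565, 75458, 67102], [301, 0, 75460, 60236, 75454], [303, 2, 75067, 75462, 67104], [311, 0, 67107, 75464, 75068], [304, 3, 75071, 75466, 67108], [300, 1, 67111, 75468, 75072], [304, 3, 75075, 75470, 67112], [311, 0, 67115, 75472,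 75076], [303, 2, 75079, 75474, 67116], [299, 0, 67119, 75476, 75080], [303, 2, 75083, 75478, 67120], [312, 1, 67123, 75480, 75084], [304, 3, 75087, 75482, 67124], [300, 1, 67127, 75484, 75088], [304, 3, 75091, 75486, 67128], [297, 3, 75488, 75092, 75393, 71345], [306, 0, 71752, 75490, 75488], [126, 2, 75090, 75492, 70241], [218, 3, 75090, 75492, 70683, 52237], [86, 0, 52234, 75496, 75089], [301, 1, 60108, 75496, 75486], [85, 3, 67126, 75500, 59759], [202, 1, 70238, 75494, 75089, 75498], [126, 2, 52232, 75504, 70237], [305, 3, 59094, 75504, 70686], [306, 2, 60111, 75504, 71764], [125, 1, 71338, 75510, 59757], [201, 1, 71341, 75510, 75502, 67126], [297, 3, 60271, 59754, 75512, 71337], [298, 3, 52680, 60113, 75512, 71979], [306, 2, 60272, 75512, 71923], [297, 1, 65960, 75520, 60272, 60325], [298, 1, 65486, 75520, 58585, 59090], [125, 3, 52228, 75524, 65485], [306, 2, 60115, 75524, 70691], [126, 0, 70232, 75528, 59753], [298, 1, 70859, 75528, 60326, 60335], [125, 3, 59162, 75532, 70855], [305, 1, 72232, 75534, 59338], [306, 0, 71065, 75534, 60416], [306, 2, 60268,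 75530, 71777], [86, 0, 53789, 75456, 71316], [201, 3, 75454, 75065, 75450, 71316], [125, 1, 71319, 75544, 59736], [217, 1, 53791, 75543, 75544, 59736], [306, 0, 71807, 75544, 60156], [126, 2, 52213, 75550, 70216], [298, 1, 70219, 75552, 52214, 60145], [306, 0, 70707, 75552, 59075], [297, 3, 59076, 58569, 75556, 65470], [306, 0, 71895, 75558, 59076], [125, 3, 58571, 75560, 71322], [306, 0, 71794, 75562, 60251], [281, 3, 60015, 59739, 75548, 53792], [218, 1, 53795, 75566, 59740, 75564], [86, 2, 70223, 75568, 53796], [300, 3, 75056, 75440, 67095], [302, 0, 59062, 67438, 75572], [303, 3, 62526, 67435, 75572], [305, 3, 64404, 67437, 75572], [322, 1, 75578, 64401, 67437], [126, 0, 53818, 75390, 59765], [297, 3, 60285, 59762, 75582, 53817], [125, 1, 53814, 75584, 58591], [0, 0], [0, 0], [0, 0], [0, 0], [0, 0], [0, 0]]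
def dJ192 : List (List ℕ) := [[367, 0, 76766, 76798, 76767], [376, 3, 76764, 76800, 76765], [368, 1, 76762, 76802, 76763], [364, 3, 76760, 76804, 76761], [368, 1, 76758, 76806, 76759], [351, 0, 76770, 76792, 76771], [347, 2, 76768, 76810, 76769], [351, 0, 76766, 76812, 76767], [360, 3, 76764, 76814, 76765], [352, 1, 76762, 76816, 76763], [348, 3, 76760, 76818, 76761], [352, 1, 76758, 76820, 76759], [335, 0, 76770, 76790, 76771], [331, 2, 76768, 76824, 76769], [335, 0, 76766, 76826, 76767], [344, 3, 76764, 76828, 76765], [336, 1, 76762, 76830, 76763], [332, 3, 76760, 76832, 76761], [336, 1, 76758, 76834, 76759], [320, 3, 69978, 76788, 76771], [322, 2, 76838, 73032, 63799], [383, 2, 76838, 70110, 76839], [395, 2, 76838, 70088, 76839], [405, 2, 76838, 70066, 76839], [284, 1, 76768, 76846, 76769], [288, 3, 76766, 76848, 76767], [295, 0, 76764, 76850, 76765], [287, 2, 76762, 76852, 76763], [283, 0, 76760, 76854, 76761], [287, 2, 76758, 76856, 76759], [268, 1, 76768, 76844, 76769], [272, 3, 76766, 76860, 76767], [279, 0, 76764, 76862, 76765], [271, 2, 76762, 76864, 76763],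 [267, 0, 76760, 76866, 76761], [271, 2, 76758, 76868, 76759], [279, 0, 76756, 76870, 76757], [272, 3, 76754, 76872, 76755], [252, 1, 76768, 76842, 76769], [256, 3, 76766, 76876, 76767], [263, 0, 76764, 76878, 76765], [255, 2, 76762, 76880, 76763], [251, 0, 76760, 76882, 76761], [255, 2, 76758, 76884, 76759], [305, 0, 73032, 63808, 76840], [299, 2, 76768, 76888, 69977], [303, 0, 69974, 76890, 76767], [312, 3, 76764, 76892, 69973], [304, 1, 69970, 76894, 76763], [300, 3, 76760, 76896, 69969], [304, 1, 69966, 76898, 76759], [312, 3, 76756, 76900, 69965], [303, 0, 69962, 76902, 76755], [299, 2, 76752, 76904, 69961], [303, 0, 70159, 69958, 76906, 76751], [7, 0, 76751, 76908], [10, 0, 76748, 76908, 61905], [6, 0, 76746, 76913, 61575], [6, 0, 76744, 76915, 61889], [15, 0, 76742, 76917], [306, 0, 75022, 75052, 76906], [61, 2, 76920, 73777], [113, 0, 76920, 73774, 61936], [321, 0, 76920, 75039, 75052], [316, 3, 69961, 76926, 76752], [320, 1, 76755, 76928, 69962], [327, 2, 69965, 76930, 76756], [319, 0, 76759, 76932, 69966], [315, 2, 69969, 76934, 76760], [319, 0, 76763,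 76936, 69970], [327, 2, 69973, 76938, 76764], [85, 3, 55039, 76924, 76752], [201, 3, 76942, 55039, 61937, 61582], [217, 1, 76755, 76942, 68567, 68418], [45, 1, 73766, 76946], [282, 3, 68421, 68523, 76946, 76756], [46, 2, 76950, 73780], [218, 0, 73735, 73597, 76952, 76758], [301, 1, 75006, 76952, 76900], [217, 4, 69967, 76956, 74824, 74989], [281, 3, 70080, 69964, 76956, 74823], [218, 0, 75024, 74820, 76960, 69963], [126, 2, 69963, 76962, 63666], [297, 1, 63669, 76964, 76902, 76756], [306, 0, 63949, 76964, 76902], [113, 2, 68568, 76946, 76968], [114, 1, 73757, 76949, 76968], [282, 3, 61587, 61741, 76972, 56902], [301, 3, 61918, 76972, 58389], [281, 1, 58167, 76976, 53702, 53572], [114, 0, 76978, 74995, 76957], [301, 3, 63921, 76978, 58461], [46, 1, 73789, 76974], [282, 3, 61572, 61753, 61889, 76918], [297, 1, 51974, 51764, 57145, 76918], [298, 3, 61911, 61913, 58497, 76918], [327, 2, 70151, 57129, 76918], [315, 1, 76992, 70145, 57793], [316, 2, 76992, 70143, 56627], [319, 1, 76992, 70134, 73934], [134, 2, 70134, 73918, 76998], [241, 2, 70134, 72616, 73928, 76998],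 [314, 1, 76918, 77002, 70151, 57129], [309, 3, 61893, 77004, 61892], [310, 2, 57145, 77004, 57144], [0, 0], [0, 0], [0, 0], [0, 0], [0, 0], [0, 0], [0, 0], [0, 0], [0, 0], [0, 0], [0, 0], [0, 0], [0, 0], [0, 0], [0, 0], [0, 0], [0, 0], [0, 0], [0, 0], [0, 0], [0, 0], [0, 0], [0, 0], [329, 29, 45484, 46618, 46586, 38037, 41517, 38036, 46234, 46745, 24843, 23793, 64498, 77010, 77012, 77014, 77016, 77018, 77020, 77022, 77024, 77026, 77028, 77030, 77032, 77034, 77036, 77038, 77040, 77042, 77044, 77046, 77048, 77050, 77052, 77054], [263, 2, 77056, 42275, 77057], [279, 2, 77056, 18744, 77057], [282, 3, 77056, 18746, 65878, 70462], [295, 2, 77056, 18746, 77057], [297, 1, 77056, 45507, 12128, 61987], [311, 2, 77056, 45488, 75101], [312, 1, 77056, 45490, 67139], [327, 2, 77056, 45492, 67139], [328, 1, 77056, 45494, 75101], [343, 2, 77056, 41717, 77057], [359, 2, 77056, 41009, 77057], [375, 2, 77056, 18740, 77057], [367, 0, 77054, 77080, 77055], [363, 2, 77052, 77082, 77053], [367, 0, 77050, 77084, 77051], [376, 3, 77048, 77086, 77049], [368, 1, 77046, 77088, 77047], [364,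 3, 77044, 77090, 77045], [368, 1, 77042, 77092, 77043], [376, 3, 77040, 77094, 77041], [367, 0, 77038, 77096, 77039], [363, 2, 77036, 77098, 77037], [367, 0, 77034, 77100, 77035], [375, 2, 77032, 77102, 77033], [368, 1, 77030, 77104, 77031], [364, 3, 77028, 77106, 77029], [368, 1, 77026, 77108, 77027], [375, 2, 77024, 77110, 77025], [367, 0, 77022, 77112, 77023], [363, 2, 77020, 77114, 77021], [367, 0, 77018, 77116, 77019], [375, 2, 77016, 77118, 77017], [368, 1, 77014, 77120, 77015], [364, 3, 77012, 77122, 77013], [351, 0, 77054, 77078, 77055], [347, 2, 77052, 77126, 77053], [351, 0, 77050, 77128, 77051], [360, 3, 77048, 77130, 77049], [352, 1, 77046, 77132, 77047], [348, 3, 77044, 77134, 77045], [352, 1, 77042, 77136, 77043], [360, 3, 77040, 77138, 77041], [351, 0, 77038, 77140, 77039], [347, 2, 77036, 77142, 77037], [351, 0, 77034, 77144, 77035], [359, 2, 77032, 77146, 77033], [352, 1, 77030, 77148, 77031], [348, 3, 77028, 77150, 77029], [352, 1, 77026, 77152, 77027], [359, 2, 77024, 77154, 77025], [351, 0, 77022, 77156, 77023], [347, 2, 77020, 77158, 77021],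 [351, 0, 77018, 77160, 77019], [359, 2, 77016, 77162, 77017], [352, 1, 77014, 77164, 77015], [348, 3, 77012, 77166, 77013], [335, 0, 77054, 77076, 77055], [331, 2, 77052, 77170, 77053], [335, 0, 77050, 77172, 77051], [344, 3, 77048, 77174, 77049], [336, 1, 77046, 77176, 77047], [332, 3, 77044, 77178, 77045], [336, 1, 77042, 77180, 77043], [344, 3, 77040, 77182, 77041], [335, 0, 77038, 77184, 77039], [331, 2, 77036, 77186, 77037], [335, 0, 77034, 77188, 77035], [343, 2, 77032, 77190, 77033], [336, 1, 77030, 77192, 77031], [332, 3, 77028, 77194, 77029], [336, 1, 77026, 77196, 77027]]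
def dJ196 : List (List ℕ) := [[271, 2, 78156, 78398, 78157], [267, 0, 78154, 78400, 78155], [271, 2, 78152, 78402, 78153], [279, 0, 78150, 78404, 78151], [272, 3, 78148, 78406, 78149], [268, 1, 78146, 78408, 78147], [272, 3, 78144, 78410, 78145], [280, 1, 78142, 78412, 78143], [271, 2, 78140, 78414, 78141], [267, 0, 78138, 78416, 78139], [271, 2, 78136, 78418, 78137], [280, 1, 78134, 78420, 78135], [272, 3, 78132, 78422, 78133], [268, 1, 78130, 78424, 78131], [272, 3, 78128, 78426, 78129], [280, 1, 78126, 78428, 78127], [271, 2, 78124, 78430, 78125], [267, 0, 78122, 78432, 78123], [271, 2, 78120, 78434, 78121], [256, 3, 78160, 78348, 78161], [263, 0, 78158, 78438, 78159], [255, 2, 78156, 78440, 78157], [251, 0, 78154, 78442, 78155], [255, 2, 78152, 78444, 78153], [263, 0, 78150, 78446, 78151], [256, 3, 78148, 78448, 78149], [252, 1, 78146, 78450, 78147], [256, 3, 78144, 78452, 78145], [264, 1, 78142, 78454, 78143], [255, 2, 78140, 78456, 78141], [251, 0, 78138, 78458, 78139], [255, 2, 78136, 78460, 78137], [264, 1, 78134, 78462, 78135], [256, 3, 78132, 78464, 78133],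 [252, 1, 78130, 78466, 78131], [256, 3, 78128, 78468, 78129], [264, 1, 78126, 78470, 78127], [255, 2, 78124, 78472, 78125], [251, 0, 78122, 78474, 78123], [255, 2, 78120, 78476, 78121], [306, 3, 69835, 73080, 78346], [321, 0, 69835, 73088, 78346], [316, 3, 78163, 78482, 69474], [320, 3, 78160, 78482, 69473], [317, 3, 63493, 69836, 78486], [327, 0, 69470, 78486, 78159], [414, 3, 76415, 76406, 78486], [414, 2, 78344, 78487, 78493], [327, 0, 78158, 78494, 76117], [318, 2, 61276, 76419, 78496], [319, 2, 76114, 78496, 78157], [321, 1, 73092, 76423, 78496], [414, 1, 76417, 76413, 78496], [414, 1, 78497, 78505, 78490], [303, 2, 69468, 78506, 78157], [299, 0, 78154, 78508, 69467], [414, 2, 78508, 76421, 76540], [414, 3, 78513, 78509, 78500], [299, 0, 76112, 78514, 78155], [303, 2, 78152, 78516, 76111], [305, 3, 78516, 76435, 61353], [414, 0, 78516, 76553, 76542], [414, 0, 78510, 78523, 78517], [319, 2, 78152, 78524, 69465], [318, 0, 74339, 76551, 78526], [322, 0, 63477, 76549, 78526], [327, 0, 69462, 78526, 78151], [414, 3, 76555, 76544, 78526], [414, 2, 78518, 78527,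 78535], [327, 0, 78150, 78536, 76109], [317, 1, 73134, 76442, 78538], [320, 3, 76106, 78538, 78149], [321, 1, 63475, 76464, 78538], [414, 1, 76557, 76566, 78538], [414, 1, 78539, 78547, 78532], [304, 3, 69460, 78548, 78149], [300, 1, 78146, 78550, 69459], [306, 2, 78550, 76564, 63352], [414, 2, 78550, 76561, 76568], [414, 3, 78557, 78551, 78542], [300, 1, 76104, 78558, 78147], [304, 3, 78144, 78560, 76103], [414, 0, 78560, 76625, 76570], [414, 0, 78552, 78565, 78561], [320, 3, 78144, 78566, 69457], [328, 1, 69454, 78568, 78143], [414, 3, 76623, 76572, 78568], [414, 2, 78562, 78569, 78573], [328, 1, 78142, 78574, 76101], [319, 2, 76098, 78576, 78141], [414, 1, 76621, 76574, 78576], [414, 1, 78577, 78581, 78570], [303, 2, 69452, 78582, 78141], [299, 0, 78138, 78584, 69451], [414, 2, 78584, 76619, 76576], [414, 3, 78589, 78585, 78578], [299, 0, 76096, 78590, 78139], [303, 2, 78136, 78592, 76095], [414, 0, 78592, 76617, 76578], [414, 0, 78586, 78597, 78593], [319, 2, 78136, 78598, 69449], [328, 1, 69446, 78600, 78135], [414, 3, 76615, 76580, 78600], [414, 2, 78594,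 78601, 78605], [328, 1, 78134, 78606, 76093], [320, 3, 76090, 78608, 78133], [414, 1, 76613, 76582, 78608], [414, 1, 78609, 78613, 78602], [304, 3, 69444, 78614, 78133], [300, 1, 78130, 78616, 69443], [414, 2, 78616, 76611, 76584], [414, 3, 78621, 78617, 78610], [300, 1, 76088, 78622, 78131], [304, 3, 78128, 78624, 76087], [414, 0, 78624, 76609, 76586], [414, 0, 78618, 78629, 78625], [320, 3, 78128, 78630, 69441], [328, 1, 69438, 78632, 78127], [414, 3, 76607, 76588, 78632], [414, 2, 78626, 78633, 78637], [328, 1, 78126, 78638, 76085], [319, 2, 76082, 78640, 78125], [414, 1, 76605, 76590, 78640], [414, 1, 78641, 78645, 78634], [303, 2, 69436, 78646, 78125], [299, 0, 78122, 78648, 69435], [414, 2, 78648, 76603, 76592], [414, 3, 78653, 78649, 78642], [299, 0, 76080, 78654, 78123], [303, 2, 78120, 78656, 76079], [305, 3, 78656, 76596, 61321], [414, 0, 78656, 76601, 76594], [414, 0, 78650, 78663, 78657], [319, 2, 78120, 78664, 69433], [318, 0, 74500, 73175, 78666], [321, 3, 74797, 73513, 78666], [322, 0, 63415, 69845, 78666], [414, 3, 69848, 69847, 78666], [414, 2,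 78658, 78667, 78675], [317, 1, 78676, 68390, 68225], [217, 3, 68226, 67849, 78678, 78120], [85, 1, 78123, 78680, 54510], [113, 1, 74467, 74527, 78682], [217, 3, 74530, 54513, 78682, 78124], [113, 1, 78686, 74530, 74533], [114, 2, 78686, 73233, 74455], [301, 1, 78645, 78686, 61324], [302, 0, 78646, 78686, 63425], [113, 1, 73239, 73237, 78694], [281, 3, 63238, 62921, 78694, 69438], [113, 1, 78698, 74557, 74541], [114, 2, 78698, 73244, 73257], [217, 1, 69441, 78698, 74557, 54516], [302, 0, 76588, 78698, 63387], [113, 1, 74444, 73235, 78706], [305, 3, 78627, 78708, 74437], [125, 1, 72569, 78710, 78128], [305, 3, 78618, 78712, 73259], [62, 1, 74542, 78714], [85, 3, 54519, 78704, 69442], [201, 3, 78718, 54519, 74561, 62924], [217, 1, 69445, 78718, 74563, 67860], [281, 3, 68087, 67863, 78722, 69446], [46, 2, 78724, 74550], [218, 0, 76508, 66345, 78726, 69448], [301, 1, 73264, 78726, 78605], [302, 0, 74410, 78726, 76581], [217, 4, 76095, 78732, 73878, 76504], [282, 3, 76092, 76309, 78732, 73877], [302, 0, 74421, 78736, 78613], [217, 4, 78132, 78738, 72573, 73297], [125,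 1, 53061, 78740, 78132], [306, 2, 78613, 78742, 61332], [113, 2, 78744, 78737, 74418], [298, 1, 60943, 78744, 76092, 76580], [114, 1, 73311, 78726, 78748], [306, 2, 78604, 78748, 63372], [113, 2, 78752, 78730, 73307], [46, 1, 74568, 78754], [281, 1, 57260, 78754, 63230, 62929], [301, 1, 57828, 78754, 63441], [45, 2, 78758, 74566], [297, 1, 66334, 78702, 76589, 76085], [126, 2, 76082, 78764, 66333], [305, 1, 73170, 78766, 76592], [413, 2, 78484, 78341, 78331], [0, 0], [0, 0], [0, 0], [0, 0], [0, 0], [0, 0], [0, 0], [0, 0], [0, 0], [0, 0], [0, 0], [345, 19, 78152, 78154, 78156, 78157, 78155, 78153, 78151, 78149, 78147, 78145, 78144, 78146, 78148, 78150, 78152, 78154, 78156, 78158, 78160, 78162, 78164, 78166, 49490, 50554, 50547, 36743, 36745, 2823, 2700, 8184, 12034, 46108, 46571, 14274, 62912, 78772, 78774, 78776, 78778, 78780, 78782, 78784, 78786, 78788, 78790, 78792], [250, 1, 78794, 78151, 78448], [263, 2, 78794, 78447, 78795]]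
def dJ200 : List (List ℕ) := [[302, 2, 77394, 79998, 70688], [46, 1, 79866, 80000], [281, 1, 70856, 80000, 75270, 75611], [282, 1, 70234, 80000, 75085, 75272], [114, 0, 80006, 75528, 79972], [125, 3, 55300, 80008, 75083], [306, 0, 77423, 80010, 64360], [45, 2, 80004, 79870], [282, 3, 68944, 68951, 80014, 75613], [46, 1, 80007, 80016], [113, 1, 79960, 79859, 79680], [114, 2, 79960, 79860, 75497], [218, 1, 64019, 79960, 68608, 79855], [113, 1, 70682, 75493, 80024], [282, 3, 75093, 75264, 80024, 64020], [302, 2, 75488, 80024, 64338], [114, 2, 80030, 75491, 71759], [281, 1, 55311, 80030, 67303, 67130], [113, 1, 67430, 67428, 80034], [114, 2, 79851, 79846, 80034], [302, 2, 77368, 80034, 62307], [114, 2, 80040, 77356, 70678], [305, 1, 59982, 80042, 64485], [61, 2, 80044, 75582], [126, 2, 64023, 80044, 59764], [128, 4, 53819, 80046, 80044, 59764, 80048], [297, 3, 62309, 55310, 80036, 58593], [62, 1, 75584, 80052], [125, 1, 58590, 80052, 61977], [127, 1, 80056, 58590, 80052, 80054, 53815], [305, 3, 62311, 80056, 60282], [297, 1, 59156, 79924, 62542, 55635], [126, 2, 55632,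 80062, 59155], [305, 1, 59347, 80064, 62539], [0, 0], [0, 0], [0, 0], [0, 0], [0, 0], [0, 0], [0, 0], [0, 0], [0, 0], [0, 0], [0, 0], [345, 19, 79374, 79376, 79378, 79379, 79377, 79375, 79373, 79371, 79369, 79367, 79366, 79368, 79370, 79372, 79374, 79376, 79378, 79380, 79382, 79384, 79386, 79388, 65111, 49684, 49718, 36847, 37323, 4463, 32888, 8276, 47153, 47182, 26169, 46259, 63980, 80068, 80070, 80072, 80074, 80076, 80078, 80080, 80082, 80084, 80086, 80088], [250, 1, 80090, 79373, 79633], [263, 2, 80090, 79630, 80091], [279, 2, 80090, 79592, 80091], [281, 1, 80090, 79695, 52464, 52681], [282, 3, 80090, 79554, 79955, 64523], [295, 2, 80090, 79554, 80091], [312, 1, 80090, 79692, 54141], [327, 2, 80090, 79714, 54141], [343, 2, 80090, 79504, 80091], [359, 2, 80090, 79464, 80091], [375, 2, 80090, 79424, 80091], [367, 0, 80088, 80112, 80089], [363, 2, 80086, 80114, 80087], [367, 0, 80084, 80116, 80085], [375, 2, 80082, 80118, 80083], [368, 1, 80080, 80120, 80081], [364, 3, 80078, 80122, 80079], [368, 1, 80076, 80124, 80077], [376, 3, 80074, 80126, 80075], [367, 0,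 80072, 80128, 80073], [363, 2, 80070, 80130, 80071], [351, 0, 80088, 80110, 80089], [347, 2, 80086, 80134, 80087], [351, 0, 80084, 80136, 80085], [359, 2, 80082, 80138, 80083], [352, 1, 80080, 80140, 80081], [348, 3, 80078, 80142, 80079], [352, 1, 80076, 80144, 80077], [360, 3, 80074, 80146, 80075], [351, 0, 80072, 80148, 80073], [347, 2, 80070, 80150, 80071], [335, 0, 80088, 80108, 80089], [331, 2, 80086, 80154, 80087], [335, 0, 80084, 80156, 80085], [343, 2, 80082, 80158, 80083], [336, 1, 80080, 80160, 80081], [332, 3, 80078, 80162, 80079], [336, 1, 80076, 80164, 80077], [344, 3, 80074, 80166, 80075], [335, 0, 80072, 80168, 80073], [331, 2, 80070, 80170, 80071], [319, 0, 54138, 80106, 80089], [318, 0, 80174, 75842, 72230], [383, 0, 80174, 54267, 80175], [395, 0, 80174, 54245, 80175], [405, 0, 80174, 54223, 80175], [283, 2, 80086, 80182, 80087], [287, 0, 80084, 80184, 80085], [295, 2, 80082, 80186, 80083], [288, 1, 80080, 80188, 80081], [284, 3, 80078, 80190, 80079], [288, 1, 80076, 80192, 80077], [296, 3, 80074, 80194, 80075], [287, 0, 80072, 80196, 80073], [283,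 2, 80070, 80198, 80071], [267, 2, 80086, 80180, 80087], [271, 0, 80084, 80202, 80085], [279, 2, 80082, 80204, 80083], [272, 1, 80080, 80206, 80081], [268, 3, 80078, 80208, 80079], [272, 1, 80076, 80210, 80077], [280, 3, 80074, 80212, 80075], [271, 0, 80072, 80214, 80073], [267, 2, 80070, 80216, 80071], [251, 2, 80086, 80178, 80087], [255, 0, 80084, 80220, 80085], [263, 2, 80082, 80222, 80083], [256, 1, 80080, 80224, 80081], [252, 3, 80078, 80226, 80079], [256, 1, 80076, 80228, 80077], [264, 3, 80074, 80230, 80075], [255, 0, 80072, 80232, 80073], [251, 2, 80070, 80234, 80071], [86, 2, 71974, 80176, 80087], [301, 2, 75842, 72233, 80176], [300, 1, 80086, 80240, 54137], [304, 3, 54134, 80242, 80085], [305, 1, 64721, 79938, 80242], [306, 2, 59340, 75839, 80242], [126, 0, 80084, 80248, 52675], [128, 1, 64516, 80247, 80248, 52675, 80250], [322, 3, 80252, 64723, 79923], [328, 1, 54132, 80254, 80083], [319, 2, 80080, 80256, 54131], [322, 0, 80256, 75834, 60487], [305, 2, 75834, 60482, 80260], [304, 1, 80080, 80262, 54131], [300, 3, 54128, 80264, 80079], [302, 2, 71030,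 75831, 80264], [86, 0, 80078, 80268, 70845], [218, 3, 59150, 71025, 80270, 80077], [318, 1, 75829, 71020, 80270], [319, 2, 80076, 80274, 54127], [327, 0, 54124, 80276, 80075], [318, 0, 80278, 75821, 60503], [320, 3, 80072, 80278, 54123], [316, 1, 54120, 80282, 80071], [317, 3, 72183, 75819, 80282], [85, 1, 80070, 80286, 65941], [201, 3, 80286, 65941, 69066, 68922], [302, 1, 80286, 72198, 75819], [299, 2, 54120, 80292, 80071], [303, 2, 54123, 80292, 80072], [297, 3, 80296, 54124, 79900, 68927], [312, 1, 80075, 80296, 54124], [304, 2, 80294, 62347, 64424], [305, 1, 80294, 60562, 60510], [306, 2, 80294, 64679, 64672], [0, 0], [0, 0], [0, 0], [0, 0], [0, 0], [0, 0], [0, 0], [0, 0], [0, 0], [0, 0], [0, 0], [361, 18, 79387, 79385, 79383, 79381, 79379, 79377, 79375, 80091, 80089, 80087, 80085, 80083, 80081, 80079, 80077, 80075, 80073, 80071, 80069, 63981, 46258, 26168, 47183, 47152, 8277, 32889, 4462, 4474, 4463, 32892, 37012, 69415, 69380, 69397, 65016, 80308, 80310, 80312, 80314, 80316, 80318, 80320, 80322, 80324, 80326, 80328], [250, 1, 80330, 79388, 65117], [281,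 1, 80330, 79395, 58838, 59395], [282, 3, 80330, 79399, 79397, 55799], [312, 1, 80330, 79403, 54319], [327, 2, 80330, 79405, 54319], [343, 2, 80330, 79407, 80331], [359, 2, 80330, 79409, 80331], [375, 2, 80330, 79411, 80331], [367, 0, 80328, 80346, 80329], [363, 2, 80326, 80348, 80327], [367, 0, 80324, 80350, 80325], [376, 3, 80322, 80352, 80323], [368, 1, 80320, 80354, 80321], [364, 3, 80318, 80356, 80319], [368, 1, 80316, 80358, 80317], [376, 3, 80314, 80360, 80315], [367, 0, 80312, 80362, 80313], [351, 0, 80328, 80344, 80329], [347, 2, 80326, 80366, 80327], [351, 0, 80324, 80368, 80325], [360, 3, 80322, 80370, 80323], [352, 1, 80320, 80372, 80321], [348, 3, 80318, 80374, 80319], [352, 1, 80316, 80376, 80317], [360, 3, 80314, 80378, 80315], [351, 0, 80312, 80380, 80313], [335, 0, 80328, 80342, 80329], [331, 2, 80326, 80384, 80327], [335, 0, 80324, 80386, 80325], [344, 3, 80322, 80388, 80323], [336, 1, 80320, 80390, 80321], [332, 3, 80318, 80392, 80319], [336, 1, 80316, 80394, 80317], [344, 3, 80314, 80396, 80315]]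
def dJ204 : List (List ℕ) := [[0, 0], [0, 0], [0, 0], [0, 0], [0, 0], [0, 0], [0, 0], [0, 0], [0, 0], [329, 29, 49429, 49382, 49284, 36837, 36917, 36836, 42608, 37404, 46728, 13648, 68918, 81572, 81574, 81576, 81578, 81580, 81582, 81584, 81586, 81588, 81590, 81592, 81594, 81596, 81598, 81600, 81602, 81604, 81606, 81608, 81610, 81612, 81614, 81616], [263, 2, 81618, 49435, 81619], [279, 2, 81618, 49437, 81619], [281, 1, 81618, 52633, 52448, 52247], [282, 3, 81618, 49439, 49425, 61987], [295, 2, 81618, 49439, 81619], [311, 2, 81618, 49464, 53825], [312, 1, 81618, 65122, 79389], [327, 2, 81618, 65128, 79389], [328, 1, 81618, 49466, 53825], [343, 2, 81618, 49441, 81619], [359, 2, 81618, 49443, 81619], [375, 2, 81618, 49445, 81619], [367, 0, 81616, 81642, 81617], [363, 2, 81614, 81644, 81615], [367, 0, 81612, 81646, 81613], [376, 3, 81610, 81648, 81611], [368, 1, 81608, 81650, 81609], [364, 3, 81606, 81652, 81607], [368, 1, 81604, 81654, 81605], [376, 3, 81602, 81656, 81603], [367, 0, 81600, 81658, 81601], [363, 2, 81598, 81660, 81599], [367, 0, 81596, 81662, 81597],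 [375, 2, 81594, 81664, 81595], [368, 1, 81592, 81666, 81593], [364, 3, 81590, 81668, 81591], [368, 1, 81588, 81670, 81589], [375, 2, 81586, 81672, 81587], [367, 0, 81584, 81674, 81585], [363, 2, 81582, 81676, 81583], [367, 0, 81580, 81678, 81581], [375, 2, 81578, 81680, 81579], [351, 0, 81616, 81640, 81617], [347, 2, 81614, 81684, 81615], [351, 0, 81612, 81686, 81613], [360, 3, 81610, 81688, 81611], [352, 1, 81608, 81690, 81609], [348, 3, 81606, 81692, 81607], [352, 1, 81604, 81694, 81605], [360, 3, 81602, 81696, 81603], [351, 0, 81600, 81698, 81601], [347, 2, 81598, 81700, 81599], [351, 0, 81596, 81702, 81597], [359, 2, 81594, 81704, 81595], [352, 1, 81592, 81706, 81593], [348, 3, 81590, 81708, 81591], [352, 1, 81588, 81710, 81589], [359, 2, 81586, 81712, 81587], [351, 0, 81584, 81714, 81585], [347, 2, 81582, 81716, 81583], [351, 0, 81580, 81718, 81581], [359, 2, 81578, 81720, 81579], [335, 0, 81616, 81638, 81617], [331, 2, 81614, 81724, 81615], [335, 0, 81612, 81726, 81613], [344, 3, 81610, 81728, 81611], [336, 1, 81608, 81730, 81609], [332, 3, 81606, 81732,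 81607], [336, 1, 81604, 81734, 81605], [344, 3, 81602, 81736, 81603], [335, 0, 81600, 81738, 81601], [331, 2, 81598, 81740, 81599], [335, 0, 81596, 81742, 81597], [343, 2, 81594, 81744, 81595], [336, 1, 81592, 81746, 81593], [332, 3, 81590, 81748, 81591], [336, 1, 81588, 81750, 81589], [343, 2, 81586, 81752, 81587], [335, 0, 81584, 81754, 81585], [331, 2, 81582, 81756, 81583], [335, 0, 81580, 81758, 81581], [343, 2, 81578, 81760, 81579], [320, 3, 53822, 81636, 81617], [413, 2, 81764, 79661, 79532], [300, 1, 53820, 81766, 81615], [302, 0, 81768, 71953, 71597], [304, 3, 81612, 81768, 53819], [305, 3, 81768, 80051, 64495], [306, 0, 81768, 75390, 59981], [381, 0, 81768, 54070, 81769], [393, 0, 81768, 54024, 81769], [403, 0, 81768, 53978, 81769], [288, 3, 81612, 81782, 81613], [295, 0, 81610, 81784, 81611], [287, 2, 81608, 81786, 81609], [283, 0, 81606, 81788, 81607], [287, 2, 81604, 81790, 81605], [295, 0, 81602, 81792, 81603], [288, 3, 81600, 81794, 81601], [284, 1, 81598, 81796, 81599], [288, 3, 81596, 81798, 81597], [296, 1, 81594, 81800, 81595], [287, 2, 81592,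 81802, 81593], [283, 0, 81590, 81804, 81591], [287, 2, 81588, 81806, 81589], [296, 1, 81586, 81808, 81587], [288, 3, 81584, 81810, 81585], [284, 1, 81582, 81812, 81583], [288, 3, 81580, 81814, 81581], [296, 1, 81578, 81816, 81579], [272, 3, 81612, 81780, 81613], [279, 0, 81610, 81820, 81611], [271, 2, 81608, 81822, 81609], [267, 0, 81606, 81824, 81607], [271, 2, 81604, 81826, 81605], [279, 0, 81602, 81828, 81603], [272, 3, 81600, 81830, 81601], [268, 1, 81598, 81832, 81599], [272, 3, 81596, 81834, 81597], [280, 1, 81594, 81836, 81595], [271, 2, 81592, 81838, 81593], [267, 0, 81590, 81840, 81591], [271, 2, 81588, 81842, 81589], [280, 1, 81586, 81844, 81587], [272, 3, 81584, 81846, 81585], [268, 1, 81582, 81848, 81583], [272, 3, 81580, 81850, 81581], [280, 1, 81578, 81852, 81579], [256, 3, 81612, 81778, 81613], [263, 0, 81610, 81856, 81611], [255, 2, 81608, 81858, 81609], [251, 0, 81606, 81860, 81607], [255, 2, 81604, 81862, 81605], [263, 0, 81602, 81864, 81603], [256, 3, 81600, 81866, 81601], [252, 1, 81598, 81868, 81599], [256, 3, 81596, 81870, 81597], [264, 1,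 81594, 81872, 81595], [255, 2, 81592, 81874, 81593], [251, 0, 81590, 81876, 81591], [255, 2, 81588, 81878, 81589], [264, 1, 81586, 81880, 81587], [256, 3, 81584, 81882, 81585], [252, 1, 81582, 81884, 81583], [256, 3, 81580, 81886, 81581], [264, 1, 81578, 81888, 81579], [125, 3, 52240, 81776, 81613], [127, 4, 81892, 52240, 81776, 81775, 61981], [305, 2, 79666, 59102, 81776], [322, 1, 79666, 58997, 81776], [316, 3, 81615, 81898, 79384], [320, 3, 81612, 81898, 79383], [327, 0, 79380, 81902, 81611], [414, 3, 79672, 79665, 81902], [414, 2, 81772, 81903, 81907], [327, 0, 81610, 81908, 53817], [319, 2, 53814, 81910, 81609], [321, 1, 62264, 80054, 81910], [414, 1, 79674, 79689, 81910], [414, 1, 81911, 81917, 81904], [303, 2, 79378, 81918, 81609], [299, 0, 81606, 81920, 79377], [301, 1, 81920, 79681, 71763], [305, 1, 81920, 79683, 60109], [306, 2, 81920, 80020, 64349], [414, 2, 81920, 79676, 79685], [414, 3, 81931, 81921, 81912], [299, 0, 53812, 81932, 81607], [302, 0, 81934, 75855, 71925], [303, 2, 81604, 81934, 53811], [414, 0, 81934, 79678, 79687], [414, 0, 81922, 81941,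 81935], [319, 2, 81604, 81942, 79375], [317, 3, 60117, 79694, 81944], [318, 0, 64355, 79954, 81944], [327, 0, 79372, 81944, 81603], [414, 3, 79714, 79693, 81944], [414, 2, 81938, 81945, 81953], [327, 0, 81602, 81954, 53809], [317, 1, 62272, 79950, 81956], [318, 2, 60275, 75849, 81956], [320, 3, 53806, 81956, 81601], [414, 1, 79712, 79697, 81956], [414, 1, 81957, 81965, 81950], [298, 1, 68602, 79865, 79373, 81966], [304, 3, 79370, 81966, 81601], [300, 1, 81598, 81970, 79369], [301, 1, 81970, 79705, 70692], [414, 2, 81970, 79708, 79701], [414, 3, 81977, 81971, 81962], [300, 1, 53804, 81978, 81599], [302, 0, 81980, 75852, 71779], [304, 3, 81596, 81980, 53803], [414, 0, 81980, 79710, 79703], [414, 0, 81972, 81987, 81981], [320, 3, 81596, 81988, 79367], [321, 3, 60133, 79720, 81990], [328, 1, 79364, 81990, 81595], [414, 3, 79716, 79725, 81990], [414, 2, 81984, 81991, 81997]]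
def dJ208 : List (List ℕ) := [[62, 2, 83198, 76492], [125, 1, 82807, 83198, 57270], [127, 2, 53073, 83200, 83198, 57270, 83202], [306, 0, 83061, 83198, 57712], [61, 1, 76488, 83206], [126, 2, 51155, 83206, 80560], [128, 3, 83210, 51155, 83206, 83208, 62938], [202, 0, 78555, 62941, 83212, 80562], [306, 0, 63355, 83212, 80818], [61, 2, 83216, 76482], [125, 3, 54532, 83216, 60953], [201, 4, 54535, 83216, 60954, 76565], [85, 1, 69458, 83222, 54535], [302, 0, 76568, 83222, 83046], [86, 2, 82808, 83226, 76105], [218, 0, 83226, 76106, 76440, 67877], [126, 2, 67877, 83230, 82810], [113, 1, 83228, 83203, 73290], [114, 2, 83228, 83204, 76473], [218, 1, 76102, 83228, 82807, 83201], [302, 0, 78560, 83228, 83043], [217, 3, 83209, 80560, 83240, 78145], [281, 1, 78142, 83242, 63222, 62937], [302, 0, 78573, 83242, 63357], [113, 1, 76522, 76484, 83246], [282, 3, 60950, 61160, 83246, 69455], [113, 1, 83250, 83195, 83196], [302, 0, 76575, 83250, 61341], [113, 1, 76521, 76500, 83254], [305, 3, 78580, 83256, 74384], [125, 1, 72580, 83258, 78141], [298, 1, 72583, 83258, 78142, 78563],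 [61, 2, 83262, 76535], [113, 0, 83260, 76515, 83183], [305, 3, 78585, 83260, 73268], [62, 1, 76530, 83268], [126, 2, 69457, 83248, 73886], [0, 0], [0, 0], [0, 0], [0, 0], [0, 0], [0, 0], [0, 0], [0, 0], [0, 0], [0, 0], [0, 0], [345, 19, 82814, 82816, 82818, 82819, 82817, 82815, 82813, 82811, 82809, 82807, 82806, 82808, 82810, 82812, 82814, 82816, 82818, 82820, 82822, 82824, 82826, 82828, 12900, 47330, 47362, 37945, 37951, 6551, 1398, 917, 49911, 49900, 48531, 24764, 67846, 83274, 83276, 83278, 83280, 83282, 83284, 83286, 83288, 83290, 83292, 83294], [250, 1, 83296, 82813, 82970], [263, 2, 83296, 82969, 83297], [279, 2, 83296, 82959, 83297], [281, 1, 83296, 83022, 57547, 57909], [282, 3, 83296, 82923, 83024, 53411], [295, 2, 83296, 82923, 83297], [311, 2, 83296, 83015, 54879], [312, 1, 83296, 83028, 80883], [327, 2, 83296, 83021, 80883], [328, 1, 83296, 83030, 54879], [343, 2, 83296, 82894, 83297], [359, 2, 83296, 82880, 83297], [375, 2, 83296, 82866, 83297], [367, 0, 83294, 83322, 83295], [363, 2, 83292, 83324, 83293], [367, 0, 83290, 83326, 83291], [375, 2, 83288,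 83328, 83289], [368, 1, 83286, 83330, 83287], [364, 3, 83284, 83332, 83285], [368, 1, 83282, 83334, 83283], [351, 0, 83294, 83320, 83295], [347, 2, 83292, 83338, 83293], [351, 0, 83290, 83340, 83291], [359, 2, 83288, 83342, 83289], [352, 1, 83286, 83344, 83287], [348, 3, 83284, 83346, 83285], [352, 1, 83282, 83348, 83283], [335, 0, 83294, 83318, 83295], [331, 2, 83292, 83352, 83293], [335, 0, 83290, 83354, 83291], [343, 2, 83288, 83356, 83289], [336, 1, 83286, 83358, 83287], [332, 3, 83284, 83360, 83285], [336, 1, 83282, 83362, 83283], [320, 3, 54876, 83316, 83295], [383, 2, 83366, 55004, 83367], [395, 2, 83366, 54982, 83367], [405, 2, 83366, 54960, 83367], [413, 2, 83366, 81043, 80948], [300, 1, 54874, 83374, 83293], [304, 3, 83290, 83376, 54873], [305, 3, 83376, 81105, 61565], [306, 0, 83376, 81106, 58011], [381, 0, 83376, 55006, 83377], [393, 0, 83376, 54984, 83377], [403, 0, 83376, 54962, 83377], [288, 3, 83290, 83388, 83291], [296, 1, 83288, 83390, 83289], [287, 2, 83286, 83392, 83287], [283, 0, 83284, 83394, 83285], [287, 2, 83282, 83396, 83283], [272, 3,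 83290, 83386, 83291], [280, 1, 83288, 83400, 83289], [271, 2, 83286, 83402, 83287], [267, 0, 83284, 83404, 83285], [271, 2, 83282, 83406, 83283], [279, 0, 83280, 83408, 83281], [256, 3, 83290, 83384, 83291], [264, 1, 83288, 83412, 83289], [255, 2, 83286, 83414, 83287], [251, 0, 83284, 83416, 83285], [255, 2, 83282, 83418, 83283], [125, 3, 57902, 83382, 83291], [127, 4, 83422, 57902, 83382, 83381, 53405], [322, 1, 81099, 58108, 83382], [316, 3, 83293, 83426, 80878], [320, 3, 83290, 83426, 80877], [328, 1, 80874, 83430, 83289], [414, 3, 80994, 81039, 83430], [414, 2, 83378, 83431, 83435], [328, 1, 83288, 83436, 54871], [319, 2, 54868, 83438, 83287], [414, 1, 80996, 81037, 83438], [414, 1, 83439, 83443, 83432], [303, 2, 80872, 83444, 83287], [299, 0, 83284, 83446, 80871], [302, 2, 83446, 81069, 78993], [305, 1, 83446, 81064, 56878], [306, 2, 83446, 81071, 61559], [414, 2, 83446, 80998, 81035], [414, 3, 83457, 83447, 83440], [299, 0, 54866, 83458, 83285], [301, 3, 83460, 81073, 78943], [303, 2, 83282, 83460, 54865], [414, 0, 83460, 81000, 81033], [414, 0, 83448, 83467,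 83461], [319, 2, 83282, 83468, 80869], [317, 3, 56853, 81006, 83470], [318, 0, 61538, 81004, 83470], [327, 0, 80866, 83470, 83281], [414, 3, 81002, 81031, 83470], [414, 2, 83464, 83471, 83479], [327, 0, 83280, 83480, 54863], [317, 1, 63623, 69939, 83482], [318, 2, 58134, 68410, 83482], [320, 3, 54860, 83482, 83279], [414, 1, 81008, 81029, 83482], [414, 1, 83483, 83491, 83476], [304, 3, 80864, 83492, 83279], [302, 2, 83494, 81019, 78983], [414, 2, 83494, 81014, 81025], [414, 3, 83499, 83495, 83488], [300, 1, 54858, 83500, 83277], [305, 3, 83502, 63601, 63606], [306, 0, 83502, 58150, 58142], [414, 0, 83502, 81016, 81027], [132, 2, 67849, 68220, 54849, 54508, 61569, 61546, 83506], [413, 2, 83428, 83375, 83367], [0, 0], [0, 0], [0, 0], [0, 0], [0, 0], [0, 0], [0, 0], [0, 0], [0, 0], [0, 0], [0, 0], [0, 0], [0, 0], [0, 0], [0, 0], [0, 0], [361, 18, 82827, 82825, 82823, 82821, 82819, 82817, 82815, 83297, 83295, 83293, 83291, 83289, 83287, 83285, 83283, 83281, 83279, 83277, 83275, 67847, 24765, 48530, 49901, 49910, 916, 1399, 6550, 6564, 6551, 51041, 83514, 83516, 83518,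 83520, 83522, 83524, 83526, 83528, 83530, 83532, 83534, 83536, 83538, 83540, 83542, 83544], [250, 1, 83546, 82828, 42147], [281, 1, 83546, 82835, 51381, 51789], [282, 3, 83546, 82839, 82837, 61603], [312, 1, 83546, 82843, 81181], [327, 2, 83546, 82845, 81181], [328, 1, 83546, 82847, 55059], [343, 2, 83546, 82849, 83547], [359, 2, 83546, 82851, 83547], [375, 2, 83546, 82853, 83547], [367, 0, 83544, 83564, 83545], [363, 2, 83542, 83566, 83543], [367, 0, 83540, 83568, 83541], [376, 3, 83538, 83570, 83539], [368, 1, 83536, 83572, 83537], [364, 3, 83534, 83574, 83535], [368, 1, 83532, 83576, 83533], [376, 3, 83530, 83578, 83531], [367, 0, 83528, 83580, 83529], [363, 2, 83526, 83582, 83527], [367, 0, 83524, 83584, 83525], [369, 2, 83522, 83586, 83523], [366, 1, 83520, 83588, 83521], [365, 2, 83518, 83590, 83519], [351, 0, 83544, 83562, 83545], [347, 2, 83542, 83594, 83543], [351, 0, 83540, 83596, 83541]]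
def dJ212 : List (List ℕ) := [[271, 0, 84658, 84798, 84659], [255, 0, 84670, 84768, 84671], [264, 3, 84668, 84802, 84669], [256, 1, 84666, 84804, 84667], [252, 3, 84664, 84806, 84665], [256, 1, 84662, 84808, 84663], [264, 3, 84660, 84810, 84661], [255, 0, 84658, 84812, 84659], [126, 0, 84670, 84766, 73605], [321, 2, 84766, 73745, 73040], [319, 0, 68430, 84818, 84671], [318, 0, 84820, 81484, 83752], [328, 3, 84668, 84820, 68429], [317, 3, 83754, 81478, 84824], [320, 1, 68426, 84824, 84667], [321, 3, 75040, 73724, 84824], [322, 0, 76938, 81522, 84824], [126, 2, 84666, 84832, 69971], [128, 4, 74828, 84831, 84832, 69971, 84834], [298, 0, 84832, 69972, 81509, 68429], [303, 2, 68426, 84838, 84667], [299, 0, 84664, 84840, 68425], [301, 1, 84840, 73784, 58464], [85, 3, 58170, 84844, 84665], [201, 3, 84846, 58170, 83778, 83535], [217, 1, 84662, 84846, 74992, 74825], [317, 2, 84846, 58459, 73782], [320, 1, 68422, 84852, 84663], [317, 3, 84854, 76951, 76932], [321, 3, 84854, 81453, 83794], [328, 3, 84660, 84854, 68421], [317, 3, 75004, 73766, 84860], [318, 0, 76930, 76947,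 84860], [319, 0, 68418, 84860, 84659], [322, 0, 81385, 68568, 84860], [125, 3, 84658, 84868, 81163], [298, 0, 84868, 81164, 81452, 68421], [304, 3, 68418, 84872, 84659], [311, 2, 68421, 84872, 84660], [300, 1, 84656, 84874, 68417], [301, 1, 84874, 68565, 57148], [86, 2, 51768, 84880, 84657], [113, 1, 84882, 63881, 75034], [0, 0], [0, 0], [0, 0], [0, 0], [0, 0], [0, 0], [0, 0], [0, 0], [0, 0], [0, 0], [0, 0], [0, 0], [0, 0], [0, 0], [0, 0], [0, 0], [0, 0], [0, 0], [0, 0], [0, 0], [0, 0], [0, 0], [0, 0], [329, 29, 45660, 45468, 46643, 12044, 38448, 12045, 46534, 46664, 26111, 46315, 51586, 84886, 84888, 84890, 84892, 84894, 84896, 84898, 84900, 84902, 84904, 84906, 84908, 84910, 84912, 84914, 84916, 84918, 84920, 84922, 84924, 84926, 84928, 84930], [263, 2, 84932, 42155, 84933], [279, 2, 84932, 12903, 84933], [295, 2, 84932, 12905, 84933], [297, 1, 84932, 12896, 12112, 54555], [298, 3, 84932, 12907, 12137, 67895], [343, 2, 84932, 41593, 84933], [359, 2, 84932, 40885, 84933], [375, 2, 84932, 12915, 84933], [367, 0, 84930, 84948, 84931], [363, 2, 84928, 84950, 84929],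 [367, 0, 84926, 84952, 84927], [376, 3, 84924, 84954, 84925], [368, 1, 84922, 84956, 84923], [364, 3, 84920, 84958, 84921], [368, 1, 84918, 84960, 84919], [376, 3, 84916, 84962, 84917], [367, 0, 84914, 84964, 84915], [363, 2, 84912, 84966, 84913], [367, 0, 84910, 84968, 84911], [375, 2, 84908, 84970, 84909], [368, 1, 84906, 84972, 84907], [364, 3, 84904, 84974, 84905], [368, 1, 84902, 84976, 84903], [375, 2, 84900, 84978, 84901], [367, 0, 84898, 84980, 84899], [363, 2, 84896, 84982, 84897], [367, 0, 84894, 84984, 84895], [375, 2, 84892, 84986, 84893], [368, 1, 84890, 84988, 84891], [351, 0, 84930, 84946, 84931], [347, 2, 84928, 84992, 84929], [351, 0, 84926, 84994, 84927], [360, 3, 84924, 84996, 84925], [352, 1, 84922, 84998, 84923], [348, 3, 84920, 85000, 84921], [352, 1, 84918, 85002, 84919], [360, 3, 84916, 85004, 84917], [351, 0, 84914, 85006, 84915], [347, 2, 84912, 85008, 84913], [351, 0, 84910, 85010, 84911], [359, 2, 84908, 85012, 84909], [352, 1, 84906, 85014, 84907], [348, 3, 84904, 85016, 84905], [352, 1, 84902, 85018, 84903], [359, 2, 84900, 85020,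 84901], [351, 0, 84898, 85022, 84899], [347, 2, 84896, 85024, 84897], [351, 0, 84894, 85026, 84895], [359, 2, 84892, 85028, 84893], [352, 1, 84890, 85030, 84891], [335, 0, 84930, 84944, 84931], [331, 2, 84928, 85034, 84929], [335, 0, 84926, 85036, 84927], [344, 3, 84924, 85038, 84925], [336, 1, 84922, 85040, 84923], [332, 3, 84920, 85042, 84921], [336, 1, 84918, 85044, 84919], [344, 3, 84916, 85046, 84917], [335, 0, 84914, 85048, 84915], [331, 2, 84912, 85050, 84913], [335, 0, 84910, 85052, 84911], [343, 2, 84908, 85054, 84909], [336, 1, 84906, 85056, 84907], [332, 3, 84904, 85058, 84905], [336, 1, 84902, 85060, 84903], [343, 2, 84900, 85062, 84901], [335, 0, 84898, 85064, 84899], [331, 2, 84896, 85066, 84897], [335, 0, 84894, 85068, 84895], [343, 2, 84892, 85070, 84893], [336, 1, 84890, 85072, 84891], [126, 0, 67892, 84942, 84931], [128, 0, 85076, 67892, 84942, 84941, 54553], [114, 1, 69637, 69829, 85078], [257, 2, 85079, 54798, 85078], [273, 2, 85079, 54752, 85078], [289, 2, 85079, 54706, 85078], [284, 1, 84928, 85086, 84929], [288, 3, 84926, 85088, 84927], [295,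 0, 84924, 85090, 84925], [287, 2, 84922, 85092, 84923], [283, 0, 84920, 85094, 84921], [287, 2, 84918, 85096, 84919], [295, 0, 84916, 85098, 84917], [288, 3, 84914, 85100, 84915], [284, 1, 84912, 85102, 84913], [288, 3, 84910, 85104, 84911], [296, 1, 84908, 85106, 84909], [287, 2, 84906, 85108, 84907], [283, 0, 84904, 85110, 84905], [287, 2, 84902, 85112, 84903], [296, 1, 84900, 85114, 84901], [288, 3, 84898, 85116, 84899], [284, 1, 84896, 85118, 84897], [288, 3, 84894, 85120, 84895], [296, 1, 84892, 85122, 84893], [287, 2, 84890, 85124, 84891], [268, 1, 84928, 85084, 84929], [272, 3, 84926, 85128, 84927], [279, 0, 84924, 85130, 84925], [271, 2, 84922, 85132, 84923], [267, 0, 84920, 85134, 84921], [271, 2, 84918, 85136, 84919], [279, 0, 84916, 85138, 84917], [272, 3, 84914, 85140, 84915], [268, 1, 84912, 85142, 84913], [272, 3, 84910, 85144, 84911], [280, 1, 84908, 85146, 84909], [271, 2, 84906, 85148, 84907], [267, 0, 84904, 85150, 84905], [271, 2, 84902, 85152, 84903], [280, 1, 84900, 85154, 84901], [272, 3, 84898, 85156, 84899], [268, 1, 84896, 85158, 84897],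 [272, 3, 84894, 85160, 84895], [280, 1, 84892, 85162, 84893], [271, 2, 84890, 85164, 84891], [252, 1, 84928, 85082, 84929], [256, 3, 84926, 85168, 84927], [263, 0, 84924, 85170, 84925], [255, 2, 84922, 85172, 84923], [251, 0, 84920, 85174, 84921], [255, 2, 84918, 85176, 84919], [263, 0, 84916, 85178, 84917], [256, 3, 84914, 85180, 84915], [252, 1, 84912, 85182, 84913], [256, 3, 84910, 85184, 84911], [264, 1, 84908, 85186, 84909], [255, 2, 84906, 85188, 84907], [251, 0, 84904, 85190, 84905], [255, 2, 84902, 85192, 84903], [264, 1, 84900, 85194, 84901], [256, 3, 84898, 85196, 84899]]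
def dJ216 : List (List ℕ) := [[393, 0, 86388, 68104, 86389], [403, 0, 86388, 68060, 86389], [288, 3, 86302, 86402, 86303], [295, 0, 86300, 86404, 86301], [287, 2, 86298, 86406, 86299], [283, 0, 86296, 86408, 86297], [287, 2, 86294, 86410, 86295], [295, 0, 86292, 86412, 86293], [288, 3, 86290, 86414, 86291], [284, 1, 86288, 86416, 86289], [288, 3, 86286, 86418, 86287], [296, 1, 86284, 86420, 86285], [287, 2, 86282, 86422, 86283], [283, 0, 86280, 86424, 86281], [287, 2, 86278, 86426, 86279], [296, 1, 86276, 86428, 86277], [288, 3, 86274, 86430, 86275], [284, 1, 86272, 86432, 86273], [288, 3, 86270, 86434, 86271], [296, 1, 86268, 86436, 86269], [272, 3, 86302, 86400, 86303], [279, 0, 86300, 86440, 86301], [271, 2, 86298, 86442, 86299], [267, 0, 86296, 86444, 86297], [271, 2, 86294, 86446, 86295], [256, 3, 86302, 86398, 86303], [263, 0, 86300, 86450, 86301], [255, 2, 86298, 86452, 86299], [251, 0, 86296, 86454, 86297], [255, 2, 86294, 86456, 86295], [263, 0, 86292, 86458, 86293], [125, 3, 73902, 86396, 86303], [127, 4, 86462, 73902, 86396, 86395, 76119], [305, 2, 84224,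 74152, 86396], [322, 1, 84224, 74145, 86396], [316, 3, 86305, 86468, 83916], [320, 3, 86302, 86468, 83915], [317, 3, 82981, 84230, 86472], [327, 0, 83912, 86472, 86301], [414, 3, 84233, 84221, 86472], [414, 2, 86392, 86473, 86479], [327, 0, 86300, 86480, 67887], [319, 2, 67884, 86482, 86299], [322, 2, 73092, 73110, 86482], [414, 1, 84235, 84246, 86482], [414, 1, 86483, 86489, 86476], [303, 2, 83910, 86490, 86299], [299, 0, 86296, 86492, 83909], [301, 1, 86492, 84252, 57693], [305, 1, 86492, 84242, 74573], [306, 2, 86492, 84245, 78509], [414, 2, 86492, 84237, 84248], [414, 3, 86503, 86493, 86484], [299, 0, 67882, 86504, 86297], [302, 0, 86506, 68213, 57869], [303, 2, 86294, 86506, 67881], [305, 3, 86506, 68214, 83011], [414, 0, 86506, 84261, 84250], [414, 0, 86494, 86515, 86507], [319, 2, 86294, 86516, 83907], [317, 3, 74339, 84259, 86518], [318, 0, 78527, 84265, 86518], [322, 0, 83021, 84267, 86518], [327, 0, 83904, 86518, 86293], [414, 3, 84263, 84284, 86518], [414, 2, 86510, 86519, 86529], [327, 0, 86292, 86530, 67879], [320, 3, 67876, 86532, 86291], [414, 1,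 84269, 84280, 86532], [414, 1, 86533, 86537, 86526], [304, 3, 83902, 86538, 86291], [300, 1, 86288, 86540, 83901], [301, 1, 86540, 84288, 56598], [414, 2, 86540, 84275, 84282], [414, 3, 86547, 86541, 86534], [300, 1, 67874, 86548, 86289], [302, 0, 86550, 73291, 57711], [304, 3, 86286, 86550, 67873], [305, 3, 86550, 83234, 78561], [306, 0, 86550, 76537, 73275], [414, 0, 86550, 84299, 84286], [414, 0, 86542, 86561, 86551], [320, 3, 86286, 86562, 83899], [317, 3, 80777, 84297, 86564], [321, 3, 74372, 84303, 86564], [322, 0, 78569, 84305, 86564], [328, 1, 83896, 86564, 86285], [414, 3, 84301, 84324, 86564], [414, 2, 86554, 86565, 86575], [328, 1, 86284, 86576, 67871], [318, 2, 83059, 83196, 86578], [319, 2, 67868, 86578, 86283], [321, 1, 76621, 83253, 86578], [322, 2, 74374, 76532, 86578], [414, 1, 84307, 84320, 86578], [414, 1, 86579, 86589, 86572], [303, 2, 83894, 86590, 86283], [299, 0, 86280, 86592, 83893], [301, 1, 86592, 84328, 57841], [306, 2, 86592, 84319, 78591], [414, 2, 86592, 84311, 84322], [414, 3, 86601, 86593, 86582], [299, 0, 67866, 86602, 86281], [302,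 0, 86604, 74553, 56588], [303, 2, 86278, 86604, 67865], [305, 3, 86604, 83165, 83075], [414, 0, 86604, 84333, 84326], [414, 0, 86594, 86613, 86605], [319, 2, 86278, 86614, 83891], [322, 0, 80785, 84337, 86616], [328, 1, 83888, 86616, 86277], [414, 3, 84335, 84350, 86616], [414, 2, 86608, 86617, 86623], [328, 1, 86276, 86624, 67863], [317, 1, 76613, 78723, 86626], [318, 2, 74408, 74548, 86626], [320, 3, 67860, 86626, 86275], [321, 1, 83101, 74564, 86626], [414, 1, 84339, 84346, 86626], [414, 1, 86627, 86637, 86620], [304, 3, 83886, 86638, 86275], [300, 1, 86272, 86640, 83885], [414, 2, 86640, 84343, 84348], [414, 3, 86645, 86641, 86632], [300, 1, 67858, 86646, 86273], [304, 3, 86270, 86648, 67857], [414, 0, 86648, 84363, 84352], [414, 0, 86642, 86653, 86649], [320, 3, 86270, 86654, 83883], [317, 3, 83125, 84361, 86656], [322, 0, 78639, 84369, 86656], [328, 1, 83880, 86656, 86269], [414, 3, 84365, 84384, 86656], [414, 2, 86650, 86657, 86665], [328, 1, 86268, 86666, 67855], [318, 2, 83133, 74533, 86668], [319, 2, 67852, 86668, 86267], [321, 1, 78635, 78689, 86668],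 [322, 2, 74452, 74537, 86668], [414, 1, 84371, 84380, 86668], [414, 1, 86669, 86679, 86662], [303, 2, 83878, 86680, 86267], [299, 0, 86264, 86682, 83877], [414, 2, 86682, 84375, 84382], [414, 3, 86687, 86683, 86672], [299, 0, 67850, 86688, 86265], [414, 0, 86690, 84395, 84386], [414, 0, 86684, 86693, 86691], [61, 2, 86618, 85287], [127, 5, 84903, 86696, 86618, 80552, 86610], [217, 3, 86586, 73883, 85297, 84906], [201, 3, 85245, 66355, 86558, 86288], [125, 1, 86291, 86702, 84914], [0, 0], [0, 0], [0, 0], [0, 0], [0, 0], [0, 0], [0, 0], [0, 0], [0, 0], [0, 0], [0, 0], [345, 19, 86294, 86296, 86298, 86299, 86297, 86295, 86293, 86291, 86289, 86287, 86286, 86288, 86290, 86292, 86294, 86296, 86298, 86300, 86302, 86304, 86306, 86308, 11892, 12206, 46107, 12035, 40813, 8370, 36919, 4479, 33117, 61570, 61857, 13472, 78118, 86706, 86708, 86710, 86712, 86714, 86716, 86718, 86720, 86722, 86724, 86726], [250, 1, 86728, 86293, 86460], [263, 2, 86728, 86459, 86729], [279, 2, 86728, 86449, 86729], [281, 1, 86728, 86520, 66592, 66825], [282, 3, 86728, 86413, 86522, 78795], [295,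 2, 86728, 86413, 86729], [298, 3, 86728, 86511, 68217, 54879], [311, 2, 86728, 86511, 68253], [312, 1, 86728, 86528, 84421], [327, 2, 86728, 86519, 84421], [328, 1, 86728, 86530, 68253], [343, 2, 86728, 86376, 86729], [359, 2, 86728, 86362, 86729], [375, 2, 86728, 86348, 86729], [320, 3, 68250, 86750, 86727], [317, 1, 86758, 73416, 56775], [413, 2, 86758, 84519, 84504], [300, 1, 68248, 86762, 86725], [302, 0, 86764, 73587, 56884], [304, 3, 86722, 86764, 68247], [305, 3, 86764, 81117, 78883], [306, 0, 86764, 73584, 73421], [125, 3, 66818, 86772, 86723], [305, 2, 84528, 74694, 86772], [322, 1, 84528, 74687, 86772], [316, 3, 86725, 86778, 84416], [320, 3, 86722, 86778, 84415], [317, 3, 83437, 84592, 86782], [328, 1, 84412, 86782, 86721], [414, 3, 84590, 84525, 86782], [414, 2, 86768, 86783, 86789], [328, 1, 86720, 86790, 68245], [318, 2, 80996, 81090, 86792], [319, 2, 68242, 86792, 86719], [414, 1, 84594, 84605, 86792]]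
def dJ220 : List (List ℕ) := [[279, 0, 87896, 87998, 87897], [271, 2, 87894, 88000, 87895], [267, 0, 87892, 88002, 87893], [271, 2, 87890, 88004, 87891], [279, 0, 87888, 88006, 87889], [272, 3, 87886, 88008, 87887], [252, 1, 87900, 87974, 87901], [256, 3, 87898, 88012, 87899], [263, 0, 87896, 88014, 87897], [255, 2, 87894, 88016, 87895], [251, 0, 87892, 88018, 87893], [255, 2, 87890, 88020, 87891], [263, 0, 87888, 88022, 87889], [202, 3, 71348, 71951, 87972, 87901], [306, 1, 79833, 79660, 87972], [299, 2, 87900, 88028, 68615], [302, 0, 64202, 79838, 88030], [303, 0, 68612, 88030, 87899], [306, 0, 75383, 79840, 88030], [125, 3, 87898, 88036, 75095], [127, 5, 71346, 88027, 88036, 75095, 88038], [113, 2, 88040, 71751, 75582], [298, 1, 87896, 88040, 71345, 71936], [322, 1, 88040, 71942, 79848], [328, 3, 68610, 88046, 87897], [318, 2, 88048, 79857, 79675], [322, 2, 88048, 79855, 77372], [125, 1, 77046, 88052, 87895], [127, 1, 88054, 77046, 88052, 88045, 65493], [305, 0, 79855, 77377, 88052], [303, 2, 87894, 88058, 68609], [299, 0, 68606, 88060, 87893], [301, 3, 88062,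 79958, 64479], [303, 2, 87890, 88062, 68605], [306, 0, 88062, 79862, 79687], [126, 2, 53810, 88068, 87891], [321, 2, 79862, 79679, 88068], [320, 1, 87890, 88072, 68605], [317, 1, 77406, 80002, 88074], [318, 2, 70804, 79867, 88074], [328, 3, 68602, 88074, 87889], [321, 1, 88080, 81969, 81950], [306, 1, 81969, 81967, 88082], [304, 3, 87886, 88084, 68601], [300, 1, 68598, 88086, 87885], [302, 0, 64361, 82144, 88086], [202, 3, 87884, 88090, 80012, 77037], [62, 1, 77666, 88092], [126, 0, 77034, 88092, 87883], [128, 0, 88096, 77034, 88092, 88094, 65481], [322, 3, 82142, 77428, 88092], [319, 0, 87882, 88100, 68597], [327, 2, 68594, 88102, 87881], [322, 2, 88104, 82128, 75412], [217, 1, 55292, 82159, 88106, 87879], [298, 0, 82137, 75077, 88106, 87880], [305, 0, 82128, 75472, 88106], [303, 2, 87878, 88112, 68593], [299, 0, 68590, 88114, 87877], [303, 2, 87874, 88116, 68589], [306, 0, 88116, 82117, 82013], [321, 2, 82117, 82028, 88120], [320, 1, 87874, 88122, 68589], [318, 2, 71898, 79829, 88124], [327, 2, 68586, 88124, 87873], [317, 1, 88128, 79827, 71888], [318, 2, 88128,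 79825, 75420], [321, 1, 88128, 79822, 79749], [125, 3, 53790, 88134, 87871], [306, 1, 79822, 79767, 88134], [304, 3, 87870, 88138, 68585], [302, 0, 64387, 77574, 88140], [86, 2, 87868, 88142, 63993], [202, 3, 87868, 88142, 77602, 75065], [62, 1, 75451, 88146], [126, 0, 75062, 88146, 87867], [128, 0, 88150, 75062, 88146, 88148, 71315], [322, 3, 77554, 75424, 88146], [319, 0, 87866, 88154, 68581], [317, 1, 79782, 79781, 88156], [327, 2, 68578, 88156, 87865], [318, 2, 88160, 79793, 79784], [322, 2, 88160, 77544, 77498], [298, 0, 77551, 67099, 88164, 87864], [305, 0, 77544, 77513, 88164], [303, 2, 87862, 88168, 68577], [299, 0, 68574, 88170, 87861], [301, 3, 88172, 75860, 62345], [304, 0, 88172, 75859, 77855], [306, 0, 88172, 79809, 79802], [0, 0], [0, 0], [0, 0], [0, 0], [0, 0], [0, 0], [0, 0], [0, 0], [0, 0], [0, 0], [0, 0], [345, 19, 87890, 87892, 87894, 87895, 87893, 87891, 87889, 87887, 87885, 87883, 87882, 87884, 87886, 87888, 87890, 87892, 87894, 87896, 87898, 87900, 87902, 87904, 49226, 50174, 50200, 47152, 40830, 8359, 2663, 2800, 38036, 46564, 44617, 47420,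 79340, 88180, 88182, 88184, 88186, 88188, 88190, 88192, 88194, 88196, 88198, 88200], [250, 1, 88202, 87889, 88024], [263, 2, 88202, 88023, 88203], [279, 2, 88202, 88007, 88203], [281, 1, 88202, 88078, 65720, 65961], [282, 3, 88202, 87991, 88076, 77727], [295, 2, 88202, 87991, 88203], [297, 1, 88202, 88070, 81938, 82223], [311, 2, 88202, 88067, 68943], [328, 1, 88202, 88075, 68943], [343, 2, 88202, 87968, 88203], [359, 2, 88202, 87954, 88203], [375, 2, 88202, 87940, 88203], [367, 0, 88200, 88226, 88201], [363, 2, 88198, 88228, 88199], [367, 0, 88196, 88230, 88197], [375, 2, 88194, 88232, 88195], [368, 1, 88192, 88234, 88193], [364, 3, 88190, 88236, 88191], [368, 1, 88188, 88238, 88189], [351, 0, 88200, 88224, 88201], [347, 2, 88198, 88242, 88199], [351, 0, 88196, 88244, 88197], [359, 2, 88194, 88246, 88195], [352, 1, 88192, 88248, 88193], [348, 3, 88190, 88250, 88191], [352, 1, 88188, 88252, 88189], [335, 0, 88200, 88222, 88201], [331, 2, 88198, 88256, 88199], [335, 0, 88196, 88258, 88197], [343, 2, 88194, 88260, 88195], [336, 1, 88192, 88262, 88193], [332, 3, 88190,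 88264, 88191], [336, 1, 88188, 88266, 88189], [320, 3, 68940, 88220, 88201], [316, 1, 88198, 88270, 68939], [321, 1, 88270, 79873, 82311], [383, 2, 88270, 69038, 88271], [395, 2, 88270, 69022, 88271], [405, 2, 88270, 69006, 88271], [284, 1, 88198, 88280, 88199], [288, 3, 88196, 88282, 88197], [296, 1, 88194, 88284, 88195], [287, 2, 88192, 88286, 88193], [283, 0, 88190, 88288, 88191], [287, 2, 88188, 88290, 88189], [268, 1, 88198, 88278, 88199], [272, 3, 88196, 88294, 88197], [280, 1, 88194, 88296, 88195], [271, 2, 88192, 88298, 88193], [267, 0, 88190, 88300, 88191], [271, 2, 88188, 88302, 88189], [252, 1, 88198, 88276, 88199], [256, 3, 88196, 88306, 88197], [264, 1, 88194, 88308, 88195], [255, 2, 88192, 88310, 88193], [251, 0, 88190, 88312, 88191], [255, 2, 88188, 88314, 88189], [202, 3, 65956, 82314, 88274, 88199], [306, 1, 79873, 82316, 88274], [299, 2, 88198, 88320, 68939], [303, 0, 68936, 88322, 88197], [306, 0, 77770, 79876, 88322], [125, 3, 88196, 88326, 77721], [127, 5, 65954, 88319, 88326, 77721, 88328], [297, 1, 88194, 88330, 72082, 71971], [322, 1, 88330,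 71013, 79878], [327, 2, 68934, 88334, 88195], [322, 2, 88336, 79887, 75744], [125, 1, 75600, 88338, 88193], [127, 1, 88340, 75600, 88338, 88333, 71969], [305, 0, 79887, 75754, 88338], [303, 2, 88192, 88344, 68933], [299, 0, 68930, 88346, 88191], [301, 3, 88348, 79895, 64705], [303, 2, 88188, 88348, 68929], [306, 0, 88348, 79898, 82409], [126, 2, 82208, 88354, 88189], [321, 2, 79898, 82412, 88354], [320, 1, 88188, 88358, 68929], [317, 1, 75790, 79905, 88360], [328, 3, 68926, 88360, 88187], [317, 1, 88364, 79908, 72180], [321, 1, 88364, 80298, 80278], [125, 3, 54122, 88368, 88185], [306, 1, 80298, 80296, 88368], [304, 3, 88184, 88372, 68925], [302, 0, 64671, 69073, 88374], [86, 2, 88182, 88376, 64503], [202, 3, 88182, 88376, 75800, 75591], [62, 1, 75813, 88380], [125, 0, 79808, 75859, 88380], [0, 0], [0, 0], [0, 0], [0, 0], [0, 0], [0, 0], [0, 0]]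
def dJ224 : List (List ℕ) := [[363, 2, 89572, 89598, 89573], [367, 0, 89570, 89600, 89571], [376, 3, 89568, 89602, 89569], [368, 1, 89566, 89604, 89567], [364, 3, 89564, 89606, 89565], [368, 1, 89562, 89608, 89563], [376, 3, 89560, 89610, 89561], [367, 0, 89558, 89612, 89559], [363, 2, 89556, 89614, 89557], [367, 0, 89554, 89616, 89555], [375, 2, 89552, 89618, 89553], [368, 1, 89550, 89620, 89551], [364, 3, 89548, 89622, 89549], [368, 1, 89546, 89624, 89547], [375, 2, 89544, 89626, 89545], [367, 0, 89542, 89628, 89543], [363, 2, 89540, 89630, 89541], [367, 0, 89538, 89632, 89539], [375, 2, 89536, 89634, 89537], [368, 1, 89534, 89636, 89535], [351, 0, 89574, 89594, 89575], [347, 2, 89572, 89640, 89573], [351, 0, 89570, 89642, 89571], [360, 3, 89568, 89644, 89569], [352, 1, 89566, 89646, 89567], [348, 3, 89564, 89648, 89565], [352, 1, 89562, 89650, 89563], [360, 3, 89560, 89652, 89561], [351, 0, 89558, 89654, 89559], [347, 2, 89556, 89656, 89557], [351, 0, 89554, 89658, 89555], [359, 2, 89552, 89660, 89553], [352, 1, 89550, 89662, 89551], [348, 3, 89548, 89664, 89549],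 [352, 1, 89546, 89666, 89547], [359, 2, 89544, 89668, 89545], [351, 0, 89542, 89670, 89543], [347, 2, 89540, 89672, 89541], [351, 0, 89538, 89674, 89539], [359, 2, 89536, 89676, 89537], [352, 1, 89534, 89678, 89535], [335, 0, 89574, 89592, 89575], [331, 2, 89572, 89682, 89573], [335, 0, 89570, 89684, 89571], [344, 3, 89568, 89686, 89569], [336, 1, 89566, 89688, 89567], [332, 3, 89564, 89690, 89565], [336, 1, 89562, 89692, 89563], [344, 3, 89560, 89694, 89561], [335, 0, 89558, 89696, 89559], [331, 2, 89556, 89698, 89557], [335, 0, 89554, 89700, 89555], [343, 2, 89552, 89702, 89553], [336, 1, 89550, 89704, 89551], [332, 3, 89548, 89706, 89549], [336, 1, 89546, 89708, 89547], [343, 2, 89544, 89710, 89545], [335, 0, 89542, 89712, 89543], [331, 2, 89540, 89714, 89541], [335, 0, 89538, 89716, 89539], [343, 2, 89536, 89718, 89537], [336, 1, 89534, 89720, 89535], [320, 3, 84930, 89590, 89575], [321, 1, 89724, 85079, 82897], [322, 2, 89724, 85076, 86379], [383, 2, 89724, 85083, 89725], [395, 2, 89724, 85085, 89725], [405, 2, 89724, 85087, 89725], [284, 1, 89572, 89734,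 89573], [288, 3, 89570, 89736, 89571], [295, 0, 89568, 89738, 89569], [287, 2, 89566, 89740, 89567], [283, 0, 89564, 89742, 89565], [287, 2, 89562, 89744, 89563], [295, 0, 89560, 89746, 89561], [288, 3, 89558, 89748, 89559], [284, 1, 89556, 89750, 89557], [288, 3, 89554, 89752, 89555], [296, 1, 89552, 89754, 89553], [287, 2, 89550, 89756, 89551], [283, 0, 89548, 89758, 89549], [287, 2, 89546, 89760, 89547], [296, 1, 89544, 89762, 89545], [288, 3, 89542, 89764, 89543], [284, 1, 89540, 89766, 89541], [288, 3, 89538, 89768, 89539], [296, 1, 89536, 89770, 89537], [287, 2, 89534, 89772, 89535], [268, 1, 89572, 89732, 89573], [272, 3, 89570, 89776, 89571], [279, 0, 89568, 89778, 89569], [271, 2, 89566, 89780, 89567], [267, 0, 89564, 89782, 89565], [271, 2, 89562, 89784, 89563], [279, 0, 89560, 89786, 89561], [272, 3, 89558, 89788, 89559], [268, 1, 89556, 89790, 89557], [272, 3, 89554, 89792, 89555], [280, 1, 89552, 89794, 89553], [271, 2, 89550, 89796, 89551], [267, 0, 89548, 89798, 89549], [271, 2, 89546, 89800, 89547], [280, 1, 89544, 89802, 89545], [272, 3, 89542,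 89804, 89543], [268, 1, 89540, 89806, 89541], [272, 3, 89538, 89808, 89539], [280, 1, 89536, 89810, 89537], [271, 2, 89534, 89812, 89535], [252, 1, 89572, 89730, 89573], [256, 3, 89570, 89816, 89571], [263, 0, 89568, 89818, 89569], [255, 2, 89566, 89820, 89567], [251, 0, 89564, 89822, 89565], [255, 2, 89562, 89824, 89563], [263, 0, 89560, 89826, 89561], [256, 3, 89558, 89828, 89559], [252, 1, 89556, 89830, 89557], [256, 3, 89554, 89832, 89555], [264, 1, 89552, 89834, 89553], [255, 2, 89550, 89836, 89551], [251, 0, 89548, 89838, 89549], [255, 2, 89546, 89840, 89547], [264, 1, 89544, 89842, 89545], [256, 3, 89542, 89844, 89543], [252, 1, 89540, 89846, 89541], [256, 3, 89538, 89848, 89539], [264, 1, 89536, 89850, 89537], [255, 2, 89534, 89852, 89535], [305, 0, 85076, 86386, 89728], [299, 2, 89572, 89856, 84929], [303, 0, 84926, 89858, 89571], [302, 0, 89860, 85215, 86392], [312, 3, 89568, 89860, 84925], [304, 1, 84922, 89864, 89567], [301, 3, 89866, 85224, 61354], [302, 0, 89866, 85223, 73104], [85, 3, 66362, 89870, 89565], [87, 4, 89872, 66362, 89870, 89869, 53083],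 [317, 2, 85223, 73096, 89870], [315, 0, 89564, 89876, 84921], [319, 0, 89567, 89876, 84922], [327, 2, 84925, 89880, 89568], [319, 2, 84918, 89878, 89563], [321, 1, 86515, 85232, 89878], [322, 2, 83017, 85231, 89878], [125, 1, 89562, 89888, 82815], [127, 2, 86294, 89887, 89888, 82815, 89890], [297, 4, 89560, 89892, 86293, 86705], [306, 3, 89892, 86511, 85237], [303, 0, 84914, 89894, 89559], [305, 3, 80823, 85239, 89894], [306, 0, 86538, 86705, 89894], [125, 3, 89558, 89902, 83903], [321, 0, 89902, 86527, 86705], [320, 3, 84914, 89906, 89559], [316, 1, 89556, 89908, 84913], [317, 1, 89908, 85245, 74360], [318, 2, 89908, 85242, 63348], [85, 1, 60954, 89914, 89557], [87, 1, 89916, 60954, 89914, 89913, 73889], [217, 3, 84302, 73886, 89918, 89555], [302, 1, 85248, 74356, 89918], [304, 3, 89554, 89922, 84911], [312, 1, 84908, 89924, 89553], [302, 0, 89926, 86700, 86591], [303, 2, 89550, 89926, 84907], [299, 0, 84904, 89930, 89549], [301, 3, 74394, 85297, 89930], [302, 0, 63453, 85294, 89930], [85, 3, 89548, 89936, 62933], [87, 5, 72578, 89935, 89936, 62933, 89938], [317,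 0, 89936, 63448, 85294], [316, 3, 84904, 89942, 89549], [320, 3, 84907, 89942, 89550], [327, 0, 89553, 89946, 84908], [320, 1, 89546, 89944, 84903], [321, 1, 89944, 85289, 80782], [322, 2, 89944, 86699, 86614], [125, 1, 83890, 89954, 89547], [127, 1, 89956, 83890, 89954, 89953, 54525], [306, 1, 85286, 80809, 89958], [298, 3, 89544, 89960, 86696, 86277], [311, 2, 89544, 89960, 84901], [303, 0, 84898, 89964, 89543], [299, 2, 89540, 89966, 84897], [306, 0, 89966, 85278, 83114], [321, 2, 85278, 83103, 89970], [316, 1, 89540, 89972, 84897], [320, 1, 89543, 89972, 84898], [320, 3, 84894, 89974, 89539], [328, 1, 89536, 89978, 84893], [317, 1, 83133, 85265, 89980], [318, 2, 86669, 85262, 89980], [319, 2, 84890, 89980, 89535], [317, 1, 89986, 85258, 74456], [318, 2, 89986, 85261, 63419], [86, 0, 62916, 89990, 89533], [301, 0, 85261, 63422, 89990], [300, 3, 89532, 89994, 84889], [304, 3, 89535, 89994, 84890]]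
def dJ228 : List (List ℕ) := [[255, 2, 91060, 91198, 91061], [263, 0, 91058, 91200, 91059], [256, 3, 91056, 91202, 91057], [413, 3, 90306, 90335, 91156], [327, 0, 91066, 91206, 90161], [317, 1, 81372, 90315, 91208], [318, 2, 87031, 90313, 91208], [319, 2, 90158, 91208, 91065], [315, 0, 91062, 91214, 90157], [317, 1, 91214, 90323, 73736], [413, 2, 91214, 90316, 90329], [299, 0, 90156, 91220, 91063], [301, 3, 91222, 90327, 63960], [302, 0, 91222, 90324, 73731], [303, 2, 91060, 91222, 90155], [305, 3, 91222, 90338, 87053], [306, 0, 91222, 90340, 81403], [126, 2, 55044, 91232, 91061], [128, 3, 91234, 55044, 91232, 91231, 86867], [305, 2, 85567, 83784, 91232], [322, 1, 85567, 83791, 91232], [315, 2, 91063, 91240, 85406], [319, 2, 91060, 91240, 85405], [327, 0, 85402, 91244, 91059], [414, 3, 90337, 90349, 91244], [414, 2, 91228, 91245, 91249], [327, 0, 91058, 91250, 90153], [320, 3, 90150, 91252, 91057], [321, 1, 87073, 90355, 91252], [322, 2, 83801, 90353, 91252], [414, 1, 90361, 90346, 91252], [414, 1, 91253, 91261, 91246], [304, 3, 85400, 91262, 91057], [300, 1, 91054,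 91264, 85399], [301, 1, 91264, 85582, 75021], [302, 2, 91264, 85585, 63946], [305, 1, 91264, 85578, 81395], [306, 2, 91264, 85581, 84875], [414, 2, 91264, 90363, 90350], [414, 3, 91277, 91265, 91254], [300, 1, 90148, 91278, 91055], [302, 0, 91280, 90371, 75033], [413, 2, 91242, 91221, 91215], [303, 0, 91065, 91284, 85408], [0, 0], [0, 0], [221, 4, 66299, 51077, 42639, 38750, 46297, 91288, 91290], [54, 1, 91290, 91292], [126, 2, 91292, 66313, 44561], [134, 2, 91292, 70193, 70196], [222, 5, 91290, 91292, 66313, 42636, 50003, 50013, 49610], [242, 2, 91292, 72546, 72550, 71298], [282, 4, 58321, 58155, 58153, 91300], [0, 0], [0, 0], [0, 0], [0, 0], [0, 0], [0, 0], [0, 0], [0, 0], [329, 17, 67869, 67867, 67865, 67863, 67861, 67859, 67857, 67855, 67853, 67851, 67849, 67847, 24767, 46459, 46462, 46139, 38674, 46138, 46119, 2631, 36756, 6549, 37944, 47566, 47883, 47859, 91306, 91308, 91310, 91312, 91314, 91316, 91318, 91320], [250, 1, 91322, 67870, 68166], [263, 2, 91322, 68169, 91323], [279, 2, 91322, 68125, 91323], [295, 2, 91322, 68081, 91323], [343, 2, 91322, 68027,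 91323], [359, 2, 91322, 67981, 91323], [375, 2, 91322, 67935, 91323], [368, 1, 91320, 91336, 91321], [364, 3, 91318, 91338, 91319], [368, 1, 91316, 91340, 91317], [375, 2, 91314, 91342, 91315], [367, 0, 91312, 91344, 91313], [363, 2, 91310, 91346, 91311], [367, 0, 91308, 91348, 91309], [352, 1, 91320, 91334, 91321], [348, 3, 91318, 91352, 91319], [352, 1, 91316, 91354, 91317], [359, 2, 91314, 91356, 91315], [351, 0, 91312, 91358, 91313], [347, 2, 91310, 91360, 91311], [351, 0, 91308, 91362, 91309], [336, 1, 91320, 91332, 91321], [332, 3, 91318, 91366, 91319], [336, 1, 91316, 91368, 91317], [343, 2, 91314, 91370, 91315], [335, 0, 91312, 91372, 91313], [331, 2, 91310, 91374, 91311], [335, 0, 91308, 91376, 91309], [288, 1, 91320, 91330, 91321], [284, 3, 91318, 91380, 91319], [288, 1, 91316, 91382, 91317], [295, 2, 91314, 91384, 91315], [287, 0, 91312, 91386, 91313], [283, 2, 91310, 91388, 91311], [287, 0, 91308, 91390, 91309], [272, 1, 91320, 91328, 91321], [268, 3, 91318, 91394, 91319], [272, 1, 91316, 91396, 91317], [279, 2, 91314, 91398, 91315], [271, 0, 91312,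 91400, 91313], [267, 2, 91310, 91402, 91311], [271, 0, 91308, 91404, 91309], [256, 1, 91320, 91326, 91321], [252, 3, 91318, 91408, 91319], [256, 1, 91316, 91410, 91317], [263, 2, 91314, 91412, 91315], [255, 0, 91312, 91414, 91313], [251, 2, 91310, 91416, 91311], [255, 0, 91308, 91418, 91309], [250, 1, 68229, 91306, 91420], [265, 3, 79184, 79286, 46945, 91306], [0, 0], [0, 0], [0, 0], [0, 0], [0, 0], [0, 0], [0, 0], [0, 0], [0, 0], [0, 0], [0, 0], [0, 0], [345, 19, 67861, 67859, 67857, 67856, 67858, 67860, 67862, 67864, 67866, 67868, 67869, 67867, 67865, 67863, 67861, 67859, 67857, 67855, 67853, 67851, 67849, 67847, 24767, 46459, 46462, 46139, 38640, 38750, 46654, 12140, 67895, 67893, 67891, 67889, 91426, 91428, 91430, 91432, 91434, 91436, 91438, 91440, 91442, 91444, 91446, 91448], [250, 1, 91450, 67862, 68174], [329, 17, 68414, 68416, 68418, 68420, 68422, 68424, 68426, 68428, 68430, 68432, 68434, 68436, 67893, 67891, 67889, 67887, 68010, 67886, 91426, 91428, 91430, 91432, 91434, 91436, 91438, 91440, 91442, 91444, 91446, 91448, 91450, 67861, 67859, 67857], [345,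 38, 91444, 91446, 91448, 91450, 67861, 67859, 67857, 91454, 56993, 68414, 68416, 68418, 68420, 68422, 68424, 68426, 68428, 68430, 68432, 68434, 68439, 12141, 46655, 38751, 10898, 2631, 36756, 6549, 37946, 48366, 49217, 49198, 49199, 49216, 48367, 14432, 47566, 47883, 47859, 47858, 47882, 47567, 14433, 48366, 49217, 49198, 76125], [7, 0, 91445, 91457], [16, 0, 91442, 91457, 76773], [7, 0, 91440, 91461], [361, 1, 61365, 54507, 51584, 51577, 13682, 47858, 47882, 47567, 14433, 48366, 49217, 49198, 76125, 91458, 91446, 91448, 91450, 67861, 67859, 67857, 91454, 68414, 68416, 68418, 68420, 68422, 68424, 68426, 68428, 68430, 68432, 68434, 68436, 67893, 67891, 67889, 67887, 67885, 67883, 67881, 67879, 67877, 67875, 67873, 67933, 67872], [282, 4, 57553, 73290, 91464, 90141], [297, 2, 84293, 84286, 91464, 61546], [298, 4, 73274, 76536, 91464, 83504], [311, 3, 86550, 91464, 61549], [312, 2, 84286, 91464, 63607], [265, 0, 63515, 91474, 83900, 84145], [281, 0, 85394, 91474, 84291, 56387], [297, 0, 63601, 91474, 84294, 74364], [298, 2, 63598, 91474, 86542, 86557], [266, 4, 78409,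 78147, 91482, 57888], [312, 2, 78561, 91482, 58100], [265, 0, 56669, 91486, 76104, 76336], [298, 2, 81046, 91486, 76571, 83273], [266, 4, 74222, 73889, 91490, 80862], [281, 2, 89919, 74176, 91490, 81020], [265, 0, 78775, 91494, 89556, 89790], [311, 1, 78985, 91494, 89922], [312, 0, 78976, 91494, 90765], [266, 4, 90641, 90401, 91500, 69854], [281, 0, 69922, 91502, 90757, 72878], [312, 0, 76728, 91502, 90752], [282, 4, 66597, 85244, 91506, 83496], [298, 2, 90130, 91508, 73277, 73287], [311, 3, 57709, 91510, 91030], [266, 2, 90904, 91512, 51457, 51157], [312, 2, 76569, 91488, 56870], [53, 1, 76770, 91462], [330, 17, 67885, 67883, 67881, 68253, 68251, 68249, 68247, 68245, 68243, 68241, 68239, 68237, 68235, 68233, 68231, 68229, 91306, 91378, 91307, 47858, 47882, 47567, 14433, 48366, 49217, 49198, 76774, 91462, 91439, 91437, 91435, 91433, 91431, 91429], [53, 1, 76122, 91458], [255, 2, 91459, 76127, 91458], [271, 2, 91459, 76129, 91458], [287, 2, 91459, 76133, 91458], [283, 0, 91447, 91528, 91446], [267, 0, 91447, 91526, 91446], [251, 0, 91447, 91524, 91446], [250, 2,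 67854, 68182, 91454], [281, 1, 74541, 91454, 58417, 55185, 58422], [5, 0, 74540, 91539], [5, 0, 85269, 91539, 46486], [8, 0, 54517, 91539, 46558], [10, 0, 74557, 91539, 50638], [9, 0, 74534, 91539, 79297], [15, 0, 54514, 91539], [24, 0, 80827, 91539, 46567], [23, 0, 83119, 91539, 44632], [6, 0, 85267, 91543], [8, 0, 84895, 91543, 46556], [15, 0, 84892, 91543], [24, 0, 90852, 91543, 48538], [23, 0, 90000, 91543, 48910], [3, 0, 54519, 91545, 39265], [6, 0, 78705, 91545, 39003], [9, 0, 74559, 91545, 57216], [6, 0, 78698, 91547, 50637], [15, 0, 62920, 91547], [24, 0, 63426, 91547, 50647], [23, 0, 63386, 91547, 50648], [3, 0, 79312, 91548], [4, 0, 79314, 91548], [6, 0, 79293, 91548, 73257], [6, 0, 79295, 91548], [8, 0, 79316, 91548], [9, 0, 79297, 91548], [10, 0, 79299, 91548], [11, 0, 79318, 91548], [12, 0, 79320, 91548], [13, 0, 79305, 91548]]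
def dJ232 : List (List ℕ) := [[339, 2, 92791, 92785, 92790], [355, 2, 92791, 92787, 92790], [371, 2, 92791, 92789, 92790], [0, 0], [77, 1, 49866, 92806], [261, 2, 92807, 49873, 92806], [277, 2, 92807, 49875, 92806], [293, 2, 92807, 49877, 92806], [313, 2, 49065, 49116, 49869, 92806], [314, 2, 24657, 65306, 65323, 92806], [341, 2, 92807, 49881, 92806], [357, 2, 92807, 49883, 92806], [373, 2, 92807, 49885, 92806], [298, 1, 92818, 45061, 45066, 45052], [0, 0], [95, 3, 92807, 49867, 46277, 65302, 92828], [94, 2, 92830, 92808, 46277], [201, 1, 92830, 92827, 19201, 19219], [209, 0, 92833, 32000, 92832, 92830], [251, 2, 92830, 92811, 92831], [265, 2, 92830, 92812, 92818, 24689], [266, 2, 92830, 92816, 49079, 49133], [267, 2, 92830, 92813, 92831], [283, 2, 92830, 92815, 92831], [331, 2, 92830, 92821, 92831], [347, 2, 92830, 92823, 92831], [363, 2, 92830, 92825, 92831], [311, 2, 92816, 49152, 92842], [328, 1, 92816, 49154, 92842], [0, 0], [99, 4, 92830, 92807, 49867, 46277, 11648, 81536, 92858], [38, 2, 92860, 92830], [85, 1, 92860, 92837, 92831], [86, 2, 92860, 92864,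 92863], [94, 2, 92860, 92833, 11648], [201, 1, 92860, 92835, 19225, 19193], [251, 2, 92860, 92839, 92861], [265, 2, 92860, 92844, 92841, 24691], [266, 2, 92860, 92843, 49149, 49135], [267, 2, 92860, 92845, 92861], [283, 2, 92860, 92847, 92861], [300, 1, 92860, 92854, 92831], [315, 2, 92860, 92856, 92831], [316, 1, 92860, 92884, 92863], [331, 2, 92860, 92849, 92861], [347, 2, 92860, 92851, 92861], [363, 2, 92860, 92853, 92861], [300, 1, 92862, 92883, 92861], [0, 0], [133, 2, 92777, 46266, 92896], [255, 2, 92898, 92779, 92899], [271, 2, 92898, 92781, 92899], [287, 2, 92898, 92783, 92899], [335, 2, 92898, 92785, 92899], [351, 2, 92898, 92787, 92899], [367, 2, 92898, 92789, 92899], [226, 2, 92777, 31997, 46266, 92896], [308, 1, 92777, 40489, 92896], [323, 2, 92777, 40491, 92896], [0, 0], [135, 3, 92791, 92777, 46266, 92896, 92918], [134, 2, 92920, 92792, 46266], [225, 0, 92923, 32002, 92922, 92920], [255, 2, 92920, 92795, 92921], [271, 2, 92920, 92797, 92921], [287, 2, 92920, 92799, 92921], [335, 2, 92920, 92801, 92921], [351, 2, 92920, 92803, 92921], [367, 2, 92920,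 92805, 92921], [307, 0, 92792, 40489, 92922], [324, 3, 92792, 40491, 92922], [0, 0], [137, 3, 92898, 92777, 46266, 46279, 92942], [54, 2, 92944, 92898], [126, 2, 92944, 92912, 92899], [128, 1, 92947, 92913, 92948, 92944, 92912], [255, 2, 92944, 92901, 92945], [271, 2, 92944, 92903, 92945], [287, 2, 92944, 92905, 92945], [303, 2, 92944, 92914, 92899], [304, 1, 92944, 92958, 92947], [320, 1, 92944, 92916, 92899], [335, 2, 92944, 92907, 92945], [351, 2, 92944, 92909, 92945], [367, 2, 92944, 92911, 92945], [320, 1, 92946, 92963, 92945], [0, 0], [139, 4, 92920, 92791, 92777, 46266, 46279, 92942, 92972], [54, 2, 92974, 92920], [125, 1, 92974, 92925, 92921], [126, 2, 92974, 92978, 92977], [134, 2, 92974, 92923, 46279], [255, 2, 92974, 92927, 92975], [271, 2, 92974, 92929, 92975], [287, 2, 92974, 92931, 92975], [303, 2, 92974, 92938, 92921], [304, 1, 92974, 92990, 92977], [320, 1, 92974, 92940, 92921], [335, 2, 92974, 92933, 92975], [351, 2, 92974, 92935, 92975], [367, 2, 92974, 92937, 92975], [320, 1, 92976, 92995, 92975], [0, 0], [173, 2, 49867, 92776, 93004], [233,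 1, 93006, 81546, 81537, 92896], [259, 2, 93006, 49873, 93007], [275, 2, 93006, 49875, 93007], [291, 2, 93006, 49877, 93007], [339, 2, 93006, 49881, 93007], [355, 2, 93006, 49883, 93007], [371, 2, 93006, 49885, 93007], [242, 3, 65303, 92942, 92947, 93004], [126, 2, 93022, 65319, 45018], [218, 3, 93022, 65319, 19241, 19446], [86, 0, 45288, 93026, 93009], [113, 2, 92913, 93028, 19301], [114, 3, 92949, 93028, 19299], [0, 0], [175, 3, 92807, 49867, 92776, 93004, 93034], [174, 2, 93036, 92808, 92776], [226, 2, 93036, 92827, 45377, 19407], [234, 3, 93036, 92808, 46277, 92942], [241, 3, 93036, 92808, 46266, 92868], [259, 2, 93036, 92811, 93037], [275, 2, 93036, 92813, 93037], [291, 2, 93036, 92815, 93037], [339, 2, 93036, 92821, 93037], [355, 2, 93036, 92823, 93037], [371, 2, 93036, 92825, 93037], [86, 0, 45138, 93032, 93042], [0, 0], [177, 3, 93006, 49867, 92776, 92790, 93060], [70, 2, 93062, 93006], [225, 2, 93062, 93022, 65319, 19371], [234, 3, 93062, 93034, 93043, 92972], [241, 3, 93062, 93034, 93045, 92859], [259, 2, 93062, 93011, 93063], [275, 2, 93062, 93013, 93063],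 [291, 2, 93062, 93015, 93063], [339, 2, 93062, 93017, 93063], [355, 2, 93062, 93019, 93063], [371, 2, 93062, 93021, 93063], [201, 4, 45522, 19260, 19372, 93066], [85, 1, 93068, 93084, 45522], [209, 0, 93060, 93084, 19389, 19359], [113, 2, 19285, 93088, 92924], [0, 0], [179, 4, 93036, 92807, 49867, 92776, 92790, 93060, 93092], [70, 2, 93094, 93036], [174, 2, 93094, 93039, 92790], [226, 2, 93094, 93041, 45014, 19361], [237, 2, 93094, 93036, 92862, 92859, 81537, 92896, 92918], [259, 2, 93094, 93047, 93095], [275, 2, 93094, 93049, 93095], [291, 2, 93094, 93051, 93095], [339, 2, 93094, 93053, 93095], [355, 2, 93094, 93055, 93095], [371, 2, 93094, 93057, 93095], [86, 2, 45693, 93091, 93102], [218, 2, 93116, 45376, 92826, 92836], [0, 0], [233, 2, 65311, 49867, 92776, 93120], [133, 2, 93122, 93023, 93063], [173, 1, 93122, 65303, 92942], [259, 2, 93122, 65309, 93123], [275, 2, 93122, 65313, 93123], [291, 2, 93122, 65317, 93123], [308, 1, 93122, 65321, 93007], [323, 2, 93122, 65323, 93007], [339, 2, 93122, 65325, 93123], [355, 2, 93122, 65327, 93123], [371, 2, 93122, 65329,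 93123], [318, 0, 44336, 93026, 93136], [319, 3, 81563, 93023, 93136], [322, 0, 45518, 93024, 93136], [0, 0], [235, 3, 92860, 92830, 92807, 49867, 92776, 93120, 93150], [134, 1, 93152, 93044, 93095], [174, 2, 93152, 92869, 92896], [226, 2, 93152, 92871, 45048, 19335], [234, 3, 93152, 92869, 46340, 92776], [241, 3, 93152, 92869, 46279, 92832], [259, 2, 93152, 92873, 93153], [275, 2, 93152, 92879, 93153], [291, 2, 93152, 92881, 93153], [307, 2, 93152, 92894, 93037], [324, 1, 93152, 92887, 93037], [339, 2, 93152, 92889, 93153], [355, 2, 93152, 92891, 93153], [371, 2, 93152, 92893, 93153], [317, 1, 45344, 93059, 93172], [0, 0], [0, 0], [237, 4, 92830, 92807, 49867, 92776, 92790, 93182, 93184], [70, 1, 93184, 93186], [133, 2, 93186, 93118, 93097], [135, 0, 93095, 93097, 93190, 93186, 93188], [140, 3, 93184, 93186, 93162, 93155, 93097, 93037, 93045], [173, 1, 93186, 92829, 93123], [174, 2, 93186, 92833, 92942]]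
def dJ236 : List (List ℕ) := [[270, 3, 93855, 94396, 93854], [253, 2, 93852, 94394, 93853], [254, 3, 93855, 94394, 93854], [283, 0, 93861, 94384, 93860], [271, 2, 93859, 94368, 93858], [267, 0, 93861, 94408, 93860], [255, 2, 93859, 94366, 93858], [251, 0, 93861, 94412, 93860], [46, 1, 93852, 93854], [0, 0], [89, 3, 58807, 52626, 12228, 12252, 94418], [38, 2, 94420, 58807], [86, 2, 94420, 58613, 24094], [201, 1, 94420, 58609, 50199, 50181], [202, 3, 94420, 58613, 45665, 46868], [125, 0, 70191, 46884, 94428], [126, 3, 70771, 46874, 94428], [225, 3, 91985, 91988, 46871, 94428], [244, 4, 94432, 70197, 71296, 92272, 92281, 91858, 92116], [0, 0], [115, 3, 12918, 12920, 52627, 65893, 94438], [46, 2, 94440, 49242], [114, 2, 94440, 12923, 52627], [210, 3, 94440, 47388, 47387, 73183], [253, 2, 94440, 42156, 94441], [269, 2, 94440, 12950, 94441], [285, 2, 94440, 12952, 94441], [333, 2, 94440, 41575, 94441], [349, 2, 94440, 40867, 94441], [365, 2, 94440, 12946, 94441], [0, 0], [0, 0], [207, 5, 94439, 65892, 52626, 12228, 12252, 49298, 94460, 94462], [38, 1, 94462, 94464],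 [85, 1, 94464, 94440, 47388], [86, 2, 94464, 94443, 50174], [89, 5, 46682, 47388, 94468, 94464, 94466], [90, 0, 49241, 50174, 94470, 94464, 94466], [94, 2, 94464, 94447, 74496], [98, 0, 73214, 74496, 94476, 94464, 94466], [201, 1, 94464, 94439, 65882, 45188], [202, 3, 94464, 94443, 49421, 49462], [206, 5, 94462, 94464, 94443, 49243, 12923, 12228, 12252], [283, 2, 94464, 94453, 94465], [284, 1, 94462, 94486, 94463], [225, 3, 66321, 66294, 23807, 94482], [234, 4, 94478, 73214, 73190, 83859], [0, 0], [209, 2, 39079, 12229, 52627, 94494], [46, 2, 94496, 48188], [217, 2, 94496, 22382, 22379, 94497], [253, 2, 94496, 42096, 94497], [269, 2, 94496, 22327, 94497], [285, 2, 94496, 22329, 94497], [333, 2, 94496, 41976, 94497], [349, 2, 94496, 41154, 94497], [365, 2, 94496, 22331, 94497], [0, 0], [211, 3, 44637, 39285, 12253, 12229, 52627, 94494, 94514], [46, 2, 94516, 46483], [86, 1, 94516, 44634, 91540], [113, 1, 94516, 14268, 51575], [114, 2, 94516, 14273, 66776], [210, 3, 94516, 44579, 11979, 52627], [253, 2, 94516, 42688, 94517], [269, 2, 94516, 14301, 94517], [285, 2,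 94516, 14303, 94517], [333, 2, 94516, 41430, 94517], [349, 2, 94516, 40740, 94517], [365, 2, 94516, 14296, 94517], [0, 0], [213, 4, 39285, 12253, 12229, 52627, 52632, 49458, 94540], [86, 1, 94542, 22485, 94497], [113, 1, 94542, 48881, 48878], [201, 3, 94542, 39293, 48490, 48483], [209, 1, 94542, 39285, 12253, 58811], [253, 2, 94542, 42099, 94543], [269, 2, 94542, 22495, 94543], [285, 2, 94542, 22497, 94543], [333, 2, 94542, 41476, 94543], [349, 2, 94542, 40786, 94543], [365, 2, 94542, 22499, 94543], [225, 1, 52255, 12984, 14138, 94546], [0, 0], [0, 0], [221, 4, 94440, 12918, 12920, 11903, 11927, 94566, 94568], [54, 1, 94568, 94570], [125, 1, 94570, 94439, 70481], [126, 2, 94570, 94445, 58808], [129, 5, 65505, 70481, 94574, 94570, 94572], [130, 0, 52249, 58808, 94576, 94570, 94572], [217, 1, 94570, 94440, 12918, 12925], [218, 3, 94570, 94445, 52632, 50048], [222, 5, 94568, 94570, 94445, 65893, 65890, 65110, 65109], [225, 3, 94570, 94445, 70659, 94581], [227, 4, 94588, 94570, 94572, 94580, 70657, 70655, 94444], [227, 4, 94590, 94568, 94570, 94445, 70659, 70657, 94576],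 [243, 3, 94570, 94572, 94588, 94592, 94447, 73197, 66324], [243, 3, 94568, 94570, 94590, 94588, 94595, 73188, 73197], [255, 2, 94570, 94449, 94571], [271, 2, 94570, 94451, 94571], [287, 2, 94570, 94453, 94571], [335, 2, 94570, 94455, 94571], [351, 2, 94570, 94457, 94571], [367, 2, 94570, 94459, 94571], [368, 1, 94568, 94608, 94569], [352, 1, 94568, 94606, 94569], [336, 1, 94568, 94604, 94569], [288, 1, 94568, 94602, 94569], [272, 1, 94568, 94600, 94569], [256, 1, 94568, 94598, 94569], [309, 0, 94595, 66789, 94596], [310, 3, 94447, 73199, 94596], [325, 0, 94447, 73201, 94596], [326, 3, 94595, 66791, 94596], [319, 0, 94569, 94628, 94570], [413, 0, 94630, 94623, 94628], [0, 0], [265, 2, 12229, 11794, 61987, 94634], [313, 1, 94636, 39080, 46569, 91610], [0, 0], [313, 2, 46626, 12200, 61987, 94640], [263, 2, 94642, 42064, 94643], [279, 2, 94642, 23104, 94643], [295, 2, 94642, 23102, 94643], [343, 2, 94642, 42002, 94643], [359, 2, 94642, 41180, 94643], [375, 2, 94642, 23100, 94643], [0, 0], [0, 0], [0, 0], [0, 0], [0, 0], [0, 0], [0, 0], [0, 0], [0, 0], [0, 0], [0, 0],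 [0, 0], [0, 0], [0, 0], [0, 0], [0, 0], [0, 0], [0, 0], [0, 0], [0, 0], [0, 0], [0, 0], [0, 0], [0, 0], [0, 0], [0, 0], [0, 0], [0, 0], [0, 0], [0, 0], [329, 32, 61986, 41567, 61987, 62583, 94656, 94658, 94660, 94662, 94664, 94666, 94668, 94670, 94672, 94674, 94676, 94678, 94680, 94682, 94684, 94686, 94688, 94690, 94692, 94694, 94696, 94698, 94700, 94702, 94704, 94706, 94708, 94710, 94712, 94714], [54, 2, 94716, 61985], [345, 41, 94710, 94712, 94714, 94716, 61986, 40859, 11903, 45248, 46647, 36302, 38035, 32964, 938, 37762, 49565, 49539, 49173, 53825, 53823, 53821, 53819, 53817, 53815, 53813, 53811, 53809, 53807, 53805, 53803, 53802, 53804, 53806, 54142, 54139, 54137, 54135, 54134, 54136, 54138, 54143, 53807, 53805, 53803, 53801, 53799, 53797, 53795], [7, 0, 94708, 94721, 53794], [16, 0, 94711, 94721], [4, 0, 94706, 94723, 53796], [7, 0, 94704, 94727, 53798], [15, 0, 94702, 94729, 53800], [8, 0, 94700, 94731, 53802], [3, 0, 94698, 94733, 53804], [8, 0, 94696, 94735, 53806], [15, 0, 94694, 94737, 54142], [7, 0, 94692, 94739, 54139], [4, 0, 94690, 94741, 54137],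 [7, 0, 94688, 94743, 54135], [16, 0, 94686, 94745, 54133], [8, 0, 94684, 94747, 54131], [3, 0, 94682, 94749, 54129], [8, 0, 94680, 94751, 54127], [15, 0, 94678, 94753], [351, 2, 94716, 62003, 94717], [361, 1, 75600, 75602, 86046, 86044, 79923, 54134, 54136, 54138, 54143, 53807, 53805, 53803, 53801, 53799, 53797, 53795, 94724, 94712, 94714, 94716, 61986, 11903, 45248, 46647, 36302, 38035, 32964, 938, 37762, 49565, 49539, 49173, 54320, 54317, 54315, 54313, 54311, 54309, 54307, 54305, 54303, 54301, 54299, 54297, 54355, 54296], [367, 2, 94716, 62005, 94717], [363, 0, 94714, 94760, 94715], [266, 4, 54462, 54299, 94758, 75599], [281, 2, 89513, 54436, 94758, 75753], [297, 2, 80534, 80524, 94758, 75751], [298, 4, 60880, 60918, 94758, 88341], [312, 2, 80524, 94758, 75756], [265, 0, 67454, 94772, 80310, 80447], [282, 2, 69098, 94772, 80431, 87854], [297, 0, 79892, 94772, 80533, 59625], [298, 2, 69100, 94772, 82744, 82765], [266, 4, 55950, 55779, 94780, 65949], [312, 2, 62823, 94780, 71031], [265, 0, 70844, 94784, 62562, 62747], [281, 0, 87591, 94784, 88626, 88517], [266,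 4, 88533, 88399, 94788, 87453], [312, 2, 88623, 94788, 87588], [265, 0, 85916, 94792, 69120, 69294], [281, 2, 69428, 69257, 94794, 86056], [297, 0, 72162, 94796, 87842, 89508]]
def dJ240 : List (List ℕ) := [[24, 0, 76002, 95988, 62531], [23, 0, 77986, 95988, 64674], [3, 0, 95353, 95992, 52854], [5, 0, 67616, 95992], [6, 0, 65932, 95992], [7, 0, 85907, 95992], [7, 0, 65457, 95992, 52853], [9, 0, 65931, 95992, 69376], [16, 0, 65454, 95992], [24, 0, 70721, 95992, 60853], [23, 0, 71855, 95992, 59641], [6, 0, 76013, 95995, 75574], [6, 0, 86227, 95995], [10, 0, 76010, 95995, 87439], [9, 0, 88561, 95995, 75578], [16, 0, 75878, 95995], [24, 0, 76007, 95995, 75573], [23, 0, 77989, 95995, 77527], [4, 0, 72253, 95997], [5, 0, 82591, 95997], [5, 0, 86222, 95997, 66109], [24, 0, 72333, 95997, 59358], [23, 0, 72419, 95997, 60512], [3, 0, 88415, 95999, 95361], [4, 0, 67655, 96001], [4, 0, 77899, 96003], [5, 0, 70830, 96005], [8, 0, 65460, 96005, 52856], [10, 0, 75432, 96005], [15, 0, 95294, 96005], [16, 0, 95042, 96005], [24, 0, 70714, 96005, 60924], [23, 0, 71878, 96005, 59642],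 [3, 0, 96054, 65459, 96013], [5, 0, 82111, 96013], [8, 0, 86080, 96013], [24, 0, 70718, 96013, 60850], [23, 0, 71835, 96013, 59638], [3, 0, 62579, 96014, 95336], [9, 0, 69376, 96014], [10, 0, 82595, 96014], [24, 0, 65049, 96014, 59061], [23, 0, 62908, 96014, 60213], [5, 0, 77868, 96019], [6, 0, 70735, 96019], [7, 0, 89071, 96019], [16, 0, 70740, 96019], [5, 0, 71844, 96021], [6, 0, 71842, 96021], [7, 0, 87443, 96021], [16, 0, 71850, 96021], [9, 0, 69356, 96023], [16, 0, 62574, 96023], [24, 0, 65046, 96023, 59062], [23, 0, 62907, 96023, 60221], [3, 0, 87113, 96026], [6, 0, 87426, 96026], [7, 0, 87110, 96026], [8, 0, 87437, 96026], [10, 0, 87439, 96026], [24, 0, 87430, 96026, 72335], [23, 0, 89044, 96026, 72417], [5, 0, 88564, 96029], [10, 0, 88563, 96029], [16, 0, 88410, 96029], [24, 0, 88557, 96029, 64404], [6, 0, 89442, 96033], [16, 0, 67650, 96033], [16, 0, 77894, 96035], [4, 0, 86101, 96041], [6, 0, 86220, 96041], [8, 0, 86098, 96041], [24, 0, 89521, 96041, 71055], [23, 0, 87789, 96041, 72202], [3, 0, 66129, 96043, 95371], [5, 0, 66269, 96043], [3, 0, 71085,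 96045, 95368], [5, 0, 80464, 96045], [8, 0, 88417, 96047, 63987], [9, 0, 88492, 96047, 82089], [6, 0, 82101, 96055, 95711], [5, 0, 87423, 96055, 62590], [9, 0, 75435, 96055, 95696], [24, 0, 70717, 96055, 60608], [23, 0, 71877, 96055, 59406], [5, 0, 70827, 96063], [10, 0, 70824, 96063], [15, 0, 95303, 96063], [16, 0, 95044, 96063], [5, 0, 71820, 96065], [10, 0, 77508, 96065], [15, 0, 95308, 96065], [16, 0, 94992, 96065], [3, 0, 96166, 70207, 96073], [5, 0, 70727, 96073], [8, 0, 89269, 96073], [3, 0, 96168, 71309, 96075], [5, 0, 79807, 96075], [8, 0, 87638, 96075], [3, 0, 95336, 96076], [5, 0, 87415, 96076], [6, 0, 87417, 96076], [13, 0, 96077, 95277, 96076], [15, 0, 95286, 96076], [16, 0, 95024, 96076], [24, 0, 87432, 96076, 65057], [23, 0, 89034, 96076, 62910], [9, 0, 69337, 96083], [10, 0, 69338, 96083], [5, 0, 79810, 96084], [6, 0, 60178, 96084], [13, 0, 96085, 60181, 96084], [16, 0, 60186, 96084], [23, 0, 60213, 96084], [24, 0, 60177, 96084], [25, 0, 60190, 96084], [26, 0, 60215, 96084], [5, 0, 89440, 96107], [9, 0, 69353, 96107], [10, 0, 69350, 96107], [16,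 0, 64754, 96107], [3, 0, 59727, 96108], [6, 0, 77529, 96108], [23, 0, 60221, 96108], [24, 0, 60174, 96108], [25, 0, 60171, 96108], [26, 0, 60216, 96108], [3, 0, 85595, 96121], [6, 0, 85897, 96121], [7, 0, 85592, 96121], [8, 0, 85904, 96121], [10, 0, 85901, 96121], [3, 0, 88671, 96123], [6, 0, 89046, 96123], [7, 0, 88668, 96123], [8, 0, 89048, 96123], [9, 0, 89050, 96123], [10, 0, 89052, 96123], [5, 0, 69345, 96131], [10, 0, 69342, 96131], [16, 0, 69132, 96131], [4, 0, 89305, 96145], [6, 0, 89400, 96145], [8, 0, 89302, 96145], [4, 0, 87661, 96147], [8, 0, 87658, 96147], [3, 0, 95371, 96148], [6, 0, 88162, 96148, 66207], [8, 0, 87862, 96148, 95651], [9, 0, 88164, 96148], [14, 0, 95324, 96148], [15, 0, 95296, 96148], [16, 0, 94970, 96148], [6, 0, 80407, 96153, 79793], [6, 0, 87739, 96153], [8, 0, 95794, 96153, 68577], [8, 0, 95975, 96153], [10, 0, 71154, 96153], [23, 0, 72421, 96153], [24, 0, 71201, 96153], [25, 0, 71151, 96153], [26, 0, 72422, 96153], [5, 0, 88424, 96157], [6, 0, 95804, 96157], [10, 0, 95938, 96157, 77593], [15, 0, 88420, 96157], [16, 0, 88419, 96157],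 [24, 0, 88426, 96157, 64403], [3, 0, 82480, 96159], [5, 0, 86170, 96159], [6, 0, 82584, 96159], [8, 0, 95981, 96159], [4, 0, 81574, 96161], [8, 0, 81577, 96161], [9, 0, 82102, 96161], [24, 0, 82106, 96161, 95718], [23, 0, 82097, 96161, 72078], [4, 0, 96110, 96163], [24, 0, 87429, 96163, 95584], [23, 0, 89043, 96163, 62595], [3, 0, 77722, 96164], [6, 0, 95932, 96164], [7, 0, 77725, 96164], [9, 0, 95696, 96164], [10, 0, 79978, 96164], [15, 0, 95929, 96164], [24, 0, 77768, 96164, 75440], [23, 0, 77879, 96164, 77524], [3, 0, 95329, 96211], [5, 0, 85890, 96211], [6, 0, 85889, 96211], [13, 0, 96210, 95279, 96211], [15, 0, 95281, 96211], [16, 0, 85599, 96211], [5, 0, 89029, 96213], [6, 0, 89031, 96213], [13, 0, 96212, 95274, 96213], [15, 0, 95288, 96213], [16, 0, 95100, 96213], [3, 0, 54314, 96294]]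
def dJ244 : List (List ℕ) := [[7, 0, 97569, 59373, 97448], [9, 0, 60917, 97448, 82764], [13, 0, 94074, 97448], [15, 0, 62837, 97448], [16, 0, 95313, 97448], [24, 0, 62844, 97448], [25, 0, 62850, 97448], [4, 0, 95247, 97450], [5, 0, 95192, 97450], [6, 0, 95208, 97450], [8, 0, 95158, 97450], [10, 0, 95242, 97450], [12, 0, 95249, 97450], [13, 0, 95250, 97450], [15, 0, 95610, 97450, 68934], [23, 0, 82051, 97450], [26, 0, 82042, 97450], [4, 0, 70254, 97452], [5, 0, 70266, 97452], [6, 0, 70264, 97452], [8, 0, 70257, 97452], [9, 0, 70260, 97452], [10, 0, 70258, 97452], [11, 0, 71365, 97452], [12, 0, 97507, 70262, 97452], [13, 0, 97507, 70268, 97452], [14, 0, 71373, 97452], [15, 0, 95672, 97452, 95783], [24, 0, 71379, 97452, 60482], [4, 0, 96644, 97454, 95516], [4, 0, 96498, 97454], [6, 0, 95537, 97454, 95518], [8, 0, 59158, 97454], [10, 0, 75838, 97454, 79922], [9, 0, 79937, 97454, 75837], [13, 0, 95539, 97454], [15, 0, 95541, 97454], [24, 0, 59340, 97454, 95639], [23, 0, 95684, 97454, 95643], [4, 0, 87645, 97476], [6, 0, 87853, 97476, 82457], [8, 0, 87642, 97476], [15,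 0, 94777, 97476], [24, 0, 87857, 97476, 82774], [3, 0, 88654, 97479], [4, 0, 88652, 97479], [5, 0, 88643, 97479], [7, 0, 88386, 97479], [9, 0, 88645, 97479], [10, 0, 88647, 97479], [12, 0, 97466, 97479], [14, 0, 97470, 97479], [15, 0, 96396, 97479], [15, 0, 75603, 97495, 95154], [5, 0, 69399, 97496, 66271], [15, 0, 65019, 97496], [16, 0, 95300, 97496], [5, 0, 77808, 97499], [15, 0, 95590, 97503, 95200], [4, 0, 69121, 97505], [8, 0, 69402, 97505], [10, 0, 76073, 97505, 62857], [4, 0, 65506, 97506], [5, 0, 65514, 97506], [6, 0, 65512, 97506], [8, 0, 65509, 97506], [9, 0, 65510, 97506], [12, 0, 97656, 71367, 97506], [13, 0, 97656, 71375, 97506], [15, 0, 95668, 97506, 52672], [15, 0, 88195, 97509, 95761], [23, 0, 88345, 97509], [26, 0, 88337, 97509], [15, 0, 95598, 97513, 95953], [4, 0, 60575, 97517], [5, 0, 67832, 97517, 60902], [8, 0, 62840, 97517], [10, 0, 62889, 97517], [5, 0, 60568, 97522], [7, 0, 97603, 82759, 97522], [10, 0, 62842, 97522], [15, 0, 95221, 97522], [16, 0, 95222, 97522], [23, 0, 60908, 97522], [26, 0, 60910, 97522], [4, 0, 80311, 97525], [8, 0,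 80308, 97525], [10, 0, 80532, 97525], [24, 0, 80525, 97525], [25, 0, 80517, 97525], [4, 0, 62563, 97527], [8, 0, 62826, 97527], [10, 0, 62892, 97527], [24, 0, 62822, 97527], [25, 0, 62802, 97527], [4, 0, 89289, 97544], [6, 0, 89512, 97544], [8, 0, 89286, 97544], [15, 0, 94766, 97544], [4, 0, 59375, 97568], [5, 0, 78113, 97568, 53044], [9, 0, 60919, 97568], [15, 0, 94779, 97568], [23, 0, 59625, 97568], [26, 0, 59603, 97568], [10, 0, 79887, 97579], [15, 0, 95822, 97579, 95957], [4, 0, 96633, 97580, 95766], [4, 0, 95389, 97580], [8, 0, 97675, 77027, 97580], [14, 0, 95407, 97580], [15, 0, 95198, 97580], [24, 0, 77458, 97580, 64607], [9, 0, 79919, 97583], [4, 0, 70223, 97591, 96625], [6, 0, 95768, 97591], [7, 0, 70220, 97591], [9, 0, 75564, 97591, 75555], [24, 0, 71795, 97591, 71797], [4, 0, 88399, 97593], [8, 0, 88638, 97593], [4, 0, 97100, 97594, 95740], [4, 0, 95722, 97594], [8, 0, 97740, 88196, 97594], [9, 0, 88319, 97594, 77783], [13, 0, 95948, 97594], [14, 0, 97108, 97594], [15, 0, 95954, 97594], [4, 0, 82465, 97602], [5, 0, 82754, 97602, 54502], [9, 0, 82764,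 97602], [23, 0, 82753, 97602], [26, 0, 82766, 97602], [3, 0, 96643, 97629], [4, 0, 96474, 97629], [8, 0, 97706, 75604, 97629], [23, 0, 95752, 97629], [26, 0, 95754, 97629], [4, 0, 55639, 97655], [8, 0, 55636, 97655], [13, 0, 97654, 95671, 97655], [4, 0, 71564, 97657], [5, 0, 71370, 97657], [6, 0, 71368, 97657], [8, 0, 71359, 97657], [9, 0, 71362, 97657], [10, 0, 71360, 97657], [12, 0, 97646, 97657], [13, 0, 97652, 97657], [4, 0, 95516, 97658], [6, 0, 77642, 97658, 97224], [7, 0, 67113, 97658, 97226], [9, 0, 82125, 97658, 96238], [15, 0, 95986, 97658, 96240], [5, 0, 95918, 97662], [6, 0, 95518, 97662], [7, 0, 52216, 97662], [23, 0, 59078, 97662, 59076], [4, 0, 95625, 97666, 96561], [7, 0, 97668, 62367, 97666], [10, 0, 79922, 97666], [23, 0, 64718, 97666], [26, 0, 64723, 97666], [4, 0, 97126, 97669, 95630], [4, 0, 62369, 97669], [10, 0, 79939, 97669], [13, 0, 97668, 95531, 97669], [9, 0, 95770, 97674], [24, 0, 95639, 97674], [25, 0, 95641, 97674], [7, 0, 97824, 75070, 97676], [10, 0, 77637, 97676], [23, 0, 95643, 97676], [26, 0, 95645, 97676], [4, 0, 71069, 97681],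 [8, 0, 71066, 97681], [4, 0, 86085, 97687], [8, 0, 86082, 97687], [15, 0, 94805, 97687], [4, 0, 95733, 97707, 96652], [10, 0, 79880, 97707], [6, 0, 69381, 97709], [7, 0, 97722, 75865, 97709], [9, 0, 69407, 97709], [15, 0, 69415, 97709], [16, 0, 95299, 97709], [23, 0, 69417, 97709], [26, 0, 69423, 97709], [7, 0, 65472, 97717], [4, 0, 75867, 97723], [5, 0, 76069, 97723], [4, 0, 96936, 97739, 95776], [4, 0, 64519, 97739], [8, 0, 64516, 97739], [9, 0, 79935, 97739], [13, 0, 97738, 95667, 97739], [10, 0, 88331, 97741], [23, 0, 88325, 97741], [26, 0, 88334, 97741], [4, 0, 95568, 97746]]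
def dJ248 : List (List ℕ) := [[5, 0, 79959, 99064], [7, 0, 98908, 99064], [3, 0, 55307, 99072], [7, 0, 55304, 99072], [9, 0, 79968, 99072], [23, 0, 62313, 99072], [24, 0, 64350, 99072], [25, 0, 64347, 99072], [26, 0, 62269, 99072], [4, 0, 96336, 99076], [5, 0, 96140, 99076], [6, 0, 96038, 99076], [8, 0, 97104, 99076], [9, 0, 96080, 99076], [10, 0, 82596, 99076], [3, 0, 81607, 99097], [7, 0, 98970, 99097], [23, 0, 81935, 99097], [24, 0, 81922, 99097], [25, 0, 81943, 99097], [26, 0, 81940, 99097], [4, 0, 96049, 99098], [5, 0, 96088, 99098], [8, 0, 67093, 99098], [9, 0, 62524, 99098], [10, 0, 62549, 99098], [16, 0, 62348, 99098], [3, 0, 87893, 99112], [5, 0, 88064, 99112], [7, 0, 98934, 99112], [10, 0, 88068, 99112], [4, 0, 93580, 99128], [14, 0, 93576, 99128], [16, 0, 93579, 99128], [308, 0, 82442, 96754, 55615], [133, 3, 55273, 99268, 82201], [134, 2, 82201, 99268, 82447], [225, 3, 52659, 55613, 99268, 82451], [226, 3, 67436, 55273, 99268, 99107], [228, 6, 99250, 82200, 82447, 99271, 99268, 99107, 99276], [231, 7, 59756, 99248, 55613, 99268, 99273, 96278, 96262,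 99278], [225, 1, 99249, 99280, 59756, 99248], [308, 0, 60110, 99280, 60112], [133, 3, 52233, 99284, 99160], [134, 2, 99023, 99284, 52233], [225, 3, 80302, 99029, 99284, 99164], [226, 3, 99163, 52233, 99284, 99162], [227, 4, 96751, 63982, 80302, 99029, 99284, 99287, 97164], [226, 1, 96127, 99294, 80305, 96117], [133, 3, 96117, 99296, 96116], [234, 4, 98049, 98191, 99296, 98190], [307, 3, 72416, 99296, 72417], [308, 2, 72334, 99296, 72335], [233, 0, 96561, 99304, 96560, 95470], [134, 2, 55037, 99306, 97918], [225, 3, 56897, 58421, 99306, 97920], [226, 0, 99306, 97931, 99308, 58499], [229, 2, 99306, 97920, 75837, 99308, 55037, 99313, 58498, 61937], [4, 0, 61583, 99314], [6, 0, 73774, 99314, 58416], [5, 0, 85588, 99314, 58418], [7, 0, 61896, 99314, 99313], [9, 0, 61937, 99314, 58420], [24, 0, 63944, 99314, 58424], [23, 0, 61914, 99314, 58426], [4, 0, 73591, 99319], [8, 0, 73588, 99319], [10, 0, 73776, 99319, 58495], [9, 0, 76920, 99319, 61902], [16, 0, 94327, 99319, 91455], [24, 0, 75023, 99319, 57142], [23, 0, 73760, 99319, 58484], [4, 0, 85399, 99321], [8, 0, 85396,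 99321], [16, 0, 94345, 99321, 56889], [24, 0, 91267, 99321, 57140], [23, 0, 90372, 99321, 58487], [4, 0, 56899, 99322], [7, 0, 99313, 99322], [8, 0, 99325, 56896, 99322], [11, 0, 99310, 99322], [16, 0, 94318, 99322, 55268], [24, 0, 57146, 99322, 63885], [23, 0, 58398, 99322, 61912], [6, 0, 61889, 99324], [9, 0, 58420, 99324], [10, 0, 58497, 99324], [13, 0, 99325, 77005, 99324], [15, 0, 91682, 99324], [16, 0, 92045, 99324], [24, 0, 57145, 99324, 81396], [23, 0, 61893, 99324, 83825], [4, 0, 63665, 99327], [8, 0, 99365, 63662, 99327], [7, 0, 99383, 83829, 99328], [11, 0, 99300, 99328], [13, 0, 98048, 99328], [15, 0, 58411, 99328], [16, 0, 92020, 99328], [23, 0, 58426, 99328], [24, 0, 58432, 99328], [25, 0, 58434, 99328], [26, 0, 58428, 99328], [4, 0, 68417, 99335], [8, 0, 68414, 99335], [16, 0, 94315, 99335, 55267], [24, 0, 84879, 99335, 70159], [23, 0, 87104, 99335, 79264], [4, 0, 76753, 99337], [6, 0, 76924, 99337], [8, 0, 76910, 99337], [16, 0, 94332, 99337, 61837], [24, 0, 76906, 99337, 63846], [23, 0, 79262, 99337, 61840], [4, 0, 80870, 99339], [7, 0, 80873,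 99339, 92117], [10, 0, 81070, 99339, 91641], [9, 0, 81065, 99339, 91655], [24, 0, 83446, 99339, 84384], [23, 0, 81035, 99339, 86650], [4, 0, 74819, 99341], [8, 0, 74816, 99341], [4, 0, 66941, 99343], [6, 0, 67085, 99343], [8, 0, 66938, 99343], [3, 0, 69862, 99349, 24073], [7, 0, 69865, 99349, 91929], [10, 0, 81139, 99349, 81447], [9, 0, 81140, 99349, 46555], [24, 0, 78992, 99349, 48538], [23, 0, 76702, 99349, 48910], [4, 0, 91055, 99351], [8, 0, 91052, 99351], [4, 0, 90149, 99353], [5, 0, 90369, 99353], [8, 0, 90146, 99353], [3, 0, 90912, 99363, 50219], [5, 0, 90978, 99363, 55264], [7, 0, 90915, 99363, 50658], [24, 0, 90982, 99363, 50649], [3, 0, 92209, 99364], [6, 0, 81426, 99364], [10, 0, 63879, 99364], [14, 0, 95678, 99364], [16, 0, 92059, 99364], [24, 0, 63885, 99364], [25, 0, 63887, 99364], [4, 0, 58163, 99367], [8, 0, 61878, 99367], [10, 0, 61939, 99367], [24, 0, 58447, 99367], [25, 0, 58442, 99367], [4, 0, 81161, 99380], [8, 0, 81416, 99380], [10, 0, 81425, 99380], [24, 0, 81396, 99380], [25, 0, 81390, 99380], [4, 0, 83527, 99382], [9, 0, 83836, 99382],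 [23, 0, 83825, 99382], [26, 0, 83838, 99382], [3, 0, 63522, 99411, 47449], [7, 0, 63525, 99411, 47457], [10, 0, 73544, 99411, 47463], [23, 0, 63639, 99411, 47475], [4, 0, 84657, 99413], [6, 0, 84883, 99413], [8, 0, 84654, 99413], [4, 0, 86861, 99415], [8, 0, 86858, 99415], [3, 0, 51598, 99423, 24831], [7, 0, 51601, 99423, 26190], [4, 0, 69961, 99425], [8, 0, 69958, 99425], [4, 0, 79021, 99427], [8, 0, 79018, 99427], [4, 0, 93555, 99430], [6, 0, 91916, 99430, 81090], [5, 0, 92000, 99430, 90091], [7, 0, 92117, 99430], [8, 0, 91858, 99430], [10, 0, 91850, 99430, 81088], [9, 0, 91910, 99430, 81087], [11, 0, 92122, 99430], [14, 0, 92115, 99430], [15, 0, 93952, 99430, 80874], [24, 0, 86637, 99430, 83444], [23, 0, 86638, 99430, 81037], [3, 0, 53398, 99433, 13722], [3, 0, 56676, 99435, 24853], [6, 0, 91608, 99436], [7, 0, 91860, 99436], [10, 0, 91782, 99436], [15, 0, 83880, 99436], [16, 0, 92006, 99436], [24, 0, 84384, 99436], [25, 0, 84364, 99436], [6, 0, 91703, 99438], [7, 0, 91790, 99438], [9, 0, 91776, 99438]]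
def dJ252 : List (List ℕ) := [[24, 0, 80755, 100692], [25, 0, 80761, 100692], [3, 0, 66363, 100700], [6, 0, 89872, 100700, 61317], [7, 0, 66360, 100700], [10, 0, 69824, 100700, 66929], [4, 0, 66805, 100703], [9, 0, 68397, 100703], [3, 0, 62949, 100707], [3, 0, 82817, 100717], [7, 0, 82814, 100717], [10, 0, 86513, 100717], [23, 0, 83011, 100717], [26, 0, 83016, 100717], [4, 0, 92093, 100718], [5, 0, 63617, 100718], [8, 0, 80537, 100718], [9, 0, 63603, 100718], [10, 0, 63604, 100718], [14, 0, 92102, 100718], [15, 0, 92241, 100718], [16, 0, 63510, 100718], [24, 0, 63619, 100718], [25, 0, 63612, 100718], [4, 0, 92086, 100720], [5, 0, 81052, 100720], [8, 0, 86263, 100720], [10, 0, 81048, 100720], [14, 0, 96723, 100720], [16, 0, 80858, 100720], [23, 0, 81054, 100720], [24, 0, 81045, 100720], [25, 0, 81058, 100720], [26, 0, 81056, 100720], [3, 0, 84921, 100743], [7, 0, 84918, 100743], [9, 0, 85232, 100743], [10, 0, 85231, 100743], [3, 0, 60963, 100745], [10, 0, 76435, 100745], [24, 0, 61352, 100745], [25, 0, 61280, 100745], [4, 0, 92082, 100748], [6, 0, 73504, 100748],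 [9, 0, 73512, 100748], [10, 0, 73510, 100748], [13, 0, 98550, 100748], [16, 0, 73316, 100748], [3, 0, 90409, 100777], [7, 0, 90406, 100777], [9, 0, 90724, 100777], [6, 0, 74799, 100780], [9, 0, 78670, 100780], [10, 0, 74801, 100780], [13, 0, 96687, 100780], [16, 0, 74592, 100780], [3, 0, 89565, 100807], [5, 0, 89874, 100807], [7, 0, 89562, 100807], [9, 0, 89887, 100807], [4, 0, 92070, 100810], [6, 0, 66927, 100810], [9, 0, 68394, 100810], [10, 0, 66929, 100810], [13, 0, 96684, 100810], [16, 0, 66800, 100810], [86, 1, 85344, 100251, 100271], [201, 0, 94073, 100251, 83183, 100302], [202, 2, 74690, 100251, 100271, 100274], [206, 3, 92152, 100074, 99950, 100251, 100271, 68410, 85380], [207, 8, 100938, 92152, 94110, 100190, 99950, 100251, 83183, 83185], [299, 1, 74692, 100251, 63453], [204, 0, 100941, 83184, 83182, 100250, 94072, 94143, 100937], [85, 2, 94108, 99900, 100944], [206, 3, 99941, 99946, 57904, 100937, 100944, 100941, 83184], [209, 1, 94104, 94040, 100937, 100944], [219, 4, 68401, 66934, 100366, 83895, 100944, 100941, 57266], [282, 4, 84110, 100944, 100087,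 49725], [301, 3, 84322, 100944, 90118], [302, 2, 86592, 100944, 91022], [46, 2, 100958, 86597], [86, 1, 100958, 94021, 99970], [203, 0, 94028, 93957, 100943, 100399, 100400, 100960, 100958], [205, 4, 100400, 100960, 100958, 100964, 99969, 100149, 94049], [207, 5, 84631, 91017, 100958, 100964, 99969, 100149, 81105, 61382], [210, 3, 100958, 100964, 94030, 94109], [214, 0, 92130, 92126, 94045, 94109, 100970, 100958, 86597], [220, 3, 56099, 100960, 100958, 86282, 100467, 73501, 84642], [281, 0, 49337, 99850, 100958, 86424], [86, 1, 94094, 100965, 100959], [202, 2, 94029, 100965, 100959, 91016], [86, 3, 84627, 100980, 81185], [300, 2, 86843, 100980, 83554], [85, 0, 83550, 100984, 100441], [86, 1, 83552, 100984, 86834], [201, 0, 94130, 100984, 90127, 100956], [85, 2, 100956, 100990, 73417], [86, 3, 74555, 100990, 94126], [87, 4, 100956, 100990, 73417, 94184, 100994], [89, 4, 94104, 100166, 100990, 73417, 100992], [93, 3, 100990, 99975, 99968], [95, 2, 99901, 94031, 101000, 100990, 99975], [97, 2, 94021, 99968, 101000, 100990, 51607], [98, 0, 100990, 51607, 94040, 100937,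 99901], [98, 3, 99901, 57904, 94041, 100166, 100990], [99, 3, 100937, 99901, 94031, 101000, 100990, 51607, 101004], [206, 7, 100362, 100345, 100346, 100990, 51607, 100174, 99992], [210, 3, 100956, 100990, 99975, 99970], [212, 5, 92160, 94104, 100166, 100990, 99975, 101002, 100944], [214, 5, 100996, 100956, 100990, 51607, 101004, 100959, 100961], [216, 5, 101018, 100996, 100956, 100990, 99975, 101002, 100944, 100941], [266, 4, 68126, 100990, 94134, 45407], [78, 2, 101020, 101018], [212, 3, 100997, 101024, 101020, 100960, 100978, 92135, 92163], [96, 3, 94190, 92153, 101026, 101015, 100962], [85, 0, 90053, 101012, 83486], [265, 1, 94257, 101012, 83411, 83280], [37, 2, 101032, 99761], [202, 4, 100181, 100182, 101032, 93507], [203, 4, 99923, 100135, 100136, 101032, 93509, 66752, 101036], [206, 7, 51189, 46807, 99892, 101034, 101032, 93507, 101036], [300, 2, 83464, 101032, 93558], [234, 4, 100230, 101043, 93525, 101033], [134, 0, 83283, 101044, 65086], [307, 1, 83464, 101044, 65093], [133, 3, 55997, 101048, 54864], [70, 2, 101050, 94565], [307, 1, 81033, 101050, 59792],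 [174, 0, 101054, 100227, 101052], [209, 0, 101056, 59950, 46299, 14357], [309, 3, 83460, 101056, 59793], [310, 2, 81033, 101056, 59791], [313, 3, 75012, 94353, 101056, 95202], [309, 1, 71796, 101064, 75031], [310, 0, 70704, 101064, 75020], [94, 3, 94527, 58806, 101062], [210, 4, 39296, 39081, 58811, 101062], [282, 4, 61742, 73762, 94348, 101072], [301, 1, 83449, 101072, 47134], [281, 0, 101076, 94338, 75025, 63828], [312, 2, 63896, 101078, 47133], [313, 3, 63943, 101078, 47117, 95489], [309, 1, 95578, 101082, 63946], [310, 0, 95584, 101082, 61916], [223, 8, 44569, 44570, 101058, 99799, 48725, 48366, 48380, 100076], [125, 2, 101088, 44569, 73806], [202, 2, 101088, 45434, 91927, 91932], [203, 3, 101088, 44756, 46371, 99884, 101043, 93512, 66766], [226, 3, 101088, 44569, 47249, 97563], [241, 0, 95081, 59706, 97561, 101096], [308, 0, 97573, 101096, 74764], [134, 3, 101100, 95081, 72531], [242, 4, 101100, 95081, 95071, 95166], [314, 1, 97762, 101104, 73325, 73493], [93, 3, 100331, 101106, 52838], [309, 3, 100448, 101106, 97807], [310, 2, 73475, 101106, 97766], [94,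 0, 97749, 101112, 100436], [209, 3, 100396, 100144, 101114, 67834], [310, 2, 74698, 101114, 60879], [314, 3, 100047, 74739, 101114, 94810], [210, 2, 101120, 99802, 99716, 48382], [309, 1, 88349, 101120, 57311], [93, 2, 93455, 56128, 101124], [209, 2, 48815, 48641, 56331, 101124], [114, 2, 101128, 59126, 59130], [224, 0, 96955, 49652, 12679, 12676, 97326, 101128, 48823, 48334], [282, 4, 78011, 78103, 94809, 101128], [311, 1, 48836, 101134, 78109], [312, 0, 48838, 101134, 78100], [313, 3, 100414, 100304, 48814, 101134], [309, 1, 78108, 101140, 100412], [113, 0, 101132, 97085, 97090], [116, 4, 97285, 48338, 101132, 96955, 49619], [117, 0, 101144, 101132, 97085, 49653, 49619], [126, 1, 58513, 48334, 101132], [201, 2, 97827, 48613, 48583, 101132], [206, 3, 97725, 97827, 46601, 47516, 101148, 101144, 101132], [208, 8, 101144, 101132, 97287, 13019, 12982, 49286, 52256, 52251], [305, 3, 48346, 101132, 60541], [306, 2, 48772, 101132, 60497], [203, 0, 94580, 65881, 101155, 101133, 48339, 50817, 97332], [225, 1, 101133, 48332, 48728, 101161], [226, 3, 101133, 48335, 24089,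 101159], [227, 1, 101164, 101133, 48332, 48386, 48428, 48454, 101159], [136, 5, 101168, 101164, 101150, 58528, 59677], [136, 2, 59677, 59678, 101151, 101167, 101168], [238, 2, 101168, 101164, 101152, 97734, 97894, 97650, 97736], [238, 5, 97648, 97734, 97896, 97650, 101153, 101167, 101168], [242, 4, 101168, 101172, 52183, 101173], [244, 7, 101167, 101168, 101172, 52192, 97425, 97412, 101170], [246, 6, 101178, 101168, 101164, 101150, 58525, 58525, 101151], [236, 6, 101169, 101179, 101183, 101154, 97725, 97649, 97634], [240, 1, 97883, 97735, 97649, 97634, 101184, 101169, 101166, 101181], [204, 4, 94576, 94575, 101184, 97205, 49598, 46644, 97384], [205, 0, 101188, 70464, 101184, 101176, 97644, 46621, 59782], [266, 1, 95814, 101184, 98231, 55540], [202, 0, 101161, 101185, 70465, 101189], [206, 0, 101194, 101161, 101185, 97635, 97644, 46619, 44587], [210, 3, 99594, 14369, 13743, 101196]]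
def dJ256 : List (List ℕ) := [[6, 0, 74147, 102299], [7, 0, 73907, 102299], [9, 0, 74149, 102299], [3, 0, 101506, 102301], [6, 0, 76946, 102301], [9, 0, 76969, 102301], [15, 0, 76757, 102301], [24, 0, 76902, 102301, 80726], [23, 0, 79248, 102301, 82903], [6, 0, 69831, 102304], [7, 0, 69472, 102304, 93644, 102306], [24, 0, 78480, 102304, 80725, 102312], [23, 0, 76405, 102304, 82900, 102314], [4, 0, 93640, 102306, 102420], [7, 0, 93644, 102306, 102420], [8, 0, 93643, 102306, 102420], [11, 0, 102210, 102306, 102420], [12, 0, 102209, 102306, 102420], [7, 0, 80581, 102312], [10, 0, 84081, 102312], [12, 0, 102215, 102312], [24, 0, 80725, 102312], [25, 0, 80647, 102312], [7, 0, 82827, 102314], [10, 0, 86385, 102314], [12, 0, 102189, 102314], [23, 0, 82900, 102314], [26, 0, 82897, 102314], [9, 0, 69787, 102329], [15, 0, 62952, 102329, 101318], [24, 0, 63488, 102329, 63946], [23, 0, 63324, 102329, 61916], [3, 0, 57288, 102330], [7, 0, 57291, 102330], [10, 0, 102294, 102330], [23, 0, 57527, 102330, 57529], [3, 0, 101532, 102334], [14, 0, 101643, 102334], [15, 0, 63669, 102334],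 [24, 0, 63949, 102334], [25, 0, 63952, 102334], [4, 0, 60971, 102337], [12, 0, 102197, 102337], [24, 0, 61360, 102337], [25, 0, 61134, 102337], [6, 0, 69814, 102339], [9, 0, 69817, 102339], [15, 0, 66366, 102339, 101320], [24, 0, 73112, 102339, 57148], [23, 0, 74577, 102339, 58396], [3, 0, 67890, 102340], [7, 0, 67893, 102340], [9, 0, 68053, 102340], [10, 0, 102268, 102340], [11, 0, 102233, 102340], [24, 0, 84214, 102340, 84216], [23, 0, 86387, 102340, 86389], [6, 0, 73085, 102343], [3, 0, 99416, 102344], [6, 0, 76943, 102344], [9, 0, 76944, 102344], [13, 0, 101445, 102344], [15, 0, 99694, 102344], [15, 0, 101446, 102344, 54547], [24, 0, 76905, 102344, 80729], [23, 0, 79261, 102344, 82904], [3, 0, 101342, 102348], [4, 0, 100896, 102348], [5, 0, 90712, 102348, 85218], [8, 0, 90411, 102348], [13, 0, 101394, 102348], [14, 0, 101392, 102348], [15, 0, 101448, 102348], [16, 0, 101410, 102348], [24, 0, 90716, 102348, 90890], [23, 0, 90889, 102348, 89864], [6, 0, 90705, 102351], [6, 0, 89862, 102353], [16, 0, 92389, 102353, 101405], [4, 0, 101522, 102358], [5, 0, 84865,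 102358], [6, 0, 84863, 102358], [8, 0, 84658, 102358], [10, 0, 91256, 102358], [15, 0, 84661, 102358], [24, 0, 84872, 102358], [25, 0, 84860, 102358], [4, 0, 101535, 102360], [5, 0, 87081, 102360], [6, 0, 87083, 102360], [7, 0, 86862, 102360, 91523], [10, 0, 90354, 102360], [15, 0, 86865, 102360], [23, 0, 87089, 102360], [26, 0, 87078, 102360], [3, 0, 56120, 102399], [7, 0, 56123, 102399], [9, 0, 80723, 102414], [10, 0, 80731, 102414], [12, 0, 102199, 102414], [24, 0, 80726, 102414], [25, 0, 80648, 102414], [10, 0, 82906, 102416], [12, 0, 102192, 102416], [23, 0, 82903, 102416], [26, 0, 82898, 102416], [3, 0, 99330, 102420], [5, 0, 85582, 102420], [6, 0, 73762, 102420], [9, 0, 73764, 102420], [13, 0, 101069, 102420], [15, 0, 94349, 102420], [15, 0, 101316, 102420, 69471], [24, 0, 75020, 102420, 78493], [23, 0, 73759, 102420, 76407], [4, 0, 78163, 102423], [4, 0, 76121, 102425], [7, 0, 102526, 62950, 102459], [10, 0, 69797, 102459, 83002], [9, 0, 80743, 102459, 69810], [24, 0, 63487, 102459, 57871], [23, 0, 63335, 102459, 57692], [3, 0, 99384, 102460], [6, 0, 91271,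 102460], [13, 0, 101085, 102460], [15, 0, 101079, 102460], [24, 0, 63946, 102460], [25, 0, 63943, 102460], [9, 0, 69794, 102463], [24, 0, 61359, 102463], [25, 0, 61275, 102463], [3, 0, 51172, 102471], [7, 0, 51175, 102471], [10, 0, 102404, 102471], [16, 0, 94391, 102471], [3, 0, 101325, 102494], [4, 0, 76112, 102494], [5, 0, 76430, 102494, 69818], [8, 0, 76115, 102494], [10, 0, 76426, 102494, 86487], [9, 0, 76429, 102494, 78503], [15, 0, 101320, 102494], [16, 0, 101323, 102494], [24, 0, 76541, 102494, 73108], [23, 0, 78515, 102494, 74575], [6, 0, 73086, 102497], [9, 0, 84227, 102497], [6, 0, 74306, 102499], [9, 0, 86462, 102499], [3, 0, 83916, 102511], [7, 0, 83919, 102511], [9, 0, 102438, 102511], [10, 0, 102318, 102511], [11, 0, 102234, 102511], [3, 0, 86304, 102513], [7, 0, 86307, 102513], [9, 0, 102448, 102513], [10, 0, 102324, 102513], [11, 0, 102226, 102513], [16, 0, 93851, 102513], [3, 0, 101346, 102527], [4, 0, 100816, 102527], [9, 0, 80749, 102527, 68205], [13, 0, 101433, 102527], [14, 0, 101434, 102527], [16, 0, 101363, 102527], [23, 0, 63336, 102527,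 82995], [5, 0, 84231, 102528], [9, 0, 80735, 102528], [10, 0, 80732, 102528], [24, 0, 80729, 102528], [25, 0, 80736, 102528], [5, 0, 86474, 102530], [10, 0, 82973, 102530], [23, 0, 82904, 102530], [26, 0, 82987, 102530], [4, 0, 100774, 102537], [8, 0, 73899, 102537], [10, 0, 84242, 102537, 76424], [13, 0, 101421, 102537], [15, 0, 101353, 102537, 91521], [24, 0, 74572, 102537, 84247], [7, 0, 102538, 102548], [24, 0, 90890, 102548], [25, 0, 90887, 102548], [7, 0, 89566, 102550], [23, 0, 89864, 102550], [26, 0, 89880, 102550], [7, 0, 92391, 102557], [4, 0, 91447, 102580], [7, 0, 91523, 102580], [8, 0, 91458, 102580], [3, 0, 101296, 102625], [4, 0, 86296, 102625], [6, 0, 86496, 102625], [8, 0, 102679, 86299, 102625], [13, 0, 101293, 102625], [16, 0, 101304, 102625], [6, 0, 78489, 102626], [10, 0, 84228, 102626]]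
def dJ260 : List (List ℕ) := [[4, 0, 100942, 103679], [7, 0, 66823, 103679], [7, 0, 93955, 103679, 66332], [9, 0, 73314, 103679], [14, 0, 93959, 103679], [15, 0, 93961, 103679], [16, 0, 93963, 103679], [24, 0, 73418, 103679, 73171], [23, 0, 74693, 103679, 74463], [3, 0, 93910, 103681], [7, 0, 90923, 103681], [9, 0, 94098, 103681], [10, 0, 94054, 103681], [14, 0, 101912, 103681], [15, 0, 94265, 103681], [24, 0, 90962, 103681, 90879], [23, 0, 91051, 103681, 90868], [3, 0, 92131, 103685], [4, 0, 100972, 103685], [5, 0, 94024, 103685], [6, 0, 69991, 103685], [7, 0, 66958, 103685, 57250], [13, 0, 74847, 103685], [14, 0, 73617, 103685], [15, 0, 66962, 103685], [16, 0, 66961, 103685], [24, 0, 73615, 103685, 57811], [23, 0, 74843, 103685, 57756], [7, 0, 80541, 103686, 56917], [9, 0, 80844, 103686], [10, 0, 80847, 103686], [24, 0, 83144, 103686, 56931], [23, 0, 80851, 103686, 58188], [3, 0, 99992, 103691], [7, 0, 63533, 103691], [15, 0, 94257, 103691], [3, 0, 53406, 103693], [7, 0, 53409, 103693], [15, 0, 94267, 103693], [6, 0, 73217, 103699], [7, 0, 100790, 103699], [8,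 0, 100684, 103699], [6, 0, 74474, 103701], [7, 0, 73862, 103701], [5, 0, 89993, 103711], [7, 0, 89530, 103711], [5, 0, 85257, 103713], [7, 0, 84886, 103713], [8, 0, 85251, 103713], [9, 0, 85253, 103713], [5, 0, 81186, 103715], [6, 0, 81184, 103715], [7, 0, 81178, 103715, 76082], [10, 0, 94028, 103715], [15, 0, 81182, 103715], [16, 0, 81181, 103715], [24, 0, 83555, 103715, 76592], [23, 0, 81188, 103715, 78654], [5, 0, 86835, 103719], [15, 0, 100080, 103719], [7, 0, 78120, 103720], [9, 0, 78660, 103720], [23, 0, 78657, 103720], [24, 0, 78650, 103720], [25, 0, 78665, 103720], [26, 0, 78662, 103720], [3, 0, 57272, 103744], [7, 0, 103738, 103744], [10, 0, 73287, 103744], [24, 0, 57709, 103744], [25, 0, 57704, 103744], [4, 0, 92306, 103801], [7, 0, 57271, 103808], [10, 0, 76493, 103808], [15, 0, 57268, 103808], [23, 0, 57844, 103808], [24, 0, 57713, 103808], [25, 0, 57716, 103808], [26, 0, 57849, 103808], [3, 0, 100616, 103812], [7, 0, 60953, 103812], [9, 0, 76484, 103812], [10, 0, 83221, 103812], [24, 0, 61343, 103812], [25, 0, 61291, 103812], [4, 0, 101381, 103885,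 68433], [4, 0, 101310, 103885], [5, 0, 90860, 103885], [13, 0, 96676, 103885], [15, 0, 92009, 103885], [16, 0, 99586, 103885], [24, 0, 86681, 103885, 84761], [23, 0, 84381, 103885, 86960], [4, 0, 67850, 103887], [7, 0, 56078, 103893], [4, 0, 100158, 103894], [6, 0, 100941, 103894], [8, 0, 57267, 103894], [9, 0, 83185, 103894], [10, 0, 76499, 103894], [13, 0, 101024, 103894], [14, 0, 101021, 103894], [23, 0, 57840, 103894], [24, 0, 57725, 103894], [25, 0, 57720, 103894], [26, 0, 57837, 103894], [5, 0, 83158, 103905], [7, 0, 82782, 103905], [8, 0, 83160, 103905], [4, 0, 100331, 103906], [5, 0, 68404, 103906], [6, 0, 100333, 103906], [9, 0, 66937, 103906], [13, 0, 101107, 103906], [15, 0, 66809, 103906], [23, 0, 73475, 103906], [24, 0, 100448, 103906], [25, 0, 100454, 103906], [26, 0, 73493, 103906], [7, 0, 103640, 103933], [9, 0, 100534, 103933], [23, 0, 74367, 103933], [24, 0, 73273, 103933], [25, 0, 73141, 103933], [26, 0, 74378, 103933], [7, 0, 69457, 103935], [9, 0, 83249, 103935], [10, 0, 100552, 103935], [4, 0, 91318, 103993], [4, 0, 90164, 104005, 92088],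 [5, 0, 90242, 104005], [8, 0, 94284, 104005], [9, 0, 90244, 104005], [24, 0, 90301, 104005, 73252], [23, 0, 91153, 104005, 74460], [3, 0, 100088, 104015], [4, 0, 100314, 104015], [7, 0, 73339, 104015], [9, 0, 73414, 104015], [14, 0, 94067, 104015], [15, 0, 94069, 104015], [16, 0, 94071, 104015], [3, 0, 99950, 104017], [4, 0, 100250, 104017], [7, 0, 74615, 104017], [9, 0, 74690, 104017], [14, 0, 97604, 104017], [15, 0, 94077, 104017], [16, 0, 94079, 104017], [3, 0, 99870, 104031], [4, 0, 101030, 104031], [7, 0, 90025, 104031], [9, 0, 90056, 104031], [10, 0, 94162, 104031], [15, 0, 94271, 104031], [3, 0, 99958, 104033], [4, 0, 100932, 104033], [7, 0, 85319, 104033], [9, 0, 94204, 104033], [10, 0, 94168, 104033], [15, 0, 94268, 104033], [4, 0, 66956, 104043, 92100], [6, 0, 73034, 104043], [24, 0, 73676, 104043, 57812], [23, 0, 74917, 104043, 57747], [3, 0, 100096, 104053], [4, 0, 100995, 104053], [5, 0, 94126, 104053], [6, 0, 94184, 104053], [13, 0, 104046, 104053], [14, 0, 104054, 74849, 104053], [15, 0, 73612, 104053], [16, 0, 73611, 104053], [3, 0, 92136, 104055],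 [5, 0, 94138, 104055], [6, 0, 76781, 104055], [14, 0, 104044, 104055], [15, 0, 74840, 104055], [16, 0, 74839, 104055], [4, 0, 100884, 104057, 56915], [4, 0, 102826, 104057], [6, 0, 90858, 104057], [9, 0, 80843, 104057], [10, 0, 80841, 104057], [13, 0, 98818, 104057], [15, 0, 92012, 104057], [16, 0, 91610, 104057], [24, 0, 83143, 104057, 57164], [23, 0, 80848, 104057, 58288], [9, 0, 83150, 104063], [10, 0, 83148, 104063], [3, 0, 94215, 104064], [6, 0, 63695, 104064], [7, 0, 94217, 104064], [15, 0, 58184, 104064], [16, 0, 58183, 104064], [23, 0, 58188, 104064], [24, 0, 58190, 104064], [25, 0, 58192, 104064], [26, 0, 58194, 104064]]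
def dJ264 : List (List ℕ) := [[234, 4, 105359, 104971, 105556, 104673], [233, 2, 104347, 104352, 105552, 104346], [133, 1, 100100, 105602, 100101], [78, 1, 105524, 105528], [214, 7, 103755, 68233, 103763, 100953, 103961, 105528, 100432], [314, 1, 91469, 105528, 100547, 74372], [93, 3, 103945, 105610, 100545], [94, 2, 103972, 105610, 103945], [209, 3, 103856, 76523, 105610, 83225], [211, 4, 105517, 100509, 103856, 76523, 105610, 105613, 76527], [241, 4, 105314, 103947, 105614, 103931], [134, 0, 53076, 105620, 95439], [308, 2, 95902, 105622, 61347], [281, 0, 94302, 103841, 105608, 84550], [266, 4, 68367, 103502, 105626, 93584], [311, 2, 105628, 84640, 105626], [314, 3, 105628, 103767, 103769, 105626], [328, 1, 105628, 84652, 105626], [362, 12, 70163, 12289, 45435, 44566, 101080, 53570, 102482, 60972, 60974, 49198, 49600, 50012, 50019, 45822, 44689, 47858, 60926, 60928, 60930, 60932, 91651, 50225, 25936, 91931, 60942, 60944, 60946, 104082, 103839, 100433, 103950, 105626, 93848, 104534, 46951, 18813, 46950, 46943, 17998, 104803, 104798, 93601, 93599, 93597, 93595,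 93593, 93591], [7, 0, 93591, 105636, 99534], [15, 0, 93588, 105636, 92014], [3, 0, 93593, 105639], [8, 0, 93586, 105641], [54, 1, 69436, 105644], [125, 3, 94292, 104523, 105644], [126, 0, 104471, 78697, 105644], [134, 0, 103266, 105225, 105644], [114, 3, 105650, 73349, 90038], [37, 1, 99441, 105642], [85, 1, 92597, 51760, 105642], [89, 3, 92597, 51760, 105642, 105656, 91268], [93, 1, 96193, 96672, 105642], [201, 1, 92381, 81430, 51760, 105642], [205, 3, 99481, 99484, 51972, 51760, 105642, 105656, 75027], [265, 2, 104432, 68527, 104178, 105642], [94, 2, 105660, 98031, 53796], [309, 1, 79728, 105670, 91279], [310, 0, 98181, 105670, 91264], [234, 4, 105674, 53780, 102247, 101595], [241, 3, 105676, 105674, 53779, 95334], [133, 1, 105678, 105676, 85400], [303, 1, 77513, 105678, 75621], [304, 0, 75439, 105678, 77736], [221, 4, 79974, 87476, 87475, 105684, 75059, 75437, 58558], [242, 0, 105684, 99069, 99066, 105673], [362, 24, 14230, 46594, 46127, 46132, 46396, 50050, 50049, 95715, 65958, 101618, 105684, 94985, 14383, 13006, 45946, 48826, 101129, 97327, 102173, 102066,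 102172, 12677, 12685, 12676, 44608, 14251, 68570, 96939, 96934, 96418, 95307, 97721, 97718, 69122, 69124, 69126, 69128, 69130, 96694, 49295, 48130, 48126, 101711, 105135, 101239, 105425], [133, 1, 105685, 105689, 90150], [329, 17, 45947, 13007, 14382, 94984, 105685, 101619, 65959, 95714, 50048, 50051, 46397, 46133, 46126, 46595, 14231, 105691, 94857, 105690, 99071, 64015, 98920, 99022, 68926, 68928, 68930, 68932, 68934, 98001, 97998, 95570, 98911, 99203, 99198, 68608], [266, 3, 105694, 17379, 47270, 95108], [282, 2, 102055, 105694, 17381, 97362], [312, 0, 102061, 105694, 46724], [314, 3, 105694, 46686, 17160, 105009], [233, 0, 105013, 102223, 105012, 105702], [242, 2, 76762, 105702, 105704, 76763], [309, 1, 76894, 105702, 102058], [310, 0, 79204, 105702, 102060], [313, 0, 100311, 104806, 105702, 102064], [265, 3, 67346, 105712, 97781, 95304], [86, 2, 105714, 75500, 101953], [94, 1, 95314, 105714, 105708], [233, 0, 105718, 102228, 105719, 105709], [133, 3, 67129, 105720, 104798], [225, 3, 105722, 102124, 105060, 105720, 84833], [4, 0, 93600, 105725, 105045], [8,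 0, 104798, 105725, 84667], [12, 0, 105723, 105725], [7, 0, 93598, 105727, 102285], [4, 0, 84664, 105728], [5, 0, 84844, 105728, 81511], [8, 0, 84667, 105728], [10, 0, 84834, 105728, 81530], [9, 0, 84837, 105728, 84833], [24, 0, 87044, 105728, 79326], [23, 0, 84841, 105728, 76894], [16, 0, 93596, 105733, 55042], [16, 0, 93877, 105733], [4, 0, 58170, 105737], [8, 0, 58173, 105737], [10, 0, 83779, 105737, 73050], [9, 0, 73062, 105737, 83765], [24, 0, 58382, 105737, 61926], [23, 0, 58464, 105737, 63935], [7, 0, 74828, 105740], [10, 0, 81530, 105740], [15, 0, 104736, 105740], [24, 0, 74973, 105740, 79325], [23, 0, 75044, 105740, 76897], [3, 0, 105044, 105742], [6, 0, 85555, 105742, 85559], [7, 0, 105738, 105742], [9, 0, 84833, 105742], [12, 0, 105731, 105742], [13, 0, 105043, 105742], [15, 0, 104828, 105742], [16, 0, 105034, 105742], [24, 0, 87043, 105742, 74985], [23, 0, 84838, 105742, 75042], [3, 0, 86868, 105745, 105022], [8, 0, 105790, 86871, 105745], [3, 0, 105012, 105746], [7, 0, 105773, 76762, 105746], [12, 0, 105704, 105746], [14, 0, 105703, 105746], [15, 0,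 104806, 105746], [16, 0, 105009, 105746], [23, 0, 76894, 105746], [24, 0, 79204, 105746], [25, 0, 79209, 105746], [26, 0, 76938, 105746], [7, 0, 93594, 105749], [15, 0, 94364, 105749], [4, 0, 83534, 105757], [5, 0, 83776, 105757], [8, 0, 105759, 83537, 105757], [24, 0, 83782, 105757, 58372], [23, 0, 83773, 105757, 58466], [3, 0, 105046, 105758], [9, 0, 83765, 105758], [10, 0, 83767, 105758], [15, 0, 104780, 105758], [24, 0, 83769, 105758, 61925], [23, 0, 83770, 105758, 63932], [5, 0, 81514, 105760], [7, 0, 105841, 61592, 105760], [15, 0, 104810, 105760], [16, 0, 105025, 105760], [24, 0, 61926, 105760], [25, 0, 61814, 105760], [7, 0, 63674, 105762], [15, 0, 104820, 105762], [16, 0, 105014, 105762], [23, 0, 63935, 105762], [26, 0, 63936, 105762], [4, 0, 79028, 105770], [8, 0, 79031, 105770], [24, 0, 79325, 105770], [25, 0, 79230, 105770], [4, 0, 76760, 105772], [10, 0, 81524, 105772], [13, 0, 105773, 105707, 105772], [23, 0, 76897, 105772], [26, 0, 76937, 105772], [7, 0, 85408, 105777], [15, 0, 104728, 105777], [24, 0, 91287, 105777, 91285], [23, 0, 90311, 105777,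 90317], [3, 0, 105028, 105791], [9, 0, 87037, 105791], [10, 0, 87039, 105791], [13, 0, 105036, 105791], [15, 0, 104838, 105791], [16, 0, 105027, 105791], [4, 0, 73598, 105792], [8, 0, 73601, 105792], [9, 0, 73787, 105792], [23, 0, 75042, 105792], [24, 0, 73729, 105792], [25, 0, 73737, 105792], [26, 0, 75001, 105792], [3, 0, 105022, 105794], [4, 0, 101936, 105794], [5, 0, 92740, 105794], [8, 0, 92197, 105794, 86867], [14, 0, 101935, 105794], [15, 0, 94176, 105794], [16, 0, 99702, 105794], [5, 0, 73066, 105828], [7, 0, 56908, 105828], [15, 0, 56911, 105828], [24, 0, 58372, 105828], [25, 0, 58377, 105828], [4, 0, 81168, 105831], [8, 0, 105842, 81171, 105831], [10, 0, 81457, 105831], [24, 0, 81405, 105831], [25, 0, 81375, 105831], [4, 0, 61590, 105840], [5, 0, 73069, 105840], [9, 0, 73060, 105840], [10, 0, 81464, 105840], [24, 0, 61925, 105840], [25, 0, 61817, 105840], [5, 0, 81479, 105843], [10, 0, 81474, 105843], [15, 0, 104632, 105843], [24, 0, 81406, 105843], [25, 0, 81372, 105843], [5, 0, 91211, 105889], [7, 0, 91064, 105889], [15, 0, 104730, 105889], [16, 0,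 105032, 105889], [6, 0, 90313, 105891], [7, 0, 90158, 105891], [15, 0, 104582, 105891], [3, 0, 92199, 105925, 101508], [7, 0, 92201, 105989], [10, 0, 92774, 105989], [226, 3, 75490, 67129, 105720, 105767], [229, 6, 67128, 75491, 105060, 105720, 105781, 81528, 105994], [242, 2, 69970, 105709, 105720, 69971]]
def dJ268 : List (List ℕ) := [[369, 2, 107178, 12769, 107179], [173, 3, 95240, 95252, 107188], [236, 0, 97626, 99932, 99822, 66787, 99625, 99821, 107188], [0, 0], [297, 2, 52147, 12099, 46549, 107206], [250, 1, 107208, 52138, 51987], [263, 2, 107208, 52141, 107209], [279, 2, 107208, 52143, 107209], [281, 1, 107208, 52137, 52108, 52074], [282, 3, 107208, 52145, 65368, 65332], [295, 2, 107208, 52145, 107209], [298, 3, 107208, 59702, 59699, 42580], [343, 2, 107208, 52151, 107209], [359, 2, 107208, 52153, 107209], [375, 2, 107208, 52155, 107209], [225, 1, 51097, 26138, 46550, 107206], [0, 0], [0, 0], [0, 0], [329, 12, 102105, 55308, 102082, 96404, 98993, 96117, 98190, 97879, 95782, 97640, 65440, 97695, 97704, 55796, 96472, 96268, 60301, 46320, 26132, 46550, 46548,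 41471, 46549, 46517, 10765, 32887, 8784, 52113, 62550, 65922, 65453, 107232, 107234, 107236], [53, 2, 107238, 59764], [125, 3, 107238, 75582, 105267], [133, 3, 107238, 105411, 94253], [255, 0, 107238, 60063, 107239], [271, 0, 107238, 60027, 107239], [287, 0, 107238, 59991, 107239], [329, 1, 107234, 107236, 107238, 106463, 47487, 42589, 46670, 98107, 98102, 96282, 89306, 89308, 103255, 103252, 103176, 102069, 102066, 99177, 98425, 99058, 95691, 95390, 97833, 95203, 62880, 71857, 97358, 96999, 98297, 98292, 98298, 96092, 65698, 96093], [335, 0, 107238, 59906, 107239], [351, 0, 107238, 59860, 107239], [367, 0, 107238, 59814, 107239], [363, 2, 107236, 107258, 107237], [367, 0, 107234, 107260, 107235], [347, 2, 107236, 107256, 107237], [351, 0, 107234, 107264, 107235], [331, 2, 107236, 107254, 107237], [335, 0, 107234, 107268, 107235], [249, 3, 107233, 96093, 107252], [266, 3, 96175, 60711, 60591, 107252], [279, 2, 107253, 60722, 107252], [295, 2, 107253, 60724, 107252], [313, 1, 106826, 106830, 60920, 107252], [329, 22, 105348, 60580, 103032, 68589, 96443, 96446, 98993,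 59143, 99126, 102139, 105062, 52750, 105063, 102142, 103185, 103182, 70248, 95803, 96418, 95369, 96269, 71081, 98353, 98346, 71075, 101823, 59765, 101792, 97950, 96175, 60592, 96187, 60588, 107252], [54, 2, 107235, 107282, 54304], [4, 0, 107237, 107285], [8, 0, 107234, 107285], [133, 1, 107282, 107135, 82471], [69, 1, 107125, 107290], [233, 1, 105238, 104977, 105312, 107290], [38, 1, 54307, 107286], [86, 0, 101246, 86237, 107286], [94, 0, 101338, 107126, 107286], [265, 0, 97661, 103031, 107286, 107249], [266, 4, 50057, 50075, 101248, 107286], [0, 0], [0, 0], [345, 19, 97640, 65440, 97695, 97694, 65441, 97641, 95783, 97878, 98191, 96116, 96117, 98190, 97879, 95782, 97640, 65440, 97695, 97704, 55796, 96472, 96268, 60301, 46320, 26132, 46550, 46548, 40781, 12300, 45189, 12925, 88715, 103255, 103252, 103176, 102175, 12310, 46844, 46839, 95036, 96522, 101641, 64521, 95802, 107053, 107306, 107308], [250, 1, 107310, 95783, 55589], [263, 2, 107310, 60466, 107311], [265, 1, 107310, 97634, 70471, 71568], [279, 2, 107310, 60448, 107311], [281, 1, 107310, 97638, 18791, 107140],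 [282, 3, 107310, 60430, 97636, 101232], [295, 2, 107310, 60430, 107311], [298, 3, 107310, 60482, 97890, 107130], [343, 2, 107310, 60399, 107311], [359, 2, 107310, 60377, 107311], [375, 2, 107310, 60355, 107311], [367, 0, 107308, 107332, 107309], [351, 0, 107308, 107330, 107309], [335, 0, 107308, 107328, 107309], [287, 0, 107308, 107324, 107309], [271, 0, 107308, 107318, 107309], [266, 4, 107342, 107307, 101724, 59049], [250, 2, 52199, 52614, 107344], [250, 0, 107346, 52199, 107344], [265, 3, 82646, 97684, 97456, 107344], [281, 3, 94900, 107065, 52646, 107344], [0, 0], [0, 0], [0, 0], [0, 0], [0, 0], [0, 0], [0, 0], [0, 0], [0, 0], [0, 0], [0, 0], [0, 0], [0, 0], [0, 0], [0, 0], [0, 0], [361, 18, 96269, 96473, 55797, 97705, 97694, 65441, 97641, 107311, 107309, 107307, 107052, 95803, 64520, 101640, 96523, 95037, 46838, 46845, 12311, 102174, 103177, 103253, 103254, 88714, 12924, 45188, 12301, 11810, 12300, 103034, 107354, 107356, 107358, 107360, 107362, 107364, 107366, 107368, 107370, 107372, 107374, 107376, 107378, 107380, 107382, 107384], [250, 1, 107386, 60301,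 42536], [263, 2, 107386, 60481, 107387], [265, 1, 107386, 95368, 68858, 95307], [266, 3, 107386, 60463, 99032, 102034], [279, 2, 107386, 60463, 107387], [295, 2, 107386, 60445, 107387], [313, 1, 107386, 106591, 73738, 106272], [329, 12, 107384, 107386, 96269, 96473, 55797, 97705, 97694, 65441, 97641, 107311, 107309, 107307, 107052, 95803, 64520, 101640, 96523, 95037, 46838, 46845, 12311, 102174, 88773, 102175, 102173, 102066, 99177, 98425, 99058, 95691, 95390, 97833, 101279, 55785, 105344], [4, 0, 107382, 107403, 105345], [7, 0, 107385, 107403], [7, 0, 107380, 107405, 55784], [15, 0, 107378, 107409, 101206], [8, 0, 107376, 107411, 62880], [3, 0, 107374, 107413, 71857], [8, 0, 107372, 107415, 97358], [15, 0, 107370, 107417, 96999], [7, 0, 107368, 107419, 98297], [4, 0, 107366, 107421, 98292], [7, 0, 107364, 107423, 98298], [10, 0, 107362, 107425, 67819], [6, 0, 107360, 107427, 96285], [6, 0, 107358, 107429, 71051], [15, 0, 107356, 107431], [330, 32, 107386, 60301, 41257, 60300, 60302, 60304, 60306, 60308, 97487, 97484, 60314, 95783, 55289, 96421, 96424, 60324, 59756,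 59758, 102101, 102104, 59764, 59766, 59768, 60595, 60593, 60591, 60589, 96998, 101219, 71267, 70196, 97390, 105254, 103054], [343, 2, 107386, 60412, 107387], [359, 2, 107386, 60390, 107387], [375, 2, 107386, 60368, 107387], [311, 2, 107433, 60556, 107387], [328, 1, 107433, 60561, 107387], [315, 1, 77364, 107394, 107444], [316, 2, 59546, 107392, 107444], [320, 2, 60872, 107406, 107444], [326, 2, 100156, 107400, 107444], [327, 1, 24055, 107388, 107444], [383, 2, 107445, 107391, 107444], [395, 2, 107445, 107397, 107444], [405, 2, 107445, 107399, 107444], [421, 1, 107445, 107436, 107444], [423, 1, 107445, 107438, 107444], [425, 1, 107445, 107440, 107444], [133, 1, 107450, 107040, 103661], [308, 2, 103672, 107468, 107443], [0, 0], [0, 0], [0, 0], [0, 0], [0, 0], [0, 0], [0, 0], [0, 0], [329, 17, 98116, 97898, 54134, 95472, 38767, 11861, 47928, 95030, 67097, 67095, 99247, 99252, 46259, 46254, 24157, 46141, 41464, 46140, 46519, 2619, 37307, 4463, 32892, 37012, 46797, 13649, 107472, 107474, 107476, 107478, 107480, 107482, 107484, 107486], [250, 1, 107488, 98317, 54084],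 [263, 2, 107488, 67402, 107489], [265, 1, 107488, 101631, 52802, 98950], [266, 3, 107488, 67360, 98112, 99004], [279, 2, 107488, 67360, 107489], [281, 1, 107488, 98403, 52780, 98950], [282, 3, 107488, 67318, 98285, 99004], [295, 2, 107488, 67318, 107489], [297, 1, 107488, 98305, 62528, 98966], [311, 2, 107488, 98325, 98938], [312, 1, 107488, 98331, 98910], [327, 2, 107488, 98333, 98910], [328, 1, 107488, 98327, 98938], [343, 2, 107488, 67267, 107489], [359, 2, 107488, 67223, 107489], [375, 2, 107488, 67179, 107489], [368, 1, 107486, 107520, 107487], [364, 3, 107484, 107522, 107485], [368, 1, 107482, 107524, 107483], [375, 2, 107480, 107526, 107481], [367, 0, 107478, 107528, 107479], [363, 2, 107476, 107530, 107477], [367, 0, 107474, 107532, 107475], [352, 1, 107486, 107518, 107487], [348, 3, 107484, 107536, 107485], [352, 1, 107482, 107538, 107483], [359, 2, 107480, 107540, 107481], [351, 0, 107478, 107542, 107479], [347, 2, 107476, 107544, 107477], [351, 0, 107474, 107546, 107475], [336, 1, 107486, 107516, 107487], [332, 3, 107484, 107550, 107485], [336, 1, 107482,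 107552, 107483], [343, 2, 107480, 107554, 107481], [335, 0, 107478, 107556, 107479], [331, 2, 107476, 107558, 107477], [335, 0, 107474, 107560, 107475], [319, 2, 77972, 95963, 107514, 107487], [3, 0, 107484, 107564, 101926], [8, 0, 107487, 107564], [8, 0, 107482, 107567, 53815], [16, 0, 107480, 107571, 102002], [7, 0, 107478, 107573, 103093], [4, 0, 107476, 107575, 101263], [8, 0, 107474, 107577], [320, 2, 77923, 95724, 107514], [323, 1, 56358, 106657, 107514], [330, 4, 107473, 14228, 47025, 46993, 49940, 49962, 50074, 50047, 96756, 61944, 95340, 96817, 96963, 49609, 48420, 48429, 105049, 102124, 105054, 95967, 54143, 106525, 106517, 97259, 107490, 107580, 106679, 106684, 98839, 98840, 53961, 98841, 72243, 105591], [133, 1, 51162, 103384, 107584], [255, 2, 107585, 78031, 107584], [271, 2, 107585, 78021, 107584], [287, 2, 107585, 78007, 107584], [265, 3, 107590, 107473, 46729, 97366], [38, 1, 55778, 107594], [94, 0, 62932, 100260, 107594]]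
def dJ272 : List (List ℕ) := [[0, 0], [0, 0], [0, 0], [0, 0], [0, 0], [0, 0], [0, 0], [0, 0], [0, 0], [0, 0], [0, 0], [0, 0], [0, 0], [0, 0], [0, 0], [0, 0], [0, 0], [329, 32, 75100, 41568, 75101, 75887, 95724, 101623, 96343, 97765, 52837, 108784, 108786, 108788, 108790, 108792, 108794, 108796, 108798, 108800, 108802, 108804, 108806, 108808, 108810, 108812, 108814, 108816, 108818, 108820, 108822, 108824, 108826, 108828, 108830, 108832], [54, 2, 108834, 75099], [125, 1, 108834, 75111, 103344], [126, 2, 108834, 87164, 103342], [133, 1, 108834, 105223, 51608], [217, 1, 108834, 87912, 87917, 103338], [220, 6, 108834, 87164, 87167, 64037, 59956, 103338, 101731], [241, 2, 108834, 105223, 99975, 53404], [255, 2, 108834, 75103, 108835], [271, 2, 108834, 75105, 108835], [287, 2, 108834, 75109, 108835], [303, 2, 108834, 75113, 105240], [304, 1, 108834, 77068, 105255], [319, 2, 108834, 77074, 105255], [320, 1, 108834, 75115, 105240], [329, 14, 108830, 108832, 108834, 75100, 11927, 13018, 45944, 36915, 6528, 1391, 940, 37956, 47413, 47389, 12928, 55800, 55797, 55795, 55793,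 55791, 55880, 55790, 96669, 24193, 23734, 46551, 106893, 102101, 101955, 105678, 98979, 55293, 55291, 55289, 103024], [8, 0, 108831, 108865], [16, 0, 108828, 108865, 103025], [7, 0, 108826, 108869, 55288], [4, 0, 108824, 108871, 55290], [7, 0, 108822, 108873, 55292], [15, 0, 108820, 108875, 55294], [8, 0, 108818, 108877, 55296], [3, 0, 108816, 108879, 96903], [8, 0, 108814, 108881, 96904], [15, 0, 108812, 108883, 55644], [7, 0, 108810, 108885, 55641], [4, 0, 108808, 108887, 97877], [7, 0, 108806, 108889, 97878], [16, 0, 108804, 108891, 98050], [8, 0, 108802, 108893, 39074], [3, 0, 108800, 108895, 46982], [8, 0, 108798, 108897, 46995], [16, 0, 108796, 108899, 98627], [7, 0, 108794, 108901, 52848], [4, 0, 108792, 108903, 101382], [7, 0, 108790, 108905, 52245], [16, 0, 108788, 108907, 103310], [7, 0, 108786, 108909], [335, 2, 108834, 75117, 108835], [351, 2, 108834, 75119, 108835], [367, 2, 108834, 75121, 108835], [363, 0, 108832, 108916, 108833], [347, 0, 108832, 108914, 108833], [331, 0, 108832, 108912, 108833], [53, 1, 75873, 108910], [125, 1, 108502, 86244, 108910],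 [126, 2, 105429, 76044, 108910], [133, 1, 57278, 103381, 108910], [217, 1, 107785, 107826, 86244, 108910], [218, 3, 107282, 71253, 76077, 108910], [255, 2, 108911, 75999, 108910], [271, 2, 108911, 75987, 108910], [287, 2, 108911, 75975, 108910], [303, 2, 107585, 78071, 108910], [320, 1, 107585, 78088, 108910], [330, 5, 13486, 14310, 44611, 47154, 50201, 50175, 49227, 96331, 63986, 95360, 63982, 96706, 49573, 23732, 48822, 102178, 65492, 102040, 95982, 98783, 98752, 98493, 65480, 98746, 95725, 97845, 97846, 103021, 103023, 79523, 103022, 66119, 105592, 108910], [330, 13, 99140, 97124, 95650, 96302, 97841, 97838, 103143, 103146, 88404, 98825, 98828, 98848, 63983, 95361, 63987, 96332, 103137, 103134, 64745, 101993, 105701, 41771, 105700, 102045, 102042, 99258, 98938, 95725, 97845, 97846, 103021, 66119, 105592, 108910], [335, 2, 108911, 75950, 108910], [351, 2, 108911, 75936, 108910], [367, 2, 108911, 75922, 108910], [266, 3, 108948, 67348, 67126, 105712], [314, 3, 108948, 99150, 106303, 106292], [54, 1, 82470, 108866], [133, 3, 108256, 108263, 108866], [134, 0, 54305,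 107135, 108866], [255, 0, 108867, 82655, 108866], [271, 0, 108867, 82633, 108866], [287, 0, 108867, 82611, 108866], [303, 0, 107289, 82709, 108866], [304, 3, 108254, 82702, 108866], [319, 0, 108254, 82717, 108866], [320, 3, 107289, 82714, 108866], [313, 3, 108978, 107233, 93529, 104077], [315, 1, 108978, 107274, 65075], [318, 2, 108978, 108935, 108944], [327, 1, 108978, 107253, 60921], [328, 2, 108978, 107233, 65921], [266, 2, 71853, 108988, 108968, 108832], [265, 3, 108852, 108990, 71856, 62552], [0, 0], [0, 0], [0, 0], [0, 0], [0, 0], [0, 0], [0, 0], [361, 10, 55781, 55779, 55777, 62820, 25849, 25926, 50596, 95190, 55288, 55290, 55292, 55294, 55296, 96903, 96904, 55302, 99207, 99204, 55308, 55310, 55312, 103107, 103108, 55318, 12929, 47388, 47412, 37957, 941, 1390, 6529, 36914, 45945, 13019, 11926, 11910, 11927, 85639, 85637, 108994, 108996, 108998, 109000, 109002, 109004, 109006], [249, 0, 109008, 55782, 55977], [263, 0, 109008, 55978, 109009], [279, 0, 109008, 55948, 109009], [295, 0, 109008, 55918, 109009], [297, 4, 109008, 103321, 107074, 95432], [327, 0,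 109008, 62798, 105436], [329, 1, 109002, 109004, 109006, 109008, 55781, 55779, 55777, 95284, 55277, 55275, 55273, 55271, 23768, 24084, 48127, 48112, 47413, 47389, 12928, 55319, 103109, 103106, 55313, 101868, 88189, 97140, 95228, 97763, 52837, 108784, 108911, 103311, 52394, 103310], [330, 33, 109023, 75950, 109022, 109002, 109004, 109006, 109008, 55781, 55779, 55777, 95284, 55277, 55275, 55273, 55271, 23768, 24084, 48127, 48114, 941, 1390, 6529, 36836, 49780, 49771, 24034, 99167, 52233, 99018, 55624, 98625, 52848, 101382, 52245], [343, 0, 109008, 55888, 109009], [345, 46, 109002, 109004, 109006, 109008, 55781, 55779, 55777, 62820, 25849, 25926, 50596, 107133, 108866, 108832, 108834, 75100, 11927, 13018, 45944, 42609, 49780, 49771, 24034, 24035, 49770, 49781, 36837, 6528, 1391, 940, 941, 1390, 6529, 36836, 49780, 49771, 24034, 99167, 52233, 99018, 55624, 98625, 52848, 101382, 52245, 109024], [359, 0, 109008, 55858, 109009], [375, 0, 109008, 55828, 109009], [368, 3, 109006, 109032, 109007], [364, 1, 109004, 109034, 109005], [368, 3, 109002, 109036, 109003], [370,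 1, 109000, 109038, 109001], [365, 2, 108998, 109040, 108999], [366, 1, 108996, 109042, 108997], [352, 3, 109006, 109030, 109007], [348, 1, 109004, 109046, 109005], [354, 1, 109000, 109028, 109001], [349, 2, 108998, 109050, 108999], [350, 1, 108996, 109052, 108997], [336, 3, 109006, 109026, 109007], [332, 1, 109004, 109056, 109005], [336, 3, 109002, 109058, 109003], [338, 1, 109000, 109060, 109001], [333, 2, 108998, 109062, 108999], [334, 1, 108996, 109064, 108997], [250, 0, 109023, 103311, 109024], [265, 3, 95897, 95427, 103301, 109024], [279, 0, 109025, 52510, 109024], [281, 3, 95878, 103237, 103305, 109024], [295, 0, 109025, 52452, 109024], [311, 0, 107075, 59978, 109024], [312, 3, 103225, 59105, 109024], [313, 3, 103880, 103568, 105137, 109024], [327, 0, 103225, 58832, 109024], [328, 3, 107075, 59969, 109024], [321, 1, 109086, 95432, 109020], [61, 2, 109088, 109001], [257, 0, 109090, 109013, 109091], [273, 0, 109090, 109015, 109091], [289, 0, 109090, 109017, 109091], [297, 0, 109090, 109011, 87833, 89466], [249, 1, 103188, 89438, 109098], [281, 2, 108998, 109097,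 109100, 79536], [263, 0, 109103, 79539, 109102], [279, 0, 109103, 79541, 109102], [282, 0, 108997, 108995, 85799, 109102], [285, 2, 108996, 109108, 108997], [281, 3, 109110, 108995, 85702, 109101], [113, 3, 109075, 109001, 109112], [217, 2, 109112, 109114, 95438, 107069], [253, 0, 109113, 109093, 109112], [269, 0, 109113, 109095, 109112], [54, 1, 95435, 109116], [125, 1, 109116, 109000, 109002], [126, 1, 95432, 109116, 109090], [127, 1, 109124, 109116, 109000, 109089, 109126], [130, 0, 109006, 109126, 95432, 109116, 109122], [130, 2, 109131, 95435, 109116, 109090, 109126], [241, 4, 105516, 103807, 107073, 109116], [304, 3, 109006, 109019, 109116], [319, 0, 109006, 109021, 109116], [329, 31, 109133, 107070, 67735, 107071, 107075, 59768, 101210, 98631, 54310, 97114, 99101, 59756, 99252, 46321, 48990, 49010, 37763, 922, 1400, 8785, 48434, 48429, 48395, 24742, 54116, 96817, 96810, 61944, 95290, 97783, 97780, 62564, 105436, 109116], [134, 2, 104145, 109135, 109117], [138, 3, 103849, 104145, 109135, 109117, 95434], [225, 1, 109131, 109144, 103849, 103863], [241, 2, 109122,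 109144, 109083, 109002], [307, 1, 109080, 109144, 103874], [308, 0, 107099, 109144, 103876], [133, 3, 104160, 109152, 109127], [226, 3, 104163, 104160, 109152, 109128], [242, 2, 109122, 107090, 109152, 109132], [77, 2, 109158, 109149], [93, 2, 109148, 109140, 109158], [210, 3, 108998, 109140, 109158, 108999], [261, 0, 109158, 109093, 109159], [277, 0, 109158, 109095, 109159], [293, 0, 109158, 109097, 109159], [309, 0, 109158, 109136, 109161], [310, 1, 109148, 109136, 109158], [313, 0, 109158, 109099, 103411, 87824], [325, 2, 109148, 109138, 109158], [326, 3, 109158, 109138, 109161], [327, 1, 109180, 109177, 87825], [383, 2, 109180, 109166, 109181], [395, 2, 109180, 109168, 109181], [405, 2, 109180, 109170, 109181], [265, 0, 103183, 109101, 109162, 109186], [266, 4, 109168, 109005, 109190, 103276], [242, 2, 104145, 105616, 109146, 109006], [219, 3, 108996, 108998, 109000, 109089, 109126, 95431, 95429], [134, 0, 104238, 105624, 109196]]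
def dJ276 : List (List ℕ) := [[298, 3, 110388, 110132, 110119, 110365], [313, 1, 110388, 110056, 97576, 81579], [314, 3, 110388, 110101, 110111, 106563], [343, 2, 110388, 110065, 110389], [359, 2, 110388, 110067, 110389], [375, 2, 110388, 110069, 110389], [0, 0], [311, 2, 110291, 47043, 110412], [309, 1, 110414, 110322, 87294], [310, 2, 110414, 110325, 82841], [381, 2, 110414, 110299, 110415], [393, 2, 110414, 110327, 110415], [403, 2, 110414, 110329, 110415], [414, 2, 110414, 110333, 110330], [415, 1, 110414, 110316, 110415], [417, 1, 110414, 110314, 110415], [419, 1, 110414, 110312, 110415], [309, 0, 110037, 80595, 110418], [326, 3, 110037, 80597, 110418], [0, 0], [0, 0], [0, 0], [0, 0], [0, 0], [0, 0], [0, 0], [0, 0], [0, 0], [0, 0], [0, 0], [0, 0], [0, 0], [0, 0], [0, 0], [0, 0], [0, 0], [0, 0], [0, 0], [0, 0], [0, 0], [0, 0], [0, 0], [0, 0], [0, 0], [0, 0], [0, 0], [0, 0], [0, 0], [0, 0], [329, 32, 110291, 41601, 110290, 110292, 110438, 110440, 110442, 110444, 110446, 110448, 110450, 110452, 110454, 110456, 110458, 110460, 110462, 110464, 110466, 110468, 110470,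 110472, 110474, 110476, 110478, 110480, 110482, 110484, 110486, 110488, 110490, 110492, 110494, 110496], [217, 1, 110498, 110396, 110387, 110499], [242, 2, 110498, 110322, 106183, 98809], [255, 2, 110498, 110299, 110499], [271, 2, 110498, 110327, 110499], [287, 2, 110498, 110329, 110499], [335, 2, 110498, 110317, 110499], [351, 2, 110498, 110315, 110499], [367, 2, 110498, 110313, 110499], [363, 0, 110496, 110514, 110497], [367, 2, 110494, 110516, 110495], [376, 1, 110492, 110518, 110493], [368, 3, 110490, 110520, 110491], [364, 1, 110488, 110522, 110489], [368, 3, 110486, 110524, 110487], [375, 0, 110484, 110526, 110485], [367, 2, 110482, 110528, 110483], [363, 0, 110480, 110530, 110481], [367, 2, 110478, 110532, 110479], [375, 0, 110476, 110534, 110477], [368, 3, 110474, 110536, 110475], [364, 1, 110472, 110538, 110473], [368, 3, 110470, 110540, 110471], [376, 1, 110468, 110542, 110469], [367, 2, 110466, 110544, 110467], [363, 0, 110464, 110546, 110465], [367, 2, 110462, 110548, 110463], [376, 1, 110460, 110550, 110461], [368, 3, 110458, 110552, 110459], [364,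 1, 110456, 110554, 110457], [368, 3, 110454, 110556, 110455], [376, 1, 110452, 110558, 110453], [367, 2, 110450, 110560, 110451], [363, 0, 110448, 110562, 110449], [367, 2, 110446, 110564, 110447], [375, 0, 110444, 110566, 110445], [368, 3, 110442, 110568, 110443], [364, 1, 110440, 110570, 110441], [347, 0, 110496, 110512, 110497], [351, 2, 110494, 110574, 110495], [360, 1, 110492, 110576, 110493], [352, 3, 110490, 110578, 110491], [348, 1, 110488, 110580, 110489], [352, 3, 110486, 110582, 110487], [359, 0, 110484, 110584, 110485], [351, 2, 110482, 110586, 110483], [347, 0, 110480, 110588, 110481], [351, 2, 110478, 110590, 110479], [359, 0, 110476, 110592, 110477], [352, 3, 110474, 110594, 110475], [348, 1, 110472, 110596, 110473], [352, 3, 110470, 110598, 110471], [360, 1, 110468, 110600, 110469], [351, 2, 110466, 110602, 110467], [347, 0, 110464, 110604, 110465], [351, 2, 110462, 110606, 110463], [360, 1, 110460, 110608, 110461], [352, 3, 110458, 110610, 110459], [348, 1, 110456, 110612, 110457], [352, 3, 110454, 110614, 110455], [360, 1, 110452, 110616, 110453],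 [351, 2, 110450, 110618, 110451], [347, 0, 110448, 110620, 110449], [351, 2, 110446, 110622, 110447], [359, 0, 110444, 110624, 110445], [352, 3, 110442, 110626, 110443], [348, 1, 110440, 110628, 110441], [331, 0, 110496, 110510, 110497], [335, 2, 110494, 110632, 110495], [344, 1, 110492, 110634, 110493], [336, 3, 110490, 110636, 110491], [332, 1, 110488, 110638, 110489], [336, 3, 110486, 110640, 110487], [343, 0, 110484, 110642, 110485], [335, 2, 110482, 110644, 110483], [331, 0, 110480, 110646, 110481], [335, 2, 110478, 110648, 110479], [343, 0, 110476, 110650, 110477], [336, 3, 110474, 110652, 110475], [332, 1, 110472, 110654, 110473], [336, 3, 110470, 110656, 110471], [344, 1, 110468, 110658, 110469], [335, 2, 110466, 110660, 110467], [331, 0, 110464, 110662, 110465], [335, 2, 110462, 110664, 110463], [344, 1, 110460, 110666, 110461], [336, 3, 110458, 110668, 110459], [332, 1, 110456, 110670, 110457], [336, 3, 110454, 110672, 110455], [344, 1, 110452, 110674, 110453], [335, 2, 110450, 110676, 110451], [331, 0, 110448, 110678, 110449], [335, 2, 110446, 110680,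 110447], [343, 0, 110444, 110682, 110445], [336, 3, 110442, 110684, 110443], [332, 1, 110440, 110686, 110441], [283, 0, 110496, 110508, 110497], [287, 2, 110494, 110690, 110495], [296, 1, 110492, 110692, 110493], [288, 3, 110490, 110694, 110491], [284, 1, 110488, 110696, 110489], [288, 3, 110486, 110698, 110487], [295, 0, 110484, 110700, 110485], [287, 2, 110482, 110702, 110483], [283, 0, 110480, 110704, 110481], [287, 2, 110478, 110706, 110479], [295, 0, 110476, 110708, 110477], [288, 3, 110474, 110710, 110475], [284, 1, 110472, 110712, 110473], [288, 3, 110470, 110714, 110471], [296, 1, 110468, 110716, 110469], [287, 2, 110466, 110718, 110467], [283, 0, 110464, 110720, 110465], [287, 2, 110462, 110722, 110463], [296, 1, 110460, 110724, 110461], [288, 3, 110458, 110726, 110459], [284, 1, 110456, 110728, 110457], [288, 3, 110454, 110730, 110455], [296, 1, 110452, 110732, 110453], [287, 2, 110450, 110734, 110451], [283, 0, 110448, 110736, 110449], [287, 2, 110446, 110738, 110447], [295, 0, 110444, 110740, 110445], [288, 3, 110442, 110742, 110443], [284, 1, 110440,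 110744, 110441], [267, 0, 110496, 110506, 110497], [271, 2, 110494, 110748, 110495], [280, 1, 110492, 110750, 110493], [272, 3, 110490, 110752, 110491], [268, 1, 110488, 110754, 110489], [272, 3, 110486, 110756, 110487], [279, 0, 110484, 110758, 110485], [271, 2, 110482, 110760, 110483], [267, 0, 110480, 110762, 110481], [271, 2, 110478, 110764, 110479], [279, 0, 110476, 110766, 110477], [272, 3, 110474, 110768, 110475], [268, 1, 110472, 110770, 110473], [272, 3, 110470, 110772, 110471], [280, 1, 110468, 110774, 110469], [271, 2, 110466, 110776, 110467], [267, 0, 110464, 110778, 110465], [271, 2, 110462, 110780, 110463], [280, 1, 110460, 110782, 110461], [272, 3, 110458, 110784, 110459], [268, 1, 110456, 110786, 110457], [272, 3, 110454, 110788, 110455], [280, 1, 110452, 110790, 110453], [271, 2, 110450, 110792, 110451], [267, 0, 110448, 110794, 110449], [271, 2, 110446, 110796, 110447]]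
def dJ280 : List (List ℕ) := [[310, 1, 111990, 64043, 94640], [325, 2, 111990, 64045, 94640], [324, 0, 104237, 107021, 112002], [0, 0], [265, 2, 39291, 11966, 111956, 112006], [263, 2, 112008, 42096, 112009], [279, 2, 112008, 22327, 112009], [295, 2, 112008, 22329, 112009], [313, 1, 112008, 39079, 46574, 107617], [314, 3, 112008, 46578, 46301, 104505], [343, 2, 112008, 41976, 112009], [359, 2, 112008, 41154, 112009], [375, 2, 112008, 22331, 112009], [0, 0], [281, 2, 111747, 11968, 111956, 112026], [263, 2, 112028, 111761, 112029], [279, 2, 112028, 111763, 112029], [295, 2, 112028, 111765, 112029], [298, 3, 112028, 111836, 111823, 94643], [313, 1, 112028, 111758, 89238, 101209], [314, 3, 112028, 111803, 111813, 104451], [343, 2, 112028, 111767, 112029], [359, 2, 112028, 111769, 112029], [375, 2, 112028, 111771, 112029], [173, 0, 105151, 105269, 112040], [69, 2, 112048, 107471], [0, 0], [297, 2, 46937, 46925, 111956, 112052], [263, 2, 112054, 42481, 112055], [279, 2, 112054, 25440, 112055], [282, 3, 112054, 25438, 46632, 94643], [295, 2, 112054, 25438, 112055], [314,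 3, 112054, 48506, 48489, 56664], [343, 2, 112054, 41319, 112055], [359, 2, 112054, 40633, 112055], [375, 2, 112054, 25436, 112055], [173, 0, 107876, 107882, 112064], [69, 2, 112072, 108229], [0, 0], [311, 2, 111957, 46924, 112076], [307, 1, 112078, 111995, 72391], [308, 2, 112078, 112004, 100451], [309, 1, 112078, 111990, 64041], [310, 2, 112078, 111993, 57693], [381, 2, 112078, 111965, 112079], [393, 2, 112078, 111997, 112079], [403, 2, 112078, 111999, 112079], [414, 2, 112078, 112003, 112000], [415, 1, 112078, 111982, 112079], [417, 1, 112078, 111980, 112079], [419, 1, 112078, 111978, 112079], [309, 0, 102835, 102838, 112086], [326, 3, 102835, 102840, 112086], [0, 0], [0, 0], [0, 0], [0, 0], [0, 0], [0, 0], [0, 0], [0, 0], [0, 0], [0, 0], [0, 0], [0, 0], [0, 0], [0, 0], [0, 0], [0, 0], [0, 0], [0, 0], [0, 0], [0, 0], [0, 0], [0, 0], [0, 0], [0, 0], [0, 0], [0, 0], [0, 0], [0, 0], [0, 0], [0, 0], [329, 32, 111957, 41576, 111956, 111958, 112106, 112108, 112110, 112112, 112114, 112116, 112118, 112120, 112122, 112124, 112126, 112128, 112130, 112132, 112134, 112136,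 112138, 112140, 112142, 112144, 112146, 112148, 112150, 112152, 112154, 112156, 112158, 112160, 112162, 112164], [133, 1, 112166, 111995, 107035], [134, 2, 112166, 112004, 103898], [255, 2, 112166, 111965, 112167], [271, 2, 112166, 111997, 112167], [287, 2, 112166, 111999, 112167], [335, 2, 112166, 111983, 112167], [351, 2, 112166, 111981, 112167], [367, 2, 112166, 111979, 112167], [363, 0, 112164, 112182, 112165], [367, 2, 112162, 112184, 112163], [376, 1, 112160, 112186, 112161], [368, 3, 112158, 112188, 112159], [364, 1, 112156, 112190, 112157], [368, 3, 112154, 112192, 112155], [375, 0, 112152, 112194, 112153], [367, 2, 112150, 112196, 112151], [363, 0, 112148, 112198, 112149], [367, 2, 112146, 112200, 112147], [375, 0, 112144, 112202, 112145], [368, 3, 112142, 112204, 112143], [364, 1, 112140, 112206, 112141], [368, 3, 112138, 112208, 112139], [376, 1, 112136, 112210, 112137], [367, 2, 112134, 112212, 112135], [363, 0, 112132, 112214, 112133], [367, 2, 112130, 112216, 112131], [376, 1, 112128, 112218, 112129], [368, 3, 112126, 112220, 112127], [364, 1, 112124,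 112222, 112125], [368, 3, 112122, 112224, 112123], [376, 1, 112120, 112226, 112121], [367, 2, 112118, 112228, 112119], [363, 0, 112116, 112230, 112117], [367, 2, 112114, 112232, 112115], [375, 0, 112112, 112234, 112113], [368, 3, 112110, 112236, 112111], [364, 1, 112108, 112238, 112109], [347, 0, 112164, 112180, 112165], [351, 2, 112162, 112242, 112163], [360, 1, 112160, 112244, 112161], [352, 3, 112158, 112246, 112159], [348, 1, 112156, 112248, 112157], [352, 3, 112154, 112250, 112155], [359, 0, 112152, 112252, 112153], [351, 2, 112150, 112254, 112151], [347, 0, 112148, 112256, 112149], [351, 2, 112146, 112258, 112147], [359, 0, 112144, 112260, 112145], [352, 3, 112142, 112262, 112143], [348, 1, 112140, 112264, 112141], [352, 3, 112138, 112266, 112139], [360, 1, 112136, 112268, 112137], [351, 2, 112134, 112270, 112135], [347, 0, 112132, 112272, 112133], [351, 2, 112130, 112274, 112131], [360, 1, 112128, 112276, 112129], [352, 3, 112126, 112278, 112127], [348, 1, 112124, 112280, 112125], [352, 3, 112122, 112282, 112123], [360, 1, 112120, 112284, 112121], [351,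 2, 112118, 112286, 112119], [347, 0, 112116, 112288, 112117], [351, 2, 112114, 112290, 112115], [359, 0, 112112, 112292, 112113], [352, 3, 112110, 112294, 112111], [348, 1, 112108, 112296, 112109], [331, 0, 112164, 112178, 112165], [335, 2, 112162, 112300, 112163], [344, 1, 112160, 112302, 112161], [336, 3, 112158, 112304, 112159], [332, 1, 112156, 112306, 112157], [336, 3, 112154, 112308, 112155], [343, 0, 112152, 112310, 112153], [335, 2, 112150, 112312, 112151], [331, 0, 112148, 112314, 112149], [335, 2, 112146, 112316, 112147], [343, 0, 112144, 112318, 112145], [336, 3, 112142, 112320, 112143], [332, 1, 112140, 112322, 112141], [336, 3, 112138, 112324, 112139], [344, 1, 112136, 112326, 112137], [335, 2, 112134, 112328, 112135], [331, 0, 112132, 112330, 112133], [335, 2, 112130, 112332, 112131], [344, 1, 112128, 112334, 112129], [336, 3, 112126, 112336, 112127], [332, 1, 112124, 112338, 112125], [336, 3, 112122, 112340, 112123], [344, 1, 112120, 112342, 112121], [335, 2, 112118, 112344, 112119], [331, 0, 112116, 112346, 112117], [335, 2, 112114, 112348, 112115],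 [343, 0, 112112, 112350, 112113], [336, 3, 112110, 112352, 112111], [332, 1, 112108, 112354, 112109], [283, 0, 112164, 112176, 112165], [287, 2, 112162, 112358, 112163], [296, 1, 112160, 112360, 112161], [288, 3, 112158, 112362, 112159], [284, 1, 112156, 112364, 112157], [288, 3, 112154, 112366, 112155], [295, 0, 112152, 112368, 112153], [287, 2, 112150, 112370, 112151], [283, 0, 112148, 112372, 112149], [287, 2, 112146, 112374, 112147], [295, 0, 112144, 112376, 112145], [288, 3, 112142, 112378, 112143], [284, 1, 112140, 112380, 112141], [288, 3, 112138, 112382, 112139], [296, 1, 112136, 112384, 112137], [287, 2, 112134, 112386, 112135], [283, 0, 112132, 112388, 112133], [287, 2, 112130, 112390, 112131], [296, 1, 112128, 112392, 112129], [288, 3, 112126, 112394, 112127], [284, 1, 112124, 112396, 112125]]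
def dJ284 : List (List ℕ) := [[226, 1, 107327, 107293, 113582, 113536], [133, 3, 113536, 113600, 107309], [0, 0], [361, 3, 66109, 99221, 99228, 98447, 98441, 98444, 97249, 97389, 70768, 55996, 101225, 64749, 105328, 107451, 107433, 96259, 96469, 95482, 97475, 97460, 65377, 97731, 113539, 113537, 113535, 107057, 95659, 62370, 101587, 102244, 95113, 12325, 46868, 46875, 106993, 85632, 85634, 85636, 85638, 11926, 45423, 44742, 12014, 44743, 107140, 113604], [250, 1, 113606, 59141, 42527], [263, 2, 113606, 59319, 113607], [265, 1, 113606, 96036, 72326, 101659], [266, 3, 113606, 59299, 99126, 102118], [279, 2, 113606, 59299, 113607], [282, 3, 113606, 59279, 99223, 107737], [295, 2, 113606, 59279, 113607], [297, 1, 113606, 99163, 59095, 108194], [298, 3, 113606, 59358, 55613, 107062], [311, 2, 113606, 59358, 107432], [312, 1, 113606, 60512, 107387], [313, 1, 113606, 106271, 74999, 106585], [327, 2, 113606, 60515, 107387], [328, 1, 113606, 59336, 107432], [330, 12, 113606, 96115, 96355, 62581, 96206, 97683, 101717, 103283, 103286, 87650, 98533, 98534, 98223, 98216, 96288,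 87662, 87664, 103267, 103262, 87151, 102157, 102181, 47013, 102180, 102154, 99075, 98489, 98932, 95695, 95401, 98067, 101237, 62569, 105347], [343, 2, 113606, 59248, 113607], [359, 2, 113606, 59226, 113607], [375, 2, 113606, 59204, 113607], [134, 2, 54857, 107038, 113636], [0, 0], [231, 4, 44865, 18800, 18796, 46643, 42641, 91735, 91736, 113646], [62, 2, 113648, 44865], [113, 2, 113648, 24695, 111892], [114, 1, 113648, 24693, 92275], [126, 1, 113648, 25428, 111777], [201, 2, 113648, 24693, 24689, 113649], [226, 3, 113648, 25392, 25861, 91735], [257, 2, 113648, 42482, 113649], [273, 2, 113648, 24699, 113649], [289, 2, 113648, 24701, 113649], [305, 2, 113648, 46785, 111892], [306, 1, 113648, 46783, 92275], [321, 2, 113648, 46778, 92275], [322, 1, 113648, 46388, 111892], [337, 2, 113648, 41306, 113649], [353, 2, 113648, 40620, 113649], [369, 2, 113648, 24703, 113649], [326, 2, 111927, 111912, 113674], [326, 2, 113675, 113683, 113673], [0, 0], [329, 10, 106261, 102993, 51169, 102812, 101388, 104262, 66824, 100698, 103474, 99943, 99948, 26183, 25913, 46557, 91560, 84891,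 104312, 104094, 51587, 46314, 26110, 46665, 46535, 41484, 46534, 46532, 10813, 32936, 933, 51000, 55026, 73214, 73189, 113686], [53, 2, 113688, 90155], [125, 3, 113688, 90338, 108054], [133, 3, 113688, 106095, 98923], [218, 1, 113688, 90324, 106266, 106285], [255, 0, 113688, 90293, 113689], [271, 0, 113688, 90277, 113689], [287, 0, 113688, 90261, 113689], [303, 0, 113688, 91223, 106400], [304, 3, 113688, 90319, 113199], [319, 0, 113688, 90331, 113199], [320, 3, 113688, 91216, 106400], [329, 1, 113688, 106261, 102993, 103000, 72553, 72526, 100019, 104229, 54509, 92097, 72565, 104282, 102267, 101550, 55041, 102545, 84923, 100869, 103835, 103840, 104315, 104310, 99962, 91901, 50256, 26121, 49735, 104755, 104746, 103537, 103540, 66327, 66569, 66326], [330, 3, 113688, 106258, 100044, 104741, 104746, 51161, 103776, 106753, 103930, 106747, 106635, 104346, 100053, 51145, 91976, 91582, 102776, 106780, 105868, 105020, 102317, 51772, 106051, 91424, 99551, 92025, 104262, 104954, 94213, 51788, 51176, 51321, 51177, 102993], [335, 0, 113688, 90230, 113689], [351, 0, 113688, 90212,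 113689], [367, 0, 113688, 90194, 113689], [38, 1, 102987, 113714], [93, 3, 96360, 102991, 113714], [0, 0], [345, 18, 106587, 26183, 25913, 46557, 46556, 25912, 26182, 99949, 99942, 103475, 100699, 100698, 103474, 99943, 99948, 26183, 25913, 46557, 91560, 84891, 104312, 104094, 51587, 46314, 26110, 46665, 46535, 40794, 46642, 45469, 45661, 84933, 102267, 101550, 55041, 101453, 108557, 108522, 91958, 51137, 106705, 113296, 113322, 104050, 106703, 113726], [53, 2, 113728, 74825], [126, 0, 113728, 106581, 92558], [133, 3, 113728, 106599, 113729], [242, 4, 113735, 113728, 106579, 96259], [255, 0, 113728, 74965, 113729], [271, 0, 113728, 74951, 113729], [287, 0, 113728, 74935, 113729], [303, 0, 113728, 74996, 106266], [304, 3, 113728, 74986, 113245], [319, 0, 113728, 74981, 113245], [320, 3, 113728, 74998, 106266], [329, 1, 113728, 106576, 104999, 101453, 57239, 57198, 106782, 106778, 104188, 92101, 57251, 104050, 102293, 101552, 56901, 102683, 66365, 100805, 100808, 66825, 104003, 103998, 100066, 100046, 99804, 99821, 100021, 104229, 61569, 103940, 57278, 100930, 41431,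 100931], [329, 9, 113728, 106576, 104999, 102545, 102765, 101332, 106705, 106745, 51592, 100342, 66345, 91901, 50484, 50477, 46766, 91656, 66333, 104000, 103696, 66327, 66325, 66323, 66321, 66275, 51082, 66274, 66276, 2607, 10806, 10811, 12045, 46952, 46945, 14279], [335, 0, 113728, 74904, 113729], [351, 0, 113728, 74886, 113729], [367, 0, 113728, 74868, 113729], [265, 3, 55215, 58422, 44635, 113754], [281, 3, 113352, 113343, 46482, 113754], [282, 1, 106881, 94516, 113754, 113742], [0, 0], [0, 0], [0, 0], [0, 0], [0, 0], [0, 0], [0, 0], [0, 0], [0, 0], [0, 0], [0, 0], [0, 0], [0, 0], [0, 0], [0, 0], [0, 0], [0, 0], [361, 18, 104095, 104313, 84890, 91561, 46556, 25912, 26182, 106586, 113729, 113727, 106702, 104051, 113323, 113297, 106704, 51136, 91959, 108523, 108556, 101452, 55040, 101551, 102266, 84932, 45660, 45468, 46643, 12041, 46642, 113768, 113770, 113772, 113774, 113776, 113778, 113780, 113782, 113784, 113786, 113788, 113790, 113792, 113794, 113796, 113798, 113800], [250, 1, 113802, 51587, 42550], [263, 2, 113802, 51756, 113803], [265, 1, 113802, 92081,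 89813, 92022], [279, 2, 113802, 51734, 113803], [282, 3, 113802, 51712, 100903, 106625], [295, 2, 113802, 51712, 113803], [311, 2, 113802, 58144, 113341], [312, 1, 113802, 56867, 92591], [327, 2, 113802, 56861, 92591], [328, 1, 113802, 58147, 113341], [329, 9, 113796, 113798, 113800, 113802, 104095, 104313, 84890, 91561, 46556, 25912, 26182, 106586, 113729, 113727, 106702, 104051, 113323, 113297, 106704, 51136, 91959, 108523, 108556, 101452, 55151, 101453, 102547, 84923, 100869, 103835, 103840, 104315, 104310, 99962], [329, 25, 113794, 113796, 113798, 113800, 113802, 104095, 104313, 84890, 91561, 41218, 91560, 92061, 99347, 99344, 85400, 85402, 85404, 85406, 105885, 106565, 100018, 72527, 72552, 103001, 102992, 106260, 113689, 113713, 103541, 103536, 104747, 104754, 49734, 26120, 50257], [8, 0, 113792, 113827, 50256], [15, 0, 113795, 113827], [3, 0, 113790, 113829, 26121], [8, 0, 113788, 113833, 49735], [15, 0, 113786, 113835, 104755], [7, 0, 113784, 113837, 104746], [4, 0, 113782, 113839, 103537], [7, 0, 113780, 113841, 103540], [10, 0, 113778, 113843, 66796],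 [6, 0, 113776, 113845, 100914], [6, 0, 113774, 113847, 100830], [15, 0, 113772, 113849], [343, 2, 113802, 51690, 113803], [359, 2, 113802, 51668, 113803], [361, 2, 113802, 101345, 84255, 100906, 103525, 103522, 104715, 104722, 48726, 48898, 49611, 106024, 81167, 101486, 106051, 104649, 55053, 104782, 76082, 91779, 47455, 37564, 14034, 105931, 108564, 108594, 106386, 53589, 94052, 104985, 104455, 67854, 99559, 104991, 54864, 94352, 66942, 102632, 76122, 76124, 49248, 50204, 50484, 50508, 50485, 113830], [362, 43, 113800, 113802, 104095, 57947, 104094, 92081, 89535, 104308, 63149, 63506, 26183, 42442, 47935, 47921, 14275, 100895, 104605, 104596, 94186, 104910, 99630, 51116, 56131, 94305, 99811, 104759, 104766, 57909, 104455, 102785, 69469, 101312, 106194, 105921, 108564, 108585, 103551, 105167, 104195, 104734, 105801, 105798, 102323, 102715, 102999, 102995], [375, 2, 113802, 51646, 113803], [368, 1, 113856, 113860, 113857], [362, 45, 113797, 113862, 113796, 113798, 113800, 113805, 46314, 26110, 46665, 46532, 10813, 32936, 933, 51000, 55026, 73214, 73189, 113686,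 113688, 106261, 102993, 51169, 102812, 101388, 104262, 66827, 103795, 103792, 103859, 51153, 103834, 100868, 84922, 102546, 108557, 108522, 91958, 91700, 99506, 113329, 113247, 73074, 73788, 76985, 93866, 106936], [367, 2, 113797, 113862, 113796], [250, 2, 113859, 102668, 94394, 113864], [3, 0, 113798, 113869], [7, 0, 113801, 113869], [16, 0, 113858, 113869], [250, 0, 113874, 102668, 113864], [265, 4, 113865, 106945, 113864, 113871], [281, 3, 90262, 106903, 93855, 113864], [295, 0, 113865, 94389, 113864], [297, 3, 63951, 93866, 106957, 113864], [298, 0, 113396, 106942, 106960, 113864], [313, 3, 57525, 113387, 113418, 113864], [343, 0, 113865, 94379, 113864], [359, 0, 113865, 94235, 113864], [281, 3, 113883, 113865, 93853, 113053], [114, 0, 76953, 113030, 113894], [218, 0, 108000, 113027, 113894, 113797], [61, 2, 113898, 76954], [113, 0, 113898, 81459, 81455], [114, 3, 113898, 108000, 108007], [226, 1, 113898, 106431, 99227, 98965], [257, 0, 113898, 76885, 113899], [273, 0, 113898, 76869, 113899], [289, 0, 113898, 76857, 113899], [298, 0, 113898, 106029, 100160,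 94114], [306, 3, 113898, 76899, 113439], [321, 0, 113898, 76935, 113439], [322, 3, 113898, 79212, 106688], [337, 0, 113898, 76834, 113899], [353, 0, 113898, 76820, 113899], [320, 1, 92585, 113920, 113796], [325, 3, 77973, 101932, 113920], [324, 0, 113926, 106669, 64667], [413, 0, 113926, 113401, 113402], [414, 2, 113887, 113926, 113932], [134, 2, 99224, 113930, 113872], [242, 2, 65955, 97852, 113930, 113872], [94, 3, 113938, 98245, 105673], [249, 1, 60926, 61273, 113850], [249, 3, 113942, 60926, 113850], [265, 1, 102949, 100805, 61229, 113850], [266, 3, 104917, 63805, 104699, 113850], [279, 2, 113851, 61228, 113850], [281, 1, 108585, 61316, 61185, 113850], [282, 3, 100841, 53257, 100830, 113850], [295, 2, 113851, 61184, 113850], [297, 1, 113265, 104569, 104703, 113850], [311, 2, 92735, 61319, 113850], [312, 1, 108051, 104703, 113850], [313, 1, 104917, 105365, 61315, 113850], [314, 3, 102949, 102952, 102758, 113850], [327, 2, 108051, 104705, 113850], [328, 1, 92735, 61315, 113850], [329, 31, 113770, 113851, 61131, 113850, 113942, 47857, 44634, 46558, 46164, 24148,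 49267, 49246, 61604, 94160, 104972, 94289, 104180, 99755, 100203, 80868, 102623, 102428, 102302, 102356, 69981, 69979, 104545, 104081, 100318, 45825, 12742, 13752, 106799, 105002], [343, 2, 113851, 61130, 113850], [359, 2, 113851, 61084, 113850], [375, 2, 113851, 61038, 113850], [368, 1, 113770, 113978, 113771], [352, 1, 113770, 113976, 113771], [336, 1, 113770, 113974, 113771], [37, 1, 113172, 113972], [85, 1, 106208, 83928, 113972], [86, 2, 106326, 83926, 113972], [94, 2, 113173, 113186, 113972], [96, 0, 113186, 113972, 113992, 113187, 113987], [201, 1, 106589, 78176, 83928, 113972], [204, 5, 73072, 106589, 56353, 80588, 90428, 90431, 113972]]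
def dJ288 : List (List ℕ) := [[0, 0], [0, 0], [0, 0], [0, 0], [361, 10, 53571, 53569, 53567, 61910, 50511, 50479, 50013, 91920, 53064, 53066, 53068, 53070, 53072, 53074, 53076, 53078, 53080, 53082, 53084, 53086, 53088, 53090, 53092, 53094, 50121, 49397, 49899, 49910, 931, 32961, 8370, 42726, 13040, 45406, 45470, 12151, 45471, 83921, 102701, 115194, 115196, 115198, 115200, 115202, 115204, 115206], [249, 0, 115208, 53572, 53761], [263, 0, 115208, 53758, 115209], [266, 1, 115208, 102482, 109419, 109454], [279, 0, 115208, 53732, 115209], [282, 1, 115208, 102400, 109419, 109458], [295, 0, 115208, 53702, 115209], [297, 4, 115208, 102667, 102668, 106956], [298, 1, 115208, 79247, 114830, 114906], [311, 0, 115208, 102486, 108774], [314, 1, 115208, 101614, 98973, 62516], [327, 0, 115208, 61822, 93865], [328, 3, 115208, 102488, 108774], [329, 34, 115208, 53572, 114138, 114117, 99333, 91455, 99559, 104991, 54864, 94352, 66942, 102632, 76122, 76124, 49248, 50204, 50484, 50493, 8429, 2699, 2607, 10899, 46295, 14369, 13496, 53046, 103525, 103522, 104715, 68429, 105906, 106310,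 102403, 115209], [329, 4, 115206, 115208, 53571, 53569, 53567, 92030, 53053, 53051, 53049, 53047, 13472, 13714, 45951, 49913, 49898, 49396, 50120, 53095, 53093, 53091, 53089, 102650, 47125, 18761, 47456, 55266, 99408, 106873, 106078, 102389, 61087, 102388, 109426, 109492, 109528], [4, 0, 115204, 115237, 109529], [7, 0, 115207, 115237], [7, 0, 115202, 115239, 109493], [10, 0, 115200, 115243, 109484], [5, 0, 115198, 115245], [359, 0, 115208, 53646, 115209], [375, 0, 115208, 53618, 115209], [266, 1, 109436, 101545, 115209, 115216], [282, 1, 109436, 76976, 115209, 115220], [117, 2, 115196, 115247, 109485, 115218, 115254], [119, 3, 109372, 109374, 109376, 109485, 115218, 115254, 115256], [202, 2, 115257, 115253, 115254, 115256], [114, 0, 115197, 115257, 115255], [115, 5, 115197, 115258, 109538, 115255, 115225], [118, 2, 109485, 109457, 115255, 115262, 115197], [219, 0, 109373, 109540, 109493, 109457, 115255, 115225, 115264], [223, 1, 115197, 115266, 109495, 109493, 109457, 115255, 115225, 115240], [138, 0, 115270, 115268, 109573, 65955, 97846], [138, 3, 97846, 98079,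 109572, 115240, 115270], [217, 2, 115196, 115263, 115270, 115197], [241, 2, 113797, 113907, 115228, 115270], [242, 2, 51171, 102990, 115272, 115270], [255, 2, 115271, 115212, 115270], [271, 2, 115271, 115216, 115270], [287, 2, 115271, 115220, 115270], [303, 2, 114840, 115226, 115270], [304, 1, 106937, 115222, 115270], [319, 2, 106937, 115230, 115270], [320, 1, 114840, 115232, 115270], [329, 3, 115268, 109555, 54549, 102516, 99420, 92032, 76083, 104783, 55052, 104650, 14279, 44579, 12693, 50490, 50485, 50205, 49249, 76125, 76123, 102633, 66943, 94353, 54865, 104990, 99558, 91454, 99332, 114116, 114139, 53573, 53674, 53572, 115210, 115270], [329, 13, 92585, 109339, 109340, 109344, 46379, 48780, 50842, 101348, 69468, 102784, 104454, 103743, 51158, 106755, 104250, 113269, 113322, 104034, 51146, 106863, 79116, 106862, 100106, 91828, 91664, 108557, 108539, 105801, 105798, 102323, 109437, 109433, 115253, 115270], [329, 21, 56119, 103006, 106823, 99635, 99630, 51116, 56131, 94305, 99811, 104759, 104766, 103741, 51340, 103740, 57909, 104455, 102785, 69469, 101312, 106194,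 105921, 108564, 108585, 103551, 105167, 104195, 104734, 105801, 105798, 102323, 109437, 109433, 115253, 115270], [335, 2, 115271, 115235, 115270], [351, 2, 115271, 115248, 115270], [367, 2, 115271, 115250, 115270], [366, 1, 115196, 115306, 115197], [350, 1, 115196, 115304, 115197], [334, 1, 115196, 115302, 115197], [209, 1, 86391, 115281, 115296, 115197], [77, 2, 115314, 113038], [173, 0, 115314, 106188, 106800], [261, 0, 115314, 86399, 115315], [277, 0, 115314, 86401, 115315], [293, 0, 115314, 86403, 115315], [309, 0, 115314, 86466, 114855], [310, 3, 115314, 86388, 106950], [314, 0, 115314, 113054, 113039, 102718], [326, 3, 115314, 86468, 114855], [0, 0], [209, 2, 22996, 46619, 58815, 115334], [46, 2, 115336, 48242], [86, 1, 115336, 23092, 111785], [113, 1, 115336, 22381, 111856], [114, 2, 115336, 22383, 94497], [217, 2, 115336, 22381, 22377, 115337], [253, 2, 115336, 42062, 115337], [269, 2, 115336, 22387, 115337], [285, 2, 115336, 22389, 115337], [301, 2, 115336, 46611, 94497], [302, 1, 115336, 46608, 111856], [317, 2, 115336, 46580, 111856], [318, 1, 115336,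 46579, 94497], [333, 2, 115336, 41978, 115337], [349, 2, 115336, 41156, 115337], [365, 2, 115336, 22391, 115337], [323, 1, 111874, 111865, 115360], [324, 2, 115358, 115368, 115360], [0, 0], [211, 3, 14140, 14133, 46616, 46619, 58815, 115334, 115372], [46, 2, 115374, 46476], [85, 2, 115374, 14332, 101058], [86, 1, 115374, 14368, 99595], [113, 1, 115374, 47852, 56619], [114, 2, 115374, 13627, 73183], [210, 3, 115374, 14332, 44585, 58815], [217, 2, 115374, 47852, 47857, 94517], [218, 2, 115374, 13496, 13681, 114913], [253, 2, 115374, 42693, 115375], [269, 2, 115374, 13503, 115375], [281, 2, 115374, 13504, 100911, 84254], [282, 2, 115374, 106626, 92496, 114758], [285, 2, 115374, 13505, 115375], [301, 2, 115374, 14307, 94517], [302, 1, 115374, 13712, 114913], [317, 2, 115374, 13710, 114913], [318, 1, 115374, 14309, 94517], [333, 2, 115374, 41426, 115375], [349, 2, 115374, 40736, 115375], [365, 2, 115374, 13507, 115375], [323, 1, 114940, 114948, 115408], [324, 2, 115406, 115416, 115408], [0, 0], [213, 4, 14133, 46616, 46619, 58815, 65139, 65140, 115420], [85, 2, 115422,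 46168, 111785], [86, 1, 115422, 46170, 115337], [113, 1, 115422, 48479, 48476], [114, 2, 115422, 94546, 94541], [209, 1, 115422, 14133, 46616, 59951], [210, 3, 115422, 46168, 46629, 101058], [253, 2, 115422, 42698, 115423], [269, 2, 115422, 14143, 115423], [285, 2, 115422, 14145, 115423], [301, 2, 115422, 44657, 94543], [302, 1, 115422, 48014, 110971], [317, 2, 115422, 48020, 110971], [318, 1, 115422, 44655, 94543], [333, 2, 115422, 41407, 115423], [349, 2, 115422, 40717, 115423], [365, 2, 115422, 14147, 115423], [323, 1, 58623, 94565, 115448], [324, 2, 83467, 101053, 115448], [313, 0, 111701, 101308, 110973, 115446], [327, 3, 111722, 110461, 115446], [0, 0], [0, 0], [0, 0], [0, 0], [329, 11, 98855, 96694, 49972, 50448, 50598, 95190, 97940, 98044, 95731, 98795, 98523, 98688, 98710, 55302, 99008, 96653, 97871, 103028, 108513, 108517, 103332, 55318, 41580, 55319, 55799, 95576, 101638, 96313, 95307, 98016, 115464, 115466, 115468, 115470], [38, 2, 115472, 72245], [85, 1, 115472, 98566, 96591], [86, 2, 115472, 98564, 114261], [94, 2, 115472, 104904, 104669], [201, 1,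 115472, 72444, 109747, 109689], [202, 3, 115472, 98564, 69355, 101211], [251, 2, 115472, 72367, 115473], [265, 2, 115472, 72356, 98574, 96487], [266, 2, 115472, 98576, 88305, 97138], [267, 2, 115472, 72357, 115473], [283, 2, 115472, 72347, 115473], [299, 2, 115472, 72387, 103078], [300, 1, 115472, 98578, 114959], [315, 2, 115472, 98580, 114959], [316, 1, 115472, 72382, 103078], [329, 28, 101732, 102056, 106465, 95958, 55642, 55437, 55643, 55645, 98711, 98689, 98522, 98309, 99233, 102085, 102025, 106892, 49574, 49569, 49543, 52828, 98016, 115464, 115466, 115468, 115470, 115472, 98855, 96281, 82446, 96844, 82201, 107062, 98837, 115474], [331, 2, 115472, 72314, 115473], [347, 2, 115472, 72300, 115473], [361, 7, 115470, 115472, 98855, 96281, 82446, 96844, 82201, 107062, 98837, 115474, 115504, 101732, 102056, 106465, 95958, 55642, 99008, 96653, 97871, 68935, 97620, 95061, 95166, 81579, 96347, 98243, 99067, 99070, 13649, 46729, 37405, 42609, 49285, 49383, 49428, 95715, 96346, 99219, 99224, 55672, 99225, 107737, 114703, 114686, 103347, 103315, 103320], [7, 0, 115471,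 115511], [16, 0, 115468, 115511, 55782], [7, 0, 115466, 115515], [363, 2, 115472, 72286, 115473], [53, 1, 55785, 115516], [125, 1, 107585, 78082, 115516], [126, 2, 114650, 87832, 115516], [133, 1, 53048, 104854, 115516], [140, 4, 112572, 53048, 103730, 112570, 112568, 55785, 115516], [217, 1, 114665, 78081, 78082, 115516], [220, 5, 114564, 114665, 107857, 107854, 82721, 82722, 115516], [244, 4, 107239, 107241, 105154, 112570, 112568, 55785, 115516], [255, 2, 115517, 55976, 115516], [271, 2, 115517, 55946, 115516], [287, 2, 115517, 55916, 115516], [303, 2, 114993, 64985, 115516], [304, 1, 105429, 62898, 115516], [319, 2, 105429, 62796, 115516], [320, 1, 114993, 64988, 115516], [329, 5, 47423, 44690, 45919, 42340, 49719, 49685, 65110, 95705, 96460, 99169, 99172, 98381, 98374, 98388, 80317, 109909, 109881, 109071, 109866, 109824, 114988, 114958, 67649, 98850, 49575, 26156, 50178, 95681, 52742, 95680, 107130, 80317, 105327, 115516], [329, 13, 99116, 98166, 96460, 97567, 97560, 59689, 95156, 103022, 114580, 114561, 103345, 95491, 54138, 101589, 95970, 96304, 49779,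 49622, 97187, 101909, 79497, 101908, 105698, 102016, 102074, 98965, 98966, 95577, 97817, 97818, 101277, 80317, 105327, 115516], [335, 2, 115517, 55886, 115516], [351, 2, 115517, 55856, 115516], [367, 2, 115517, 55826, 115516], [266, 3, 115552, 62191, 102009, 58592], [313, 1, 115552, 99118, 77505, 97971], [133, 1, 114995, 115005, 115512], [134, 2, 62565, 105325, 115512], [0, 0], [0, 0], [0, 0], [0, 0], [0, 0], [0, 0], [361, 10, 103166, 97857, 97759, 97762, 95167, 95060, 97621, 68934, 97870, 96652, 99009, 55303, 98711, 98689, 98522, 98309, 99233, 102085, 102025, 102026, 103125, 103195, 103196, 81618, 49429, 49382, 49284, 36837, 6531, 32968, 2619, 42720, 12678, 45402, 45484, 12189, 45485, 77057, 103231, 103236, 115568, 115570, 115572, 115574, 115576, 115578], [249, 0, 115580, 103168, 82656], [263, 0, 115580, 64194, 115581], [266, 1, 115580, 105303, 105436, 95891], [279, 0, 115580, 64196, 115581], [295, 0, 115580, 64198, 115581], [297, 4, 115580, 75252, 95426, 107104], [311, 0, 115580, 64496, 109780], [313, 4, 115580, 105306, 53079, 109922], [327, 0, 115580, 103172,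 95441]]
def dJ292 : List (List ℕ) := [[93, 3, 116798, 110318, 104783], [233, 0, 116798, 110320, 108489, 108500], [69, 1, 115915, 116802], [376, 3, 116778, 116796, 116779], [360, 3, 116778, 116794, 116779], [344, 3, 116778, 116792, 116779], [313, 3, 71049, 114608, 116790, 116779], [78, 2, 116812, 106549], [93, 2, 116812, 99074, 110323], [94, 1, 116812, 96138, 110348], [173, 2, 116812, 110923, 110924], [174, 1, 116812, 114756, 114763], [277, 2, 116812, 66084, 116813], [293, 2, 116812, 66062, 116813], [0, 0], [281, 2, 48935, 12268, 116776, 116828], [263, 2, 116830, 48936, 116831], [266, 3, 116830, 48938, 48903, 110365], [279, 2, 116830, 48938, 116831], [295, 2, 116830, 48940, 116831], [297, 1, 116830, 48896, 47639, 116776], [312, 1, 116830, 48942, 112560], [313, 1, 116830, 48986, 49001, 101667], [314, 3, 116830, 48932, 49215, 60975], [327, 2, 116830, 48932, 112560], [343, 2, 116830, 48928, 116831], [359, 2, 116830, 48926, 116831], [375, 2, 116830, 48924, 116831], [323, 3, 96323, 112559, 116848], [324, 0, 60987, 112556, 116848], [0, 0], [311, 2, 116777, 47638, 116860],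 [300, 2, 116862, 116817, 110415], [307, 1, 116862, 116823, 60608], [308, 2, 116862, 116821, 102586], [309, 1, 116862, 116812, 71055], [310, 2, 116862, 116815, 63933], [381, 2, 116862, 116785, 116863], [393, 2, 116862, 116825, 116863], [403, 2, 116862, 116827, 116863], [415, 1, 116862, 116810, 116863], [417, 1, 116862, 116808, 116863], [419, 1, 116862, 116806, 116863], [325, 0, 116815, 63928, 116872], [0, 0], [327, 2, 116777, 44652, 116888], [313, 3, 116890, 116778, 116801, 55051], [315, 1, 116890, 116819, 116630], [316, 2, 116890, 116817, 110333], [318, 2, 116890, 116828, 116849], [322, 2, 116890, 116840, 116849], [323, 1, 116890, 116823, 59408], [324, 2, 116890, 116821, 78331], [325, 1, 116890, 116812, 72215], [383, 2, 116890, 116785, 116891], [395, 2, 116890, 116825, 116891], [405, 2, 116890, 116827, 116891], [413, 2, 116890, 116863, 116886], [421, 1, 116890, 116810, 116891], [423, 1, 116890, 116808, 116891], [425, 1, 116890, 116806, 116891], [309, 2, 116871, 72213, 116906], [326, 1, 116871, 72208, 116906], [0, 0], [0, 0], [0, 0], [0, 0], [0, 0], [0, 0], [0,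 0], [0, 0], [0, 0], [0, 0], [0, 0], [0, 0], [0, 0], [0, 0], [0, 0], [0, 0], [0, 0], [0, 0], [0, 0], [0, 0], [0, 0], [0, 0], [0, 0], [0, 0], [0, 0], [0, 0], [0, 0], [0, 0], [0, 0], [0, 0], [329, 32, 116777, 41486, 116776, 116778, 116926, 116928, 116930, 116932, 116934, 116936, 116938, 116940, 116942, 116944, 116946, 116948, 116950, 116952, 116954, 116956, 116958, 116960, 116962, 116964, 116966, 116968, 116970, 116972, 116974, 116976, 116978, 116980, 116982, 116984], [133, 1, 116986, 116823, 95694], [134, 2, 116986, 116821, 76122], [242, 2, 116986, 116812, 110923, 110920], [255, 2, 116986, 116785, 116987], [271, 2, 116986, 116825, 116987], [287, 2, 116986, 116827, 116987], [335, 2, 116986, 116811, 116987], [351, 2, 116986, 116809, 116987], [367, 2, 116986, 116807, 116987], [363, 0, 116984, 117004, 116985], [367, 2, 116982, 117006, 116983], [376, 1, 116980, 117008, 116981], [368, 3, 116978, 117010, 116979], [364, 1, 116976, 117012, 116977], [368, 3, 116974, 117014, 116975], [375, 0, 116972, 117016, 116973], [367, 2, 116970, 117018, 116971], [363, 0, 116968, 117020,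 116969], [367, 2, 116966, 117022, 116967], [375, 0, 116964, 117024, 116965], [368, 3, 116962, 117026, 116963], [364, 1, 116960, 117028, 116961], [368, 3, 116958, 117030, 116959], [376, 1, 116956, 117032, 116957], [367, 2, 116954, 117034, 116955], [363, 0, 116952, 117036, 116953], [367, 2, 116950, 117038, 116951], [376, 1, 116948, 117040, 116949], [368, 3, 116946, 117042, 116947], [364, 1, 116944, 117044, 116945], [368, 3, 116942, 117046, 116943], [376, 1, 116940, 117048, 116941], [367, 2, 116938, 117050, 116939], [363, 0, 116936, 117052, 116937], [367, 2, 116934, 117054, 116935], [375, 0, 116932, 117056, 116933], [368, 3, 116930, 117058, 116931], [364, 1, 116928, 117060, 116929], [347, 0, 116984, 117002, 116985], [351, 2, 116982, 117064, 116983], [360, 1, 116980, 117066, 116981], [352, 3, 116978, 117068, 116979], [348, 1, 116976, 117070, 116977], [352, 3, 116974, 117072, 116975], [359, 0, 116972, 117074, 116973], [351, 2, 116970, 117076, 116971], [347, 0, 116968, 117078, 116969], [351, 2, 116966, 117080, 116967], [359, 0, 116964, 117082, 116965], [352, 3, 116962,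 117084, 116963], [348, 1, 116960, 117086, 116961], [352, 3, 116958, 117088, 116959], [360, 1, 116956, 117090, 116957], [351, 2, 116954, 117092, 116955], [347, 0, 116952, 117094, 116953], [351, 2, 116950, 117096, 116951], [360, 1, 116948, 117098, 116949], [352, 3, 116946, 117100, 116947], [348, 1, 116944, 117102, 116945], [352, 3, 116942, 117104, 116943], [360, 1, 116940, 117106, 116941], [351, 2, 116938, 117108, 116939], [347, 0, 116936, 117110, 116937], [351, 2, 116934, 117112, 116935], [359, 0, 116932, 117114, 116933], [352, 3, 116930, 117116, 116931], [348, 1, 116928, 117118, 116929], [331, 0, 116984, 117000, 116985], [335, 2, 116982, 117122, 116983], [344, 1, 116980, 117124, 116981], [336, 3, 116978, 117126, 116979], [332, 1, 116976, 117128, 116977], [336, 3, 116974, 117130, 116975], [343, 0, 116972, 117132, 116973], [335, 2, 116970, 117134, 116971], [331, 0, 116968, 117136, 116969], [335, 2, 116966, 117138, 116967], [343, 0, 116964, 117140, 116965], [336, 3, 116962, 117142, 116963], [332, 1, 116960, 117144, 116961], [336, 3, 116958, 117146, 116959], [344,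 1, 116956, 117148, 116957], [335, 2, 116954, 117150, 116955], [331, 0, 116952, 117152, 116953], [335, 2, 116950, 117154, 116951], [344, 1, 116948, 117156, 116949], [336, 3, 116946, 117158, 116947], [332, 1, 116944, 117160, 116945], [336, 3, 116942, 117162, 116943], [344, 1, 116940, 117164, 116941], [335, 2, 116938, 117166, 116939], [331, 0, 116936, 117168, 116937], [335, 2, 116934, 117170, 116935], [343, 0, 116932, 117172, 116933], [336, 3, 116930, 117174, 116931], [332, 1, 116928, 117176, 116929], [283, 0, 116984, 116998, 116985], [287, 2, 116982, 117180, 116983], [296, 1, 116980, 117182, 116981], [288, 3, 116978, 117184, 116979], [284, 1, 116976, 117186, 116977], [288, 3, 116974, 117188, 116975], [295, 0, 116972, 117190, 116973], [287, 2, 116970, 117192, 116971], [283, 0, 116968, 117194, 116969], [287, 2, 116966, 117196, 116967]]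
def dJ296 : List (List ℕ) := [[395, 2, 118392, 112744, 118393], [405, 2, 118392, 112746, 118393], [413, 2, 118392, 112788, 112791], [309, 2, 109305, 90433, 118398], [326, 1, 109305, 90439, 118398], [0, 0], [265, 2, 12993, 12338, 118348, 118410], [263, 2, 118412, 42701, 118413], [279, 2, 118412, 12995, 118413], [281, 1, 118412, 108140, 108152, 110952], [295, 2, 118412, 12997, 118413], [298, 3, 118412, 44666, 108139, 110952], [313, 1, 118412, 12991, 44675, 106294], [314, 3, 118412, 47236, 47221, 67442], [343, 2, 118412, 41402, 118413], [359, 2, 118412, 40712, 118413], [375, 2, 118412, 12999, 118413], [174, 3, 106303, 106101, 118426], [175, 0, 118424, 118427, 106100, 106302, 118426], [0, 0], [281, 2, 46369, 12340, 118348, 118438], [263, 2, 118440, 42448, 118441], [279, 2, 118440, 25414, 118441], [295, 2, 118440, 25412, 118441], [297, 1, 118440, 44827, 44740, 118348], [314, 3, 118440, 50819, 50776, 99167], [343, 2, 118440, 41335, 118441], [359, 2, 118440, 40649, 118441], [375, 2, 118440, 25410, 118441], [0, 0], [0, 0], [0, 0], [0, 0], [0, 0], [0, 0], [0, 0], [0, 0],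 [0, 0], [0, 0], [0, 0], [0, 0], [0, 0], [0, 0], [0, 0], [0, 0], [0, 0], [0, 0], [0, 0], [0, 0], [0, 0], [0, 0], [0, 0], [0, 0], [0, 0], [0, 0], [0, 0], [0, 0], [0, 0], [329, 32, 118349, 41404, 118348, 118350, 118384, 118458, 118460, 118462, 118464, 118466, 118468, 118470, 118472, 118474, 118476, 118478, 118480, 118482, 118484, 118486, 118488, 118490, 118492, 118494, 118496, 118498, 118500, 118502, 118504, 118506, 118508, 118510, 118512, 118514], [133, 1, 118516, 118397, 118517], [241, 2, 118516, 118397, 118395, 58559], [242, 2, 118516, 118399, 102222, 102996], [255, 2, 118516, 118357, 118517], [271, 2, 118516, 118401, 118517], [287, 2, 118516, 118403, 118517], [303, 2, 118516, 118405, 112774], [320, 1, 118516, 118392, 112774], [335, 2, 118516, 118381, 118517], [351, 2, 118516, 118379, 118517], [367, 2, 118516, 118377, 118517], [363, 0, 118514, 118538, 118515], [367, 2, 118512, 118540, 118513], [376, 1, 118510, 118542, 118511], [368, 3, 118508, 118544, 118509], [364, 1, 118506, 118546, 118507], [368, 3, 118504, 118548, 118505], [375, 0, 118502, 118550, 118503],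 [367, 2, 118500, 118552, 118501], [363, 0, 118498, 118554, 118499], [367, 2, 118496, 118556, 118497], [375, 0, 118494, 118558, 118495], [368, 3, 118492, 118560, 118493], [364, 1, 118490, 118562, 118491], [368, 3, 118488, 118564, 118489], [376, 1, 118486, 118566, 118487], [367, 2, 118484, 118568, 118485], [363, 0, 118482, 118570, 118483], [367, 2, 118480, 118572, 118481], [376, 1, 118478, 118574, 118479], [368, 3, 118476, 118576, 118477], [364, 1, 118474, 118578, 118475], [368, 3, 118472, 118580, 118473], [376, 1, 118470, 118582, 118471], [367, 2, 118468, 118584, 118469], [363, 0, 118466, 118586, 118467], [367, 2, 118464, 118588, 118465], [375, 0, 118462, 118590, 118463], [368, 3, 118460, 118592, 118461], [347, 0, 118514, 118536, 118515], [351, 2, 118512, 118596, 118513], [360, 1, 118510, 118598, 118511], [352, 3, 118508, 118600, 118509], [348, 1, 118506, 118602, 118507], [352, 3, 118504, 118604, 118505], [359, 0, 118502, 118606, 118503], [351, 2, 118500, 118608, 118501], [347, 0, 118498, 118610, 118499], [351, 2, 118496, 118612, 118497], [359, 0, 118494, 118614,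 118495], [352, 3, 118492, 118616, 118493], [348, 1, 118490, 118618, 118491], [352, 3, 118488, 118620, 118489], [360, 1, 118486, 118622, 118487], [351, 2, 118484, 118624, 118485], [347, 0, 118482, 118626, 118483], [351, 2, 118480, 118628, 118481], [360, 1, 118478, 118630, 118479], [352, 3, 118476, 118632, 118477], [348, 1, 118474, 118634, 118475], [352, 3, 118472, 118636, 118473], [360, 1, 118470, 118638, 118471], [351, 2, 118468, 118640, 118469], [347, 0, 118466, 118642, 118467], [351, 2, 118464, 118644, 118465], [359, 0, 118462, 118646, 118463], [352, 3, 118460, 118648, 118461], [331, 0, 118514, 118534, 118515], [335, 2, 118512, 118652, 118513], [344, 1, 118510, 118654, 118511], [336, 3, 118508, 118656, 118509], [332, 1, 118506, 118658, 118507], [336, 3, 118504, 118660, 118505], [343, 0, 118502, 118662, 118503], [335, 2, 118500, 118664, 118501], [331, 0, 118498, 118666, 118499], [335, 2, 118496, 118668, 118497], [343, 0, 118494, 118670, 118495], [336, 3, 118492, 118672, 118493], [332, 1, 118490, 118674, 118491], [336, 3, 118488, 118676, 118489], [344, 1, 118486,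 118678, 118487], [335, 2, 118484, 118680, 118485], [331, 0, 118482, 118682, 118483], [335, 2, 118480, 118684, 118481], [344, 1, 118478, 118686, 118479], [336, 3, 118476, 118688, 118477], [332, 1, 118474, 118690, 118475], [336, 3, 118472, 118692, 118473], [344, 1, 118470, 118694, 118471], [335, 2, 118468, 118696, 118469], [331, 0, 118466, 118698, 118467], [335, 2, 118464, 118700, 118465], [343, 0, 118462, 118702, 118463], [336, 3, 118460, 118704, 118461], [327, 1, 50748, 112680, 118532], [283, 0, 118514, 118528, 118515], [287, 2, 118512, 118710, 118513], [296, 1, 118510, 118712, 118511], [288, 3, 118508, 118714, 118509], [284, 1, 118506, 118716, 118507], [288, 3, 118504, 118718, 118505], [295, 0, 118502, 118720, 118503], [287, 2, 118500, 118722, 118501], [283, 0, 118498, 118724, 118499], [287, 2, 118496, 118726, 118497], [295, 0, 118494, 118728, 118495], [288, 3, 118492, 118730, 118493], [284, 1, 118490, 118732, 118491], [288, 3, 118488, 118734, 118489], [296, 1, 118486, 118736, 118487], [287, 2, 118484, 118738, 118485], [283, 0, 118482, 118740, 118483], [287, 2,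 118480, 118742, 118481], [296, 1, 118478, 118744, 118479], [288, 3, 118476, 118746, 118477], [284, 1, 118474, 118748, 118475], [288, 3, 118472, 118750, 118473], [296, 1, 118470, 118752, 118471], [287, 2, 118468, 118754, 118469], [283, 0, 118466, 118756, 118467], [287, 2, 118464, 118758, 118465], [295, 0, 118462, 118760, 118463], [288, 3, 118460, 118762, 118461], [267, 0, 118514, 118526, 118515], [266, 4, 118766, 118514, 118708, 49814], [271, 2, 118512, 118766, 118513], [280, 1, 118510, 118770, 118511], [272, 3, 118508, 118772, 118509], [268, 1, 118506, 118774, 118507], [272, 3, 118504, 118776, 118505], [279, 0, 118502, 118778, 118503], [271, 2, 118500, 118780, 118501], [267, 0, 118498, 118782, 118499], [271, 2, 118496, 118784, 118497], [279, 0, 118494, 118786, 118495], [272, 3, 118492, 118788, 118493], [268, 1, 118490, 118790, 118491], [272, 3, 118488, 118792, 118489], [280, 1, 118486, 118794, 118487], [271, 2, 118484, 118796, 118485]]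
def dJ300 : List (List ℕ) := [[314, 3, 119984, 114219, 107204, 101250], [328, 1, 119984, 114221, 119959], [343, 2, 119984, 114223, 119985], [359, 2, 119984, 114225, 119985], [375, 2, 119984, 114227, 119985], [323, 1, 73161, 119979, 120002], [324, 2, 64492, 119981, 120002], [221, 2, 111268, 111276, 119271, 119994, 119983, 111339, 111329], [209, 2, 111322, 111326, 120014, 111262], [210, 4, 110886, 111320, 120014, 111322], [0, 0], [0, 0], [0, 0], [0, 0], [0, 0], [0, 0], [0, 0], [0, 0], [0, 0], [0, 0], [0, 0], [0, 0], [0, 0], [0, 0], [0, 0], [0, 0], [0, 0], [0, 0], [0, 0], [0, 0], [0, 0], [0, 0], [0, 0], [0, 0], [329, 31, 111338, 111299, 41416, 111298, 118148, 118157, 117736, 117515, 117720, 111786, 120020, 120022, 120024, 120026, 120028, 120030, 120032, 120034, 120036, 120038, 120040, 120042, 120044, 120046, 120048, 120050, 120052, 120054, 120056, 120058, 120060, 120062, 120064, 120066], [93, 3, 120068, 111340, 69435], [94, 0, 120068, 111343, 108489], [210, 4, 120068, 111340, 104410, 119323], [233, 0, 120068, 111336, 115873, 115882], [251, 0, 120068, 111220, 120069],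 [265, 0, 120068, 111355, 116864, 116876], [267, 0, 120068, 111190, 120069], [283, 0, 120068, 111160, 120069], [299, 0, 120068, 111347, 116799], [300, 3, 120068, 111349, 117435], [315, 0, 120068, 111357, 117435], [316, 3, 120068, 111359, 116799], [331, 0, 120068, 111130, 120069], [347, 0, 120068, 111100, 120069], [363, 0, 120068, 111070, 120069], [265, 0, 47611, 111361, 120069, 120083], [345, 6, 120066, 120100, 47627, 47317, 47256, 110029, 117470, 116952, 116954, 116956, 116958, 116960, 116962, 118165, 118162, 117537, 117535, 117534, 117536, 118163, 111435, 118156, 118135, 118136, 118137, 118134, 118157, 111434, 118162, 117537, 117535, 117533, 117531, 117529, 117527, 117525, 117523, 117521, 117519, 117517, 117604, 117515, 117513, 111712, 111354, 111338, 119920], [8, 0, 120067, 120103], [16, 0, 120064, 120103, 119925], [7, 0, 120062, 120107, 118136], [3, 0, 120060, 120109], [85, 1, 118938, 117403, 120110], [94, 2, 105752, 117400, 120110], [210, 1, 96170, 112771, 117403, 120110], [233, 2, 98096, 118129, 118130, 120110], [234, 2, 101517, 106838, 117400, 120110], [251,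 2, 120111, 117308, 120110], [265, 2, 120021, 109980, 117405, 120110], [266, 2, 117394, 116973, 117250, 120110], [267, 2, 120111, 117250, 120110], [283, 2, 120111, 117192, 120110], [299, 2, 119466, 119469, 120110], [316, 1, 119466, 119471, 120110], [331, 2, 120111, 117134, 120110], [347, 2, 120111, 117076, 120110], [363, 2, 120111, 117018, 120110], [375, 0, 120125, 120140, 120124], [368, 3, 120023, 120142, 120022], [375, 0, 120025, 120144, 120024], [367, 2, 120027, 120146, 120026], [363, 0, 120029, 120148, 120028], [367, 2, 120031, 120150, 120030], [375, 0, 120033, 120152, 120032], [368, 3, 120035, 120154, 120034], [364, 1, 120037, 120156, 120036], [368, 3, 120039, 120158, 120038], [375, 0, 120041, 120160, 120040], [367, 2, 120043, 120162, 120042], [363, 0, 120045, 120164, 120044], [367, 2, 120047, 120166, 120046], [376, 1, 120049, 120168, 120048], [368, 3, 120051, 120170, 120050], [364, 1, 120053, 120172, 120052], [359, 0, 120125, 120138, 120124], [352, 3, 120023, 120176, 120022], [359, 0, 120025, 120178, 120024], [351, 2, 120027, 120180, 120026], [347, 0, 120029,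 120182, 120028], [351, 2, 120031, 120184, 120030], [359, 0, 120033, 120186, 120032], [352, 3, 120035, 120188, 120034], [348, 1, 120037, 120190, 120036], [352, 3, 120039, 120192, 120038], [359, 0, 120041, 120194, 120040], [351, 2, 120043, 120196, 120042], [347, 0, 120045, 120198, 120044], [351, 2, 120047, 120200, 120046], [360, 1, 120049, 120202, 120048], [352, 3, 120051, 120204, 120050], [348, 1, 120053, 120206, 120052], [343, 0, 120125, 120136, 120124], [336, 3, 120023, 120210, 120022], [343, 0, 120025, 120212, 120024], [335, 2, 120027, 120214, 120026], [331, 0, 120029, 120216, 120028], [335, 2, 120031, 120218, 120030], [343, 0, 120033, 120220, 120032], [336, 3, 120035, 120222, 120034], [332, 1, 120037, 120224, 120036], [336, 3, 120039, 120226, 120038], [343, 0, 120041, 120228, 120040], [335, 2, 120043, 120230, 120042], [331, 0, 120045, 120232, 120044], [335, 2, 120047, 120234, 120046], [344, 1, 120049, 120236, 120048], [336, 3, 120051, 120238, 120050], [332, 1, 120053, 120240, 120052], [319, 3, 120134, 110451, 111368], [320, 0, 120058, 120134, 110940, 111402],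 [7, 0, 120059, 120247], [15, 0, 120056, 120247, 111048], [7, 0, 120054, 120251], [322, 0, 120134, 118422, 118943], [328, 3, 120125, 120134, 110953], [317, 3, 65292, 108164, 120256], [318, 0, 44669, 108140, 120256], [319, 0, 115447, 110958, 120256, 120022], [7, 0, 120022, 120262], [15, 0, 120025, 120262, 115462], [8, 0, 120027, 120267, 111712], [3, 0, 120029, 120269, 116864], [7, 0, 120031, 120271], [321, 3, 47235, 108139, 120256], [322, 0, 65291, 108136, 120256], [323, 3, 83471, 108144, 120256], [324, 0, 65076, 108146, 120256], [325, 3, 81002, 108162, 120256], [326, 0, 65094, 108161, 120256], [327, 3, 111678, 111684, 120256], [383, 0, 120257, 108148, 120256], [395, 0, 120257, 108150, 120256], [405, 0, 120257, 108152, 120256], [414, 3, 114464, 114463, 120256], [311, 2, 120286, 117904, 117897], [328, 1, 120286, 117903, 117897], [327, 2, 117898, 120298, 120125], [413, 2, 120300, 117921, 117894], [125, 1, 118962, 118998, 120272], [133, 1, 102357, 116868, 120272], [134, 2, 95555, 116866, 120272], [241, 2, 111047, 111382, 116870, 120272], [255, 2, 120273, 116875, 120272],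 [271, 2, 120273, 116877, 120272], [287, 2, 120273, 116879, 120272], [303, 2, 116986, 116863, 120272], [304, 1, 117963, 116922, 120272], [319, 2, 117963, 116924, 120272], [320, 1, 116986, 116887, 120272], [330, 27, 120248, 120124, 120265, 115425, 111786, 117398, 116973, 117134, 116972, 117379, 117376, 117363, 111684, 110959, 111820, 111890, 117763, 117761, 117803, 117804, 117755, 117753, 117751, 117963, 117433, 116942, 117465, 111277, 111293, 47257, 47316, 47626, 116860, 120272], [266, 1, 120033, 120326, 111048, 110767], [251, 2, 120329, 110825, 120328], [267, 2, 120329, 110767, 120328], [283, 2, 120329, 110709, 120328], [287, 0, 120035, 120334, 120034], [283, 2, 120037, 120336, 120036], [287, 0, 120039, 120338, 120038], [296, 3, 120041, 120340, 120040], [288, 1, 120043, 120342, 120042], [284, 3, 120045, 120344, 120044], [288, 1, 120047, 120346, 120046], [295, 2, 120049, 120348, 120048], [287, 0, 120051, 120350, 120050], [283, 2, 120053, 120352, 120052], [271, 0, 120035, 120332, 120034], [267, 2, 120037, 120356, 120036], [271, 0, 120039, 120358, 120038], [280, 3,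 120041, 120360, 120040], [272, 1, 120043, 120362, 120042], [268, 3, 120045, 120364, 120044], [272, 1, 120047, 120366, 120046], [279, 2, 120049, 120368, 120048], [271, 0, 120051, 120370, 120050], [267, 2, 120053, 120372, 120052], [255, 0, 120035, 120330, 120034], [251, 2, 120037, 120376, 120036], [255, 0, 120039, 120378, 120038], [264, 3, 120041, 120380, 120040], [256, 1, 120043, 120382, 120042], [252, 3, 120045, 120384, 120044], [256, 1, 120047, 120386, 120046], [263, 2, 120049, 120388, 120048], [255, 0, 120051, 120390, 120050], [251, 2, 120053, 120392, 120052], [314, 1, 120033, 120310, 111048, 111454], [53, 1, 110479, 120252]]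
def dJ304 : List (List ℕ) := [[279, 2, 121592, 17095, 121593], [295, 2, 121592, 17097, 121593], [297, 1, 121592, 17122, 46011, 121593], [314, 3, 121592, 46022, 17150, 105700], [343, 2, 121592, 41765, 121593], [359, 2, 121592, 41057, 121593], [375, 2, 121592, 17099, 121593], [173, 0, 105710, 106000, 121606], [174, 3, 121590, 121614, 121606], [0, 0], [329, 24, 108776, 114841, 114849, 114839, 114819, 79026, 105867, 105868, 105019, 41411, 105018, 104805, 104086, 104666, 94187, 94192, 49490, 50554, 50547, 36743, 2823, 2700, 8184, 42648, 99919, 99914, 63149, 63686, 94166, 104975, 94292, 104448, 99448, 121618], [54, 2, 121620, 63670], [125, 1, 121620, 76967, 121108], [126, 2, 121620, 113885, 113872], [133, 1, 121620, 106834, 98447], [134, 2, 121620, 110909, 111013], [217, 1, 121620, 81380, 81452, 108074], [218, 3, 121620, 113885, 113895, 113017], [241, 2, 121620, 106834, 106831, 104847], [242, 2, 121620, 101477, 106170, 99551], [255, 2, 121620, 63914, 121621], [271, 2, 121620, 63906, 121621], [287, 2, 121620, 63825, 121621], [303, 2, 121620, 63921, 114138], [304, 1, 121620,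 63951, 106407], [319, 2, 121620, 63954, 106407], [320, 1, 121620, 63924, 114138], [329, 5, 121620, 101485, 51774, 106280, 99754, 83285, 83283, 104687, 104680, 103520, 100773, 67847, 24765, 48530, 49901, 49912, 46677, 44700, 12881, 67895, 104992, 105006, 92559, 92557, 12279, 11447, 46295, 99395, 53678, 99394, 104505, 51786, 100987, 104214], [329, 13, 121620, 101485, 51774, 106280, 99754, 83285, 83283, 106337, 105754, 106320, 102357, 68420, 108074, 108063, 99497, 92030, 105004, 104969, 56687, 94034, 67906, 94035, 94032, 12880, 44701, 46676, 36891, 916, 1399, 6550, 37946, 48724, 48713, 24769], [335, 2, 121620, 63780, 121621], [351, 2, 121620, 63752, 121621], [367, 2, 121620, 63724, 121621], [266, 1, 99783, 46241, 121656, 121643], [0, 0], [221, 4, 120258, 114440, 114442, 47802, 47808, 115423, 121666], [125, 1, 121668, 120274, 47677], [126, 2, 121668, 120276, 65269], [133, 1, 121668, 120278, 113118], [134, 2, 121668, 120280, 64731], [217, 1, 121668, 120258, 114440, 114449], [218, 3, 121668, 120276, 108164, 108143], [241, 2, 121668, 120278, 114475, 114449], [242, 2,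 121668, 120282, 108144, 108143], [255, 2, 121668, 120288, 121669], [271, 2, 121668, 120290, 121669], [287, 2, 121668, 120292, 121669], [303, 2, 121668, 120297, 114449], [304, 1, 121668, 120294, 108143], [319, 2, 121668, 120257, 108143], [320, 1, 121668, 120299, 114449], [329, 23, 121668, 120125, 120245, 111725, 118144, 118149, 111034, 111327, 111328, 111355, 110429, 111354, 111360, 46997, 18648, 47259, 110902, 110889, 110886, 110439, 110293, 110997, 110992, 110920, 111444, 111441, 111439, 111437, 111435, 111433, 111717, 111718, 115463, 121666], [335, 2, 121668, 120210, 121669], [351, 2, 121668, 120176, 121669], [367, 2, 121668, 120142, 121669], [328, 2, 110261, 114426, 121698], [0, 0], [249, 2, 42700, 118413, 121710], [249, 3, 121712, 118413, 121710], [266, 1, 121712, 12993, 118353, 118358], [279, 0, 121712, 12994, 121713], [282, 1, 121712, 108140, 111685, 111575], [295, 0, 121712, 12996, 121713], [297, 4, 121712, 114443, 117896, 117987], [314, 1, 121712, 12991, 99957, 63375], [327, 0, 121712, 44668, 111412], [343, 0, 121712, 41403, 121713], [359, 0, 121712, 40713,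 121713], [375, 0, 121712, 12998, 121713], [314, 1, 121507, 44660, 111412, 121728], [320, 2, 118911, 118917, 121728], [321, 1, 117903, 117987, 121728], [323, 1, 101837, 111660, 121728], [324, 2, 76838, 111659, 121728], [0, 0], [265, 2, 45734, 12994, 118413, 121746], [263, 2, 121748, 36993, 121749], [266, 3, 121748, 17127, 45732, 118348], [279, 2, 121748, 17127, 121749], [295, 2, 121748, 17129, 121749], [297, 1, 121748, 17125, 45808, 121749], [312, 1, 121748, 46011, 121593], [313, 1, 121748, 45895, 44676, 105809], [314, 3, 121748, 46013, 17377, 105695], [327, 2, 121748, 46013, 121593], [343, 2, 121748, 37351, 121749], [359, 2, 121748, 37343, 121749], [375, 2, 121748, 17131, 121749], [323, 3, 105814, 121617, 121766], [324, 0, 102062, 121615, 121766], [0, 0], [281, 2, 65300, 12996, 118413, 121778], [263, 2, 121780, 65281, 121781], [265, 1, 121780, 65277, 25415, 118441], [279, 2, 121780, 65283, 121781], [282, 3, 121780, 65285, 108164, 110952], [295, 2, 121780, 65285, 121781], [297, 1, 121780, 120277, 120294, 110952], [298, 3, 121780, 65287, 49762, 118413], [313, 1,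 121780, 65263, 49531, 119572], [314, 3, 121780, 65291, 97199, 105698], [343, 2, 121780, 65295, 121781], [359, 2, 121780, 65297, 121781], [375, 2, 121780, 65299, 121781], [174, 3, 109464, 109486, 121798], [233, 0, 113715, 106637, 106445, 121798], [0, 0], [0, 0], [0, 0], [0, 0], [0, 0], [0, 0], [0, 0], [0, 0], [0, 0], [0, 0], [0, 0], [0, 0], [0, 0], [0, 0], [0, 0], [0, 0], [0, 0], [0, 0], [0, 0], [0, 0], [0, 0], [0, 0], [0, 0], [0, 0], [0, 0], [0, 0], [0, 0], [0, 0], [0, 0], [0, 0], [329, 32, 118412, 41403, 118413, 121710, 121810, 121812, 121814, 121816, 121818, 121820, 121822, 121824, 121826, 121828, 121830, 121832, 121834, 121836, 121838, 121840, 121842, 121844, 121846, 121848, 121850, 121852, 121854, 121856, 121858, 121860, 121862, 121864, 121866, 121868], [126, 2, 121870, 118423, 110451], [133, 1, 121870, 118434, 98461], [134, 2, 121870, 118436, 68423], [217, 1, 121870, 118419, 118422, 121871], [241, 2, 121870, 118434, 106303, 68423], [242, 2, 121870, 118425, 106101, 98461], [255, 2, 121870, 118415, 121871], [271, 2, 121870, 118417, 121871], [287, 2, 121870,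 118421, 121871], [335, 2, 121870, 118429, 121871], [351, 2, 121870, 118431, 121871], [367, 2, 121870, 118433, 121871], [363, 0, 121868, 121894, 121869], [367, 2, 121866, 121896, 121867], [376, 1, 121864, 121898, 121865], [368, 3, 121862, 121900, 121863], [364, 1, 121860, 121902, 121861], [368, 3, 121858, 121904, 121859], [375, 0, 121856, 121906, 121857], [367, 2, 121854, 121908, 121855], [363, 0, 121852, 121910, 121853], [367, 2, 121850, 121912, 121851], [375, 0, 121848, 121914, 121849], [368, 3, 121846, 121916, 121847], [364, 1, 121844, 121918, 121845], [368, 3, 121842, 121920, 121843], [376, 1, 121840, 121922, 121841], [367, 2, 121838, 121924, 121839], [363, 0, 121836, 121926, 121837], [367, 2, 121834, 121928, 121835], [376, 1, 121832, 121930, 121833], [368, 3, 121830, 121932, 121831], [364, 1, 121828, 121934, 121829], [368, 3, 121826, 121936, 121827], [376, 1, 121824, 121938, 121825], [367, 2, 121822, 121940, 121823], [363, 0, 121820, 121942, 121821], [367, 2, 121818, 121944, 121819], [375, 0, 121816, 121946, 121817], [368, 3, 121814, 121948, 121815], [364,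 1, 121812, 121950, 121813], [347, 0, 121868, 121892, 121869], [351, 2, 121866, 121954, 121867], [360, 1, 121864, 121956, 121865], [352, 3, 121862, 121958, 121863], [348, 1, 121860, 121960, 121861], [352, 3, 121858, 121962, 121859], [359, 0, 121856, 121964, 121857], [351, 2, 121854, 121966, 121855], [347, 0, 121852, 121968, 121853], [351, 2, 121850, 121970, 121851], [359, 0, 121848, 121972, 121849], [352, 3, 121846, 121974, 121847], [348, 1, 121844, 121976, 121845], [352, 3, 121842, 121978, 121843], [360, 1, 121840, 121980, 121841], [351, 2, 121838, 121982, 121839], [347, 0, 121836, 121984, 121837], [351, 2, 121834, 121986, 121835], [360, 1, 121832, 121988, 121833], [352, 3, 121830, 121990, 121831], [348, 1, 121828, 121992, 121829], [352, 3, 121826, 121994, 121827], [360, 1, 121824, 121996, 121825]]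
def dJ308 : List (List ℕ) := [[349, 2, 123170, 60655, 123171], [365, 2, 123170, 60627, 123171], [225, 3, 123184, 123181, 109751, 123180], [0, 0], [345, 10, 107805, 98026, 106677, 99081, 53809, 106525, 106517, 97259, 107490, 107580, 106679, 106684, 106685, 106678, 107581, 107488, 106850, 105057, 105996, 105997, 105056, 106851, 107489, 107580, 106679, 106684, 53793, 95228, 108377, 108234, 108320, 99103, 101635, 99207, 53777, 40757, 13485, 14324, 46304, 46140, 24192, 49241, 49224, 53825, 103338, 123206], [53, 2, 123208, 107780], [125, 3, 123208, 107875, 107354], [126, 0, 123208, 107873, 114580], [134, 0, 123208, 107882, 104091], [218, 1, 123208, 107869, 115521, 115522], [255, 0, 123208, 107879, 123209], [271, 0, 123208, 107881, 123209], [287, 0, 123208, 107865, 123209], [303, 0, 123208, 108190, 108169], [304, 3, 123208, 114504, 114477], [319, 0, 123208, 114506, 114477], [320, 3, 123208, 108192, 108169], [329, 1, 123208, 107871, 103325, 101910, 46550, 23735, 24192, 96668, 55792, 55794, 55796, 55798, 103109, 103106, 55313, 55311, 55309, 99205, 99206, 55643, 55641, 97877,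 97878, 98050, 39074, 46982, 46995, 97340, 55625, 99019, 52232, 99166, 41261, 99167], [329, 9, 123208, 107871, 103325, 102027, 102101, 101955, 105678, 98979, 55293, 55291, 55289, 95191, 50597, 25927, 25848, 95094, 55277, 55275, 55273, 55271, 23768, 24084, 48127, 48112, 41466, 48113, 48114, 941, 1390, 6529, 36836, 49780, 49771, 24034], [335, 0, 123208, 107850, 123209], [345, 46, 123208, 107871, 103325, 101910, 46550, 23735, 24192, 96714, 55789, 55787, 55785, 109010, 109007, 109005, 109003, 109023, 108910, 108785, 52836, 97764, 96342, 101622, 95725, 95724, 101623, 96343, 81578, 95229, 97141, 88188, 88189, 97140, 95228, 81579, 96342, 101622, 95725, 75889, 11927, 13018, 45944, 42609, 49780, 49771, 24034, 123236], [361, 46, 123208, 107805, 98026, 103038, 76035, 113550, 113555, 69127, 105185, 107035, 107065, 23768, 24084, 48127, 48114, 941, 1390, 6529, 36914, 45945, 13019, 11926, 75888, 95724, 101623, 96343, 97765, 52837, 108784, 108911, 109022, 109002, 109004, 109006, 109011, 55784, 55786, 55788, 96715, 24193, 23734, 46551, 101911, 103324, 107870, 123209], [265, 3, 62755,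 62813, 50521, 123236], [282, 1, 108989, 65917, 123236, 123224], [94, 2, 123244, 99965, 100269], [0, 0], [361, 13, 95440, 103108, 96693, 98353, 108323, 108235, 108376, 95229, 53792, 106685, 106678, 107581, 107491, 97258, 106516, 106524, 53808, 99080, 106676, 98027, 107804, 123209, 123207, 103339, 53824, 49225, 49240, 24193, 46141, 46305, 14325, 13484, 13468, 13485, 70832, 98103, 98339, 86232, 98349, 98356, 103355, 107624, 114584, 114701, 109196, 123250], [54, 2, 123252, 95439], [125, 1, 123252, 116706, 116700], [126, 2, 123252, 107105, 109880], [134, 2, 123252, 105621, 103930], [218, 3, 123252, 107105, 107083, 109132], [255, 2, 123252, 95444, 123253], [271, 2, 123252, 95446, 123253], [287, 2, 123252, 95448, 123253], [303, 2, 123252, 109929, 109930], [304, 1, 123252, 115592, 116702], [319, 2, 123252, 115598, 116702], [320, 1, 123252, 109917, 109930], [329, 5, 123252, 116033, 116057, 109810, 113636, 113613, 105465, 96059, 95961, 101651, 95695, 52858, 105134, 113614, 113605, 103027, 97846, 97157, 99023, 52681, 96523, 102169, 102045, 105064, 52193, 59650, 101170, 52665,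 52754, 52664, 109665, 115910, 116001, 118262], [329, 13, 123252, 116033, 116057, 109810, 113636, 113613, 105465, 62553, 62881, 101190, 97481, 120939, 120925, 120918, 98299, 65478, 98753, 101573, 98890, 98894, 52690, 98895, 99031, 99022, 97156, 97847, 97854, 44742, 37574, 46126, 60749, 105475, 106989, 85632], [335, 2, 123252, 95450, 123253], [351, 2, 123252, 95454, 123253], [367, 2, 123252, 95832, 123253], [266, 1, 116723, 103263, 123280, 123267], [313, 3, 116718, 116723, 106985, 123280], [78, 2, 123290, 116733], [0, 0], [223, 5, 115706, 46801, 42650, 47079, 47076, 48563, 116737, 123294], [125, 1, 123296, 115713, 50729], [126, 2, 123296, 115715, 47367], [133, 1, 123296, 115736, 55027], [134, 2, 123296, 115738, 113489], [217, 1, 123296, 115706, 109616, 109639], [218, 3, 123296, 115715, 119882, 119916], [241, 2, 123296, 115736, 119886, 119916], [242, 2, 123296, 115717, 109636, 109639], [255, 2, 123296, 115721, 123297], [271, 2, 123296, 115723, 123297], [287, 2, 123296, 115725, 123297], [303, 2, 123296, 119904, 119916], [304, 1, 123296, 115727, 109639], [319, 2, 123296,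 115729, 109639], [320, 1, 123296, 119906, 119916], [335, 2, 123296, 115731, 123297], [351, 2, 123296, 115733, 123297], [367, 2, 123296, 115735, 123297], [315, 1, 123327, 119488, 123326], [328, 2, 113675, 119498, 123326], [250, 3, 123315, 123336, 123026], [313, 1, 123338, 123313, 123324, 123339], [0, 0], [265, 2, 45963, 13518, 119923, 123342], [263, 2, 123344, 42296, 123345], [266, 3, 123344, 17145, 45671, 111298], [279, 2, 123344, 17145, 123345], [295, 2, 123344, 17147, 123345], [313, 1, 123344, 46027, 44725, 119834], [314, 3, 123344, 46712, 17395, 96712], [343, 2, 123344, 41753, 123345], [359, 2, 123344, 41045, 123345], [375, 2, 123344, 17149, 123345], [241, 1, 123355, 119836, 119842, 123354], [0, 0], [281, 2, 109612, 13520, 119923, 123366], [250, 1, 123368, 112995, 112965], [263, 2, 123368, 109623, 123369], [265, 1, 123368, 110286, 110280, 119959], [279, 2, 123368, 109625, 123369], [282, 3, 123368, 109627, 109611, 112594], [295, 2, 123368, 109627, 123369], [297, 1, 123368, 109641, 49854, 119305], [298, 3, 123368, 115726, 115715, 117430], [313, 1, 123368, 109619,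 73517, 104946], [314, 3, 123368, 119908, 119889, 98577], [343, 2, 123368, 109629, 123369], [359, 2, 123368, 109631, 123369], [375, 2, 123368, 109633, 123369], [173, 0, 121517, 103360, 123388], [180, 6, 121484, 121517, 121726, 121742, 105412, 104905, 123388], [0, 0], [297, 2, 49852, 44693, 119923, 123400], [250, 1, 123402, 118709, 118525], [263, 2, 123402, 49850, 123403], [265, 1, 123402, 49814, 24194, 122328], [279, 2, 123402, 49848, 123403], [282, 3, 123402, 49846, 49859, 117430], [295, 2, 123402, 49846, 123403], [311, 2, 123402, 50746, 112594], [312, 1, 123402, 49854, 119305], [313, 1, 123402, 49806, 50874, 101348], [314, 3, 123402, 49856, 50073, 107305], [327, 2, 123402, 49856, 119305], [328, 1, 123402, 50748, 112594], [343, 2, 123402, 49844, 123403], [359, 2, 123402, 49842, 123403], [375, 2, 123402, 49840, 123403], [319, 1, 112579, 112118, 123426], [323, 1, 62797, 112584, 123426], [324, 2, 61312, 112583, 123426], [134, 1, 123438, 103730, 112570], [0, 0], [0, 0], [0, 0], [0, 0], [0, 0], [0, 0], [0, 0], [0, 0], [0, 0], [0, 0], [0, 0], [0, 0], [0, 0], [0, 0],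 [0, 0], [0, 0], [0, 0], [0, 0], [0, 0], [0, 0], [0, 0], [0, 0], [0, 0], [0, 0], [0, 0], [0, 0], [0, 0], [0, 0], [0, 0], [0, 0], [329, 32, 119922, 41415, 119923, 119925, 123442, 123444, 123446, 123448, 123450, 123452, 123454, 123456, 123458, 123460, 123462, 123464, 123466, 123468, 123470, 123472, 123474, 123476, 123478, 123480, 123482, 123484, 123486, 123488, 123490, 123492, 123494, 123496, 123498, 123500], [54, 2, 123502, 120104], [126, 2, 123502, 123400, 123434], [133, 1, 123502, 119954, 103757], [134, 2, 123502, 119952, 87651], [255, 2, 123502, 119927, 123503], [271, 2, 123502, 119929, 123503], [287, 2, 123502, 119933, 123503], [335, 2, 123502, 119947, 123503], [351, 2, 123502, 119949, 123503], [367, 2, 123502, 119951, 123503], [363, 0, 123500, 123522, 123501], [367, 2, 123498, 123524, 123499], [376, 1, 123496, 123526, 123497], [368, 3, 123494, 123528, 123495], [364, 1, 123492, 123530, 123493], [368, 3, 123490, 123532, 123491], [375, 0, 123488, 123534, 123489], [367, 2, 123486, 123536, 123487], [363, 0, 123484, 123538, 123485], [367, 2, 123482, 123540, 123483],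 [375, 0, 123480, 123542, 123481], [368, 3, 123478, 123544, 123479], [364, 1, 123476, 123546, 123477], [368, 3, 123474, 123548, 123475], [376, 1, 123472, 123550, 123473], [367, 2, 123470, 123552, 123471], [363, 0, 123468, 123554, 123469], [367, 2, 123466, 123556, 123467], [376, 1, 123464, 123558, 123465], [368, 3, 123462, 123560, 123463], [364, 1, 123460, 123562, 123461], [368, 3, 123458, 123564, 123459], [376, 1, 123456, 123566, 123457], [367, 2, 123454, 123568, 123455], [363, 0, 123452, 123570, 123453], [367, 2, 123450, 123572, 123451], [375, 0, 123448, 123574, 123449], [368, 3, 123446, 123576, 123447], [364, 1, 123444, 123578, 123445], [347, 0, 123500, 123520, 123501], [351, 2, 123498, 123582, 123499], [360, 1, 123496, 123584, 123497], [352, 3, 123494, 123586, 123495], [348, 1, 123492, 123588, 123493], [352, 3, 123490, 123590, 123491], [359, 0, 123488, 123592, 123489], [351, 2, 123486, 123594, 123487], [347, 0, 123484, 123596, 123485]]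
def dJ312 : List (List ℕ) := [[113, 1, 124798, 118998, 118974], [114, 2, 124798, 124800, 124797], [209, 1, 124798, 118971, 102121, 80031], [216, 6, 124798, 118975, 116865, 110419, 99265, 102158, 80031, 106257], [253, 2, 124798, 118854, 124799], [269, 2, 124798, 118796, 124799], [282, 2, 124798, 118985, 48963, 110161], [285, 2, 124798, 118738, 124799], [301, 2, 124798, 118979, 117966], [318, 1, 124798, 118995, 117966], [333, 2, 124798, 118680, 124799], [349, 2, 124798, 118624, 124799], [365, 2, 124798, 118568, 124799], [323, 1, 91276, 117982, 124818], [324, 2, 75623, 117985, 124818], [0, 0], [0, 0], [345, 14, 96440, 103092, 124676, 124678, 98822, 46125, 37009, 37012, 37013, 37008, 46124, 98051, 97941, 96659, 97220, 97221, 96658, 97940, 98050, 46125, 37009, 37012, 94984, 75059, 97155, 99161, 99166, 24740, 46756, 46433, 46133, 40770, 46124, 12229, 11903, 75101, 75099, 103301, 103306, 101710, 48704, 48714, 25427, 95094, 124830, 124832], [54, 0, 124834, 55276, 124830], [4, 0, 124832, 124837], [8, 0, 124835, 124837], [125, 1, 124840, 77591, 96446], [126, 2, 124840, 77588,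 96502], [134, 2, 124840, 102241, 55277], [136, 1, 124831, 102240, 124846, 124840, 102241], [217, 1, 124840, 96436, 95652, 95554], [218, 3, 124840, 77588, 96500, 115740], [242, 2, 124840, 96566, 99271, 82200], [255, 2, 124840, 55602, 124841], [271, 2, 124840, 55556, 124841], [287, 2, 124840, 55510, 124841], [303, 2, 124840, 62343, 107755], [320, 1, 124840, 62299, 107755], [335, 2, 124840, 55464, 124841], [351, 2, 124840, 55418, 124841], [361, 1, 124840, 96440, 68625, 67144, 67149, 103333, 108516, 108512, 103029, 97870, 96652, 99009, 55643, 95959, 106464, 102057, 105694, 37405, 13553, 46646, 97340, 99225, 99218, 96347, 95714, 49429, 49382, 49284, 42608, 37404, 46728, 13648, 105691, 105429, 105343, 82470, 107132, 50599, 50449, 49973, 96746, 82446, 96844, 82201, 55377, 82200], [367, 2, 124840, 55372, 124841], [0, 0], [361, 16, 123210, 123235, 99160, 97154, 75058, 94985, 37013, 37008, 46124, 98823, 124679, 124677, 103093, 96441, 124841, 124838, 124831, 95095, 25426, 48715, 48705, 101711, 103307, 103300, 75098, 75100, 11902, 12228, 46125, 14130, 46124, 98823, 124679,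 124713, 99170, 72211, 72217, 96891, 96886, 96987, 96669, 24181, 25354, 48572, 108184, 124874], [38, 2, 124876, 107782], [85, 1, 124876, 107852, 105598], [86, 2, 124876, 116652, 118259], [94, 2, 124876, 107837, 107783], [96, 1, 124879, 107836, 124884, 124876, 107837], [201, 1, 124876, 107856, 78081, 105590], [202, 3, 124876, 116652, 116651, 105331], [234, 2, 124876, 107885, 105529, 103956], [251, 2, 124876, 107859, 124877], [265, 2, 124876, 107860, 121538, 121523], [266, 2, 124876, 107822, 54025, 103194], [267, 2, 124876, 107861, 124877], [283, 2, 124876, 107863, 124877], [299, 2, 124876, 107835, 107783], [300, 1, 124876, 124904, 124879], [316, 1, 124876, 107839, 107783], [331, 2, 124876, 107848, 124877], [347, 2, 124876, 107844, 124877], [363, 2, 124876, 107817, 124877], [316, 1, 124878, 124909, 124877], [319, 3, 124916, 107784, 108223], [0, 0], [249, 2, 42699, 116673, 124920], [249, 3, 124922, 116673, 124920], [279, 0, 124922, 14142, 124923], [295, 0, 124922, 14144, 124923], [297, 4, 124922, 94546, 117490, 122409], [311, 0, 124922, 48014, 119018], [313, 4, 124922,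 14141, 106626, 119005], [314, 1, 124922, 14133, 96691, 71230], [327, 0, 124922, 44655, 122403], [343, 0, 124922, 41406, 124923], [359, 0, 124922, 40716, 124923], [375, 0, 124922, 14146, 124923], [282, 1, 115463, 115422, 124923, 124928], [314, 1, 113755, 44637, 122403, 124938], [321, 1, 117483, 122409, 124938], [323, 1, 124939, 122421, 124938], [0, 0], [0, 0], [0, 0], [0, 0], [0, 0], [0, 0], [0, 0], [0, 0], [0, 0], [0, 0], [0, 0], [0, 0], [0, 0], [0, 0], [0, 0], [0, 0], [0, 0], [0, 0], [0, 0], [0, 0], [0, 0], [0, 0], [0, 0], [0, 0], [0, 0], [0, 0], [329, 28, 111959, 118385, 121716, 121738, 116672, 41406, 116673, 124920, 124954, 124956, 124958, 124960, 124962, 124964, 124966, 124968, 124970, 124972, 124974, 124976, 124978, 124980, 124982, 124984, 124986, 124988, 124990, 124992, 124994, 124996, 124998, 125000, 125002, 125004], [53, 2, 125006, 112106], [126, 0, 125006, 117510, 116954], [133, 3, 125006, 111986, 55797], [134, 0, 125006, 111988, 106201], [241, 0, 125006, 111971, 55797, 125012], [255, 0, 125006, 111962, 125007], [271, 0, 125006, 111967, 125007], [287,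 0, 125006, 111969, 125007], [304, 3, 125006, 119024, 118500], [319, 0, 125006, 119026, 118500], [329, 17, 125002, 125004, 125006, 111960, 12334, 12992, 14138, 116673, 121739, 121717, 118384, 111957, 12334, 12992, 14138, 124923, 124941, 124922, 116673, 121739, 121717, 118384, 111958, 125007, 125005, 125003, 125001, 124999, 124997, 124995, 124993, 124991, 124989, 124987], [330, 17, 125000, 125002, 125004, 125006, 111960, 12334, 12992, 14138, 116673, 121739, 121717, 118384, 111957, 12334, 12992, 14138, 124923, 124921, 116689, 124920, 124954, 124956, 124958, 124960, 124962, 124964, 124966, 124968, 124970, 124972, 124974, 124976, 124978, 124980, 124982], [8, 0, 124998, 125031, 124983], [15, 0, 125001, 125031], [3, 0, 124996, 125033, 124981], [8, 0, 124994, 125037, 124979], [16, 0, 124992, 125039], [335, 0, 125006, 111973, 125007], [346, 27, 124991, 124989, 124987, 124985, 124983, 124981, 124979, 125040, 124991, 124989, 124987, 125028, 125002, 125004, 125006, 111959, 118385, 121716, 121738, 116691, 124920, 124954, 124956, 124958, 124960, 124962, 124964, 124966, 124968,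 124970, 124972, 124974, 124976, 124978, 124980, 124982, 124983, 124981, 124979, 124977, 124975, 124973, 124971, 124970, 124972, 124974], [351, 0, 125006, 111975, 125007], [367, 0, 125006, 111977, 125007], [345, 46, 125002, 125004, 125006, 111960, 12334, 12992, 14138, 116673, 121739, 121717, 118384, 111958, 125007, 125005, 125003, 125035, 124983, 124981, 124979, 125040, 124991, 124989, 124987, 124986, 124988, 124990, 125045, 124975, 124973, 124971, 124970, 124972, 124974, 125044, 124991, 124989, 124987, 124985, 124983, 124981, 124979, 125040, 124991, 124989, 124987, 125028], [360, 1, 125028, 125050, 125029], [351, 2, 124987, 125052, 124986], [347, 0, 124989, 125054, 124988], [351, 2, 124991, 125056, 124990], [359, 0, 125044, 125058, 125045], [360, 1, 125040, 125058, 125041], [352, 3, 124979, 125062, 124978], [352, 3, 124974, 125060, 124975], [348, 1, 124972, 125066, 124973], [352, 3, 124970, 125068, 124971], [360, 1, 124968, 125070, 124969], [351, 2, 124966, 125072, 124967], [347, 0, 124964, 125074, 124965], [351, 2, 124962, 125076, 124963], [359, 0, 124960, 125078,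 124961], [352, 3, 124958, 125080, 124959], [348, 1, 124956, 125082, 124957], [363, 2, 125004, 125048, 125005], [367, 0, 125002, 125086, 125003], [376, 3, 125034, 125088, 125035], [368, 1, 124982, 125090, 124983], [364, 3, 124980, 125092, 124981], [368, 1, 124978, 125094, 124979], [375, 2, 124976, 125096, 124977], [367, 0, 124974, 125098, 124975], [363, 2, 124972, 125100, 124973], [367, 0, 124970, 125102, 124971], [375, 2, 124968, 125104, 124969], [368, 1, 124966, 125106, 124967], [364, 3, 124964, 125108, 124965], [368, 1, 124962, 125110, 124963], [376, 3, 124960, 125112, 124961], [367, 0, 124958, 125114, 124959], [363, 2, 124956, 125116, 124957], [249, 3, 125044, 125041, 124977], [249, 3, 125041, 124977, 125044], [255, 0, 124990, 125122, 124991], [251, 2, 124988, 125124, 124989], [255, 0, 124986, 125126, 124987], [263, 2, 124984, 125128, 124985], [264, 3, 125029, 125128, 125028], [256, 1, 124982, 125130, 124983], [252, 3, 124980, 125134, 124981], [255, 0, 124974, 125120, 124975], [251, 2, 124972, 125138, 124973], [255, 0, 124970, 125140, 124971], [263, 2, 124968,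 125142, 124969], [256, 1, 124966, 125144, 124967], [252, 3, 124964, 125146, 124965], [256, 1, 124962, 125148, 124963], [264, 3, 124960, 125150, 124961], [255, 0, 124958, 125152, 124959], [251, 2, 124956, 125154, 124957], [331, 2, 125004, 125042, 125005], [335, 0, 125002, 125158, 125003], [344, 3, 125034, 125160, 125035], [336, 1, 124982, 125162, 124983], [332, 3, 124980, 125164, 124981], [336, 1, 124978, 125166, 124979], [343, 2, 124976, 125168, 124977], [335, 0, 124974, 125170, 124975], [331, 2, 124972, 125172, 124973], [335, 0, 124970, 125174, 124971], [343, 2, 124968, 125176, 124969], [336, 1, 124966, 125178, 124967], [332, 3, 124964, 125180, 124965], [336, 1, 124962, 125182, 124963], [344, 3, 124960, 125184, 124961], [335, 0, 124958, 125186, 124959], [331, 2, 124956, 125188, 124957], [315, 2, 122457, 119034, 125026, 125005], [4, 0, 125005, 125192], [8, 0, 125002, 125192], [318, 2, 120622, 122486, 125026]]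
def dJ316 : List (List ℕ) := [[284, 1, 126186, 126398, 126187], [288, 3, 126184, 126400, 126185], [295, 0, 126182, 126402, 126183], [287, 2, 126180, 126404, 126181], [283, 0, 126178, 126406, 126179], [287, 2, 126176, 126408, 126177], [295, 0, 126174, 126410, 126175], [288, 3, 126172, 126412, 126173], [284, 1, 126170, 126414, 126171], [288, 3, 126168, 126416, 126169], [296, 1, 126166, 126418, 126167], [287, 2, 126164, 126420, 126165], [283, 0, 126162, 126422, 126163], [287, 2, 126160, 126424, 126161], [296, 1, 126158, 126426, 126159], [288, 3, 126156, 126428, 126157], [284, 1, 126154, 126430, 126155], [288, 3, 126152, 126432, 126153], [296, 1, 126150, 126434, 126151], [287, 2, 126148, 126436, 126149], [283, 0, 126146, 126438, 126147], [287, 2, 126144, 126440, 126145], [295, 0, 126142, 126442, 126143], [288, 3, 126140, 126444, 126141], [284, 1, 126138, 126446, 126139], [267, 0, 126194, 126208, 126195], [271, 2, 126192, 126450, 126193], [280, 1, 126190, 126452, 126191], [272, 3, 126188, 126454, 126189], [268, 1, 126186, 126456, 126187], [272, 3, 126184, 126458, 126185],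 [279, 0, 126182, 126460, 126183], [271, 2, 126180, 126462, 126181], [267, 0, 126178, 126464, 126179], [271, 2, 126176, 126466, 126177], [279, 0, 126174, 126468, 126175], [272, 3, 126172, 126470, 126173], [268, 1, 126170, 126472, 126171], [272, 3, 126168, 126474, 126169], [280, 1, 126166, 126476, 126167], [271, 2, 126164, 126478, 126165], [267, 0, 126162, 126480, 126163], [271, 2, 126160, 126482, 126161], [280, 1, 126158, 126484, 126159], [272, 3, 126156, 126486, 126157], [268, 1, 126154, 126488, 126155], [272, 3, 126152, 126490, 126153], [280, 1, 126150, 126492, 126151], [271, 2, 126148, 126494, 126149], [267, 0, 126146, 126496, 126147], [271, 2, 126144, 126498, 126145], [279, 0, 126142, 126500, 126143], [272, 3, 126140, 126502, 126141], [268, 1, 126138, 126504, 126139], [251, 0, 126194, 126206, 126195], [255, 2, 126192, 126508, 126193], [264, 1, 126190, 126510, 126191], [256, 3, 126188, 126512, 126189], [252, 1, 126186, 126514, 126187], [256, 3, 126184, 126516, 126185], [263, 0, 126182, 126518, 126183], [255, 2, 126180, 126520, 126181], [251, 0, 126178, 126522,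 126179], [255, 2, 126176, 126524, 126177], [263, 0, 126174, 126526, 126175], [256, 3, 126172, 126528, 126173], [252, 1, 126170, 126530, 126171], [256, 3, 126168, 126532, 126169], [264, 1, 126166, 126534, 126167], [255, 2, 126164, 126536, 126165], [251, 0, 126162, 126538, 126163], [255, 2, 126160, 126540, 126161], [264, 1, 126158, 126542, 126159], [256, 3, 126156, 126544, 126157], [252, 1, 126154, 126546, 126155], [256, 3, 126152, 126548, 126153], [264, 1, 126150, 126550, 126151], [255, 2, 126148, 126552, 126149], [251, 0, 126146, 126554, 126147], [255, 2, 126144, 126556, 126145], [263, 0, 126142, 126558, 126143], [256, 3, 126140, 126560, 126141], [252, 1, 126138, 126562, 126139], [94, 0, 126194, 126204, 126195], [233, 3, 126204, 126203, 105054, 112886], [38, 2, 126568, 126195], [235, 0, 105057, 105054, 112886, 126568, 126195, 126567, 126567], [236, 7, 106013, 106013, 69968, 106415, 112889, 126568, 126195], [133, 1, 126192, 126574, 69967], [135, 2, 106850, 126573, 126574, 69967, 126576], [225, 2, 126574, 107957, 114126, 114148], [241, 2, 126192, 126574, 106013,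 69967], [245, 4, 106850, 126573, 126574, 106013, 106013, 69967, 126582], [307, 2, 126574, 79227, 122463], [308, 1, 126574, 76898, 118888], [323, 2, 126574, 76934, 118888], [324, 1, 126574, 79229, 122463], [314, 2, 125491, 122549, 126592, 126566], [318, 2, 120543, 122480, 126592], [319, 2, 121822, 126592, 126193], [328, 2, 125277, 121825, 126592], [361, 1, 126192, 126600, 125312, 93335, 93272, 93263, 65311, 93258, 122700, 122844, 122834, 111437, 122675, 93337, 81546, 93147, 122709, 125947, 125944, 125894, 110028, 44602, 18618, 45673, 111298, 111034, 111327, 111328, 111360, 46997, 18648, 47259, 110905, 110446, 110448, 110450, 110953, 108143, 108120, 110956, 110460, 110462, 111007, 111008, 110545, 111009], [249, 2, 110855, 126602, 126191], [281, 1, 126603, 110934, 110739, 126602], [311, 2, 125855, 125844, 126602], [312, 1, 122452, 111736, 126602], [328, 1, 125855, 125846, 126602], [314, 3, 126190, 126612, 122247, 109545], [321, 3, 126612, 122522, 111739], [78, 1, 109533, 126614], [174, 3, 113938, 109572, 126614], [233, 0, 102075, 109490, 109528, 126614], [241, 4,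 115279, 115268, 126614, 126189], [70, 2, 126624, 113931], [225, 2, 126624, 113797, 113898, 118888], [226, 2, 126624, 113884, 121621, 121631], [234, 2, 126186, 126624, 115279, 115297], [237, 1, 98069, 126626, 126624, 113871, 113888, 115281, 126632], [173, 1, 126633, 115278, 126625], [133, 3, 126184, 126634, 97846], [135, 5, 115270, 126632, 126634, 97846, 126638], [226, 4, 126184, 126634, 97993, 126638], [125, 1, 126185, 126642, 126184], [201, 4, 126187, 126644, 126186, 126631], [46, 1, 122484, 126646], [281, 0, 122791, 122796, 126646, 126398], [282, 4, 19395, 93085, 122652, 126646], [266, 2, 126186, 126652, 19393, 45522], [217, 1, 126189, 126648, 126628, 126188], [173, 1, 126640, 115229, 113906], [233, 1, 126640, 115215, 109465, 121807], [240, 6, 126640, 115273, 102991, 102986, 113723, 113695, 121807, 121785], [307, 2, 126640, 115223, 126134], [324, 1, 126640, 115231, 126134], [318, 2, 126079, 126110, 126666], [325, 1, 75952, 126124, 126666], [328, 3, 50369, 126113, 126666, 126183], [8, 0, 126180, 126672, 50405], [15, 0, 126183, 126672], [3, 0, 126178, 126675, 50862],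 [8, 0, 126176, 126679, 50847], [15, 0, 126174, 126681, 45979], [7, 0, 126172, 126683, 25384], [4, 0, 126170, 126685, 48301], [7, 0, 126168, 126687, 48268], [15, 0, 126166, 126689], [265, 1, 118985, 48945, 48210, 126690], [266, 3, 125338, 23833, 48223, 126690], [282, 3, 125634, 22339, 48228, 126690], [297, 1, 126691, 48207, 48225, 126690], [313, 1, 105788, 48638, 48291, 126690], [314, 3, 105048, 48405, 48221, 126690], [173, 2, 126702, 105783, 105784], [174, 1, 126702, 126704, 126700], [241, 1, 126702, 102124, 126202, 126205], [242, 3, 126164, 126702, 105783, 105778, 126092], [3, 0, 126162, 126711, 126083], [8, 0, 126165, 126711], [7, 0, 126160, 126713], [53, 1, 118481, 126716], [125, 1, 120244, 120255, 126716], [133, 1, 84662, 118944, 126716], [134, 2, 99139, 118946, 126716], [217, 1, 126717, 120113, 120255, 126716], [241, 2, 99139, 106107, 118941, 126716], [242, 2, 84662, 106889, 118946, 126716], [303, 2, 121870, 118953, 126716], [304, 1, 122379, 121573, 126716], [319, 2, 122379, 121577, 126716], [320, 1, 121870, 118943, 126716], [362, 45, 110450, 110560, 110451,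 110449, 110447, 110904, 47258, 18649, 46996, 110412, 111352, 111044, 111046, 122695, 93022, 81544, 93070, 122795, 120398, 122879, 118173, 122871, 93146, 81547, 93336, 122672, 111433, 111717, 111718, 115463, 121666, 121700, 121668, 120286, 125968, 126002, 117365, 117383, 114414, 114417, 114448, 114441, 120259, 120260, 118937, 126716], [250, 2, 126158, 126543, 126740], [265, 1, 126740, 110449, 110797, 126602], [266, 3, 126190, 126453, 126744, 126159], [85, 1, 126746, 126657, 126747], [93, 1, 126746, 126618, 101621], [94, 2, 126746, 126615, 109529], [233, 2, 126746, 126618, 106656, 106260], [234, 2, 126746, 126620, 113938, 98245], [133, 3, 121806, 98922, 126756, 126157], [4, 0, 126154, 126758, 126660], [7, 0, 126157, 126758], [3, 0, 126662, 126760], [4, 0, 126660, 126760], [6, 0, 126669, 126760], [7, 0, 126185, 126760], [9, 0, 126761, 126642, 126760], [11, 0, 126638, 126760], [12, 0, 126641, 126760], [13, 0, 126671, 126760], [14, 0, 126658, 126760], [16, 0, 126676, 126760], [23, 0, 126664, 126760], [26, 0, 126666, 126760], [225, 2, 110922, 98279, 79732, 126756], [226,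 2, 121875, 98976, 98922, 126756], [201, 3, 126657, 126747, 126790, 121869], [203, 5, 110934, 110934, 110448, 126789, 126790, 121869, 126792], [241, 0, 126152, 126780, 113856, 113936], [243, 1, 126152, 126780, 113856, 113873, 113931, 126626, 126636]]
def dJ320 : List (List ℕ) := [[314, 3, 127998, 92962, 93126, 122870], [241, 0, 127473, 127996, 117519, 123008], [310, 1, 127996, 120831, 128002], [325, 2, 127996, 120802, 128002], [96, 3, 128003, 117536, 122863, 127997, 127994], [97, 0, 122840, 127997, 127993, 120329, 128008], [98, 5, 127997, 127994, 120328, 120397, 128011], [266, 2, 127475, 128012, 122866, 93049, 93043], [8, 0, 127477, 128015, 92947], [15, 0, 127474, 128015], [3, 0, 127479, 128017, 93160], [8, 0, 127481, 128021, 93163], [16, 0, 127483, 128023, 92841], [7, 0, 127485, 128025, 25428], [4, 0, 127487, 128027, 48265], [7, 0, 127489, 128029, 48234], [15, 0, 127491, 128031], [249, 1, 127913, 48170, 128032], [281, 1, 112008, 48188, 48174, 128032], [313, 1, 119671, 48708, 48255, 128032], [314, 3, 123191, 48349, 48183, 128032], [241, 2, 128040, 124646, 124672,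 128041, 127492], [4, 0, 127495, 128042], [8, 0, 127492, 128042], [93, 3, 123176, 128041, 128044], [95, 4, 128048, 123176, 128041, 128038, 119702], [173, 0, 114484, 114516, 128050], [180, 6, 107882, 114484, 114491, 112072, 108229, 108177, 128050], [214, 6, 112027, 112006, 118897, 118902, 84254, 101344, 128050], [310, 3, 112065, 56866, 128050], [314, 4, 46387, 46319, 51586, 128050], [325, 0, 112065, 56860, 128050], [314, 4, 128062, 112065, 92591, 127897], [317, 3, 128062, 112061, 112002], [321, 3, 128062, 120888, 120784], [322, 0, 128062, 112053, 112094], [126, 2, 112645, 128070, 127496], [128, 3, 128072, 112645, 128070, 128069, 124422], [298, 3, 111959, 112079, 128070, 128065], [62, 2, 128076, 117510], [125, 1, 127452, 128076, 112106], [127, 2, 123984, 128078, 128076, 112106, 128080], [225, 1, 128076, 111988, 106201, 72854], [136, 3, 127893, 106403, 128084, 127902, 107569], [233, 2, 53813, 106247, 128084, 127454], [134, 0, 127457, 128088, 53814], [136, 1, 108690, 127909, 128088, 53814, 128090], [225, 3, 107781, 107875, 124437, 128074], [70, 2, 128094, 107885], [297,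 0, 124060, 127589, 128072, 112650], [266, 4, 112416, 112164, 128098, 123453], [298, 3, 127998, 92914, 92950, 128018], [0, 0], [0, 0], [0, 0], [0, 0], [0, 0], [0, 0], [0, 0], [0, 0], [345, 15, 50311, 50328, 49169, 49147, 25428, 48265, 48234, 48235, 48264, 25429, 92840, 93162, 93161, 92946, 92947, 93160, 93163, 92841, 25428, 48265, 48234, 128032, 128047, 128044, 127496, 127498, 127500, 127390, 127392, 127353, 41049, 17105, 47334, 47367, 44905, 45034, 45291, 19294, 128104, 128106, 128108, 128110, 128112, 128114, 128116, 128118], [263, 2, 128120, 50271, 128121], [265, 1, 128120, 50268, 49849, 123403], [266, 3, 128120, 50273, 50266, 122328], [279, 2, 128120, 50273, 128121], [281, 1, 128120, 121436, 121454, 127954], [282, 3, 128120, 50275, 50283, 124725], [295, 2, 128120, 50275, 128121], [313, 1, 128120, 50264, 50651, 91574], [314, 3, 128120, 50337, 50313, 101248], [343, 2, 128120, 50277, 128121], [359, 2, 128120, 50279, 128121], [375, 2, 128120, 50281, 128121], [368, 1, 128118, 128144, 128119], [364, 3, 128116, 128146, 128117], [368, 1, 128114, 128148, 128115], [376,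 3, 128112, 128150, 128113], [367, 0, 128110, 128152, 128111], [363, 2, 128108, 128154, 128109], [367, 0, 128106, 128156, 128107], [352, 1, 128118, 128142, 128119], [348, 3, 128116, 128160, 128117], [352, 1, 128114, 128162, 128115], [360, 3, 128112, 128164, 128113], [351, 0, 128110, 128166, 128111], [347, 2, 128108, 128168, 128109], [351, 0, 128106, 128170, 128107], [336, 1, 128118, 128140, 128119], [332, 3, 128116, 128174, 128117], [336, 1, 128114, 128176, 128115], [344, 3, 128112, 128178, 128113], [335, 0, 128110, 128180, 128111], [331, 2, 128108, 128182, 128109], [335, 0, 128106, 128184, 128107], [241, 2, 105587, 105583, 128136, 128119], [309, 2, 128188, 63397, 128136], [326, 1, 128188, 63392, 128136], [315, 1, 122318, 128126, 128192], [316, 3, 123424, 128124, 128192, 128117], [3, 0, 128117, 128196], [7, 0, 128114, 128196], [317, 1, 127418, 128132, 128192], [318, 2, 127956, 128130, 128192], [325, 1, 82715, 128138, 128192], [328, 2, 50336, 128121, 128192], [383, 2, 128193, 128123, 128192], [395, 2, 128193, 128129, 128192], [405, 2, 128193, 128135, 128192], [297,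 1, 128208, 50376, 50391, 128121], [53, 1, 119052, 128200], [133, 1, 114993, 119297, 128200], [134, 2, 53583, 119299, 128200], [217, 1, 112118, 123378, 123383, 128200], [242, 2, 111421, 111675, 119299, 128200], [255, 2, 128201, 119306, 128200], [271, 2, 128201, 119308, 128200], [287, 2, 128201, 119310, 128200], [303, 2, 112118, 119313, 128200], [304, 1, 123435, 123419, 128200], [319, 2, 123435, 123425, 128200], [320, 1, 112118, 119315, 128200], [316, 0, 128240, 112117, 112579], [318, 0, 128240, 128225, 128238], [327, 3, 128240, 124509, 124466], [316, 0, 128239, 128243, 128241], [250, 3, 124439, 128246, 128113], [250, 0, 128250, 128246, 128113], [256, 3, 128110, 128252, 128111], [252, 1, 128108, 128254, 128109], [256, 3, 128106, 128256, 128107], [279, 2, 128250, 124441, 128251], [295, 2, 128250, 124443, 128251], [287, 0, 128110, 128262, 128111], [283, 2, 128108, 128264, 128109], [287, 0, 128106, 128266, 128107], [271, 0, 128110, 128260, 128111], [267, 2, 128108, 128270, 128109], [271, 0, 128106, 128272, 128107], [265, 1, 125516, 45714, 19270, 128104], [282, 3, 128019,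 92957, 93033, 128104], [0, 0], [0, 0], [0, 0], [0, 0], [361, 16, 122953, 127589, 127497, 128045, 128046, 128033, 48235, 48264, 25429, 49146, 49168, 50329, 50310, 128121, 128119, 128199, 128200, 128113, 128111, 128109, 128107, 128105, 19295, 45290, 45035, 44904, 47366, 47335, 17104, 16984, 17105, 124725, 124751, 124724, 50282, 121436, 121443, 115685, 115708, 123297, 123339, 112665, 128280, 128282, 128284, 128286], [38, 2, 128288, 125457], [86, 2, 128288, 122935, 127992], [233, 2, 128288, 122936, 123016, 128289], [266, 2, 128288, 112919, 112852, 128280], [283, 2, 128288, 112924, 128289], [331, 2, 128288, 112927, 128289], [347, 2, 128288, 112942, 128289], [363, 2, 128288, 112944, 128289], [367, 0, 128286, 128304, 128287], [375, 0, 128296, 128304, 128297], [351, 0, 128286, 128302, 128287], [359, 0, 128296, 128302, 128297], [335, 0, 128286, 128300, 128287], [343, 0, 128296, 128300, 128297], [287, 0, 128286, 128298, 128287], [295, 0, 128296, 128298, 128297], [282, 1, 127999, 128292, 128297, 128320], [45, 2, 128322, 93028], [86, 3, 128322, 93008, 125263], [253, 0, 128322,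 92900, 128323], [269, 0, 128322, 92902, 128323], [272, 3, 128283, 128330, 128282], [280, 1, 128285, 128332, 128284], [256, 3, 128283, 128328, 128282], [264, 1, 128285, 128336, 128284], [217, 3, 128325, 19299, 19295, 128324, 128282], [7, 0, 128282, 128340], [16, 0, 128285, 128340, 128296], [3, 0, 128290, 128344], [4, 0, 128289, 128344], [5, 0, 128292, 128344], [8, 0, 128286, 128344], [11, 0, 128345, 128294, 128344], [16, 0, 128296, 128344], [235, 3, 128281, 125259, 125270, 122982, 125283, 125258, 128280], [0, 0], [281, 2, 50415, 17096, 121593, 128360], [263, 2, 128362, 50417, 128363], [279, 2, 128362, 50419, 128363], [295, 2, 128362, 50421, 128363], [297, 1, 128362, 50409, 50422, 128363], [311, 2, 128362, 50423, 126783], [312, 1, 128362, 50425, 126113], [313, 1, 128362, 50662, 50681, 99708], [314, 3, 128362, 50434, 50436, 101922], [327, 2, 128362, 50434, 126113], [328, 1, 128362, 50427, 126783], [343, 2, 128362, 50429, 128363], [359, 2, 128362, 50431, 128363], [375, 2, 128362, 50433, 128363], [323, 1, 95765, 126775, 128382], [324, 2, 115232, 126777, 128382], [0,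 0], [0, 0], [0, 0]]
def dJ324 : List (List ℕ) := [[332, 1, 129404, 129598, 129405], [336, 3, 129402, 129600, 129403], [344, 1, 129400, 129602, 129401], [335, 2, 129398, 129604, 129399], [331, 0, 129396, 129606, 129397], [335, 2, 129394, 129608, 129395], [344, 1, 129392, 129610, 129393], [336, 3, 129390, 129612, 129391], [332, 1, 129388, 129614, 129389], [323, 1, 58147, 112073, 129540], [324, 2, 114509, 112074, 129540], [133, 1, 129423, 129620, 114519], [135, 2, 51589, 129619, 129620, 114519, 129622], [236, 5, 129420, 129620, 114491, 112065, 119666, 119729, 120665], [93, 3, 123043, 120694, 129626], [94, 0, 124543, 120696, 129626], [251, 0, 129627, 120666, 129626], [267, 0, 129627, 120668, 129626], [283, 0, 129627, 120670, 129626], [288, 3, 129418, 129636, 129419], [295, 0, 129416, 129638, 129417], [287, 2, 129414, 129640, 129415], [283, 0, 129412, 129642, 129413], [287, 2, 129410, 129644, 129411], [295, 0, 129408, 129646, 129409], [288, 3, 129406, 129648, 129407], [284, 1, 129404, 129650, 129405], [288, 3, 129402, 129652, 129403], [296, 1, 129400, 129654, 129401],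 [287, 2, 129398, 129656, 129399], [283, 0, 129396, 129658, 129397], [287, 2, 129394, 129660, 129395], [296, 1, 129392, 129662, 129393], [288, 3, 129390, 129664, 129391], [284, 1, 129388, 129666, 129389], [272, 3, 129418, 129634, 129419], [279, 0, 129416, 129670, 129417], [271, 2, 129414, 129672, 129415], [267, 0, 129412, 129674, 129413], [271, 2, 129410, 129676, 129411], [279, 0, 129408, 129678, 129409], [272, 3, 129406, 129680, 129407], [268, 1, 129404, 129682, 129405], [272, 3, 129402, 129684, 129403], [280, 1, 129400, 129686, 129401], [271, 2, 129398, 129688, 129399], [267, 0, 129396, 129690, 129397], [271, 2, 129394, 129692, 129395], [280, 1, 129392, 129694, 129393], [272, 3, 129390, 129696, 129391], [268, 1, 129388, 129698, 129389], [256, 3, 129418, 129632, 129419], [263, 0, 129416, 129702, 129417], [255, 2, 129414, 129704, 129415], [251, 0, 129412, 129706, 129413], [255, 2, 129410, 129708, 129411], [263, 0, 129408, 129710, 129409], [256, 3, 129406, 129712, 129407], [252, 1, 129404, 129714, 129405], [256, 3, 129402, 129716, 129403], [264, 1, 129400, 129718,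 129401], [255, 2, 129398, 129720, 129399], [251, 0, 129396, 129722, 129397], [255, 2, 129394, 129724, 129395], [264, 1, 129392, 129726, 129393], [256, 3, 129390, 129728, 129391], [252, 1, 129388, 129730, 129389], [174, 3, 129630, 124523, 128039], [309, 0, 129630, 124535, 128039], [326, 3, 129630, 124539, 128039], [319, 0, 129739, 128047, 129738, 129419], [3, 0, 129626, 129741], [4, 0, 129421, 129741], [8, 0, 129418, 129741], [11, 0, 129734, 129741], [13, 0, 129631, 129741], [14, 0, 129629, 129741], [15, 0, 129516, 129741, 129417], [24, 0, 129736, 129741], [25, 0, 129738, 129741], [8, 0, 129414, 129754, 48167], [15, 0, 129417, 129754], [3, 0, 129412, 129761, 48186], [8, 0, 129410, 129765, 24637], [15, 0, 129408, 129767, 92874], [7, 0, 129406, 129769, 93044], [4, 0, 129404, 129771, 93043], [7, 0, 129402, 129773, 92944], [16, 0, 129400, 129775, 127999], [7, 0, 129398, 129777], [53, 1, 127473, 129778], [125, 1, 127472, 128102, 129778], [126, 2, 129781, 129782, 129778], [217, 1, 128107, 128278, 128102, 129778], [241, 2, 120034, 123011, 127997, 129778], [303, 2, 127472,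 128004, 129778], [304, 1, 129781, 129790, 129778], [320, 1, 127472, 128006, 129778], [345, 41, 128099, 112166, 112006, 116611, 116586, 41157, 22379, 39291, 45396, 47049, 47078, 45962, 17134, 124725, 124750, 124729, 129427, 129425, 129423, 129745, 129746, 129763, 48167, 48186, 24637, 92874, 93044, 93043, 92944, 92945, 93042, 93045, 92877, 49826, 50269, 50374, 50375, 50268, 49827, 92876, 93044, 93043, 92944, 127999, 129778, 129397, 129395], [7, 0, 129395, 129796, 124055], [15, 0, 129392, 129796], [3, 0, 129397, 129799], [320, 1, 129779, 129795, 129780], [315, 1, 122849, 128011, 129804], [317, 2, 128278, 129804, 129786], [325, 1, 111455, 128008, 129804], [328, 2, 92971, 128018, 129804], [282, 2, 129787, 129812, 92783, 93031], [266, 4, 19428, 19417, 129814, 128108], [298, 3, 128105, 45356, 19301, 129814], [312, 1, 128105, 45339, 129814], [250, 3, 128255, 129816, 124196], [281, 1, 129816, 93181, 93168, 122829], [297, 1, 129816, 122719, 122776, 122917], [298, 3, 129816, 45342, 93202, 122714], [314, 3, 129816, 45317, 19344, 125517], [125, 1, 123979, 129828, 128110], [249,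 1, 128098, 123860, 129800], [265, 1, 127991, 124025, 123802, 129800], [281, 1, 127991, 124030, 123744, 129800], [311, 2, 127991, 124059, 129800], [314, 3, 125816, 122839, 124021, 129800], [328, 1, 127991, 124038, 129800], [361, 3, 123368, 109612, 50759, 50735, 47367, 47054, 47076, 116888, 124363, 124400, 123984, 117494, 113656, 113658, 118322, 120789, 124472, 124214, 124423, 117817, 111788, 92278, 109972, 117405, 123947, 124425, 124227, 122712, 93191, 92862, 93194, 122853, 123997, 124019, 124009, 122866, 93045, 92860, 93118, 122783, 123964, 123452, 124055, 117558, 124054, 129800, 129391], [3, 0, 129388, 129846], [7, 0, 129391, 129846], [125, 1, 129426, 123384, 129850], [126, 2, 128201, 123382, 129850], [133, 1, 121478, 123397, 129850], [134, 2, 104606, 123399, 129850], [37, 1, 123374, 129848], [86, 2, 123343, 123366, 129848], [93, 1, 115472, 123388, 129848], [94, 2, 104668, 123386, 129848], [201, 1, 127462, 127967, 123378, 129848], [204, 5, 127961, 127462, 127965, 123413, 119295, 123382, 129848], [234, 2, 128897, 121744, 123386, 129848], [265, 2, 109614, 109624,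 123369, 129848], [299, 2, 127462, 127971, 129848], [316, 1, 127462, 127973, 129848], [322, 3, 129871, 129878, 129869], [414, 3, 129878, 129877, 129880], [320, 0, 129881, 129467, 129879], [297, 1, 129469, 129869, 129876, 129468], [126, 2, 129382, 129886, 129383], [297, 1, 128033, 48238, 48253, 129762], [174, 0, 129624, 105528, 128096], [234, 1, 129624, 51590, 128096, 129892], [259, 0, 129624, 51754, 129625], [275, 0, 129624, 51732, 129625], [291, 0, 129624, 51710, 129625], [307, 0, 129624, 103964, 128096], [324, 3, 129624, 103966, 128096], [217, 1, 127497, 128056, 129528, 129422], [249, 1, 127954, 127626, 129468], [249, 3, 129908, 127954, 129468], [279, 2, 129469, 127844, 129468], [282, 3, 129337, 124735, 127937, 129468], [295, 2, 129469, 127792, 129468], [311, 2, 127931, 127952, 129468], [313, 1, 103089, 127434, 127956, 129468], [314, 3, 113713, 74484, 127939, 129468], [328, 1, 127931, 127956, 129468], [343, 2, 129469, 127740, 129468], [359, 2, 129469, 127688, 129468], [375, 2, 129469, 127570, 129468], [368, 1, 129382, 129930, 129383], [364, 3, 129380, 129932,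 129381], [368, 1, 129378, 129934, 129379], [376, 3, 129376, 129936, 129377], [367, 0, 129374, 129938, 129375], [363, 2, 129372, 129940, 129373], [352, 1, 129382, 129928, 129383], [348, 3, 129380, 129944, 129381], [352, 1, 129378, 129946, 129379], [360, 3, 129376, 129948, 129377], [351, 0, 129374, 129950, 129375], [347, 2, 129372, 129952, 129373], [336, 1, 129382, 129926, 129383], [332, 3, 129380, 129956, 129381], [336, 1, 129378, 129958, 129379], [344, 3, 129376, 129960, 129377], [335, 0, 129374, 129962, 129375], [331, 2, 129372, 129964, 129373], [319, 2, 129382, 129924, 127457], [323, 3, 129924, 128092, 109468], [324, 0, 129924, 128091, 102023], [134, 2, 102017, 129972, 129383], [136, 3, 129974, 102017, 129972, 129971, 109492], [242, 2, 119755, 119766, 129972, 129383], [77, 2, 129978, 105672], [93, 3, 129380, 129978, 113940], [95, 5, 98245, 129980, 129978, 113940, 129982], [210, 4, 129380, 129978, 90367, 119011], [261, 0, 129978, 90298, 129979], [277, 0, 129978, 90282, 129979], [293, 0, 129978, 90266, 129979], [309, 0, 129978, 91278, 127900], [313, 0, 129978,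 119692, 128039, 129759], [249, 1, 129762, 129702, 129996]]
def dJ328 : List (List ℕ) := [[279, 2, 131194, 123756, 131195], [281, 1, 131194, 127510, 127518, 127499], [282, 3, 131194, 123698, 129436, 129425], [295, 2, 131194, 123698, 131195], [298, 3, 131194, 127520, 127505, 124509], [311, 2, 131194, 127520, 127499], [312, 1, 131194, 129450, 129425], [313, 1, 131194, 127512, 129454, 129425], [314, 3, 131194, 129456, 129441, 127499], [327, 2, 131194, 129456, 129425], [328, 1, 131194, 127522, 127499], [343, 2, 131194, 123640, 131195], [359, 2, 131194, 123582, 131195], [362, 44, 131192, 131194, 123878, 119951, 123879, 123874, 123887, 120100, 47625, 47697, 47731, 117474, 127501, 127525, 127503, 117429, 47077, 47055, 47366, 124788, 124759, 124142, 124179, 122663, 93361, 92831, 93162, 122829, 124054, 123453, 123965, 122782, 93119, 92861, 93044, 122711, 124089, 124086, 124177, 119454, 111886, 111940, 111888, 111823, 111785, 111782, 112055], [3, 0, 131190, 131227], [7, 0, 131193, 131227], [375, 2, 131194, 123524, 131195], [126, 2, 112166, 112052, 131230], [133, 1, 103622,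 112073, 131230], [134, 2, 124875, 112074, 131230], [85, 1, 116591, 112060, 131228], [93, 1, 119667, 112064, 131228], [94, 2, 124639, 114491, 131228], [201, 1, 129744, 129527, 112060, 131228], [202, 3, 128044, 128067, 112052, 131228], [233, 2, 128044, 128048, 112074, 131228], [234, 2, 129744, 129620, 114491, 131228], [251, 2, 131229, 112057, 131228], [265, 2, 48264, 25441, 112055, 131228], [267, 2, 131229, 112059, 131228], [283, 2, 131229, 112063, 131228], [299, 2, 129744, 129531, 131228], [300, 1, 128044, 128058, 131228], [315, 2, 128044, 128062, 131228], [316, 1, 129744, 129541, 131228], [331, 2, 131229, 112067, 131228], [347, 2, 131229, 112069, 131228], [363, 2, 131229, 112071, 131228], [367, 0, 131188, 131274, 131189], [376, 3, 131186, 131276, 131187], [368, 1, 131184, 131278, 131185], [364, 3, 131182, 131280, 131183], [368, 1, 131180, 131282, 131181], [376, 3, 131178, 131284, 131179], [367, 0, 131176, 131286, 131177], [363, 2, 131174, 131288, 131175], [367, 0, 131172, 131290, 131173], [375, 2, 131170, 131292, 131171], [368, 1, 131168, 131294, 131169], [364,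 3, 131166, 131296, 131167], [368, 1, 131164, 131298, 131165], [375, 2, 131162, 131300, 131163], [367, 0, 131160, 131302, 131161], [363, 2, 131158, 131304, 131159], [367, 0, 131156, 131306, 131157], [375, 2, 131154, 131308, 131155], [368, 1, 131152, 131310, 131153], [364, 3, 131150, 131312, 131151], [368, 1, 131148, 131314, 131149], [376, 3, 131146, 131316, 131147], [367, 0, 131144, 131318, 131145], [363, 2, 131142, 131320, 131143], [351, 0, 131188, 131272, 131189], [360, 3, 131186, 131324, 131187], [352, 1, 131184, 131326, 131185], [348, 3, 131182, 131328, 131183], [352, 1, 131180, 131330, 131181], [360, 3, 131178, 131332, 131179], [351, 0, 131176, 131334, 131177], [347, 2, 131174, 131336, 131175], [351, 0, 131172, 131338, 131173], [359, 2, 131170, 131340, 131171], [352, 1, 131168, 131342, 131169], [348, 3, 131166, 131344, 131167], [352, 1, 131164, 131346, 131165], [359, 2, 131162, 131348, 131163], [351, 0, 131160, 131350, 131161], [347, 2, 131158, 131352, 131159], [351, 0, 131156, 131354, 131157], [359, 2, 131154, 131356, 131155], [352, 1, 131152, 131358, 131153],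 [348, 3, 131150, 131360, 131151], [352, 1, 131148, 131362, 131149], [360, 3, 131146, 131364, 131147], [351, 0, 131144, 131366, 131145], [347, 2, 131142, 131368, 131143], [335, 0, 131188, 131270, 131189], [344, 3, 131186, 131372, 131187], [336, 1, 131184, 131374, 131185], [332, 3, 131182, 131376, 131183], [336, 1, 131180, 131378, 131181], [344, 3, 131178, 131380, 131179], [335, 0, 131176, 131382, 131177], [331, 2, 131174, 131384, 131175], [335, 0, 131172, 131386, 131173], [343, 2, 131170, 131388, 131171], [336, 1, 131168, 131390, 131169], [332, 3, 131166, 131392, 131167], [336, 1, 131164, 131394, 131165], [343, 2, 131162, 131396, 131163], [335, 0, 131160, 131398, 131161], [331, 2, 131158, 131400, 131159], [335, 0, 131156, 131402, 131157], [343, 2, 131154, 131404, 131155], [336, 1, 131152, 131406, 131153], [332, 3, 131150, 131408, 131151], [336, 1, 131148, 131410, 131149], [344, 3, 131146, 131412, 131147], [335, 0, 131144, 131414, 131145], [331, 2, 131142, 131416, 131143], [319, 0, 131268, 129747, 131269, 131189], [4, 0, 131228, 131421], [5, 0, 131241, 131421], [8,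 0, 131188, 131421], [9, 0, 131247, 131421], [10, 0, 131249, 131421], [11, 0, 131253, 131421], [12, 0, 131251, 131421], [13, 0, 131243, 131421], [14, 0, 131245, 131421], [15, 0, 131257, 131421, 131187], [17, 0, 131420, 131254, 131421], [19, 0, 131420, 131258, 131421], [21, 0, 131420, 131260, 131421], [23, 0, 131265, 131421], [24, 0, 131263, 131421], [25, 0, 131269, 131421], [26, 0, 131267, 131421], [8, 0, 131184, 131440, 48237], [15, 0, 131187, 131440], [3, 0, 131182, 131457, 48492], [8, 0, 131180, 131461, 48487], [15, 0, 131178, 131463, 92819], [7, 0, 131176, 131465, 93190], [4, 0, 131174, 131467, 93209], [7, 0, 131172, 131469, 92898], [16, 0, 131170, 131471, 129813], [8, 0, 131168, 131473, 129780], [3, 0, 131166, 131475, 128012], [8, 0, 131164, 131477, 124008], [15, 0, 131162, 131479], [249, 1, 128101, 123863, 131480], [249, 3, 131482, 128101, 131480], [265, 1, 129801, 123453, 123805, 131480], [266, 3, 127991, 123787, 124019, 131480], [279, 2, 131481, 123804, 131480], [281, 1, 129801, 124029, 123747, 131480], [282, 3, 127991, 123729, 124011, 131480], [295, 2,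 131481, 123746, 131480], [311, 2, 129801, 124035, 131480], [312, 1, 127991, 124013, 131480], [314, 3, 125819, 122883, 124016, 131480], [327, 2, 127991, 124015, 131480], [328, 1, 129801, 124037, 131480], [320, 3, 131160, 131506, 129851], [321, 3, 131506, 129852, 129457], [322, 0, 131506, 129854, 128238], [323, 3, 131506, 129856, 78077], [324, 0, 131506, 129858, 57112], [133, 3, 104747, 131516, 131161], [135, 4, 131518, 104747, 131516, 131515, 107578], [173, 3, 111659, 111656, 131520], [174, 0, 103351, 107599, 131520], [226, 4, 123434, 115529, 115522, 131520], [259, 0, 131521, 107588, 131520], [275, 0, 131521, 107590, 131520], [291, 0, 131521, 107592, 131520], [307, 0, 127951, 108942, 131520], [308, 3, 123396, 121497, 131520], [324, 3, 127951, 108944, 131520], [316, 2, 131158, 131538, 127463, 127957], [4, 0, 131159, 131541], [7, 0, 131156, 131541, 129885], [15, 0, 131154, 131545], [317, 1, 131538, 127963, 117446], [318, 2, 131538, 127965, 123425], [322, 2, 131538, 127969, 119944], [327, 1, 131538, 127958, 119907], [249, 1, 129875, 129733, 131546], [249, 3, 131556,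 129875, 131546], [266, 3, 123370, 123377, 129848, 131546], [279, 2, 131547, 129700, 131546], [282, 3, 131103, 123353, 129863, 131546], [295, 2, 131547, 129668, 131546], [297, 1, 131547, 129870, 129882, 131546], [311, 2, 129469, 129877, 131546], [312, 1, 127931, 129882, 131546], [313, 1, 114974, 127940, 129879, 131546], [314, 3, 113217, 100827, 129867, 131546], [327, 2, 127931, 129881, 131546], [328, 1, 129469, 129879, 131546], [319, 2, 131152, 131580, 129383], [323, 3, 131580, 129971, 109467], [324, 0, 131580, 129973, 60104], [134, 2, 102025, 131586, 131153], [136, 3, 131588, 102025, 131586, 131585, 93858], [242, 2, 121376, 121371, 131586, 131153], [77, 2, 131592, 105674], [93, 3, 131150, 131592, 113445], [95, 5, 96652, 131594, 131592, 113445, 131596]]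
def dJ332 : List (List ℕ) := [[329, 7, 132768, 132770, 112028, 113656, 113658, 118322, 120789, 124472, 124214, 124423, 117817, 111788, 92278, 109972, 117405, 123947, 124425, 124227, 122712, 93191, 92862, 93194, 122853, 123997, 124019, 124009, 122866, 93052, 122867, 122864, 124089, 124086, 124177, 119464, 124431], [3, 0, 132769, 132801], [8, 0, 132766, 132801, 124430], [15, 0, 132764, 132805, 119465], [7, 0, 132762, 132807, 124176], [4, 0, 132760, 132809, 124087], [7, 0, 132758, 132811, 124088], [9, 0, 132756, 132813], [329, 7, 124469, 120757, 111889, 111941, 111887, 117763, 124431, 132802, 132770, 112028, 113656, 113658, 118322, 124483, 124407, 124404, 124249, 122707, 93163, 92830, 93360, 122664, 124042, 124024, 123979, 122715, 93224, 122714, 120033, 124226, 124424, 123946, 116972, 132772], [335, 2, 132770, 112043, 132771], [351, 2, 132770, 112045, 132771], [361, 1, 130089, 130223, 93059, 122733, 122738, 93163, 92830, 93360, 122662, 124178, 124143, 124758, 124789, 47367, 47054, 47076, 117428, 127502, 127524, 127500, 117475, 47730, 47696, 47624, 116860, 124225,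 124417, 123993, 117720, 111788, 92278, 109972, 117398, 132772, 132816, 124469, 120757, 111889, 111941, 111887, 117763, 124431, 132802, 132770, 112046, 132771], [367, 2, 132770, 112047, 132771], [249, 2, 132786, 132822, 130187], [125, 2, 116841, 116987, 132814], [218, 2, 124089, 124144, 124088, 132814, 132755], [5, 0, 132752, 132830], [6, 0, 132755, 132830], [225, 1, 87098, 124092, 124088, 132814], [226, 3, 95810, 95694, 116988, 132814], [257, 2, 132815, 116995, 132814], [273, 2, 132815, 116997, 132814], [289, 2, 132815, 116999, 132814], [297, 2, 122944, 122869, 122864, 132814], [298, 2, 122738, 122706, 117956, 132814], [305, 2, 124251, 117956, 132814], [306, 1, 120305, 120318, 132814], [321, 2, 120305, 120324, 132814], [322, 1, 124251, 117958, 132814], [337, 2, 132815, 117001, 132814], [353, 2, 132815, 117003, 132814], [369, 2, 132815, 117005, 132814], [113, 1, 132834, 132815, 132832], [229, 5, 105685, 96365, 96366, 95811, 132839, 132815, 132865], [229, 3, 132815, 116989, 95695, 52857, 72322, 101671, 132867], [230, 5, 132868, 132815, 124089, 124063, 116821, 76275,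 102384], [259, 0, 132871, 90297, 132870], [275, 0, 132871, 90281, 132870], [291, 0, 132871, 90265, 132870], [308, 3, 124371, 91260, 132870], [323, 0, 124371, 91253, 132870], [339, 0, 132871, 90234, 132870], [355, 0, 132871, 90216, 132870], [371, 0, 132871, 90198, 132870], [317, 3, 132880, 124366, 132857], [328, 0, 132880, 129822, 130226], [316, 0, 132856, 124345, 125539], [325, 3, 132856, 124357, 132857], [0, 0], [329, 9, 123946, 129275, 129168, 126944, 92920, 93182, 93195, 92877, 49062, 48517, 48203, 126690, 126709, 126569, 112672, 124152, 124179, 127162, 127272, 110338, 22362, 46167, 47077, 47048, 38544, 47049, 47051, 45048, 45302, 19279, 126928, 127116, 132054, 132896], [263, 2, 132898, 123870, 132899], [265, 1, 132898, 123444, 123810, 131664], [279, 2, 132898, 123812, 132899], [281, 1, 132898, 123944, 123755, 132899], [295, 2, 132898, 123754, 132899], [313, 1, 132898, 123937, 58390, 121217], [314, 3, 132898, 124160, 124139, 98986], [343, 2, 132898, 123696, 132899], [359, 2, 132898, 123638, 132899], [362, 44, 132898, 123443, 112992, 123442, 123444, 123959, 117516,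 123964, 123452, 124055, 122826, 124248, 124405, 124406, 124475, 124472, 124214, 124423, 117817, 111788, 92278, 109972, 117398, 132772, 132816, 124469, 120602, 124164, 124065, 124063, 116778, 129428, 129458, 129426, 117431, 47367, 47054, 47076, 117428, 127502, 127524, 127500, 117460, 119930, 123366, 123371], [375, 2, 132898, 123580, 132899], [125, 1, 123443, 112979, 132918], [126, 2, 112782, 112940, 132918], [134, 2, 132085, 132082, 132918], [136, 0, 132082, 132918, 132926, 132083, 132896], [0, 0], [0, 0], [0, 0], [0, 0], [0, 0], [0, 0], [0, 0], [0, 0], [345, 19, 126709, 126569, 112672, 112673, 126568, 126708, 126691, 48202, 48516, 49063, 49062, 48517, 48203, 126690, 126709, 126569, 112672, 124152, 124179, 127162, 127272, 110338, 22362, 46167, 47077, 47048, 38542, 45391, 45733, 17121, 126050, 126714, 126692, 118964, 124149, 124063, 116819, 127274, 132930, 132932, 132934, 132936, 132938, 132940, 132942, 132944], [250, 1, 132946, 126691, 48209], [263, 2, 132946, 126536, 132947], [265, 1, 132946, 126694, 125340, 132267], [266, 3, 132946, 126478, 126692, 119050], [279,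 2, 132946, 126478, 132947], [282, 3, 132946, 126420, 127085, 127089], [295, 2, 132946, 126420, 132947], [313, 1, 132946, 126702, 102134, 102034], [314, 3, 132946, 129329, 129324, 68428], [343, 2, 132946, 126362, 132947], [359, 2, 132946, 126304, 132947], [375, 2, 132946, 126246, 132947], [367, 0, 132944, 132970, 132945], [363, 2, 132942, 132972, 132943], [367, 0, 132940, 132974, 132941], [375, 2, 132938, 132976, 132939], [368, 1, 132936, 132978, 132937], [364, 3, 132934, 132980, 132935], [368, 1, 132932, 132982, 132933], [351, 0, 132944, 132968, 132945], [347, 2, 132942, 132986, 132943], [351, 0, 132940, 132988, 132941], [359, 2, 132938, 132990, 132939], [352, 1, 132936, 132992, 132937], [348, 3, 132934, 132994, 132935], [352, 1, 132932, 132996, 132933], [335, 0, 132944, 132966, 132945], [331, 2, 132942, 133000, 132943], [335, 0, 132940, 133002, 132941], [343, 2, 132938, 133004, 132939], [336, 1, 132936, 133006, 132937], [332, 3, 132934, 133008, 132935], [336, 1, 132932, 133010, 132933], [242, 4, 105130, 103327, 132962, 132945], [310, 1, 133014, 77226, 132962],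 [325, 2, 133014, 77371, 132962], [313, 0, 48358, 104723, 132964, 133018], [315, 3, 132281, 132952, 133018], [316, 1, 119337, 132954, 133018, 132943], [4, 0, 132943, 133024], [7, 0, 132940, 133024, 112114], [16, 0, 132938, 133029, 132826], [8, 0, 132936, 133031, 132773], [4, 0, 132934, 133033], [318, 0, 128842, 132958, 133018], [326, 0, 104832, 132964, 133018], [327, 3, 127344, 132947, 133018], [383, 0, 133019, 132950, 133018], [395, 0, 133019, 132956, 133018], [405, 0, 133019, 132960, 133018], [297, 1, 133040, 127337, 127338, 132947], [38, 1, 117394, 133034], [86, 0, 126074, 117396, 133034], [93, 3, 104072, 117391, 133034], [94, 0, 108832, 117392, 133034], [251, 0, 133035, 117306, 133034], [266, 4, 129186, 129274, 116972, 133034], [267, 0, 133035, 117248, 133034], [283, 0, 133035, 117190, 133034], [266, 4, 133062, 133035, 117399, 120960], [287, 2, 132932, 133064, 132933], [271, 2, 132932, 133062, 132933], [297, 1, 133060, 129172, 129191, 132930], [312, 1, 133060, 129191, 132930], [327, 2, 133060, 129193, 132930], [330, 31, 132932, 133060, 129283, 120981, 129282,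 129168, 126949, 111433, 122453, 121822, 128658, 128454, 121592, 17119, 45734, 47802, 47783, 44603, 46302, 22360, 125635, 129170, 129272, 120245, 122354, 122379, 121596, 127132, 133041, 132944, 132953, 132291, 126014, 111421], [37, 1, 117782, 133078], [85, 1, 128897, 121721, 133078], [93, 1, 108382, 111681, 133078], [94, 2, 104673, 111674, 133078], [234, 2, 128199, 119298, 111674, 133078], [251, 2, 133079, 111627, 133078], [266, 2, 109255, 111685, 111601, 133078], [133, 3, 132933, 133088, 128118], [0, 0], [0, 0], [0, 0], [0, 0], [0, 0], [0, 0], [0, 0], [0, 0], [0, 0], [0, 0], [0, 0], [0, 0], [0, 0], [0, 0], [0, 0], [0, 0], [361, 18, 127273, 127163, 124178, 124153, 112673, 126568, 126708, 132947, 132945, 133027, 112114, 132826, 132773, 133034, 132933, 132931, 127275, 116818, 124062, 124148, 118965, 126693, 126715, 126051, 17120, 45732, 45390, 18588, 45391, 118348, 133096, 133098, 133100, 133102, 133104, 133106, 133108, 133110, 133112, 133114, 133116, 133118, 133120, 133122, 133124, 133126], [250, 1, 133128, 110338, 38643], [263, 2, 133128, 110341, 133129], [265,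 1, 133128, 110337, 110326, 110292], [266, 3, 133128, 110343, 116818, 116778], [279, 2, 133128, 110343, 133129], [281, 1, 133128, 126815, 126434, 126151], [295, 2, 133128, 110345, 133129], [313, 1, 133128, 110349, 89526, 106995], [314, 3, 133128, 116630, 116629, 116570], [343, 2, 133128, 110353, 133129], [359, 2, 133128, 110355, 133129], [375, 2, 133128, 110357, 133129], [367, 0, 133126, 133152, 133127], [363, 2, 133124, 133154, 133125], [367, 0, 133122, 133156, 133123], [376, 3, 133120, 133158, 133121], [368, 1, 133118, 133160, 133119], [364, 3, 133116, 133162, 133117], [368, 1, 133114, 133164, 133115], [376, 3, 133112, 133166, 133113], [367, 0, 133110, 133168, 133111], [363, 2, 133108, 133170, 133109], [367, 0, 133106, 133172, 133107], [369, 2, 133104, 133174, 133105], [366, 1, 133102, 133176, 133103], [365, 2, 133100, 133178, 133101], [376, 1, 133098, 133180, 133099], [351, 0, 133126, 133150, 133127], [347, 2, 133124, 133184, 133125], [351, 0, 133122, 133186, 133123], [360, 3, 133120, 133188, 133121], [352, 1, 133118, 133190, 133119], [348, 3, 133116, 133192,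 133117], [352, 1, 133114, 133194, 133115], [360, 3, 133112, 133196, 133113]]
def dJ336 : List (List ℕ) := [[265, 1, 134394, 129308, 110368, 119261], [266, 3, 134394, 129311, 129306, 125380], [279, 2, 134394, 129311, 134395], [281, 1, 134394, 129314, 110344, 133261], [282, 3, 134394, 129317, 129312, 126151], [295, 2, 134394, 129317, 134395], [297, 1, 134394, 129319, 129320, 133041], [298, 3, 134394, 129322, 126698, 132947], [311, 2, 134394, 129322, 132947], [312, 1, 134394, 129320, 133041], [313, 1, 134394, 129326, 102133, 67130], [314, 3, 134394, 129330, 127340, 105900], [327, 2, 134394, 129330, 133041], [328, 1, 134394, 129328, 132947], [343, 2, 134394, 129270, 134395], [359, 2, 134394, 129246, 134395], [375, 2, 134394, 129222, 134395], [367, 0, 134392, 134432, 134393], [363, 2, 134390, 134434, 134391], [367, 0, 134388, 134436, 134389], [375, 2, 134386, 134438, 134387], [368, 1, 134384, 134440, 134385], [364, 3, 134382, 134442, 134383], [368, 1, 134380, 134444, 134381], [376, 3, 134378, 134446, 134379], [367, 0, 134376, 134448, 134377], [363, 2, 134374, 134450,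 134375], [367, 0, 134372, 134452, 134373], [376, 3, 134370, 134454, 134371], [351, 0, 134392, 134430, 134393], [347, 2, 134390, 134458, 134391], [351, 0, 134388, 134460, 134389], [359, 2, 134386, 134462, 134387], [352, 1, 134384, 134464, 134385], [348, 3, 134382, 134466, 134383], [352, 1, 134380, 134468, 134381], [360, 3, 134378, 134470, 134379], [351, 0, 134376, 134472, 134377], [347, 2, 134374, 134474, 134375], [351, 0, 134372, 134476, 134373], [360, 3, 134370, 134478, 134371], [335, 0, 134392, 134428, 134393], [331, 2, 134390, 134482, 134391], [335, 0, 134388, 134484, 134389], [343, 2, 134386, 134486, 134387], [336, 1, 134384, 134488, 134385], [332, 3, 134382, 134490, 134383], [336, 1, 134380, 134492, 134381], [344, 3, 134378, 134494, 134379], [335, 0, 134376, 134496, 134377], [331, 2, 134374, 134498, 134375], [335, 0, 134372, 134500, 134373], [344, 3, 134370, 134502, 134371], [320, 3, 133018, 132944, 134426, 134393], [4, 0, 134390, 134506, 132955], [7, 0, 134393, 134506], [7, 0, 134388, 134509, 128219], [16, 0, 134386, 134513, 128247], [8, 0, 134384, 134515,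 124430], [3, 0, 134382, 134517, 133081], [7, 0, 134380, 134519], [320, 2, 134427, 134510, 134425], [53, 1, 132933, 134520], [125, 1, 132932, 133073, 134520], [126, 2, 134525, 134526, 134520], [133, 1, 130176, 133089, 134520], [217, 1, 126137, 133053, 133073, 134520], [241, 2, 60932, 105555, 133087, 134520], [255, 2, 134521, 133091, 134520], [271, 2, 134521, 133071, 134520], [287, 2, 134521, 133069, 134520], [304, 1, 132932, 133075, 134520], [319, 2, 132932, 133077, 134520], [320, 1, 134525, 134544, 134520], [329, 3, 117832, 132384, 132332, 134400, 134511, 132946, 126715, 126083, 126716, 126740, 110450, 127288, 127275, 110338, 22335, 46985, 46997, 47685, 47676, 47223, 17092, 126050, 126197, 126195, 126193, 126603, 111008, 127161, 127159, 127303, 109266, 127302, 132930, 134520], [304, 1, 134521, 134543, 134524], [299, 1, 120841, 133034, 134550], [309, 1, 108973, 133057, 134550], [311, 1, 121329, 133066, 134550], [312, 3, 131083, 133061, 134550, 134379], [7, 0, 134376, 134558, 131063], [15, 0, 134379, 134558], [4, 0, 134374, 134561, 116894], [7, 0, 134372, 134565,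 124363], [16, 0, 134370, 134567], [263, 0, 134569, 124375, 134568], [265, 3, 133383, 133366, 124404, 134568], [279, 0, 134569, 124377, 134568], [295, 0, 134569, 124379, 134568], [311, 0, 124149, 124382, 134568], [312, 3, 124429, 124380, 134568], [313, 3, 102392, 55042, 124372, 134568], [314, 0, 112541, 98729, 124411, 134568], [328, 3, 124149, 124384, 134568], [265, 3, 134575, 134569, 124400, 134257], [281, 3, 134577, 134569, 124408, 134568], [210, 3, 134590, 134589, 134289, 82233], [217, 4, 124063, 116828, 134368, 134590], [126, 1, 134594, 124088, 132814], [225, 1, 134594, 124091, 95961, 87477], [226, 3, 134594, 124063, 116821, 76275], [0, 0], [0, 0], [0, 0], [0, 0], [0, 0], [0, 0], [0, 0], [0, 0], [361, 18, 129044, 128969, 123966, 134257, 134295, 130769, 130579, 134395, 134511, 132955, 128219, 128247, 124430, 133081, 134520, 134563, 131063, 116894, 124363, 134568, 134369, 129307, 129143, 121748, 17118, 47184, 47191, 18612, 47190, 109307, 133340, 133418, 132907, 132907, 132924, 112657, 126080, 126197, 134602, 134604, 134606, 134608, 134610, 134612, 134614, 134616],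 [250, 1, 134618, 116614, 38343], [263, 2, 134618, 116617, 134619], [265, 1, 134618, 116619, 110032, 111287], [266, 3, 134618, 116621, 116894, 117433], [279, 2, 134618, 116621, 134619], [281, 1, 134618, 129116, 129107, 129121], [282, 3, 134618, 116623, 127333, 133041], [295, 2, 134618, 116623, 134619], [298, 3, 134618, 116627, 110346, 133261], [311, 2, 134618, 116627, 133261], [313, 1, 134618, 116613, 87732, 101663], [314, 3, 134618, 125656, 125653, 116086], [328, 1, 134618, 116631, 133261], [343, 2, 134618, 116633, 134619], [359, 2, 134618, 116635, 134619], [375, 2, 134618, 116637, 134619], [367, 0, 134616, 134650, 134617], [363, 2, 134614, 134652, 134615], [367, 0, 134612, 134654, 134613], [376, 3, 134610, 134656, 134611], [368, 1, 134608, 134658, 134609], [364, 3, 134606, 134660, 134607], [368, 1, 134604, 134662, 134605], [351, 0, 134616, 134648, 134617], [347, 2, 134614, 134666, 134615], [351, 0, 134612, 134668, 134613], [360, 3, 134610, 134670, 134611], [352, 1, 134608, 134672, 134609], [348, 3, 134606, 134674, 134607], [352, 1, 134604, 134676, 134605], [335,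 0, 134616, 134646, 134617], [331, 2, 134614, 134680, 134615], [335, 0, 134612, 134682, 134613], [344, 3, 134610, 134684, 134611], [336, 1, 134608, 134686, 134609], [332, 3, 134606, 134688, 134607], [336, 1, 134604, 134690, 134605], [319, 1, 134616, 134645, 133252, 134644], [4, 0, 134626, 134694, 134615], [4, 0, 134624, 134694], [5, 0, 134632, 134694], [6, 0, 134630, 134694], [8, 0, 134616, 134694], [9, 0, 134636, 134694], [13, 0, 134642, 134694], [14, 0, 134640, 134694], [15, 0, 134620, 134694], [16, 0, 134619, 134694], [17, 0, 134695, 134622, 134694], [19, 0, 134695, 134628, 134694], [21, 0, 134695, 134634, 134694], [23, 0, 134638, 134694], [26, 0, 134644, 134694], [4, 0, 134615, 134696], [7, 0, 134612, 134696, 127502], [15, 0, 134610, 134729, 127531], [8, 0, 134608, 134731, 112911], [4, 0, 134606, 134733], [38, 1, 125396, 134734], [93, 3, 133320, 133288, 134734], [251, 0, 134735, 113000, 134734], [266, 4, 134603, 126209, 126569, 112934, 134734], [3, 0, 134734, 134742], [4, 0, 134737, 134742], [7, 0, 134604, 134742], [14, 0, 134739, 134742], [17, 0, 134743, 134741,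 134742], [267, 0, 134744, 113002, 134745], [283, 0, 134744, 113004, 134745], [299, 0, 133320, 133296, 134745], [316, 3, 133320, 133302, 134745], [323, 1, 134760, 133426, 134761], [202, 3, 134746, 132626, 132630, 133323], [234, 4, 133254, 116539, 117448, 134726], [0, 0], [329, 9, 121851, 128126, 128119, 128208, 50310, 50266, 24621, 49870, 93258, 93275, 92947, 129813, 129779, 127994, 110478, 125817, 122513, 116677, 116610, 112008, 22378, 46171, 47809, 47783, 41781, 47782, 47781, 19446, 45289, 19297, 129814, 128107, 128276, 134768], [250, 1, 134770, 126014, 111624], [263, 2, 134770, 122202, 134771], [266, 3, 134770, 122144, 121852, 133548], [279, 2, 134770, 122144, 134771], [282, 3, 134770, 122086, 122521, 133548], [295, 2, 134770, 122086, 134771], [297, 1, 134770, 130989, 131002, 128928], [298, 3, 134770, 122297, 122292, 128945], [311, 2, 134770, 122297, 133548], [313, 1, 134770, 132784, 132799, 131718], [328, 1, 134770, 122299, 133548], [343, 2, 134770, 122028, 134771], [359, 2, 134770, 121970, 134771], [375, 2, 134770, 121912, 134771]]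
def dJ340 : List (List ℕ) := [[330, 2, 135978, 135957, 135964, 128454, 121599, 133340, 133418, 132897, 132055, 127117, 126929, 19278, 45303, 45049, 45067, 45391, 45733, 17121, 126050, 126714, 126692, 118964, 124149, 124063, 116819, 127274, 127303, 109258, 111954, 111886, 130499, 130267, 119505, 130266], [331, 2, 135978, 135969, 135979], [347, 2, 135978, 135971, 135979], [363, 2, 135978, 135973, 135979], [53, 1, 130269, 136000], [133, 1, 122769, 130508, 136000], [134, 2, 132015, 132020, 136000], [241, 2, 122769, 130508, 130496, 136000], [303, 2, 122769, 130488, 136000], [304, 1, 132015, 132036, 136000], [319, 2, 132015, 132042, 136000], [320, 1, 122769, 130467, 136000], [0, 0], [117, 3, 93090, 19285, 93088, 135950, 136024], [46, 2, 136026, 93090], [85, 2, 136026, 93102, 122757], [86, 1, 136026, 93328, 125313], [210, 3, 136026, 93102, 93099, 135950], [217, 2, 136026, 92925, 92921, 136027], [253, 2, 136026, 92927, 136027], [269, 2, 136026, 92929, 136027], [281, 2, 136026, 92930, 126945, 127123], [285, 2, 136026, 92931, 136027], [301, 2, 136026, 92938, 135950], [318,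 1, 136026, 92940, 135950], [333, 2, 136026, 92933, 136027], [349, 2, 136026, 92935, 136027], [365, 2, 136026, 92937, 136027], [323, 1, 136049, 135974, 136048], [328, 2, 134760, 135963, 136048], [0, 0], [119, 4, 93087, 19282, 19285, 93088, 135950, 136024, 136060], [46, 2, 136062, 93087], [85, 2, 136062, 93368, 122660], [86, 1, 136062, 93068, 122648], [114, 2, 136062, 92981, 135950], [209, 1, 136062, 93201, 93183, 135950], [210, 3, 136062, 93368, 93365, 136027], [217, 2, 136062, 92979, 92975, 136063], [253, 2, 136062, 92985, 136063], [269, 2, 136062, 92987, 136063], [281, 2, 136062, 92988, 127178, 130586], [282, 2, 136062, 135688, 135701, 135699], [285, 2, 136062, 92989, 136063], [301, 2, 136062, 92991, 136027], [302, 1, 136062, 92993, 135950], [317, 2, 136062, 93002, 135950], [318, 1, 136062, 92995, 136027], [333, 2, 136062, 92997, 136063], [349, 2, 136062, 92999, 136063], [365, 2, 136062, 93001, 136063], [323, 1, 136095, 136057, 136094], [0, 0], [249, 2, 38810, 128946, 136104], [249, 3, 136106, 128946, 136104], [279, 0, 136106, 19154, 136107], [282, 1, 136106,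 135953, 135962, 133332], [295, 0, 136106, 19156, 136107], [297, 4, 136106, 19284, 135901, 135891], [298, 1, 136106, 19261, 135866, 135892], [311, 0, 136106, 45285, 135901], [314, 1, 136106, 19324, 132564, 132646], [327, 0, 136106, 45512, 135866], [328, 3, 136106, 45287, 135901], [329, 24, 136106, 19253, 45523, 45700, 47780, 47803, 45735, 17118, 126918, 126391, 126919, 121593, 128455, 128659, 121823, 128662, 128447, 128695, 127116, 126112, 50343, 65278, 65269, 49109, 24622, 48223, 48202, 133021, 132944, 132953, 132291, 134771, 134805, 135897], [343, 0, 136106, 38874, 136107], [359, 0, 136106, 38876, 136107], [375, 0, 136106, 19158, 136107], [282, 1, 135851, 93089, 136107, 136114], [113, 3, 136136, 135854, 135876], [219, 0, 136136, 135828, 133325, 135829, 136137, 136119, 135891], [133, 1, 128107, 135947, 136140], [173, 3, 136142, 130262, 135940], [0, 0], [249, 2, 42226, 129814, 136146], [249, 3, 136148, 129814, 136146], [266, 1, 136148, 19416, 124196, 124396], [279, 0, 136148, 19164, 136149], [282, 1, 136148, 93030, 134824, 134835], [295, 0, 136148, 19166, 136149],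 [343, 0, 136148, 41666, 136149], [359, 0, 136148, 40958, 136149], [375, 0, 136148, 19168, 136149], [282, 1, 135522, 130440, 136149, 136158], [113, 3, 136166, 135494, 136167], [217, 0, 136166, 135491, 134975, 127917], [218, 4, 136169, 136166, 135492, 135046], [133, 3, 101975, 128090, 136172], [134, 0, 108724, 128093, 136172], [173, 3, 136176, 108743, 124370], [0, 0], [329, 4, 133099, 133422, 134048, 134917, 134807, 131935, 131928, 131886, 131804, 131231, 131423, 131426, 131459, 48237, 48492, 48487, 49076, 50728, 50737, 50372, 128209, 130177, 130103, 112119, 131717, 131715, 131713, 130234, 129815, 41666, 129814, 136146, 136173, 136180], [53, 2, 136182, 135099], [125, 3, 136182, 133397, 123486], [133, 3, 136182, 135133, 135098], [134, 0, 136182, 136188, 136185], [217, 3, 136186, 136182, 133390, 136183], [241, 0, 136182, 133412, 108744, 108783], [244, 7, 136189, 135133, 136184, 136182, 133414, 58586, 99188], [255, 0, 136182, 133404, 136183], [271, 0, 136182, 133406, 136183], [287, 0, 136182, 133386, 136183], [303, 0, 136182, 133409, 132919], [320, 3, 136182, 133411,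 132919], [335, 0, 136182, 133240, 136183], [351, 0, 136182, 133210, 136183], [362, 43, 136182, 133416, 123486, 123536, 123487, 123485, 123967, 122851, 123997, 124019, 124009, 122864, 124089, 124086, 124177, 119464, 124431, 132802, 132770, 112028, 113656, 113658, 118322, 120789, 124472, 124214, 124423, 117828, 123992, 124416, 124224, 120080, 123886, 123875, 123878, 119922, 47079, 47698, 47729, 116781, 129428, 129458, 129426, 119295, 119290, 131548], [367, 0, 136182, 133180, 136183], [249, 1, 131554, 131529, 136212], [0, 0], [329, 25, 112110, 127327, 127133, 121592, 17092, 17302, 44863, 44995, 38878, 44994, 47708, 47729, 39316, 22335, 125635, 127020, 126951, 123958, 123994, 125008, 128665, 128457, 127323, 48270, 48884, 49092, 49077, 50771, 50761, 50407, 126113, 127104, 127052, 136218], [249, 0, 136220, 124429, 124237], [263, 0, 136220, 112528, 136221], [266, 1, 136220, 133403, 133418, 132905], [279, 0, 136220, 112470, 136221], [295, 0, 136220, 112412, 136221], [297, 4, 136220, 135634, 135655, 135632], [298, 1, 136220, 124364, 134568, 134578], [314, 1, 136220, 112542,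 108697, 108708], [327, 0, 136220, 134585, 135626], [343, 0, 136220, 112354, 136221], [359, 0, 136220, 112296, 136221], [375, 0, 136220, 112238, 136221], [266, 1, 131645, 112108, 136221, 136228], [281, 3, 136231, 136220, 112545, 136221], [201, 3, 136248, 136246, 131649, 124416], [210, 3, 136248, 136246, 131657, 99007], [173, 0, 128789, 128784, 136252], [174, 3, 113231, 113205, 136252], [0, 0], [0, 0], [0, 0], [345, 19, 127104, 127052, 136218, 136219, 127053, 127105, 126112, 50406, 50760, 50770, 50771, 50761, 50407, 126113, 127104, 127052, 136218, 136220, 112110, 127327, 127133, 121592, 17092, 17302, 44863, 44995, 38880, 45377, 45693, 19281, 128946, 129093, 135096, 135098, 133099, 133097, 121752, 130577, 135138, 135305, 135300, 131881, 131804, 136258, 136260, 136262], [250, 1, 136264, 126112, 50295], [263, 2, 136264, 126115, 136265], [265, 1, 136264, 128806, 128797, 128821], [279, 2, 136264, 126117, 136265], [281, 1, 136264, 126111, 126097, 126052], [282, 3, 136264, 126119, 129180, 133061], [295, 2, 136264, 126119, 136265], [313, 1, 136264, 126123, 113413, 94115],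 [314, 3, 136264, 126787, 126778, 101917], [329, 9, 136264, 127117, 128694, 128446, 128663, 121822, 128658, 128454, 121592, 17119, 45734, 47802, 47781, 45701, 45522, 19252, 128946, 128948, 129073, 129074, 132453, 132442, 129309, 130578, 136082, 136096, 136083, 135138, 135304, 135302, 132620, 134210, 134218, 136270, 136263], [4, 0, 136270, 136285], [5, 0, 136276, 136285], [6, 0, 136274, 136285], [8, 0, 136262, 136285], [13, 0, 136282, 136285], [14, 0, 136280, 136285], [15, 0, 136266, 136285], [16, 0, 136265, 136285], [17, 0, 136284, 136268, 136285], [19, 0, 136284, 136272, 136285], [21, 0, 136284, 136278, 136285], [283, 2, 136260, 136306, 136261], [266, 2, 50291, 136299, 136304, 136261], [267, 2, 136260, 136304, 136261], [265, 3, 136312, 136310, 49742, 111644], [85, 3, 112634, 111643, 136314], [86, 0, 117395, 111416, 136314], [93, 3, 104313, 111647, 136314], [94, 0, 123207, 111648, 136314], [201, 3, 118361, 117782, 111419, 136314], [234, 4, 108227, 104301, 111650, 136314], [251, 0, 136315, 111629, 136314], [266, 4, 132059, 132057, 128821, 136314], [331, 0, 136315,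 111540, 136314], [347, 0, 136315, 111512, 136314], [363, 0, 136315, 111484, 136314], [364, 3, 136261, 136336, 136260], [348, 3, 136261, 136334, 136260], [332, 3, 136261, 136332, 136260], [298, 3, 136330, 135118, 135103, 124475], [125, 0, 120888, 120601, 136344], [133, 3, 136346, 112072, 103707], [0, 0], [0, 0], [0, 0], [0, 0], [0, 0], [0, 0], [0, 0], [0, 0], [0, 0], [0, 0], [0, 0], [0, 0], [361, 13, 131482, 112163, 126075, 126136, 126899, 127132, 127326, 112111, 136221, 136219, 127053, 127105, 136301, 136292, 136261, 136259, 131805, 131880, 135301, 135304, 135139, 130576, 121753, 133096, 133098, 135099, 135097, 129092, 128947, 19280, 45692, 45376, 19178, 45377, 136350, 136352, 136354, 136356, 136358, 136360, 136362, 136364, 136366, 136368, 136370, 136372], [54, 2, 136374, 131161], [125, 1, 136374, 131513, 112115], [126, 2, 136374, 131511, 123887], [133, 1, 136374, 131517, 104623], [134, 2, 136374, 131515, 77889], [217, 1, 136374, 131494, 127983, 125355], [218, 3, 136374, 131511, 129436, 129429], [241, 2, 136374, 131517, 104750, 100057], [242, 2, 136374, 131502,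 122504, 103337], [255, 2, 136374, 131485, 136375], [271, 2, 136374, 131491, 136375], [287, 2, 136374, 131497, 136375]]
def dJ344 : List (List ℕ) := [[0, 0], [249, 2, 42236, 136836, 137600], [249, 3, 137602, 136836, 137600], [266, 1, 137602, 45302, 135866, 135873], [279, 0, 137602, 19314, 137603], [282, 1, 137602, 122746, 119383, 118721], [295, 0, 137602, 19316, 137603], [297, 4, 137602, 93205, 122853, 135942], [298, 1, 137602, 122758, 112928, 133297], [314, 1, 137602, 19311, 136107, 136127], [327, 0, 137602, 45308, 135923], [329, 32, 137601, 136966, 137600, 137602, 45383, 19405, 45716, 128689, 136565, 136531, 132085, 132050, 24901, 24118, 65270, 126031, 126022, 129514, 136813, 136824, 137510, 137552, 137016, 126650, 135377, 135397, 135944, 135922, 45374, 45713, 45723, 137492, 137467, 133600], [343, 0, 137602, 41678, 137603], [359, 0, 137602, 40970, 137603], [375, 0, 137602, 19318, 137603], [266, 1, 122525, 19391, 137603, 137608], [282, 1, 122665, 93375, 137603, 137612], [113, 3, 137632, 120794, 122494], [217, 0, 137632, 124042, 124029, 131750], [133, 1, 135944,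 135936, 137636], [134, 2, 130089, 131786, 137636], [242, 2, 137467, 133602, 131786, 137636], [0, 0], [329, 31, 136972, 136837, 41678, 136836, 137600, 137623, 133601, 137466, 137493, 45722, 45712, 45375, 135923, 135945, 135396, 135376, 126651, 137017, 137553, 137511, 118440, 25416, 48856, 50845, 130899, 137418, 137460, 124390, 136914, 136863, 123375, 130982, 130962, 137644], [37, 2, 137646, 129380], [85, 3, 137646, 129987, 118499], [86, 0, 137646, 130009, 120774], [93, 3, 137646, 129983, 113809], [94, 0, 137646, 129984, 65956], [202, 1, 137646, 130013, 118499, 119013], [203, 4, 137659, 119012, 137650, 137646, 130015, 120862, 118499], [233, 0, 137646, 130022, 106304, 110404], [251, 0, 137646, 130004, 137647], [265, 0, 137646, 130000, 129515, 120668], [267, 0, 137646, 130006, 137647], [283, 0, 137646, 130010, 137647], [331, 0, 137646, 129958, 137647], [347, 0, 137646, 129946, 137647], [363, 0, 137646, 129934, 137647], [265, 0, 48482, 130002, 137647, 137669], [329, 20, 137678, 48481, 25512, 50846, 130899, 130536, 130876, 137366, 137393, 132704, 131011, 130524, 130962,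 110406, 130963, 130977, 114160, 114162, 114202, 119985, 128860, 128932, 126144, 127087, 126934, 128757, 136571, 136603, 133430, 135340, 135371, 126651, 126188, 131049], [133, 1, 131021, 131055, 137680], [0, 0], [345, 19, 137418, 137460, 124390, 124391, 137461, 137419, 130898, 50844, 48857, 25417, 25416, 48856, 50845, 130899, 137418, 137460, 124390, 136914, 136863, 123375, 130982, 130962, 137644, 137646, 136972, 136837, 40970, 45383, 19405, 45716, 128689, 136565, 136531, 132085, 136331, 136346, 132720, 132719, 111645, 49739, 48482, 50788, 137213, 137202, 137363, 137684], [250, 1, 137686, 130898, 50896], [263, 2, 137686, 130920, 137687], [265, 1, 137686, 135131, 135112, 137215], [266, 3, 137686, 130922, 130937, 137177], [279, 2, 137686, 130922, 137687], [281, 1, 137686, 130946, 121566, 126897], [282, 3, 137686, 130924, 130948, 117754], [295, 2, 137686, 130924, 137687], [297, 1, 137686, 130902, 120302, 120126], [298, 3, 137686, 130929, 121795, 121710], [311, 2, 137686, 130929, 126029], [312, 1, 137686, 130927, 128821], [313, 1, 137686, 130919, 119777, 119778], [314,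 3, 137686, 130933, 128792, 102026], [327, 2, 137686, 130933, 128821], [328, 1, 137686, 130931, 126029], [330, 8, 137686, 130536, 130876, 137366, 137393, 132704, 131011, 130524, 130977, 114160, 114162, 114202, 119985, 128860, 128932, 126144, 126840, 110223, 110275, 110221, 136550, 136527, 128759, 128415, 128819, 111644, 111541, 111645, 49749, 49098, 49129, 137365, 137324, 134151], [343, 2, 137686, 130755, 137687], [359, 2, 137686, 130703, 137687], [375, 2, 137686, 130651, 137687], [133, 3, 104314, 134159, 137720], [134, 0, 53818, 134157, 137720], [0, 0], [361, 9, 127086, 132703, 132673, 136376, 136438, 119919, 119880, 114201, 130976, 130983, 123374, 136862, 136915, 124391, 137461, 137419, 137687, 137685, 137362, 137203, 137212, 50789, 48483, 49738, 111644, 132718, 132721, 136347, 136330, 132084, 136530, 136564, 128688, 45717, 19404, 45382, 19318, 45383, 129817, 135944, 136465, 136448, 122497, 136455, 136481, 137732], [53, 2, 137734, 126934], [125, 3, 137734, 127079, 124955], [126, 0, 137734, 127077, 111713], [134, 0, 137734, 127043, 126935], [136, 4, 137737, 127042,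 137742, 137734, 127043], [218, 1, 137734, 127054, 124955, 124950], [219, 4, 137747, 124951, 137738, 137734, 127075, 125329, 124955], [241, 0, 137734, 127041, 96404, 102246], [248, 8, 137745, 137736, 137734, 127045, 106566, 96404, 96447, 96448], [255, 0, 137734, 127059, 137735], [271, 0, 137734, 127061, 137735], [287, 0, 137734, 127063, 137735], [303, 0, 137734, 127066, 137644], [320, 3, 137734, 127070, 137644], [335, 0, 137734, 127009, 137735], [351, 0, 137734, 126995, 137735], [367, 0, 137734, 126981, 137735], [313, 0, 48892, 58152, 137654, 137762], [315, 3, 131583, 137648, 137762], [327, 3, 132737, 137666, 137762], [0, 0], [249, 2, 42235, 131767, 137776], [249, 3, 137778, 131767, 137776], [266, 1, 137778, 45310, 136597, 136589], [279, 0, 137778, 19338, 137779], [282, 1, 137778, 93237, 122713, 120317], [295, 0, 137778, 19340, 137779], [297, 4, 137778, 93158, 122706, 124388], [298, 1, 137778, 122771, 132849, 132852], [311, 0, 137778, 45145, 132750], [313, 4, 137778, 19344, 137050, 137039], [314, 1, 137778, 19333, 136149, 136632], [327, 0, 137778, 45316, 124196],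 [329, 32, 137777, 131777, 137776, 137778, 45035, 19218, 45048, 136836, 136912, 134329, 137509, 137549, 127464, 129837, 136861, 136915, 135629, 135658, 127452, 128064, 127496, 127652, 137104, 137212, 50770, 24689, 25428, 112055, 131230, 131199, 136258, 136330, 132896, 136226], [329, 4, 137778, 45371, 19368, 45722, 137050, 137025, 121785, 137510, 137549, 135795, 135825, 132703, 132666, 110085, 116740, 116751, 131554, 136376, 136443, 130983, 136552, 136564, 136445, 136481, 131631, 136347, 136315, 132718, 132733, 48872, 132732, 137775, 137734, 127048], [343, 0, 137778, 41675, 137779], [346, 0, 137778, 45035, 19218, 45048, 136836, 136912, 134329, 137509, 137549, 127464, 129837, 136861, 136915, 135629, 135658, 127452, 127453, 135659, 135628, 136914, 136860, 129836, 127465, 127464, 129837, 136861, 136895, 123294, 123334, 123296, 131554, 131160, 131488, 135792, 135823, 136218, 136246, 131148, 131631, 131230, 131199, 136258, 136330, 132896, 136226, 137802], [375, 0, 137778, 19342, 137779], [266, 1, 136626, 45290, 137779, 137784], [282, 1, 112662, 122753, 137779, 137788],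 [113, 3, 137814, 137792, 137787], [215, 6, 137799, 137813, 137814, 122932, 135456, 135459, 122930, 136584], [173, 0, 106105, 136580, 137818], [174, 3, 95335, 136578, 137818], [0, 0], [329, 30, 131722, 131715, 131766, 41675, 131767, 137776, 137803, 136227, 132897, 136331, 136259, 131198, 131231, 112054, 25429, 24688, 50771, 137213, 137105, 127653, 127497, 128060, 24637, 24690, 25392, 118441, 134222, 136646, 136682, 132751, 19439, 19220, 44892, 137824], [54, 2, 137826, 130089], [125, 1, 137826, 130210, 112911], [126, 2, 137826, 130202, 124043], [133, 1, 137826, 130265, 128110], [134, 2, 137826, 137641, 137623], [217, 1, 137826, 131749, 131733, 133274], [218, 3, 137826, 130202, 124031, 123996], [241, 2, 137826, 130265, 129831, 132635], [248, 4, 137826, 130089, 130263, 133605, 134802, 134769, 132635, 135880], [255, 2, 137826, 130188, 137827], [271, 2, 137826, 130192, 137827], [287, 2, 137826, 130194, 137827], [303, 2, 137826, 131734, 137636], [304, 1, 137826, 130196, 135858], [319, 2, 137826, 130198, 135858], [320, 1, 137826, 131738, 137636], [329, 5, 137826, 131722,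 131715, 131766, 45035, 19218, 45048, 137603, 137637, 131746, 128111, 129816, 45014, 19192, 45377, 136350, 136420, 132902, 132919, 112994, 109639, 107898, 110217, 135821, 135793, 131489, 131161, 131555, 115730, 131554, 136212, 136182, 133399, 135664], [329, 15, 137826, 132823, 132773, 133034, 132933, 133092, 109258, 111954, 111886, 119498, 119487, 109941, 93485, 126813, 128823, 136918, 136860, 129801, 123686, 129800, 129834, 118387, 128899, 128925, 126054, 17120, 45732, 45390, 45066, 45048, 45302, 19279, 135901, 136128], [335, 2, 137826, 130169, 137827], [351, 2, 137826, 130155, 137827], [367, 2, 137826, 130141, 137827], [37, 1, 137463, 137862], [0, 0], [329, 26, 125675, 124391, 129822, 135944, 135927, 132634, 125516, 41673, 125517, 137065, 137025, 121785, 137510, 137547, 119918, 110049, 114200, 136998, 137016, 136935, 136973, 130000, 136813, 136806, 126022, 120672, 49738, 49743, 24901, 128061, 137203, 137692, 137685, 137872], [53, 2, 137874, 129074], [125, 3, 137874, 125685, 122418], [126, 0, 137874, 125669, 117470], [134, 0, 137874, 129076, 129075], [136, 4, 137877,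 129077, 137882, 137874, 129076], [218, 1, 137874, 125679, 122418, 122408], [219, 4, 137887, 122409, 137878, 137874, 125681, 122341, 122418], [241, 0, 137874, 125689, 96412, 106490], [248, 8, 137885, 137876, 137874, 125691, 106244, 96412, 71977, 95702], [255, 0, 137874, 125672, 137875], [271, 0, 137874, 125676, 137875], [287, 0, 137874, 125682, 137875], [303, 0, 137874, 127065, 137735], [304, 3, 137874, 125687, 137644], [319, 0, 137874, 125693, 137644], [320, 3, 137874, 127073, 137735], [329, 3, 137874, 128886, 128854, 127949, 135795, 135823, 137804, 137783, 136573, 128819, 49739, 48482, 50788, 137213, 137202, 137363, 137684, 137689, 50844, 48857, 25417, 118441, 137510, 137552, 137016, 126652, 45702, 45311, 45371, 137824, 137864, 137825, 135775, 135857], [329, 9, 137874, 125675, 124391, 129822, 135944, 135927, 132634, 125516, 45723, 19369, 45370, 131767, 137622, 137630, 135377, 137454, 137419, 135131, 136184, 136213, 136376, 136443, 130983, 119958, 110273, 119959, 136552, 136564, 136445, 136481, 131633, 25417, 65276, 65271], [335, 0, 137874, 125694, 137875], [345,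 46, 137874, 125675, 124391, 124197, 45382, 19390, 45702, 133594, 137466, 137871, 137829, 132890, 136680, 136719, 137644, 137667, 126023, 136807, 136812, 129470, 50788, 50834, 50844, 50845, 50835, 50789, 130002, 136972, 136934, 137017, 137016, 136935, 136973, 130003, 50788, 50834, 50844, 132732, 132719, 136314, 136346, 112054, 25417, 65276, 65271, 137910], [361, 46, 137874, 128886, 128854, 119984, 114199, 47313, 107176, 110085, 116740, 116751, 131554, 136376, 136443, 130983, 136552, 136564, 136445, 136481, 131631, 136347, 136315, 132718, 132733, 50845, 50835, 50789, 129471, 136813, 136806, 126022, 137666, 137645, 136718, 136681, 132891, 137828, 137870, 137467, 133595, 45703, 19391, 45383, 124196, 124390, 125674, 137875], [265, 3, 127850, 127913, 48184, 137910], [0, 0], [361, 2, 137921, 47919, 97409, 97416, 48389, 24095, 24166, 95098, 107602, 107753, 107754, 96757, 49428, 49431, 48455, 48437, 37012, 46797, 13649, 107472, 107579, 101262, 103092, 94809, 113487, 113457, 108357, 108322, 67649, 67647, 67645, 103323, 103316, 101776, 98012, 95282, 67097, 67095, 99247, 99252,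 46259, 46254, 24157, 23658, 24156, 137920], [249, 1, 97381, 42499, 137920], [249, 3, 137924, 97381, 137920], [265, 1, 95019, 25355, 24179, 137920], [266, 3, 63981, 24807, 46254, 137920], [279, 2, 137921, 24178, 137920], [281, 1, 105062, 97410, 24177, 137920], [282, 3, 106452, 47903, 47918, 137920], [295, 2, 137921, 24176, 137920], [297, 1, 119560, 71864, 46739, 137920], [298, 3, 102181, 47005, 46736, 137920], [311, 2, 109996, 46411, 137920], [312, 1, 125596, 46739, 137920], [313, 1, 63981, 46264, 46395, 137920], [314, 3, 95019, 46750, 24159, 137920], [327, 2, 125596, 46741, 137920], [328, 1, 109996, 46395, 137920], [343, 2, 137921, 41278, 137920], [359, 2, 137921, 40592, 137920], [375, 2, 137921, 24174, 137920], [0, 0], [0, 0], [0, 0], [0, 0], [345, 11, 54119, 110002, 110025, 109996, 25954, 26166, 50512, 62812, 105467, 108213, 124918, 124919, 108212, 105466, 101916, 95963, 101621, 96365, 96364, 101620, 95962, 101917, 105467, 108213, 124918, 124897, 121530, 135586, 135597, 124896, 124875, 123176, 124646, 124655, 40552, 48455, 48423, 46432, 109997, 110025, 110005,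 107602, 137962, 137964, 137966, 137968], [249, 3, 137970, 107776, 137962], [249, 1, 137970, 107776, 107768, 137962], [8, 0, 137968, 137975], [15, 0, 137971, 137975], [17, 0, 137972, 137975], [279, 0, 137978, 54262, 137979], [282, 1, 137978, 98423, 98683, 55489], [295, 0, 137978, 54240, 137979], [298, 1, 137978, 60562, 97303, 70692], [343, 0, 137978, 54218, 137979], [359, 0, 137978, 54196, 137979], [361, 46, 137977, 137978, 54119, 54117, 47418, 52642, 114716, 114721, 97555, 97560, 107940, 107927, 97138, 94572, 107058, 103331, 108956, 108924, 101240, 49284, 49927, 50522, 62812, 105470, 105282, 103125, 124898, 124875, 123176, 124646, 124631, 99067, 99060, 75059, 103089, 105435, 105302, 103166, 109998, 110024, 110003, 54118, 137979, 137976, 137967, 137965], [361, 6, 137964, 137966, 137977, 137978, 54119, 110002, 110025, 109999, 103167, 105303, 105434, 107059, 94568, 97615, 97620, 59684, 52026, 52036, 52070, 59685, 97561, 97554, 114720, 114727, 98965, 101637, 98922, 124630, 124649, 123043, 79387, 109102, 121530, 135586, 135597, 124896, 124875, 123176, 124646, 124670,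 124647, 123169, 99009, 55303, 98880, 98981], [375, 0, 137995, 137978, 54174, 137979]]
def dJ348 : List (List ℕ) := [[277, 0, 139192, 59569, 139193], [293, 0, 139192, 59520, 139193], [250, 3, 139198, 139142, 139171], [0, 0], [69, 1, 107005, 139206], [133, 2, 139057, 97753, 139206], [173, 1, 130995, 130950, 139206], [174, 2, 107032, 101113, 139206], [234, 3, 139123, 101867, 101864, 139206], [259, 2, 139207, 54494, 139206], [275, 2, 139207, 54466, 139206], [291, 2, 139207, 54438, 139206], [339, 2, 139207, 54410, 139206], [355, 2, 139207, 54382, 139206], [371, 2, 139207, 54354, 139206], [0, 0], [135, 3, 139207, 107004, 102842, 105288, 139230], [54, 2, 139232, 139210], [134, 2, 139232, 139208, 102842], [221, 2, 139232, 139210, 139020, 139032, 139030, 139211, 139233], [241, 2, 139232, 139207, 130951, 130525], [242, 2, 139232, 139214, 111994, 112167], [255, 2, 139232, 139219, 139233], [271, 2, 139232, 139221, 139233], [287, 2, 139232, 139223, 139233], [335, 2, 139232, 139225, 139233], [351, 2, 139232, 139227, 139233], [367, 2, 139232, 139229, 139233], [0, 0], [0, 0],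 [231, 5, 139231, 105289, 102843, 102905, 68204, 107008, 139256, 139258], [62, 1, 139258, 139260], [113, 2, 139260, 139238, 139261], [115, 0, 139263, 139261, 139264, 139260, 139262], [125, 2, 139260, 139235, 139031], [127, 0, 139055, 139031, 139268, 139260, 139262], [225, 1, 139260, 139231, 54297, 54295], [226, 3, 139260, 139235, 139085, 102821], [230, 5, 139258, 139260, 139235, 139211, 139208, 102905, 68204], [257, 2, 139260, 139245, 139261], [273, 2, 139260, 139247, 139261], [289, 2, 139260, 139249, 139261], [337, 2, 139260, 139251, 139261], [353, 2, 139260, 139253, 139261], [369, 2, 139260, 139255, 139261], [370, 1, 139258, 139288, 139259], [354, 1, 139258, 139286, 139259], [338, 1, 139258, 139284, 139259], [290, 1, 139258, 139282, 139259], [274, 1, 139258, 139280, 139259], [258, 1, 139258, 139278, 139259], [173, 3, 112646, 102729, 139276], [174, 0, 126852, 102727, 139276], [307, 0, 139275, 102822, 139276], [308, 3, 139237, 102914, 139276], [323, 0, 139237, 102916, 139276], [324, 3, 139275, 102824, 139276], [321, 0, 139259, 139312, 139260], [325, 3, 137312, 139303,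 139312], [326, 0, 128885, 139305, 139312], [413, 0, 139314, 139307, 139312], [93, 0, 139318, 131006, 139240], [94, 3, 139318, 128932, 139305], [97, 0, 139322, 139318, 131006, 131010, 139305], [314, 2, 139316, 137231, 131505, 139093], [0, 0], [237, 3, 126820, 112007, 111990, 101369, 107005, 139206, 139330], [70, 2, 139332, 126820], [173, 1, 139332, 126817, 123139], [174, 2, 139332, 126818, 105575], [225, 2, 139332, 128823, 128826, 139333], [234, 3, 139332, 126818, 100055, 139122], [259, 2, 139332, 126552, 139333], [275, 2, 139332, 126494, 139333], [291, 2, 139332, 126436, 139333], [339, 2, 139332, 126378, 139333], [355, 2, 139332, 126320, 139333], [371, 2, 139332, 126262, 139333], [0, 0], [0, 0], [231, 5, 139207, 107004, 51166, 102821, 69811, 107010, 139356, 139358], [62, 1, 139358, 139360], [125, 2, 139360, 139233, 139261], [126, 1, 139360, 139210, 139031], [127, 0, 139263, 139261, 139364, 139360, 139362], [128, 5, 139055, 139031, 139366, 139360, 139362], [217, 3, 139360, 139233, 139238, 139232], [219, 4, 139372, 139360, 139362, 139368, 139266, 139266, 139369],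 [219, 5, 139358, 139360, 139233, 139238, 139238, 139232, 139372], [225, 1, 139360, 139207, 97752, 97761], [226, 3, 139360, 139233, 139237, 102912], [230, 5, 139358, 139360, 139233, 139235, 139085, 102821, 69811], [257, 2, 139360, 139219, 139361], [273, 2, 139360, 139221, 139361], [289, 2, 139360, 139223, 139361], [337, 2, 139360, 139225, 139361], [353, 2, 139360, 139227, 139361], [369, 2, 139360, 139229, 139361], [365, 0, 139377, 139394, 139376], [349, 0, 139377, 139392, 139376], [333, 0, 139377, 139390, 139376], [285, 0, 139377, 139388, 139376], [269, 0, 139377, 139386, 139376], [253, 0, 139377, 139384, 139376], [173, 3, 112080, 112087, 139382], [174, 0, 105215, 101289, 139382], [307, 0, 139381, 102838, 139382], [308, 3, 139208, 57693, 139382], [323, 0, 139208, 57688, 139382], [324, 3, 139381, 102840, 139382], [318, 1, 139376, 139418, 139373], [325, 3, 71234, 139409, 139418], [326, 0, 74634, 139411, 139418], [413, 0, 139420, 139413, 139418], [0, 0], [69, 1, 107114, 139428], [173, 1, 120771, 120764, 139428], [174, 2, 105236, 98605, 139428], [259, 2, 139429, 55972,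 139428], [275, 2, 139429, 55942, 139428], [291, 2, 139429, 55912, 139428], [339, 2, 139429, 55882, 139428], [355, 2, 139429, 55852, 139428], [371, 2, 139429, 55822, 139428], [313, 2, 139434, 103243, 69124, 139336], [0, 0], [135, 3, 139429, 107115, 51604, 105243, 139450], [134, 2, 139452, 139430, 51604], [241, 2, 139452, 139429, 120765, 124468], [242, 2, 139452, 139434, 122284, 121855], [255, 2, 139452, 139437, 139453], [271, 2, 139452, 139439, 139453], [287, 2, 139452, 139441, 139453], [335, 2, 139452, 139443, 139453], [351, 2, 139452, 139445, 139453], [367, 2, 139452, 139447, 139453], [209, 2, 139459, 121853, 122521, 139458], [0, 0], [139, 4, 139452, 139429, 107115, 51604, 100170, 107121, 139474], [54, 2, 139476, 139452], [134, 2, 139476, 139455, 100170], [241, 2, 139476, 139451, 103047, 52845], [242, 2, 139476, 139459, 122288, 57906], [255, 2, 139476, 139461, 139477], [271, 2, 139476, 139463, 139477], [287, 2, 139476, 139465, 139477], [335, 2, 139476, 139467, 139477], [351, 2, 139476, 139469, 139477], [367, 2, 139476, 139471, 139477], [210, 2, 139141, 76459,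 104976, 139484], [309, 2, 139141, 57920, 139484], [313, 2, 138887, 57700, 57909, 139484], [314, 2, 138729, 56690, 57924, 139484], [326, 1, 139141, 57922, 139484], [298, 3, 139502, 138901, 139191, 139143], [0, 0], [0, 0], [231, 5, 139451, 105242, 51605, 99944, 73565, 107116, 139510, 139512], [62, 1, 139512, 139514], [113, 2, 139514, 139473, 139515], [115, 0, 139517, 139515, 139518, 139514, 139516], [125, 2, 139514, 139477, 139509], [225, 1, 139514, 139451, 98601, 98633], [226, 3, 139514, 139477, 139481, 99990], [230, 5, 139512, 139514, 139477, 139479, 139430, 99944, 73565], [257, 2, 139514, 139461, 139515], [273, 2, 139514, 139463, 139515], [289, 2, 139514, 139465, 139515], [337, 2, 139514, 139467, 139515], [353, 2, 139514, 139469, 139515], [369, 2, 139514, 139471, 139515], [370, 1, 139512, 139540, 139513], [354, 1, 139512, 139538, 139513], [338, 1, 139512, 139536, 139513], [290, 1, 139512, 139534, 139513], [274, 1, 139512, 139532, 139513], [258, 1, 139512, 139530, 139513], [173, 3, 132343, 94030, 139528], [174, 0, 124434, 101007, 139528], [233, 3, 139459, 122288,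 57905, 139528], [307, 0, 139527, 99980, 139528], [308, 3, 139455, 58113, 139528], [323, 0, 139455, 58108, 139528], [324, 3, 139527, 99982, 139528], [315, 3, 139564, 139559, 139566], [321, 0, 139513, 139566, 139514], [325, 3, 132362, 139555, 139566], [326, 0, 132797, 139557, 139566], [413, 0, 139570, 139561, 139566], [315, 3, 139567, 139569, 139571], [0, 0], [237, 3, 134135, 133022, 122276, 113631, 107114, 139428, 139580], [70, 2, 139582, 134135], [173, 1, 139582, 134119, 105124], [174, 2, 139582, 134132, 104857], [225, 2, 139582, 135090, 135089, 139583], [259, 2, 139582, 134124, 139583], [275, 2, 139582, 134126, 139583], [291, 2, 139582, 134128, 139583], [339, 2, 139582, 134020, 139583]]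
def dJ352 : List (List ℕ) := [[275, 2, 140790, 135697, 140791], [291, 2, 140790, 135701, 140791], [339, 2, 140790, 135707, 140791], [355, 2, 140790, 135709, 140791], [371, 2, 140790, 135711, 140791], [314, 4, 139310, 139241, 131009, 140794], [250, 3, 140799, 140810, 139915], [281, 1, 140810, 139267, 139297, 140811], [0, 0], [77, 1, 124016, 140816], [93, 2, 140789, 124019, 140816], [173, 2, 135830, 124001, 140816], [174, 1, 129788, 124003, 140816], [209, 2, 140817, 124018, 124011, 140816], [241, 1, 140789, 123979, 124003, 140816], [261, 2, 140817, 123862, 140816], [277, 2, 140817, 123804, 140816], [293, 2, 140817, 123746, 140816], [310, 1, 140789, 124013, 140816], [313, 2, 139243, 112653, 128101, 140816], [314, 2, 140392, 127991, 124015, 140816], [325, 2, 140789, 124015, 140816], [341, 2, 140817, 123688, 140816], [357, 2, 140817, 123630, 140816], [373, 2, 140817, 123572, 140816], [321, 1, 140842, 140796, 140843], [0, 0], [95, 3, 140817, 124017, 110480, 124021, 140852], [38, 2, 140854, 140820], [85, 1, 140854, 140826, 140855], [94, 2, 140854, 140818, 110480], [201,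 1, 140854, 140851, 140826, 140855], [233, 2, 140854, 140817, 124002, 127992], [234, 2, 140854, 140822, 135832, 138344], [251, 2, 140854, 140831, 140855], [265, 2, 140854, 140832, 140840, 140398], [266, 2, 140854, 140838, 139247, 139322], [267, 2, 140854, 140833, 140855], [283, 2, 140854, 140835, 140855], [299, 2, 140854, 140836, 140821], [300, 1, 140854, 140878, 140857], [316, 1, 140854, 140842, 140821], [329, 2, 140854, 140828, 140813, 139887, 139149, 138989, 138800, 138425, 140611, 140600, 139828, 139872, 139741, 139522, 140784, 140749, 140093, 140057, 139607, 139115, 139894, 139887, 139143, 139640, 139979, 139986, 139783, 138948, 138953, 139271, 139915, 139906, 139914, 140811], [331, 2, 140854, 140845, 140855], [347, 2, 140854, 140847, 140855], [363, 2, 140854, 140849, 140855], [316, 1, 140856, 140883, 140855], [319, 3, 140892, 140884, 140883], [0, 0], [313, 2, 139554, 132363, 134771, 140896], [250, 1, 140898, 140244, 140223], [263, 2, 140898, 139552, 140899], [279, 2, 140898, 139550, 140899], [281, 1, 140898, 139521, 139549, 140899], [295, 2, 140898, 139548,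 140899], [297, 1, 140898, 139512, 139561, 140899], [314, 3, 140898, 139564, 139457, 131718], [343, 2, 140898, 139546, 140899], [359, 2, 140898, 139544, 140899], [375, 2, 140898, 139542, 140899], [173, 0, 136145, 135936, 140912], [174, 3, 130262, 131786, 140912], [0, 0], [313, 2, 139572, 122299, 133548, 140924], [250, 1, 140926, 140784, 140765], [263, 2, 140926, 139531, 140927], [265, 1, 140926, 139568, 139551, 140899], [279, 2, 140926, 139533, 140927], [281, 1, 140926, 139518, 139534, 140927], [295, 2, 140926, 139535, 140927], [297, 1, 140926, 139514, 139577, 140927], [312, 1, 140926, 139561, 140899], [314, 3, 140926, 139567, 139556, 128251], [327, 2, 140926, 139567, 140899], [343, 2, 140926, 139537, 140927], [359, 2, 140926, 139539, 140927], [375, 2, 140926, 139541, 140927], [323, 3, 129809, 140923, 140946], [324, 0, 136124, 140921, 140946], [134, 3, 140956, 136140, 140921], [0, 0], [173, 2, 130259, 135383, 140960], [70, 2, 140962, 135948], [133, 2, 140962, 130233, 140955], [134, 1, 140962, 130234, 140923], [174, 2, 140962, 130261, 130264], [225, 2, 140962, 130234,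 130239, 140963], [233, 1, 140962, 131712, 131785, 140955], [234, 3, 140962, 130261, 128109, 140923], [259, 2, 140962, 130242, 140963], [275, 2, 140962, 130244, 140963], [291, 2, 140962, 130246, 140963], [307, 2, 140962, 130255, 140923], [308, 1, 140962, 130248, 140955], [323, 2, 140962, 130250, 140955], [324, 1, 140962, 130252, 140923], [339, 2, 140962, 130174, 140963], [355, 2, 140962, 130160, 140963], [371, 2, 140962, 130146, 140963], [361, 42, 140969, 140932, 140966, 140996, 140967, 140929, 140751, 140273, 138921, 138980, 138983, 138987, 138918, 139090, 139328, 139364, 140292, 140301, 140468, 140480, 138654, 138624, 140176, 140389, 140398, 139091, 138888, 138754, 138828, 140687, 140714, 138516, 140528, 140542, 140551, 139986, 139771, 140142, 140466, 140680, 140689, 140683, 139752, 139873, 139811, 139954], [250, 2, 139973, 139959, 140998], [281, 3, 140982, 140999, 139970, 140998], [0, 0], [249, 1, 140659, 138388, 141004], [249, 3, 141006, 140659, 141004], [279, 0, 141006, 140654, 141007], [295, 0, 141006, 140656, 141007], [329, 34, 141006, 140659, 138403, 138736,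 138753, 138865, 140205, 140183, 139370, 138965, 140687, 140691, 140684, 140497, 140301, 140180, 140389, 140841, 140828, 140856, 140895, 140840, 140386, 138869, 138948, 140272, 140750, 140761, 140217, 140568, 140545, 140613, 140646, 141007], [359, 0, 141006, 140664, 141007], [375, 0, 141006, 140666, 141007], [265, 3, 141011, 141006, 140660, 141007], [281, 3, 141013, 141006, 140650, 141007], [297, 1, 141005, 138452, 138463, 141004], [313, 1, 141005, 138482, 138503, 141004], [361, 2, 141005, 138475, 138475, 138452, 138555, 138678, 138696, 139170, 140340, 140353, 139367, 139830, 139874, 140260, 140750, 140928, 140966, 140977, 140958, 140926, 139523, 139740, 139873, 139829, 140601, 140610, 138424, 138801, 138988, 139148, 139886, 140812, 140829, 140855, 140885, 140810, 139270, 138952, 138949, 138800, 138402, 138386, 138426, 138444, 138427, 141004], [241, 4, 141026, 141029, 141027, 141028], [0, 0], [311, 2, 141005, 138462, 141032], [299, 1, 141034, 141020, 141035], [301, 1, 141034, 141022, 141035], [303, 1, 141034, 141028, 141035], [305, 1, 141034, 141025, 141035], [307,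 1, 141034, 141030, 141035], [309, 1, 141034, 141027, 141035], [312, 2, 141034, 141006, 140722], [381, 2, 141034, 141009, 141035], [393, 2, 141034, 141010, 141035], [403, 2, 141034, 141012, 141035], [415, 1, 141034, 141014, 141035], [417, 1, 141034, 141017, 141035], [419, 1, 141034, 141019, 141035], [314, 0, 141026, 141006, 140737, 141048], [0, 0], [327, 2, 141005, 138502, 141064], [315, 1, 141066, 141020, 141067], [317, 1, 141066, 141022, 141067], [319, 1, 141066, 141028, 141067], [321, 1, 141066, 141025, 141067], [323, 1, 141066, 141030, 141067], [325, 1, 141066, 141027, 141067], [328, 2, 141066, 141006, 140726], [383, 2, 141066, 141009, 141067], [395, 2, 141066, 141010, 141067], [405, 2, 141066, 141012, 141067], [413, 2, 141066, 141035, 141062], [421, 1, 141066, 141014, 141067], [423, 1, 141066, 141017, 141067], [425, 1, 141066, 141019, 141067], [297, 4, 141049, 140671, 141080, 141075], [314, 0, 141046, 141049, 140740, 141080]]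
def dLive_3 : BT := .node (.node (.node (.node (.node (.node (.node (.leaf 18) (.leaf 7876)) (.leaf 5199)) (.node (.leaf 4417) (.leaf 6795))) (.node (.node (.leaf 2364) (.leaf 5837)) (.node (.leaf 4713) (.leaf 7297)))) (.node (.node (.node (.node (.leaf 1179) (.leaf 8201)) (.leaf 5447)) (.node (.leaf 4557) (.leaf 7025))) (.node (.node (.leaf 3774) (.leaf 6425)) (.node (.leaf 4919) (.leaf 7575))))) (.node (.node (.node (.node (.node (.leaf 268) (.leaf 8088)) (.leaf 5318)) (.node (.leaf 4486) (.leaf 6914))) (.node (.node (.leaf 3418) (.leaf 6121)) (.node (.leaf 4806) (.leaf 7454)))) (.node (.node (.node (.node (.leaf 1424) (.leaf 8268)) (.leaf 5618)) (.node (.leaf 4634) (.leaf 7143))) (.node (.node (.leaf 4353) (.leaf 6640)) (.node (.leaf 5034) (.leaf 7727)))))) (.node (.node (.node (.node (.node (.node (.leaf 86) (.leaf 7971)) (.leaf 5262)) (.node (.leaf 4450) (.leaf 6867))) (.node (.node (.leaf 2469) (.leaf 5966)) (.node (.leaf 4759) (.leaf 7369)))) (.node (.node (.node (.node (.leaf 1291) (.leaf 8236)) (.leaf 5517)) (.node (.leaf 4600) (.leaf 7083))) (.node (.node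 (.leaf 4321) (.leaf 6587)) (.node (.leaf 4974) (.leaf 7656))))) (.node (.node (.node (.node (.node (.leaf 693) (.leaf 8150)) (.leaf 5383)) (.node (.leaf 4525) (.leaf 6966))) (.node (.node (.leaf 3538) (.leaf 6257)) (.node (.leaf 4866) (.leaf 7506)))) (.node (.node (.node (.leaf 1954) (.leaf 5721)) (.node (.leaf 4679) (.leaf 7240))) (.node (.node (.leaf 4385) (.leaf 6731)) (.node (.leaf 5114) (.leaf 7801))))))
def dLive_10 : BT := .node (.node (.node (.node (.node (.node (.node (.leaf 23) (.leaf 7894)) (.leaf 5211)) (.node (.leaf 4421) (.leaf 6813))) (.node (.node (.leaf 2375) (.leaf 5857)) (.node (.leaf 4721) (.leaf 7306)))) (.node (.node (.node (.node (.leaf 1183) (.leaf 8208)) (.leaf 5451)) (.node (.leaf 4565) (.leaf 7031))) (.node (.node (.leaf 3782) (.leaf 6441)) (.node (.leaf 4925) (.leaf 7598))))) (.node (.node (.node (.node (.node (.leaf 291) (.leaf 8098)) (.leaf 5326)) (.node (.leaf 4491) (.leaf 6923))) (.node (.node (.leaf 3423) (.leaf 6148)) (.node (.leaf 4813) (.leaf 7458)))) (.node (.node (.node (.node (.leaf 1428) (.leaf 8272)) (.leaf 5626)) (.node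 (.leaf 4641) (.leaf 7178))) (.node (.node (.leaf 4357) (.leaf 6646)) (.node (.leaf 5041) (.leaf 7731)))))) (.node (.node (.node (.node (.node (.node (.leaf 91) (.leaf 7983)) (.leaf 5266)) (.node (.leaf 4454) (.leaf 6879))) (.node (.node (.leaf 3154) (.leaf 6000)) (.node (.leaf 4763) (.leaf 7385)))) (.node (.node (.node (.node (.leaf 1295) (.leaf 8240)) (.leaf 5523)) (.node (.leaf 4604) (.leaf 7087))) (.node (.node (.leaf 4325) (.leaf 6598)) (.node (.leaf 4982) (.leaf 7671))))) (.node (.node (.node (.node (.node (.leaf 784) (.leaf 8154)) (.leaf 5391)) (.node (.leaf 4529) (.leaf 6970))) (.node (.node (.leaf 3542) (.leaf 6279)) (.node (.leaf 4873) (.leaf 7510)))) (.node (.node (.node (.leaf 1974) (.leaf 5731)) (.node (.leaf 4683) (.leaf 7248))) (.node (.node (.leaf 4389) (.leaf 6736)) (.node (.leaf 5138) (.leaf 7818))))))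
def dLive_18 : BT := .node (.node (.node (.node (.node (.node (.node (.leaf 21) (.leaf 7890)) (.leaf 5206)) (.node (.leaf 4419) (.leaf 6811))) (.node (.node (.leaf 2372) (.leaf 5852)) (.node (.leaf 4719) (.leaf 7304)))) (.node (.node (.node (.node (.leaf 1181) (.leaf 8206)) (.leaf 5449)) (.node (.leaf 4559) (.leaf 7028))) (.node (.node (.leaf 3776) (.leaf 6436)) (.node (.leaf 4923) (.leaf 7581))))) (.node (.node (.node (.node (.node (.leaf 281) (.leaf 8095)) (.leaf 5320)) (.node (.leaf 4489) (.leaf 6921))) (.node (.node (.leaf 3420) (.leaf 6144)) (.node (.leaf 4811) (.leaf 7456)))) (.node (.node (.node (.node (.leaf 1426) (.leaf 8270)) (.leaf 5623)) (.node (.leaf 4639) (.leaf 7153))) (.node (.node (.leaf 4355) (.leaf 6642)) (.node (.leaf 5039) (.leaf 7729)))))) (.node (.node (.node (.node (.node (.node (.leaf 89) (.leaf 7977)) (.leaf 5264)) (.node (.leaf 4452) (.leaf 6877))) (.node (.node (.leaf 3152) (.leaf 5970)) (.node (.leaf 4761) (.leaf 7375)))) (.node (.node (.node (.node (.leaf 1293) (.leaf 8238)) (.leaf 5521)) (.node (.leaf 4602) (.leaf 7085))) (.node (.node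 (.leaf 4323) (.leaf 6592)) (.node (.leaf 4977) (.leaf 7669))))) (.node (.node (.node (.node (.node (.leaf 778) (.leaf 8152)) (.leaf 5389)) (.node (.leaf 4527) (.leaf 6968))) (.node (.node (.leaf 3540) (.leaf 6261)) (.node (.leaf 4871) (.leaf 7508)))) (.node (.node (.node (.leaf 1962) (.leaf 5728)) (.node (.leaf 4681) (.leaf 7243))) (.node (.node (.leaf 4387) (.leaf 6733)) (.node (.leaf 5123) (.leaf 7806))))))
def dLive_25 : BT := .node (.node (.node (.node (.node (.node (.node (.leaf 27) (.leaf 7896)) (.leaf 5213)) (.node (.leaf 4423) (.leaf 6815))) (.node (.node (.leaf 2377) (.leaf 5869)) (.node (.leaf 4723) (.leaf 7308)))) (.node (.node (.node (.node (.leaf 1185) (.leaf 8210)) (.leaf 5456)) (.node (.leaf 4567) (.leaf 7039))) (.node (.node (.leaf 3784) (.leaf 6447)) (.node (.leaf 4930) (.leaf 7601))))) (.node (.node (.node (.node (.node (.leaf 294) (.leaf 8106)) (.leaf 5335)) (.node (.leaf 4493) (.leaf 6929))) (.node (.node (.leaf 3425) (.leaf 6151)) (.node (.leaf 4815) (.leaf 7461)))) (.node (.node (.node (.node (.leaf 1430) (.leaf 8274)) (.leaf 5630)) (.node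 (.leaf 4643) (.leaf 7182))) (.node (.node (.leaf 4359) (.leaf 6673)) (.node (.leaf 5047) (.leaf 7734)))))) (.node (.node (.node (.node (.node (.node (.leaf 94) (.leaf 8004)) (.leaf 5270)) (.node (.leaf 4456) (.leaf 6883))) (.node (.node (.leaf 3156) (.leaf 6006)) (.node (.leaf 4765) (.leaf 7392)))) (.node (.node (.node (.node (.leaf 1297) (.leaf 8242)) (.leaf 5534)) (.node (.leaf 4606) (.leaf 7101))) (.node (.node (.leaf 4327) (.leaf 6611)) (.node (.leaf 4984) (.leaf 7673))))) (.node (.node (.node (.node (.node (.leaf 943) (.leaf 8167)) (.leaf 5393)) (.node (.leaf 4531) (.leaf 6972))) (.node (.node (.leaf 3544) (.leaf 6283)) (.node (.leaf 4876) (.leaf 7514)))) (.node (.node (.node (.leaf 2073) (.leaf 5733)) (.node (.leaf 4686) (.leaf 7250))) (.node (.node (.leaf 4391) (.leaf 6738)) (.node (.leaf 5140) (.leaf 7820))))))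
def dLive_34 : BT := .node (.node (.node (.node (.node (.node (.node (.leaf 20) (.leaf 7877)) (.leaf 5204)) (.node (.leaf 4418) (.leaf 6810))) (.node (.node (.leaf 2371) (.leaf 5847)) (.node (.leaf 4718) (.leaf 7303)))) (.node (.node (.node (.node (.leaf 1180) (.leaf 8204)) (.leaf 5448)) (.node (.leaf 4558) (.leaf 7027))) (.node (.node (.leaf 3775) (.leaf 6429)) (.node (.leaf 4920) (.leaf 7580))))) (.node (.node (.node (.node (.node (.leaf 269) (.leaf 8089)) (.leaf 5319)) (.node (.leaf 4487) (.leaf 6916))) (.node (.node (.leaf 3419) (.leaf 6128)) (.node (.leaf 4807) (.leaf 7455)))) (.node (.node (.node (.node (.leaf 1425) (.leaf 8269)) (.leaf 5622)) (.node (.leaf 4636) (.leaf 7148))) (.node (.node (.leaf 4354) (.leaf 6641)) (.node (.leaf 5035) (.leaf 7728)))))) (.node (.node (.node (.node (.node (.node (.leaf 88) (.leaf 7975)) (.leaf 5263)) (.node (.leaf 4451) (.leaf 6876))) (.node (.node (.leaf 2470) (.leaf 5968)) (.node (.leaf 4760) (.leaf 7374)))) (.node (.node (.node (.node (.leaf 1292) (.leaf 8237)) (.leaf 5520)) (.node (.leaf 4601) (.leaf 7084))) (.node (.node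 (.leaf 4322) (.leaf 6591)) (.node (.leaf 4975) (.leaf 7659))))) (.node (.node (.node (.node (.node (.leaf 762) (.leaf 8151)) (.leaf 5388)) (.node (.leaf 4526) (.leaf 6967))) (.node (.node (.leaf 3539) (.leaf 6258)) (.node (.leaf 4870) (.leaf 7507)))) (.node (.node (.node (.leaf 1956) (.leaf 5725)) (.node (.leaf 4680) (.leaf 7241))) (.node (.node (.leaf 4386) (.leaf 6732)) (.node (.leaf 5115) (.leaf 7803))))))
def dLive_41 : BT := .node (.node (.node (.node (.node (.node (.node (.leaf 24) (.leaf 7895)) (.leaf 5212)) (.node (.leaf 4422) (.leaf 6814))) (.node (.node (.leaf 2376) (.leaf 5867)) (.node (.leaf 4722) (.leaf 7307)))) (.node (.node (.node (.node (.leaf 1184) (.leaf 8209)) (.leaf 5454)) (.node (.leaf 4566) (.leaf 7038))) (.node (.node (.leaf 3783) (.leaf 6446)) (.node (.leaf 4929) (.leaf 7600))))) (.node (.node (.node (.node (.node (.leaf 292) (.leaf 8099)) (.leaf 5327)) (.node (.leaf 4492) (.leaf 6924))) (.node (.node (.leaf 3424) (.leaf 6150)) (.node (.leaf 4814) (.leaf 7460)))) (.node (.node (.node (.node (.leaf 1429) (.leaf 8273)) (.leaf 5628)) (.node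 (.leaf 4642) (.leaf 7179))) (.node (.node (.leaf 4358) (.leaf 6650)) (.node (.leaf 5042) (.leaf 7732)))))) (.node (.node (.node (.node (.node (.node (.leaf 93) (.leaf 7984)) (.leaf 5268)) (.node (.leaf 4455) (.leaf 6880))) (.node (.node (.leaf 3155) (.leaf 6005)) (.node (.leaf 4764) (.leaf 7388)))) (.node (.node (.node (.node (.leaf 1296) (.leaf 8241)) (.leaf 5524)) (.node (.leaf 4605) (.leaf 7088))) (.node (.node (.leaf 4326) (.leaf 6599)) (.node (.leaf 4983) (.leaf 7672))))) (.node (.node (.node (.node (.node (.leaf 811) (.leaf 8156)) (.leaf 5392)) (.node (.leaf 4530) (.leaf 6971))) (.node (.node (.leaf 3543) (.leaf 6282)) (.node (.leaf 4875) (.leaf 7513)))) (.node (.node (.node (.leaf 2072) (.leaf 5732)) (.node (.leaf 4684) (.leaf 7249))) (.node (.node (.leaf 4390) (.leaf 6737)) (.node (.leaf 5139) (.leaf 7819))))))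
def dLive_49 : BT := .node (.node (.node (.node (.node (.node (.node (.leaf 22) (.leaf 7893)) (.leaf 5208)) (.node (.leaf 4420) (.leaf 6812))) (.node (.node (.leaf 2374) (.leaf 5854)) (.node (.leaf 4720) (.leaf 7305)))) (.node (.node (.node (.node (.leaf 1182) (.leaf 8207)) (.leaf 5450)) (.node (.leaf 4564) (.leaf 7030))) (.node (.node (.leaf 3781) (.leaf 6440)) (.node (.leaf 4924) (.leaf 7587))))) (.node (.node (.node (.node (.node (.leaf 290) (.leaf 8097)) (.leaf 5325)) (.node (.leaf 4490) (.leaf 6922))) (.node (.node (.leaf 3422) (.leaf 6147)) (.node (.leaf 4812) (.leaf 7457)))) (.node (.node (.node (.node (.leaf 1427) (.leaf 8271)) (.leaf 5624)) (.node (.leaf 4640) (.leaf 7172))) (.node (.node (.leaf 4356) (.leaf 6645)) (.node (.leaf 5040) (.leaf 7730)))))) (.node (.node (.node (.node (.node (.node (.leaf 90) (.leaf 7981)) (.leaf 5265)) (.node (.leaf 4453) (.leaf 6878))) (.node (.node (.leaf 3153) (.leaf 5971)) (.node (.leaf 4762) (.leaf 7376)))) (.node (.node (.node (.node (.leaf 1294) (.leaf 8239)) (.leaf 5522)) (.node (.leaf 4603) (.leaf 7086))) (.node (.node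 (.leaf 4324) (.leaf 6596)) (.node (.leaf 4978) (.leaf 7670))))) (.node (.node (.node (.node (.node (.leaf 779) (.leaf 8153)) (.leaf 5390)) (.node (.leaf 4528) (.leaf 6969))) (.node (.node (.leaf 3541) (.leaf 6262)) (.node (.leaf 4872) (.leaf 7509)))) (.node (.node (.node (.leaf 1965) (.leaf 5730)) (.node (.leaf 4682) (.leaf 7247))) (.node (.node (.leaf 4388) (.leaf 6735)) (.node (.leaf 5124) (.leaf 7816))))))
def dLive_56 : BT := .node (.node (.node (.node (.node (.node (.node (.leaf 28) (.leaf 7898)) (.leaf 5214)) (.node (.leaf 4424) (.leaf 6816))) (.node (.node (.leaf 2378) (.leaf 5873)) (.node (.leaf 4725) (.leaf 7309)))) (.node (.node (.node (.node (.leaf 1186) (.leaf 8211)) (.leaf 5461)) (.node (.leaf 4568) (.leaf 7040))) (.node (.node (.leaf 3785) (.leaf 6449)) (.node (.leaf 4931) (.leaf 7603))))) (.node (.node (.node (.node (.node (.leaf 296) (.leaf 8107)) (.leaf 5341)) (.node (.leaf 4494) (.leaf 6932))) (.node (.node (.leaf 3426) (.leaf 6161)) (.node (.leaf 4817) (.leaf 7462)))) (.node (.node (.node (.node (.leaf 1431) (.leaf 8275)) (.leaf 5632)) (.node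 (.leaf 4644) (.leaf 7183))) (.node (.node (.leaf 4360) (.leaf 6675)) (.node (.leaf 5048) (.leaf 7735)))))) (.node (.node (.node (.node (.node (.node (.leaf 153) (.leaf 8005)) (.leaf 5271)) (.node (.leaf 4457) (.leaf 6885))) (.node (.node (.leaf 3157) (.leaf 6008)) (.node (.leaf 4767) (.leaf 7393)))) (.node (.node (.node (.node (.leaf 1298) (.leaf 8243)) (.leaf 5537)) (.node (.leaf 4607) (.leaf 7103))) (.node (.node (.leaf 4328) (.leaf 6612)) (.node (.leaf 4990) (.leaf 7674))))) (.node (.node (.node (.node (.node (.leaf 950) (.leaf 8168)) (.leaf 5395)) (.node (.leaf 4532) (.leaf 6973))) (.node (.node (.leaf 3545) (.leaf 6285)) (.node (.leaf 4880) (.leaf 7522)))) (.node (.node (.node (.leaf 2084) (.leaf 5734)) (.node (.leaf 4687) (.leaf 7251))) (.node (.node (.leaf 4392) (.leaf 6753)) (.node (.leaf 5146) (.leaf 7821))))))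
def dPos_3 : BT := .node (.node (.node (.node (.node (.node (.node (.leaf 18) (.leaf 2204)) (.leaf 0)) (.node (.leaf 0) (.leaf 0))) (.node (.node (.leaf 0) (.leaf 1010)) (.node (.leaf 0) (.leaf 0)))) (.node (.node (.node (.leaf 0) (.leaf 715)) (.node (.leaf 0) (.leaf 1497))) (.node (.node (.leaf 0) (.leaf 0)) (.node (.leaf 0) (.leaf 0))))) (.node (.node (.node (.node (.leaf 0) (.leaf 487)) (.node (.leaf 0) (.leaf 0))) (.node (.node (.leaf 0) (.leaf 0)) (.node (.leaf 0) (.leaf 1866)))) (.node (.node (.node (.leaf 0) (.leaf 888)) (.node (.leaf 0) (.leaf 0))) (.node (.node (.leaf 0) (.leaf 1305)) (.node (.leaf 0) (.leaf 2087)))))) (.node (.node (.node (.node (.node (.leaf 0) (.leaf 0)) (.node (.leaf 0) (.leaf 0))) (.node (.node (.leaf 141) (.leaf 0)) (.node (.leaf 0) (.leaf 0)))) (.node (.node (.node (.leaf 0) (.leaf 0)) (.node (.leaf 0) (.leaf 1551))) (.node (.node (.leaf 0) (.leaf 0)) (.node (.leaf 0) (.leaf 0))))) (.node (.node (.node (.node (.leaf 0) (.leaf 604)) (.node (.leaf 292) (.leaf 0))) (.node (.node (.leaf 0) (.leaf 0)) (.node (.leaf 0) (.leaf 0)))) (.node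 (.node (.node (.leaf 0) (.leaf 0)) (.node (.leaf 0) (.leaf 1695))) (.node (.node (.leaf 0) (.leaf 0)) (.node (.leaf 0) (.leaf 0))))))
def dPos_10 : BT := .node (.node (.node (.node (.node (.node (.node (.leaf 0) (.leaf 2220)) (.leaf 0)) (.node (.leaf 0) (.leaf 0))) (.node (.node (.leaf 0) (.leaf 0)) (.node (.leaf 0) (.leaf 1759)))) (.node (.node (.node (.leaf 0) (.leaf 0)) (.node (.leaf 0) (.leaf 0))) (.node (.node (.leaf 0) (.leaf 1247)) (.node (.leaf 0) (.leaf 1993))))) (.node (.node (.node (.node (.leaf 87) (.leaf 503)) (.node (.leaf 0) (.leaf 0))) (.node (.node (.leaf 0) (.leaf 0)) (.node (.leaf 0) (.leaf 0)))) (.node (.node (.node (.leaf 0) (.leaf 900)) (.node (.leaf 0) (.leaf 1635))) (.node (.node (.leaf 0) (.leaf 0)) (.node (.leaf 0) (.leaf 2093)))))) (.node (.node (.node (.node (.node (.leaf 58) (.leaf 0)) (.node (.leaf 0) (.leaf 0))) (.node (.node (.leaf 157) (.leaf 0)) (.node (.leaf 0) (.leaf 0)))) (.node (.node (.node (.leaf 0) (.leaf 826)) (.node (.leaf 0) (.leaf 0))) (.node (.node (.leaf 0) (.leaf 0)) (.node (.leaf 382) (.leaf 0))))) (.node (.node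 (.node (.node (.leaf 0) (.leaf 619)) (.node (.leaf 0) (.leaf 1445))) (.node (.node (.leaf 0) (.leaf 0)) (.node (.leaf 0) (.leaf 1933)))) (.node (.node (.node (.leaf 0) (.leaf 971)) (.node (.leaf 0) (.leaf 1709))) (.node (.node (.leaf 0) (.leaf 1340)) (.node (.leaf 0) (.leaf 0))))))
def dPos_18 : BT := .node (.node (.node (.node (.node (.node (.node (.leaf 23) (.leaf 2212)) (.leaf 0)) (.node (.leaf 243) (.leaf 0))) (.node (.node (.leaf 0) (.leaf 0)) (.node (.leaf 0) (.leaf 1751)))) (.node (.node (.node (.leaf 0) (.leaf 723)) (.node (.leaf 0) (.leaf 0))) (.node (.node (.leaf 0) (.leaf 0)) (.node (.leaf 0) (.leaf 0))))) (.node (.node (.node (.node (.leaf 79) (.leaf 495)) (.node (.leaf 0) (.leaf 1419))) (.node (.node (.leaf 0) (.leaf 0)) (.node (.leaf 0) (.leaf 1873)))) (.node (.node (.node (.leaf 0) (.leaf 893)) (.node (.leaf 0) (.leaf 1628))) (.node (.node (.leaf 0) (.leaf 0)) (.node (.leaf 0) (.leaf 0)))))) (.node (.node (.node (.node (.node (.leaf 0) (.leaf 0)) (.node (.leaf 0) (.leaf 0))) (.node (.node (.leaf 149) (.leaf 0)) (.node (.leaf 0) (.leaf 1817)))) (.node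 (.node (.node (.leaf 0) (.leaf 0)) (.node (.leaf 0) (.leaf 0))) (.node (.node (.leaf 0) (.leaf 0)) (.node (.leaf 0) (.leaf 0))))) (.node (.node (.node (.node (.leaf 0) (.leaf 611)) (.node (.leaf 0) (.leaf 0))) (.node (.node (.leaf 0) (.leaf 1201)) (.node (.leaf 0) (.leaf 0)))) (.node (.node (.node (.leaf 0) (.leaf 966)) (.node (.leaf 0) (.leaf 1701))) (.node (.node (.leaf 0) (.leaf 0)) (.node (.leaf 0) (.leaf 0))))))
def dPos_25 : BT := .node (.node (.node (.node (.node (.node (.node (.leaf 32) (.leaf 2228)) (.leaf 0)) (.node (.leaf 253) (.leaf 0))) (.node (.node (.leaf 0) (.leaf 1020)) (.node (.leaf 0) (.leaf 0)))) (.node (.node (.node (.leaf 0) (.leaf 0)) (.node (.leaf 0) (.leaf 0))) (.node (.node (.leaf 0) (.leaf 0)) (.node (.leaf 371) (.leaf 2000))))) (.node (.node (.node (.node (.leaf 0) (.leaf 511)) (.node (.leaf 260) (.leaf 0))) (.node (.node (.leaf 0) (.leaf 1154)) (.node (.leaf 0) (.leaf 0)))) (.node (.node (.node (.leaf 0) (.leaf 905)) (.node (.leaf 0) (.leaf 1642))) (.node (.node (.leaf 0) (.leaf 0)) (.node (.leaf 0) (.leaf 0)))))) (.node (.node (.node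 (.node (.node (.leaf 0) (.leaf 0)) (.node (.leaf 0) (.leaf 1398))) (.node (.node (.leaf 0) (.leaf 0)) (.node (.leaf 0) (.leaf 0)))) (.node (.node (.node (.leaf 0) (.leaf 831)) (.node (.leaf 0) (.leaf 0))) (.node (.node (.leaf 0) (.leaf 0)) (.node (.leaf 386) (.leaf 2048))))) (.node (.node (.node (.node (.leaf 0) (.leaf 627)) (.node (.leaf 0) (.leaf 0))) (.node (.node (.leaf 0) (.leaf 0)) (.node (.leaf 0) (.leaf 0)))) (.node (.node (.node (.leaf 113) (.leaf 975)) (.node (.leaf 0) (.leaf 0))) (.node (.node (.leaf 0) (.leaf 0)) (.node (.leaf 0) (.leaf 2133))))))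
def dPos_34 : BT := .node (.node (.node (.node (.node (.node (.node (.leaf 0) (.leaf 2208)) (.leaf 0)) (.node (.leaf 239) (.leaf 0))) (.node (.node (.leaf 0) (.leaf 1014)) (.node (.leaf 0) (.leaf 0)))) (.node (.node (.node (.leaf 0) (.leaf 719)) (.node (.leaf 0) (.leaf 1500))) (.node (.node (.leaf 0) (.leaf 1243)) (.node (.leaf 0) (.leaf 0))))) (.node (.node (.node (.node (.leaf 77) (.leaf 491)) (.node (.leaf 0) (.leaf 1418))) (.node (.node (.leaf 0) (.leaf 1144)) (.node (.leaf 0) (.leaf 1869)))) (.node (.node (.node (.leaf 0) (.leaf 0)) (.node (.leaf 0) (.leaf 1624))) (.node (.node (.leaf 0) (.leaf 1308)) (.node (.leaf 0) (.leaf 0)))))) (.node (.node (.node (.node (.node (.leaf 0) (.leaf 0)) (.node (.leaf 0) (.leaf 0))) (.node (.node (.leaf 145) (.leaf 1079)) (.node (.leaf 0) (.leaf 0)))) (.node (.node (.node (.leaf 0) (.leaf 0)) (.node (.leaf 0) (.leaf 1553))) (.node (.node (.leaf 0) (.leaf 0)) (.node (.leaf 0) (.leaf 2044))))) (.node (.node (.node (.node (.leaf 0) (.leaf 608)) (.node (.leaf 0) (.leaf 0))) (.node (.node (.leaf 0) (.leaf 1200)) (.node (.leaf 0)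 (.leaf 0)))) (.node (.node (.node (.leaf 0) (.leaf 0)) (.node (.leaf 0) (.leaf 0))) (.node (.node (.leaf 233) (.leaf 1337)) (.node (.leaf 0) (.leaf 0))))))
def dPos_41 : BT := .node (.node (.node (.node (.node (.node (.node (.leaf 0) (.leaf 2224)) (.leaf 0)) (.node (.leaf 249) (.leaf 0))) (.node (.node (.leaf 0) (.leaf 0)) (.node (.leaf 0) (.leaf 0)))) (.node (.node (.node (.leaf 0) (.leaf 733)) (.node (.leaf 0) (.leaf 0))) (.node (.node (.leaf 0) (.leaf 0)) (.node (.leaf 0) (.leaf 1997))))) (.node (.node (.node (.node (.leaf 88) (.leaf 507)) (.node (.leaf 0) (.leaf 0))) (.node (.node (.leaf 0) (.leaf 1152)) (.node (.leaf 0) (.leaf 1879)))) (.node (.node (.node (.leaf 0) (.leaf 902)) (.node (.leaf 0) (.leaf 1638))) (.node (.node (.leaf 0) (.leaf 0)) (.node (.leaf 0) (.leaf 0)))))) (.node (.node (.node (.node (.node (.leaf 0) (.leaf 0)) (.node (.leaf 0) (.leaf 0))) (.node (.node (.leaf 161) (.leaf 1088)) (.node (.leaf 0) (.leaf 0)))) (.node (.node (.node (.leaf 0) (.leaf 829)) (.node (.leaf 0) (.leaf 0))) (.node (.node (.leaf 0) (.leaf 0)) (.node (.leaf 0) (.leaf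 2046))))) (.node (.node (.node (.node (.leaf 0) (.leaf 623)) (.node (.leaf 0) (.leaf 0))) (.node (.node (.leaf 0) (.leaf 0)) (.node (.leaf 0) (.leaf 0)))) (.node (.node (.node (.leaf 0) (.leaf 0)) (.node (.leaf 0) (.leaf 0))) (.node (.node (.leaf 0) (.leaf 1341)) (.node (.leaf 0) (.leaf 0))))))
def dPos_49 : BT := .node (.node (.node (.node (.node (.node (.node (.leaf 27) (.leaf 2216)) (.leaf 0)) (.node (.leaf 247) (.leaf 0))) (.node (.node (.leaf 0) (.leaf 0)) (.node (.leaf 0) (.leaf 1755)))) (.node (.node (.node (.leaf 0) (.leaf 727)) (.node (.leaf 0) (.leaf 0))) (.node (.node (.leaf 0) (.leaf 0)) (.node (.leaf 0) (.leaf 0))))) (.node (.node (.node (.node (.leaf 83) (.leaf 499)) (.node (.leaf 0) (.leaf 0))) (.node (.node (.leaf 0) (.leaf 0)) (.node (.leaf 0) (.leaf 1876)))) (.node (.node (.node (.leaf 0) (.leaf 897)) (.node (.leaf 0) (.leaf 0))) (.node (.node (.leaf 0) (.leaf 0)) (.node (.leaf 0) (.leaf 0)))))) (.node (.node (.node (.node (.node (.leaf 54) (.leaf 0)) (.node (.leaf 0) (.leaf 0))) (.node (.node (.leaf 153) (.leaf 0)) (.node (.leaf 0) (.leaf 1821))))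 (.node (.node (.node (.leaf 0) (.leaf 0)) (.node (.leaf 0) (.leaf 0))) (.node (.node (.leaf 0) (.leaf 0)) (.node (.leaf 0) (.leaf 0))))) (.node (.node (.node (.node (.leaf 0) (.leaf 615)) (.node (.leaf 0) (.leaf 0))) (.node (.node (.leaf 0) (.leaf 1203)) (.node (.leaf 0) (.leaf 0)))) (.node (.node (.node (.leaf 0) (.leaf 0)) (.node (.leaf 0) (.leaf 1705))) (.node (.node (.leaf 0) (.leaf 0)) (.node (.leaf 0) (.leaf 2128))))))
def dPos_56 : BT := .node (.node (.node (.node (.node (.node (.node (.leaf 0) (.leaf 2232)) (.leaf 0)) (.node (.leaf 256) (.leaf 0))) (.node (.node (.leaf 0) (.leaf 0)) (.node (.leaf 0) (.leaf 0)))) (.node (.node (.node (.leaf 0) (.leaf 735)) (.node (.leaf 0) (.leaf 0))) (.node (.node (.leaf 0) (.leaf 1251)) (.node (.leaf 373) (.leaf 2002))))) (.node (.node (.node (.node (.leaf 91) (.leaf 515)) (.node (.leaf 264) (.leaf 0))) (.node (.node (.leaf 0) (.leaf 0)) (.node (.leaf 0) (.leaf 0)))) (.node (.node (.node (.leaf 0) (.leaf 907)) (.node (.leaf 0) (.leaf 1646))) (.node (.node (.leaf 0) (.leaf 0)) (.node (.leaf 0) (.leaf 0)))))) (.node (.node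 (.node (.node (.node (.leaf 0) (.leaf 0)) (.node (.leaf 0) (.leaf 0))) (.node (.node (.leaf 0) (.leaf 1090)) (.node (.leaf 0) (.leaf 0)))) (.node (.node (.node (.leaf 0) (.leaf 834)) (.node (.leaf 0) (.leaf 1555))) (.node (.node (.leaf 0) (.leaf 0)) (.node (.leaf 390) (.leaf 0))))) (.node (.node (.node (.node (.leaf 0) (.leaf 631)) (.node (.leaf 0) (.leaf 0))) (.node (.node (.leaf 0) (.leaf 1207)) (.node (.leaf 0) (.leaf 1942)))) (.node (.node (.node (.leaf 0) (.leaf 0)) (.node (.leaf 0) (.leaf 0))) (.node (.node (.leaf 0) (.leaf 0)) (.node (.leaf 0) (.leaf 2137))))))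
def dPos_66 : BT := .node (.node (.node (.node (.node (.node (.node (.leaf 20) (.leaf 2206)) (.leaf 0)) (.node (.leaf 0) (.leaf 0))) (.node (.node (.leaf 0) (.leaf 1012)) (.node (.leaf 0) (.leaf 0)))) (.node (.node (.node (.leaf 0) (.leaf 717)) (.node (.leaf 0) (.leaf 1499))) (.node (.node (.leaf 0) (.leaf 1242)) (.node (.leaf 0) (.leaf 1988))))) (.node (.node (.node (.node (.leaf 75) (.leaf 489)) (.node (.leaf 0) (.leaf 0))) (.node (.node (.leaf 0) (.leaf 1142)) (.node (.leaf 0) (.leaf 1868)))) (.node (.node (.node (.leaf 0) (.leaf 0)) (.node (.leaf 0) (.leaf 1622))) (.node (.node (.leaf 0) (.leaf 1306)) (.node (.leaf 0) (.leaf 0)))))) (.node (.node (.node (.node (.node (.leaf 0) (.leaf 0)) (.node (.leaf 0) (.leaf 0))) (.node (.node (.leaf 143) (.leaf 0)) (.node (.leaf 0) (.leaf 0)))) (.node (.node (.node (.leaf 0) (.leaf 817)) (.node (.leaf 0) (.leaf 0))) (.node (.node (.leaf 0) (.leaf 0)) (.node (.leaf 0) (.leaf 0))))) (.node (.node (.node (.node (.leaf 0) (.leaf 606)) (.node (.leaf 294) (.leaf 0))) (.node (.node (.leaf 211) (.leaf 0)) (.node (.leaf 0) (.leaf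 0)))) (.node (.node (.node (.leaf 0) (.leaf 0)) (.node (.leaf 0) (.leaf 1696))) (.node (.node (.leaf 232) (.leaf 0)) (.node (.leaf 0) (.leaf 2124))))))
def dPos_73 : BT := .node (.node (.node (.node (.node (.node (.node (.leaf 0) (.leaf 2222)) (.leaf 0)) (.node (.leaf 0) (.leaf 0))) (.node (.node (.leaf 0) (.leaf 1017)) (.node (.leaf 0) (.leaf 1761)))) (.node (.node (.node (.leaf 0) (.leaf 731)) (.node (.leaf 0) (.leaf 0))) (.node (.node (.leaf 0) (.leaf 0)) (.node (.leaf 0) (.leaf 1995))))) (.node (.node (.node (.node (.leaf 0) (.leaf 505)) (.node (.leaf 0) (.leaf 1424))) (.node (.node (.leaf 0) (.leaf 0)) (.node (.leaf 0) (.leaf 0)))) (.node (.node (.node (.leaf 0) (.leaf 0)) (.node (.leaf 0) (.leaf 1636))) (.node (.node (.leaf 0) (.leaf 0)) (.node (.leaf 0) (.leaf 0)))))) (.node (.node (.node (.node (.node (.leaf 0) (.leaf 0)) (.node (.leaf 0) (.leaf 0))) (.node (.node (.leaf 159) (.leaf 1086)) (.node (.leaf 0) (.leaf 1823)))) (.node (.node (.node (.leaf 0) (.leaf 827)) (.node (.leaf 0) (.leaf 0))) (.node (.node (.leaf 0) (.leaf 0)) (.node (.leaf 0) (.leaf 0)))))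 (.node (.node (.node (.node (.leaf 0) (.leaf 621)) (.node (.leaf 0) (.leaf 1447))) (.node (.node (.leaf 0) (.leaf 0)) (.node (.leaf 0) (.leaf 0)))) (.node (.node (.node (.leaf 0) (.leaf 973)) (.node (.leaf 0) (.leaf 0))) (.node (.node (.leaf 0) (.leaf 0)) (.node (.leaf 0) (.leaf 0))))))
def dPos_81 : BT := .node (.node (.node (.node (.node (.node (.node (.leaf 25) (.leaf 2214)) (.leaf 0)) (.node (.leaf 245) (.leaf 0))) (.node (.node (.leaf 0) (.leaf 0)) (.node (.leaf 0) (.leaf 1753)))) (.node (.node (.node (.leaf 0) (.leaf 725)) (.node (.leaf 0) (.leaf 1501))) (.node (.node (.leaf 0) (.leaf 0)) (.node (.leaf 0) (.leaf 0))))) (.node (.node (.node (.node (.leaf 81) (.leaf 497)) (.node (.leaf 0) (.leaf 0))) (.node (.node (.leaf 0) (.leaf 0)) (.node (.leaf 0) (.leaf 0)))) (.node (.node (.node (.leaf 0) (.leaf 895)) (.node (.leaf 0) (.leaf 1630))) (.node (.node (.leaf 0) (.leaf 1311)) (.node (.leaf 0) (.leaf 0)))))) (.node (.node (.node (.node (.node (.leaf 52) (.leaf 0)) (.node (.leaf 0) (.leaf 0))) (.node (.node (.leaf 151) (.leaf 1082)) (.node (.leaf 0) (.leaf 1819))))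 (.node (.node (.node (.leaf 0) (.leaf 822)) (.node (.leaf 0) (.leaf 0))) (.node (.node (.leaf 0) (.leaf 0)) (.node (.leaf 0) (.leaf 0))))) (.node (.node (.node (.node (.leaf 0) (.leaf 613)) (.node (.leaf 0) (.leaf 0))) (.node (.node (.leaf 0) (.leaf 1202)) (.node (.leaf 0) (.leaf 0)))) (.node (.node (.node (.leaf 0) (.leaf 968)) (.node (.leaf 0) (.leaf 1703))) (.node (.node (.leaf 234) (.leaf 0)) (.node (.leaf 0) (.leaf 2126))))))
def dPos_88 : BT := .node (.node (.node (.node (.node (.node (.node (.leaf 0) (.leaf 2230)) (.leaf 0)) (.node (.leaf 255) (.leaf 0))) (.node (.node (.leaf 0) (.leaf 0)) (.node (.leaf 0) (.leaf 1763)))) (.node (.node (.node (.leaf 0) (.leaf 0)) (.node (.leaf 0) (.leaf 0))) (.node (.node (.leaf 0) (.leaf 1250)) (.node (.leaf 0) (.leaf 2001))))) (.node (.node (.node (.node (.leaf 90) (.leaf 513)) (.node (.leaf 262) (.leaf 0))) (.node (.node (.leaf 0) (.leaf 1155)) (.node (.leaf 0) (.leaf 0)))) (.node (.node (.node (.leaf 0) (.leaf 0)) (.node (.leaf 0) (.leaf 1644))) (.node (.node (.leaf 0) (.leaf 0)) (.node (.leaf 0) (.leaf 0)))))) (.node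 (.node (.node (.node (.node (.leaf 0) (.leaf 0)) (.node (.leaf 0) (.leaf 1399))) (.node (.node (.leaf 0) (.leaf 1089)) (.node (.leaf 0) (.leaf 0)))) (.node (.node (.node (.leaf 0) (.leaf 833)) (.node (.leaf 0) (.leaf 0))) (.node (.node (.leaf 0) (.leaf 1282)) (.node (.leaf 388) (.leaf 2050))))) (.node (.node (.node (.node (.leaf 0) (.leaf 629)) (.node (.leaf 0) (.leaf 0))) (.node (.node (.leaf 0) (.leaf 0)) (.node (.leaf 0) (.leaf 1940)))) (.node (.node (.node (.leaf 0) (.leaf 976)) (.node (.leaf 0) (.leaf 0))) (.node (.node (.leaf 0) (.leaf 0)) (.node (.leaf 0) (.leaf 2135))))))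
def dPos_97 : BT := .node (.node (.node (.node (.node (.node (.node (.leaf 21) (.leaf 2210)) (.leaf 0)) (.node (.leaf 241) (.leaf 0))) (.node (.node (.leaf 0) (.leaf 0)) (.node (.leaf 0) (.leaf 1749)))) (.node (.node (.node (.leaf 0) (.leaf 721)) (.node (.leaf 0) (.leaf 0))) (.node (.node (.leaf 0) (.leaf 0)) (.node (.leaf 0) (.leaf 0))))) (.node (.node (.node (.node (.leaf 78) (.leaf 493)) (.node (.leaf 0) (.leaf 0))) (.node (.node (.leaf 0) (.leaf 1146)) (.node (.leaf 0) (.leaf 1871)))) (.node (.node (.node (.leaf 0) (.leaf 892)) (.node (.leaf 0) (.leaf 1626))) (.node (.node (.leaf 0) (.leaf 0)) (.node (.leaf 0) (.leaf 0)))))) (.node (.node (.node (.node (.node (.leaf 0) (.leaf 0)) (.node (.leaf 0) (.leaf 0))) (.node (.node (.leaf 147) (.leaf 0)) (.node (.leaf 0) (.leaf 0)))) (.node (.node (.node (.leaf 0) (.leaf 819)) (.node (.leaf 0) (.leaf 0))) (.node (.node (.leaf 0) (.leaf 0)) (.node (.leaf 0) (.leaf 0))))) (.node (.node (.node (.node (.leaf 0) (.leaf 609)) (.node (.leaf 297) (.leaf 0))) (.node (.node (.leaf 0) (.leaf 0)) (.node (.leaf 0) (.leaf 0)))) (.node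 (.node (.node (.leaf 0) (.leaf 965)) (.node (.leaf 0) (.leaf 1699))) (.node (.node (.leaf 0) (.leaf 0)) (.node (.leaf 0) (.leaf 0))))))
def dPos_104 : BT := .node (.node (.node (.node (.node (.node (.node (.leaf 30) (.leaf 2226)) (.leaf 0)) (.node (.leaf 251) (.leaf 0))) (.node (.node (.leaf 0) (.leaf 0)) (.node (.leaf 0) (.leaf 0)))) (.node (.node (.node (.leaf 0) (.leaf 0)) (.node (.leaf 0) (.leaf 0))) (.node (.node (.leaf 0) (.leaf 0)) (.node (.leaf 0) (.leaf 1998))))) (.node (.node (.node (.node (.leaf 89) (.leaf 509)) (.node (.leaf 0) (.leaf 0))) (.node (.node (.leaf 0) (.leaf 0)) (.node (.leaf 0) (.leaf 1881)))) (.node (.node (.node (.leaf 0) (.leaf 903)) (.node (.leaf 0) (.leaf 1640))) (.node (.node (.leaf 0) (.leaf 1314)) (.node (.leaf 0) (.leaf 0)))))) (.node (.node (.node (.node (.node (.leaf 0) (.leaf 0)) (.node (.leaf 0) (.leaf 0))) (.node (.node (.leaf 0) (.leaf 0)) (.node (.leaf 0) (.leaf 0)))) (.node (.node (.node (.leaf 0) (.leaf 830)) (.node (.leaf 0) (.leaf 0))) (.node (.node (.leaf 0) (.leaf 0)) (.node (.leaf 384) (.leaf 0))))) (.node (.node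 (.node (.node (.leaf 0) (.leaf 625)) (.node (.leaf 0) (.leaf 0))) (.node (.node (.leaf 0) (.leaf 0)) (.node (.leaf 0) (.leaf 1937)))) (.node (.node (.node (.leaf 111) (.leaf 0)) (.node (.leaf 0) (.leaf 0))) (.node (.node (.leaf 236) (.leaf 1342)) (.node (.leaf 0) (.leaf 0))))))
def dPos_112 : BT := .node (.node (.node (.node (.node (.node (.node (.leaf 28) (.leaf 2218)) (.leaf 0)) (.node (.leaf 0) (.leaf 1366))) (.node (.node (.leaf 0) (.leaf 1016)) (.node (.leaf 0) (.leaf 1757)))) (.node (.node (.node (.leaf 0) (.leaf 729)) (.node (.leaf 0) (.leaf 0))) (.node (.node (.leaf 0) (.leaf 1246)) (.node (.leaf 0) (.leaf 1991))))) (.node (.node (.node (.node (.leaf 85) (.leaf 501)) (.node (.leaf 0) (.leaf 1421))) (.node (.node (.leaf 0) (.leaf 1150)) (.node (.leaf 0) (.leaf 0)))) (.node (.node (.node (.leaf 0) (.leaf 0)) (.node (.leaf 0) (.leaf 1633))) (.node (.node (.leaf 0) (.leaf 0)) (.node (.leaf 0) (.leaf 0)))))) (.node (.node (.node (.node (.node (.leaf 56) (.leaf 0)) (.node (.leaf 0) (.leaf 0))) (.node (.node (.leaf 155) (.leaf 1085)) (.node (.leaf 0) (.leaf 1822))))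 (.node (.node (.node (.leaf 102) (.leaf 824)) (.node (.leaf 0) (.leaf 0))) (.node (.node (.leaf 0) (.leaf 1280)) (.node (.leaf 0) (.leaf 0))))) (.node (.node (.node (.node (.leaf 0) (.leaf 617)) (.node (.leaf 0) (.leaf 0))) (.node (.node (.leaf 0) (.leaf 0)) (.node (.leaf 0) (.leaf 1932)))) (.node (.node (.node (.leaf 0) (.leaf 0)) (.node (.leaf 0) (.leaf 1707))) (.node (.node (.leaf 0) (.leaf 0)) (.node (.leaf 0) (.leaf 2130))))))
def dPos_119 : BT := .node (.node (.node (.node (.node (.node (.node (.leaf 35) (.leaf 2234)) (.leaf 0)) (.node (.leaf 0) (.leaf 1369))) (.node (.node (.leaf 0) (.leaf 0)) (.node (.leaf 0) (.leaf 1764)))) (.node (.node (.node (.leaf 0) (.leaf 737)) (.node (.leaf 0) (.leaf 0))) (.node (.node (.leaf 0) (.leaf 0)) (.node (.leaf 0) (.leaf 0))))) (.node (.node (.node (.node (.leaf 0) (.leaf 517)) (.node (.leaf 0) (.leaf 0))) (.node (.node (.leaf 0) (.leaf 1157)) (.node (.leaf 0) (.leaf 1884)))) (.node (.node (.node (.leaf 0) (.leaf 0)) (.node (.leaf 0) (.leaf 1648))) (.node (.node (.leaf 0) (.leaf 0)) (.node (.leaf 0) (.leaf 0)))))) (.node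 (.node (.node (.node (.node (.leaf 0) (.leaf 0)) (.node (.leaf 0) (.leaf 1400))) (.node (.node (.leaf 0) (.leaf 1091)) (.node (.leaf 0) (.leaf 0)))) (.node (.node (.node (.leaf 0) (.leaf 0)) (.node (.leaf 0) (.leaf 1557))) (.node (.node (.leaf 0) (.leaf 0)) (.node (.leaf 392) (.leaf 2052))))) (.node (.node (.node (.node (.leaf 0) (.leaf 633)) (.node (.leaf 0) (.leaf 0))) (.node (.node (.leaf 0) (.leaf 0)) (.node (.leaf 0) (.leaf 0)))) (.node (.node (.node (.leaf 114) (.leaf 0)) (.node (.leaf 0) (.leaf 0))) (.node (.node (.leaf 0) (.leaf 0)) (.node (.leaf 0) (.leaf 2139))))))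
def dPos_130 : BT := .node (.node (.node (.node (.node (.node (.node (.leaf 19) (.leaf 2205)) (.leaf 0)) (.node (.leaf 0) (.leaf 0))) (.node (.node (.leaf 0) (.leaf 1011)) (.node (.leaf 0) (.leaf 0)))) (.node (.node (.node (.leaf 0) (.leaf 716)) (.node (.leaf 0) (.leaf 1498))) (.node (.node (.leaf 0) (.leaf 1241)) (.node (.leaf 0) (.leaf 1987))))) (.node (.node (.node (.node (.leaf 0) (.leaf 488)) (.node (.leaf 0) (.leaf 0))) (.node (.node (.leaf 0) (.leaf 1141)) (.node (.leaf 0) (.leaf 1867)))) (.node (.node (.node (.leaf 0) (.leaf 889)) (.node (.leaf 0) (.leaf 1621))) (.node (.node (.leaf 0) (.leaf 0)) (.node (.leaf 0) (.leaf 0)))))) (.node (.node (.node (.node (.node (.leaf 0) (.leaf 0)) (.node (.leaf 0) (.leaf 0))) (.node (.node (.leaf 142) (.leaf 0)) (.node (.leaf 0) (.leaf 0)))) (.node (.node (.node (.leaf 0) (.leaf 816)) (.node (.leaf 0) (.leaf 1552))) (.node (.node (.leaf 0) (.leaf 0)) (.node (.leaf 0) (.leaf 0))))) (.node (.node (.node (.node (.leaf 0) (.leaf 605)) (.node (.leaf 293) (.leaf 1444))) (.node (.node (.leaf 0) (.leaf 1199)) (.node (.leaf 0)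 (.leaf 0)))) (.node (.node (.node (.leaf 0) (.leaf 0)) (.node (.leaf 0) (.leaf 0))) (.node (.node (.leaf 0) (.leaf 1336)) (.node (.leaf 0) (.leaf 2123))))))
def dPos_137 : BT := .node (.node (.node (.node (.node (.node (.node (.leaf 29) (.leaf 2221)) (.leaf 0)) (.node (.leaf 0) (.leaf 0))) (.node (.node (.leaf 0) (.leaf 0)) (.node (.leaf 0) (.leaf 1760)))) (.node (.node (.node (.leaf 0) (.leaf 0)) (.node (.leaf 0) (.leaf 0))) (.node (.node (.leaf 0) (.leaf 0)) (.node (.leaf 0) (.leaf 1994))))) (.node (.node (.node (.node (.leaf 0) (.leaf 504)) (.node (.leaf 0) (.leaf 1423))) (.node (.node (.leaf 0) (.leaf 0)) (.node (.leaf 0) (.leaf 0)))) (.node (.node (.node (.leaf 0) (.leaf 901)) (.node (.leaf 0) (.leaf 0))) (.node (.node (.leaf 0) (.leaf 0)) (.node (.leaf 0) (.leaf 0)))))) (.node (.node (.node (.node (.node (.leaf 0) (.leaf 0)) (.node (.leaf 0) (.leaf 0))) (.node (.node (.leaf 158) (.leaf 0)) (.node (.leaf 0) (.leaf 0)))) (.node (.node (.node (.leaf 0) (.leaf 0)) (.node (.leaf 0) (.leaf 0))) (.node (.node (.leaf 0) (.leaf 0)) (.node (.leaf 383) (.leaf 0)))))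 (.node (.node (.node (.node (.leaf 0) (.leaf 620)) (.node (.leaf 0) (.leaf 1446))) (.node (.node (.leaf 0) (.leaf 1206)) (.node (.leaf 0) (.leaf 1934)))) (.node (.node (.node (.leaf 0) (.leaf 972)) (.node (.leaf 0) (.leaf 0))) (.node (.node (.leaf 0) (.leaf 0)) (.node (.leaf 0) (.leaf 0))))))
def dPos_145 : BT := .node (.node (.node (.node (.node (.node (.node (.leaf 24) (.leaf 2213)) (.leaf 0)) (.node (.leaf 244) (.leaf 0))) (.node (.node (.leaf 0) (.leaf 0)) (.node (.leaf 0) (.leaf 1752)))) (.node (.node (.node (.leaf 0) (.leaf 724)) (.node (.leaf 0) (.leaf 0))) (.node (.node (.leaf 0) (.leaf 1244)) (.node (.leaf 0) (.leaf 0))))) (.node (.node (.node (.node (.leaf 80) (.leaf 496)) (.node (.leaf 0) (.leaf 1420))) (.node (.node (.leaf 0) (.leaf 1148)) (.node (.leaf 0) (.leaf 1874)))) (.node (.node (.node (.leaf 0) (.leaf 894)) (.node (.leaf 0) (.leaf 1629))) (.node (.node (.leaf 0) (.leaf 0)) (.node (.leaf 0) (.leaf 2090)))))) (.node (.node (.node (.node (.node (.leaf 51) (.leaf 0)) (.node (.leaf 0) (.leaf 0))) (.node (.node (.leaf 150) (.leaf 1081)) (.node (.leaf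 0) (.leaf 1818)))) (.node (.node (.node (.leaf 0) (.leaf 821)) (.node (.leaf 0) (.leaf 0))) (.node (.node (.leaf 0) (.leaf 1278)) (.node (.leaf 0) (.leaf 0))))) (.node (.node (.node (.node (.leaf 0) (.leaf 612)) (.node (.leaf 0) (.leaf 0))) (.node (.node (.leaf 0) (.leaf 0)) (.node (.leaf 0) (.leaf 0)))) (.node (.node (.node (.leaf 0) (.leaf 967)) (.node (.leaf 0) (.leaf 1702))) (.node (.node (.leaf 0) (.leaf 0)) (.node (.leaf 0) (.leaf 0))))))
def dPos_152 : BT := .node (.node (.node (.node (.node (.node (.node (.leaf 33) (.leaf 2229)) (.leaf 0)) (.node (.leaf 254) (.leaf 0))) (.node (.node (.leaf 0) (.leaf 1021)) (.node (.leaf 0) (.leaf 1762)))) (.node (.node (.node (.leaf 0) (.leaf 0)) (.node (.leaf 0) (.leaf 0))) (.node (.node (.leaf 0) (.leaf 0)) (.node (.leaf 372) (.leaf 0))))) (.node (.node (.node (.node (.leaf 0) (.leaf 512)) (.node (.leaf 261) (.leaf 0))) (.node (.node (.leaf 0) (.leaf 0)) (.node (.leaf 0) (.leaf 0)))) (.node (.node (.node (.leaf 0) (.leaf 0)) (.node (.leaf 0) (.leaf 1643))) (.node (.node (.leaf 0) (.leaf 0)) (.node (.leaf 0) (.leaf 0))))))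 (.node (.node (.node (.node (.node (.leaf 0) (.leaf 0)) (.node (.leaf 0) (.leaf 0))) (.node (.node (.leaf 0) (.leaf 0)) (.node (.leaf 0) (.leaf 0)))) (.node (.node (.node (.leaf 0) (.leaf 832)) (.node (.leaf 0) (.leaf 0))) (.node (.node (.leaf 0) (.leaf 0)) (.node (.leaf 387) (.leaf 2049))))) (.node (.node (.node (.node (.leaf 0) (.leaf 628)) (.node (.leaf 0) (.leaf 0))) (.node (.node (.leaf 0) (.leaf 0)) (.node (.leaf 0) (.leaf 1939)))) (.node (.node (.node (.leaf 0) (.leaf 0)) (.node (.leaf 0) (.leaf 0))) (.node (.node (.leaf 0) (.leaf 0)) (.node (.leaf 0) (.leaf 2134))))))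
def dPos_161 : BT := .node (.node (.node (.node (.node (.node (.node (.leaf 0) (.leaf 2209)) (.leaf 0)) (.node (.leaf 240) (.leaf 0))) (.node (.node (.leaf 0) (.leaf 1015)) (.node (.leaf 0) (.leaf 1748)))) (.node (.node (.node (.leaf 0) (.leaf 720)) (.node (.leaf 0) (.leaf 0))) (.node (.node (.leaf 0) (.leaf 0)) (.node (.leaf 0) (.leaf 0))))) (.node (.node (.node (.node (.leaf 0) (.leaf 492)) (.node (.leaf 0) (.leaf 0))) (.node (.node (.leaf 0) (.leaf 1145)) (.node (.leaf 0) (.leaf 1870)))) (.node (.node (.node (.leaf 0) (.leaf 891)) (.node (.leaf 0) (.leaf 1625))) (.node (.node (.leaf 0) (.leaf 1309)) (.node (.leaf 0) (.leaf 0)))))) (.node (.node (.node (.node (.node (.leaf 49) (.leaf 0)) (.node (.leaf 0) (.leaf 0))) (.node (.node (.leaf 146) (.leaf 0)) (.node (.leaf 0) (.leaf 0)))) (.node (.node (.node (.leaf 0) (.leaf 0)) (.node (.leaf 0) (.leaf 0))) (.node (.node (.leaf 0) (.leaf 0)) (.node (.leaf 0) (.leaf 0))))) (.node (.node (.node (.node (.leaf 0) (.leaf 0)) (.node (.leaf 296) (.leaf 0))) (.node (.node (.leaf 0) (.leaf 0)) (.node (.leaf 0) (.leaf 0))))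 (.node (.node (.node (.leaf 0) (.leaf 0)) (.node (.leaf 0) (.leaf 1698))) (.node (.node (.leaf 0) (.leaf 1338)) (.node (.leaf 0) (.leaf 0))))))
def dPos_168 : BT := .node (.node (.node (.node (.node (.node (.node (.leaf 0) (.leaf 2225)) (.leaf 0)) (.node (.leaf 250) (.leaf 0))) (.node (.node (.leaf 120) (.leaf 1019)) (.node (.leaf 0) (.leaf 0)))) (.node (.node (.node (.leaf 0) (.leaf 734)) (.node (.leaf 0) (.leaf 0))) (.node (.node (.leaf 0) (.leaf 1248)) (.node (.leaf 0) (.leaf 0))))) (.node (.node (.node (.node (.leaf 0) (.leaf 508)) (.node (.leaf 0) (.leaf 0))) (.node (.node (.leaf 0) (.leaf 0)) (.node (.leaf 0) (.leaf 1880)))) (.node (.node (.node (.leaf 0) (.leaf 0)) (.node (.leaf 0) (.leaf 1639))) (.node (.node (.leaf 0) (.leaf 0)) (.node (.leaf 0) (.leaf 0)))))) (.node (.node (.node (.node (.node (.leaf 59) (.leaf 0)) (.node (.leaf 258) (.leaf 1396))) (.node (.node (.leaf 0) (.leaf 0)) (.node (.leaf 0) (.leaf 0)))) (.node (.node (.node (.leaf 104) (.leaf 0)) (.node (.leaf 0) (.leaf 0))) (.node (.node (.leaf 0) (.leaf 0)) (.node (.leaf 0) (.leaf 0))))) (.node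 (.node (.node (.node (.leaf 0) (.leaf 624)) (.node (.leaf 0) (.leaf 0))) (.node (.node (.leaf 0) (.leaf 0)) (.node (.leaf 0) (.leaf 1936)))) (.node (.node (.node (.leaf 0) (.leaf 0)) (.node (.leaf 0) (.leaf 0))) (.node (.node (.leaf 0) (.leaf 0)) (.node (.leaf 0) (.leaf 0))))))
def dPos_176 : BT := .node (.node (.node (.node (.node (.node (.node (.leaf 0) (.leaf 2217)) (.leaf 0)) (.node (.leaf 248) (.leaf 0))) (.node (.node (.leaf 0) (.leaf 0)) (.node (.leaf 0) (.leaf 1756)))) (.node (.node (.node (.leaf 0) (.leaf 728)) (.node (.leaf 0) (.leaf 1502))) (.node (.node (.leaf 0) (.leaf 1245)) (.node (.leaf 0) (.leaf 1990))))) (.node (.node (.node (.node (.leaf 84) (.leaf 500)) (.node (.leaf 0) (.leaf 0))) (.node (.node (.leaf 0) (.leaf 0)) (.node (.leaf 0) (.leaf 1877)))) (.node (.node (.node (.leaf 0) (.leaf 898)) (.node (.leaf 0) (.leaf 1632))) (.node (.node (.leaf 0) (.leaf 0)) (.node (.leaf 0) (.leaf 2091)))))) (.node (.node (.node (.node (.node (.leaf 55) (.leaf 0)) (.node (.leaf 0) (.leaf 0))) (.node (.node (.leaf 154) (.leaf 1084)) (.node (.leaf 0) (.leaf 0))))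 (.node (.node (.node (.leaf 0) (.leaf 0)) (.node (.leaf 0) (.leaf 0))) (.node (.node (.leaf 0) (.leaf 0)) (.node (.leaf 0) (.leaf 0))))) (.node (.node (.node (.node (.leaf 0) (.leaf 616)) (.node (.leaf 0) (.leaf 0))) (.node (.node (.leaf 0) (.leaf 1204)) (.node (.leaf 0) (.leaf 0)))) (.node (.node (.node (.leaf 0) (.leaf 0)) (.node (.leaf 0) (.leaf 1706))) (.node (.node (.leaf 235) (.leaf 0)) (.node (.leaf 0) (.leaf 2129))))))
def dPos_183 : BT := .node (.node (.node (.node (.node (.node (.node (.leaf 34) (.leaf 2233)) (.leaf 0)) (.node (.leaf 257) (.leaf 0))) (.node (.node (.leaf 0) (.leaf 1022)) (.node (.leaf 0) (.leaf 0)))) (.node (.node (.node (.leaf 0) (.leaf 736)) (.node (.leaf 0) (.leaf 0))) (.node (.node (.leaf 0) (.leaf 1252)) (.node (.leaf 0) (.leaf 2003))))) (.node (.node (.node (.node (.leaf 0) (.leaf 516)) (.node (.leaf 0) (.leaf 0))) (.node (.node (.leaf 0) (.leaf 1156)) (.node (.leaf 0) (.leaf 1883)))) (.node (.node (.node (.leaf 0) (.leaf 908)) (.node (.leaf 0) (.leaf 1647))) (.node (.node (.leaf 0) (.leaf 1315)) (.node (.leaf 0) (.leaf 0))))))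 (.node (.node (.node (.node (.node (.leaf 62) (.leaf 0)) (.node (.leaf 0) (.leaf 0))) (.node (.node (.leaf 162) (.leaf 0)) (.node (.leaf 0) (.leaf 0)))) (.node (.node (.node (.leaf 0) (.leaf 835)) (.node (.leaf 0) (.leaf 1556))) (.node (.node (.leaf 0) (.leaf 0)) (.node (.leaf 391) (.leaf 0))))) (.node (.node (.node (.node (.leaf 0) (.leaf 632)) (.node (.leaf 0) (.leaf 0))) (.node (.node (.leaf 0) (.leaf 0)) (.node (.leaf 0) (.leaf 1943)))) (.node (.node (.node (.leaf 0) (.leaf 0)) (.node (.leaf 0) (.leaf 1710))) (.node (.node (.leaf 0) (.leaf 0)) (.node (.leaf 0) (.leaf 2138))))))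
def dPos_193 : BT := .node (.node (.node (.node (.node (.node (.node (.leaf 0) (.leaf 2207)) (.leaf 0)) (.node (.leaf 0) (.leaf 0))) (.node (.node (.leaf 0) (.leaf 1013)) (.node (.leaf 0) (.leaf 0)))) (.node (.node (.node (.leaf 0) (.leaf 718)) (.node (.leaf 0) (.leaf 0))) (.node (.node (.leaf 0) (.leaf 0)) (.node (.leaf 0) (.leaf 0))))) (.node (.node (.node (.node (.leaf 76) (.leaf 490)) (.node (.leaf 0) (.leaf 0))) (.node (.node (.leaf 0) (.leaf 1143)) (.node (.leaf 0) (.leaf 0)))) (.node (.node (.node (.leaf 0) (.leaf 890)) (.node (.leaf 0) (.leaf 1623))) (.node (.node (.leaf 0) (.leaf 1307)) (.node (.leaf 0) (.leaf 2088)))))) (.node (.node (.node (.node (.node (.leaf 0) (.leaf 0)) (.node (.leaf 0) (.leaf 0))) (.node (.node (.leaf 144) (.leaf 1078)) (.node (.leaf 0) (.leaf 0)))) (.node (.node (.node (.leaf 0) (.leaf 818)) (.node (.leaf 0) (.leaf 0))) (.node (.node (.leaf 0) (.leaf 0)) (.node (.leaf 0) (.leaf 2043))))) (.node (.node (.node (.node (.leaf 0) (.leaf 607)) (.node (.leaf 295) (.leaf 0))) (.node (.node (.leaf 0) (.leaf 0)) (.node (.leaf 0) (.leaf 1931))))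 (.node (.node (.node (.leaf 0) (.leaf 0)) (.node (.leaf 0) (.leaf 1697))) (.node (.node (.leaf 0) (.leaf 0)) (.node (.leaf 0) (.leaf 2125))))))
def dPos_200 : BT := .node (.node (.node (.node (.node (.node (.node (.leaf 0) (.leaf 2223)) (.leaf 0)) (.node (.leaf 0) (.leaf 1368))) (.node (.node (.leaf 0) (.leaf 1018)) (.node (.leaf 0) (.leaf 0)))) (.node (.node (.node (.leaf 0) (.leaf 732)) (.node (.leaf 0) (.leaf 0))) (.node (.node (.leaf 0) (.leaf 0)) (.node (.leaf 0) (.leaf 1996))))) (.node (.node (.node (.node (.leaf 0) (.leaf 506)) (.node (.leaf 0) (.leaf 0))) (.node (.node (.leaf 0) (.leaf 1151)) (.node (.leaf 0) (.leaf 0)))) (.node (.node (.node (.leaf 0) (.leaf 0)) (.node (.leaf 0) (.leaf 1637))) (.node (.node (.leaf 0) (.leaf 1313)) (.node (.leaf 0) (.leaf 0)))))) (.node (.node (.node (.node (.node (.leaf 0) (.leaf 0)) (.node (.leaf 0) (.leaf 0))) (.node (.node (.leaf 160) (.leaf 1087)) (.node (.leaf 0) (.leaf 1824)))) (.node (.node (.node (.leaf 0) (.leaf 828)) (.node (.leaf 0) (.leaf 0))) (.node (.node (.leaf 0) (.leaf 0)) (.node (.leaf 0) (.leaf 2045)))))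 (.node (.node (.node (.node (.leaf 0) (.leaf 622)) (.node (.leaf 0) (.leaf 0))) (.node (.node (.leaf 0) (.leaf 0)) (.node (.leaf 0) (.leaf 1935)))) (.node (.node (.node (.leaf 0) (.leaf 0)) (.node (.leaf 0) (.leaf 0))) (.node (.node (.leaf 0) (.leaf 0)) (.node (.leaf 0) (.leaf 2131))))))
def dPos_208 : BT := .node (.node (.node (.node (.node (.node (.node (.leaf 26) (.leaf 2215)) (.leaf 0)) (.node (.leaf 246) (.leaf 0))) (.node (.node (.leaf 0) (.leaf 0)) (.node (.leaf 0) (.leaf 1754)))) (.node (.node (.node (.leaf 0) (.leaf 726)) (.node (.leaf 0) (.leaf 0))) (.node (.node (.leaf 0) (.leaf 0)) (.node (.leaf 0) (.leaf 1989))))) (.node (.node (.node (.node (.leaf 82) (.leaf 498)) (.node (.leaf 0) (.leaf 0))) (.node (.node (.leaf 0) (.leaf 1149)) (.node (.leaf 0) (.leaf 1875)))) (.node (.node (.node (.leaf 109) (.leaf 896)) (.node (.leaf 0) (.leaf 1631))) (.node (.node (.leaf 0) (.leaf 0)) (.node (.leaf 0) (.leaf 0)))))) (.node (.node (.node (.node (.node (.leaf 53) (.leaf 0)) (.node (.leaf 0) (.leaf 0))) (.node (.node (.leaf 152) (.leaf 1083)) (.node (.leaf 0) (.leaf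 1820)))) (.node (.node (.node (.leaf 0) (.leaf 823)) (.node (.leaf 0) (.leaf 0))) (.node (.node (.leaf 0) (.leaf 1279)) (.node (.leaf 0) (.leaf 0))))) (.node (.node (.node (.node (.leaf 0) (.leaf 614)) (.node (.leaf 0) (.leaf 0))) (.node (.node (.leaf 0) (.leaf 0)) (.node (.leaf 0) (.leaf 0)))) (.node (.node (.node (.leaf 0) (.leaf 969)) (.node (.leaf 0) (.leaf 1704))) (.node (.node (.leaf 0) (.leaf 0)) (.node (.leaf 0) (.leaf 2127))))))
def dPos_215 : BT := .node (.node (.node (.node (.node (.node (.node (.leaf 0) (.leaf 2231)) (.leaf 0)) (.node (.leaf 0) (.leaf 0))) (.node (.node (.leaf 0) (.leaf 0)) (.node (.leaf 0) (.leaf 0)))) (.node (.node (.node (.leaf 0) (.leaf 0)) (.node (.leaf 0) (.leaf 0))) (.node (.node (.leaf 0) (.leaf 0)) (.node (.leaf 0) (.leaf 0))))) (.node (.node (.node (.node (.leaf 0) (.leaf 514)) (.node (.leaf 263) (.leaf 0))) (.node (.node (.leaf 0) (.leaf 0)) (.node (.leaf 0) (.leaf 0)))) (.node (.node (.node (.leaf 0) (.leaf 906)) (.node (.leaf 0) (.leaf 1645))) (.node (.node (.leaf 0) (.leaf 0)) (.node (.leaf 0) (.leaf 0)))))) (.node (.node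 (.node (.node (.node (.leaf 61) (.leaf 0)) (.node (.leaf 0) (.leaf 0))) (.node (.node (.leaf 0) (.leaf 0)) (.node (.leaf 0) (.leaf 0)))) (.node (.node (.node (.leaf 0) (.leaf 0)) (.node (.leaf 0) (.leaf 1554))) (.node (.node (.leaf 0) (.leaf 0)) (.node (.leaf 389) (.leaf 2051))))) (.node (.node (.node (.node (.leaf 0) (.leaf 630)) (.node (.leaf 0) (.leaf 1448))) (.node (.node (.leaf 0) (.leaf 0)) (.node (.leaf 0) (.leaf 1941)))) (.node (.node (.node (.leaf 0) (.leaf 977)) (.node (.leaf 0) (.leaf 0))) (.node (.node (.leaf 0) (.leaf 0)) (.node (.leaf 0) (.leaf 2136))))))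
def dPos_224 : BT := .node (.node (.node (.node (.node (.node (.node (.leaf 22) (.leaf 2211)) (.leaf 0)) (.node (.leaf 242) (.leaf 0))) (.node (.node (.leaf 0) (.leaf 0)) (.node (.leaf 0) (.leaf 1750)))) (.node (.node (.node (.leaf 0) (.leaf 722)) (.node (.leaf 0) (.leaf 0))) (.node (.node (.leaf 0) (.leaf 0)) (.node (.leaf 0) (.leaf 0))))) (.node (.node (.node (.node (.leaf 0) (.leaf 494)) (.node (.leaf 0) (.leaf 0))) (.node (.node (.leaf 0) (.leaf 1147)) (.node (.leaf 0) (.leaf 1872)))) (.node (.node (.node (.leaf 0) (.leaf 0)) (.node (.leaf 0) (.leaf 1627))) (.node (.node (.leaf 0) (.leaf 1310)) (.node (.leaf 0) (.leaf 2089)))))) (.node (.node (.node (.node (.node (.leaf 50) (.leaf 0)) (.node (.leaf 0) (.leaf 0))) (.node (.node (.leaf 148) (.leaf 1080)) (.node (.leaf 0) (.leaf 1816)))) (.node (.node (.node (.leaf 0) (.leaf 820)) (.node (.leaf 0) (.leaf 0))) (.node (.node (.leaf 0) (.leaf 0)) (.node (.leaf 0) (.leaf 0))))) (.node (.node (.node (.node (.leaf 0) (.leaf 610)) (.node (.leaf 0) (.leaf 0))) (.node (.node (.leaf 0) (.leaf 0)) (.node (.leaf 0) (.leaf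 0)))) (.node (.node (.node (.leaf 0) (.leaf 0)) (.node (.leaf 0) (.leaf 1700))) (.node (.node (.leaf 0) (.leaf 0)) (.node (.leaf 0) (.leaf 0))))))
def dPos_231 : BT := .node (.node (.node (.node (.node (.node (.node (.leaf 31) (.leaf 2227)) (.leaf 0)) (.node (.leaf 252) (.leaf 0))) (.node (.node (.leaf 0) (.leaf 0)) (.node (.leaf 0) (.leaf 0)))) (.node (.node (.node (.leaf 0) (.leaf 0)) (.node (.leaf 0) (.leaf 0))) (.node (.node (.leaf 0) (.leaf 1249)) (.node (.leaf 0) (.leaf 1999))))) (.node (.node (.node (.node (.leaf 0) (.leaf 510)) (.node (.leaf 259) (.leaf 0))) (.node (.node (.leaf 0) (.leaf 1153)) (.node (.leaf 0) (.leaf 1882)))) (.node (.node (.node (.leaf 0) (.leaf 904)) (.node (.leaf 0) (.leaf 1641))) (.node (.node (.leaf 0) (.leaf 0)) (.node (.leaf 0) (.leaf 0)))))) (.node (.node (.node (.node (.node (.leaf 60) (.leaf 0)) (.node (.leaf 0) (.leaf 1397))) (.node (.node (.leaf 0) (.leaf 0)) (.node (.leaf 0) (.leaf 0)))) (.node (.node (.node (.leaf 0) (.leaf 0)) (.node (.leaf 0) (.leaf 0))) (.node (.node (.leaf 0) (.leaf 0)) (.node (.leaf 385) (.leaf 2047)))))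 (.node (.node (.node (.node (.leaf 0) (.leaf 626)) (.node (.leaf 0) (.leaf 0))) (.node (.node (.leaf 0) (.leaf 0)) (.node (.leaf 0) (.leaf 1938)))) (.node (.node (.node (.leaf 112) (.leaf 974)) (.node (.leaf 0) (.leaf 0))) (.node (.node (.leaf 0) (.leaf 1343)) (.node (.leaf 0) (.leaf 2132))))))
def dPos_239 : BT := .node (.node (.node (.node (.node (.node (.node (.leaf 0) (.leaf 2219)) (.leaf 0)) (.node (.leaf 0) (.leaf 1367))) (.node (.node (.leaf 0) (.leaf 0)) (.node (.leaf 0) (.leaf 1758)))) (.node (.node (.node (.leaf 0) (.leaf 730)) (.node (.leaf 0) (.leaf 0))) (.node (.node (.leaf 0) (.leaf 0)) (.node (.leaf 0) (.leaf 1992))))) (.node (.node (.node (.node (.leaf 86) (.leaf 502)) (.node (.leaf 0) (.leaf 1422))) (.node (.node (.leaf 0) (.leaf 0)) (.node (.leaf 0) (.leaf 1878)))) (.node (.node (.node (.leaf 0) (.leaf 899)) (.node (.leaf 0) (.leaf 1634))) (.node (.node (.leaf 0) (.leaf 1312)) (.node (.leaf 0) (.leaf 2092)))))) (.node (.node (.node (.node (.node (.leaf 57) (.leaf 0)) (.node (.leaf 0) (.leaf 0))) (.node (.node (.leaf 156) (.leaf 0)) (.node (.leaf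 0) (.leaf 0)))) (.node (.node (.node (.leaf 103) (.leaf 825)) (.node (.leaf 0) (.leaf 0))) (.node (.node (.leaf 0) (.leaf 1281)) (.node (.leaf 0) (.leaf 0))))) (.node (.node (.node (.node (.leaf 0) (.leaf 618)) (.node (.leaf 0) (.leaf 0))) (.node (.node (.leaf 0) (.leaf 1205)) (.node (.leaf 0) (.leaf 0)))) (.node (.node (.node (.leaf 110) (.leaf 970)) (.node (.leaf 0) (.leaf 1708))) (.node (.node (.leaf 0) (.leaf 1339)) (.node (.leaf 0) (.leaf 0))))))
def dPos_246 : BT := .node (.node (.node (.node (.node (.node (.node (.leaf 36) (.leaf 2235)) (.leaf 0)) (.node (.leaf 0) (.leaf 0))) (.node (.node (.leaf 0) (.leaf 0)) (.node (.leaf 0) (.leaf 1765)))) (.node (.node (.node (.leaf 0) (.leaf 738)) (.node (.leaf 0) (.leaf 0))) (.node (.node (.leaf 0) (.leaf 0)) (.node (.leaf 0) (.leaf 0))))) (.node (.node (.node (.node (.leaf 0) (.leaf 518)) (.node (.leaf 0) (.leaf 0))) (.node (.node (.leaf 0) (.leaf 0)) (.node (.leaf 0) (.leaf 1885)))) (.node (.node (.node (.leaf 0) (.leaf 0)) (.node (.leaf 0) (.leaf 1649))) (.node (.node (.leaf 0) (.leaf 0)) (.node (.leaf 0) (.leaf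 0)))))) (.node (.node (.node (.node (.node (.leaf 0) (.leaf 0)) (.node (.leaf 0) (.leaf 0))) (.node (.node (.leaf 0) (.leaf 0)) (.node (.leaf 0) (.leaf 0)))) (.node (.node (.node (.leaf 0) (.leaf 0)) (.node (.leaf 0) (.leaf 1558))) (.node (.node (.leaf 0) (.leaf 0)) (.node (.leaf 393) (.leaf 2053))))) (.node (.node (.node (.node (.leaf 0) (.leaf 634)) (.node (.leaf 0) (.leaf 1449))) (.node (.node (.leaf 0) (.leaf 0)) (.node (.leaf 0) (.leaf 0)))) (.node (.node (.node (.leaf 0) (.leaf 0)) (.node (.leaf 0) (.leaf 1711))) (.node (.node (.leaf 0) (.leaf 0)) (.node (.leaf 0) (.leaf 2140))))))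
def dFin_3 : BT := .node (.node (.node (.node (.node (.node (.node (.leaf 1287) (.leaf 138557)) (.leaf 67284)) (.node (.leaf 103778) (.leaf 112047))) (.node (.node (.leaf 19247) (.leaf 85459)) (.node (.leaf 102910) (.leaf 124637)))) (.node (.node (.node (.leaf 52624) (.leaf 105138)) (.node (.leaf 95017) (.leaf 117843))) (.node (.node (.leaf 47818) (.leaf 95440)) (.node (.leaf 107027) (.leaf 131530))))) (.node (.node (.node (.node (.node (.leaf 38415) (.leaf 140861)) (.leaf 76077)) (.node (.leaf 52712) (.leaf 114842))) (.node (.node (.leaf 40555) (.leaf 106057)) (.node (.leaf 58597) (.leaf 135853)))) (.node (.node (.node (.leaf 46130) (.leaf 79167)) (.node (.leaf 55248) (.leaf 121059))) (.node (.node (.leaf 69479) (.leaf 115999)) (.node (.leaf 64924) (.leaf 135367)))))) (.node (.node (.node (.node (.node (.node (.leaf 45940) (.leaf 140125)) (.leaf 67915)) (.node (.leaf 51993) (.leaf 113425))) (.node (.node (.leaf 24025) (.leaf 97138)) (.node (.leaf 57397) (.leaf 126145)))) (.node (.node (.node (.leaf 12919) (.leaf 75999)) (.node (.leaf 105311) (.leaf 119429))) (.node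 (.node (.leaf 99731) (.leaf 108493)) (.node (.leaf 100262) (.leaf 133298))))) (.node (.node (.node (.node (.leaf 8087) (.leaf 103284)) (.node (.leaf 76470) (.leaf 116555))) (.node (.node (.leaf 25925) (.leaf 93331)) (.node (.leaf 59768) (.leaf 129998)))) (.node (.node (.node (.leaf 42351) (.leaf 82241)) (.node (.leaf 55712) (.leaf 122580))) (.node (.node (.leaf 50643) (.leaf 110647)) (.node (.leaf 98592) (.leaf 136933))))))
def dFin_10 : BT := .node (.node (.node (.node (.node (.node (.node (.leaf 35891) (.leaf 138681)) (.leaf 80031)) (.node (.leaf 51214) (.leaf 117969))) (.node (.node (.leaf 40957) (.leaf 85636)) (.node (.leaf 100015) (.leaf 124826)))) (.node (.node (.node (.leaf 46941) (.leaf 73441)) (.node (.leaf 54095) (.leaf 118069))) (.node (.node (.leaf 96697) (.leaf 108274)) (.node (.leaf 61781) (.leaf 131776))))) (.node (.node (.node (.node (.node (.leaf 10826) (.leaf 141012)) (.leaf 117457)) (.node (.leaf 97732) (.leaf 114973))) (.node (.node (.leaf 50696) (.leaf 107906)) (.node (.leaf 99293) (.leaf 127517)))) (.node (.node (.node (.leaf 14213) (.leaf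 79095)) (.node (.leaf 83811) (.leaf 121395))) (.node (.node (.leaf 91947) (.leaf 109892)) (.node (.leaf 65295) (.leaf 135640)))))) (.node (.node (.node (.node (.node (.node (.leaf 466) (.leaf 139751)) (.leaf 94188)) (.node (.leaf 59682) (.leaf 113533))) (.node (.node (.leaf 23735) (.leaf 105201)) (.node (.leaf 103623) (.leaf 136779)))) (.node (.node (.node (.leaf 42701) (.leaf 77922)) (.node (.leaf 54422) (.leaf 119569))) (.node (.node (.leaf 48589) (.leaf 108672)) (.node (.leaf 63500) (.leaf 133551))))) (.node (.node (.node (.node (.leaf 8351) (.leaf 70861)) (.node (.leaf 101429) (.leaf 116685))) (.node (.node (.leaf 25953) (.leaf 93489)) (.node (.leaf 98900) (.leaf 129792)))) (.node (.node (.node (.leaf 44682) (.leaf 106554)) (.node (.leaf 55868) (.leaf 123061))) (.node (.node (.leaf 50753) (.leaf 122273)) (.node (.leaf 66292) (.leaf 137166))))))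
def dFin_18 : BT := .node (.node (.node (.node (.node (.node (.node (.leaf 45236) (.leaf 138651)) (.leaf 67179)) (.node (.leaf 51334) (.leaf 112546))) (.node (.node (.leaf 45341) (.leaf 106988)) (.node (.leaf 56220) (.leaf 124750)))) (.node (.node (.node (.leaf 12135) (.leaf 72856)) (.node (.leaf 95150) (.leaf 117768))) (.node (.node (.leaf 47453) (.leaf 107193)) (.node (.leaf 61389) (.leaf 131448))))) (.node (.node (.node (.node (.node (.leaf 2563) (.leaf 140931)) (.leaf 76031)) (.node (.leaf 97408) (.leaf 114925))) (.node (.node (.leaf 24647) (.leaf 120533)) (.node (.leaf 58812) (.leaf 128065)))) (.node (.node (.node (.leaf 42375) (.leaf 79234)) (.node (.leaf 55184) (.leaf 121264))) (.node (.node (.leaf 49549) (.leaf 109905)) (.node (.leaf 65123) (.leaf 135469)))))) (.node (.node (.node (.node (.node (.node (.leaf 37097) (.leaf 139705)) (.leaf 100953)) (.node (.leaf 52065) (.leaf 113355))) (.node (.node (.leaf 40531) (.leaf 95962)) (.node (.leaf 106570) (.leaf 139333)))) (.node (.node (.node (.leaf 45894) (.leaf 75971)) (.node (.leaf 54482) (.leaf 122467))) (.node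 (.node (.leaf 91618) (.leaf 109232)) (.node (.leaf 63259) (.leaf 133576))))) (.node (.node (.node (.node (.leaf 8404) (.leaf 70467)) (.node (.leaf 103627) (.leaf 116617))) (.node (.node (.leaf 50596) (.leaf 106828)) (.node (.leaf 101054) (.leaf 129700)))) (.node (.node (.node (.leaf 17309) (.leaf 82544)) (.node (.leaf 65094) (.leaf 130366))) (.node (.node (.leaf 50675) (.leaf 110519)) (.node (.leaf 66188) (.leaf 137037))))))
def dFin_25 : BT := .node (.node (.node (.node (.node (.node (.node (.leaf 566) (.leaf 138778)) (.leaf 85700)) (.node (.leaf 82834) (.leaf 125978))) (.node (.node (.leaf 45291) (.leaf 111851)) (.node (.leaf 56670) (.leaf 124897)))) (.node (.node (.node (.leaf 42364) (.leaf 73516)) (.node (.leaf 53999) (.leaf 118218))) (.node (.node (.leaf 47571) (.leaf 107338)) (.node (.leaf 102653) (.leaf 131850))))) (.node (.node (.node (.node (.node (.leaf 8431) (.leaf 141098)) (.leaf 69772)) (.node (.leaf 99487) (.leaf 115073))) (.node (.node (.leaf 24871) (.leaf 92533)) (.node (.leaf 109755) (.leaf 129820)))) (.node (.node (.node (.leaf 14261) (.leaf 99169))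 (.node (.leaf 55116) (.leaf 121479))) (.node (.node (.leaf 49714) (.leaf 110011)) (.node (.leaf 65357) (.leaf 135796)))))) (.node (.node (.node (.node (.node (.node (.leaf 36642) (.leaf 139848)) (.leaf 131120)) (.node (.leaf 52165) (.leaf 113543))) (.node (.node (.leaf 23793) (.leaf 102068)) (.node (.leaf 107116) (.leaf 126485)))) (.node (.node (.node (.leaf 13023) (.leaf 76227)) (.node (.leaf 54852) (.leaf 119729))) (.node (.node (.leaf 48689) (.leaf 108646)) (.node (.leaf 63553) (.leaf 133782))))) (.node (.node (.node (.node (.leaf 10802) (.leaf 71171)) (.node (.leaf 53342) (.leaf 116763))) (.node (.node (.leaf 42433) (.leaf 93558)) (.node (.leaf 60456) (.leaf 129543)))) (.node (.node (.node (.leaf 40684) (.leaf 83283)) (.node (.leaf 107597) (.leaf 124673))) (.node (.node (.leaf 50809) (.leaf 128942)) (.node (.leaf 66778) (.leaf 137245))))))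
def dFin_34 : BT := .node (.node (.node (.node (.node (.node (.node (.leaf 1127) (.leaf 138551)) (.leaf 67239)) (.node (.leaf 56528) (.leaf 133476))) (.node (.node (.leaf 45697) (.leaf 85438)) (.node (.leaf 56281) (.leaf 124721)))) (.node (.node (.node (.leaf 45471) (.leaf 102864)) (.node (.leaf 107154) (.leaf 117810))) (.node (.node (.leaf 47415) (.leaf 107165)) (.node (.leaf 120844) (.leaf 131497))))) (.node (.node (.node (.node (.node (.leaf 40842) (.leaf 140901)) (.leaf 69127)) (.node (.leaf 101186) (.leaf 129081))) (.node (.node (.leaf 24200) (.leaf 106786)) (.node (.leaf 79394) (.leaf 128038)))) (.node (.node (.node (.leaf 116673) (.leaf 102748)) (.node (.leaf 55217) (.leaf 121243))) (.node (.node (.leaf 49497) (.leaf 109916)) (.node (.leaf 64879) (.leaf 135525)))))) (.node (.node (.node (.node (.node (.node (.leaf 45795) (.leaf 139645)) (.leaf 103502)) (.node (.leaf 52023) (.leaf 113384))) (.node (.node (.leaf 41246) (.leaf 97441)) (.node (.leaf 57335) (.leaf 128825)))) (.node (.node (.node (.leaf 13511) (.leaf 75984)) (.node (.leaf 103030) (.leaf 125295)))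 (.node (.node (.leaf 49215) (.leaf 108435)) (.node (.leaf 63304) (.leaf 134725))))) (.node (.node (.node (.node (.leaf 8317) (.leaf 105111)) (.node (.leaf 103930) (.leaf 133799))) (.node (.node (.leaf 26035) (.leaf 93365)) (.node (.leaf 71577) (.leaf 129911)))) (.node (.node (.node (.leaf 17223) (.leaf 82578)) (.node (.leaf 62382) (.leaf 122565))) (.node (.node (.leaf 50607) (.leaf 110586)) (.node (.leaf 98561) (.leaf 137020))))))
def dFin_41 : BT := .node (.node (.node (.node (.node (.node (.node (.leaf 37043) (.leaf 139087)) (.leaf 103317)) (.node (.leaf 102662) (.leaf 112568))) (.node (.node (.leaf 19319) (.leaf 85649)) (.node (.leaf 100887) (.leaf 138119)))) (.node (.node (.node (.leaf 106237) (.leaf 74765)) (.node (.leaf 54046) (.leaf 118117))) (.node (.node (.leaf 47593) (.leaf 113516)) (.node (.leaf 61750) (.leaf 131742))))) (.node (.node (.node (.node (.node (.leaf 2621) (.leaf 141097)) (.leaf 104118)) (.node (.leaf 135499) (.leaf 115098))) (.node (.node (.leaf 92275) (.leaf 92382)) (.node (.leaf 132451) (.leaf 128268)))) (.node (.node (.node (.leaf 14239)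 (.leaf 79069)) (.node (.leaf 55149) (.leaf 121437))) (.node (.node (.leaf 49637) (.leaf 120020)) (.node (.leaf 65327) (.leaf 135857)))))) (.node (.node (.node (.node (.node (.node (.leaf 1400) (.leaf 139779)) (.leaf 120728)) (.node (.leaf 95156) (.leaf 113587))) (.node (.node (.leaf 46468) (.leaf 133494)) (.node (.leaf 104098) (.leaf 126544)))) (.node (.node (.node (.leaf 13030) (.leaf 76270)) (.node (.leaf 99234) (.leaf 119785))) (.node (.node (.leaf 48653) (.leaf 108659)) (.node (.leaf 63176) (.leaf 133847))))) (.node (.node (.node (.node (.leaf 10763) (.leaf 71186)) (.node (.leaf 53086) (.leaf 123272))) (.node (.node (.leaf 25978) (.leaf 93548)) (.node (.leaf 60477) (.leaf 129758)))) (.node (.node (.node (.leaf 41772) (.leaf 100137)) (.node (.leaf 55837) (.leaf 123133))) (.node (.node (.leaf 50812) (.leaf 111339)) (.node (.leaf 99820) (.leaf 137319))))))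
def dFin_49 : BT := .node (.node (.node (.node (.node (.node (.node (.leaf 39140) (.leaf 138659)) (.leaf 105715)) (.node (.leaf 51275) (.leaf 112110))) (.node (.node (.leaf 41962) (.leaf 85801)) (.node (.leaf 56158) (.leaf 124761)))) (.node (.node (.node (.leaf 36415) (.leaf 72821)) (.node (.leaf 53793) (.leaf 118009))) (.node (.node (.leaf 47812) (.leaf 107221)) (.node (.leaf 61810) (.leaf 131219))))) (.node (.node (.node (.node (.node (.leaf 32969) (.leaf 140981)) (.leaf 103369)) (.node (.leaf 97534) (.leaf 115024))) (.node (.node (.leaf 24662) (.leaf 125212)) (.node (.leaf 58611) (.leaf 127591)))) (.node (.node (.node (.leaf 14169) (.leaf 79118)) (.node (.leaf 99511) (.leaf 121339))) (.node (.node (.leaf 49587) (.leaf 109854)) (.node (.leaf 65207) (.leaf 135587)))))) (.node (.node (.node (.node (.node (.node (.leaf 36681) (.leaf 139721)) (.leaf 104120)) (.node (.leaf 59650) (.leaf 113490))) (.node (.node (.leaf 23717) (.leaf 105274)) (.node (.leaf 57303) (.leaf 126806)))) (.node (.node (.node (.leaf 101252) (.leaf 76000)) (.node (.leaf 54453) (.leaf 119505)))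 (.node (.node (.leaf 48625) (.leaf 119634)) (.node (.leaf 63216) (.leaf 133569))))) (.node (.node (.node (.node (.leaf 10766) (.leaf 114608)) (.node (.leaf 103019) (.leaf 116661))) (.node (.node (.leaf 51076) (.leaf 93465)) (.node (.leaf 122349) (.leaf 129664)))) (.node (.node (.node (.leaf 47232) (.leaf 82514)) (.node (.leaf 55901) (.leaf 123049))) (.node (.node (.leaf 50713) (.leaf 111267)) (.node (.leaf 66164) (.leaf 137202))))))
def dFin_56 : BT := .node (.node (.node (.node (.node (.node (.node (.leaf 45610) (.leaf 138759)) (.leaf 122290)) (.node (.leaf 56659) (.leaf 124509))) (.node (.node (.leaf 122727) (.leaf 106529)) (.node (.leaf 103708) (.leaf 124925)))) (.node (.node (.node (.leaf 12250) (.leaf 73357)) (.node (.leaf 98723) (.leaf 118257))) (.node (.node (.leaf 47663) (.leaf 107331)) (.node (.leaf 61823) (.leaf 131926))))) (.node (.node (.node (.node (.leaf 2679) (.leaf 69727)) (.node (.leaf 95944) (.leaf 115137))) (.node (.node (.leaf 24697) (.leaf 92507)) (.node (.leaf 59307) (.leaf 131775)))) (.node (.node (.node (.leaf 41430) (.leaf 95189)) (.node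 (.leaf 55085) (.leaf 121527))) (.node (.node (.leaf 49707) (.leaf 125895)) (.node (.leaf 65440) (.leaf 140823)))))) (.node (.node (.node (.node (.node (.node (.leaf 899) (.leaf 139866)) (.leaf 68420)) (.node (.leaf 59123) (.leaf 113617))) (.node (.node (.leaf 23995) (.leaf 88853)) (.node (.leaf 94041) (.leaf 126420)))) (.node (.node (.node (.leaf 45414) (.leaf 76157)) (.node (.leaf 54703) (.leaf 119678))) (.node (.node (.leaf 48774) (.leaf 108722)) (.node (.leaf 63767) (.leaf 133777))))) (.node (.node (.node (.node (.leaf 11992) (.leaf 98832)) (.node (.leaf 53295) (.leaf 116811))) (.node (.node (.leaf 42418) (.leaf 105634)) (.node (.leaf 60437) (.leaf 129548)))) (.node (.node (.node (.leaf 17367) (.leaf 99687)) (.node (.leaf 101730) (.leaf 123249))) (.node (.node (.leaf 50861) (.leaf 111345)) (.node (.leaf 73188) (.leaf 137872))))))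
def dFin_66 : BT := .node (.node (.node (.node (.node (.node (.node (.leaf 37542) (.leaf 138593)) (.leaf 95335)) (.node (.leaf 103759) (.leaf 112057))) (.node (.node (.leaf 19279) (.leaf 105886)) (.node (.leaf 127892) (.leaf 124653)))) (.node (.node (.node (.leaf 12125) (.leaf 72707)) (.node (.leaf 82083) (.leaf 135059))) (.node (.node (.leaf 47399) (.leaf 95832)) (.node (.leaf 61465) (.leaf 131492))))) (.node (.node (.node (.node (.node (.leaf 2676) (.leaf 140889)) (.leaf 69252)) (.node (.leaf 52821) (.leaf 114883))) (.node (.node (.leaf 96714) (.leaf 118106)) (.node (.leaf 58892) (.leaf 127728)))) (.node (.node (.node (.leaf 40771) (.leaf 79022)) (.node (.leaf 107985) (.leaf 121282))) (.node (.node (.leaf 49508) (.leaf 115057)) (.node (.leaf 96378) (.leaf 135503)))))) (.node (.node (.node (.node (.node (.node (.leaf 9712) (.leaf 140001)) (.leaf 67897)) (.node (.leaf 52006) (.leaf 113431))) (.node (.node (.leaf 23640) (.leaf 88305)) (.node (.leaf 102981) (.leaf 128877)))) (.node (.node (.node (.leaf 12943) (.leaf 75874)) (.node (.leaf 54374) (.leaf 119364))) (.node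 (.node (.leaf 48509) (.leaf 113580)) (.node (.leaf 63029) (.leaf 135251))))) (.node (.node (.node (.node (.leaf 34507) (.leaf 70667)) (.node (.leaf 53262) (.leaf 116574))) (.node (.node (.leaf 25905) (.leaf 93353)) (.node (.leaf 60299) (.leaf 129932)))) (.node (.node (.node (.leaf 42590) (.leaf 105088)) (.node (.leaf 95959) (.leaf 122551))) (.node (.node (.leaf 50630) (.leaf 120558)) (.node (.leaf 98845) (.leaf 136997))))))
def dFin_73 : BT := .node (.node (.node (.node (.node (.node (.node (.leaf 37881) (.leaf 138693)) (.leaf 67302)) (.node (.leaf 51503) (.leaf 118994))) (.node (.node (.leaf 136836) (.leaf 103259)) (.node (.leaf 56141) (.leaf 124821)))) (.node (.node (.node (.leaf 40876) (.leaf 101103)) (.node (.leaf 98166) (.leaf 118122))) (.node (.node (.leaf 47543) (.leaf 107243)) (.node (.leaf 61575) (.leaf 134790))))) (.node (.node (.node (.node (.node (.leaf 2613) (.leaf 141040)) (.leaf 69588)) (.node (.leaf 59322) (.leaf 115052))) (.node (.node (.leaf 45983) (.leaf 92293)) (.node (.leaf 59248) (.leaf 131933)))) (.node (.node (.node (.leaf 14229) (.leaf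 104805)) (.node (.leaf 106378) (.leaf 121409))) (.node (.node (.leaf 96958) (.leaf 109949)) (.node (.leaf 92828) (.leaf 135648)))))) (.node (.node (.node (.node (.node (.node (.leaf 34725) (.leaf 139810)) (.leaf 94198)) (.node (.leaf 52119) (.leaf 113524))) (.node (.node (.leaf 23739) (.leaf 88484)) (.node (.leaf 58103) (.leaf 126258)))) (.node (.node (.node (.leaf 13019) (.leaf 105271)) (.node (.leaf 99232) (.leaf 119778))) (.node (.node (.leaf 100017) (.leaf 127891)) (.node (.leaf 63150) (.leaf 133835))))) (.node (.node (.node (.node (.leaf 36754) (.leaf 105191)) (.node (.leaf 53162) (.leaf 116700))) (.node (.node (.leaf 41311) (.leaf 93519)) (.node (.leaf 60367) (.leaf 129890)))) (.node (.node (.node (.leaf 17327) (.leaf 82833)) (.node (.leaf 56008) (.leaf 123098))) (.node (.node (.leaf 50776) (.leaf 111177)) (.node (.leaf 66303) (.leaf 137188))))))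
def dFin_81 : BT := .node (.node (.node (.node (.node (.node (.node (.leaf 39136) (.leaf 138639)) (.leaf 67390)) (.node (.leaf 101368) (.leaf 112414))) (.node (.node (.leaf 19292) (.leaf 85751)) (.node (.leaf 56919) (.leaf 124739)))) (.node (.node (.node (.leaf 12158) (.leaf 91823)) (.node (.leaf 53915) (.leaf 118026))) (.node (.node (.leaf 47481) (.leaf 107219)) (.node (.leaf 61405) (.leaf 131209))))) (.node (.node (.node (.node (.node (.leaf 36021) (.leaf 140977)) (.leaf 98835)) (.node (.leaf 52773) (.leaf 114945))) (.node (.node (.leaf 24625) (.leaf 92259)) (.node (.leaf 58822) (.leaf 127537)))) (.node (.node (.node (.leaf 42620) (.leaf 122439)) (.node (.leaf 99359) (.leaf 131058))) (.node (.node (.leaf 49598) (.leaf 109863)) (.node (.leaf 65216) (.leaf 135556)))))) (.node (.node (.node (.node (.node (.node (.leaf 34366) (.leaf 139697)) (.leaf 68344)) (.node (.leaf 52081) (.leaf 113822))) (.node (.node (.leaf 46514) (.leaf 88219)) (.node (.leaf 57509) (.leaf 126378)))) (.node (.node (.node (.leaf 40720) (.leaf 75884)) (.node (.leaf 96569) (.leaf 119491))) (.node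 (.node (.leaf 48547) (.leaf 108569)) (.node (.leaf 76460) (.leaf 140924))))) (.node (.node (.node (.node (.leaf 8191) (.leaf 70336)) (.node (.leaf 100732) (.leaf 118259))) (.node (.node (.leaf 49950) (.leaf 93437)) (.node (.leaf 59799) (.leaf 129838)))) (.node (.node (.node (.leaf 47762) (.leaf 115582)) (.node (.leaf 105443) (.leaf 122544))) (.node (.node (.leaf 50701) (.leaf 111242)) (.node (.leaf 118970) (.leaf 137045))))))
def dFin_88 : BT := .node (.node (.node (.node (.node (.node (.node (.leaf 34857) (.leaf 138737)) (.leaf 75249)) (.node (.leaf 51380) (.leaf 112290))) (.node (.node (.leaf 19339) (.leaf 85986)) (.node (.leaf 56870) (.leaf 124915)))) (.node (.node (.node (.leaf 12252) (.leaf 105217)) (.node (.leaf 53802) (.leaf 118251))) (.node (.node (.leaf 48676) (.leaf 114306)) (.node (.leaf 102469) (.leaf 132001))))) (.node (.node (.node (.node (.leaf 10634) (.leaf 92074)) (.node (.leaf 52721) (.leaf 115125))) (.node (.node (.leaf 37857) (.leaf 106718)) (.node (.leaf 59196) (.leaf 129829)))) (.node (.node (.node (.leaf 36705) (.leaf 79619)) (.node (.leaf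 106033) (.leaf 121497))) (.node (.node (.leaf 49681) (.leaf 110013)) (.node (.leaf 65337) (.leaf 136402)))))) (.node (.node (.node (.node (.node (.node (.leaf 1065) (.leaf 139874)) (.leaf 68488)) (.node (.leaf 52190) (.leaf 113615))) (.node (.node (.leaf 24750) (.leaf 88748)) (.node (.leaf 57979) (.leaf 127085)))) (.node (.node (.node (.leaf 13041) (.leaf 107974)) (.node (.leaf 107024) (.leaf 119743))) (.node (.node (.leaf 101161) (.leaf 108674)) (.node (.leaf 106804) (.leaf 133802))))) (.node (.node (.node (.node (.leaf 40816) (.leaf 98353)) (.node (.leaf 102472) (.leaf 116821))) (.node (.node (.leaf 25989) (.leaf 94276)) (.node (.leaf 96955) (.leaf 131214)))) (.node (.node (.node (.leaf 106294) (.leaf 83460)) (.node (.leaf 55953) (.leaf 123199))) (.node (.node (.leaf 50896) (.leaf 111313)) (.node (.leaf 66629) (.leaf 137279))))))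
def dFin_97 : BT := .node (.node (.node (.node (.node (.node (.node (.leaf 139) (.leaf 138611)) (.leaf 107489)) (.node (.leaf 136382) (.leaf 112091))) (.node (.node (.leaf 19298) (.leaf 85791)) (.node (.leaf 106651) (.leaf 124698)))) (.node (.node (.node (.leaf 12164) (.leaf 72645)) (.node (.leaf 53962) (.leaf 118360))) (.node (.node (.leaf 47437) (.leaf 115710)) (.node (.leaf 61429) (.leaf 131427))))) (.node (.node (.node (.node (.node (.leaf 46001) (.leaf 140919)) (.leaf 107638)) (.node (.leaf 52796) (.leaf 114832))) (.node (.node (.leaf 42514) (.leaf 114046)) (.node (.leaf 58839) (.leaf 127659)))) (.node (.node (.node (.leaf 14147) (.leaf 79246)) (.node (.leaf 58416) (.leaf 132910))) (.node (.node (.leaf 49568) (.leaf 116063)) (.node (.leaf 65109) (.leaf 135437)))))) (.node (.node (.node (.node (.node (.node (.leaf 50370) (.leaf 139653)) (.leaf 68367)) (.node (.leaf 95073) (.leaf 113400))) (.node (.node (.leaf 23650) (.leaf 88290)) (.node (.leaf 57533) (.leaf 126827)))) (.node (.node (.node (.leaf 41409) (.leaf 76033)) (.node (.leaf 54345) (.leaf 122681))) (.node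 (.node (.leaf 48550) (.leaf 108558)) (.node (.leaf 103871) (.leaf 134802))))) (.node (.node (.node (.node (.leaf 8173) (.leaf 70398)) (.node (.leaf 61348) (.leaf 116609))) (.node (.node (.leaf 25919) (.leaf 93395)) (.node (.leaf 59966) (.leaf 129860)))) (.node (.node (.node (.leaf 44820) (.leaf 107001)) (.node (.leaf 56000) (.leaf 122984))) (.node (.node (.leaf 50659) (.leaf 122703)) (.node (.leaf 99305) (.leaf 137088))))))
def dFin_104 : BT := .node (.node (.node (.node (.node (.node (.node (.leaf 36871) (.leaf 138719)) (.leaf 77369)) (.node (.leaf 51442) (.leaf 112351))) (.node (.node (.leaf 42217) (.leaf 87170)) (.node (.leaf 56803) (.leaf 124869)))) (.node (.node (.node (.leaf 12215) (.leaf 99830)) (.node (.leaf 99045) (.leaf 118225))) (.node (.node (.leaf 47883) (.leaf 114352)) (.node (.leaf 61584) (.leaf 132045))))) (.node (.node (.node (.node (.node (.leaf 37384) (.leaf 141074)) (.leaf 69541)) (.node (.leaf 52744) (.leaf 115043))) (.node (.node (.leaf 46748) (.leaf 106768)) (.node (.leaf 59225) (.leaf 130235)))) (.node (.node (.node (.leaf 14249) (.leaf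 79133)) (.node (.leaf 124372) (.leaf 121455))) (.node (.node (.leaf 49673) (.leaf 109981)) (.node (.leaf 65332) (.leaf 136959)))))) (.node (.node (.node (.node (.node (.node (.leaf 1294) (.leaf 139807)) (.leaf 68263)) (.node (.leaf 59702) (.leaf 113570))) (.node (.node (.leaf 23763) (.leaf 88465)) (.node (.leaf 58135) (.leaf 133747)))) (.node (.node (.node (.leaf 46362) (.leaf 111249)) (.node (.leaf 54848) (.leaf 119699))) (.node (.node (.leaf 48681) (.leaf 108696)) (.node (.leaf 105354) (.leaf 133817))))) (.node (.node (.node (.node (.leaf 41508) (.leaf 71244)) (.node (.leaf 53115) (.leaf 116745))) (.node (.node (.leaf 40664) (.leaf 93501)) (.node (.leaf 96934) (.leaf 129618)))) (.node (.node (.node (.leaf 47088) (.leaf 83399)) (.node (.leaf 55984) (.leaf 123153))) (.node (.node (.leaf 96717) (.leaf 111302)) (.node (.leaf 66688) (.leaf 137316))))))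
def dFin_112 : BT := .node (.node (.node (.node (.node (.node (.node (.leaf 13482) (.leaf 138669)) (.leaf 67347)) (.node (.leaf 51168) (.leaf 134581))) (.node (.node (.leaf 19437) (.leaf 85710)) (.node (.leaf 56341) (.leaf 124783)))) (.node (.node (.node (.leaf 41581) (.leaf 104785)) (.node (.leaf 53866) (.leaf 118047))) (.node (.node (.leaf 47509) (.leaf 107289)) (.node (.leaf 92770) (.leaf 131783))))) (.node (.node (.node (.node (.node (.leaf 2599) (.leaf 141023)) (.leaf 69219)) (.node (.leaf 60536) (.leaf 115033))) (.node (.node (.leaf 24641) (.leaf 92245)) (.node (.leaf 59796) (.leaf 127524)))) (.node (.node (.node (.leaf 37873) (.leaf 106008)) (.node (.leaf 85579) (.leaf 121351))) (.node (.node (.leaf 49610) (.leaf 109906)) (.node (.leaf 65267) (.leaf 135603)))))) (.node (.node (.node (.node (.node (.node (.leaf 34896) (.leaf 139733)) (.leaf 104793)) (.node (.leaf 52082) (.leaf 113481))) (.node (.node (.leaf 42027) (.leaf 108862)) (.node (.leaf 57309) (.leaf 126319)))) (.node (.node (.node (.leaf 13000) (.leaf 86114)) (.node (.leaf 97131) (.leaf 119554)))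 (.node (.node (.leaf 48583) (.leaf 109367)) (.node (.leaf 104999) (.leaf 133917))))) (.node (.node (.node (.node (.leaf 8257) (.leaf 70896)) (.node (.leaf 53211) (.leaf 116683))) (.node (.node (.leaf 50502) (.leaf 109940)) (.node (.leaf 60390) (.leaf 129780)))) (.node (.node (.node (.leaf 114195) (.leaf 82654)) (.node (.leaf 99877) (.leaf 123051))) (.node (.node (.leaf 97195) (.leaf 111211)) (.node (.leaf 66276) (.leaf 137222))))))
def dFin_119 : BT := .node (.node (.node (.node (.node (.node (.node (.leaf 1264) (.leaf 138920)) (.leaf 67151)) (.node (.leaf 56661) (.leaf 112231))) (.node (.node (.leaf 19355) (.leaf 85943)) (.node (.leaf 58092) (.leaf 126695)))) (.node (.node (.node (.leaf 49009) (.leaf 106129)) (.node (.leaf 98733) (.leaf 118283))) (.node (.node (.leaf 47627) (.leaf 107454)) (.node (.leaf 120575) (.leaf 131948))))) (.node (.node (.node (.node (.leaf 41548) (.leaf 104212)) (.node (.leaf 52696) (.leaf 115165))) (.node (.node (.leaf 40620) (.leaf 106704)) (.node (.leaf 101174) (.leaf 137834)))) (.node (.node (.node (.leaf 47549) (.leaf 79573)) (.node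 (.leaf 55232) (.leaf 121545))) (.node (.node (.leaf 128818) (.leaf 110330)) (.node (.leaf 65383) (.leaf 135848)))))) (.node (.node (.node (.node (.node (.node (.leaf 37037) (.leaf 139893)) (.leaf 68469)) (.node (.leaf 52444) (.leaf 113653))) (.node (.node (.leaf 46330) (.leaf 101246)) (.node (.leaf 57954) (.leaf 126798)))) (.node (.node (.node (.leaf 14227) (.leaf 76366)) (.node (.leaf 107733) (.leaf 119624))) (.node (.node (.leaf 48717) (.leaf 108731)) (.node (.leaf 63838) (.leaf 133760))))) (.node (.node (.node (.node (.leaf 10819) (.leaf 96823)) (.node (.leaf 102395) (.leaf 116801))) (.node (.node (.leaf 49927) (.leaf 105652)) (.node (.leaf 97460) (.leaf 129425)))) (.node (.node (.node (.leaf 42302) (.leaf 99592)) (.node (.leaf 55920) (.leaf 123241))) (.node (.node (.leaf 50867) (.leaf 111131)) (.node (.leaf 73176) (.leaf 137361))))))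
def dFin_130 : BT := .node (.node (.node (.node (.node (.node (.node (.leaf 37981) (.leaf 138585)) (.leaf 77561)) (.node (.leaf 51222) (.leaf 120888))) (.node (.node (.leaf 40988) (.leaf 105884)) (.node (.leaf 103006) (.leaf 124675)))) (.node (.node (.node (.leaf 46909) (.leaf 72875)) (.node (.leaf 54104) (.leaf 117902))) (.node (.node (.leaf 101230) (.leaf 109929)) (.node (.leaf 61511) (.leaf 131400))))) (.node (.node (.node (.node (.node (.leaf 50904) (.leaf 140877)) (.leaf 139336)) (.node (.leaf 98156) (.leaf 114896))) (.node (.node (.leaf 24193) (.leaf 91307)) (.node (.leaf 105122) (.leaf 127832)))) (.node (.node (.node (.leaf 14129) (.leaf 79104)) (.node (.leaf 79291) (.leaf 121279))) (.node (.node (.leaf 49522) (.leaf 109705)) (.node (.leaf 64853) (.leaf 135500)))))) (.node (.node (.node (.node (.node (.node (.leaf 477) (.leaf 139621)) (.leaf 67905)) (.node (.leaf 52005) (.leaf 126122))) (.node (.node (.leaf 24084) (.leaf 99835)) (.node (.leaf 57286) (.leaf 126840)))) (.node (.node (.node (.leaf 42139) (.leaf 78089)) (.node (.leaf 54430) (.leaf 119425)))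 (.node (.node (.leaf 48497) (.leaf 108505)) (.node (.leaf 63453) (.leaf 133162))))) (.node (.node (.node (.node (.leaf 38396) (.leaf 70602)) (.node (.leaf 115061) (.leaf 116560))) (.node (.node (.leaf 26113) (.leaf 93341)) (.node (.leaf 103322) (.leaf 131606)))) (.node (.node (.node (.leaf 37419) (.leaf 107351)) (.node (.leaf 55676) (.leaf 122532))) (.node (.node (.leaf 50626) (.leaf 122599)) (.node (.leaf 66152) (.leaf 136991))))))
def dFin_137 : BT := .node (.node (.node (.node (.node (.node (.node (.leaf 37030) (.leaf 138689)) (.leaf 126703)) (.node (.leaf 102747) (.leaf 112526))) (.node (.node (.leaf 45383) (.leaf 118226)) (.node (.leaf 110177) (.leaf 124811)))) (.node (.node (.node (.leaf 12185) (.leaf 73393)) (.node (.leaf 98036) (.leaf 118091))) (.node (.node (.leaf 47531) (.leaf 107262)) (.node (.leaf 61711) (.leaf 131748))))) (.node (.node (.node (.node (.node (.leaf 2795) (.leaf 141016)) (.leaf 69688)) (.node (.leaf 52813) (.leaf 114985))) (.node (.node (.leaf 45976) (.leaf 113670)) (.node (.leaf 59299) (.leaf 127527)))) (.node (.node (.node (.leaf 40782)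 (.leaf 105869)) (.node (.leaf 101549) (.leaf 121428))) (.node (.node (.leaf 49646) (.leaf 109945)) (.node (.leaf 65315) (.leaf 135662)))))) (.node (.node (.node (.node (.node (.node (.leaf 4482) (.leaf 139864)) (.leaf 68368)) (.node (.leaf 52185) (.leaf 113512))) (.node (.node (.leaf 24075) (.leaf 88529)) (.node (.leaf 113341) (.leaf 126784)))) (.node (.node (.node (.leaf 47236) (.leaf 116580)) (.node (.leaf 54366) (.leaf 119754))) (.node (.node (.leaf 48601) (.leaf 108601)) (.node (.leaf 63002) (.leaf 133862))))) (.node (.node (.node (.node (.leaf 42410) (.leaf 70869)) (.node (.leaf 53254) (.leaf 116691))) (.node (.node (.leaf 25959) (.leaf 93493)) (.node (.leaf 60510) (.leaf 129501)))) (.node (.node (.node (.leaf 44735) (.leaf 102451)) (.node (.leaf 97753) (.leaf 123085))) (.node (.node (.leaf 118309) (.leaf 111279)) (.node (.leaf 66313) (.leaf 137178))))))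
def dFin_145 : BT := .node (.node (.node (.node (.node (.node (.node (.leaf 578) (.leaf 138629)) (.leaf 99142)) (.node (.leaf 102923) (.leaf 112538))) (.node (.node (.leaf 45692) (.leaf 111272)) (.node (.leaf 106402) (.leaf 129336)))) (.node (.node (.node (.leaf 42151) (.leaf 72851)) (.node (.leaf 54007) (.leaf 117778))) (.node (.node (.leaf 47469) (.leaf 107197)) (.node (.leaf 63546) (.leaf 131276))))) (.node (.node (.node (.node (.node (.leaf 2581) (.leaf 140947)) (.leaf 69313)) (.node (.leaf 97422) (.leaf 114937))) (.node (.node (.leaf 24618) (.leaf 92255)) (.node (.leaf 58601) (.leaf 129532)))) (.node (.node (.node (.leaf 37871) (.leaf 101509)) (.node (.leaf 55124) (.leaf 121319))) (.node (.node (.leaf 49557) (.leaf 109785)) (.node (.leaf 65135) (.leaf 135543)))))) (.node (.node (.node (.node (.node (.node (.leaf 34354) (.leaf 139685)) (.leaf 103769)) (.node (.leaf 52105) (.leaf 113345))) (.node (.node (.leaf 48822) (.leaf 98747)) (.node (.leaf 131626) (.leaf 126494)))) (.node (.node (.node (.leaf 12979) (.leaf 75932)) (.node (.leaf 98401) (.leaf 119489)))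 (.node (.node (.leaf 48912) (.leaf 108555)) (.node (.leaf 63117) (.leaf 135346))))) (.node (.node (.node (.node (.leaf 8187) (.leaf 70472)) (.node (.leaf 53350) (.leaf 125656))) (.node (.node (.leaf 42585) (.leaf 93567)) (.node (.leaf 59787) (.leaf 129616)))) (.node (.node (.node (.leaf 41067) (.leaf 108961)) (.node (.leaf 108383) (.leaf 125484))) (.node (.node (.leaf 50687) (.leaf 119966)) (.node (.leaf 96403) (.leaf 137075))))))
def dFin_152 : BT := .node (.node (.node (.node (.node (.node (.node (.leaf 5980) (.leaf 138790)) (.leaf 67293)) (.node (.leaf 106469) (.leaf 112406))) (.node (.node (.leaf 19337) (.leaf 86024)) (.node (.leaf 106728) (.leaf 124905)))) (.node (.node (.node (.leaf 44622) (.leaf 104963)) (.node (.leaf 53907) (.leaf 118228))) (.node (.node (.leaf 47579) (.leaf 107323)) (.node (.leaf 61640) (.leaf 131994))))) (.node (.node (.node (.node (.leaf 42736) (.leaf 76603)) (.node (.leaf 52765) (.leaf 115081))) (.node (.node (.leaf 24681) (.leaf 92489)) (.node (.leaf 59350) (.leaf 128157)))) (.node (.node (.node (.leaf 44579) (.leaf 106251)) (.node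 (.leaf 55045) (.leaf 121507))) (.node (.node (.leaf 49716) (.leaf 110017)) (.node (.leaf 65355) (.leaf 135813)))))) (.node (.node (.node (.node (.node (.node (.leaf 8666) (.leaf 139842)) (.leaf 68524)) (.node (.leaf 52169) (.leaf 114312))) (.node (.node (.leaf 55270) (.leaf 88885)) (.node (.leaf 58016) (.leaf 126369)))) (.node (.node (.node (.leaf 40909) (.leaf 103661)) (.node (.leaf 54510) (.leaf 124524))) (.node (.node (.leaf 48701) (.leaf 108605)) (.node (.leaf 63866) (.leaf 133788))))) (.node (.node (.node (.node (.leaf 10822) (.leaf 71131)) (.node (.leaf 102654) (.leaf 116817))) (.node (.node (.leaf 26059) (.leaf 93541)) (.node (.leaf 60407) (.leaf 129906)))) (.node (.node (.node (.leaf 61858) (.leaf 101309)) (.node (.leaf 138960) (.leaf 123189))) (.node (.node (.leaf 50857) (.leaf 111225)) (.node (.leaf 109588) (.leaf 137263))))))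
def dFin_161 : BT := .node (.node (.node (.node (.node (.node (.node (.leaf 37557) (.leaf 138930)) (.leaf 98116)) (.node (.leaf 51164) (.leaf 112083))) (.node (.node (.leaf 19259) (.leaf 125594)) (.node (.leaf 84219) (.leaf 126823)))) (.node (.node (.node (.leaf 82829) (.leaf 102866)) (.node (.leaf 54054) (.leaf 117820))) (.node (.node (.leaf 47427) (.leaf 110260)) (.node (.leaf 61477) (.leaf 131351))))) (.node (.node (.node (.node (.node (.leaf 2577) (.leaf 140942)) (.leaf 98820)) (.node (.leaf 101168) (.leaf 114810))) (.node (.node (.leaf 45675) (.leaf 91416)) (.node (.leaf 134118) (.leaf 127763)))) (.node (.node (.node (.leaf 44657) (.leaf 79078)) (.node (.leaf 55157) (.leaf 121257))) (.node (.node (.leaf 50157) (.leaf 109861)) (.node (.leaf 64812) (.leaf 135531)))))) (.node (.node (.node (.node (.node (.node (.leaf 36606) (.leaf 139649)) (.leaf 127506)) (.node (.leaf 52070) (.leaf 114895))) (.node (.node (.leaf 48417) (.leaf 116746)) (.node (.leaf 68198) (.leaf 126555)))) (.node (.node (.node (.leaf 12965) (.leaf 75949)) (.node (.leaf 80495) (.leaf 119422)))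 (.node (.node (.leaf 48556) (.leaf 108481)) (.node (.leaf 103828) (.leaf 133600))))) (.node (.node (.node (.node (.leaf 10761) (.leaf 70495)) (.node (.leaf 53078) (.leaf 116599))) (.node (.node (.leaf 36231) (.leaf 93383)) (.node (.leaf 59953) (.leaf 129924)))) (.node (.node (.node (.leaf 41383) (.leaf 101805)) (.node (.leaf 55657) (.leaf 122898))) (.node (.node (.leaf 50619) (.leaf 110941)) (.node (.leaf 96469) (.leaf 137083))))))
def dFin_168 : BT := .node (.node (.node (.node (.node (.node (.node (.leaf 28009) (.leaf 138724)) (.leaf 101782)) (.node (.leaf 136949) (.leaf 112467))) (.node (.node (.leaf 122737) (.leaf 85641)) (.node (.leaf 114484) (.leaf 124861)))) (.node (.node (.node (.leaf 46651) (.leaf 73374)) (.node (.leaf 53954) (.leaf 118222))) (.node (.node (.leaf 47977) (.leaf 107307)) (.node (.leaf 61678) (.leaf 132014))))) (.node (.node (.node (.node (.node (.leaf 42719) (.leaf 141060)) (.leaf 104127)) (.node (.leaf 52788) (.leaf 115088))) (.node (.node (.leaf 42487) (.leaf 113214)) (.node (.leaf 59276) (.leaf 128172)))) (.node (.node (.node (.leaf 14243)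 (.leaf 79131)) (.node (.leaf 76985) (.leaf 121447))) (.node (.node (.leaf 49689) (.leaf 109977)) (.node (.leaf 97731) (.leaf 137860)))))) (.node (.node (.node (.node (.node (.node (.leaf 772) (.leaf 139787)) (.leaf 68259)) (.node (.leaf 107209) (.leaf 113598))) (.node (.node (.leaf 24137) (.leaf 88508)) (.node (.leaf 58066) (.leaf 130895)))) (.node (.node (.node (.leaf 41618) (.leaf 104402)) (.node (.leaf 54337) (.leaf 119712))) (.node (.node (.leaf 48661) (.leaf 108690)) (.node (.leaf 104976) (.leaf 133837))))) (.node (.node (.node (.node (.leaf 10773) (.leaf 71146)) (.node (.leaf 102847) (.leaf 116728))) (.node (.node (.leaf 25971) (.leaf 93544)) (.node (.leaf 60548) (.leaf 129745)))) (.node (.node (.node (.leaf 115707) (.leaf 114475)) (.node (.leaf 55775) (.leaf 123144))) (.node (.node (.leaf 50787) (.leaf 118148)) (.node (.leaf 95149) (.leaf 137304))))))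
def dFin_176 : BT := .node (.node (.node (.node (.node (.node (.node (.leaf 36044) (.leaf 138665)) (.leaf 105720)) (.node (.leaf 51167) (.leaf 124429))) (.node (.node (.leaf 128324) (.leaf 105100)) (.node (.leaf 93414) (.leaf 124773)))) (.node (.node (.node (.leaf 12192) (.leaf 72749)) (.node (.leaf 95763) (.leaf 118025))) (.node (.node (.leaf 47501) (.leaf 107227)) (.node (.leaf 61871) (.leaf 131713))))) (.node (.node (.node (.node (.node (.leaf 2604) (.leaf 140993)) (.leaf 69284)) (.node (.leaf 97542) (.leaf 115543))) (.node (.node (.leaf 24632) (.leaf 92213)) (.node (.leaf 58615) (.leaf 131220)))) (.node (.node (.node (.leaf 41467) (.leaf 113991)) (.node (.leaf 55093) (.leaf 121365))) (.node (.node (.leaf 49595) (.leaf 109807)) (.node (.leaf 65279) (.leaf 135624)))))) (.node (.node (.node (.node (.node (.node (.leaf 39152) (.leaf 140274)) (.leaf 100033)) (.node (.leaf 58529) (.leaf 113459))) (.node (.node (.leaf 46544) (.leaf 88549)) (.node (.leaf 101121) (.leaf 126435)))) (.node (.node (.node (.leaf 47100) (.leaf 75910)) (.node (.leaf 54397) (.leaf 119542)))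 (.node (.node (.leaf 48634) (.leaf 108746)) (.node (.leaf 63066) (.leaf 133507))))) (.node (.node (.node (.node (.leaf 12087) (.leaf 72213)) (.node (.leaf 53303) (.leaf 116665))) (.node (.node (.leaf 42437) (.leaf 115142)) (.node (.leaf 60445) (.leaf 129576)))) (.node (.node (.node (.leaf 17323) (.leaf 88594)) (.node (.leaf 55771) (.leaf 129753))) (.node (.node (.leaf 50737) (.leaf 111258)) (.node (.leaf 66320) (.leaf 137212))))))
def dFin_183 : BT := .node (.node (.node (.node (.node (.node (.node (.leaf 17116) (.leaf 138763)) (.leaf 67143)) (.node (.leaf 51177) (.leaf 128235))) (.node (.node (.leaf 19351) (.leaf 85937)) (.node (.leaf 56836) (.leaf 124935)))) (.node (.node (.node (.leaf 41564) (.leaf 73781)) (.node (.leaf 53858) (.leaf 118277))) (.node (.node (.leaf 47652) (.leaf 107355)) (.node (.leaf 101559) (.leaf 131940))))) (.node (.node (.node (.node (.leaf 2649) (.leaf 69629)) (.node (.leaf 96512) (.leaf 115149))) (.node (.node (.leaf 24701) (.leaf 92461)) (.node (.leaf 60489) (.leaf 130191)))) (.node (.node (.node (.leaf 51575) (.leaf 95252)) (.node (.leaf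 105959) (.leaf 121533))) (.node (.node (.leaf 49749) (.leaf 111287)) (.node (.leaf 65442) (.leaf 135840)))))) (.node (.node (.node (.node (.node (.node (.leaf 34899) (.leaf 139839)) (.leaf 102571)) (.node (.leaf 52560) (.leaf 113639))) (.node (.node (.leaf 42555) (.leaf 89063)) (.node (.leaf 58007) (.leaf 126304)))) (.node (.node (.node (.leaf 13047) (.leaf 102926)) (.node (.leaf 104421) (.leaf 119681))) (.node (.node (.leaf 48898) (.leaf 108716)) (.node (.leaf 99443) (.leaf 133740))))) (.node (.node (.node (.node (.leaf 10832) (.leaf 71113)) (.node (.leaf 53203) (.leaf 125378))) (.node (.node (.leaf 26023) (.leaf 93585)) (.node (.leaf 60382) (.leaf 129429)))) (.node (.node (.node (.leaf 48826) (.leaf 83417)) (.node (.leaf 100261) (.leaf 123224))) (.node (.node (.leaf 50837) (.leaf 111191)) (.node (.leaf 66326) (.leaf 137349))))))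
def dFin_193 : BT := .node (.node (.node (.node (.node (.node (.node (.leaf 11442) (.leaf 138605)) (.leaf 67334)) (.node (.leaf 51511) (.leaf 129540))) (.node (.node (.leaf 126654) (.leaf 91285)) (.node (.leaf 56423) (.leaf 124667)))) (.node (.node (.node (.leaf 40875) (.leaf 102791)) (.node (.leaf 95079) (.leaf 117793))) (.node (.node (.leaf 47411) (.leaf 107159)) (.node (.leaf 100065) (.leaf 139093))))) (.node (.node (.node (.node (.node (.leaf 2531) (.leaf 140968)) (.leaf 69196)) (.node (.leaf 98239) (.leaf 114823))) (.node (.node (.leaf 50798) (.leaf 91350)) (.node (.leaf 58753) (.leaf 128036)))) (.node (.node (.node (.leaf 14139) (.leaf 99783)) (.node (.leaf 99360) (.leaf 121288))) (.node (.node (.leaf 49481) (.leaf 109924)) (.node (.leaf 96382) (.leaf 135509)))))) (.node (.node (.node (.node (.node (.node (.leaf 37813) (.leaf 140013)) (.leaf 86328)) (.node (.leaf 52019) (.leaf 113408))) (.node (.node (.leaf 23643) (.leaf 88268)) (.node (.leaf 57875) (.leaf 126266)))) (.node (.node (.node (.leaf 12970) (.leaf 104769)) (.node (.leaf 54305) (.leaf 122914)))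 (.node (.node (.leaf 116737) (.leaf 108443)) (.node (.leaf 76496) (.leaf 133262))))) (.node (.node (.node (.node (.leaf 10836) (.leaf 113544)) (.node (.leaf 53170) (.leaf 116610))) (.node (.node (.leaf 41347) (.leaf 122660)) (.node (.leaf 59811) (.leaf 129886)))) (.node (.node (.node (.leaf 46734) (.leaf 82647)) (.node (.leaf 55645) (.leaf 122602))) (.node (.node (.leaf 50583) (.leaf 110702)) (.node (.leaf 66254) (.leaf 137404))))))
def dFin_200 : BT := .node (.node (.node (.node (.node (.node (.node (.leaf 1119) (.leaf 140645)) (.leaf 67207)) (.node (.leaf 56520) (.leaf 122271))) (.node (.node (.leaf 45306) (.leaf 85656)) (.node (.leaf 56149) (.leaf 124853)))) (.node (.node (.node (.leaf 39062) (.leaf 105981)) (.node (.leaf 130911) (.leaf 118093))) (.node (.node (.leaf 99912) (.leaf 107246)) (.node (.leaf 114132) (.leaf 131728))))) (.node (.node (.node (.node (.node (.leaf 40814) (.leaf 141049)) (.leaf 69433)) (.node (.leaf 98163) (.leaf 115093))) (.node (.node (.leaf 24653) (.leaf 108566)) (.node (.leaf 98329) (.leaf 131784)))) (.node (.node (.node (.leaf 65936)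 (.leaf 105813)) (.node (.leaf 55209) (.leaf 121423))) (.node (.node (.leaf 49627) (.leaf 116764)) (.node (.leaf 65317) (.leaf 135652)))))) (.node (.node (.node (.node (.node (.node (.leaf 950) (.leaf 139799)) (.leaf 104967)) (.node (.leaf 52133) (.leaf 113536))) (.node (.node (.leaf 41214) (.leaf 88591)) (.node (.leaf 57952) (.leaf 126790)))) (.node (.node (.node (.leaf 13013) (.leaf 76361)) (.node (.leaf 123166) (.leaf 121368))) (.node (.node (.leaf 48814) (.leaf 108771)) (.node (.leaf 63165) (.leaf 133876))))) (.node (.node (.node (.node (.leaf 10771) (.leaf 105209)) (.node (.leaf 53085) (.leaf 116723))) (.node (.node (.leaf 47164) (.leaf 109248)) (.node (.leaf 98427) (.leaf 129703)))) (.node (.node (.node (.leaf 17337) (.leaf 82849)) (.node (.leaf 97611) (.leaf 123114))) (.node (.node (.leaf 50827) (.leaf 111117)) (.node (.leaf 91856) (.leaf 137298))))))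
def dFin_208 : BT := .node (.node (.node (.node (.node (.node (.node (.leaf 35533) (.leaf 138677)) (.leaf 99150)) (.node (.leaf 51391) (.leaf 112298))) (.node (.node (.leaf 19287) (.leaf 85688)) (.node (.leaf 56356) (.leaf 124749)))) (.node (.node (.node (.leaf 46618) (.leaf 72841)) (.node (.leaf 106685) (.leaf 117993))) (.node (.node (.leaf 47495) (.leaf 107953)) (.node (.leaf 61861) (.leaf 131197))))) (.node (.node (.node (.node (.node (.leaf 8476) (.leaf 140965)) (.leaf 101267)) (.node (.leaf 52729) (.leaf 115006))) (.node (.node (.leaf 37715) (.leaf 114067)) (.node (.leaf 58633) (.leaf 128075)))) (.node (.node (.node (.leaf 47623) (.leaf 79177)) (.node (.leaf 99376) (.leaf 121327))) (.node (.node (.leaf 49577) (.leaf 109821)) (.node (.leaf 65197) (.leaf 135569)))))) (.node (.node (.node (.node (.node (.node (.leaf 1431) (.leaf 140218)) (.leaf 68304)) (.node (.leaf 52159) (.leaf 113457))) (.node (.node (.leaf 48111) (.leaf 88227)) (.node (.leaf 57444) (.leaf 126814)))) (.node (.node (.node (.leaf 14382) (.leaf 101917)) (.node (.leaf 139524) (.leaf 119495)))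 (.node (.node (.leaf 48623) (.leaf 108575)) (.node (.leaf 138652) (.leaf 133559))))) (.node (.node (.node (.node (.leaf 40812) (.leaf 98265)) (.node (.leaf 53082) (.leaf 118280))) (.node (.node (.leaf 25933) (.leaf 93463)) (.node (.leaf 99171) (.leaf 139888)))) (.node (.node (.node (.leaf 118937) (.leaf 82713)) (.node (.leaf 55961) (.leaf 122552))) (.node (.node (.leaf 50703) (.leaf 111309)) (.node (.leaf 66213) (.leaf 137055))))))
def dFin_215 : BT := .node (.node (.node (.node (.node (.node (.node (.leaf 45625) (.leaf 138782)) (.leaf 103036)) (.node (.leaf 51264) (.leaf 125355))) (.node (.node (.leaf 41674) (.leaf 124850)) (.node (.leaf 56724) (.leaf 124950)))) (.node (.node (.node (.leaf 12235) (.leaf 73347)) (.node (.leaf 53801) (.leaf 118247))) (.node (.node (.leaf 47609) (.leaf 107325)) (.node (.leaf 61797) (.leaf 132008))))) (.node (.node (.node (.node (.leaf 2662) (.leaf 105224)) (.node (.leaf 52678) (.leaf 115133))) (.node (.node (.leaf 24695) (.leaf 106716)) (.node (.leaf 97696) (.leaf 128255)))) (.node (.node (.node (.leaf 14301) (.leaf 79531)) (.node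 (.leaf 81402) (.leaf 121513))) (.node (.node (.leaf 49695) (.leaf 110021)) (.node (.leaf 71282) (.leaf 135787)))))) (.node (.node (.node (.node (.node (.node (.leaf 36809) (.leaf 139829)) (.leaf 102356)) (.node (.leaf 97691) (.leaf 120769))) (.node (.node (.leaf 23777) (.leaf 105276)) (.node (.leaf 94201) (.leaf 126700)))) (.node (.node (.node (.leaf 113100) (.leaf 100860)) (.node (.leaf 54795) (.leaf 119746))) (.node (.node (.leaf 48765) (.leaf 108682)) (.node (.leaf 63840) (.leaf 133693))))) (.node (.node (.node (.node (.leaf 10809) (.leaf 71080)) (.node (.leaf 112535) (.leaf 116825))) (.node (.node (.leaf 42611) (.leaf 93847)) (.node (.leaf 101181) (.leaf 129900)))) (.node (.node (.node (.leaf 47344) (.leaf 83335)) (.node (.leaf 55893) (.leaf 123246))) (.node (.node (.leaf 50892) (.leaf 135241)) (.node (.leaf 66513) (.leaf 137684))))))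
def dFin_224 : BT := .node (.node (.node (.node (.node (.node (.node (.leaf 37326) (.leaf 138577)) (.leaf 98325)) (.node (.leaf 51450) (.leaf 112096))) (.node (.node (.leaf 42222) (.leaf 87305)) (.node (.leaf 56370) (.leaf 124714)))) (.node (.node (.node (.leaf 12150) (.leaf 72854)) (.node (.leaf 95142) (.leaf 117785))) (.node (.node (.leaf 47465) (.leaf 107189)) (.node (.leaf 105586) (.leaf 131610))))) (.node (.node (.node (.node (.node (.leaf 45958) (.leaf 140940)) (.leaf 69167)) (.node (.leaf 52752) (.leaf 114915))) (.node (.node (.leaf 46380) (.leaf 101441)) (.node (.leaf 58692) (.leaf 127496)))) (.node (.node (.node (.leaf 50008) (.leaf 79196)) (.node (.leaf 95471) (.leaf 121222))) (.node (.node (.leaf 65190) (.leaf 109814)) (.node (.leaf 79389) (.leaf 135453)))))) (.node (.node (.node (.node (.node (.node (.leaf 1341) (.leaf 139675)) (.leaf 68327)) (.node (.leaf 52066) (.leaf 113375))) (.node (.node (.leaf 23655) (.leaf 88253)) (.node (.leaf 57524) (.leaf 136424)))) (.node (.node (.node (.leaf 46370) (.leaf 103066)) (.node (.leaf 98367) (.leaf 119371))) (.node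 (.node (.leaf 49901) (.leaf 108539)) (.node (.leaf 140516) (.leaf 133590))))) (.node (.node (.node (.node (.leaf 41513) (.leaf 70455)) (.node (.leaf 53123) (.leaf 116624))) (.node (.node (.leaf 40654) (.leaf 93503)) (.node (.leaf 101190) (.leaf 129872)))) (.node (.node (.node (.leaf 17332) (.leaf 82617)) (.node (.leaf 55992) (.leaf 133879))) (.node (.node (.leaf 113332) (.leaf 111386)) (.node (.leaf 66235) (.leaf 137062))))))
def dFin_231 : BT := .node (.node (.node (.node (.node (.node (.node (.leaf 36777) (.leaf 138745)) (.leaf 67160)) (.node (.leaf 51326) (.leaf 128244))) (.node (.node (.leaf 45527) (.leaf 97228)) (.node (.leaf 56750) (.leaf 124919)))) (.node (.node (.node (.leaf 100211) (.leaf 73458)) (.node (.leaf 108695) (.leaf 118202))) (.node (.node (.leaf 47557) (.leaf 107342)) (.node (.leaf 101075) (.leaf 132038))))) (.node (.node (.node (.node (.node (.leaf 2627) (.leaf 141083)) (.leaf 78768)) (.node (.leaf 95674) (.leaf 140518))) (.node (.node (.leaf 24675) (.leaf 108534)) (.node (.leaf 101172) (.leaf 136146)))) (.node (.node (.node (.leaf 42670) (.leaf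 79337)) (.node (.leaf 55176) (.leaf 121467))) (.node (.node (.leaf 49731) (.leaf 109985)) (.node (.leaf 65394) (.leaf 135731)))))) (.node (.node (.node (.node (.node (.node (.leaf 37965) (.leaf 139823)) (.leaf 102969)) (.node (.leaf 52155) (.leaf 113557))) (.node (.node (.leaf 37731) (.leaf 102066)) (.node (.leaf 103915) (.leaf 126722)))) (.node (.node (.node (.leaf 13015) (.leaf 76318)) (.node (.leaf 54842) (.leaf 119727))) (.node (.node (.leaf 105903) (.leaf 109462)) (.node (.leaf 63541) (.leaf 133716))))) (.node (.node (.node (.node (.leaf 32920) (.leaf 103012)) (.node (.leaf 69798) (.leaf 116753))) (.node (.node (.leaf 46400) (.leaf 116427)) (.node (.leaf 122376) (.leaf 129519)))) (.node (.node (.node (.leaf 17370) (.leaf 83350)) (.node (.leaf 97778) (.leaf 123175))) (.node (.node (.leaf 50797) (.leaf 111076)) (.node (.leaf 66572) (.leaf 137241))))))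
def dFin_239 : BT := .node (.node (.node (.node (.node (.node (.node (.leaf 1276) (.leaf 138733)) (.leaf 67252)) (.node (.leaf 102859) (.leaf 112239))) (.node (.node (.leaf 19307) (.leaf 85673)) (.node (.leaf 56662) (.leaf 127049)))) (.node (.node (.node (.leaf 94582) (.leaf 101113)) (.node (.leaf 95820) (.leaf 118061))) (.node (.node (.leaf 47523) (.leaf 107233)) (.node (.leaf 106953) (.leaf 131762))))) (.node (.node (.node (.node (.node (.leaf 38401) (.leaf 141026)) (.leaf 100789)) (.node (.leaf 52704) (.leaf 114969))) (.node (.node (.leaf 40546) (.leaf 109972)) (.node (.leaf 99126) (.leaf 127509)))) (.node (.node (.node (.leaf 46232) (.leaf 79156)) (.node (.leaf 55240) (.leaf 121373))) (.node (.node (.leaf 106024) (.leaf 109910)) (.node (.leaf 65283) (.leaf 135619)))))) (.node (.node (.node (.node (.node (.node (.leaf 35686) (.leaf 139744)) (.leaf 68283)) (.node (.leaf 52088) (.leaf 113530))) (.node (.node (.leaf 48806) (.leaf 105192)) (.node (.leaf 57321) (.leaf 126770)))) (.node (.node (.node (.leaf 114443) (.leaf 75891)) (.node (.leaf 98007) (.leaf 119565)))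 (.node (.node (.leaf 48567) (.leaf 108758)) (.node (.leaf 63685) (.leaf 133491))))) (.node (.node (.node (.node (.leaf 8251) (.leaf 124842)) (.node (.leaf 69820) (.leaf 116687))) (.node (.node (.leaf 50050) (.leaf 110174)) (.node (.leaf 96271) (.leaf 134823)))) (.node (.node (.node (.leaf 42757) (.leaf 82716)) (.node (.leaf 55928) (.leaf 123057))) (.node (.node (.leaf 50741) (.leaf 111151)) (.node (.leaf 72516) (.leaf 137149))))))
def dFin_246 : BT := .node (.node (.node (.node (.node (.node (.node (.leaf 36211) (.leaf 138811)) (.leaf 99159)) (.node (.leaf 51205) (.leaf 127966))) (.node (.node (.leaf 40964) (.leaf 108503)) (.node (.leaf 99716) (.leaf 125337)))) (.node (.node (.node (.leaf 39072) (.leaf 73696)) (.node (.leaf 54087) (.leaf 118302))) (.node (.node (.leaf 116860) (.leaf 107443)) (.node (.leaf 61766) (.leaf 131870))))) (.node (.node (.node (.node (.leaf 46822) (.leaf 101111)) (.node (.leaf 75519) (.leaf 115171))) (.node (.node (.leaf 46403) (.leaf 106746)) (.node (.leaf 97735) (.leaf 128261)))) (.node (.node (.node (.leaf 14289) (.leaf 79483)) (.node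 (.leaf 105940) (.leaf 121596))) (.node (.node (.leaf 50903) (.leaf 110043)) (.node (.leaf 65401) (.leaf 135699)))))) (.node (.node (.node (.node (.node (.node (.leaf 903) (.leaf 139897)) (.leaf 81453)) (.node (.leaf 52643) (.leaf 113685))) (.node (.node (.leaf 49980) (.leaf 111316)) (.node (.leaf 104455) (.leaf 135865)))) (.node (.node (.node (.leaf 36569) (.leaf 102936)) (.node (.leaf 54746) (.leaf 119672))) (.node (.node (.leaf 48733) (.leaf 108664)) (.node (.leaf 63849) (.leaf 133667))))) (.node (.node (.node (.node (.leaf 42638) (.leaf 71190)) (.node (.leaf 112543) (.leaf 116788))) (.node (.node (.leaf 49818) (.leaf 93824)) (.node (.leaf 97474) (.leaf 129451)))) (.node (.node (.node (.leaf 46686) (.leaf 104980)) (.node (.leaf 55860) (.leaf 123255))) (.node (.node (.leaf 50879) (.leaf 111371)) (.node (.leaf 66452) (.leaf 137383))))))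
def dFin_258 : BT := .node (.node (.node (.node (.node (.node (.node (.leaf 34347) (.leaf 138549)) (.leaf 67196)) (.node (.leaf 51338) (.leaf 112061))) (.node (.node (.leaf 45321) (.leaf 106420)) (.node (.leaf 56224) (.leaf 124647)))) (.node (.node (.node (.leaf 45506) (.leaf 72979)) (.node (.leaf 110108) (.leaf 117847))) (.node (.node (.leaf 47385) (.leaf 95446)) (.node (.leaf 100710) (.leaf 131534))))) (.node (.node (.node (.node (.node (.leaf 2523) (.leaf 140869)) (.leaf 118274)) (.node (.leaf 97128) (.leaf 114856))) (.node (.node (.leaf 49241) (.leaf 106606)) (.node (.leaf 58598) (.leaf 133635)))) (.node (.node (.node (.leaf 42373) (.leaf 79271)) (.node (.leaf 55188) (.leaf 121102))) (.node (.node (.leaf 49516) (.leaf 109683)) (.node (.leaf 64982) (.leaf 135373)))))) (.node (.node (.node (.node (.node (.node (.leaf 38425) (.leaf 139617)) (.leaf 69484)) (.node (.leaf 51997) (.leaf 113438))) (.node (.node (.leaf 37645) (.leaf 107926)) (.node (.leaf 102971) (.leaf 126851)))) (.node (.node (.node (.leaf 45089) (.leaf 75975)) (.node (.leaf 54486) (.leaf 130518)))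 (.node (.node (.leaf 129471) (.leaf 115895)) (.node (.leaf 63267) (.leaf 133222))))) (.node (.node (.node (.node (.leaf 32959) (.leaf 105091)) (.node (.leaf 104255) (.leaf 116556))) (.node (.node (.leaf 49719) (.leaf 122672)) (.node (.leaf 105132) (.leaf 129990)))) (.node (.node (.node (.leaf 17207) (.leaf 82247)) (.node (.leaf 64595) (.leaf 133323))) (.node (.node (.leaf 50647) (.leaf 110531)) (.node (.leaf 66192) (.leaf 136983))))))
def dFin_265 : BT := .node (.node (.node (.node (.node (.node (.node (.leaf 574) (.leaf 138685)) (.leaf 75491)) (.node (.leaf 102695) (.leaf 112554))) (.node (.node (.leaf 19390) (.leaf 110883)) (.node (.leaf 99936) (.leaf 135822)))) (.node (.node (.node (.leaf 42135) (.leaf 104237)) (.node (.leaf 54003) (.leaf 118077))) (.node (.node (.leaf 47527) (.leaf 107270)) (.node (.leaf 63872) (.leaf 131780))))) (.node (.node (.node (.node (.node (.leaf 2755) (.leaf 141067)) (.leaf 69776)) (.node (.leaf 97736) (.leaf 114981))) (.node (.node (.leaf 24823) (.leaf 92285)) (.node (.leaf 113607) (.leaf 129452)))) (.node (.node (.node (.leaf 38783)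 (.leaf 105020)) (.node (.leaf 55120) (.leaf 121405))) (.node (.node (.leaf 49650) (.leaf 109939)) (.node (.leaf 65299) (.leaf 135633)))))) (.node (.node (.node (.node (.node (.node (.leaf 46826) (.leaf 139759)) (.leaf 104773)) (.node (.leaf 52123) (.leaf 113508))) (.node (.node (.leaf 46551) (.leaf 115094)) (.node (.leaf 108229) (.leaf 126490)))) (.node (.node (.node (.leaf 12997) (.leaf 75907)) (.node (.leaf 97120) (.leaf 119787))) (.node (.node (.leaf 48593) (.leaf 108650)) (.node (.leaf 63098) (.leaf 133883))))) (.node (.node (.node (.node (.leaf 10625) (.leaf 70865)) (.node (.leaf 53346) (.leaf 120721))) (.node (.node (.leaf 98145) (.leaf 110186)) (.node (.leaf 60460) (.leaf 129607)))) (.node (.node (.node (.leaf 41051) (.leaf 106179)) (.node (.leaf 121474) (.leaf 123125))) (.node (.node (.leaf 50757) (.leaf 130955)) (.node (.leaf 66307) (.leaf 137170))))))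
def dFin_273 : BT := .node (.node (.node (.node (.node (.node (.node (.leaf 37234) (.leaf 138613)) (.leaf 75503)) (.node (.leaf 51218) (.leaf 128080))) (.node (.node (.leaf 40954) (.leaf 85632)) (.node (.leaf 106216) (.leaf 124752)))) (.node (.node (.node (.leaf 45081) (.leaf 72860)) (.node (.leaf 54099) (.leaf 120846))) (.node (.node (.leaf 91778) (.leaf 114216)) (.node (.leaf 61393) (.leaf 131372))))) (.node (.node (.node (.node (.node (.leaf 45634) (.leaf 140939)) (.leaf 116670)) (.node (.leaf 97414) (.leaf 114929))) (.node (.node (.leaf 24620) (.leaf 92264)) (.node (.leaf 70655) (.leaf 127811)))) (.node (.node (.node (.leaf 14155) (.leaf 79099)) (.node (.leaf 99405) (.leaf 121309))) (.node (.node (.leaf 49698) (.leaf 109897)) (.node (.leaf 65131) (.leaf 135549)))))) (.node (.node (.node (.node (.node (.node (.leaf 473) (.leaf 139681)) (.leaf 68402)) (.node (.leaf 52136) (.leaf 113359))) (.node (.node (.leaf 23733) (.leaf 106656)) (.node (.leaf 102976) (.leaf 126812)))) (.node (.node (.node (.leaf 42336) (.leaf 98865)) (.node (.leaf 54426) (.leaf 119405))) (.node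 (.node (.leaf 48535) (.leaf 108551)) (.node (.leaf 63469) (.leaf 133572))))) (.node (.node (.node (.node (.leaf 10643) (.leaf 70468)) (.node (.leaf 139034) (.leaf 116623))) (.node (.node (.leaf 26161) (.leaf 93429)) (.node (.leaf 101207) (.leaf 129883)))) (.node (.node (.node (.leaf 44670) (.leaf 105331)) (.node (.leaf 55872) (.leaf 122887))) (.node (.node (.leaf 50683) (.leaf 132664)) (.node (.leaf 66148) (.leaf 137029))))))
def dFin_280 : BT := .node (.node (.node (.node (.node (.node (.node (.leaf 39362) (.leaf 138774)) (.leaf 139435)) (.node (.leaf 106789) (.leaf 112522))) (.node (.node (.leaf 45035) (.leaf 97246)) (.node (.leaf 124892) (.leaf 124901)))) (.node (.node (.node (.leaf 12225) (.leaf 73386)) (.node (.leaf 99017) (.leaf 118265))) (.node (.node (.leaf 47575) (.leaf 107334)) (.node (.leaf 61700) (.leaf 131978))))) (.node (.node (.node (.node (.node (.leaf 8475) (.leaf 141092)) (.leaf 69684)) (.node (.leaf 52809) (.leaf 115077))) (.node (.node (.leaf 45978) (.leaf 108546)) (.node (.leaf 59291) (.leaf 128185)))) (.node (.node (.node (.leaf 40758) (.leaf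 96461)) (.node (.leaf 55046) (.leaf 121485))) (.node (.node (.leaf 49710) (.leaf 124599)) (.node (.leaf 65352) (.leaf 135810)))))) (.node (.node (.node (.node (.node (.node (.leaf 36644) (.leaf 139860)) (.leaf 68560)) (.node (.leaf 52167) (.leaf 113553))) (.node (.node (.leaf 23771) (.leaf 88843)) (.node (.leaf 94046) (.leaf 126734)))) (.node (.node (.node (.leaf 46731) (.leaf 102673)) (.node (.leaf 54658) (.leaf 124516))) (.node (.node (.leaf 48697) (.leaf 114806)) (.node (.leaf 63557) (.leaf 133791))))) (.node (.node (.node (.node (.leaf 42396) (.leaf 71233)) (.node (.leaf 53250) (.leaf 116769))) (.node (.node (.leaf 25985) (.leaf 93537)) (.node (.leaf 98235) (.leaf 129477)))) (.node (.node (.node (.leaf 17359) (.leaf 115459)) (.node (.leaf 97600) (.leaf 123169))) (.node (.node (.leaf 114446) (.leaf 111323)) (.node (.leaf 66781) (.leaf 137255))))))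
def dFin_289 : BT := .node (.node (.node (.node (.node (.node (.node (.leaf 37552) (.leaf 138563)) (.leaf 98112)) (.node (.leaf 51279) (.leaf 112644))) (.node (.node (.leaf 38579) (.leaf 102158)) (.node (.leaf 56165) (.leaf 124683)))) (.node (.node (.node (.leaf 12168) (.leaf 72923)) (.node (.leaf 113449) (.leaf 117815))) (.node (.node (.leaf 47894) (.leaf 107169)) (.node (.leaf 61513) (.leaf 131506))))) (.node (.node (.node (.node (.node (.leaf 32871) (.leaf 140905)) (.leaf 107746)) (.node (.leaf 101171) (.leaf 114831))) (.node (.node (.leaf 47312) (.leaf 127285)) (.node (.leaf 65894) (.leaf 127596)))) (.node (.node (.node (.leaf 14143) (.leaf 79122)) (.node (.leaf 99491) (.leaf 121298))) (.node (.node (.leaf 49501) (.leaf 109899)) (.node (.leaf 65055) (.leaf 135443)))))) (.node (.node (.node (.node (.node (.node (.leaf 37462) (.leaf 140333)) (.leaf 104787)) (.node (.leaf 52037) (.leaf 128743))) (.node (.node (.leaf 23647) (.leaf 107143)) (.node (.leaf 68196) (.leaf 126830)))) (.node (.node (.node (.leaf 105931) (.leaf 76039)) (.node (.leaf 54457) (.leaf 119440)))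 (.node (.node (.leaf 48560) (.leaf 114578)) (.node (.leaf 63224) (.leaf 133184))))) (.node (.node (.node (.node (.leaf 10742) (.leaf 95803)) (.node (.leaf 138723) (.leaf 116593))) (.node (.node (.leaf 51096) (.leaf 93379)) (.node (.leaf 134091) (.leaf 129917)))) (.node (.node (.node (.leaf 37335) (.leaf 82526)) (.node (.leaf 55653) (.leaf 132655))) (.node (.node (.leaf 50613) (.leaf 117356)) (.node (.leaf 66171) (.leaf 137019))))))
def dFin_296 : BT := .node (.node (.node (.node (.node (.node (.node (.leaf 45814) (.leaf 138711)) (.leaf 105128)) (.node (.leaf 102664) (.leaf 112562))) (.node (.node (.leaf 93334) (.leaf 92039)) (.node (.leaf 100855) (.leaf 124857)))) (.node (.node (.node (.leaf 12211) (.leaf 73406)) (.node (.leaf 79729) (.leaf 118121))) (.node (.node (.leaf 47597) (.leaf 107256)) (.node (.leaf 61832) (.leaf 132047))))) (.node (.node (.node (.node (.node (.leaf 2628) (.leaf 141056)) (.leaf 69731)) (.node (.leaf 52673) (.leaf 115104))) (.node (.node (.leaf 45757) (.leaf 92376)) (.node (.leaf 59316) (.leaf 129809)))) (.node (.node (.node (.leaf 41442)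 (.leaf 104912)) (.node (.leaf 55089) (.leaf 121445))) (.node (.node (.leaf 49643) (.leaf 111787)) (.node (.leaf 65376) (.leaf 135770)))))) (.node (.node (.node (.node (.node (.node (.leaf 923) (.leaf 139792)) (.leaf 100595)) (.node (.leaf 114150) (.leaf 113591))) (.node (.node (.leaf 23963) (.leaf 88542)) (.node (.leaf 136321) (.leaf 126428)))) (.node (.node (.node (.leaf 44710) (.leaf 76186)) (.node (.leaf 54393) (.leaf 119706))) (.node (.node (.leaf 48657) (.leaf 108763)) (.node (.leaf 63049) (.leaf 135540))))) (.node (.node (.node (.node (.leaf 11809) (.leaf 72430)) (.node (.leaf 53299) (.leaf 116724))) (.node (.node (.leaf 42427) (.leaf 93561)) (.node (.leaf 60441) (.leaf 129551)))) (.node (.node (.node (.leaf 17341) (.leaf 100085)) (.node (.leaf 82762) (.leaf 126816))) (.node (.node (.leaf 50785) (.leaf 111315)) (.node (.leaf 100021) (.leaf 137273))))))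
def dFin_304 : BT := .node (.node (.node (.node (.node (.node (.node (.leaf 35645) (.leaf 139044)) (.leaf 105997)) (.node (.leaf 104949) (.leaf 112549))) (.node (.node (.leaf 19291) (.leaf 103268)) (.node (.leaf 56333) (.leaf 124771)))) (.node (.node (.node (.leaf 55319) (.leaf 72826)) (.node (.leaf 54050) (.leaf 118021))) (.node (.node (.leaf 47497) (.leaf 113478)) (.node (.leaf 61754) (.leaf 131225))))) (.node (.node (.node (.node (.node (.leaf 2619) (.leaf 140985)) (.leaf 96281)) (.node (.leaf 97469) (.leaf 115017))) (.node (.node (.leaf 111892) (.leaf 92207)) (.node (.leaf 94550) (.leaf 127646)))) (.node (.node (.node (.leaf 37023) (.leaf 79074)) (.node (.leaf 55153) (.leaf 121359))) (.node (.node (.leaf 49638) (.leaf 109843)) (.node (.leaf 65213) (.leaf 135597)))))) (.node (.node (.node (.node (.node (.node (.leaf 309) (.leaf 139725)) (.leaf 120076)) (.node (.leaf 52192) (.leaf 113451))) (.node (.node (.leaf 23891) (.leaf 105250)) (.node (.leaf 57301) (.leaf 126551)))) (.node (.node (.node (.leaf 13004) (.leaf 75938)) (.node (.leaf 98634) (.leaf 119509)))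 (.node (.node (.leaf 48629) (.leaf 108591)) (.node (.leaf 63347) (.leaf 133479))))) (.node (.node (.node (.node (.leaf 10648) (.leaf 70990)) (.node (.leaf 100840) (.leaf 118292))) (.node (.node (.leaf 35969) (.leaf 93469)) (.node (.leaf 60481) (.leaf 129844)))) (.node (.node (.node (.leaf 41387) (.leaf 87813)) (.node (.leaf 55841) (.leaf 123053))) (.node (.node (.leaf 50719) (.leaf 111019)) (.node (.leaf 73796) (.leaf 137206))))))
def dFin_311 : BT := .node (.node (.node (.node (.node (.node (.node (.leaf 155) (.leaf 138796)) (.leaf 67659)) (.node (.leaf 72844) (.leaf 112463))) (.node (.node (.leaf 125278) (.leaf 85933)) (.node (.leaf 137211) (.leaf 124928)))) (.node (.node (.node (.leaf 46599) (.leaf 73361)) (.node (.leaf 53950) (.leaf 118269))) (.node (.node (.leaf 47666) (.leaf 107446)) (.node (.leaf 61669) (.leaf 131935))))) (.node (.node (.node (.node (.leaf 65379) (.leaf 104539)) (.node (.leaf 52784) (.leaf 115145))) (.node (.node (.leaf 42482) (.leaf 113318)) (.node (.leaf 59267) (.leaf 128168)))) (.node (.node (.node (.leaf 14296) (.leaf 95153)) (.node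 (.leaf 105932) (.leaf 121528))) (.node (.node (.leaf 50293) (.leaf 125901)) (.node (.leaf 97641) (.leaf 135851)))))) (.node (.node (.node (.node (.node (.node (.leaf 4476) (.leaf 139835)) (.leaf 68541)) (.node (.leaf 105065) (.leaf 113627))) (.node (.node (.leaf 24185) (.leaf 88803)) (.node (.leaf 58003) (.leaf 129329)))) (.node (.node (.node (.leaf 41598) (.leaf 119709)) (.node (.leaf 54611) (.leaf 119686))) (.node (.node (.leaf 48752) (.leaf 108724)) (.node (.leaf 92251) (.leaf 133778))))) (.node (.node (.node (.node (.leaf 10815) (.leaf 71141)) (.node (.leaf 102487) (.leaf 116807))) (.node (.node (.leaf 26014) (.leaf 93767)) (.node (.leaf 60544) (.leaf 129458)))) (.node (.node (.node (.leaf 97362) (.leaf 101213)) (.node (.leaf 101779) (.leaf 123220))) (.node (.node (.leaf 65178) (.leaf 111360)) (.node (.leaf 66787) (.leaf 137345))))))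
def dFin_321 : BT := .node (.node (.node (.node (.node (.node (.node (.leaf 34361) (.leaf 138599)) (.leaf 67418)) (.node (.leaf 138886) (.leaf 112063))) (.node (.node (.leaf 19262) (.leaf 85520)) (.node (.leaf 103003) (.leaf 124659)))) (.node (.node (.node (.leaf 12130) (.leaf 104936)) (.node (.leaf 53920) (.leaf 124422))) (.node (.node (.leaf 47407) (.leaf 110242)) (.node (.leaf 61425) (.leaf 131511))))) (.node (.node (.node (.node (.node (.leaf 42739) (.leaf 140932)) (.leaf 88600)) (.node (.leaf 52777) (.leaf 114879))) (.node (.node (.leaf 24204) (.leaf 91378)) (.node (.leaf 59105) (.leaf 127558)))) (.node (.node (.node (.leaf 46168) (.leaf 120885)) (.node (.leaf 99356) (.leaf 121165))) (.node (.node (.leaf 93498) (.leaf 109923)) (.node (.leaf 67745) (.leaf 135505)))))) (.node (.node (.node (.node (.node (.node (.leaf 49924) (.leaf 139629)) (.leaf 67903)) (.node (.leaf 52015) (.leaf 113918))) (.node (.node (.leaf 59140) (.leaf 88353)) (.node (.leaf 57586) (.leaf 126382)))) (.node (.node (.node (.leaf 40865) (.leaf 75873)) (.node (.leaf 54306) (.leaf 125283)))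 (.node (.node (.leaf 48513) (.leaf 108439)) (.node (.leaf 103943) (.leaf 133254))))) (.node (.node (.node (.node (.leaf 8161) (.leaf 70343)) (.node (.leaf 63465) (.leaf 116676))) (.node (.node (.leaf 26019) (.leaf 93357)) (.node (.leaf 59903) (.leaf 134077)))) (.node (.node (.node (.leaf 45950) (.leaf 97684)) (.node (.leaf 134598) (.leaf 122596))) (.node (.node (.leaf 50632) (.leaf 110818)) (.node (.leaf 118901) (.leaf 137005))))))
def dFin_328 : BT := .node (.node (.node (.node (.node (.node (.node (.leaf 34735) (.leaf 138738)) (.leaf 102132)) (.node (.leaf 51387) (.leaf 112294))) (.node (.node (.leaf 19315) (.leaf 85684)) (.node (.leaf 56145) (.leaf 124825)))) (.node (.node (.node (.leaf 12216) (.leaf 101100)) (.node (.leaf 99117) (.leaf 118085))) (.node (.node (.leaf 57777) (.leaf 107300)) (.node (.leaf 61903) (.leaf 131720))))) (.node (.node (.node (.node (.node (.leaf 8194) (.leaf 141044)) (.leaf 69434)) (.node (.leaf 52725) (.leaf 115606))) (.node (.node (.leaf 41301) (.leaf 92378)) (.node (.leaf 59204) (.leaf 129819)))) (.node (.node (.node (.leaf 14233)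 (.leaf 79170)) (.node (.leaf 55042) (.leaf 121415))) (.node (.node (.leaf 49615) (.leaf 109953)) (.node (.leaf 65309) (.leaf 136238)))))) (.node (.node (.node (.node (.node (.node (.leaf 1144) (.leaf 139954)) (.leaf 68288)) (.node (.leaf 52129) (.leaf 113535))) (.node (.node (.leaf 48150) (.leaf 88448)) (.node (.leaf 57996) (.leaf 126748)))) (.node (.node (.node (.leaf 45944) (.leaf 104108)) (.node (.leaf 113442) (.leaf 119771))) (.node (.node (.leaf 48664) (.leaf 108767)) (.node (.leaf 63162) (.leaf 133815))))) (.node (.node (.node (.node (.leaf 40831) (.leaf 108450)) (.node (.leaf 104361) (.leaf 116709))) (.node (.node (.leaf 25963) (.leaf 93512)) (.node (.leaf 96888) (.leaf 129750)))) (.node (.node (.node (.leaf 95036) (.leaf 82841)) (.node (.leaf 55957) (.leaf 123109))) (.node (.node (.leaf 50823) (.leaf 111356)) (.node (.leaf 66309) (.leaf 137150))))))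
def dFin_336 : BT := .node (.node (.node (.node (.node (.node (.node (.leaf 12706) (.leaf 138645)) (.leaf 67306)) (.node (.leaf 51507) (.leaf 112882))) (.node (.node (.leaf 126928) (.leaf 89059)) (.node (.leaf 56351) (.leaf 124745)))) (.node (.node (.node (.leaf 40881) (.leaf 72810)) (.node (.leaf 96627) (.leaf 118028))) (.node (.node (.leaf 47485) (.leaf 107223)) (.node (.leaf 91667) (.leaf 131217))))) (.node (.node (.node (.node (.node (.leaf 2589) (.leaf 140967)) (.leaf 69192)) (.node (.leaf 97553) (.leaf 115035))) (.node (.node (.leaf 45429) (.leaf 92263)) (.node (.leaf 58749) (.leaf 131202)))) (.node (.node (.node (.leaf 47413) (.leaf 114818)) (.node (.leaf 99309) (.leaf 121323))) (.node (.node (.leaf 108315) (.leaf 109828)) (.node (.leaf 65183) (.leaf 135560)))))) (.node (.node (.node (.node (.node (.node (.leaf 35281) (.leaf 139739)) (.leaf 103773)) (.node (.leaf 52109) (.leaf 113367))) (.node (.node (.leaf 23713) (.leaf 88223)) (.node (.leaf 57516) (.leaf 126262)))) (.node (.node (.node (.leaf 13006) (.leaf 106636)) (.node (.leaf 54309) (.leaf 130266)))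 (.node (.node (.leaf 110081) (.leaf 108597)) (.node (.leaf 103975) (.leaf 133555))))) (.node (.node (.node (.node (.leaf 8193) (.leaf 99263)) (.node (.leaf 53166) (.leaf 116647))) (.node (.node (.leaf 41348) (.leaf 93459)) (.node (.leaf 59803) (.leaf 129852)))) (.node (.node (.node (.leaf 47083) (.leaf 82635)) (.node (.leaf 55769) (.leaf 122884))) (.node (.node (.leaf 50772) (.leaf 111182)) (.node (.leaf 66209) (.leaf 137448))))))
def dFin_343 : BT := .node (.node (.node (.node (.node (.node (.node (.leaf 1111) (.leaf 138753)) (.leaf 67200)) (.node (.leaf 56359) (.leaf 128242))) (.node (.node (.leaf 45314) (.leaf 85958)) (.node (.leaf 56768) (.leaf 124946)))) (.node (.node (.node (.leaf 39074) (.leaf 103787)) (.node (.leaf 131136) (.leaf 118242))) (.node (.node (.leaf 100182) (.leaf 107315)) (.node (.leaf 112798) (.leaf 132005))))) (.node (.node (.node (.node (.leaf 36762) (.leaf 69437)) (.node (.leaf 52677) (.leaf 115150))) (.node (.node (.leaf 24685) (.leaf 106723)) (.node (.leaf 97692) (.leaf 129831)))) (.node (.node (.node (.leaf 100931) (.leaf 82094)) (.node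 (.leaf 55205) (.leaf 121509))) (.node (.node (.leaf 49691) (.leaf 125622)) (.node (.leaf 65342) (.leaf 135752)))))) (.node (.node (.node (.node (.node (.node (.leaf 36804) (.leaf 139869)) (.leaf 102303)) (.node (.leaf 52178) (.leaf 113605))) (.node (.node (.leaf 41251) (.leaf 88866)) (.node (.leaf 57935) (.leaf 126698)))) (.node (.node (.node (.leaf 13039) (.leaf 76330)) (.node (.leaf 104228) (.leaf 119724))) (.node (.node (.leaf 48711) (.leaf 108678)) (.node (.leaf 63868) (.leaf 133940))))) (.node (.node (.node (.node (.leaf 10805) (.leaf 103363)) (.node (.leaf 102396) (.leaf 116778))) (.node (.node (.leaf 26001) (.leaf 113074)) (.node (.leaf 97287) (.leaf 129896)))) (.node (.node (.node (.leaf 17363) (.leaf 83363)) (.node (.leaf 97787) (.leaf 123203))) (.node (.node (.leaf 50900) (.leaf 111105)) (.node (.leaf 73200) (.leaf 137362))))))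
def dFin_352 : BT := .node (.node (.node (.node (.node (.node (.node (.leaf 11912) (.leaf 138573)) (.leaf 67360)) (.node (.leaf 106625) (.leaf 112102))) (.node (.node (.leaf 45387) (.leaf 85717)) (.node (.leaf 56470) (.leaf 124707)))) (.node (.node (.node (.leaf 41595) (.leaf 83926)) (.node (.leaf 53870) (.leaf 117794))) (.node (.node (.leaf 47443) (.leaf 110085)) (.node (.leaf 104978) (.leaf 131432))))) (.node (.node (.node (.node (.node (.leaf 2555) (.leaf 140936)) (.leaf 69223)) (.node (.leaf 60540) (.leaf 114836))) (.node (.node (.leaf 24197) (.leaf 91360)) (.node (.leaf 59965) (.leaf 128045)))) (.node (.node (.node (.leaf 42625) (.leaf 106136)) (.node (.leaf 55035) (.leaf 121218))) (.node (.node (.leaf 49543) (.leaf 109808)) (.node (.leaf 65115) (.leaf 135445)))))) (.node (.node (.node (.node (.node (.node (.leaf 45576) (.leaf 139657)) (.leaf 84640)) (.node (.leaf 52051) (.leaf 113405))) (.node (.node (.leaf 42032) (.leaf 108368)) (.node (.leaf 57537) (.leaf 126323)))) (.node (.node (.node (.leaf 12969) (.leaf 98357)) (.node (.leaf 86233) (.leaf 125291)))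 (.node (.node (.leaf 48531) (.leaf 109218)) (.node (.leaf 62942) (.leaf 136602))))) (.node (.node (.node (.node (.leaf 10776) (.leaf 70282)) (.node (.leaf 53215) (.leaf 127333))) (.node (.node (.leaf 50030) (.leaf 93421)) (.node (.leaf 59854) (.leaf 129884)))) (.node (.node (.node (.leaf 44826) (.leaf 82661)) (.node (.leaf 100215) (.leaf 122988))) (.node (.node (.leaf 50657) (.leaf 110751)) (.node (.leaf 96703) (.leaf 137092))))))
def dFin_359 : BT := .node (.node (.node (.node (.node (.node (.node (.leaf 1268) (.leaf 138735)) (.leaf 67248)) (.node (.leaf 57528) (.leaf 112235))) (.node (.node (.leaf 19329) (.leaf 85653)) (.node (.leaf 58105) (.leaf 124879)))) (.node (.node (.node (.leaf 48644) (.leaf 115716)) (.node (.leaf 98412) (.leaf 118198))) (.node (.node (.leaf 47567) (.leaf 107345)) (.node (.leaf 132165) (.leaf 132033))))) (.node (.node (.node (.node (.node (.leaf 41521) (.leaf 141078)) (.leaf 104410)) (.node (.leaf 52700) (.leaf 135590))) (.node (.node (.leaf 40606) (.leaf 106783)) (.node (.leaf 101185) (.leaf 140923)))) (.node (.node (.node (.leaf 44640)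 (.leaf 79137)) (.node (.leaf 55236) (.leaf 121461))) (.node (.node (.leaf 106319) (.leaf 118332)) (.node (.leaf 65371) (.leaf 135781)))))) (.node (.node (.node (.node (.node (.node (.leaf 8695) (.leaf 139817)) (.leaf 68267)) (.node (.leaf 52151) (.leaf 113551))) (.node (.node (.leaf 24794) (.leaf 101959)) (.node (.leaf 57969) (.leaf 126718)))) (.node (.node (.node (.leaf 46366) (.leaf 76398)) (.node (.leaf 101426) (.leaf 119711))) (.node (.node (.leaf 48673) (.leaf 108702)) (.node (.leaf 63537) (.leaf 135511))))) (.node (.node (.node (.node (.leaf 10783) (.leaf 114488)) (.node (.leaf 102797) (.leaf 116749))) (.node (.node (.leaf 49891) (.leaf 93521)) (.node (.leaf 96938) (.leaf 130001)))) (.node (.node (.node (.leaf 42760) (.leaf 83471)) (.node (.leaf 55924) (.leaf 123156))) (.node (.node (.leaf 50793) (.leaf 111136)) (.node (.leaf 73209) (.leaf 137282))))))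
def dFin_367 : BT := .node (.node (.node (.node (.node (.node (.node (.leaf 37029) (.leaf 138673)) (.leaf 77381)) (.node (.leaf 51446) (.leaf 112355))) (.node (.node (.leaf 42225) (.leaf 87222)) (.node (.leaf 56345) (.leaf 124793)))) (.node (.node (.node (.leaf 12188) (.leaf 73478)) (.node (.leaf 95818) (.leaf 118059))) (.node (.node (.leaf 47517) (.leaf 107292)) (.node (.leaf 106814) (.leaf 137776))))) (.node (.node (.node (.node (.node (.leaf 8340) (.leaf 141024)) (.leaf 69163)) (.node (.leaf 52748) (.leaf 114965))) (.node (.node (.leaf 46389) (.leaf 92279)) (.node (.leaf 58627) (.leaf 127503)))) (.node (.node (.node (.leaf 65390) (.leaf 79192)) (.node (.leaf 101456) (.leaf 121361))) (.node (.node (.leaf 49607) (.leaf 109884)) (.node (.leaf 121781) (.leaf 135611)))))) (.node (.node (.node (.node (.node (.node (.leaf 1346) (.leaf 139805)) (.leaf 68323)) (.node (.leaf 59660) (.leaf 113485))) (.node (.node (.leaf 23727) (.leaf 88470)) (.node (.leaf 57315) (.leaf 126764)))) (.node (.node (.node (.leaf 65301) (.leaf 97111)) (.node (.leaf 96239) (.leaf 119558))) (.node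 (.node (.leaf 48573) (.leaf 108599)) (.node (.leaf 106381) (.leaf 133481))))) (.node (.node (.node (.node (.leaf 41515) (.leaf 79870)) (.node (.leaf 53119) (.leaf 120731))) (.node (.node (.leaf 41192) (.leaf 93485)) (.node (.leaf 101625) (.leaf 135835)))) (.node (.node (.node (.leaf 44729) (.leaf 82610)) (.node (.leaf 55988) (.leaf 123196))) (.node (.node (.leaf 112594) (.leaf 111270)) (.node (.leaf 66280) (.leaf 137157))))))
def dFin_374 : BT := .node (.node (.node (.node (.node (.node (.node (.leaf 45622) (.leaf 138808)) (.leaf 67155)) (.node (.leaf 51321) (.leaf 119930))) (.node (.node (.leaf 45518) (.leaf 105595)) (.node (.leaf 56745) (.leaf 133771)))) (.node (.node (.node (.leaf 97465) (.leaf 73720)) (.node (.leaf 111378) (.leaf 118289))) (.node (.node (.leaf 47619) (.leaf 107459)) (.node (.leaf 93866) (.leaf 131952))))) (.node (.node (.node (.node (.leaf 2655) (.leaf 100444)) (.node (.leaf 80098) (.leaf 115167))) (.node (.node (.leaf 46763) (.leaf 106785)) (.node (.leaf 59155) (.leaf 128112)))) (.node (.node (.node (.leaf 42683) (.leaf 79749)) (.node (.leaf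 55172) (.leaf 121549))) (.node (.node (.leaf 49753) (.leaf 110039)) (.node (.leaf 65445) (.leaf 135712)))))) (.node (.node (.node (.node (.node (.node (.leaf 37893) (.leaf 139891)) (.leaf 76951)) (.node (.leaf 52328) (.leaf 113651))) (.node (.node (.leaf 40588) (.leaf 105256)) (.node (.leaf 104984) (.leaf 126634)))) (.node (.node (.node (.leaf 13416) (.leaf 76286)) (.node (.leaf 54838) (.leaf 119633))) (.node (.node (.leaf 119670) (.leaf 109570)) (.node (.leaf 63844) (.leaf 133711))))) (.node (.node (.node (.node (.leaf 11989) (.leaf 122415)) (.node (.leaf 102368) (.leaf 116783))) (.node (.node (.leaf 49285) (.leaf 116356)) (.node (.leaf 97701) (.leaf 129447)))) (.node (.node (.node (.leaf 17381) (.leaf 83346)) (.node (.leaf 64993) (.leaf 123288))) (.node (.node (.leaf 50871) (.leaf 111071)) (.node (.leaf 66568) (.leaf 137375))))))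
def dFin_385 : BT := .node (.node (.node (.node (.node (.node (.node (.leaf 585) (.leaf 138589)) (.leaf 96173)) (.node (.leaf 103821) (.leaf 112065))) (.node (.node (.leaf 45303) (.leaf 106573)) (.node (.leaf 56118) (.leaf 124631)))) (.node (.node (.node (.leaf 42142) (.leaf 73132)) (.node (.leaf 54012) (.leaf 117855))) (.node (.node (.leaf 47395) (.leaf 95450)) (.node (.leaf 100731) (.leaf 131304))))) (.node (.node (.node (.node (.node (.leaf 8373) (.leaf 140892)) (.leaf 69317)) (.node (.leaf 97136) (.leaf 114900))) (.node (.node (.leaf 24898) (.leaf 91406)) (.node (.leaf 103222) (.leaf 128004)))) (.node (.node (.node (.leaf 14220) (.leaf 99549)) (.node (.leaf 55128) (.leaf 121274))) (.node (.node (.leaf 49512) (.leaf 109832)) (.node (.leaf 64793) (.leaf 135494)))))) (.node (.node (.node (.node (.node (.node (.leaf 45646) (.leaf 139625)) (.leaf 92769)) (.node (.leaf 52011) (.leaf 113427))) (.node (.node (.leaf 23769) (.leaf 98577)) (.node (.leaf 131654) (.leaf 126498)))) (.node (.node (.node (.leaf 12939) (.leaf 75936)) (.node (.leaf 82729) (.leaf 119363))) (.node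 (.node (.leaf 48501) (.leaf 108509)) (.node (.leaf 63125) (.leaf 134406))))) (.node (.node (.node (.node (.leaf 8164) (.leaf 70498)) (.node (.leaf 53354) (.leaf 116567))) (.node (.node (.leaf 42341) (.leaf 93345)) (.node (.leaf 59974) (.leaf 129956)))) (.node (.node (.node (.leaf 41186) (.leaf 97955)) (.node (.leaf 101606) (.leaf 125487))) (.node (.node (.leaf 50622) (.leaf 122637)) (.node (.leaf 67824) (.leaf 136987))))))
def dFin_392 : BT := .node (.node (.node (.node (.node (.node (.node (.leaf 37787) (.leaf 138794)) (.leaf 67386)) (.node (.leaf 136984) (.leaf 112410))) (.node (.node (.leaf 19335) (.leaf 85707)) (.node (.leaf 106240) (.leaf 124817)))) (.node (.node (.node (.leaf 12203) (.leaf 101037)) (.node (.leaf 53911) (.leaf 118115))) (.node (.node (.leaf 47539) (.leaf 107298)) (.node (.leaf 61651) (.leaf 131751))))) (.node (.node (.node (.node (.node (.leaf 42394) (.leaf 141036)) (.leaf 104659)) (.node (.leaf 52769) (.leaf 114999))) (.node (.node (.leaf 24649) (.leaf 92289)) (.node (.leaf 59358) (.leaf 127533)))) (.node (.node (.node (.leaf 47025) (.leaf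 121617)) (.node (.leaf 102284) (.leaf 121389))) (.node (.node (.leaf 49652) (.leaf 109947)) (.node (.leaf 65319) (.leaf 135644)))))) (.node (.node (.node (.node (.node (.node (.leaf 946) (.leaf 139763)) (.leaf 68328)) (.node (.leaf 52115) (.leaf 114256))) (.node (.node (.leaf 46517) (.leaf 88593)) (.node (.leaf 58055) (.leaf 126374)))) (.node (.node (.node (.leaf 40712) (.leaf 113059)) (.node (.leaf 102085) (.leaf 119760))) (.node (.node (.leaf 48605) (.leaf 114853)) (.node (.leaf 63156) (.leaf 133871))))) (.node (.node (.node (.node (.leaf 8287) (.leaf 70873)) (.node (.leaf 102824) (.leaf 116721))) (.node (.node (.leaf 46408) (.leaf 93497)) (.node (.leaf 60411) (.leaf 133482)))) (.node (.node (.node (.leaf 44738) (.leaf 104419)) (.node (.leaf 139056) (.leaf 123090))) (.node (.node (.leaf 109967) (.leaf 111237)) (.node (.leaf 91741) (.leaf 137182))))))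
def dFin_400 : BT := .node (.node (.node (.node (.node (.node (.node (.leaf 36151) (.leaf 138633)) (.leaf 106888)) (.node (.leaf 102905) (.leaf 112530))) (.node (.node (.leaf 19281) (.leaf 106992)) (.node (.leaf 128084) (.leaf 124733)))) (.node (.node (.node (.leaf 12147) (.leaf 72692)) (.node (.leaf 97633) (.leaf 117997))) (.node (.node (.leaf 47473) (.leaf 107201)) (.node (.leaf 61401) (.leaf 131205))))) (.node (.node (.node (.node (.node (.leaf 10627) (.leaf 140951)) (.leaf 69248)) (.node (.leaf 52817) (.leaf 114941))) (.node (.node (.leaf 49108) (.leaf 121648)) (.node (.leaf 58819) (.leaf 127707)))) (.node (.node (.node (.leaf 40801) (.leaf 105990)) (.node (.leaf 119618) (.leaf 121343))) (.node (.node (.leaf 49561) (.leaf 109868)) (.node (.leaf 106773) (.leaf 135555)))))) (.node (.node (.node (.node (.node (.node (.leaf 36670) (.leaf 139700)) (.leaf 68384)) (.node (.leaf 52126) (.leaf 113353))) (.node (.node (.leaf 24089) (.leaf 88209)) (.node (.leaf 104391) (.leaf 126824)))) (.node (.node (.node (.leaf 46695) (.leaf 99155)) (.node (.leaf 54370) (.leaf 119487)))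 (.node (.node (.leaf 48543) (.leaf 108573)) (.node (.leaf 63021) (.leaf 133560))))) (.node (.node (.node (.node (.leaf 42392) (.leaf 70452)) (.node (.leaf 53258) (.leaf 116635))) (.node (.node (.leaf 25929) (.leaf 93433)) (.node (.leaf 59791) (.leaf 129510)))) (.node (.node (.node (.leaf 17317) (.leaf 107290)) (.node (.leaf 98089) (.leaf 122538))) (.node (.node (.leaf 50722) (.leaf 111246)) (.node (.leaf 96298) (.leaf 137041))))))
def dFin_407 : BT := .node (.node (.node (.node (.node (.node (.node (.leaf 37413) (.leaf 138770)) (.leaf 67297)) (.node (.leaf 51496) (.leaf 128239))) (.node (.node (.leaf 131767) (.leaf 89243)) (.node (.leaf 56819) (.leaf 124911)))) (.node (.node (.node (.leaf 40788) (.leaf 104471)) (.node (.leaf 98507) (.leaf 118237))) (.node (.node (.leaf 47583) (.leaf 107327)) (.node (.leaf 76972) (.leaf 131984))))) (.node (.node (.node (.node (.leaf 2639) (.leaf 69584)) (.node (.leaf 97938) (.leaf 115117))) (.node (.node (.leaf 45980) (.leaf 92449)) (.node (.leaf 59240) (.leaf 130388)))) (.node (.node (.node (.leaf 14278) (.leaf 95320)) (.node (.leaf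 106086) (.leaf 121493))) (.node (.node (.leaf 49720) (.leaf 110001)) (.node (.leaf 71280) (.leaf 135817)))))) (.node (.node (.node (.node (.node (.node (.leaf 34125) (.leaf 139809)) (.leaf 87085)) (.node (.leaf 52173) (.leaf 113567))) (.node (.node (.leaf 23773) (.leaf 88776)) (.node (.leaf 99981) (.leaf 126253)))) (.node (.node (.node (.leaf 45406) (.leaf 107041)) (.node (.leaf 54509) (.leaf 119739))) (.node (.node (.leaf 48761) (.leaf 108715)) (.node (.leaf 63865) (.leaf 133796))))) (.node (.node (.node (.node (.leaf 10835) (.leaf 96692)) (.node (.leaf 53158) (.leaf 116987))) (.node (.node (.leaf 41532) (.leaf 94302)) (.node (.leaf 60363) (.leaf 132774)))) (.node (.node (.node (.leaf 17351) (.leaf 83406)) (.node (.leaf 97606) (.leaf 123195))) (.node (.node (.leaf 97199) (.leaf 111165)) (.node (.leaf 66745) (.leaf 137269))))))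
def dFin_416 : BT := .node (.node (.node (.node (.node (.node (.node (.leaf 140) (.leaf 138569)) (.leaf 106849)) (.node (.leaf 51163) (.leaf 119022))) (.node (.node (.leaf 131981) (.leaf 110416)) (.node (.leaf 102597) (.leaf 124694)))) (.node (.node (.node (.leaf 12154) (.leaf 72761)) (.node (.leaf 95168) (.leaf 117824))) (.node (.node (.leaf 47431) (.leaf 107173)) (.node (.leaf 61469) (.leaf 132745))))) (.node (.node (.node (.node (.node (.leaf 8396) (.leaf 140915)) (.leaf 69288)) (.node (.leaf 109665) (.leaf 114906))) (.node (.node (.leaf 24183) (.leaf 91388)) (.node (.leaf 58835) (.leaf 131455)))) (.node (.node (.node (.leaf 41407) (.leaf 79242)) (.node (.leaf 55097) (.leaf 121259))) (.node (.node (.leaf 49505) (.leaf 116056)) (.node (.leaf 65136) (.leaf 135534)))))) (.node (.node (.node (.node (.node (.node (.leaf 303) (.leaf 139662)) (.leaf 105629)) (.node (.leaf 52047) (.leaf 113391))) (.node (.node (.leaf 70176) (.leaf 88314)) (.node (.leaf 113416) (.leaf 126439)))) (.node (.node (.node (.leaf 44697) (.leaf 75921)) (.node (.leaf 54401) (.leaf 122744))) (.node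 (.node (.leaf 48970) (.leaf 108525)) (.node (.leaf 63074) (.leaf 137466))))) (.node (.node (.node (.node (.leaf 12010) (.leaf 71579)) (.node (.leaf 53307) (.leaf 116605))) (.node (.node (.leaf 42329) (.leaf 93389)) (.node (.leaf 59959) (.leaf 129929)))) (.node (.node (.node (.leaf 17227) (.leaf 108838)) (.node (.leaf 56005) (.leaf 123030))) (.node (.node (.leaf 99917) (.leaf 110879)) (.node (.leaf 96258) (.leaf 137103))))))
def dFin_423 : BT := .node (.node (.node (.node (.node (.node (.node (.leaf 37299) (.leaf 138715)) (.leaf 67343)) (.node (.leaf 113875) (.leaf 125371))) (.node (.node (.leaf 19325) (.leaf 85645)) (.node (.leaf 56843) (.leaf 125584)))) (.node (.node (.node (.leaf 41967) (.leaf 99824)) (.node (.leaf 53862) (.leaf 118187))) (.node (.node (.leaf 47586) (.leaf 107308)) (.node (.leaf 99317) (.leaf 132020))))) (.node (.node (.node (.node (.node (.leaf 2623) (.leaf 141070)) (.leaf 69633)) (.node (.leaf 95787) (.leaf 115084))) (.node (.node (.leaf 24667) (.leaf 92348)) (.node (.leaf 60506) (.leaf 135330)))) (.node (.node (.node (.leaf 44838) (.leaf 127944))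 (.node (.leaf 91235) (.leaf 121451))) (.node (.node (.leaf 49676) (.leaf 117405)) (.node (.leaf 65407) (.leaf 135777)))))) (.node (.node (.node (.node (.node (.node (.leaf 52072) (.leaf 139791)) (.leaf 84434)) (.node (.leaf 52143) (.leaf 113574))) (.node (.node (.leaf 36485) (.leaf 107644)) (.node (.leaf 58030) (.leaf 126312)))) (.node (.node (.node (.leaf 13026) (.leaf 78764)) (.node (.leaf 54844) (.leaf 123182))) (.node (.node (.leaf 50155) (.leaf 108718)) (.node (.leaf 105385) (.leaf 133848))))) (.node (.node (.node (.node (.leaf 10784) (.leaf 71118)) (.node (.leaf 53207) (.leaf 116739))) (.node (.node (.leaf 25976) (.leaf 99761)) (.node (.leaf 60386) (.leaf 129422)))) (.node (.node (.node (.leaf 49853) (.leaf 83421)) (.node (.leaf 107006) (.leaf 123148))) (.node (.node (.leaf 50763) (.leaf 111196)) (.node (.leaf 102907) (.leaf 137310))))))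
def dFin_431 : BT := .node (.node (.node (.node (.node (.node (.node (.leaf 143) (.leaf 138846)) (.leaf 105712)) (.node (.leaf 107022) (.leaf 112471))) (.node (.node (.leaf 19301) (.leaf 85784)) (.node (.leaf 93454) (.leaf 124777)))) (.node (.node (.node (.leaf 12194) (.leaf 72633)) (.node (.leaf 53958) (.leaf 118055))) (.node (.node (.leaf 47910) (.leaf 107294)) (.node (.leaf 61682) (.leaf 131714))))) (.node (.node (.node (.node (.node (.leaf 11836) (.leaf 140997)) (.leaf 98858)) (.node (.leaf 52792) (.leaf 115029))) (.node (.node (.leaf 42485) (.leaf 107972)) (.node (.leaf 58619) (.leaf 127650)))) (.node (.node (.node (.leaf 14173) (.leaf 79221)) (.node (.leaf 102519) (.leaf 128789))) (.node (.node (.leaf 49666) (.leaf 109933)) (.node (.leaf 65269) (.leaf 135605)))))) (.node (.node (.node (.node (.node (.node (.leaf 35676) (.leaf 139729)) (.leaf 68363)) (.node (.leaf 52076) (.leaf 113469))) (.node (.node (.leaf 23730) (.leaf 88515)) (.node (.leaf 57305) (.leaf 129115)))) (.node (.node (.node (.leaf 41400) (.leaf 95807)) (.node (.leaf 54341) (.leaf 119548))) (.node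 (.node (.leaf 48608) (.leaf 108745)) (.node (.leaf 106577) (.leaf 133608))))) (.node (.node (.node (.node (.leaf 8247) (.leaf 70940)) (.node (.leaf 100881) (.leaf 116669))) (.node (.node (.leaf 25945) (.leaf 93473)) (.node (.leaf 60560) (.leaf 129806)))) (.node (.node (.node (.leaf 107180) (.leaf 107129)) (.node (.leaf 62859) (.leaf 123039))) (.node (.node (.leaf 50729) (.leaf 133610)) (.node (.leaf 95067) (.leaf 137219))))))
def dFin_438 : BT := .node (.node (.node (.node (.node (.node (.node (.leaf 45925) (.leaf 138767)) (.leaf 77070)) (.node (.leaf 51437) (.leaf 112347))) (.node (.node (.leaf 42232) (.leaf 87480)) (.node (.leaf 56796) (.leaf 124942)))) (.node (.node (.node (.leaf 12246) (.leaf 73751)) (.node (.leaf 97393) (.leaf 118272))) (.node (.node (.leaf 47611) (.leaf 117791)) (.node (.leaf 106407) (.leaf 134806))))) (.node (.node (.node (.node (.leaf 8369) (.leaf 69537)) (.node (.leaf 52740) (.leaf 115159))) (.node (.node (.leaf 46778) (.leaf 113296)) (.node (.leaf 59214) (.leaf 135858)))) (.node (.node (.node (.leaf 14269) (.leaf 79649)) (.node (.leaf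 106011) (.leaf 121541))) (.node (.node (.leaf 49745) (.leaf 110033)) (.node (.leaf 70164) (.leaf 135844)))))) (.node (.node (.node (.node (.node (.node (.leaf 1315) (.leaf 139912)) (.leaf 68505)) (.node (.leaf 97550) (.leaf 113643))) (.node (.node (.leaf 23787) (.leaf 88758)) (.node (.leaf 58106) (.leaf 136926)))) (.node (.node (.node (.leaf 46361) (.leaf 102928)) (.node (.leaf 74526) (.leaf 119616))) (.node (.node (.leaf 48727) (.leaf 108736)) (.node (.leaf 129053) (.leaf 133749))))) (.node (.node (.node (.node (.leaf 41501) (.leaf 71207)) (.node (.leaf 53111) (.leaf 119317))) (.node (.node (.leaf 40669) (.leaf 105645)) (.node (.leaf 97456) (.leaf 129435)))) (.node (.node (.node (.leaf 18001) (.leaf 83395)) (.node (.leaf 55980) (.leaf 123233))) (.node (.node (.leaf 101348) (.leaf 111349)) (.node (.leaf 66684) (.leaf 137357))))))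
def dFin_448 : BT := .node (.node (.node (.node (.node (.node (.node (.leaf 34165) (.leaf 138830)) (.leaf 75428)) (.node (.leaf 51395) (.leaf 112069))) (.node (.node (.leaf 19255) (.leaf 85474)) (.node (.leaf 56610) (.leaf 124671)))) (.node (.node (.node (.leaf 44594) (.leaf 140210)) (.node (.leaf 53790) (.leaf 117828))) (.node (.node (.leaf 47419) (.leaf 110246)) (.node (.leaf 99990) (.leaf 131485))))) (.node (.node (.node (.node (.node (.leaf 2708) (.leaf 140920)) (.leaf 69128)) (.node (.leaf 52733) (.leaf 114800))) (.node (.node (.leaf 41277) (.leaf 106298)) (.node (.leaf 58637) (.leaf 131431)))) (.node (.node (.node (.leaf 37017) (.leaf 79181)) (.node (.leaf 55268) (.leaf 121416))) (.node (.node (.leaf 65262) (.leaf 109819)) (.node (.leaf 64875) (.leaf 135516)))))) (.node (.node (.node (.node (.node (.node (.leaf 1424) (.leaf 139639)) (.leaf 67909)) (.node (.leaf 52030) (.leaf 113382))) (.node (.node (.leaf 23987) (.leaf 88240)) (.node (.leaf 57451) (.leaf 135245)))) (.node (.node (.node (.leaf 13762) (.leaf 138262)) (.node (.leaf 107137) (.leaf 119435))) (.node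 (.node (.leaf 110148) (.leaf 108427)) (.node (.leaf 138976) (.leaf 133266))))) (.node (.node (.node (.node (.leaf 38451) (.leaf 107053)) (.node (.leaf 106752) (.leaf 128847))) (.node (.node (.leaf 25909) (.leaf 135986)) (.node (.leaf 59956) (.leaf 129920)))) (.node (.node (.node (.leaf 36891) (.leaf 82774)) (.node (.leaf 55649) (.leaf 122587))) (.node (.node (.leaf 50603) (.leaf 111635)) (.node (.leaf 66218) (.leaf 137013))))))
def dFin_455 : BT := .node (.node (.node (.node (.node (.node (.node (.leaf 37038) (.leaf 138720)) (.leaf 101776)) (.node (.leaf 51271) (.leaf 123440))) (.node (.node (.leaf 41679) (.leaf 103083)) (.node (.leaf 56153) (.leaf 124845)))) (.node (.node (.node (.leaf 39066) (.leaf 73450)) (.node (.leaf 98178) (.leaf 118105))) (.node (.node (.leaf 47551) (.leaf 107250)) (.node (.leaf 61806) (.leaf 131739))))) (.node (.node (.node (.node (.node (.leaf 37382) (.leaf 141053)) (.leaf 116802)) (.node (.leaf 52674) (.leaf 115041))) (.node (.node (.leaf 24692) (.leaf 127925)) (.node (.leaf 80304) (.leaf 128259)))) (.node (.node (.node (.leaf 14235)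 (.leaf 79113)) (.node (.leaf 102375) (.leaf 121427))) (.node (.node (.leaf 49631) (.leaf 109957)) (.node (.leaf 65323) (.leaf 135754)))))) (.node (.node (.node (.node (.node (.node (.leaf 37953) (.leaf 139781)) (.leaf 94297)) (.node (.leaf 59688) (.leaf 113603))) (.node (.node (.leaf 23743) (.leaf 114298)) (.node (.leaf 104092) (.leaf 126753)))) (.node (.node (.node (.leaf 96740) (.leaf 76592)) (.node (.leaf 54449) (.leaf 119781))) (.node (.node (.leaf 48649) (.leaf 108779)) (.node (.leaf 63169) (.leaf 133702))))) (.node (.node (.node (.node (.leaf 10765) (.leaf 115658)) (.node (.leaf 107017) (.leaf 116712))) (.node (.node (.leaf 42616) (.leaf 93552)) (.node (.leaf 122364) (.leaf 129639)))) (.node (.node (.node (.leaf 47282) (.leaf 82853)) (.node (.leaf 55897) (.leaf 123163))) (.node (.node (.leaf 50832) (.leaf 119920)) (.node (.leaf 66317) (.leaf 137232))))))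
def dFin_463 : BT := .node (.node (.node (.node (.node (.node (.node (.leaf 1123) (.leaf 140682)) (.leaf 67211)) (.node (.leaf 102848) (.leaf 112109))) (.node (.node (.leaf 45284) (.leaf 85660)) (.node (.leaf 56274) (.leaf 137521)))) (.node (.node (.node (.leaf 45485) (.leaf 72607)) (.node (.leaf 108781) (.leaf 117999))) (.node (.node (.leaf 97191) (.leaf 107213)) (.node (.leaf 61869) (.leaf 131207))))) (.node (.node (.node (.node (.node (.leaf 36125) (.leaf 140999)) (.leaf 69131)) (.node (.leaf 97528) (.leaf 115008))) (.node (.node (.leaf 24629) (.leaf 92248)) (.node (.leaf 58613) (.leaf 129892)))) (.node (.node (.node (.leaf 48113) (.leaf 79219)) (.node (.leaf 55213) (.leaf 121335))) (.node (.node (.leaf 49583) (.leaf 109847)) (.node (.leaf 65201) (.leaf 135576)))))) (.node (.node (.node (.node (.node (.node (.leaf 34376) (.leaf 139715)) (.leaf 100934)) (.node (.leaf 52097) (.leaf 113486))) (.node (.node (.leaf 41210) (.leaf 88624)) (.node (.leaf 57328) (.leaf 126800)))) (.node (.node (.node (.leaf 12989) (.leaf 75961)) (.node (.leaf 54310) (.leaf 119501))) (.node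 (.node (.leaf 99735) (.leaf 108579)) (.node (.leaf 63296) (.leaf 134792))))) (.node (.node (.node (.node (.leaf 8343) (.leaf 111383)) (.node (.leaf 53081) (.leaf 116698))) (.node (.node (.leaf 25981) (.leaf 93476)) (.node (.leaf 60558) (.leaf 129728)))) (.node (.node (.node (.leaf 17319) (.leaf 82566)) (.node (.leaf 62872) (.leaf 122558))) (.node (.node (.leaf 50707) (.leaf 111122)) (.node (.leaf 72321) (.leaf 137692))))))
def dFin_470 : BT := .node (.node (.node (.node (.node (.node (.node (.leaf 35151) (.leaf 138865)) (.leaf 105240)) (.node (.leaf 57500) (.leaf 112580))) (.node (.node (.leaf 19343) (.leaf 85988)) (.node (.leaf 103704) (.leaf 124948)))) (.node (.node (.node (.leaf 98823) (.leaf 74630)) (.node (.leaf 54042) (.leaf 118252))) (.node (.node (.leaf 47659) (.leaf 113562)) (.node (.leaf 61741) (.leaf 131860))))) (.node (.node (.node (.node (.leaf 2800) (.leaf 92015)) (.node (.leaf 106482) (.leaf 115131))) (.node (.node (.leaf 113649) (.leaf 92543)) (.node (.leaf 97541) (.leaf 128264)))) (.node (.node (.node (.leaf 14305) (.leaf 79451)) (.node (.leaf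 55145) (.leaf 121519))) (.node (.node (.leaf 49701) (.leaf 116618)) (.node (.leaf 65348) (.leaf 135684)))))) (.node (.node (.node (.node (.node (.node (.leaf 34335) (.leaf 139827)) (.leaf 106887)) (.node (.leaf 97546) (.leaf 113609))) (.node (.node (.leaf 46484) (.leaf 111342)) (.node (.leaf 94142) (.leaf 126536)))) (.node (.node (.node (.leaf 13043) (.leaf 76241)) (.node (.leaf 104230) (.leaf 119750))) (.node (.node (.leaf 48769) (.leaf 108635)) (.node (.leaf 63860) (.leaf 133744))))) (.node (.node (.node (.node (.leaf 10791) (.leaf 71181)) (.node (.leaf 102476) (.leaf 116863))) (.node (.node (.leaf 26030) (.leaf 93807)) (.node (.leaf 60473) (.leaf 129905)))) (.node (.node (.node (.leaf 41374) (.leaf 99643)) (.node (.leaf 55833) (.leaf 123213))) (.node (.node (.leaf 50886) (.leaf 111329)) (.node (.leaf 73186) (.leaf 137333))))))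
def dFin_479 : BT := .node (.node (.node (.node (.node (.node (.node (.leaf 1280) (.leaf 138621)) (.leaf 67267)) (.node (.leaf 57694) (.leaf 112100))) (.node (.node (.leaf 19273) (.leaf 85678)) (.node (.leaf 57880) (.leaf 124731)))) (.node (.node (.node (.leaf 49489) (.leaf 72842)) (.node (.leaf 95144) (.leaf 117764))) (.node (.node (.leaf 47455) (.leaf 132667)) (.node (.leaf 105580) (.leaf 131444))))) (.node (.node (.node (.node (.node (.leaf 38069) (.leaf 140945)) (.leaf 98544)) (.node (.leaf 52708) (.leaf 114923))) (.node (.node (.leaf 40558) (.leaf 106225)) (.node (.leaf 59944) (.leaf 128052)))) (.node (.node (.node (.leaf 14162) (.leaf 79160)) (.node (.leaf 55244) (.leaf 121228))) (.node (.node (.leaf 101232) (.leaf 116069)) (.node (.leaf 65119) (.leaf 135465)))))) (.node (.node (.node (.node (.node (.node (.leaf 6418) (.leaf 139671)) (.leaf 68287)) (.node (.leaf 52061) (.leaf 113765))) (.node (.node (.leaf 23885) (.leaf 101621)) (.node (.leaf 57390) (.leaf 126149)))) (.node (.node (.node (.leaf 109200) (.leaf 75995)) (.node (.leaf 98140) (.leaf 119375)))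 (.node (.node (.leaf 48519) (.leaf 108543)) (.node (.leaf 100536) (.leaf 135404))))) (.node (.node (.node (.node (.leaf 8177) (.leaf 94574)) (.node (.leaf 76455) (.leaf 116629))) (.node (.node (.leaf 25927) (.leaf 93523)) (.node (.leaf 62880) (.leaf 131546)))) (.node (.node (.node (.leaf 42749) (.leaf 82749)) (.node (.leaf 55932) (.leaf 122574))) (.node (.node (.leaf 50671) (.leaf 110635)) (.node (.leaf 71205) (.leaf 137058))))))
def dFin_486 : BT := .node (.node (.node (.node (.node (.node (.node (.leaf 36177) (.leaf 138751)) (.leaf 67291)) (.node (.leaf 51210) (.leaf 131512))) (.node (.node (.leaf 40949) (.leaf 97236)) (.node (.leaf 103949) (.leaf 131239)))) (.node (.node (.node (.leaf 44642) (.leaf 73434)) (.node (.leaf 54091) (.leaf 118211))) (.node (.node (.leaf 104951) (.leaf 114337)) (.node (.leaf 61770) (.leaf 131878))))) (.node (.node (.node (.node (.node (.leaf 37390) (.leaf 141087)) (.leaf 106991)) (.node (.leaf 97934) (.leaf 115065))) (.node (.node (.leaf 25370) (.leaf 106780)) (.node (.leaf 101164) (.leaf 128273)))) (.node (.node (.node (.leaf 14255)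 (.leaf 79084)) (.node (.leaf 83805) (.leaf 121514))) (.node (.node (.leaf 49736) (.leaf 109989)) (.node (.leaf 65361) (.leaf 135804)))))) (.node (.node (.node (.node (.node (.node (.leaf 775) (.leaf 139852)) (.leaf 68566)) (.node (.leaf 95090) (.leaf 113561))) (.node (.node (.leaf 24842) (.leaf 106150)) (.node (.leaf 99904) (.leaf 126159)))) (.node (.node (.node (.leaf 42347) (.leaf 104543)) (.node (.leaf 54750) (.leaf 119719))) (.node (.node (.leaf 48685) (.leaf 108668)) (.node (.leaf 63545) (.leaf 133672))))) (.node (.node (.node (.node (.leaf 38072) (.leaf 71197)) (.node (.leaf 102648) (.leaf 116757))) (.node (.node (.leaf 46399) (.leaf 93533)) (.node (.leaf 60308) (.leaf 129531)))) (.node (.node (.node (.leaf 44681) (.leaf 83284)) (.node (.leaf 55864) (.leaf 123185))) (.node (.node (.leaf 50805) (.leaf 120014)) (.node (.leaf 66456) (.leaf 137249))))))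
def dFin_494 : BT := .node (.node (.node (.node (.node (.node (.node (.leaf 36711) (.leaf 138682)) (.leaf 67164)) (.node (.leaf 51330) (.leaf 117966))) (.node (.node (.leaf 45359) (.leaf 85635)) (.node (.leaf 56212) (.leaf 137804)))) (.node (.node (.node (.leaf 12171) (.leaf 73465)) (.node (.leaf 127894) (.leaf 118065))) (.node (.node (.leaf 47521) (.leaf 107277)) (.node (.leaf 61573) (.leaf 131768))))) (.node (.node (.node (.node (.node (.leaf 2603) (.leaf 141009)) (.leaf 104571)) (.node (.leaf 97726) (.leaf 114967))) (.node (.node (.leaf 24673) (.leaf 92281)) (.node (.leaf 59142) (.leaf 127499)))) (.node (.node (.node (.leaf 42360) (.leaf 79228)) (.node (.leaf 55180) (.leaf 121383))) (.node (.node (.leaf 49660) (.leaf 109888)) (.node (.leaf 65287) (.leaf 135623)))))) (.node (.node (.node (.node (.node (.node (.leaf 35661) (.leaf 139743)) (.leaf 104337)) (.node (.leaf 52092) (.leaf 113499))) (.node (.node (.leaf 40535) (.leaf 123130)) (.node (.leaf 124554) (.leaf 126774)))) (.node (.node (.node (.leaf 13419) (.leaf 75897)) (.node (.leaf 54478) (.leaf 124622)))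 (.node (.node (.leaf 108184) (.leaf 109447)) (.node (.leaf 63188) (.leaf 133503))))) (.node (.node (.node (.node (.leaf 36750) (.leaf 127035)) (.node (.leaf 69811) (.leaf 116675))) (.node (.node (.leaf 46397) (.leaf 126810)) (.node (.leaf 96764) (.leaf 129691)))) (.node (.node (.node (.leaf 17344) (.leaf 82539)) (.node (.leaf 65071) (.leaf 123112))) (.node (.node (.leaf 50745) (.leaf 111091)) (.node (.leaf 66288) (.leaf 137160))))))
def dFin_501 : BT := .node (.node (.node (.node (.node (.node (.node (.leaf 562) (.leaf 138803)) (.leaf 67618)) (.node (.leaf 51552) (.leaf 114244))) (.node (.node (.leaf 19368) (.leaf 103418)) (.node (.leaf 99722) (.leaf 132267)))) (.node (.node (.node (.leaf 42076) (.leaf 73746)) (.node (.leaf 53995) (.leaf 118299))) (.node (.node (.leaf 47633) (.leaf 107462)) (.node (.leaf 63950) (.leaf 131842))))) (.node (.node (.node (.node (.leaf 46819) (.leaf 69756)) (.node (.leaf 101644) (.leaf 115175))) (.node (.node (.leaf 24709) (.leaf 92522)) (.node (.leaf 114281) (.leaf 130197)))) (.node (.node (.node (.leaf 47874) (.leaf 98242)) (.node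 (.leaf 55112) (.leaf 122378))) (.node (.node (.leaf 49757) (.leaf 110046)) (.node (.leaf 65405) (.leaf 138356)))))) (.node (.node (.node (.node (.node (.node (.leaf 36848) (.leaf 139901)) (.leaf 106122)) (.node (.leaf 65914) (.leaf 113663))) (.node (.node (.leaf 23795) (.leaf 89309)) (.node (.leaf 105239) (.leaf 126458)))) (.node (.node (.node (.leaf 13427) (.leaf 76195)) (.node (.leaf 104396) (.leaf 121352))) (.node (.node (.leaf 48737) (.leaf 108642)) (.node (.leaf 63792) (.leaf 137073))))) (.node (.node (.node (.node (.leaf 11830) (.leaf 71164)) (.node (.leaf 53338) (.leaf 117443))) (.node (.node (.leaf 42608) (.leaf 105631)) (.node (.leaf 60451) (.leaf 129461)))) (.node (.node (.node (.leaf 41059) (.leaf 94252)) (.node (.leaf 105323) (.leaf 123261))) (.node (.node (.leaf 50883) (.leaf 127081)) (.node (.leaf 66795) (.leaf 137379))))))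
def dFin_514 : BT := .node (.node (.node (.node (.node (.node (.node (.leaf 1131) (.leaf 138624)) (.leaf 67240)) (.node (.leaf 56531) (.leaf 131423))) (.node (.node (.leaf 45366) (.leaf 85441)) (.node (.leaf 56282) (.leaf 124635)))) (.node (.node (.node (.leaf 12926) (.leaf 73341)) (.node (.leaf 110070) (.leaf 117845))) (.node (.node (.leaf 58608) (.leaf 95444)) (.node (.leaf 139016) (.leaf 131532))))) (.node (.node (.node (.node (.node (.leaf 38417) (.leaf 140871)) (.leaf 124680)) (.node (.leaf 97124) (.leaf 129090))) (.node (.node (.leaf 24173) (.leaf 108035)) (.node (.leaf 103216) (.leaf 128009)))) (.node (.node (.node (.leaf 46132) (.leaf 79265)) (.node (.leaf 55218) (.leaf 121098))) (.node (.node (.leaf 49518) (.leaf 109763)) (.node (.leaf 64898) (.leaf 135369)))))) (.node (.node (.node (.node (.node (.node (.leaf 46057) (.leaf 139613)) (.leaf 92767)) (.node (.leaf 51995) (.leaf 113334))) (.node (.node (.leaf 37719) (.leaf 97211)) (.node (.leaf 57339) (.leaf 126843)))) (.node (.node (.node (.leaf 45192) (.leaf 75987)) (.node (.leaf 95442) (.leaf 122777)))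 (.node (.node (.leaf 48489) (.leaf 108497)) (.node (.leaf 63307) (.leaf 133302))))) (.node (.node (.node (.node (.leaf 8157) (.leaf 105102)) (.node (.leaf 53076) (.leaf 116569))) (.node (.node (.leaf 25967) (.leaf 93325)) (.node (.leaf 103318) (.leaf 129988)))) (.node (.node (.node (.leaf 17203) (.leaf 82245)) (.node (.leaf 62547) (.leaf 122570))) (.node (.node (.leaf 50645) (.leaf 110589)) (.node (.leaf 72383) (.leaf 137553))))))
def dFin_521 : BT := .node (.node (.node (.node (.node (.node (.node (.leaf 35406) (.leaf 139170)) (.leaf 67129)) (.node (.leaf 102986) (.leaf 112557))) (.node (.node (.leaf 19309) (.leaf 103113)) (.node (.leaf 56137) (.leaf 124807)))) (.node (.node (.node (.leaf 88715) (.leaf 100451)) (.node (.leaf 54049) (.leaf 118075))) (.node (.node (.leaf 47525) (.leaf 108979)) (.node (.leaf 61753) (.leaf 131778))))) (.node (.node (.node (.node (.node (.leaf 2631) (.leaf 141035)) (.leaf 118083)) (.node (.leaf 97649) (.leaf 114979))) (.node (.node (.leaf 44762) (.leaf 92283)) (.node (.leaf 110374) (.leaf 127519)))) (.node (.node (.node (.leaf 14223)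 (.leaf 79073)) (.node (.leaf 55150) (.leaf 121393))) (.node (.node (.leaf 49654) (.leaf 110049)) (.node (.leaf 65297) (.leaf 135628)))))) (.node (.node (.node (.node (.node (.node (.leaf 1399) (.leaf 139757)) (.leaf 126871)) (.node (.leaf 59777) (.leaf 113521))) (.node (.node (.leaf 23871) (.leaf 140302)) (.node (.leaf 58148) (.leaf 126548)))) (.node (.node (.node (.leaf 12995) (.leaf 75905)) (.node (.leaf 97116) (.leaf 119571))) (.node (.node (.leaf 48591) (.leaf 108660)) (.node (.leaf 63181) (.leaf 133880))))) (.node (.node (.node (.node (.leaf 8283) (.leaf 70863)) (.node (.leaf 101423) (.leaf 118909))) (.node (.node (.leaf 25957) (.leaf 93491)) (.node (.leaf 60478) (.leaf 129794)))) (.node (.node (.node (.leaf 41759) (.leaf 82837)) (.node (.leaf 55838) (.leaf 123118))) (.node (.node (.leaf 50755) (.leaf 111269)) (.node (.leaf 91729) (.leaf 137192))))))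
def dFin_529 : BT := .node (.node (.node (.node (.node (.node (.node (.leaf 45459) (.leaf 138617)) (.leaf 67126)) (.node (.leaf 51276) (.leaf 125008))) (.node (.node (.leaf 41662) (.leaf 85806)) (.node (.leaf 56162) (.leaf 127420)))) (.node (.node (.node (.leaf 12930) (.leaf 72858)) (.node (.leaf 98841) (.leaf 117771))) (.node (.node (.leaf 47461) (.leaf 107195)) (.node (.leaf 61391) (.leaf 131452))))) (.node (.node (.node (.node (.node (.leaf 36728) (.leaf 140935)) (.leaf 103370)) (.node (.leaf 52667) (.leaf 114933))) (.node (.node (.leaf 24678) (.leaf 101439)) (.node (.leaf 70464) (.leaf 127592)))) (.node (.node (.node (.leaf 14153) (.leaf 79121)) (.node (.leaf 58424) (.leaf 121266))) (.node (.node (.leaf 49551) (.leaf 109901)) (.node (.leaf 65127) (.leaf 135537)))))) (.node (.node (.node (.node (.node (.node (.leaf 35956) (.leaf 139703)) (.leaf 68234)) (.node (.leaf 52110) (.leaf 128749))) (.node (.node (.leaf 23659) (.leaf 109715)) (.node (.leaf 57510) (.leaf 126818)))) (.node (.node (.node (.leaf 105018) (.leaf 76036)) (.node (.leaf 54454) (.leaf 119403)))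 (.node (.node (.leaf 48533) (.leaf 108549)) (.node (.leaf 63219) (.leaf 133574))))) (.node (.node (.node (.node (.leaf 8370) (.leaf 71568)) (.node (.leaf 107036) (.leaf 116621))) (.node (.node (.leaf 42597) (.leaf 93427)) (.node (.leaf 115432) (.leaf 129668)))) (.node (.node (.node (.leaf 47204) (.leaf 82518)) (.node (.leaf 55902) (.leaf 122925))) (.node (.node (.leaf 50679) (.leaf 117464)) (.node (.leaf 66168) (.leaf 137025))))))
def dFin_536 : BT := .node (.node (.node (.node (.node (.node (.node (.leaf 45530) (.leaf 138776)) (.leaf 122284)) (.node (.leaf 102993) (.leaf 132826))) (.node (.node (.leaf 122752) (.leaf 111759)) (.node (.leaf 103624) (.leaf 124895)))) (.node (.node (.node (.leaf 12223) (.leaf 73402)) (.node (.leaf 98958) (.leaf 118221))) (.node (.node (.leaf 47573) (.leaf 107336)) (.node (.leaf 61824) (.leaf 131974))))) (.node (.node (.node (.node (.node (.leaf 2635) (.leaf 141090)) (.leaf 69728)) (.node (.leaf 95680) (.leaf 115669))) (.node (.node (.leaf 24686) (.leaf 92515)) (.node (.leaf 59311) (.leaf 130253)))) (.node (.node (.node (.leaf 41448)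 (.leaf 96410)) (.node (.leaf 55086) (.leaf 121483))) (.node (.node (.leaf 49712) (.leaf 110024)) (.node (.leaf 70170) (.leaf 135800)))))) (.node (.node (.node (.node (.node (.node (.leaf 897) (.leaf 139858)) (.leaf 99675)) (.node (.leaf 113124) (.leaf 113547))) (.node (.node (.leaf 24031) (.leaf 88857)) (.node (.leaf 101006) (.leaf 126427)))) (.node (.node (.node (.leaf 44705) (.leaf 76185)) (.node (.leaf 54704) (.leaf 119733))) (.node (.node (.leaf 48693) (.leaf 121396)) (.node (.leaf 63555) (.leaf 133621))))) (.node (.node (.node (.node (.leaf 11445) (.leaf 72429)) (.node (.leaf 53296) (.leaf 116767))) (.node (.node (.leaf 42430) (.leaf 93565)) (.node (.leaf 60438) (.leaf 129545)))) (.node (.node (.node (.leaf 17368) (.leaf 99863)) (.node (.leaf 97596) (.leaf 128041))) (.node (.node (.leaf 50863) (.leaf 113066)) (.node (.leaf 66324) (.leaf 137257))))))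
def dFin_545 : BT := .node (.node (.node (.node (.node (.node (.node (.leaf 34375) (.leaf 138545)) (.leaf 67195)) (.node (.leaf 51337) (.leaf 120761))) (.node (.node (.leaf 45513) (.leaf 101946)) (.node (.leaf 56223) (.leaf 124678)))) (.node (.node (.node (.leaf 12139) (.leaf 72975)) (.node (.leaf 95068) (.leaf 117812))) (.node (.node (.leaf 47848) (.leaf 107167)) (.node (.leaf 93892) (.leaf 131500))))) (.node (.node (.node (.node (.node (.leaf 2533) (.leaf 140903)) (.leaf 113554)) (.node (.leaf 97207) (.leaf 114905))) (.node (.node (.leaf 49815) (.leaf 124180)) (.node (.leaf 103327) (.leaf 128034)))) (.node (.node (.node (.leaf 42698) (.leaf 79259)) (.node (.leaf 55187) (.leaf 121296))) (.node (.node (.leaf 49499) (.leaf 109903)) (.node (.leaf 64881) (.leaf 135527)))))) (.node (.node (.node (.node (.node (.node (.leaf 38057) (.leaf 139660)) (.leaf 103504)) (.node (.leaf 52025) (.leaf 113396))) (.node (.node (.leaf 40560) (.leaf 88189)) (.node (.leaf 102464) (.leaf 139919)))) (.node (.node (.node (.leaf 12990) (.leaf 75972)) (.node (.leaf 54485) (.leaf 122921)))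 (.node (.node (.leaf 112560) (.leaf 108441)) (.node (.leaf 63264) (.leaf 133214))))) (.node (.node (.node (.node (.leaf 8345) (.leaf 71585)) (.node (.leaf 100636) (.leaf 116589))) (.node (.node (.leaf 91931) (.leaf 122662)) (.node (.leaf 105115) (.leaf 129913)))) (.node (.node (.node (.leaf 17225) (.leaf 82552)) (.node (.leaf 64538) (.leaf 122894))) (.node (.node (.leaf 50609) (.leaf 110528)) (.node (.leaf 66191) (.leaf 137070))))))
def dFin_552 : BT := .node (.node (.node (.node (.node (.node (.node (.leaf 573) (.leaf 138709)) (.leaf 67429)) (.node (.leaf 86390) (.leaf 112566))) (.node (.node (.leaf 45706) (.leaf 110895)) (.node (.leaf 103953) (.leaf 138206)))) (.node (.node (.node (.leaf 42747) (.leaf 73488)) (.node (.leaf 54000) (.leaf 118119))) (.node (.node (.leaf 47595) (.leaf 107254)) (.node (.leaf 63846) (.leaf 131744))))) (.node (.node (.node (.node (.node (.leaf 2731) (.leaf 141062)) (.leaf 69775)) (.node (.leaf 97990) (.leaf 115100))) (.node (.node (.leaf 24847) (.leaf 92384)) (.node (.leaf 98992) (.leaf 130249)))) (.node (.node (.node (.leaf 14262)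 (.leaf 104667)) (.node (.leaf 55119) (.leaf 121449))) (.node (.node (.leaf 49641) (.leaf 109975)) (.node (.leaf 65329) (.leaf 135764)))))) (.node (.node (.node (.node (.node (.node (.leaf 51976) (.leaf 139785)) (.leaf 105148)) (.node (.leaf 52149) (.leaf 113589))) (.node (.node (.leaf 23781) (.leaf 101281)) (.node (.leaf 107888) (.leaf 126486)))) (.node (.node (.node (.leaf 13028) (.leaf 76228)) (.node (.leaf 99238) (.leaf 119700))) (.node (.node (.leaf 48690) (.leaf 108649)) (.node (.leaf 63097) (.leaf 135446))))) (.node (.node (.node (.node (.leaf 34343) (.leaf 71172)) (.node (.leaf 53345) (.leaf 116719))) (.node (.node (.leaf 42428) (.leaf 93557)) (.node (.leaf 60459) (.leaf 129587)))) (.node (.node (.node (.leaf 41064) (.leaf 113118)) (.node (.leaf 107003) (.leaf 123139))) (.node (.node (.leaf 50810) (.leaf 119982)) (.node (.leaf 66772) (.leaf 139317))))))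
def dFin_560 : BT := .node (.node (.node (.node (.node (.node (.node (.leaf 36039) (.leaf 138657)) (.leaf 75500)) (.node (.leaf 51217) (.leaf 135634))) (.node (.node (.leaf 41140) (.leaf 103266)) (.node (.leaf 56128) (.leaf 124763)))) (.node (.node (.node (.leaf 46627) (.leaf 72823)) (.node (.leaf 54096) (.leaf 118017))) (.node (.node (.leaf 105059) (.leaf 107942)) (.node (.leaf 61782) (.leaf 131223))))) (.node (.node (.node (.node (.node (.leaf 32891) (.leaf 140983)) (.leaf 107709)) (.node (.leaf 97536) (.leaf 115015))) (.node (.node (.leaf 24892) (.leaf 92205)) (.node (.leaf 101046) (.leaf 127644)))) (.node (.node (.node (.leaf 14171) (.leaf 79096)) (.node (.leaf 99521) (.leaf 121355))) (.node (.node (.leaf 49589) (.leaf 109856)) (.node (.leaf 65211) (.leaf 135583)))))) (.node (.node (.node (.node (.node (.node (.leaf 469) (.leaf 139719)) (.leaf 104122)) (.node (.leaf 107216) (.leaf 113475))) (.node (.node (.leaf 23723) (.leaf 132533)) (.node (.leaf 99804) (.leaf 126151)))) (.node (.node (.node (.leaf 42160) (.leaf 77973)) (.node (.leaf 54425) (.leaf 119507)))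 (.node (.node (.leaf 48627) (.leaf 108589)) (.node (.leaf 63470) (.leaf 133571))))) (.node (.node (.node (.node (.leaf 52042) (.leaf 71010)) (.node (.leaf 101430) (.leaf 116663))) (.node (.node (.leaf 26123) (.leaf 93467)) (.node (.leaf 107387) (.leaf 131499)))) (.node (.node (.node (.leaf 44669) (.leaf 98395)) (.node (.leaf 55871) (.leaf 124648))) (.node (.node (.leaf 50717) (.leaf 120017)) (.node (.leaf 66144) (.leaf 137204))))))
def dFin_567 : BT := .node (.node (.node (.node (.node (.node (.node (.leaf 45614) (.leaf 138761)) (.leaf 98379)) (.node (.leaf 93511) (.leaf 112521))) (.node (.node (.leaf 45723) (.leaf 98869)) (.node (.leaf 108224) (.leaf 124926)))) (.node (.node (.node (.leaf 12248) (.leaf 73359)) (.node (.leaf 98889) (.leaf 118267))) (.node (.node (.leaf 47665) (.leaf 107333)) (.node (.leaf 61699) (.leaf 131930))))) (.node (.node (.node (.node (.leaf 2656) (.leaf 69683)) (.node (.leaf 52806) (.leaf 115141))) (.node (.node (.leaf 49146) (.leaf 106731)) (.node (.leaf 59287) (.leaf 128182)))) (.node (.node (.node (.leaf 40740) (.leaf 95235)) (.node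 (.leaf 106322) (.leaf 121553))) (.node (.node (.leaf 49709) (.leaf 125668)) (.node (.leaf 65387) (.leaf 135832)))))) (.node (.node (.node (.node (.node (.node (.leaf 37033) (.leaf 139863)) (.leaf 68559)) (.node (.leaf 97425) (.leaf 113621))) (.node (.node (.leaf 23790) (.leaf 88839)) (.node (.leaf 94144) (.leaf 127339)))) (.node (.node (.node (.leaf 44492) (.leaf 104443)) (.node (.leaf 54657) (.leaf 119643))) (.node (.node (.leaf 48754) (.leaf 114828)) (.node (.leaf 63739) (.leaf 133754))))) (.node (.node (.node (.node (.leaf 42391) (.leaf 71227)) (.node (.leaf 53249) (.leaf 116809))) (.node (.node (.leaf 26016) (.leaf 93787)) (.node (.leaf 60497) (.leaf 129474)))) (.node (.node (.node (.leaf 47270) (.leaf 101216)) (.node (.leaf 55780) (.leaf 123237))) (.node (.node (.leaf 50890) (.leaf 111340)) (.node (.leaf 66782) (.leaf 137343))))))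
def dFin_577 : BT := .node (.node (.node (.node (.node (.node (.node (.leaf 45212) (.leaf 138595)) (.leaf 95283)) (.node (.leaf 131519) (.leaf 112059))) (.node (.node (.leaf 19260) (.leaf 85536)) (.node (.leaf 137376) (.leaf 124657)))) (.node (.node (.node (.leaf 12197) (.leaf 72649)) (.node (.leaf 53966) (.leaf 117830))) (.node (.node (.leaf 47403) (.leaf 107161)) (.node (.leaf 61445) (.leaf 136375))))) (.node (.node (.node (.node (.node (.leaf 51069) (.leaf 140891)) (.leaf 114693)) (.node (.leaf 52799) (.leaf 114881))) (.node (.node (.leaf 42501) (.leaf 114089)) (.node (.leaf 58840) (.leaf 127676)))) (.node (.node (.node (.leaf 14131) (.leaf 79257)) (.node (.leaf 55033) (.leaf 121285))) (.node (.node (.leaf 50554) (.leaf 109921)) (.node (.leaf 95483) (.leaf 135522)))))) (.node (.node (.node (.node (.node (.node (.leaf 50260) (.leaf 139627)) (.leaf 67899)) (.node (.leaf 59685) (.leaf 113433))) (.node (.node (.leaf 23826) (.leaf 88293)) (.node (.leaf 57634) (.leaf 130975)))) (.node (.node (.node (.leaf 41573) (.leaf 76034)) (.node (.leaf 54346) (.leaf 122691)))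 (.node (.node (.leaf 48511) (.leaf 108512)) (.node (.leaf 100723) (.leaf 134767))))) (.node (.node (.node (.node (.leaf 8159) (.leaf 70401)) (.node (.leaf 61347) (.leaf 116576))) (.node (.node (.leaf 25907) (.leaf 93355)) (.node (.leaf 59969) (.leaf 136979)))) (.node (.node (.node (.leaf 42593) (.leaf 88663)) (.node (.leaf 79991) (.leaf 122594))) (.node (.node (.leaf 50599) (.leaf 122685)) (.node (.leaf 103353) (.leaf 137003))))))
def dFin_584 : BT := .node (.node (.node (.node (.node (.node (.node (.leaf 145) (.leaf 138695)) (.leaf 102128)) (.node (.leaf 51445) (.leaf 112352))) (.node (.node (.leaf 42237) (.leaf 103275)) (.node (.leaf 56143) (.leaf 124823)))) (.node (.node (.node (.leaf 12187) (.leaf 73487)) (.node (.leaf 98168) (.leaf 118126))) (.node (.node (.leaf 61854) (.leaf 107245)) (.node (.leaf 99333) (.leaf 131716))))) (.node (.node (.node (.node (.node (.leaf 8426) (.leaf 141042)) (.leaf 69542)) (.node (.leaf 52747) (.leaf 115047))) (.node (.node (.leaf 45430) (.leaf 103005)) (.node (.leaf 59226) (.leaf 128106)))) (.node (.node (.node (.leaf 47417) (.leaf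 79188)) (.node (.leaf 112796) (.leaf 121413))) (.node (.node (.leaf 49603) (.leaf 109951)) (.node (.leaf 65307) (.leaf 136656)))))) (.node (.node (.node (.node (.node (.node (.leaf 1300) (.leaf 140254)) (.leaf 68308)) (.node (.leaf 52189) (.leaf 113526))) (.node (.node (.leaf 23741) (.leaf 88466)) (.node (.leaf 58146) (.leaf 131026)))) (.node (.node (.node (.leaf 97284) (.leaf 106986)) (.node (.leaf 96217) (.leaf 119769))) (.node (.node (.leaf 48647) (.leaf 108775)) (.node (.leaf 63154) (.leaf 133825))))) (.node (.node (.node (.node (.leaf 41544) (.leaf 72478)) (.node (.leaf 53116) (.leaf 116707))) (.node (.node (.leaf 40625) (.leaf 93505)) (.node (.leaf 60305) (.leaf 129748)))) (.node (.node (.node (.leaf 44730) (.leaf 82839)) (.node (.leaf 55987) (.leaf 123104))) (.node (.node (.leaf 135137) (.leaf 111282)) (.node (.leaf 66305) (.leaf 137154))))))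
def dFin_592 : BT := .node (.node (.node (.node (.node (.node (.node (.leaf 13414) (.leaf 138643)) (.leaf 67348)) (.node (.leaf 101360) (.leaf 134270))) (.node (.node (.leaf 45694) (.leaf 85713)) (.node (.leaf 56349) (.leaf 127419)))) (.node (.node (.node (.leaf 41589) (.leaf 72814)) (.node (.leaf 53869) (.leaf 118007))) (.node (.node (.leaf 47483) (.leaf 108354)) (.node (.leaf 61857) (.leaf 131236))))) (.node (.node (.node (.node (.node (.leaf 2587) (.leaf 141003)) (.leaf 69220)) (.node (.leaf 97491) (.leaf 114947))) (.node (.node (.leaf 24627) (.leaf 92261)) (.node (.leaf 58826) (.leaf 127653)))) (.node (.node (.node (.leaf 42619) (.leaf 106853)) (.node (.leaf 99370) (.leaf 121321))) (.node (.node (.leaf 49573) (.leaf 109824)) (.node (.leaf 65189) (.leaf 135558)))))) (.node (.node (.node (.node (.node (.node (.leaf 37141) (.leaf 139699)) (.leaf 103764)) (.node (.leaf 52107) (.leaf 113365))) (.node (.node (.leaf 42030) (.leaf 107514)) (.node (.leaf 57513) (.leaf 126320)))) (.node (.node (.node (.leaf 12981) (.leaf 86167)) (.node (.leaf 109674) (.leaf 119510)))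 (.node (.node (.leaf 48585) (.leaf 108571)) (.node (.leaf 103947) (.leaf 133552))))) (.node (.node (.node (.node (.leaf 8376) (.leaf 70278)) (.node (.leaf 53212) (.leaf 116655))) (.node (.node (.leaf 47174) (.leaf 101127)) (.node (.leaf 59801) (.leaf 136861)))) (.node (.node (.node (.leaf 108139) (.leaf 82657)) (.node (.leaf 104685) (.leaf 122546))) (.node (.node (.leaf 99927) (.leaf 111212)) (.node (.leaf 96302) (.leaf 137047))))))
def dFin_599 : BT := .node (.node (.node (.node (.node (.node (.node (.leaf 1267) (.leaf 138731)) (.leaf 67244)) (.node (.leaf 57515) (.leaf 112232))) (.node (.node (.leaf 19341) (.leaf 85972)) (.node (.leaf 103969) (.leaf 132086)))) (.node (.node (.node (.leaf 58811) (.leaf 105173)) (.node (.leaf 98668) (.leaf 118240))) (.node (.node (.leaf 47629) (.leaf 107313)) (.node (.leaf 112813) (.leaf 132003))))) (.node (.node (.node (.node (.leaf 41528) (.leaf 104520)) (.node (.leaf 52699) (.leaf 115123))) (.node (.node (.leaf 37859) (.leaf 106737)) (.node (.leaf 97688) (.leaf 130264)))) (.node (.node (.node (.leaf 44639) (.leaf 79581)) (.node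 (.leaf 55235) (.leaf 121501))) (.node (.node (.leaf 103064) (.leaf 137945)) (.node (.leaf 65340) (.leaf 135819)))))) (.node (.node (.node (.node (.node (.node (.leaf 36648) (.leaf 139814)) (.leaf 68470)) (.node (.leaf 52176) (.leaf 113619))) (.node (.node (.leaf 24816) (.leaf 102170)) (.node (.leaf 57957) (.leaf 126715)))) (.node (.node (.node (.leaf 100025) (.leaf 76370)) (.node (.leaf 104226) (.leaf 119745))) (.node (.node (.leaf 48817) (.leaf 108676)) (.node (.leaf 63655) (.leaf 134984))))) (.node (.node (.node (.node (.leaf 10820) (.leaf 71210)) (.node (.leaf 102515) (.leaf 116815))) (.node (.node (.leaf 42594) (.leaf 105232)) (.node (.leaf 101150) (.leaf 130283)))) (.node (.node (.node (.leaf 42763) (.leaf 83468)) (.node (.leaf 55923) (.leaf 123201))) (.node (.node (.leaf 50898) (.leaf 111135)) (.node (.leaf 66788) (.leaf 137285))))))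
def dFin_608 : BT := .node (.node (.node (.node (.node (.node (.node (.leaf 45226) (.leaf 138600)) (.leaf 67402)) (.node (.leaf 100908) (.leaf 112093))) (.node (.node (.leaf 19267) (.leaf 85755)) (.node (.leaf 106696) (.leaf 124703)))) (.node (.node (.node (.leaf 12161) (.leaf 106327)) (.node (.leaf 53916) (.leaf 117761))) (.node (.node (.leaf 47441) (.leaf 107185)) (.node (.leaf 61409) (.leaf 131428))))) (.node (.node (.node (.node (.node (.leaf 35247) (.leaf 140974)) (.leaf 88599)) (.node (.leaf 52774) (.leaf 114835))) (.node (.node (.leaf 24195) (.leaf 91374)) (.node (.leaf 59106) (.leaf 127541)))) (.node (.node (.node (.leaf 37851) (.leaf 120865)) (.node (.leaf 55036) (.leaf 121214))) (.node (.node (.leaf 49562) (.leaf 109865)) (.node (.leaf 65105) (.leaf 135439)))))) (.node (.node (.node (.node (.node (.node (.leaf 47150) (.leaf 139655)) (.leaf 68347)) (.node (.leaf 52049) (.leaf 113935))) (.node (.node (.leaf 46519) (.leaf 88348)) (.node (.leaf 57535) (.leaf 126381)))) (.node (.node (.node (.leaf 40719) (.leaf 103355)) (.node (.leaf 107297) (.leaf 125286)))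 (.node (.node (.leaf 48548) (.leaf 108533)) (.node (.leaf 76477) (.leaf 133604))))) (.node (.node (.node (.node (.leaf 8175) (.leaf 70340)) (.node (.leaf 63474) (.leaf 116894))) (.node (.node (.leaf 49909) (.leaf 93397)) (.node (.leaf 59900) (.leaf 130106)))) (.node (.node (.node (.leaf 46906) (.leaf 97501)) (.node (.leaf 101048) (.leaf 122986))) (.node (.node (.leaf 91996) (.leaf 110809)) (.node (.leaf 124936) (.leaf 137090))))))
def dFin_615 : BT := .node (.node (.node (.node (.node (.node (.node (.leaf 34001) (.leaf 138740)) (.leaf 75395)) (.node (.leaf 51384) (.leaf 112293))) (.node (.node (.leaf 19327) (.leaf 85651)) (.node (.leaf 56866) (.leaf 124873)))) (.node (.node (.node (.leaf 12221) (.leaf 109636)) (.node (.leaf 53799) (.leaf 118181))) (.node (.node (.leaf 91689) (.leaf 113597)) (.node (.leaf 102456) (.leaf 132031))))) (.node (.node (.node (.node (.node (.leaf 10633) (.leaf 141076)) (.leaf 116358)) (.node (.leaf 52722) (.leaf 115634))) (.node (.node (.leaf 41292) (.leaf 106770)) (.node (.leaf 59203) (.leaf 130239)))) (.node (.node (.node (.leaf 14266)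 (.leaf 79135)) (.node (.leaf 105820) (.leaf 121457))) (.node (.node (.leaf 91943) (.leaf 109983)) (.node (.leaf 65339) (.leaf 136473)))))) (.node (.node (.node (.node (.node (.node (.leaf 1138) (.leaf 139876)) (.leaf 68265)) (.node (.leaf 95171) (.leaf 116000))) (.node (.node (.leaf 24015) (.leaf 88447)) (.node (.leaf 57991) (.leaf 126726)))) (.node (.node (.node (.leaf 46014) (.leaf 92033)) (.node (.leaf 108514) (.leaf 119705))) (.node (.node (.leaf 48702) (.leaf 108700)) (.node (.leaf 139800) (.leaf 133807))))) (.node (.node (.node (.node (.leaf 40818) (.leaf 71075)) (.node (.leaf 102644) (.leaf 116772))) (.node (.node (.leaf 25973) (.leaf 93509)) (.node (.leaf 75820) (.leaf 129537)))) (.node (.node (.node (.leaf 117474) (.leaf 83465)) (.node (.leaf 55954) (.leaf 123154))) (.node (.node (.leaf 50791) (.leaf 111310)) (.node (.leaf 66630) (.leaf 137277))))))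
def dFin_623 : BT := .node (.node (.node (.node (.node (.node (.node (.leaf 14028) (.leaf 138671)) (.leaf 67305)) (.node (.leaf 51504) (.leaf 112881))) (.node (.node (.leaf 130082) (.leaf 103272)) (.node (.leaf 56343) (.leaf 124791)))) (.node (.node (.node (.leaf 40873) (.leaf 103898)) (.node (.leaf 53796) (.leaf 118049))) (.node (.node (.leaf 47511) (.leaf 124684)) (.node (.leaf 99369) (.leaf 135394))))) (.node (.node (.node (.node (.node (.leaf 2601) (.leaf 141029)) (.leaf 69191)) (.node (.leaf 59325) (.leaf 114961))) (.node (.node (.leaf 46787) (.leaf 92247)) (.node (.leaf 58625) (.leaf 127511)))) (.node (.node (.node (.leaf 46587) (.leaf 106862)) (.node (.leaf 101459) (.leaf 121357))) (.node (.node (.leaf 51184) (.leaf 109882)) (.node (.leaf 65273) (.leaf 135609)))))) (.node (.node (.node (.node (.node (.node (.leaf 35725) (.leaf 139741)) (.leaf 104128)) (.node (.leaf 52084) (.leaf 113483))) (.node (.node (.leaf 23725) (.leaf 88488)) (.node (.leaf 57311) (.leaf 126261)))) (.node (.node (.node (.leaf 45735) (.leaf 102195)) (.node (.leaf 54312) (.leaf 119513)))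 (.node (.node (.leaf 48612) (.leaf 133413)) (.node (.leaf 121362) (.leaf 133475))))) (.node (.node (.node (.node (.leaf 10780) (.leaf 101598)) (.node (.leaf 53165) (.leaf 121739))) (.node (.node (.leaf 41537) (.leaf 93481)) (.node (.leaf 60368) (.leaf 129782)))) (.node (.node (.node (.leaf 36307) (.leaf 82632)) (.node (.leaf 56007) (.leaf 124660))) (.node (.node (.leaf 50733) (.leaf 111181)) (.node (.leaf 66279) (.leaf 137229))))))
def dFin_630 : BT := .node (.node (.node (.node (.node (.node (.node (.leaf 1108) (.leaf 138988)) (.leaf 67153)) (.node (.leaf 51561) (.leaf 130102))) (.node (.node (.leaf 45514) (.leaf 85945)) (.node (.leaf 56767) (.leaf 127055)))) (.node (.node (.node (.leaf 46565) (.leaf 109586)) (.node (.leaf 131685) (.leaf 118287))) (.node (.node (.leaf 48897) (.leaf 107457)) (.node (.leaf 123924) (.leaf 131950))))) (.node (.node (.node (.node (.leaf 40829) (.leaf 104214)) (.node (.leaf 101641) (.leaf 115190))) (.node (.node (.leaf 24703) (.leaf 106706)) (.node (.leaf 97884) (.leaf 133565)))) (.node (.node (.node (.leaf 104575) (.leaf 97742)) (.node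 (.leaf 55202) (.leaf 121547))) (.node (.node (.leaf 49751) (.leaf 110437)) (.node (.leaf 65389) (.leaf 135732)))))) (.node (.node (.node (.node (.node (.node (.leaf 8723) (.leaf 139883)) (.leaf 101493)) (.node (.leaf 52386) (.leaf 118322))) (.node (.node (.leaf 41274) (.leaf 114962)) (.node (.leaf 57932) (.leaf 126644)))) (.node (.node (.node (.leaf 13430) (.leaf 76326)) (.node (.leaf 104388) (.leaf 119627))) (.node (.node (.leaf 48707) (.leaf 108733)) (.node (.leaf 63842) (.leaf 133768))))) (.node (.node (.node (.node (.leaf 11847) (.leaf 99303)) (.node (.leaf 53092) (.leaf 116780))) (.node (.node (.leaf 25997) (.leaf 105633)) (.node (.leaf 97462) (.leaf 129445)))) (.node (.node (.node (.leaf 17379) (.leaf 83360)) (.node (.leaf 62895) (.leaf 123243))) (.node (.node (.leaf 50869) (.leaf 111101)) (.node (.leaf 66791) (.leaf 137371))))))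
def dFin_641 : BT := .node (.node (.node (.node (.node (.node (.node (.leaf 37983) (.leaf 138994)) (.leaf 67097)) (.node (.leaf 103537) (.leaf 112072))) (.node (.node (.leaf 19249) (.leaf 119816)) (.node (.leaf 102691) (.leaf 131439)))) (.node (.node (.node (.leaf 64029) (.leaf 103531)) (.node (.leaf 54058) (.leaf 117853))) (.node (.node (.leaf 47393) (.leaf 115598)) (.node (.leaf 61493) (.leaf 131352))))) (.node (.node (.node (.node (.node (.leaf 2607) (.leaf 140879)) (.leaf 107095)) (.node (.leaf 118951) (.leaf 114898))) (.node (.node (.leaf 97241) (.leaf 91420)) (.node (.leaf 140046) (.leaf 127780)))) (.node (.node (.node (.leaf 38779) (.leaf 79082)) (.node (.leaf 55158) (.leaf 121272))) (.node (.node (.leaf 49526) (.leaf 109873)) (.node (.leaf 64823) (.leaf 135492)))))) (.node (.node (.node (.node (.node (.node (.leaf 45644) (.leaf 139623)) (.leaf 104995)) (.node (.leaf 52026) (.leaf 113363))) (.node (.node (.leaf 114707) (.leaf 97148)) (.node (.leaf 68201) (.leaf 126556)))) (.node (.node (.node (.leaf 12937) (.leaf 75950)) (.node (.leaf 80530) (.leaf 119421)))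 (.node (.node (.leaf 48499) (.leaf 108507)) (.node (.leaf 63364) (.leaf 133269))))) (.node (.node (.node (.node (.leaf 10793) (.leaf 70550)) (.node (.leaf 103988) (.leaf 116565))) (.node (.node (.leaf 25910) (.leaf 93343)) (.node (.leaf 59972) (.leaf 129969)))) (.node (.node (.node (.leaf 42008) (.leaf 82457)) (.node (.leaf 55658) (.leaf 122793))) (.node (.node (.leaf 50624) (.leaf 110483)) (.node (.leaf 96589) (.leaf 136993))))))
def dFin_648 : BT := .node (.node (.node (.node (.node (.node (.node (.leaf 37285) (.leaf 138789)) (.leaf 67130)) (.node (.leaf 130029) (.leaf 112468))) (.node (.node (.leaf 93205) (.leaf 85705)) (.node (.leaf 101124) (.leaf 124815)))) (.node (.node (.node (.leaf 12954) (.leaf 73377)) (.node (.leaf 53957) (.leaf 118097))) (.node (.node (.leaf 47535) (.leaf 107287)) (.node (.leaf 61681) (.leaf 137636))))) (.node (.node (.node (.node (.node (.leaf 10899) (.leaf 141018)) (.leaf 78675)) (.node (.leaf 52791) (.leaf 114997))) (.node (.node (.leaf 42492) (.leaf 111926)) (.node (.leaf 59279) (.leaf 127529)))) (.node (.node (.node (.leaf 14215)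 (.leaf 81517)) (.node (.leaf 76971) (.leaf 121403))) (.node (.node (.leaf 49625) (.leaf 109962)) (.node (.leaf 93023) (.leaf 135627)))))) (.node (.node (.node (.node (.node (.node (.leaf 770) (.leaf 139761)) (.leaf 68348)) (.node (.leaf 59644) (.leaf 113515))) (.node (.node (.leaf 46159) (.leaf 88511)) (.node (.leaf 58073) (.leaf 128382)))) (.node (.node (.node (.leaf 41402) (.leaf 104100)) (.node (.leaf 54338) (.leaf 119756))) (.node (.node (.leaf 48603) (.leaf 114841)) (.node (.leaf 63506) (.leaf 133866))))) (.node (.node (.node (.node (.leaf 8285) (.leaf 70871)) (.node (.leaf 61355) (.leaf 116693))) (.node (.node (.leaf 25961) (.leaf 93495)) (.node (.leaf 60551) (.leaf 129742)))) (.node (.node (.node (.leaf 50469) (.leaf 102187)) (.node (.leaf 97761) (.leaf 123088))) (.node (.node (.leaf 50789) (.leaf 111293)) (.node (.leaf 70193) (.leaf 137180))))))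
def dFin_656 : BT := .node (.node (.node (.node (.node (.node (.node (.leaf 45613) (.leaf 138631)) (.leaf 118946)) (.node (.leaf 102842) (.leaf 123995))) (.node (.node (.leaf 93091) (.leaf 110304)) (.node (.leaf 114030) (.leaf 124727)))) (.node (.node (.node (.leaf 12145) (.leaf 72750)) (.node (.leaf 79766) (.leaf 117780))) (.node (.node (.leaf 47471) (.leaf 107199)) (.node (.leaf 61399) (.leaf 131198))))) (.node (.node (.node (.node (.node (.leaf 36975) (.leaf 140949)) (.leaf 69287)) (.node (.leaf 105063) (.leaf 115404))) (.node (.node (.leaf 24630) (.leaf 92257)) (.node (.leaf 58817) (.leaf 128062)))) (.node (.node (.node (.leaf 41491) (.leaf 79224)) (.node (.leaf 55094) (.leaf 121315))) (.node (.node (.leaf 49559) (.leaf 109867)) (.node (.leaf 65185) (.leaf 135545)))))) (.node (.node (.node (.node (.node (.node (.leaf 45130) (.leaf 139689)) (.leaf 113099)) (.node (.leaf 114360) (.leaf 113349))) (.node (.node (.leaf 58512) (.leaf 88207)) (.node (.leaf 106569) (.leaf 126436)))) (.node (.node (.node (.leaf 44698) (.leaf 75918)) (.node (.leaf 54398) (.leaf 119485)))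 (.node (.node (.leaf 48541) (.leaf 108594)) (.node (.leaf 63069) (.leaf 133431))))) (.node (.node (.node (.node (.leaf 12034) (.leaf 70486)) (.node (.leaf 53304) (.leaf 116633))) (.node (.node (.leaf 42421) (.leaf 93562)) (.node (.leaf 59789) (.leaf 129580)))) (.node (.node (.node (.leaf 17311) (.leaf 88597)) (.node (.leaf 55995) (.leaf 125353))) (.node (.node (.leaf 50724) (.leaf 111257)) (.node (.leaf 95651) (.leaf 137051))))))
def dFin_663 : BT := .node (.node (.node (.node (.node (.node (.node (.leaf 16968) (.leaf 138772)) (.leaf 67295)) (.node (.leaf 51789) (.leaf 112577))) (.node (.node (.leaf 19344) (.leaf 86012)) (.node (.leaf 56839) (.leaf 124916)))) (.node (.node (.node (.leaf 41478) (.leaf 73349)) (.node (.leaf 53861) (.leaf 118233))) (.node (.node (.leaf 47581) (.leaf 118230)) (.node (.leaf 101552) (.leaf 131996))))) (.node (.node (.node (.node (.leaf 2637) (.leaf 69630)) (.node (.leaf 95687) (.leaf 115083))) (.node (.node (.leaf 24683) (.leaf 92469)) (.node (.leaf 60501) (.leaf 128109)))) (.node (.node (.node (.leaf 94517) (.leaf 125688)) (.node (.leaf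 91232) (.leaf 121491))) (.node (.node (.leaf 49675) (.leaf 109999)) (.node (.leaf 113646) (.leaf 135815)))))) (.node (.node (.node (.node (.node (.node (.leaf 45939) (.leaf 139840)) (.leaf 84875)) (.node (.leaf 52171) (.leaf 113565))) (.node (.node (.leaf 42505) (.leaf 88903)) (.node (.leaf 58018) (.leaf 126311)))) (.node (.node (.node (.leaf 13025) (.leaf 100879)) (.node (.leaf 104220) (.leaf 124644))) (.node (.node (.leaf 65112) (.leaf 108713)) (.node (.leaf 106821) (.leaf 133805))))) (.node (.node (.node (.node (.leaf 10831) (.leaf 71117)) (.node (.leaf 53204) (.leaf 116828))) (.node (.node (.leaf 25992) (.leaf 113056)) (.node (.leaf 60385) (.leaf 136728)))) (.node (.node (.node (.leaf 49348) (.leaf 83418)) (.node (.leaf 104293) (.leaf 123193))) (.node (.node (.leaf 50841) (.leaf 111195)) (.node (.leaf 74494) (.leaf 137265))))))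
def dFin_672 : BT := .node (.node (.node (.node (.node (.node (.node (.leaf 581) (.leaf 138567)) (.leaf 77661)) (.node (.leaf 84254) (.leaf 112087))) (.node (.node (.leaf 45715) (.leaf 106865)) (.node (.leaf 102592) (.leaf 124709)))) (.node (.node (.node (.leaf 42147) (.leaf 73096)) (.node (.leaf 54008) (.leaf 117822))) (.node (.node (.leaf 47429) (.leaf 107171)) (.node (.leaf 99997) (.leaf 131303))))) (.node (.node (.node (.node (.node (.leaf 2549) (.leaf 140990)) (.leaf 69314)) (.node (.leaf 101179) (.leaf 114812))) (.node (.node (.leaf 24189) (.leaf 91402)) (.node (.leaf 59395) (.leaf 129757)))) (.node (.node (.node (.leaf 48020) (.leaf 102575)) (.node (.leaf 55127) (.leaf 121211))) (.node (.node (.leaf 49503) (.leaf 109783)) (.node (.leaf 64782) (.leaf 135450)))))) (.node (.node (.node (.node (.node (.node (.leaf 9754) (.leaf 139651)) (.leaf 103763)) (.node (.leaf 52045) (.leaf 113388))) (.node (.node (.leaf 24156) (.leaf 105050)) (.node (.leaf 136459) (.leaf 126497)))) (.node (.node (.node (.leaf 12967) (.leaf 75935)) (.node (.leaf 82714) (.leaf 136068)))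 (.node (.node (.leaf 48943) (.leaf 108483)) (.node (.leaf 63122) (.leaf 133587))))) (.node (.node (.node (.node (.leaf 8171) (.leaf 70497)) (.node (.leaf 53353) (.leaf 133500))) (.node (.node (.leaf 42317) (.leaf 93385)) (.node (.leaf 59955) (.leaf 129927)))) (.node (.node (.node (.leaf 40695) (.leaf 103167)) (.node (.leaf 70761) (.leaf 133865))) (.node (.node (.leaf 50621) (.leaf 137026)) (.node (.leaf 67823) (.leaf 137077))))))
def dFin_679 : BT := .node (.node (.node (.node (.node (.node (.node (.leaf 36775) (.leaf 138848)) (.leaf 67385)) (.node (.leaf 113889) (.leaf 112409))) (.node (.node (.leaf 19347) (.leaf 85643)) (.node (.leaf 92591) (.leaf 124863)))) (.node (.node (.node (.leaf 44621) (.leaf 99822)) (.node (.leaf 53908) (.leaf 118182))) (.node (.node (.leaf 47588) (.leaf 115013)) (.node (.leaf 61648) (.leaf 132016))))) (.node (.node (.node (.node (.node (.leaf 42412) (.leaf 141068)) (.leaf 104797)) (.node (.leaf 52766) (.leaf 115086))) (.node (.node (.leaf 24665) (.leaf 92362)) (.node (.leaf 59357) (.leaf 128158)))) (.node (.node (.node (.leaf 44609)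 (.leaf 126891)) (.node (.leaf 105818) (.leaf 127954))) (.node (.node (.leaf 108520) (.leaf 109992)) (.node (.leaf 65365) (.leaf 135773)))))) (.node (.node (.node (.node (.node (.node (.leaf 966) (.leaf 139789)) (.leaf 68261)) (.node (.leaf 52141) (.leaf 114345))) (.node (.node (.leaf 54506) (.leaf 88588)) (.node (.leaf 58048) (.leaf 126370)))) (.node (.node (.node (.leaf 40910) (.leaf 76083)) (.node (.leaf 102723) (.leaf 119753))) (.node (.node (.leaf 48663) (.leaf 108726)) (.node (.leaf 76458) (.leaf 133840))))) (.node (.node (.node (.node (.leaf 10775) (.leaf 71132)) (.node (.leaf 102840) (.leaf 116741))) (.node (.node (.leaf 26025) (.leaf 93542)) (.node (.leaf 60408) (.leaf 129523)))) (.node (.node (.node (.leaf 47730) (.leaf 106337)) (.node (.leaf 139256) (.leaf 123146))) (.node (.node (.leaf 97334) (.leaf 111226)) (.node (.leaf 110251) (.leaf 137306))))))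
def dFin_687 : BT := .node (.node (.node (.node (.node (.node (.node (.leaf 35673) (.leaf 138667)) (.leaf 105708)) (.node (.leaf 102821) (.leaf 112529))) (.node (.node (.leaf 19297) (.leaf 118284)) (.node (.leaf 72848) (.leaf 124775)))) (.node (.node (.node (.leaf 12190) (.leaf 72691)) (.node (.leaf 97875) (.leaf 118041))) (.node (.node (.leaf 47503) (.leaf 107229)) (.node (.leaf 61712) (.leaf 131756))))) (.node (.node (.node (.node (.node (.leaf 8401) (.leaf 140995)) (.leaf 69247)) (.node (.leaf 52814) (.leaf 115022))) (.node (.node (.leaf 49053) (.leaf 121052)) (.node (.leaf 58617) (.leaf 127648)))) (.node (.node (.node (.leaf 40777) (.leaf 79027)) (.node (.leaf 55039) (.leaf 121386))) (.node (.node (.leaf 49597) (.leaf 109874)) (.node (.leaf 108164) (.leaf 135594)))))) (.node (.node (.node (.node (.node (.node (.leaf 35003) (.leaf 139795)) (.leaf 68383)) (.node (.leaf 52183) (.leaf 113465))) (.node (.node (.leaf 24113) (.leaf 88533)) (.node (.leaf 106238) (.leaf 127099)))) (.node (.node (.node (.leaf 47404) (.leaf 97845)) (.node (.leaf 54369) (.leaf 119547)))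 (.node (.node (.leaf 48610) (.leaf 108751)) (.node (.leaf 63018) (.leaf 133489))))) (.node (.node (.node (.node (.leaf 42407) (.leaf 71048)) (.node (.leaf 53257) (.leaf 116667))) (.node (.node (.leaf 25943) (.leaf 93471)) (.node (.leaf 60513) (.leaf 129506)))) (.node (.node (.node (.leaf 17348) (.leaf 107134)) (.node (.leaf 105466) (.leaf 123037))) (.node (.node (.leaf 50758) (.leaf 111262)) (.node (.leaf 66294) (.leaf 137217))))))
def dFin_694 : BT := .node (.node (.node (.node (.node (.node (.node (.leaf 45923) (.leaf 138765)) (.leaf 67147)) (.node (.leaf 51495) (.leaf 112578))) (.node (.node (.leaf 125517) (.leaf 89108)) (.node (.leaf 56816) (.leaf 124940)))) (.node (.node (.node (.leaf 40856) (.leaf 106609)) (.node (.leaf 97310) (.leaf 118279))) (.node (.node (.leaf 47650) (.leaf 114568)) (.node (.leaf 76975) (.leaf 131942))))) (.node (.node (.node (.node (.leaf 2651) (.leaf 69583)) (.node (.leaf 96516) (.leaf 116742))) (.node (.node (.leaf 46785) (.leaf 92441)) (.node (.leaf 59236) (.leaf 131726)))) (.node (.node (.node (.leaf 14275) (.leaf 103022)) (.node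 (.leaf 106535) (.leaf 121535))) (.node (.node (.leaf 49762) (.leaf 110031)) (.node (.leaf 65396) (.leaf 135842)))))) (.node (.node (.node (.node (.node (.node (.leaf 34055) (.leaf 140401)) (.leaf 102589)) (.node (.leaf 52502) (.leaf 113641))) (.node (.node (.leaf 23785) (.leaf 88772)) (.node (.leaf 58009) (.leaf 126246)))) (.node (.node (.node (.leaf 13420) (.leaf 139981)) (.node (.leaf 104386) (.leaf 119612))) (.node (.node (.leaf 48723) (.leaf 108743)) (.node (.leaf 63862) (.leaf 133743))))) (.node (.node (.node (.node (.leaf 10839) (.leaf 96473)) (.node (.leaf 53157) (.leaf 116926))) (.node (.node (.leaf 41355) (.leaf 105655)) (.node (.leaf 60360) (.leaf 129431)))) (.node (.node (.node (.leaf 17398) (.leaf 83405)) (.node (.leaf 97367) (.leaf 123229))) (.node (.node (.leaf 50851) (.leaf 111161)) (.node (.leaf 66742) (.leaf 137353))))))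
def dFin_704 : BT := .node (.node (.node (.node (.node (.node (.node (.leaf 32999) (.leaf 138607)) (.leaf 77512)) (.node (.leaf 51453) (.leaf 112067))) (.node (.node (.leaf 38917) (.leaf 90329)) (.node (.leaf 56373) (.leaf 124669)))) (.node (.node (.node (.leaf 12127) (.leaf 73102)) (.node (.leaf 95125) (.leaf 117796))) (.node (.node (.leaf 47446) (.leaf 107163)) (.node (.leaf 99943) (.leaf 131482))))) (.node (.node (.node (.node (.node (.leaf 8499) (.leaf 140910)) (.leaf 69168)) (.node (.leaf 52755) (.leaf 121391))) (.node (.node (.leaf 46393) (.leaf 106055)) (.node (.leaf 58695) (.leaf 128047)))) (.node (.node (.node (.leaf 94546) (.leaf 79199)) (.node (.leaf 135552) (.leaf 121290))) (.node (.node (.leaf 49493) (.leaf 109926)) (.node (.leaf 96384) (.leaf 135512)))))) (.node (.node (.node (.node (.node (.node (.leaf 1338) (.leaf 139643)) (.leaf 67907)) (.node (.leaf 52054) (.leaf 113376))) (.node (.node (.leaf 23645) (.leaf 88254)) (.node (.leaf 57685) (.leaf 135744)))) (.node (.node (.node (.leaf 50560) (.leaf 103069)) (.node (.leaf 71250) (.leaf 119438))) (.node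 (.node (.leaf 49804) (.leaf 108425)) (.node (.leaf 104884) (.leaf 133264))))) (.node (.node (.node (.node (.leaf 38449) (.leaf 107695)) (.node (.leaf 53124) (.leaf 133486))) (.node (.node (.leaf 40661) (.leaf 93377)) (.node (.leaf 101228) (.leaf 129971)))) (.node (.node (.node (.leaf 39129) (.leaf 82625)) (.node (.leaf 55647) (.leaf 125495))) (.node (.node (.leaf 107133) (.leaf 122818)) (.node (.leaf 66236) (.leaf 137011))))))
def dFin_711 : BT := .node (.node (.node (.node (.node (.node (.node (.leaf 37789) (.leaf 138705)) (.leaf 67163)) (.node (.leaf 51329) (.leaf 136872))) (.node (.node (.leaf 45337) (.leaf 101260)) (.node (.leaf 56151) (.leaf 124831)))) (.node (.node (.node (.leaf 50217) (.leaf 73462)) (.node (.leaf 127899) (.leaf 118099))) (.node (.node (.leaf 47675) (.leaf 107248)) (.node (.leaf 61837) (.leaf 131731))))) (.node (.node (.node (.node (.node (.leaf 2615) (.leaf 141051)) (.leaf 104683)) (.node (.leaf 138299) (.leaf 140452))) (.node (.node (.leaf 24689) (.leaf 106404)) (.node (.leaf 96117) (.leaf 137100)))) (.node (.node (.node (.leaf 42679) (.leaf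 79322)) (.node (.leaf 55179) (.leaf 121425))) (.node (.node (.leaf 49629) (.leaf 109955)) (.node (.leaf 81560) (.leaf 135656)))))) (.node (.node (.node (.node (.node (.node (.leaf 37984) (.leaf 139775)) (.leaf 76660)) (.node (.leaf 52135) (.leaf 113583))) (.node (.node (.leaf 40528) (.leaf 88405)) (.node (.leaf 104313) (.leaf 126755)))) (.node (.node (.node (.leaf 13720) (.leaf 76321)) (.node (.leaf 54477) (.leaf 119776))) (.node (.node (.leaf 105789) (.leaf 115226)) (.node (.leaf 63167) (.leaf 133724))))) (.node (.node (.node (.node (.leaf 10787) (.leaf 139423)) (.node (.leaf 102855) (.leaf 116710))) (.node (.node (.leaf 46406) (.leaf 114107)) (.node (.leaf 122373) (.leaf 129671)))) (.node (.node (.node (.leaf 17339) (.leaf 82851)) (.node (.leaf 62848) (.leaf 123127))) (.node (.node (.leaf 50829) (.leaf 111087)) (.node (.leaf 66315) (.leaf 137288))))))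
def dFin_719 : BT := .node (.node (.node (.node (.node (.node (.node (.leaf 1279) (.leaf 138701)) (.leaf 67255)) (.node (.leaf 57693) (.leaf 112240))) (.node (.node (.leaf 19289) (.leaf 85674)) (.node (.leaf 57519) (.leaf 129342)))) (.node (.node (.node (.leaf 58815) (.leaf 72832)) (.node (.leaf 98029) (.leaf 117995))) (.node (.node (.leaf 47512) (.leaf 107211)) (.node (.leaf 61865) (.leaf 131201))))) (.node (.node (.node (.node (.node (.leaf 36733) (.leaf 140971)) (.leaf 69347)) (.node (.leaf 52707) (.leaf 121480))) (.node (.node (.leaf 36515) (.leaf 106410)) (.node (.leaf 97231) (.leaf 128097)))) (.node (.node (.node (.leaf 35683) (.leaf 79159)) (.node (.leaf 55243) (.leaf 121331))) (.node (.node (.leaf 98851) (.leaf 109835)) (.node (.leaf 65199) (.leaf 135574)))))) (.node (.node (.node (.node (.node (.node (.leaf 36674) (.leaf 140249)) (.leaf 68284)) (.node (.leaf 52099) (.leaf 113463))) (.node (.node (.leaf 48446) (.leaf 97839)) (.node (.leaf 57386) (.leaf 126152)))) (.node (.node (.node (.leaf 52254) (.leaf 75959)) (.node (.leaf 103051) (.leaf 119497))) (.node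 (.node (.leaf 48571) (.leaf 108577)) (.node (.leaf 100713) (.leaf 135358))))) (.node (.node (.node (.node (.leaf 8197) (.leaf 71053)) (.node (.leaf 100830) (.leaf 116657))) (.node (.node (.leaf 25939) (.leaf 114743)) (.node (.leaf 60302) (.leaf 129834)))) (.node (.node (.node (.leaf 42750) (.leaf 82719)) (.node (.leaf 55931) (.leaf 122556))) (.node (.node (.leaf 50705) (.leaf 111152)) (.node (.leaf 96319) (.leaf 137057))))))
def dFin_726 : BT := .node (.node (.node (.node (.node (.node (.node (.leaf 35763) (.leaf 138749)) (.leaf 67145)) (.node (.leaf 51206) (.leaf 127982))) (.node (.node (.leaf 40966) (.leaf 95968)) (.node (.leaf 103702) (.leaf 124952)))) (.node (.node (.node (.leaf 39078) (.leaf 73351)) (.node (.leaf 54088) (.leaf 118294))) (.node (.node (.leaf 105030) (.leaf 114304)) (.node (.leaf 61769) (.leaf 131874))))) (.node (.node (.node (.node (.leaf 46821) (.leaf 110899)) (.node (.leaf 75536) (.leaf 115129))) (.node (.node (.leaf 25392) (.leaf 106749)) (.node (.leaf 97539) (.leaf 128270)))) (.node (.node (.node (.leaf 14303) (.leaf 79491)) (.node (.leaf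 83790) (.leaf 121523))) (.node (.node (.leaf 49697) (.leaf 110023)) (.node (.leaf 65346) (.leaf 135828)))))) (.node (.node (.node (.node (.node (.node (.leaf 885) (.leaf 139825)) (.leaf 68569)) (.node (.leaf 52638) (.leaf 122277))) (.node (.node (.leaf 49812) (.leaf 110321)) (.node (.leaf 57906) (.leaf 132947)))) (.node (.node (.node (.leaf 42111) (.leaf 100864)) (.node (.leaf 54749) (.leaf 119748))) (.node (.node (.leaf 48767) (.leaf 108667)) (.node (.leaf 63875) (.leaf 133671))))) (.node (.node (.node (.node (.leaf 38304) (.leaf 71193)) (.node (.leaf 112537) (.leaf 116827))) (.node (.node (.leaf 50693) (.leaf 93827)) (.node (.leaf 115860) (.leaf 131212)))) (.node (.node (.node (.leaf 44674) (.leaf 114918)) (.node (.leaf 55863) (.leaf 123208))) (.node (.node (.leaf 50888) (.leaf 132255)) (.node (.leaf 66455) (.leaf 137329))))))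
def dFin_735 : BT := .node (.node (.node (.node (.node (.node (.node (.leaf 35021) (.leaf 140429)) (.leaf 98333)) (.node (.leaf 51392) (.leaf 112098))) (.node (.node (.leaf 19271) (.leaf 85692)) (.node (.leaf 56613) (.leaf 124718)))) (.node (.node (.node (.leaf 45178) (.leaf 125014)) (.node (.leaf 95228) (.leaf 117762))) (.node (.node (.leaf 55263) (.leaf 107204)) (.node (.leaf 113306) (.leaf 131442))))) (.node (.node (.node (.node (.node (.leaf 8402) (.leaf 140956)) (.leaf 98540)) (.node (.leaf 52730) (.leaf 115390))) (.node (.node (.leaf 41244) (.leaf 113955)) (.node (.leaf 58634) (.leaf 128069)))) (.node (.node (.node (.leaf 47620) (.leaf 79178)) (.node (.leaf 58422) (.leaf 121224))) (.node (.node (.leaf 49612) (.leaf 109816)) (.node (.leaf 65117) (.leaf 135461)))))) (.node (.node (.node (.node (.node (.node (.leaf 1427) (.leaf 140142)) (.leaf 68307)) (.node (.leaf 52057) (.leaf 113444))) (.node (.node (.leaf 23947) (.leaf 88239)) (.node (.leaf 57448) (.leaf 133251)))) (.node (.node (.node (.leaf 45890) (.leaf 103074)) (.node (.leaf 139194) (.leaf 119373)))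 (.node (.node (.leaf 99833) (.leaf 108537)) (.node (.leaf 107085) (.leaf 133592))))) (.node (.node (.node (.node (.leaf 40823) (.leaf 70461)) (.node (.leaf 103608) (.leaf 116638))) (.node (.node (.leaf 25921) (.leaf 93423)) (.node (.leaf 59783) (.leaf 129864)))) (.node (.node (.node (.leaf 112654) (.leaf 82751)) (.node (.leaf 55962) (.leaf 122584))) (.node (.node (.leaf 50669) (.leaf 117948)) (.node (.leaf 66217) (.leaf 137060))))))
def dFin_742 : BT := .node (.node (.node (.node (.node (.node (.node (.leaf 36651) (.leaf 138784)) (.leaf 103313)) (.node (.leaf 51268) (.leaf 112115))) (.node (.node (.leaf 41657) (.leaf 97232)) (.node (.leaf 56728) (.leaf 124891)))) (.node (.node (.node (.leaf 39276) (.leaf 73446)) (.node (.leaf 98956) (.leaf 118207))) (.node (.node (.leaf 47547) (.leaf 107340)) (.node (.leaf 61798) (.leaf 132042))))) (.node (.node (.node (.node (.node (.leaf 37388) (.leaf 141085)) (.leaf 105227)) (.node (.leaf 97819) (.leaf 115069))) (.node (.node (.leaf 24677) (.leaf 108528)) (.node (.leaf 97291) (.leaf 128256)))) (.node (.node (.node (.leaf 14253)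 (.leaf 79106)) (.node (.leaf 81401) (.leaf 121469))) (.node (.node (.leaf 49733) (.leaf 109987)) (.node (.leaf 65411) (.leaf 135825)))))) (.node (.node (.node (.node (.node (.node (.leaf 37966) (.leaf 139847)) (.leaf 68418)) (.node (.leaf 52161) (.leaf 113600))) (.node (.node (.leaf 23765) (.leaf 109994)) (.node (.leaf 94109) (.leaf 126730)))) (.node (.node (.node (.leaf 103090) (.leaf 76591)) (.node (.leaf 54796) (.leaf 119717))) (.node (.node (.leaf 48683) (.leaf 108708)) (.node (.leaf 63543) (.leaf 133694))))) (.node (.node (.node (.node (.leaf 10811) (.leaf 103029)) (.node (.leaf 111989) (.leaf 116755))) (.node (.node (.leaf 66310) (.leaf 93531)) (.node (.leaf 96942) (.leaf 129525)))) (.node (.node (.node (.leaf 47378) (.leaf 83336)) (.node (.leaf 55894) (.leaf 123173))) (.node (.node (.leaf 50801) (.leaf 111327)) (.node (.leaf 66514) (.leaf 137294))))))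
def dFin_750 : BT := .node (.node (.node (.node (.node (.node (.node (.leaf 1120) (.leaf 138696)) (.leaf 67208)) (.node (.leaf 56523) (.leaf 122339))) (.node (.node (.leaf 45294) (.leaf 85659)) (.node (.leaf 56270) (.leaf 124797)))) (.node (.node (.node (.leaf 12177) (.leaf 73324)) (.node (.leaf 114802) (.leaf 118063))) (.node (.node (.leaf 49618) (.leaf 107273)) (.node (.leaf 106802) (.leaf 131764))))) (.node (.node (.node (.node (.node (.leaf 38403) (.leaf 141006)) (.leaf 84398)) (.node (.leaf 101153) (.leaf 115003))) (.node (.node (.leaf 24643) (.leaf 92277)) (.node (.leaf 99223) (.leaf 127513)))) (.node (.node (.node (.leaf 46234) (.leaf 79216)) (.node (.leaf 55210) (.leaf 121381))) (.node (.node (.leaf 49658) (.leaf 116080)) (.node (.leaf 65285) (.leaf 135621)))))) (.node (.node (.node (.node (.node (.node (.leaf 35007) (.leaf 139747)) (.leaf 94182)) (.node (.leaf 52090) (.leaf 113494))) (.node (.node (.leaf 41221) (.leaf 88602)) (.node (.leaf 57323) (.leaf 126772)))) (.node (.node (.node (.leaf 12985) (.leaf 75893)) (.node (.leaf 96571) (.leaf 120944))) (.node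 (.node (.leaf 48579) (.leaf 108760)) (.node (.leaf 63186) (.leaf 133499))))) (.node (.node (.node (.node (.leaf 37908) (.leaf 102243)) (.node (.leaf 102818) (.leaf 124920))) (.node (.node (.leaf 46669) (.leaf 93483)) (.node (.leaf 60563) (.leaf 129723)))) (.node (.node (.node (.leaf 17346) (.leaf 82565)) (.node (.leaf 62817) (.leaf 123059))) (.node (.node (.leaf 50743) (.leaf 111121)) (.node (.leaf 73814) (.leaf 137107))))))
def dFin_757 : BT := .node (.node (.node (.node (.node (.node (.node (.leaf 36197) (.leaf 139782)) (.leaf 98461)) (.node (.leaf 51180) (.leaf 112585))) (.node (.node (.leaf 19357) (.leaf 86247)) (.node (.leaf 99803) (.leaf 125330)))) (.node (.node (.node (.leaf 101931) (.leaf 75007)) (.node (.leaf 54041) (.leaf 118297))) (.node (.node (.leaf 47631) (.leaf 113634)) (.node (.leaf 61738) (.leaf 131856))))) (.node (.node (.node (.node (.leaf 8356) (.leaf 100446)) (.node (.leaf 106485) (.leaf 115173))) (.node (.node (.leaf 99684) (.leaf 92540)) (.node (.leaf 97896) (.leaf 128263)))) (.node (.node (.node (.leaf 14291) (.leaf 79443)) (.node (.leaf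 55142) (.leaf 130947))) (.node (.node (.leaf 65292) (.leaf 110050)) (.node (.leaf 65403) (.leaf 138336)))))) (.node (.node (.node (.node (.node (.node (.leaf 36739) (.leaf 139899)) (.leaf 106119)) (.node (.leaf 52196) (.leaf 123337))) (.node (.node (.leaf 70751) (.leaf 92037)) (.node (.leaf 94300) (.leaf 126516)))) (.node (.node (.node (.leaf 13425) (.leaf 76237)) (.node (.leaf 104392) (.leaf 119674))) (.node (.node (.leaf 48735) (.leaf 108654)) (.node (.leaf 63853) (.leaf 133643))))) (.node (.node (.node (.node (.leaf 12209) (.leaf 71178)) (.node (.leaf 102372) (.leaf 120086))) (.node (.node (.leaf 49886) (.leaf 93804)) (.node (.leaf 60469) (.leaf 129455)))) (.node (.node (.node (.leaf 41767) (.leaf 83307)) (.node (.leaf 55830) (.leaf 123259))) (.node (.node (.leaf 50881) (.leaf 111718)) (.node (.leaf 102811) (.leaf 137385))))))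
def dFin_769 : BT := .node (.node (.node (.node (.node (.node (.node (.leaf 34503) (.leaf 138565)) (.leaf 95331)) (.node (.leaf 51280) (.leaf 131230))) (.node (.node (.leaf 41696) (.leaf 85561)) (.node (.leaf 56166) (.leaf 124643)))) (.node (.node (.node (.leaf 34365) (.leaf 72927)) (.node (.leaf 53785) (.leaf 117848))) (.node (.node (.leaf 47387) (.leaf 95448)) (.node (.leaf 61529) (.leaf 131509))))) (.node (.node (.node (.node (.node (.leaf 2698) (.leaf 140875)) (.leaf 107749)) (.node (.leaf 99141) (.leaf 114890))) (.node (.node (.leaf 46685) (.leaf 124768)) (.node (.leaf 65897) (.leaf 127615)))) (.node (.node (.node (.leaf 14127) (.leaf 79126)) (.node (.leaf 70159) (.leaf 121104))) (.node (.node (.leaf 49514) (.leaf 109685)) (.node (.leaf 65036) (.leaf 135529)))))) (.node (.node (.node (.node (.node (.node (.leaf 38792) (.leaf 139632)) (.leaf 104992)) (.node (.leaf 52035) (.leaf 136546))) (.node (.node (.leaf 23637) (.leaf 97144)) (.node (.leaf 102491) (.leaf 126833)))) (.node (.node (.node (.leaf 67139) (.leaf 76040)) (.node (.leaf 54458) (.leaf 119443))) (.node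 (.node (.leaf 48495) (.leaf 114649)) (.node (.leaf 63227) (.leaf 133192))))) (.node (.node (.node (.node (.leaf 10813) (.leaf 103286)) (.node (.leaf 140596) (.leaf 116558))) (.node (.node (.leaf 42613) (.leaf 93339)) (.node (.leaf 139586) (.leaf 129992)))) (.node (.node (.node (.leaf 37329) (.leaf 82249)) (.node (.leaf 55694) (.leaf 137476))) (.node (.node (.leaf 50650) (.leaf 135827)) (.node (.leaf 66172) (.leaf 137016))))))
def dFin_776 : BT := .node (.node (.node (.node (.node (.node (.node (.leaf 37155) (.leaf 138687)) (.leaf 105783)) (.node (.leaf 51170) (.leaf 112112))) (.node (.node (.leaf 93374) (.leaf 105096)) (.node (.leaf 56135) (.leaf 124809)))) (.node (.node (.node (.leaf 12183) (.leaf 73409)) (.node (.leaf 98083) (.leaf 118078))) (.node (.node (.leaf 47529) (.leaf 107266)) (.node (.leaf 61835) (.leaf 131746))))) (.node (.node (.node (.node (.node (.leaf 2609) (.leaf 141015)) (.leaf 69732)) (.node (.leaf 113539) (.leaf 115498))) (.node (.node (.leaf 24656) (.leaf 92287)) (.node (.leaf 59319) (.leaf 127523)))) (.node (.node (.node (.leaf 41472) (.leaf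 109350)) (.node (.leaf 55090) (.leaf 121401))) (.node (.node (.leaf 49648) (.leaf 119919)) (.node (.leaf 81544) (.leaf 135637)))))) (.node (.node (.node (.node (.node (.node (.leaf 917) (.leaf 139857)) (.leaf 94192)) (.node (.leaf 108084) (.leaf 113510))) (.node (.node (.leaf 107206) (.leaf 88545)) (.node (.leaf 107876) (.leaf 126432)))) (.node (.node (.node (.leaf 44666) (.leaf 75909)) (.node (.leaf 54394) (.leaf 119762))) (.node (.node (.leaf 48597) (.leaf 108752)) (.node (.leaf 63050) (.leaf 133859))))) (.node (.node (.node (.node (.leaf 47153) (.leaf 71990)) (.node (.leaf 53300) (.leaf 116689))) (.node (.node (.leaf 42450) (.leaf 115182)) (.node (.leaf 60442) (.leaf 129571)))) (.node (.node (.node (.leaf 17342) (.leaf 89584)) (.node (.leaf 55773) (.leaf 123120))) (.node (.node (.leaf 50834) (.leaf 111274)) (.node (.leaf 99765) (.leaf 137174))))))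
def dFin_784 : BT := .node (.node (.node (.node (.node (.node (.node (.leaf 37236) (.leaf 140064)) (.leaf 99138)) (.node (.leaf 104624) (.leaf 112532))) (.node (.node (.leaf 19275) (.leaf 107107)) (.node (.leaf 80588) (.leaf 124741)))) (.node (.node (.node (.leaf 67895) (.leaf 74133)) (.node (.leaf 54053) (.leaf 117776))) (.node (.node (.leaf 47467) (.leaf 110277)) (.node (.leaf 61395) (.leaf 131324))))) (.node (.node (.node (.node (.node (.leaf 2579) (.leaf 140986)) (.leaf 98552)) (.node (.leaf 97418) (.leaf 114931))) (.node (.node (.leaf 44764) (.leaf 92253)) (.node (.leaf 115334) (.leaf 127759)))) (.node (.node (.node (.leaf 14158) (.leaf 79077)) (.node (.leaf 55154) (.leaf 121307))) (.node (.node (.leaf 49555) (.leaf 109858)) (.node (.leaf 65133) (.leaf 135538)))))) (.node (.node (.node (.node (.node (.node (.leaf 45993) (.leaf 139683)) (.leaf 123885)) (.node (.leaf 52253) (.leaf 113343))) (.node (.node (.leaf 23923) (.leaf 126619)) (.node (.leaf 116442) (.leaf 126552)))) (.node (.node (.node (.leaf 12977) (.leaf 75946)) (.node (.leaf 98391) (.leaf 119407)))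 (.node (.node (.leaf 48537) (.leaf 108553)) (.node (.leaf 63348) (.leaf 135340))))) (.node (.node (.node (.node (.leaf 45855) (.leaf 70470)) (.node (.leaf 53411) (.leaf 116627))) (.node (.node (.leaf 25934) (.leaf 93431)) (.node (.leaf 59785) (.leaf 129878)))) (.node (.node (.node (.leaf 41775) (.leaf 82722)) (.node (.leaf 55842) (.leaf 122889))) (.node (.node (.leaf 50685) (.leaf 111277)) (.node (.leaf 96292) (.leaf 137033))))))
def dFin_791 : BT := .node (.node (.node (.node (.node (.node (.node (.leaf 45803) (.leaf 138786)) (.leaf 103146)) (.node (.leaf 130023) (.leaf 112464))) (.node (.node (.leaf 93158) (.leaf 86036)) (.node (.leaf 105607) (.leaf 124903)))) (.node (.node (.node (.leaf 47668) (.leaf 73370)) (.node (.leaf 53953) (.leaf 118260))) (.node (.node (.leaf 61875) (.leaf 109743)) (.node (.leaf 61670) (.leaf 131982))))) (.node (.node (.node (.node (.node (.leaf 36760) (.leaf 141094)) (.leaf 104427)) (.node (.leaf 52787) (.leaf 115079))) (.node (.node (.leaf 35991) (.leaf 109236)) (.node (.leaf 59271) (.leaf 128171)))) (.node (.node (.node (.leaf 14265)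 (.leaf 79789)) (.node (.leaf 81463) (.leaf 121517))) (.node (.node (.leaf 49687) (.leaf 138260)) (.node (.leaf 65448) (.leaf 135820)))))) (.node (.node (.node (.node (.node (.node (.leaf 1544) (.leaf 139844)) (.leaf 68542)) (.node (.leaf 58500) (.leaf 113559))) (.node (.node (.leaf 24161) (.leaf 88807)) (.node (.leaf 58014) (.leaf 126738)))) (.node (.node (.node (.leaf 41617) (.leaf 100850)) (.node (.leaf 54612) (.leaf 119737))) (.node (.node (.leaf 48699) (.leaf 108606)) (.node (.leaf 113949) (.leaf 133794))))) (.node (.node (.node (.node (.leaf 10824) (.leaf 71145)) (.node (.leaf 102659) (.leaf 116771))) (.node (.node (.leaf 25987) (.leaf 93539)) (.node (.leaf 60547) (.leaf 129894)))) (.node (.node (.node (.leaf 50259) (.leaf 101061)) (.node (.leaf 97755) (.leaf 123187))) (.node (.node (.leaf 50847) (.leaf 132661)) (.node (.leaf 73194) (.leaf 137261))))))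
def dFin_800 : BT := .node (.node (.node (.node (.node (.node (.node (.leaf 37555) (.leaf 138586)) (.leaf 98285)) (.node (.leaf 51221) (.leaf 128070))) (.node (.node (.leaf 38581) (.leaf 102162)) (.node (.leaf 102590) (.leaf 124687)))) (.node (.node (.node (.leaf 44590) (.leaf 72871)) (.node (.leaf 54100) (.leaf 120785))) (.node (.node (.leaf 99121) (.leaf 114176)) (.node (.leaf 61495) (.leaf 131399))))) (.node (.node (.node (.node (.node (.leaf 2553) (.leaf 140909)) (.leaf 116584)) (.node (.leaf 97017) (.leaf 114808))) (.node (.node (.leaf 24191) (.leaf 106827)) (.node (.leaf 105124) (.leaf 127815)))) (.node (.node (.node (.leaf 14145) (.leaf 79100)) (.node (.leaf 61898) (.leaf 121247))) (.node (.node (.leaf 49537) (.leaf 109895)) (.node (.leaf 64842) (.leaf 136613)))))) (.node (.node (.node (.node (.node (.node (.leaf 474) (.leaf 139647)) (.leaf 100705)) (.node (.leaf 52039) (.leaf 113418))) (.node (.node (.leaf 23709) (.leaf 107150)) (.node (.leaf 102466) (.leaf 126828)))) (.node (.node (.node (.leaf 42714) (.leaf 78074)) (.node (.leaf 54429) (.leaf 119426)))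 (.node (.node (.leaf 48558) (.leaf 108479)) (.node (.leaf 63454) (.leaf 133154))))) (.node (.node (.node (.node (.leaf 51983) (.leaf 70493)) (.node (.leaf 138822) (.leaf 116595))) (.node (.node (.leaf 26137) (.leaf 93381)) (.node (.leaf 60595) (.leaf 131571)))) (.node (.node (.node (.leaf 37435) (.leaf 97857)) (.node (.leaf 55655) (.leaf 122896))) (.node (.node (.leaf 50617) (.leaf 137034)) (.node (.leaf 66151) (.leaf 137078))))))
def dFin_807 : BT := .node (.node (.node (.node (.node (.node (.node (.leaf 36771) (.leaf 138713)) (.leaf 134420)) (.node (.leaf 102605) (.leaf 112525))) (.node (.node (.leaf 45361) (.leaf 86105)) (.node (.leaf 107883) (.leaf 124859)))) (.node (.node (.node (.leaf 12213) (.leaf 73390)) (.node (.leaf 98182) (.leaf 118215))) (.node (.node (.leaf 47598) (.leaf 107258)) (.node (.leaf 61708) (.leaf 132024))))) (.node (.node (.node (.node (.node (.leaf 2817) (.leaf 141058)) (.leaf 69687)) (.node (.leaf 52810) (.leaf 115090))) (.node (.node (.leaf 49076) (.leaf 113704)) (.node (.leaf 59296) (.leaf 128186)))) (.node (.node (.node (.leaf 40752)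 (.leaf 94187)) (.node (.leaf 101497) (.leaf 121473))) (.node (.node (.leaf 49645) (.leaf 109969)) (.node (.leaf 65367) (.leaf 135762)))))) (.node (.node (.node (.node (.node (.node (.leaf 4464) (.leaf 140278)) (.leaf 68257)) (.node (.leaf 95071) (.leaf 113593))) (.node (.node (.leaf 23766) (.leaf 88526)) (.node (.leaf 100129) (.leaf 128769)))) (.node (.node (.node (.leaf 46717) (.leaf 92072)) (.node (.leaf 54365) (.leaf 119582))) (.node (.node (.leaf 48659) (.leaf 108603)) (.node (.leaf 63001) (.leaf 133843))))) (.node (.node (.node (.node (.leaf 42400) (.leaf 71234)) (.node (.leaf 53253) (.leaf 116727))) (.node (.node (.leaf 25969) (.leaf 93546)) (.node (.leaf 98467) (.leaf 129481)))) (.node (.node (.node (.leaf 17361) (.leaf 120279)) (.node (.leaf 55776) (.leaf 123165))) (.node (.node (.leaf 50816) (.leaf 111304)) (.node (.leaf 66768) (.leaf 137302))))))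
def dFin_815 : BT := .node (.node (.node (.node (.node (.node (.node (.leaf 577) (.leaf 138663)) (.leaf 102127)) (.node (.leaf 74314) (.leaf 112541))) (.node (.node (.leaf 45288) (.leaf 111260)) (.node (.leaf 56337) (.leaf 124789)))) (.node (.node (.node (.leaf 42137) (.leaf 72828)) (.node (.leaf 54004) (.leaf 118023))) (.node (.node (.leaf 47499) (.leaf 107225)) (.node (.leaf 61872) (.leaf 131233))))) (.node (.node (.node (.node (.node (.leaf 8361) (.leaf 140989)) (.leaf 69310)) (.node (.leaf 97473) (.leaf 115019))) (.node (.node (.leaf 24707) (.leaf 92211)) (.node (.leaf 101234) (.leaf 129902)))) (.node (.node (.node (.leaf 37879) (.leaf 105867)) (.node (.leaf 55123) (.leaf 121377))) (.node (.node (.leaf 49593) (.leaf 109879)) (.node (.leaf 65215) (.leaf 135593)))))) (.node (.node (.node (.node (.node (.node (.leaf 35001) (.leaf 139727)) (.leaf 115883)) (.node (.leaf 52100) (.leaf 113453))) (.node (.node (.leaf 46664) (.leaf 97483)) (.node (.leaf 109961) (.leaf 126493)))) (.node (.node (.node (.leaf 13002) (.leaf 75924)) (.node (.leaf 98638) (.leaf 119538)))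 (.node (.node (.leaf 48631) (.leaf 108593)) (.node (.leaf 63114) (.leaf 134111))))) (.node (.node (.node (.node (.leaf 34497) (.leaf 70970)) (.node (.leaf 53349) (.leaf 118248))) (.node (.node (.leaf 42571) (.leaf 114732)) (.node (.leaf 60463) (.leaf 129612)))) (.node (.node (.node (.leaf 40699) (.leaf 82471)) (.node (.leaf 108213) (.leaf 123205))) (.node (.node (.leaf 50721) (.leaf 130987)) (.node (.leaf 108092) (.leaf 137198))))))
def dFin_822 : BT := .node (.node (.node (.node (.node (.node (.node (.leaf 5975) (.leaf 138793)) (.leaf 67141)) (.node (.leaf 115110) (.leaf 112405))) (.node (.node (.leaf 19349) (.leaf 85935)) (.node (.leaf 100007) (.leaf 124931)))) (.node (.node (.node (.leaf 46622) (.leaf 101491)) (.node (.leaf 53904) (.leaf 118305))) (.node (.node (.leaf 47654) (.leaf 123140)) (.node (.leaf 61639) (.leaf 131936))))) (.node (.node (.node (.node (.leaf 42742) (.leaf 76604)) (.node (.leaf 52762) (.leaf 115147))) (.node (.node (.leaf 24699) (.leaf 92481)) (.node (.leaf 59346) (.leaf 128154)))) (.node (.node (.node (.leaf 47920) (.leaf 114204)) (.node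 (.leaf 105934) (.leaf 121537))) (.node (.node (.leaf 120259) (.leaf 110037)) (.node (.leaf 65393) (.leaf 135836)))))) (.node (.node (.node (.node (.node (.node (.leaf 8672) (.leaf 139837)) (.leaf 68523)) (.node (.leaf 52618) (.leaf 113633))) (.node (.node (.leaf 100859) (.leaf 88795)) (.node (.leaf 58005) (.leaf 126362)))) (.node (.node (.node (.leaf 40890) (.leaf 102677)) (.node (.leaf 104382) (.leaf 119682))) (.node (.node (.leaf 48750) (.leaf 108710)) (.node (.leaf 63657) (.leaf 133762))))) (.node (.node (.node (.node (.leaf 10817) (.leaf 71127)) (.node (.leaf 102480) (.leaf 116798))) (.node (.node (.leaf 26026) (.leaf 93747)) (.node (.leaf 60404) (.leaf 129439)))) (.node (.node (.node (.leaf 45947) (.leaf 104181)) (.node (.leaf 105117) (.leaf 123222))) (.node (.node (.leaf 50855) (.leaf 111221)) (.node (.leaf 115672) (.leaf 137347))))))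
def dFin_832 : BT := .node (.node (.node (.node (.node (.node (.node (.leaf 11782) (.leaf 138603)) (.leaf 67376)) (.node (.leaf 51611) (.leaf 128059))) (.node (.node (.leaf 45508) (.leaf 85504)) (.node (.leaf 56473) (.leaf 124663)))) (.node (.node (.node (.leaf 41583) (.leaf 85222)) (.node (.leaf 53874) (.leaf 117826))) (.node (.node (.leaf 47409) (.leaf 107182)) (.node (.leaf 103475) (.leaf 131515))))) (.node (.node (.node (.node (.node (.leaf 2529) (.leaf 140906)) (.leaf 69224)) (.node (.leaf 60543) (.leaf 114877))) (.node (.node (.leaf 24202) (.leaf 91364)) (.node (.leaf 60295) (.leaf 137322)))) (.node (.node (.node (.leaf 115423) (.leaf 101442)) (.node (.leaf 99373) (.leaf 121286))) (.node (.node (.leaf 49491) (.leaf 109781)) (.node (.leaf 106422) (.leaf 135507)))))) (.node (.node (.node (.node (.node (.node (.leaf 45650) (.leaf 139631)) (.leaf 83934)) (.node (.leaf 52017) (.leaf 113410))) (.node (.node (.leaf 42527) (.leaf 108333)) (.node (.leaf 57538) (.leaf 126324)))) (.node (.node (.node (.leaf 12945) (.leaf 86240)) (.node (.leaf 86236) (.leaf 122983)))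 (.node (.node (.leaf 48564) (.leaf 137301)) (.node (.leaf 62935) (.leaf 133258))))) (.node (.node (.node (.node (.leaf 10841) (.leaf 70285)) (.node (.leaf 53216) (.leaf 135063))) (.node (.node (.leaf 42603) (.leaf 93367)) (.node (.leaf 59857) (.leaf 129383)))) (.node (.node (.node (.leaf 51014) (.leaf 82669)) (.node (.leaf 102387) (.leaf 122600))) (.node (.node (.leaf 50589) (.leaf 110760)) (.node (.leaf 66124) (.leaf 137007))))))
def dFin_839 : BT := .node (.node (.node (.node (.node (.node (.node (.leaf 1275) (.leaf 138825)) (.leaf 67251)) (.node (.leaf 57531) (.leaf 112236))) (.node (.node (.leaf 19317) (.leaf 85670)) (.node (.leaf 57316) (.leaf 124839)))) (.node (.node (.node (.leaf 46808) (.leaf 101105)) (.node (.leaf 98176) (.leaf 118087))) (.node (.node (.leaf 47602) (.leaf 107302)) (.node (.leaf 127015) (.leaf 131724))))) (.node (.node (.node (.node (.node (.leaf 41504) (.leaf 141046)) (.leaf 104713)) (.node (.leaf 52703) (.leaf 123256))) (.node (.node (.leaf 40615) (.leaf 106401)) (.node (.leaf 101628) (.leaf 140955)))) (.node (.node (.node (.leaf 47607)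 (.leaf 79152)) (.node (.leaf 55239) (.leaf 121419))) (.node (.node (.leaf 103077) (.leaf 110213)) (.node (.leaf 65313) (.leaf 135650)))))) (.node (.node (.node (.node (.node (.node (.leaf 8683) (.leaf 139773)) (.leaf 68268)) (.node (.leaf 52131) (.leaf 113595))) (.node (.node (.leaf 23954) (.leaf 98825)) (.node (.leaf 57974) (.leaf 137023)))) (.node (.node (.node (.leaf 48338) (.leaf 76401)) (.node (.leaf 127050) (.leaf 119773))) (.node (.node (.leaf 48643) (.leaf 108769)) (.node (.leaf 62961) (.leaf 133872))))) (.node (.node (.node (.node (.leaf 8291) (.leaf 107833)) (.node (.leaf 102871) (.leaf 116732))) (.node (.node (.leaf 26002) (.leaf 93525)) (.node (.leaf 60306) (.leaf 129996)))) (.node (.node (.node (.leaf 42752) (.leaf 82845)) (.node (.leaf 55927) (.leaf 123111))) (.node (.node (.leaf 50825) (.leaf 111147)) (.node (.leaf 91792) (.leaf 137146))))))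
def dFin_847 : BT := .node (.node (.node (.node (.node (.node (.node (.leaf 35715) (.leaf 138647)) (.leaf 99146)) (.node (.leaf 51449) (.leaf 112356))) (.node (.node (.leaf 44364) (.leaf 87311)) (.node (.leaf 56355) (.leaf 124747)))) (.node (.node (.node (.leaf 12149) (.leaf 72812)) (.node (.leaf 95748) (.leaf 118015))) (.node (.node (.leaf 47942) (.leaf 107230)) (.node (.leaf 61571) (.leaf 131805))))) (.node (.node (.node (.node (.node (.leaf 45640) (.leaf 140973)) (.leaf 69164)) (.node (.leaf 52751) (.leaf 115010))) (.node (.node (.leaf 45987) (.leaf 105667)) (.node (.leaf 58691) (.leaf 137104)))) (.node (.node (.node (.leaf 52162) (.leaf 79195)) (.node (.leaf 99374) (.leaf 121325))) (.node (.node (.leaf 91939) (.leaf 109830)) (.node (.leaf 106207) (.leaf 135565)))))) (.node (.node (.node (.node (.node (.node (.leaf 1345) (.leaf 139769)) (.leaf 68324)) (.node (.leaf 52124) (.leaf 113371))) (.node (.node (.leaf 23715) (.leaf 88225)) (.node (.leaf 57520) (.leaf 136636)))) (.node (.node (.node (.leaf 95204) (.leaf 113929)) (.node (.leaf 69364) (.leaf 119493))) (.node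 (.node (.leaf 48574) (.leaf 108587)) (.node (.leaf 138860) (.leaf 133557))))) (.node (.node (.node (.node (.leaf 41502) (.leaf 71051)) (.node (.leaf 53120) (.leaf 116651))) (.node (.node (.leaf 40662) (.leaf 115126)) (.node (.leaf 99032) (.leaf 129856)))) (.node (.node (.node (.leaf 44661) (.leaf 82613)) (.node (.leaf 55991) (.leaf 125479))) (.node (.node (.leaf 132380) (.leaf 111244)) (.node (.leaf 66211) (.leaf 137053))))))
def dFin_854 : BT := .node (.node (.node (.node (.node (.node (.node (.leaf 39368) (.leaf 138742)) (.leaf 67156)) (.node (.leaf 51322) (.leaf 127862))) (.node (.node (.leaf 45147) (.leaf 101649)) (.node (.leaf 56746) (.leaf 124954)))) (.node (.node (.node (.leaf 97893) (.leaf 73345)) (.node (.leaf 101478) (.leaf 118244))) (.node (.node (.leaf 48004) (.leaf 107319)) (.node (.leaf 61586) (.leaf 132006))))) (.node (.node (.node (.node (.leaf 2641) (.leaf 78696)) (.node (.leaf 95943) (.leaf 115154))) (.node (.node (.leaf 24691) (.leaf 113325)) (.node (.leaf 97694) (.leaf 129823)))) (.node (.node (.node (.leaf 42688) (.leaf 79784)) (.node (.leaf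 55175) (.leaf 121511))) (.node (.node (.leaf 49693) (.leaf 110019)) (.node (.leaf 70178) (.leaf 135720)))))) (.node (.node (.node (.node (.node (.node (.leaf 36807) (.leaf 139821)) (.leaf 102409)) (.node (.leaf 52180) (.leaf 113625))) (.node (.node (.leaf 40565) (.leaf 103177)) (.node (.leaf 57905) (.leaf 126705)))) (.node (.node (.node (.leaf 13037) (.leaf 76290)) (.node (.leaf 54841) (.leaf 124551))) (.node (.node (.leaf 123035) (.leaf 109505)) (.node (.leaf 63870) (.leaf 133715))))) (.node (.node (.node (.node (.leaf 32938) (.leaf 120719)) (.node (.leaf 69790) (.leaf 116785))) (.node (.node (.leaf 48615) (.leaf 116312)) (.node (.leaf 101167) (.leaf 129898)))) (.node (.node (.node (.leaf 17365) (.leaf 83349)) (.node (.leaf 97612) (.leaf 123207))) (.node (.node (.leaf 65288) (.leaf 111075)) (.node (.leaf 66571) (.leaf 137337))))))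
def dFin_863 : BT := .node (.node (.node (.node (.node (.node (.node (.leaf 12670) (.leaf 138575)) (.leaf 67318)) (.node (.leaf 51508) (.leaf 112095))) (.node (.node (.leaf 128104) (.leaf 89055)) (.node (.leaf 56420) (.leaf 124710)))) (.node (.node (.node (.leaf 40887) (.leaf 106200)) (.node (.leaf 97141) (.leaf 117788))) (.node (.node (.leaf 47445) (.leaf 107177)) (.node (.leaf 76453) (.leaf 131436))))) (.node (.node (.node (.node (.node (.leaf 2557) (.leaf 140959)) (.leaf 69195)) (.node (.leaf 59329) (.leaf 114917))) (.node (.node (.leaf 50710) (.leaf 91346)) (.node (.leaf 58750) (.leaf 128067)))) (.node (.node (.node (.leaf 47363) (.leaf 79024)) (.node (.leaf 99306) (.leaf 121220))) (.node (.node (.leaf 49566) (.leaf 109812)) (.node (.leaf 65140) (.leaf 135449)))))) (.node (.node (.node (.node (.node (.node (.leaf 36613) (.leaf 139770)) (.leaf 103767)) (.node (.leaf 52053) (.leaf 113407))) (.node (.node (.leaf 23653) (.leaf 88267)) (.node (.leaf 57882) (.leaf 126265)))) (.node (.node (.node (.leaf 12975) (.leaf 103348)) (.node (.leaf 98599) (.leaf 119369)))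 (.node (.node (.leaf 48554) (.leaf 109210)) (.node (.leaf 103982) (.leaf 133588))))) (.node (.node (.node (.node (.leaf 10651) (.leaf 97635)) (.node (.leaf 53169) (.leaf 131062))) (.node (.node (.leaf 41340) (.leaf 93419)) (.node (.leaf 59808) (.leaf 129868)))) (.node (.node (.node (.leaf 46948) (.leaf 82639)) (.node (.leaf 96185) (.leaf 132617))) (.node (.node (.leaf 50663) (.leaf 110693)) (.node (.leaf 66253) (.leaf 137096))))))
def dFin_870 : BT := .node (.node (.node (.node (.node (.node (.node (.leaf 1112) (.leaf 138754)) (.leaf 67204)) (.node (.leaf 56363) (.leaf 112116))) (.node (.node (.leaf 45708) (.leaf 85655)) (.node (.leaf 56772) (.leaf 124883)))) (.node (.node (.node (.leaf 44646) (.leaf 104946)) (.node (.leaf 130912) (.leaf 118200))) (.node (.node (.leaf 48894) (.leaf 107348)) (.node (.leaf 101083) (.leaf 132035))))) (.node (.node (.node (.node (.node (.leaf 40836) (.leaf 141081)) (.leaf 105647)) (.node (.leaf 96628) (.leaf 115108))) (.node (.node (.leaf 24669) (.leaf 106774)) (.node (.leaf 97205) (.leaf 130262)))) (.node (.node (.node (.leaf 71954)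 (.leaf 79139)) (.node (.leaf 55206) (.leaf 121465))) (.node (.node (.leaf 49729) (.leaf 111943)) (.node (.leaf 65373) (.leaf 135783)))))) (.node (.node (.node (.node (.node (.node (.leaf 972) (.leaf 139880)) (.leaf 99407)) (.node (.leaf 52153) (.leaf 118262))) (.node (.node (.leaf 37713) (.leaf 88883)) (.node (.leaf 57947) (.leaf 126720)))) (.node (.node (.node (.leaf 13009) (.leaf 76358)) (.node (.leaf 114111) (.leaf 124534))) (.node (.node (.leaf 48667) (.leaf 108704)) (.node (.leaf 63539) (.leaf 134937))))) (.node (.node (.node (.node (.leaf 10807) (.leaf 137252)) (.node (.leaf 53088) (.leaf 117979))) (.node (.node (.leaf 50003) (.leaf 121302)) (.node (.leaf 98219) (.leaf 129513)))) (.node (.node (.node (.leaf 17372) (.leaf 83364)) (.node (.leaf 62831) (.leaf 123160))) (.node (.node (.leaf 50795) (.leaf 111106)) (.node (.leaf 74517) (.leaf 137237))))))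
def dFin_878 : BT := .node (.node (.node (.node (.node (.node (.node (.leaf 35387) (.leaf 138679)) (.leaf 102065)) (.node (.leaf 51388) (.leaf 112297))) (.node (.node (.leaf 19305) (.leaf 85687)) (.node (.leaf 56347) (.leaf 124795)))) (.node (.node (.node (.leaf 47080) (.leaf 107033)) (.node (.leaf 53795) (.leaf 118073))) (.node (.node (.leaf 101148) (.leaf 107280)) (.node (.leaf 61846) (.leaf 131760))))) (.node (.node (.node (.node (.node (.leaf 8331) (.leaf 141031)) (.leaf 116144)) (.node (.leaf 52726) (.leaf 114994))) (.node (.node (.leaf 41232) (.leaf 113654)) (.node (.leaf 58629) (.leaf 127505)))) (.node (.node (.node (.leaf 46593) (.leaf 79174)) (.node (.leaf 101453) (.leaf 121367))) (.node (.node (.leaf 49616) (.leaf 109823)) (.node (.leaf 65281) (.leaf 135615)))))) (.node (.node (.node (.node (.node (.node (.leaf 1432) (.leaf 139873)) (.leaf 68303)) (.node (.leaf 58514) (.leaf 113493))) (.node (.node (.leaf 46539) (.leaf 88452)) (.node (.leaf 57319) (.leaf 127283)))) (.node (.node (.node (.leaf 47802) (.leaf 75889)) (.node (.leaf 113414) (.leaf 119563)))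 (.node (.node (.leaf 48616) (.leaf 108754)) (.node (.leaf 96301) (.leaf 133485))))) (.node (.node (.node (.node (.leaf 40825) (.leaf 96405)) (.node (.leaf 101336) (.leaf 116696))) (.node (.node (.leaf 25947) (.leaf 115162)) (.node (.leaf 98184) (.leaf 129810)))) (.node (.node (.node (.leaf 111016) (.leaf 82708)) (.node (.leaf 55958) (.leaf 123055))) (.node (.node (.leaf 50739) (.leaf 111334)) (.node (.leaf 66284) (.leaf 137153))))))
def dFin_885 : BT := .node (.node (.node (.node (.node (.node (.node (.leaf 45769) (.leaf 138818)) (.leaf 102053)) (.node (.leaf 51263) (.leaf 112119))) (.node (.node (.leaf 41672) (.leaf 107827)) (.node (.leaf 56723) (.leaf 125334)))) (.node (.node (.node (.leaf 12231) (.leaf 73710)) (.node (.leaf 97316) (.leaf 118291))) (.node (.node (.leaf 47605) (.leaf 107461)) (.node (.leaf 61794) (.leaf 131956))))) (.node (.node (.node (.node (.leaf 2665) (.leaf 107031)) (.node (.leaf 96523) (.leaf 129118))) (.node (.node (.leaf 47560) (.leaf 106715)) (.node (.leaf 97890) (.leaf 128252)))) (.node (.node (.node (.leaf 14287) (.leaf 79523)) (.node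 (.leaf 105949) (.leaf 121551))) (.node (.node (.leaf 49755) (.leaf 110041)) (.node (.leaf 65399) (.leaf 135695)))))) (.node (.node (.node (.node (.node (.node (.leaf 37895) (.leaf 139914)) (.leaf 108074)) (.node (.leaf 52195) (.leaf 113661))) (.node (.node (.leaf 23789) (.leaf 88725)) (.node (.leaf 83304) (.leaf 136941)))) (.node (.node (.node (.leaf 99145) (.leaf 76412)) (.node (.leaf 54792) (.leaf 119668))) (.node (.node (.leaf 48731) (.leaf 108685)) (.node (.leaf 63837) (.leaf 133689))))) (.node (.node (.node (.node (.leaf 38750) (.leaf 96690)) (.node (.leaf 106356) (.leaf 116786))) (.node (.node (.leaf 42606) (.leaf 93844)) (.node (.leaf 97703) (.leaf 129449)))) (.node (.node (.node (.leaf 46727) (.leaf 83332)) (.node (.leaf 55890) (.leaf 123263))) (.node (.node (.leaf 50875) (.leaf 111716)) (.node (.leaf 66510) (.leaf 137412))))))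
def dFin_896 : BT := .node (.node (.node (.node (.node (.node (.node (.leaf 38684) (.leaf 138591)) (.leaf 137823)) (.node (.leaf 104747) (.leaf 131630))) (.node (.node (.leaf 93086) (.leaf 106566)) (.node (.leaf 102739) (.leaf 124651)))) (.node (.node (.node (.leaf 12123) (.leaf 72765)) (.node (.leaf 97573) (.leaf 117857))) (.node (.node (.leaf 47397) (.leaf 95454)) (.node (.leaf 61545) (.leaf 131486))))) (.node (.node (.node (.node (.node (.leaf 2526) (.leaf 140887)) (.leaf 69291)) (.node (.leaf 52664) (.leaf 115289))) (.node (.node (.leaf 24187) (.leaf 91392)) (.node (.leaf 58944) (.leaf 129804)))) (.node (.node (.node (.leaf 41461) (.leaf 102744)) (.node (.leaf 55098) (.leaf 121269))) (.node (.node (.leaf 49510) (.leaf 109930)) (.node (.leaf 96376) (.leaf 135496)))))) (.node (.node (.node (.node (.node (.node (.leaf 45863) (.leaf 140110)) (.leaf 94035)) (.node (.leaf 52013) (.leaf 113429))) (.node (.node (.leaf 24739) (.leaf 88317)) (.node (.leaf 136536) (.leaf 126440)))) (.node (.node (.node (.leaf 45491) (.leaf 75922)) (.node (.leaf 54402) (.leaf 122729)))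 (.node (.node (.leaf 48505) (.leaf 108517)) (.node (.leaf 63077) (.leaf 133253))))) (.node (.node (.node (.node (.leaf 12045) (.leaf 103295)) (.node (.leaf 53308) (.leaf 116572))) (.node (.node (.leaf 42349) (.leaf 93349)) (.node (.leaf 59976) (.leaf 129944)))) (.node (.node (.node (.leaf 17209) (.leaf 82768)) (.node (.leaf 79975) (.leaf 125490))) (.node (.node (.leaf 50782) (.leaf 122991)) (.node (.leaf 66123) (.leaf 136999))))))
def dFin_903 : BT := .node (.node (.node (.node (.node (.node (.node (.leaf 37943) (.leaf 138691)) (.leaf 67344)) (.node (.leaf 103000) (.leaf 116842))) (.node (.node (.leaf 19320) (.leaf 85709)) (.node (.leaf 56139) (.leaf 136727)))) (.node (.node (.node (.leaf 41584) (.leaf 100181)) (.node (.leaf 53865) (.leaf 118103))) (.node (.node (.leaf 47541) (.leaf 107238)) (.node (.leaf 114116) (.leaf 135937))))) (.node (.node (.node (.node (.node (.leaf 2611) (.leaf 141038)) (.leaf 69634)) (.node (.leaf 60527) (.leaf 115001))) (.node (.node (.leaf 24651) (.leaf 92291)) (.node (.leaf 60515) (.leaf 128276)))) (.node (.node (.node (.leaf 44835)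 (.leaf 121590)) (.node (.leaf 85574) (.leaf 121407))) (.node (.node (.leaf 49609) (.leaf 136722)) (.node (.leaf 93123) (.leaf 135646)))))) (.node (.node (.node (.node (.node (.node (.leaf 51000) (.leaf 139765)) (.leaf 94207)) (.node (.leaf 52117) (.leaf 113522))) (.node (.node (.leaf 42029) (.leaf 114697)) (.node (.leaf 58037) (.leaf 126316)))) (.node (.node (.node (.leaf 12999) (.leaf 78767)) (.node (.leaf 96285) (.leaf 121796))) (.node (.node (.leaf 63178) (.leaf 128393)) (.node (.leaf 63148) (.leaf 134208))))) (.node (.node (.node (.node (.leaf 8289) (.leaf 70875)) (.node (.leaf 53208) (.leaf 116730))) (.node (.node (.leaf 50802) (.leaf 99553)) (.node (.leaf 60389) (.leaf 129747)))) (.node (.node (.node (.leaf 95034) (.leaf 82831)) (.node (.leaf 104279) (.leaf 123094))) (.node (.node (.leaf 50767) (.leaf 111207)) (.node (.leaf 108106) (.leaf 137184))))))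
def dFin_911 : BT := .node (.node (.node (.node (.node (.node (.node (.leaf 45606) (.leaf 138635)) (.leaf 108949)) (.node (.leaf 107005) (.leaf 112472))) (.node (.node (.leaf 19283) (.leaf 85787)) (.node (.leaf 106246) (.leaf 124735)))) (.node (.node (.node (.leaf 45479) (.leaf 72634)) (.node (.leaf 53961) (.leaf 118003))) (.node (.node (.leaf 47477) (.leaf 107928)) (.node (.leaf 61403) (.leaf 136258))))) (.node (.node (.node (.node (.node (.leaf 45653) (.leaf 140953)) (.leaf 98556)) (.node (.leaf 52795) (.leaf 114943))) (.node (.node (.leaf 36487) (.leaf 114136)) (.node (.leaf 58821) (.leaf 127655)))) (.node (.node (.node (.leaf 14157) (.leaf 79222)) (.node (.leaf 99419) (.leaf 121317))) (.node (.node (.leaf 49581) (.leaf 138560)) (.node (.leaf 65195) (.leaf 135573)))))) (.node (.node (.node (.node (.node (.node (.leaf 34362) (.leaf 139695)) (.leaf 68364)) (.node (.leaf 52074) (.leaf 113357))) (.node (.node (.leaf 45915) (.leaf 88215)) (.node (.leaf 57507) (.leaf 128844)))) (.node (.node (.node (.leaf 41410) (.leaf 75955)) (.node (.leaf 54342) (.leaf 119483)))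 (.node (.node (.leaf 48545) (.leaf 108565)) (.node (.leaf 106751) (.leaf 133583))))) (.node (.node (.node (.node (.leaf 8189) (.leaf 70394)) (.node (.leaf 100767) (.leaf 116637))) (.node (.node (.leaf 25931) (.leaf 93435)) (.node (.leaf 59795) (.leaf 129836)))) (.node (.node (.node (.leaf 49746) (.leaf 105313)) (.node (.leaf 62857) (.leaf 122542))) (.node (.node (.leaf 50695) (.leaf 120404)) (.node (.leaf 118967) (.leaf 137043))))))
def dFin_918 : BT := .node (.node (.node (.node (.node (.node (.node (.leaf 153) (.leaf 138768)) (.leaf 103241)) (.node (.leaf 51438) (.leaf 112348))) (.node (.node (.leaf 42234) (.leaf 87605)) (.node (.leaf 56799) (.leaf 124913)))) (.node (.node (.node (.leaf 12227) (.leaf 73412)) (.node (.leaf 98662) (.leaf 118238))) (.node (.node (.leaf 47614) (.leaf 114359)) (.node (.leaf 102292) (.leaf 131986))))) (.node (.node (.node (.node (.leaf 10631) (.leaf 69538)) (.node (.leaf 52743) (.leaf 115115))) (.node (.node (.leaf 45984) (.leaf 92400)) (.node (.leaf 59218) (.leaf 128110)))) (.node (.node (.node (.leaf 14273) (.leaf 79657)) (.node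 (.leaf 106049) (.leaf 121495))) (.node (.node (.leaf 49669) (.leaf 110007)) (.node (.leaf 65334) (.leaf 136888)))))) (.node (.node (.node (.node (.node (.node (.leaf 1223) (.leaf 139803)) (.leaf 68506)) (.node (.leaf 52175) (.leaf 113569))) (.node (.node (.leaf 23775) (.leaf 88762)) (.node (.leaf 58109) (.leaf 126692)))) (.node (.node (.node (.leaf 65192) (.leaf 119281)) (.node (.leaf 104224) (.leaf 119741))) (.node (.node (.leaf 48729) (.leaf 108631)) (.node (.leaf 114886) (.leaf 133800))))) (.node (.node (.node (.node (.leaf 41506) (.leaf 98826)) (.node (.leaf 53112) (.leaf 116840))) (.node (.node (.leaf 41191) (.leaf 93848)) (.node (.leaf 101154) (.leaf 129624)))) (.node (.node (.node (.leaf 17357) (.leaf 83396)) (.node (.leaf 55983) (.leaf 124664))) (.node (.node (.leaf 130899) (.leaf 111331)) (.node (.leaf 66687) (.leaf 137275))))))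
def dFin_927 : BT := .node (.node (.node (.node (.node (.node (.node (.leaf 45222) (.leaf 138571)) (.leaf 126585)) (.node (.leaf 100904) (.leaf 112089))) (.node (.node (.leaf 19295) (.leaf 102164)) (.node (.leaf 135769) (.leaf 124696)))) (.node (.node (.node (.leaf 12152) (.leaf 72703)) (.node (.leaf 95163) (.leaf 117782))) (.node (.node (.leaf 47433) (.leaf 107175)) (.node (.leaf 61449) (.leaf 131424))))) (.node (.node (.node (.node (.node (.leaf 8409) (.leaf 140917)) (.leaf 69251)) (.node (.leaf 52818) (.leaf 114817))) (.node (.node (.leaf 122328) (.leaf 116448)) (.node (.leaf 58837) (.leaf 127711)))) (.node (.node (.node (.leaf 40717) (.leaf 106791)) (.node (.leaf 113763) (.leaf 121263))) (.node (.node (.leaf 49507) (.leaf 115054)) (.node (.leaf 65107) (.leaf 135459)))))) (.node (.node (.node (.node (.node (.node (.leaf 9715) (.leaf 140158)) (.leaf 68387)) (.node (.leaf 52040) (.leaf 113395))) (.node (.node (.leaf 23817) (.leaf 88302)) (.node (.leaf 113387) (.leaf 128839)))) (.node (.node (.node (.leaf 47348) (.leaf 107689)) (.node (.leaf 54373) (.leaf 132478)))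 (.node (.node (.leaf 48552) (.leaf 108527)) (.node (.leaf 63026) (.leaf 133580))))) (.node (.node (.node (.node (.leaf 42405) (.leaf 70664)) (.node (.leaf 53261) (.leaf 116607))) (.node (.node (.leaf 25917) (.leaf 93393)) (.node (.leaf 59962) (.leaf 129931)))) (.node (.node (.node (.leaf 17312) (.leaf 130991)) (.node (.leaf 55767) (.leaf 134207))) (.node (.node (.leaf 99763) (.leaf 116992)) (.node (.leaf 96279) (.leaf 137086))))))
def dFin_934 : BT := .node (.node (.node (.node (.node (.node (.node (.leaf 37315) (.leaf 138717)) (.leaf 67301)) (.node (.leaf 51500) (.leaf 119337))) (.node (.node (.leaf 128689) (.leaf 88728)) (.node (.leaf 56823) (.leaf 124867)))) (.node (.node (.node (.leaf 41145) (.leaf 99828)) (.node (.leaf 101626) (.leaf 118191))) (.node (.node (.leaf 47584) (.leaf 108260)) (.node (.leaf 102617) (.leaf 132029))))) (.node (.node (.node (.node (.node (.leaf 2625) (.leaf 141072)) (.leaf 69587)) (.node (.leaf 59321) (.leaf 115049))) (.node (.node (.leaf 46782) (.leaf 92334)) (.node (.leaf 59247) (.leaf 130407)))) (.node (.node (.node (.leaf 14251)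 (.leaf 104909)) (.node (.leaf 106083) (.leaf 121453))) (.node (.node (.leaf 49727) (.leaf 109979)) (.node (.leaf 65374) (.leaf 135779)))))) (.node (.node (.node (.node (.node (.node (.leaf 35571) (.leaf 139812)) (.leaf 86750)) (.node (.leaf 52145) (.leaf 113572))) (.node (.node (.leaf 23761) (.leaf 88483)) (.node (.leaf 58088) (.leaf 126254)))) (.node (.node (.node (.leaf 13017) (.leaf 105213)) (.node (.leaf 61364) (.leaf 119693))) (.node (.node (.leaf 100034) (.leaf 135642)) (.node (.leaf 106724) (.leaf 133827))))) (.node (.node (.node (.node (.leaf 10779) (.leaf 98347)) (.node (.leaf 53161) (.leaf 116751))) (.node (.node (.leaf 41350) (.leaf 93517)) (.node (.leaf 60364) (.leaf 129529)))) (.node (.node (.node (.leaf 37267) (.leaf 83409)) (.node (.leaf 62820) (.leaf 124700))) (.node (.node (.leaf 50775) (.leaf 111166)) (.node (.leaf 66746) (.leaf 137312))))))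
def dFin_942 : BT := .node (.node (.node (.node (.node (.node (.node (.leaf 35675) (.leaf 138727)) (.leaf 67389)) (.node (.leaf 119968) (.leaf 112413))) (.node (.node (.leaf 45292) (.leaf 85748)) (.node (.leaf 57504) (.leaf 124779)))) (.node (.node (.node (.leaf 12198) (.leaf 100983)) (.node (.leaf 53912) (.leaf 118033))) (.node (.node (.leaf 47507) (.leaf 108935)) (.node (.leaf 61652) (.leaf 131753))))) (.node (.node (.node (.node (.node (.leaf 35353) (.leaf 141021)) (.leaf 98862)) (.node (.leaf 52770) (.leaf 115031))) (.node (.node (.leaf 24639) (.leaf 92243)) (.node (.leaf 58621) (.leaf 127534)))) (.node (.node (.node (.leaf 14205) (.leaf 122463)) (.node (.leaf 55040) (.leaf 121349))) (.node (.node (.leaf 91957) (.leaf 109912)) (.node (.leaf 65275) (.leaf 135601)))))) (.node (.node (.node (.node (.node (.node (.leaf 35680) (.leaf 139731)) (.leaf 68343)) (.node (.leaf 52079) (.leaf 113477))) (.node (.node (.leaf 46532) (.leaf 88621)) (.node (.leaf 57307) (.leaf 126377)))) (.node (.node (.node (.leaf 40710) (.leaf 95724)) (.node (.leaf 96550) (.leaf 119550)))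 (.node (.node (.leaf 48606) (.leaf 114851)) (.node (.leaf 63182) (.leaf 133497))))) (.node (.node (.node (.node (.leaf 8249) (.leaf 70918)) (.node (.leaf 100846) (.leaf 116679))) (.node (.node (.leaf 26066) (.leaf 93475)) (.node (.leaf 60412) (.leaf 129786)))) (.node (.node (.node (.leaf 46974) (.leaf 103025)) (.node (.leaf 105480) (.leaf 123045))) (.node (.node (.leaf 115712) (.leaf 111241)) (.node (.leaf 73812) (.leaf 137221))))))
def dFin_949 : BT := .node (.node (.node (.node (.node (.node (.node (.leaf 35869) (.leaf 139027)) (.leaf 75114)) (.node (.leaf 51379) (.leaf 112289))) (.node (.node (.leaf 19353) (.leaf 85941)) (.node (.leaf 56873) (.leaf 124944)))) (.node (.node (.node (.leaf 44617) (.leaf 106602)) (.node (.leaf 98739) (.leaf 123278))) (.node (.node (.leaf 48979) (.leaf 119257)) (.node (.leaf 106667) (.leaf 131946))))) (.node (.node (.node (.node (.leaf 2653) (.leaf 100986)) (.node (.leaf 52718) (.leaf 115169))) (.node (.node (.leaf 41306) (.leaf 106710)) (.node (.leaf 59192) (.leaf 129832)))) (.node (.node (.node (.leaf 38869) (.leaf 79611)) (.node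 (.leaf 105936) (.leaf 135612))) (.node (.node (.leaf 49966) (.leaf 110035)) (.node (.leaf 65381) (.leaf 138370)))))) (.node (.node (.node (.node (.node (.node (.leaf 1405) (.leaf 140342)) (.leaf 68487)) (.node (.leaf 59135) (.leaf 113659))) (.node (.node (.leaf 24776) (.leaf 88744)) (.node (.leaf 57976) (.leaf 127164)))) (.node (.node (.node (.leaf 13463) (.leaf 102930)) (.node (.leaf 105560) (.leaf 119620))) (.node (.node (.leaf 48756) (.leaf 108729)) (.node (.leaf 92266) (.leaf 133753))))) (.node (.node (.node (.node (.leaf 40811) (.leaf 96268)) (.node (.leaf 53091) (.leaf 116804))) (.node (.node (.leaf 26012) (.leaf 105650)) (.node (.leaf 97458) (.leaf 129441)))) (.node (.node (.node (.leaf 105695) (.leaf 83459)) (.node (.leaf 55950) (.leaf 123238))) (.node (.node (.leaf 50865) (.leaf 111359)) (.node (.leaf 66626) (.leaf 137359))))))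
def dFin_959 : BT := .node (.node (.node (.node (.node (.node (.node (.leaf 1283) (.leaf 138559)) (.leaf 67283)) (.node (.leaf 57697) (.leaf 112071))) (.node (.node (.leaf 19257) (.leaf 85456)) (.node (.leaf 57879) (.leaf 124677)))) (.node (.node (.node (.leaf 49218) (.leaf 101398)) (.node (.leaf 95062) (.leaf 117808))) (.node (.node (.leaf 47421) (.leaf 114426)) (.node (.leaf 107121) (.leaf 131491))))) (.node (.node (.node (.node (.node (.leaf 41551) (.leaf 140913)) (.leaf 71249)) (.node (.leaf 52711) (.leaf 114805))) (.node (.node (.leaf 40591) (.leaf 104847)) (.node (.leaf 101265) (.leaf 131435)))) (.node (.node (.node (.leaf 14141) (.leaf 79163)) (.node (.leaf 55247) (.leaf 121295))) (.node (.node (.leaf 109275) (.leaf 115594)) (.node (.leaf 64877) (.leaf 135521)))))) (.node (.node (.node (.node (.node (.node (.leaf 45654) (.leaf 140138)) (.leaf 67911)) (.node (.leaf 52021) (.leaf 118052))) (.node (.node (.leaf 24057) (.leaf 97515)) (.node (.leaf 57393) (.leaf 128812)))) (.node (.node (.node (.leaf 91935) (.leaf 75996)) (.node (.leaf 107127) (.leaf 119430)))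 (.node (.node (.leaf 48523) (.leaf 108431)) (.node (.leaf 103824) (.leaf 135269))))) (.node (.node (.node (.node (.leaf 8163) (.leaf 114970)) (.node (.leaf 103737) (.leaf 116601))) (.node (.node (.leaf 25937) (.leaf 93371)) (.node (.leaf 103340) (.leaf 129908)))) (.node (.node (.node (.leaf 42331) (.leaf 82778)) (.node (.leaf 55651) (.leaf 122555))) (.node (.node (.leaf 50605) (.leaf 110644)) (.node (.leaf 71208) (.leaf 137015))))))
def dFin_966 : BT := .node (.node (.node (.node (.node (.node (.node (.leaf 37041) (.leaf 138707)) (.leaf 80034)) (.node (.leaf 51213) (.leaf 136378))) (.node (.node (.leaf 40971) (.leaf 103329)) (.node (.leaf 119666) (.leaf 124847)))) (.node (.node (.node (.leaf 12236) (.leaf 73438)) (.node (.leaf 54092) (.leaf 118111))) (.node (.node (.leaf 102940) (.leaf 114252)) (.node (.leaf 61778) (.leaf 131740))))) (.node (.node (.node (.node (.node (.leaf 36907) (.leaf 141055)) (.leaf 108501)) (.node (.leaf 97988) (.leaf 115096))) (.node (.node (.leaf 50771) (.leaf 92295)) (.node (.leaf 99299) (.leaf 128274)))) (.node (.node (.node (.leaf 14237)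 (.leaf 79091)) (.node (.leaf 102393) (.leaf 121439))) (.node (.node (.leaf 49633) (.leaf 109959)) (.node (.leaf 65325) (.leaf 135756)))))) (.node (.node (.node (.node (.node (.node (.leaf 769) (.leaf 139777)) (.leaf 81146)) (.node (.leaf 65368) (.leaf 114343))) (.node (.node (.leaf 24820) (.leaf 124688)) (.node (.leaf 104094) (.leaf 126743)))) (.node (.node (.node (.leaf 42158) (.leaf 104431)) (.node (.leaf 54421) (.leaf 119783))) (.node (.node (.leaf 48651) (.leaf 108671)) (.node (.leaf 63172) (.leaf 133680))))) (.node (.node (.node (.node (.leaf 52008) (.leaf 71198)) (.node (.leaf 102832) (.leaf 116714))) (.node (.node (.leaf 46404) (.leaf 93550)) (.node (.leaf 99000) (.leaf 131451)))) (.node (.node (.node (.leaf 44719) (.leaf 101032)) (.node (.leaf 55867) (.leaf 123128))) (.node (.node (.leaf 50814) (.leaf 119956)) (.node (.leaf 66319) (.leaf 137281))))))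
def dFin_974 : BT := .node (.node (.node (.node (.node (.node (.node (.leaf 36163) (.leaf 138834)) (.leaf 67167)) (.node (.leaf 51333) (.leaf 112545))) (.node (.node (.leaf 45698) (.leaf 103262)) (.node (.leaf 56216) (.leaf 124759)))) (.node (.node (.node (.leaf 12175) (.leaf 72819)) (.node (.leaf 103009) (.leaf 118005))) (.node (.node (.leaf 47558) (.leaf 107215)) (.node (.leaf 105379) (.leaf 131211))))) (.node (.node (.node (.node (.node (.leaf 2593) (.leaf 140979)) (.leaf 98856)) (.node (.leaf 97530) (.leaf 115039))) (.node (.node (.leaf 24659) (.leaf 125209)) (.node (.leaf 65087) (.leaf 127588)))) (.node (.node (.node (.leaf 42370) (.leaf 79233)) (.node (.leaf 55183) (.leaf 121337))) (.node (.node (.leaf 49585) (.leaf 109852)) (.node (.leaf 65203) (.leaf 135578)))))) (.node (.node (.node (.node (.node (.node (.leaf 36679) (.leaf 139713)) (.leaf 100303)) (.node (.leaf 52095) (.leaf 113467))) (.node (.node (.leaf 40524) (.leaf 103143)) (.node (.leaf 101092) (.leaf 126802)))) (.node (.node (.node (.leaf 13435) (.leaf 75963)) (.node (.leaf 54481) (.leaf 123326)))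 (.node (.node (.leaf 122334) (.leaf 108581)) (.node (.leaf 63256) (.leaf 133567))))) (.node (.node (.node (.node (.leaf 8335) (.leaf 116870)) (.node (.leaf 100834) (.leaf 116659))) (.node (.node (.leaf 50660) (.leaf 106895)) (.node (.leaf 106391) (.leaf 129696)))) (.node (.node (.node (.leaf 17321) (.leaf 82540)) (.node (.leaf 65097) (.leaf 123043))) (.node (.node (.leaf 50709) (.leaf 111092)) (.node (.leaf 66184) (.leaf 137200))))))
def dFin_981 : BT := .node (.node (.node (.node (.node (.node (.node (.leaf 565) (.leaf 138757)) (.leaf 85646)) (.node (.leaf 51562) (.leaf 112586))) (.node (.node (.leaf 45712) (.leaf 120309)) (.node (.leaf 103706) (.leaf 124922)))) (.node (.node (.node (.leaf 42089) (.leaf 73355)) (.node (.leaf 53996) (.leaf 118255))) (.node (.node (.leaf 47661) (.leaf 107329)) (.node (.leaf 102479) (.leaf 131846))))) (.node (.node (.node (.node (.leaf 8412) (.leaf 69771)) (.node (.leaf 102962) (.leaf 115135))) (.node (.node (.leaf 24833) (.leaf 92525)) (.node (.leaf 97704) (.leaf 130224)))) (.node (.node (.node (.leaf 14308) (.leaf 101223)) (.node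 (.leaf 55115) (.leaf 135598))) (.node (.node (.leaf 49705) (.leaf 122341)) (.node (.leaf 65350) (.leaf 135854)))))) (.node (.node (.node (.node (.node (.node (.leaf 1481) (.leaf 139833)) (.leaf 106142)) (.node (.leaf 52634) (.leaf 113611))) (.node (.node (.leaf 23783) (.leaf 102175)) (.node (.leaf 105234) (.leaf 126478)))) (.node (.node (.node (.leaf 13045) (.leaf 76199)) (.node (.leaf 104234) (.leaf 119676))) (.node (.node (.leaf 48771) (.leaf 108645)) (.node (.leaf 63795) (.leaf 133750))))) (.node (.node (.node (.node (.leaf 10799) (.leaf 71167)) (.node (.leaf 53341) (.leaf 116891))) (.node (.node (.leaf 36585) (.leaf 113084)) (.node (.leaf 60455) (.leaf 129584)))) (.node (.node (.node (.leaf 40686) (.leaf 99582)) (.node (.leaf 55779) (.leaf 137209))) (.node (.node (.leaf 50884) (.leaf 128867)) (.node (.leaf 66784) (.leaf 137339))))))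
def dFin_990 : BT := .node (.node (.node (.node (.node (.node (.node (.leaf 1124) (.leaf 138627)) (.leaf 67223)) (.node (.leaf 56527) (.leaf 133401))) (.node (.node (.leaf 45356) (.leaf 85664)) (.node (.leaf 56278) (.leaf 127937)))) (.node (.node (.node (.leaf 12880) (.leaf 104345)) (.node (.leaf 107186) (.leaf 117766))) (.node (.node (.leaf 47463) (.leaf 107191)) (.node (.leaf 139736) (.leaf 131446))))) (.node (.node (.node (.node (.node (.leaf 38071) (.leaf 140929)) (.leaf 98546)) (.node (.leaf 52668) (.leaf 115419))) (.node (.node (.leaf 24199) (.leaf 92602)) (.node (.leaf 65139) (.leaf 128051)))) (.node (.node (.node (.leaf 14433) (.leaf 102608)) (.node (.leaf 55214) (.leaf 121232))) (.node (.node (.leaf 49547) (.leaf 109915)) (.node (.leaf 65121) (.leaf 135467)))))) (.node (.node (.node (.node (.node (.node (.leaf 45657) (.leaf 139679)) (.leaf 68233)) (.node (.leaf 52063) (.leaf 113435))) (.node (.node (.leaf 41217) (.leaf 88213)) (.node (.leaf 57332) (.leaf 127103)))) (.node (.node (.node (.leaf 13717) (.leaf 75983)) (.node (.leaf 98142) (.leaf 125325)))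 (.node (.node (.leaf 49189) (.leaf 108545)) (.node (.leaf 63299) (.leaf 133599))))) (.node (.node (.node (.node (.leaf 32960) (.leaf 70478)) (.node (.leaf 103901) (.leaf 134715))) (.node (.node (.leaf 25999) (.leaf 120954)) (.node (.leaf 59781) (.leaf 129732)))) (.node (.node (.node (.leaf 17307) (.leaf 82570)) (.node (.leaf 62887) (.leaf 122562))) (.node (.node (.leaf 50673) (.leaf 110577)) (.node (.leaf 72377) (.leaf 137066))))))
def dFin_997 : BT := .node (.node (.node (.node (.node (.node (.node (.leaf 35754) (.leaf 138889)) (.leaf 67136)) (.node (.leaf 106260) (.leaf 115529))) (.node (.node (.leaf 19331) (.leaf 97345)) (.node (.leaf 103620) (.leaf 124885)))) (.node (.node (.node (.leaf 106335) (.leaf 99838)) (.node (.leaf 54045) (.leaf 118216))) (.node (.node (.leaf 47569) (.leaf 113577)) (.node (.leaf 61742) (.leaf 131864))))) (.node (.node (.node (.node (.node (.leaf 2633) (.leaf 141089)) (.leaf 104416)) (.node (.leaf 135027) (.leaf 115067))) (.node (.node (.leaf 44755) (.leaf 92551)) (.node (.leaf 101183) (.leaf 128267)))) (.node (.node (.node (.leaf 14257)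 (.leaf 79062)) (.node (.leaf 55146) (.leaf 121489))) (.node (.node (.leaf 65208) (.leaf 110005)) (.node (.leaf 65359) (.leaf 135794)))))) (.node (.node (.node (.node (.node (.node (.leaf 36592) (.leaf 139854)) (.leaf 106382)) (.node (.leaf 58607) (.leaf 113541))) (.node (.node (.leaf 52646) (.leaf 110026)) (.node (.leaf 99947) (.leaf 126543)))) (.node (.node (.node (.leaf 13021) (.leaf 76269)) (.node (.leaf 100845) (.leaf 119723))) (.node (.node (.leaf 48687) (.leaf 108656)) (.node (.leaf 63549) (.leaf 133775))))) (.node (.node (.node (.node (.leaf 10795) (.leaf 71185)) (.node (.leaf 102650) (.leaf 116759))) (.node (.node (.leaf 35813) (.leaf 93535)) (.node (.leaf 60474) (.leaf 129539)))) (.node (.node (.node (.leaf 41372) (.leaf 99795)) (.node (.leaf 55834) (.leaf 123181))) (.node (.node (.leaf 50807) (.leaf 111035)) (.node (.leaf 66323) (.leaf 137251))))))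
def dFin_1005 : BT := .node (.node (.node (.node (.node (.node (.node (.leaf 35689) (.leaf 138780)) (.leaf 102120)) (.node (.leaf 51272) (.leaf 124313))) (.node (.node (.leaf 41665) (.leaf 85702)) (.node (.leaf 56154) (.leaf 124803)))) (.node (.node (.node (.leaf 45548) (.leaf 73453)) (.node (.leaf 98032) (.leaf 123101))) (.node (.node (.leaf 47995) (.leaf 107279)) (.node (.leaf 61809) (.leaf 131772))))) (.node (.node (.node (.node (.node (.leaf 32957) (.leaf 141010)) (.leaf 117409)) (.node (.leaf 52671) (.leaf 114975))) (.node (.node (.leaf 24654) (.leaf 111912)) (.node (.leaf 64411) (.leaf 127515)))) (.node (.node (.node (.leaf 14211) (.leaf 79117)) (.node (.leaf 81395) (.leaf 121385))) (.node (.node (.leaf 49662) (.leaf 109890)) (.node (.leaf 65291) (.leaf 135658)))))) (.node (.node (.node (.node (.node (.node (.leaf 35690) (.leaf 139753)) (.leaf 68250)) (.node (.leaf 52187) (.leaf 113503))) (.node (.node (.leaf 23729) (.leaf 116648)) (.node (.leaf 100923) (.leaf 126778)))) (.node (.node (.node (.leaf 118413) (.leaf 75901)) (.node (.leaf 54450) (.leaf 119567)))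 (.node (.node (.leaf 48587) (.leaf 121231)) (.node (.leaf 63190) (.leaf 133505))))) (.node (.node (.node (.node (.leaf 8359) (.leaf 98815)) (.node (.leaf 107018) (.leaf 116681))) (.node (.node (.leaf 97384) (.leaf 93487)) (.node (.leaf 122435) (.leaf 129659)))) (.node (.node (.node (.leaf 47314) (.leaf 82513)) (.node (.leaf 55898) (.leaf 123117))) (.node (.node (.leaf 50749) (.leaf 134699)) (.node (.leaf 66290) (.leaf 137165))))))
def dFin_1012 : BT := .node (.node (.node (.node (.node (.node (.node (.leaf 45113) (.leaf 138805)) (.leaf 118435)) (.node (.leaf 51179) (.leaf 112679))) (.node (.node (.leaf 93240) (.leaf 103415)) (.node (.leaf 81086) (.leaf 125157)))) (.node (.node (.node (.leaf 12241) (.leaf 73666)) (.node (.leaf 98657) (.leaf 118301))) (.node (.node (.leaf 47635) (.leaf 107464)) (.node (.leaf 61820) (.leaf 131810))))) (.node (.node (.node (.node (.leaf 2693) (.leaf 69712)) (.node (.leaf 98895) (.leaf 115177))) (.node (.node (.leaf 24713) (.leaf 92504)) (.node (.leaf 59304) (.leaf 131736)))) (.node (.node (.node (.leaf 41432) (.leaf 98246)) (.node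 (.leaf 55082) (.leaf 121569))) (.node (.node (.leaf 49759) (.leaf 114160)) (.node (.leaf 65413) (.leaf 140791)))))) (.node (.node (.node (.node (.node (.node (.leaf 931) (.leaf 139903)) (.leaf 109507)) (.node (.leaf 59117) (.leaf 113665))) (.node (.node (.leaf 23977) (.leaf 88717)) (.node (.leaf 139484) (.leaf 126400)))) (.node (.node (.node (.leaf 13673) (.leaf 76153)) (.node (.leaf 54700) (.leaf 119813))) (.node (.node (.leaf 48741) (.leaf 108957)) (.node (.leaf 63764) (.leaf 133884))))) (.node (.node (.node (.node (.leaf 46138) (.leaf 72416)) (.node (.leaf 53292) (.leaf 116792))) (.node (.node (.leaf 42423) (.leaf 113088)) (.node (.leaf 60433) (.leaf 129463)))) (.node (.node (.node (.leaf 17383) (.leaf 85330)) (.node (.leaf 101831) (.leaf 123293))) (.node (.node (.leaf 50931) (.leaf 111709)) (.node (.leaf 103541) (.leaf 137391))))))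
def dFin_1026 : BT := .node (.node (.node (.node (.node (.node (.node (.leaf 1286) (.leaf 138558)) (.leaf 67285)) (.node (.leaf 56600) (.leaf 112046))) (.node (.node (.leaf 19246) (.leaf 85458)) (.node (.leaf 56522) (.leaf 124639)))) (.node (.node (.node (.leaf 49194) (.leaf 139977)) (.node (.leaf 95035) (.leaf 117842))) (.node (.node (.leaf 47412) (.leaf 95443)) (.node (.leaf 137250) (.leaf 131531))))) (.node (.node (.node (.node (.node (.leaf 38414) (.leaf 140853)) (.leaf 72479)) (.node (.leaf 52713) (.leaf 114852))) (.node (.node (.leaf 40554) (.leaf 106050)) (.node (.leaf 103214) (.leaf 140792)))) (.node (.node (.node (.leaf 38051) (.leaf 79166)) (.node (.leaf 55249) (.leaf 121057))) (.node (.node (.leaf 69982) (.leaf 109761)) (.node (.leaf 64925) (.leaf 135366)))))) (.node (.node (.node (.node (.node (.node (.leaf 46055) (.leaf 140008)) (.leaf 67914)) (.node (.leaf 51992) (.leaf 113423))) (.node (.node (.leaf 23973) (.leaf 97140)) (.node (.leaf 57396) (.leaf 132703)))) (.node (.node (.node (.leaf 12920) (.leaf 75998)) (.node (.leaf 139820) (.leaf 119428)))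 (.node (.node (.leaf 48484) (.leaf 108492)) (.node (.leaf 104804) (.leaf 133296))))) (.node (.node (.node (.node (.leaf 8086) (.leaf 70670)) (.node (.leaf 100548) (.leaf 133255))) (.node (.node (.leaf 25902) (.leaf 93333)) (.node (.leaf 103316) (.leaf 129997)))) (.node (.node (.node (.leaf 42350) (.leaf 82243)) (.node (.leaf 55713) (.leaf 122581))) (.node (.node (.leaf 50642) (.leaf 110646)) (.node (.leaf 72386) (.leaf 136932))))))
def dFin_1033 : BT := .node (.node (.node (.node (.node (.node (.node (.leaf 35890) (.leaf 138675)) (.leaf 102159)) (.node (.leaf 51215) (.leaf 116900))) (.node (.node (.leaf 40956) (.leaf 103176)) (.node (.leaf 56129) (.leaf 124828)))) (.node (.node (.node (.leaf 44728) (.leaf 73440)) (.node (.leaf 54094) (.leaf 123105))) (.node (.node (.leaf 96702) (.leaf 108973)) (.node (.leaf 61780) (.leaf 131777))))) (.node (.node (.node (.node (.node (.leaf 32885) (.leaf 141013)) (.leaf 101259)) (.node (.leaf 97827) (.leaf 114972))) (.node (.node (.leaf 48575) (.leaf 132044)) (.node (.leaf 99292) (.leaf 127516)))) (.node (.node (.node (.leaf 14212)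 (.leaf 79094)) (.node (.leaf 81389) (.leaf 121397))) (.node (.node (.leaf 49664) (.leaf 109893)) (.node (.leaf 65294) (.leaf 135641)))))) (.node (.node (.node (.node (.node (.node (.leaf 467) (.leaf 139750)) (.leaf 104305)) (.node (.leaf 65386) (.leaf 119301))) (.node (.node (.leaf 23732) (.leaf 107744)) (.node (.leaf 103707) (.leaf 126782)))) (.node (.node (.node (.leaf 42700) (.leaf 75903)) (.node (.leaf 54423) (.leaf 119568))) (.node (.node (.leaf 48588) (.leaf 108673)) (.node (.leaf 63192) (.leaf 133550))))) (.node (.node (.node (.node (.leaf 8270) (.leaf 70860)) (.node (.leaf 101427) (.leaf 116684))) (.node (.node (.leaf 25950) (.leaf 93488)) (.node (.leaf 97303) (.leaf 129790)))) (.node (.node (.node (.leaf 47311) (.leaf 106552)) (.node (.leaf 55869) (.leaf 123076))) (.node (.node (.leaf 50752) (.leaf 128882)) (.node (.leaf 66293) (.leaf 137168))))))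
def dFin_1041 : BT := .node (.node (.node (.node (.node (.node (.node (.leaf 45457) (.leaf 138648)) (.leaf 67178)) (.node (.leaf 51335) (.leaf 112547))) (.node (.node (.leaf 45358) (.leaf 114633)) (.node (.leaf 56221) (.leaf 124751)))) (.node (.node (.node (.leaf 12136) (.leaf 72857)) (.node (.leaf 114229) (.leaf 117769))) (.node (.node (.leaf 47450) (.leaf 107192)) (.node (.leaf 100763) (.leaf 131450))))) (.node (.node (.node (.node (.node (.leaf 2562) (.leaf 140930)) (.leaf 98548)) (.node (.leaf 97410) (.leaf 114911))) (.node (.node (.leaf 24674) (.leaf 106502)) (.node (.leaf 58809) (.leaf 128060)))) (.node (.node (.node (.leaf 42374) (.leaf 102610)) (.node (.leaf 55185) (.leaf 121265))) (.node (.node (.leaf 49548) (.leaf 109904)) (.node (.leaf 65125) (.leaf 135468)))))) (.node (.node (.node (.node (.node (.node (.leaf 37096) (.leaf 139707)) (.leaf 103959)) (.node (.leaf 52064) (.leaf 114128))) (.node (.node (.leaf 40530) (.leaf 95725)) (.node (.leaf 106421) (.leaf 126820)))) (.node (.node (.node (.leaf 13014) (.leaf 75970)) (.node (.leaf 54483) (.leaf 125298)))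 (.node (.node (.leaf 51758) (.leaf 108547)) (.node (.leaf 63258) (.leaf 133577))))) (.node (.node (.node (.node (.leaf 32962) (.leaf 70476)) (.node (.leaf 100728) (.leaf 116616))) (.node (.node (.leaf 50442) (.leaf 103689)) (.node (.leaf 110965) (.leaf 129701)))) (.node (.node (.node (.leaf 17308) (.leaf 82545)) (.node (.leaf 62877) (.leaf 130401))) (.node (.node (.leaf 50677) (.leaf 110518)) (.node (.leaf 66189) (.leaf 137035))))))
def dFin_1048 : BT := .node (.node (.node (.node (.node (.node (.node (.leaf 567) (.leaf 138779)) (.leaf 103144)) (.node (.leaf 60980) (.leaf 140237))) (.node (.node (.leaf 45310) (.leaf 99601)) (.node (.leaf 103622) (.leaf 124899)))) (.node (.node (.node (.leaf 42365) (.leaf 99840)) (.node (.leaf 53998) (.leaf 118219))) (.node (.node (.leaf 47570) (.leaf 107339)) (.node (.leaf 61916) (.leaf 131851))))) (.node (.node (.node (.node (.node (.leaf 10637) (.leaf 141066)) (.leaf 69773)) (.node (.leaf 135025) (.leaf 115072))) (.node (.node (.leaf 24872) (.leaf 92532)) (.node (.leaf 98231) (.leaf 130254)))) (.node (.node (.node (.leaf 14263)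 (.leaf 101961)) (.node (.leaf 55117) (.leaf 121476))) (.node (.node (.leaf 49715) (.leaf 110009)) (.node (.leaf 65356) (.leaf 135798)))))) (.node (.node (.node (.node (.node (.node (.leaf 36796) (.leaf 139849)) (.leaf 102257)) (.node (.leaf 52163) (.leaf 113542))) (.node (.node (.leaf 23768) (.leaf 102172)) (.node (.leaf 139528) (.leaf 126484)))) (.node (.node (.node (.leaf 13022) (.leaf 76226)) (.node (.leaf 100847) (.leaf 119667))) (.node (.node (.leaf 48691) (.leaf 108647)) (.node (.leaf 63552) (.leaf 133784))))) (.node (.node (.node (.node (.leaf 34495) (.leaf 71170)) (.node (.leaf 53343) (.leaf 116765))) (.node (.node (.leaf 37767) (.leaf 93566)) (.node (.leaf 60457) (.leaf 129542)))) (.node (.node (.node (.leaf 40685) (.leaf 113117)) (.node (.leaf 55778) (.leaf 123204))) (.node (.node (.leaf 50808) (.leaf 132338)) (.node (.leaf 66777) (.leaf 137243))))))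
def dFin_1057 : BT := .node (.node (.node (.node (.node (.node (.node (.leaf 1126) (.leaf 138553)) (.leaf 67238)) (.node (.leaf 57700) (.leaf 120703))) (.node (.node (.leaf 45511) (.leaf 85439)) (.node (.leaf 56280) (.leaf 124691)))) (.node (.node (.node (.leaf 12900) (.leaf 101407)) (.node (.leaf 95066) (.leaf 117811))) (.node (.node (.leaf 47416) (.leaf 107164)) (.node (.leaf 105251) (.leaf 131496))))) (.node (.node (.node (.node (.node (.leaf 40843) (.leaf 140898)) (.leaf 124679)) (.node (.leaf 101175) (.leaf 114803))) (.node (.node (.leaf 24201) (.leaf 106788)) (.node (.leaf 59139) (.leaf 128040)))) (.node (.node (.node (.leaf 124923) (.leaf 79252)) (.node (.leaf 55216) (.leaf 121242))) (.node (.node (.leaf 49496) (.leaf 115596)) (.node (.leaf 64878) (.leaf 135524)))))) (.node (.node (.node (.node (.node (.node (.leaf 45656) (.leaf 139635)) (.leaf 68232)) (.node (.leaf 52022) (.leaf 113335))) (.node (.node (.leaf 41247) (.leaf 101123)) (.node (.leaf 57334) (.leaf 127102)))) (.node (.node (.node (.leaf 12962) (.leaf 75985)) (.node (.leaf 101249) (.leaf 122901)))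 (.node (.node (.leaf 49764) (.leaf 108434)) (.node (.leaf 63305) (.leaf 135271))))) (.node (.node (.node (.node (.leaf 32887) (.leaf 105108)) (.node (.leaf 53077) (.leaf 116586))) (.node (.node (.leaf 26036) (.leaf 93362)) (.node (.leaf 115484) (.leaf 129910)))) (.node (.node (.node (.leaf 17222) (.leaf 82579)) (.node (.leaf 64532) (.leaf 122564))) (.node (.node (.leaf 50606) (.leaf 110587)) (.node (.leaf 71226) (.leaf 137069))))))
def dFin_1064 : BT := .node (.node (.node (.node (.node (.node (.node (.leaf 37042) (.leaf 139828)) (.leaf 103341)) (.node (.leaf 102663) (.leaf 112571))) (.node (.node (.leaf 19318) (.leaf 85647)) (.node (.leaf 101385) (.leaf 124855)))) (.node (.node (.node (.leaf 116089) (.leaf 73472)) (.node (.leaf 54047) (.leaf 118116))) (.node (.node (.leaf 47592) (.leaf 114258)) (.node (.leaf 61751) (.leaf 131743))))) (.node (.node (.node (.node (.node (.leaf 2618) (.leaf 141034)) (.leaf 105969)) (.node (.leaf 100219) (.leaf 115099))) (.node (.node (.leaf 45061) (.leaf 92383)) (.node (.leaf 106128) (.leaf 128269)))) (.node (.node (.node (.leaf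 14256) (.leaf 79068)) (.node (.leaf 55148) (.leaf 121434))) (.node (.node (.leaf 49639) (.leaf 120960)) (.node (.leaf 65326) (.leaf 135665)))))) (.node (.node (.node (.node (.node (.node (.leaf 1390) (.leaf 139778)) (.leaf 106976)) (.node (.leaf 95080) (.leaf 113585))) (.node (.node (.leaf 51584) (.leaf 101286)) (.node (.leaf 104225) (.leaf 126545)))) (.node (.node (.node (.leaf 13031) (.leaf 76271)) (.node (.leaf 99236) (.leaf 119784))) (.node (.node (.leaf 48652) (.leaf 108658)) (.node (.leaf 63174) (.leaf 133845))))) (.node (.node (.node (.node (.leaf 10760) (.leaf 71187)) (.node (.leaf 102836) (.leaf 116717))) (.node (.node (.leaf 35811) (.leaf 93549)) (.node (.leaf 60476) (.leaf 131453)))) (.node (.node (.node (.leaf 41773) (.leaf 83472)) (.node (.leaf 55836) (.leaf 123135))) (.node (.node (.leaf 50813) (.leaf 111034)) (.node (.leaf 66322) (.leaf 137300))))))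
def dFin_1072 : BT := .node (.node (.node (.node (.node (.node (.node (.leaf 36165) (.leaf 138661)) (.leaf 67127)) (.node (.leaf 51274) (.leaf 124352))) (.node (.node (.leaf 41963) (.leaf 103264)) (.node (.leaf 56159) (.leaf 137512)))) (.node (.node (.node (.leaf 12169) (.leaf 72820)) (.node (.leaf 98839) (.leaf 118011))) (.node (.node (.leaf 47488) (.leaf 107220)) (.node (.leaf 61811) (.leaf 131221))))) (.node (.node (.node (.node (.node (.leaf 10770) (.leaf 140980)) (.leaf 139882)) (.node (.leaf 52670) (.leaf 115026))) (.node (.node (.leaf 24694) (.leaf 96725)) (.node (.leaf 58609) (.leaf 127590)))) (.node (.node (.node (.leaf 14168) (.leaf 79119)) (.node (.leaf 99519) (.leaf 121338))) (.node (.node (.leaf 49586) (.leaf 109855)) (.node (.leaf 65209) (.leaf 135589)))))) (.node (.node (.node (.node (.node (.node (.leaf 36680) (.leaf 139723)) (.leaf 68235)) (.node (.leaf 58523) (.leaf 123304))) (.node (.node (.leaf 23716) (.leaf 88616)) (.node (.leaf 99802) (.leaf 126797)))) (.node (.node (.node (.leaf 95206) (.leaf 77984)) (.node (.leaf 54452) (.leaf 119504)))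 (.node (.node (.leaf 48624) (.leaf 108583)) (.node (.leaf 63217) (.leaf 133568))))) (.node (.node (.node (.node (.leaf 10743) (.leaf 70833)) (.node (.leaf 112170) (.leaf 116660))) (.node (.node (.leaf 42639) (.leaf 93464)) (.node (.leaf 106591) (.leaf 129665)))) (.node (.node (.node (.leaf 44667) (.leaf 82515)) (.node (.leaf 55900) (.leaf 123047))) (.node (.node (.leaf 50715) (.leaf 111266)) (.node (.leaf 66165) (.leaf 137105))))))
def dFin_1079 : BT := .node (.node (.node (.node (.node (.node (.node (.leaf 45612) (.leaf 138758)) (.leaf 105235)) (.node (.leaf 51178) (.leaf 131717))) (.node (.node (.leaf 93307) (.leaf 106530)) (.node (.leaf 73479) (.leaf 124924)))) (.node (.node (.node (.leaf 12251) (.leaf 73356)) (.node (.leaf 98887) (.leaf 118256))) (.node (.node (.leaf 47662) (.leaf 107330)) (.node (.leaf 102481) (.leaf 131928))))) (.node (.node (.node (.node (.leaf 8481) (.leaf 69726)) (.node (.leaf 114271) (.leaf 115139))) (.node (.node (.leaf 24687) (.leaf 92506)) (.node (.leaf 59306) (.leaf 130226)))) (.node (.node (.node (.leaf 41431) (.leaf 95205)) (.node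 (.leaf 55084) (.leaf 121525))) (.node (.node (.leaf 49706) (.leaf 117470)) (.node (.leaf 65377) (.leaf 135834)))))) (.node (.node (.node (.node (.node (.node (.leaf 896) (.leaf 139859)) (.leaf 109526)) (.node (.leaf 97419) (.leaf 113616))) (.node (.node (.leaf 23996) (.leaf 88852)) (.node (.leaf 103599) (.leaf 126421)))) (.node (.node (.node (.leaf 44508) (.leaf 76156)) (.node (.leaf 54702) (.leaf 119623))) (.node (.node (.leaf 48758) (.leaf 108723)) (.node (.leaf 63766) (.leaf 133770))))) (.node (.node (.node (.node (.leaf 42382) (.leaf 71209)) (.node (.leaf 53294) (.leaf 116810))) (.node (.node (.leaf 42419) (.leaf 113086)) (.node (.leaf 60436) (.leaf 129549)))) (.node (.node (.node (.leaf 17366) (.leaf 99584)) (.node (.leaf 108846) (.leaf 136323))) (.node (.node (.leaf 50859) (.leaf 111336)) (.node (.leaf 66325) (.leaf 137364))))))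
def dFin_1089 : BT := .node (.node (.node (.node (.node (.node (.node (.leaf 34355) (.leaf 138592)) (.leaf 106460)) (.node (.leaf 103752) (.leaf 112056))) (.node (.node (.leaf 19252) (.leaf 106565)) (.node (.leaf 106646) (.leaf 124652)))) (.node (.node (.node (.leaf 12124) (.leaf 72706)) (.node (.leaf 97575) (.leaf 117803))) (.node (.node (.leaf 47401) (.leaf 95833)) (.node (.leaf 61464) (.leaf 131494))))) (.node (.node (.node (.node (.node (.leaf 2696) (.leaf 140888)) (.leaf 69253)) (.node (.leaf 52820) (.leaf 115295))) (.node (.node (.leaf 96668) (.leaf 114087)) (.node (.leaf 58893) (.leaf 127729)))) (.node (.node (.node (.leaf 40770) (.leaf 104846)) (.node (.leaf 99354) (.leaf 121280))) (.node (.node (.leaf 49509) (.leaf 123258)) (.node (.leaf 96380) (.leaf 135502)))))) (.node (.node (.node (.node (.node (.node (.leaf 9713) (.leaf 140112)) (.leaf 67896)) (.node (.leaf 52007) (.leaf 113430))) (.node (.node (.leaf 23639) (.leaf 88304)) (.node (.leaf 102857) (.leaf 130969)))) (.node (.node (.node (.leaf 45493) (.leaf 107687)) (.node (.leaf 54375) (.leaf 132485)))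 (.node (.node (.leaf 48508) (.leaf 108433)) (.node (.leaf 63028) (.leaf 134707))))) (.node (.node (.node (.node (.leaf 34506) (.leaf 103297)) (.node (.leaf 53263) (.leaf 116575))) (.node (.node (.leaf 25904) (.leaf 93352)) (.node (.leaf 59978) (.leaf 129933)))) (.node (.node (.node (.leaf 36587) (.leaf 105089)) (.node (.leaf 55641) (.leaf 122549))) (.node (.node (.leaf 95188) (.leaf 135704)) (.node (.leaf 98571) (.leaf 136996))))))
def dFin_1096 : BT := .node (.node (.node (.node (.node (.node (.node (.leaf 37955) (.leaf 138692)) (.leaf 67303)) (.node (.leaf 51502) (.leaf 116848))) (.node (.node (.leaf 137603) (.leaf 103273)) (.node (.leaf 56140) (.leaf 124820)))) (.node (.node (.node (.leaf 40877) (.leaf 99935)) (.node (.leaf 53797) (.leaf 118124))) (.node (.node (.leaf 47542) (.leaf 107699)) (.node (.leaf 99418) (.leaf 140912))))) (.node (.node (.node (.node (.node (.leaf 2612) (.leaf 141041)) (.leaf 69589)) (.node (.leaf 60530) (.leaf 115626))) (.node (.node (.leaf 45428) (.leaf 92292)) (.node (.leaf 59249) (.leaf 128278)))) (.node (.node (.node (.leaf 14231)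 (.leaf 105019)) (.node (.leaf 112814) (.leaf 121408))) (.node (.node (.leaf 49619) (.leaf 109948)) (.node (.leaf 65303) (.leaf 135649)))))) (.node (.node (.node (.node (.node (.node (.leaf 34724) (.leaf 139771)) (.leaf 94209)) (.node (.leaf 52118) (.leaf 113525))) (.node (.node (.leaf 23738) (.leaf 88485)) (.node (.leaf 58145) (.leaf 126259)))) (.node (.node (.node (.leaf 13007) (.leaf 111344)) (.node (.leaf 54313) (.leaf 119573))) (.node (.node (.leaf 48645) (.leaf 108764)) (.node (.leaf 63152) (.leaf 133834))))) (.node (.node (.node (.node (.leaf 10632) (.leaf 105180)) (.node (.leaf 53163) (.leaf 116703))) (.node (.node (.leaf 41310) (.leaf 93499)) (.node (.leaf 60366) (.leaf 131429)))) (.node (.node (.node (.leaf 36305) (.leaf 82832)) (.node (.leaf 95311) (.leaf 123100))) (.node (.node (.leaf 99929) (.leaf 111176)) (.node (.leaf 66302) (.leaf 137190))))))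
def dFin_1104 : BT := .node (.node (.node (.node (.node (.node (.node (.leaf 36153) (.leaf 138641)) (.leaf 67391)) (.node (.leaf 111992) (.leaf 112415))) (.node (.node (.leaf 45282) (.leaf 85750)) (.node (.leaf 56339) (.leaf 127417)))) (.node (.node (.node (.leaf 45481) (.leaf 106769)) (.node (.leaf 53914) (.leaf 118027))) (.node (.node (.leaf 47480) (.leaf 107217)) (.node (.leaf 61404) (.leaf 131234))))) (.node (.node (.node (.node (.node (.leaf 36020) (.leaf 140975)) (.leaf 98560)) (.node (.leaf 52772) (.leaf 114944))) (.node (.node (.leaf 24624) (.leaf 92258)) (.node (.leaf 58829) (.leaf 127536)))) (.node (.node (.node (.leaf 14204) (.leaf 106498)) (.node (.leaf 55037) (.leaf 134557))) (.node (.node (.leaf 97204) (.leaf 138584)) (.node (.leaf 100209) (.leaf 135557)))))) (.node (.node (.node (.node (.node (.node (.leaf 34368) (.leaf 139696)) (.leaf 68345)) (.node (.leaf 52080) (.leaf 113361))) (.node (.node (.leaf 46512) (.leaf 107508)) (.node (.leaf 57508) (.leaf 126379)))) (.node (.node (.node (.leaf 40721) (.leaf 95963)) (.node (.leaf 98628) (.leaf 119479)))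 (.node (.node (.leaf 48546) (.leaf 108567)) (.node (.leaf 100618) (.leaf 133564))))) (.node (.node (.node (.node (.leaf 8190) (.leaf 70337)) (.node (.leaf 100769) (.leaf 118266))) (.node (.node (.leaf 47172) (.leaf 93436)) (.node (.leaf 59798) (.leaf 131493)))) (.node (.node (.node (.leaf 44658) (.leaf 103169)) (.node (.leaf 139798) (.leaf 122545))) (.node (.node (.leaf 114192) (.leaf 111243)) (.node (.leaf 96300) (.leaf 137044))))))
def dFin_1111 : BT := .node (.node (.node (.node (.node (.node (.node (.leaf 34856) (.leaf 138739)) (.leaf 103243)) (.node (.leaf 51381) (.leaf 112291))) (.node (.node (.leaf 19338) (.leaf 85987)) (.node (.leaf 103963) (.leaf 124914)))) (.node (.node (.node (.leaf 12229) (.leaf 130995)) (.node (.leaf 98666) (.leaf 118227))) (.node (.node (.leaf 100180) (.leaf 113560)) (.node (.leaf 102411) (.leaf 132000))))) (.node (.node (.node (.node (.leaf 2834) (.leaf 116176)) (.node (.leaf 52720) (.leaf 115127))) (.node (.node (.leaf 37856) (.leaf 106721)) (.node (.leaf 59197) (.leaf 129827)))) (.node (.node (.node (.leaf 14267) (.leaf 79618))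 (.node (.leaf 106205) (.leaf 121499))) (.node (.node (.leaf 49679) (.leaf 110012)) (.node (.leaf 65336) (.leaf 136890)))))) (.node (.node (.node (.node (.node (.node (.leaf 1064) (.leaf 139872)) (.leaf 68489)) (.node (.leaf 52158) (.leaf 113613))) (.node (.node (.leaf 24810) (.leaf 88749)) (.node (.leaf 57978) (.leaf 126696)))) (.node (.node (.node (.leaf 13033) (.leaf 100858)) (.node (.leaf 107021) (.leaf 119742))) (.node (.node (.leaf 48763) (.leaf 108675)) (.node (.leaf 113965) (.leaf 133803))))) (.node (.node (.node (.node (.leaf 40817) (.leaf 98828)) (.node (.leaf 53090) (.leaf 116823))) (.node (.node (.leaf 25988) (.leaf 94301)) (.node (.leaf 97085) (.leaf 129893)))) (.node (.node (.node (.leaf 100071) (.leaf 83449)) (.node (.leaf 55952) (.leaf 123198))) (.node (.node (.leaf 50897) (.leaf 111335)) (.node (.leaf 66628) (.leaf 137278))))))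
def dFin_1120 : BT := .node (.node (.node (.node (.node (.node (.node (.leaf 45224) (.leaf 138594)) (.leaf 98317)) (.node (.leaf 103384) (.leaf 112090))) (.node (.node (.leaf 19269) (.leaf 85790)) (.node (.leaf 114857) (.leaf 124699)))) (.node (.node (.node (.leaf 12162) (.leaf 72644)) (.node (.leaf 53963) (.leaf 136809))) (.node (.node (.leaf 47439) (.leaf 115678)) (.node (.leaf 61428) (.leaf 131426))))) (.node (.node (.node (.node (.node (.leaf 46195) (.leaf 140918)) (.leaf 88589)) (.node (.leaf 52797) (.leaf 114833))) (.node (.node (.leaf 42515) (.leaf 116452)) (.node (.leaf 58838) (.leaf 127658)))) (.node (.node (.node (.leaf 14146) (.leaf 102604)) (.node (.leaf 58418) (.leaf 121212))) (.node (.node (.leaf 49539) (.leaf 109932)) (.node (.leaf 65111) (.leaf 135434)))))) (.node (.node (.node (.node (.node (.node (.leaf 50412) (.leaf 139652)) (.leaf 68366)) (.node (.leaf 113450) (.leaf 113887))) (.node (.node (.leaf 23649) (.leaf 88291)) (.node (.leaf 57532) (.leaf 128843)))) (.node (.node (.node (.leaf 41408) (.leaf 116002)) (.node (.leaf 54344) (.leaf 122736)))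 (.node (.node (.leaf 48551) (.leaf 108556)) (.node (.leaf 103976) (.leaf 133606))))) (.node (.node (.node (.node (.leaf 8172) (.leaf 70399)) (.node (.leaf 63471) (.leaf 116608))) (.node (.node (.leaf 25918) (.leaf 93394)) (.node (.leaf 59964) (.leaf 129849)))) (.node (.node (.node (.leaf 109974) (.leaf 106996)) (.node (.leaf 55998) (.leaf 122985))) (.node (.node (.leaf 50661) (.leaf 111444)) (.node (.leaf 99304) (.leaf 137089))))))
def dFin_1127 : BT := .node (.node (.node (.node (.node (.node (.node (.leaf 152) (.leaf 138718)) (.leaf 75387)) (.node (.leaf 51443) (.leaf 112350))) (.node (.node (.leaf 42216) (.leaf 88730)) (.node (.leaf 56802) (.leaf 124868)))) (.node (.node (.node (.leaf 12214) (.leaf 99832)) (.node (.leaf 98952) (.leaf 118197))) (.node (.node (.leaf 47553) (.leaf 113602)) (.node (.leaf 106702) (.leaf 131789))))) (.node (.node (.node (.node (.node (.leaf 8288) (.leaf 141075)) (.leaf 69540)) (.node (.leaf 52745) (.leaf 115044))) (.node (.node (.leaf 46779) (.leaf 106743)) (.node (.leaf 59224) (.leaf 128107)))) (.node (.node (.node (.leaf 14246)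 (.leaf 79132)) (.node (.leaf 101481) (.leaf 121454))) (.node (.node (.leaf 49668) (.leaf 109980)) (.node (.leaf 65331) (.leaf 136471)))))) (.node (.node (.node (.node (.node (.node (.leaf 1295) (.leaf 139802)) (.leaf 68262)) (.node (.leaf 95169) (.leaf 113571))) (.node (.node (.leaf 23762) (.leaf 88464)) (.node (.leaf 58093) (.leaf 126745)))) (.node (.node (.node (.leaf 65903) (.leaf 92038)) (.node (.leaf 68219) (.leaf 119698))) (.node (.node (.leaf 48679) (.leaf 108698)) (.node (.leaf 105576) (.leaf 133816))))) (.node (.node (.node (.node (.leaf 41509) (.leaf 86239)) (.node (.leaf 53114) (.leaf 116735))) (.node (.node (.leaf 40665) (.leaf 93502)) (.node (.leaf 98162) (.leaf 129620)))) (.node (.node (.node (.leaf 44686) (.leaf 83398)) (.node (.leaf 55985) (.leaf 124706))) (.node (.node (.leaf 96726) (.leaf 111300)) (.node (.leaf 66689) (.leaf 137317))))))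
def dFin_1135 : BT := .node (.node (.node (.node (.node (.node (.node (.leaf 13500) (.leaf 138668)) (.leaf 67346)) (.node (.leaf 102816) (.leaf 112879))) (.node (.node (.leaf 45719) (.leaf 85711)) (.node (.leaf 56340) (.leaf 124785)))) (.node (.node (.node (.leaf 41580) (.leaf 78967)) (.node (.leaf 53867) (.leaf 118045))) (.node (.node (.leaf 47508) (.leaf 107282)) (.node (.leaf 106808) (.leaf 137836))))) (.node (.node (.node (.node (.node (.leaf 2598) (.leaf 141022)) (.leaf 69218)) (.node (.leaf 59347) (.leaf 115032))) (.node (.node (.leaf 24640) (.leaf 92244)) (.node (.leaf 58623) (.leaf 127525)))) (.node (.node (.node (.leaf 37577) (.leaf 106009)) (.node (.leaf 68567) (.leaf 121350))) (.node (.node (.leaf 50012) (.leaf 109887)) (.node (.leaf 65264) (.leaf 135602)))))) (.node (.node (.node (.node (.node (.node (.leaf 34898) (.leaf 139732)) (.leaf 104126)) (.node (.leaf 52083) (.leaf 113480))) (.node (.node (.leaf 42026) (.leaf 88613)) (.node (.leaf 57308) (.leaf 126318)))) (.node (.node (.node (.leaf 13001) (.leaf 75899)) (.node (.leaf 96277) (.leaf 119556)))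 (.node (.node (.leaf 49191) (.leaf 108783)) (.node (.leaf 102285) (.leaf 133472))))) (.node (.node (.node (.node (.leaf 10785) (.leaf 70897)) (.node (.leaf 53210) (.leaf 132710))) (.node (.node (.leaf 26064) (.leaf 110051)) (.node (.leaf 60391) (.leaf 129779)))) (.node (.node (.node (.leaf 50700) (.leaf 82655)) (.node (.leaf 136773) (.leaf 123050))) (.node (.node (.leaf 50726) (.leaf 111210)) (.node (.leaf 66275) (.leaf 137227))))))
def dFin_1142 : BT := .node (.node (.node (.node (.node (.node (.node (.leaf 1265) (.leaf 138980)) (.leaf 67150)) (.node (.leaf 51559) (.leaf 112230))) (.node (.node (.leaf 19354) (.leaf 85942)) (.node (.leaf 56855) (.leaf 125311)))) (.node (.node (.node (.leaf 97557) (.leaf 132449)) (.node (.leaf 98669) (.leaf 118282))) (.node (.node (.leaf 47625) (.leaf 107433)) (.node (.leaf 106507) (.leaf 131949))))) (.node (.node (.node (.node (.leaf 41549) (.leaf 104711)) (.node (.leaf 52697) (.leaf 115163))) (.node (.node (.leaf 40621) (.leaf 106635)) (.node (.leaf 97882) (.leaf 131782)))) (.node (.node (.node (.leaf 47550) (.leaf 79572)) (.node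 (.leaf 55233) (.leaf 135614))) (.node (.node (.leaf 111644) (.leaf 110435)) (.node (.leaf 65382) (.leaf 135849)))))) (.node (.node (.node (.node (.node (.node (.leaf 901) (.leaf 140397)) (.leaf 68468)) (.node (.leaf 52445) (.leaf 113655))) (.node (.node (.leaf 24778) (.leaf 98335)) (.node (.leaf 57955) (.leaf 126771)))) (.node (.node (.node (.leaf 47414) (.leaf 76367)) (.node (.leaf 128831) (.leaf 119625))) (.node (.node (.leaf 48719) (.leaf 108730)) (.node (.leaf 92016) (.leaf 133758))))) (.node (.node (.node (.node (.leaf 10818) (.leaf 96274)) (.node (.leaf 102364) (.leaf 116791))) (.node (.node (.leaf 26003) (.leaf 111259)) (.node (.leaf 60314) (.leaf 130284)))) (.node (.node (.node (.leaf 42303) (.leaf 83440)) (.node (.leaf 55921) (.leaf 123240))) (.node (.node (.leaf 50866) (.leaf 111130)) (.node (.leaf 66789) (.leaf 137360))))))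
def dFin_1153 : BT := .node (.node (.node (.node (.node (.node (.node (.leaf 37980) (.leaf 138582)) (.leaf 96379)) (.node (.leaf 51223) (.leaf 112053))) (.node (.node (.leaf 40989) (.leaf 105885)) (.node (.leaf 103004) (.leaf 124672)))) (.node (.node (.node (.leaf 47116) (.leaf 72874)) (.node (.leaf 54105) (.leaf 117850))) (.node (.node (.leaf 95176) (.leaf 115592)) (.node (.leaf 61510) (.leaf 131401))))) (.node (.node (.node (.node (.node (.leaf 46827) (.leaf 140876)) (.leaf 105182)) (.node (.leaf 97134) (.leaf 114897))) (.node (.node (.leaf 24181) (.leaf 104649)) (.node (.leaf 105127) (.leaf 127833)))) (.node (.node (.node (.leaf 14128) (.leaf 79105)) (.node (.leaf 70161) (.leaf 121277))) (.node (.node (.leaf 49524) (.leaf 109704)) (.node (.leaf 64852) (.leaf 136167)))))) (.node (.node (.node (.node (.node (.node (.leaf 476) (.leaf 139620)) (.leaf 84942)) (.node (.leaf 52001) (.leaf 113420))) (.node (.node (.leaf 24120) (.leaf 109635)) (.node (.leaf 102977) (.leaf 127087)))) (.node (.node (.node (.leaf 42138) (.leaf 76048)) (.node (.leaf 54431) (.leaf 119424)))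 (.node (.node (.leaf 48496) (.leaf 108504)) (.node (.leaf 63369) (.leaf 133163))))) (.node (.node (.node (.node (.leaf 50909) (.leaf 70603)) (.node (.leaf 140458) (.leaf 116561))) (.node (.node (.leaf 65266) (.leaf 93340)) (.node (.leaf 107074) (.leaf 129995)))) (.node (.node (.node (.leaf 37331) (.leaf 101717)) (.node (.leaf 55677) (.leaf 122886))) (.node (.node (.leaf 50627) (.leaf 137503)) (.node (.leaf 66153) (.leaf 136989))))))
def dFin_1160 : BT := .node (.node (.node (.node (.node (.node (.node (.leaf 37785) (.leaf 138688)) (.leaf 105785)) (.node (.leaf 102657) (.leaf 112527))) (.node (.node (.leaf 45049) (.leaf 108994)) (.node (.leaf 107151) (.leaf 124810)))) (.node (.node (.node (.leaf 12184) (.leaf 73392)) (.node (.leaf 98085) (.leaf 118089))) (.node (.node (.leaf 47533) (.leaf 107263)) (.node (.leaf 61710) (.leaf 131727))))) (.node (.node (.node (.node (.node (.leaf 46116) (.leaf 141017)) (.leaf 69689)) (.node (.leaf 52812) (.leaf 115500))) (.node (.node (.leaf 65306) (.leaf 111924)) (.node (.leaf 59298) (.leaf 127526)))) (.node (.node (.node (.leaf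 40783) (.leaf 105796)) (.node (.leaf 101551) (.leaf 121430))) (.node (.node (.leaf 49647) (.leaf 109943)) (.node (.leaf 81552) (.leaf 135643)))))) (.node (.node (.node (.node (.node (.node (.leaf 8737) (.leaf 139861)) (.leaf 68369)) (.node (.leaf 52127) (.leaf 113513))) (.node (.node (.leaf 48948) (.leaf 88528)) (.node (.leaf 57885) (.leaf 128372)))) (.node (.node (.node (.leaf 44668) (.leaf 104783)) (.node (.leaf 54367) (.leaf 119697))) (.node (.node (.leaf 48600) (.leaf 108602)) (.node (.leaf 63003) (.leaf 135354))))) (.node (.node (.node (.node (.leaf 42411) (.leaf 71992)) (.node (.leaf 53255) (.leaf 116690))) (.node (.node (.leaf 25958) (.leaf 93492)) (.node (.leaf 60554) (.leaf 129500)))) (.node (.node (.node (.leaf 17335) (.leaf 106177)) (.node (.leaf 97520) (.leaf 123086))) (.node (.node (.leaf 50821) (.leaf 111280)) (.node (.leaf 66311) (.leaf 137179))))))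
def dFin_1168 : BT := .node (.node (.node (.node (.node (.node (.node (.leaf 579) (.leaf 138628)) (.leaf 99209)) (.node (.leaf 119707) (.leaf 112536))) (.node (.node (.leaf 45707) (.leaf 105226)) (.node (.leaf 102593) (.leaf 124724)))) (.node (.node (.node (.leaf 42150) (.leaf 74141)) (.node (.leaf 54006) (.leaf 117779))) (.node (.node (.leaf 47468) (.leaf 107196)) (.node (.leaf 61397) (.leaf 131277))))) (.node (.node (.node (.node (.node (.leaf 45638) (.leaf 140988)) (.leaf 69312)) (.node (.leaf 97424) (.leaf 114936))) (.node (.node (.leaf 24616) (.leaf 92254)) (.node (.leaf 59396) (.leaf 128058)))) (.node (.node (.node (.leaf 14160) (.leaf 101565)) (.node (.leaf 55125) (.leaf 121318))) (.node (.node (.leaf 49556) (.leaf 109833)) (.node (.leaf 65134) (.leaf 135542)))))) (.node (.node (.node (.node (.node (.node (.leaf 36668) (.leaf 139684)) (.leaf 103762)) (.node (.leaf 52102) (.leaf 113344))) (.node (.node (.leaf 48334) (.leaf 98939)) (.node (.leaf 106654) (.leaf 126495)))) (.node (.node (.node (.leaf 12978) (.leaf 75933)) (.node (.leaf 98393) (.leaf 119488)))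 (.node (.node (.leaf 48539) (.leaf 108554)) (.node (.leaf 63116) (.leaf 134780))))) (.node (.node (.node (.node (.leaf 8408) (.leaf 70473)) (.node (.leaf 53351) (.leaf 116631))) (.node (.node (.leaf 42718) (.leaf 93556)) (.node (.leaf 59786) (.leaf 129617)))) (.node (.node (.node (.leaf 41066) (.leaf 82470)) (.node (.leaf 97718) (.leaf 123022))) (.node (.node (.leaf 50686) (.leaf 122312)) (.node (.leaf 89384) (.leaf 137039))))))
def dFin_1175 : BT := .node (.node (.node (.node (.node (.node (.node (.leaf 5981) (.leaf 138792)) (.leaf 67292)) (.node (.leaf 126807) (.leaf 112407))) (.node (.node (.leaf 19334) (.leaf 86025)) (.node (.leaf 100543) (.leaf 124907)))) (.node (.node (.node (.leaf 47667) (.leaf 104960)) (.node (.leaf 53906) (.leaf 118231))) (.node (.node (.leaf 47578) (.leaf 107321)) (.node (.leaf 61641) (.leaf 132012))))) (.node (.node (.node (.node (.leaf 42737) (.leaf 104429)) (.node (.leaf 52764) (.leaf 115080))) (.node (.node (.leaf 24680) (.leaf 92488)) (.node (.leaf 60496) (.leaf 128156)))) (.node (.node (.node (.leaf 44634) (.leaf 106488)) (.node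 (.leaf 106089) (.leaf 121505))) (.node (.node (.leaf 97885) (.leaf 110015)) (.node (.leaf 65345) (.leaf 135812)))))) (.node (.node (.node (.node (.node (.node (.leaf 8668) (.leaf 139843)) (.leaf 68525)) (.node (.leaf 52168) (.leaf 113563))) (.node (.node (.leaf 107064) (.leaf 89054)) (.node (.leaf 58017) (.leaf 126368)))) (.node (.node (.node (.leaf 40908) (.leaf 103909)) (.node (.leaf 104218) (.leaf 119752))) (.node (.node (.leaf 48700) (.leaf 108711)) (.node (.leaf 63656) (.leaf 133786))))) (.node (.node (.node (.node (.leaf 10823) (.leaf 71130)) (.node (.leaf 102661) (.leaf 116819))) (.node (.node (.leaf 25990) (.leaf 93540)) (.node (.leaf 60406) (.leaf 131204)))) (.node (.node (.node (.leaf 44663) (.leaf 94338)) (.node (.leaf 107012) (.leaf 123188))) (.node (.node (.leaf 108136) (.leaf 111224)) (.node (.leaf 94596) (.leaf 137262))))))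
def dFin_1184 : BT := .node (.node (.node (.node (.node (.node (.node (.leaf 37556) (.leaf 140270)) (.leaf 106850)) (.node (.leaf 104620) (.leaf 112081))) (.node (.node (.leaf 19258) (.leaf 120927)) (.node (.leaf 106699) (.leaf 124693)))) (.node (.node (.node (.leaf 104417) (.leaf 73104)) (.node (.leaf 54055) (.leaf 117821))) (.node (.node (.leaf 47426) (.leaf 114178)) (.node (.leaf 61476) (.leaf 131350))))) (.node (.node (.node (.node (.node (.leaf 2546) (.leaf 140984)) (.leaf 98822)) (.node (.leaf 101166) (.leaf 114811))) (.node (.node (.leaf 107176) (.leaf 91417)) (.node (.leaf 101294) (.leaf 127762)))) (.node (.node (.node (.leaf 48014) (.leaf 79079)) (.node (.leaf 55156) (.leaf 121208))) (.node (.node (.leaf 49531) (.leaf 115619)) (.node (.leaf 64813) (.leaf 135487)))))) (.node (.node (.node (.node (.node (.node (.leaf 36218) (.leaf 139648)) (.leaf 103419)) (.node (.leaf 52069) (.leaf 113386))) (.node (.node (.leaf 48134) (.leaf 101120)) (.node (.leaf 102468) (.leaf 126554)))) (.node (.node (.node (.leaf 12964) (.leaf 75948)) (.node (.leaf 82709) (.leaf 119423)))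 (.node (.node (.leaf 48557) (.leaf 108480)) (.node (.leaf 63459) (.leaf 133429))))) (.node (.node (.node (.node (.leaf 10649) (.leaf 70494)) (.node (.leaf 53412) (.leaf 133490))) (.node (.node (.leaf 25911) (.leaf 93382)) (.node (.leaf 59952) (.leaf 131581)))) (.node (.node (.node (.leaf 41382) (.leaf 101889)) (.node (.leaf 55656) (.leaf 134786))) (.node (.node (.leaf 50618) (.leaf 110921)) (.node (.leaf 96560) (.leaf 137080))))))
def dFin_1191 : BT := .node (.node (.node (.node (.node (.node (.node (.leaf 37283) (.leaf 138844)) (.leaf 67131)) (.node (.leaf 102194) (.leaf 112466))) (.node (.node (.leaf 93272) (.leaf 85640)) (.node (.leaf 112064) (.leaf 124860)))) (.node (.node (.node (.leaf 44629) (.leaf 73375)) (.node (.leaf 53955) (.leaf 118195))) (.node (.node (.leaf 47590) (.leaf 107350)) (.node (.leaf 61679) (.leaf 131993))))) (.node (.node (.node (.node (.node (.leaf 42720) (.leaf 141061)) (.leaf 104791)) (.node (.leaf 52789) (.leaf 115089))) (.node (.node (.leaf 42486) (.leaf 113710)) (.node (.leaf 59277) (.leaf 128173)))) (.node (.node (.node (.leaf 14242)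 (.leaf 104914)) (.node (.leaf 73789) (.leaf 121433))) (.node (.node (.leaf 49667) (.leaf 109965)) (.node (.leaf 97535) (.leaf 135774)))))) (.node (.node (.node (.node (.node (.node (.leaf 771) (.leaf 139786)) (.leaf 68258)) (.node (.leaf 52138) (.leaf 114339))) (.node (.node (.leaf 24712) (.leaf 88509)) (.node (.leaf 58067) (.leaf 128775)))) (.node (.node (.node (.leaf 41619) (.leaf 78693)) (.node (.leaf 54336) (.leaf 119714))) (.node (.node (.leaf 48660) (.leaf 108725)) (.node (.leaf 104983) (.leaf 133838))))) (.node (.node (.node (.node (.leaf 10772) (.leaf 71147)) (.node (.leaf 102838) (.leaf 116729))) (.node (.node (.leaf 25970) (.leaf 93545)) (.node (.leaf 98469) (.leaf 129515)))) (.node (.node (.node (.leaf 46801) (.leaf 100229)) (.node (.leaf 97774) (.leaf 123145))) (.node (.node (.leaf 50769) (.leaf 111299)) (.node (.leaf 107188) (.leaf 137305))))))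
def dFin_1199 : BT := .node (.node (.node (.node (.node (.node (.node (.leaf 45865) (.leaf 138664)) (.leaf 126086)) (.node (.leaf 102812) (.leaf 136221))) (.node (.node (.leaf 93029) (.leaf 106984)) (.node (.leaf 72813) (.leaf 124772)))) (.node (.node (.node (.leaf 12193) (.leaf 72748)) (.node (.leaf 97873) (.leaf 118024))) (.node (.node (.leaf 47500) (.leaf 107226)) (.node (.leaf 61874) (.leaf 133601))))) (.node (.node (.node (.node (.node (.leaf 2595) (.leaf 140992)) (.leaf 69285)) (.node (.leaf 97797) (.leaf 115020))) (.node (.node (.leaf 24631) (.leaf 92212)) (.node (.leaf 58614) (.leaf 129904)))) (.node (.node (.node (.leaf 41466) (.leaf 81462)) (.node (.leaf 55092) (.leaf 121363))) (.node (.node (.leaf 49594) (.leaf 116059)) (.node (.leaf 65277) (.leaf 135625)))))) (.node (.node (.node (.node (.node (.node (.leaf 39154) (.leaf 139793)) (.leaf 105839)) (.node (.leaf 59677) (.leaf 113458))) (.node (.node (.leaf 113120) (.leaf 88548)) (.node (.leaf 116748) (.leaf 126434)))) (.node (.node (.node (.leaf 47398) (.leaf 75911)) (.node (.leaf 54396) (.leaf 119544)))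 (.node (.node (.leaf 48618) (.leaf 108753)) (.node (.leaf 63067) (.leaf 133513))))) (.node (.node (.node (.node (.leaf 48142) (.leaf 71054)) (.node (.leaf 53302) (.leaf 116664))) (.node (.node (.leaf 42436) (.leaf 114734)) (.node (.leaf 60444) (.leaf 129577)))) (.node (.node (.node (.leaf 17322) (.leaf 114300)) (.node (.leaf 55772) (.leaf 124552))) (.node (.node (.leaf 50725) (.leaf 111261)) (.node (.leaf 100019) (.leaf 137214))))))
def dFin_1206 : BT := .node (.node (.node (.node (.node (.node (.node (.leaf 17142) (.leaf 138762)) (.leaf 67142)) (.node (.leaf 51790) (.leaf 112576))) (.node (.node (.leaf 19345) (.leaf 85936)) (.node (.leaf 56837) (.leaf 124939)))) (.node (.node (.node (.leaf 41565) (.leaf 76952)) (.node (.leaf 53859) (.leaf 118275))) (.node (.node (.leaf 47653) (.leaf 107450)) (.node (.leaf 101496) (.leaf 131941))))) (.node (.node (.node (.node (.leaf 2648) (.leaf 69628)) (.node (.leaf 96514) (.leaf 115148))) (.node (.node (.leaf 24700) (.leaf 92460)) (.node (.leaf 59324) (.leaf 131747)))) (.node (.node (.node (.leaf 46478) (.leaf 110248)) (.node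 (.leaf 81467) (.leaf 121532))) (.node (.node (.leaf 49739) (.leaf 110028)) (.node (.leaf 65406) (.leaf 135841)))))) (.node (.node (.node (.node (.node (.node (.leaf 1486) (.leaf 139838)) (.leaf 102587)) (.node (.leaf 52561) (.leaf 113638))) (.node (.node (.leaf 42554) (.leaf 88870)) (.node (.leaf 58006) (.leaf 126305)))) (.node (.node (.node (.leaf 13046) (.leaf 76425)) (.node (.leaf 104384) (.leaf 119680))) (.node (.node (.leaf 48713) (.leaf 136177)) (.node (.leaf 99546) (.leaf 133739))))) (.node (.node (.node (.node (.leaf 10840) (.leaf 71112)) (.node (.leaf 53202) (.leaf 136388))) (.node (.node (.leaf 26028) (.leaf 113097)) (.node (.leaf 60383) (.leaf 129426)))) (.node (.node (.node (.leaf 59124) (.leaf 83416)) (.node (.leaf 126076) (.leaf 123225))) (.node (.node (.leaf 50838) (.leaf 111190)) (.node (.leaf 113686) (.leaf 137351))))))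
def dFin_1216 : BT := .node (.node (.node (.node (.node (.node (.node (.leaf 11803) (.leaf 138604)) (.leaf 67335)) (.node (.leaf 51510) (.leaf 128063))) (.node (.node (.leaf 135866) (.leaf 90317)) (.node (.leaf 56422) (.leaf 124666)))) (.node (.node (.node (.leaf 40874) (.leaf 102881)) (.node (.leaf 95060) (.leaf 117790))) (.node (.node (.leaf 47410) (.leaf 107156)) (.node (.leaf 93913) (.leaf 131502))))) (.node (.node (.node (.node (.node (.leaf 2530) (.leaf 140958)) (.leaf 69197)) (.node (.leaf 60546) (.leaf 121394))) (.node (.node (.leaf 46409) (.leaf 91351)) (.node (.leaf 58752) (.leaf 134102)))) (.node (.node (.node (.leaf 47809) (.leaf 101450)) (.node (.leaf 135544) (.leaf 121289))) (.node (.node (.leaf 49482) (.leaf 109925)) (.node (.leaf 96383) (.leaf 135508)))))) (.node (.node (.node (.node (.node (.node (.leaf 37812) (.leaf 139979)) (.leaf 83936)) (.node (.leaf 52018) (.leaf 113409))) (.node (.node (.leaf 23642) (.leaf 88269)) (.node (.leaf 57530) (.leaf 126267)))) (.node (.node (.node (.leaf 12961) (.leaf 127979)) (.node (.leaf 107288) (.leaf 125519)))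 (.node (.node (.leaf 48562) (.leaf 108518)) (.node (.leaf 83186) (.leaf 133263))))) (.node (.node (.node (.node (.leaf 10838) (.leaf 115990)) (.node (.leaf 53171) (.leaf 133506))) (.node (.node (.leaf 41346) (.leaf 93375)) (.node (.leaf 59810) (.leaf 129887)))) (.node (.node (.node (.leaf 46696) (.leaf 82646)) (.node (.leaf 55642) (.leaf 125493))) (.node (.node (.leaf 50584) (.leaf 110703)) (.node (.leaf 66255) (.leaf 137009))))))
def dFin_1223 : BT := .node (.node (.node (.node (.node (.node (.node (.leaf 1118) (.leaf 140601)) (.leaf 67206)) (.node (.leaf 57684) (.leaf 133026))) (.node (.node (.leaf 45335) (.leaf 85657)) (.node (.leaf 56148) (.leaf 124851)))) (.node (.node (.node (.leaf 46107) (.leaf 73325)) (.node (.leaf 106091) (.leaf 118092))) (.node (.node (.leaf 47601) (.leaf 107247)) (.node (.leaf 102523) (.leaf 131729))))) (.node (.node (.node (.node (.node (.leaf 40815) (.leaf 141033)) (.leaf 84650)) (.node (.leaf 97984) (.leaf 140514))) (.node (.node (.leaf 24652) (.leaf 105665)) (.node (.leaf 98457) (.leaf 135393)))) (.node (.node (.node (.leaf 115916)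 (.leaf 79327)) (.node (.leaf 55208) (.leaf 121422))) (.node (.node (.leaf 49626) (.leaf 110203)) (.node (.leaf 65316) (.leaf 135653)))))) (.node (.node (.node (.node (.node (.node (.leaf 960) (.leaf 139797)) (.leaf 104964)) (.node (.leaf 52132) (.leaf 118304))) (.node (.node (.leaf 41215) (.leaf 107867)) (.node (.leaf 57953) (.leaf 126788)))) (.node (.node (.node (.leaf 13008) (.leaf 76360)) (.node (.leaf 115132) (.leaf 119774))) (.node (.node (.leaf 48638) (.leaf 108770)) (.node (.leaf 63164) (.leaf 133878))))) (.node (.node (.node (.node (.leaf 32967) (.leaf 107025)) (.node (.leaf 102830) (.leaf 116699))) (.node (.node (.leaf 25966) (.leaf 93528)) (.node (.leaf 98413) (.leaf 129702)))) (.node (.node (.node (.leaf 17336) (.leaf 82848)) (.node (.leaf 62846) (.leaf 123115))) (.node (.node (.leaf 50826) (.leaf 111116)) (.node (.leaf 91794) (.leaf 137297))))))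
def dFin_1231 : BT := .node (.node (.node (.node (.node (.node (.node (.leaf 35532) (.leaf 138654)) (.leaf 99152)) (.node (.leaf 51390) (.leaf 112299))) (.node (.node (.leaf 19286) (.leaf 85689)) (.node (.leaf 57517) (.leaf 124748)))) (.node (.node (.node (.leaf 44587) (.leaf 72840)) (.node (.leaf 53794) (.leaf 117990))) (.node (.node (.leaf 59131) (.leaf 113474)) (.node (.leaf 99831) (.leaf 131196))))) (.node (.node (.node (.node (.node (.leaf 45642) (.leaf 140962)) (.leaf 98852)) (.node (.leaf 52728) (.leaf 114993))) (.node (.node (.leaf 37714) (.leaf 92379)) (.node (.leaf 58632) (.leaf 128072)))) (.node (.node (.node (.leaf 48002) (.leaf 79176)) (.node (.leaf 99378) (.leaf 121329))) (.node (.node (.leaf 49680) (.leaf 109820)) (.node (.leaf 65196) (.leaf 135567)))))) (.node (.node (.node (.node (.node (.node (.leaf 1430) (.leaf 139734)) (.leaf 68305)) (.node (.leaf 52128) (.leaf 113455))) (.node (.node (.leaf 48440) (.leaf 88226)) (.node (.leaf 57445) (.leaf 129313)))) (.node (.node (.node (.leaf 37011) (.leaf 101914)) (.node (.leaf 105248) (.leaf 119494))) (.node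 (.node (.leaf 110053) (.leaf 108574)) (.node (.leaf 105315) (.leaf 133558))))) (.node (.node (.node (.node (.leaf 40813) (.leaf 98103)) (.node (.leaf 100828) (.leaf 118236))) (.node (.node (.leaf 25932) (.leaf 93461)) (.node (.leaf 72211) (.leaf 129842)))) (.node (.node (.node (.leaf 111412) (.leaf 82726)) (.node (.leaf 55960) (.leaf 122553))) (.node (.node (.leaf 50702) (.leaf 111250)) (.node (.leaf 66212) (.leaf 137054))))))
def dFin_1238 : BT := .node (.node (.node (.node (.node (.node (.node (.leaf 39374) (.leaf 138785)) (.leaf 96568)) (.node (.leaf 51265) (.leaf 112118))) (.node (.node (.leaf 41675) (.leaf 115942)) (.node (.leaf 56725) (.leaf 137738)))) (.node (.node (.node (.leaf 12230) (.leaf 73346)) (.node (.leaf 98774) (.leaf 118290))) (.node (.node (.leaf 47604) (.leaf 107324)) (.node (.leaf 61796) (.leaf 131988))))) (.node (.node (.node (.node (.leaf 2647) (.leaf 111256)) (.node (.leaf 96508) (.leaf 123164))) (.node (.node (.leaf 24693) (.leaf 106717)) (.node (.leaf 97698) (.leaf 128254)))) (.node (.node (.node (.leaf 14300) (.leaf 79530)) (.node (.leaf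 83785) (.leaf 121512))) (.node (.node (.leaf 49694) (.leaf 110020)) (.node (.leaf 70180) (.leaf 135826)))))) (.node (.node (.node (.node (.node (.node (.leaf 36808) (.leaf 139831)) (.leaf 68419)) (.node (.leaf 52194) (.leaf 113644))) (.node (.node (.leaf 23776) (.leaf 105275)) (.node (.leaf 104349) (.leaf 126702)))) (.node (.node (.node (.leaf 101022) (.leaf 100862)) (.node (.leaf 54794) (.leaf 119747))) (.node (.node (.leaf 48764) (.leaf 109511)) (.node (.leaf 63841) (.leaf 133692))))) (.node (.node (.node (.node (.leaf 10812) (.leaf 96689)) (.node (.leaf 106644) (.leaf 116824))) (.node (.node (.leaf 52148) (.leaf 93846)) (.node (.leaf 101182) (.leaf 129901)))) (.node (.node (.node (.leaf 44696) (.leaf 83334)) (.node (.leaf 55892) (.leaf 123219))) (.node (.node (.leaf 65290) (.leaf 120069)) (.node (.leaf 66512) (.leaf 137324))))))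
def dFin_1247 : BT := .node (.node (.node (.node (.node (.node (.node (.leaf 45651) (.leaf 138576)) (.leaf 98331)) (.node (.leaf 51451) (.leaf 112097))) (.node (.node (.leaf 42223) (.leaf 88902)) (.node (.leaf 56371) (.leaf 124715)))) (.node (.node (.node (.leaf 12151) (.leaf 114028)) (.node (.leaf 95175) (.leaf 117773))) (.node (.node (.leaf 47449) (.leaf 107187)) (.node (.leaf 103683) (.leaf 131459))))) (.node (.node (.node (.node (.node (.leaf 2561) (.leaf 140941)) (.leaf 69166)) (.node (.leaf 52753) (.leaf 114912))) (.node (.node (.leaf 50712) (.leaf 92250)) (.node (.leaf 58693) (.leaf 137203)))) (.node (.node (.node (.leaf 51032) (.leaf 79197)) (.node (.leaf 133789) (.leaf 121223))) (.node (.node (.leaf 49540) (.leaf 109815)) (.node (.leaf 95705) (.leaf 135455)))))) (.node (.node (.node (.node (.node (.node (.leaf 1340) (.leaf 139673)) (.leaf 68326)) (.node (.leaf 52055) (.leaf 113374))) (.node (.node (.leaf 23654) (.leaf 88252)) (.node (.leaf 57881) (.leaf 130944)))) (.node (.node (.node (.leaf 99884) (.leaf 103060)) (.node (.leaf 67831) (.leaf 119370)))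 (.node (.node (.leaf 49344) (.leaf 108541)) (.node (.leaf 115092) (.leaf 133591))))) (.node (.node (.node (.node (.leaf 41512) (.leaf 70457)) (.node (.leaf 53122) (.leaf 116625))) (.node (.node (.leaf 40655) (.leaf 93504)) (.node (.leaf 59945) (.leaf 139012)))) (.node (.node (.node (.leaf 44733) (.leaf 82616)) (.node (.leaf 55993) (.leaf 132619))) (.node (.node (.leaf 99879) (.leaf 117942)) (.node (.leaf 66234) (.leaf 137063))))))
def dFin_1254 : BT := .node (.node (.node (.node (.node (.node (.node (.leaf 36649) (.leaf 138744)) (.leaf 67161)) (.node (.leaf 51327) (.leaf 127863))) (.node (.node (.leaf 45710) (.leaf 97230)) (.node (.leaf 56751) (.leaf 124875)))) (.node (.node (.node (.leaf 65217) (.leaf 73459)) (.node (.leaf 135663) (.leaf 118203))) (.node (.node (.leaf 47559) (.leaf 107343)) (.node (.leaf 101318) (.leaf 132036))))) (.node (.node (.node (.node (.node (.leaf 2626) (.leaf 141082)) (.leaf 104414)) (.node (.leaf 95749) (.leaf 115059))) (.node (.node (.leaf 24672) (.leaf 109216)) (.node (.leaf 97547) (.leaf 129815)))) (.node (.node (.node (.leaf 42671)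 (.leaf 79128)) (.node (.leaf 55177) (.leaf 121466))) (.node (.node (.leaf 49730) (.leaf 109984)) (.node (.leaf 65432) (.leaf 135730)))))) (.node (.node (.node (.node (.node (.node (.leaf 37964) (.leaf 139801)) (.leaf 68565)) (.node (.leaf 52154) (.leaf 113555))) (.node (.node (.leaf 37730) (.leaf 102067)) (.node (.leaf 57904) (.leaf 126724)))) (.node (.node (.node (.leaf 46016) (.leaf 76319)) (.node (.leaf 54843) (.leaf 124538))) (.node (.node (.leaf 100036) (.leaf 108706)) (.node (.leaf 63540) (.leaf 133717))))) (.node (.node (.node (.node (.leaf 10828) (.leaf 120000)) (.node (.leaf 102737) (.leaf 116752))) (.node (.node (.leaf 46402) (.leaf 104071)) (.node (.leaf 108570) (.leaf 129518)))) (.node (.node (.node (.leaf 17371) (.leaf 83351)) (.node (.leaf 62833) (.leaf 123177))) (.node (.node (.leaf 50799) (.leaf 111077)) (.node (.leaf 66573) (.leaf 137239))))))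
def dFin_1262 : BT := .node (.node (.node (.node (.node (.node (.node (.leaf 1277) (.leaf 138734)) (.leaf 67253)) (.node (.leaf 56608) (.leaf 112238))) (.node (.node (.leaf 19306) (.leaf 85672)) (.node (.leaf 56328) (.leaf 127053)))) (.node (.node (.node (.leaf 50044) (.leaf 130953)) (.node (.leaf 98028) (.leaf 118060))) (.node (.node (.leaf 47513) (.leaf 107253)) (.node (.leaf 118029) (.leaf 131763))))) (.node (.node (.node (.node (.node (.leaf 38400) (.leaf 141027)) (.leaf 100851)) (.node (.leaf 52705) (.leaf 114971))) (.node (.node (.leaf 40547) (.leaf 111789)) (.node (.leaf 96036) (.leaf 127507)))) (.node (.node (.node (.leaf 39042) (.leaf 79157)) (.node (.leaf 55241) (.leaf 121375))) (.node (.node (.leaf 91920) (.leaf 116071)) (.node (.leaf 65282) (.leaf 135618)))))) (.node (.node (.node (.node (.node (.node (.leaf 35005) (.leaf 139745)) (.leaf 68282)) (.node (.leaf 52089) (.leaf 113507))) (.node (.node (.leaf 46541) (.leaf 105190)) (.node (.leaf 57320) (.leaf 126153)))) (.node (.node (.node (.leaf 49763) (.leaf 75890)) (.node (.leaf 96557) (.leaf 119564)))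 (.node (.node (.leaf 48568) (.leaf 108759)) (.node (.leaf 62960) (.leaf 133493))))) (.node (.node (.node (.node (.leaf 8250) (.leaf 75533)) (.node (.leaf 89868) (.leaf 116671))) (.node (.node (.leaf 26166) (.leaf 115191)) (.node (.leaf 60303) (.leaf 129812)))) (.node (.node (.node (.leaf 42756) (.leaf 82715)) (.node (.leaf 55929) (.leaf 123056))) (.node (.node (.leaf 50740) (.leaf 111150)) (.node (.leaf 73804) (.leaf 137148))))))
def dFin_1269 : BT := .node (.node (.node (.node (.node (.node (.node (.leaf 36210) (.leaf 138799)) (.leaf 96007)) (.node (.leaf 51204) (.leaf 117461))) (.node (.node (.leaf 40965) (.leaf 86090)) (.node (.leaf 99718) (.leaf 125336)))) (.node (.node (.node (.leaf 12237) (.leaf 73697)) (.node (.leaf 54086) (.leaf 118295))) (.node (.node (.leaf 120101) (.leaf 113626)) (.node (.leaf 61767) (.leaf 131871))))) (.node (.node (.node (.node (.leaf 52038) (.leaf 126832)) (.node (.leaf 107757) (.leaf 115170))) (.node (.node (.leaf 24711) (.leaf 106745)) (.node (.leaf 97894) (.leaf 128260)))) (.node (.node (.node (.leaf 14288) (.leaf 79482)) (.node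 (.leaf 105951) (.leaf 121561))) (.node (.node (.leaf 65286) (.leaf 110042)) (.node (.leaf 65400) (.leaf 135876)))))) (.node (.node (.node (.node (.node (.node (.leaf 902) (.leaf 139896)) (.leaf 90345)) (.node (.leaf 52644) (.leaf 113682))) (.node (.node (.leaf 50450) (.leaf 105212)) (.node (.leaf 57907) (.leaf 126655)))) (.node (.node (.node (.leaf 36568) (.leaf 76417)) (.node (.leaf 54747) (.leaf 119673))) (.node (.node (.leaf 48732) (.leaf 108665)) (.node (.leaf 63847) (.leaf 133666))))) (.node (.node (.node (.node (.leaf 51078) (.leaf 71191)) (.node (.leaf 102370) (.leaf 116789))) (.node (.node (.leaf 49744) (.leaf 93825)) (.node (.leaf 97685) (.leaf 129453)))) (.node (.node (.node (.leaf 46730) (.leaf 104975)) (.node (.leaf 55861) (.leaf 123252))) (.node (.node (.leaf 50878) (.leaf 111370)) (.node (.leaf 66453) (.leaf 137381))))))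
def dFin_1281 : BT := .node (.node (.node (.node (.node (.node (.node (.leaf 34501) (.leaf 138544)) (.leaf 67197)) (.node (.leaf 51339) (.leaf 117831))) (.node (.node (.leaf 45368) (.leaf 85407)) (.node (.leaf 56225) (.leaf 124649)))) (.node (.node (.node (.leaf 12118) (.leaf 72978)) (.node (.leaf 101099) (.leaf 117846))) (.node (.node (.leaf 47382) (.leaf 95447)) (.node (.leaf 100712) (.leaf 131536))))) (.node (.node (.node (.node (.node (.leaf 2522) (.leaf 140868)) (.leaf 71252)) (.node (.leaf 97130) (.leaf 114858))) (.node (.node (.leaf 50180) (.leaf 106060)) (.node (.leaf 103218) (.leaf 128019)))) (.node (.node (.node (.leaf 42372) (.leaf 79290)) (.node (.leaf 55189) (.leaf 121103))) (.node (.node (.leaf 49517) (.leaf 109682)) (.node (.leaf 65033) (.leaf 135372)))))) (.node (.node (.node (.node (.node (.node (.leaf 38424) (.leaf 139615)) (.leaf 67901)) (.node (.leaf 51996) (.leaf 113436))) (.node (.node (.leaf 37644) (.leaf 88188)) (.node (.leaf 113218) (.leaf 126849)))) (.node (.node (.node (.leaf 46840) (.leaf 75974)) (.node (.leaf 54487) (.leaf 122779)))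 (.node (.node (.leaf 130002) (.leaf 114645)) (.node (.leaf 63266) (.leaf 133223))))) (.node (.node (.node (.node (.leaf 8405) (.leaf 105090)) (.node (.leaf 100554) (.leaf 116557))) (.node (.node (.leaf 46662) (.leaf 122674)) (.node (.leaf 105125) (.leaf 129991)))) (.node (.node (.node (.leaf 17206) (.leaf 82246)) (.node (.leaf 62447) (.leaf 133304))) (.node (.node (.leaf 50648) (.leaf 110530)) (.node (.leaf 66193) (.leaf 136981))))))
def dFin_1288 : BT := .node (.node (.node (.node (.node (.node (.node (.leaf 575) (.leaf 138684)) (.leaf 102126)) (.node (.leaf 102985) (.leaf 112553))) (.node (.node (.leaf 45302) (.leaf 105233)) (.node (.leaf 56130) (.leaf 124813)))) (.node (.node (.node (.leaf 42134) (.leaf 100453)) (.node (.leaf 54002) (.leaf 118076))) (.node (.node (.leaf 47526) (.leaf 107271)) (.node (.leaf 61845) (.leaf 131781))))) (.node (.node (.node (.node (.node (.leaf 8493) (.leaf 141063)) (.leaf 69777)) (.node (.leaf 97651) (.leaf 114980))) (.node (.node (.leaf 25358) (.leaf 92284)) (.node (.leaf 59141) (.leaf 127521)))) (.node (.node (.node (.leaf 14221)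 (.leaf 105919)) (.node (.leaf 55121) (.leaf 121404))) (.node (.node (.leaf 49651) (.leaf 109936)) (.node (.leaf 65298) (.leaf 135635)))))) (.node (.node (.node (.node (.node (.node (.leaf 50907) (.leaf 139758)) (.leaf 94190)) (.node (.leaf 52121) (.leaf 113509))) (.node (.node (.leaf 49572) (.leaf 103147)) (.node (.leaf 112073) (.leaf 126491)))) (.node (.node (.node (.leaf 12996) (.leaf 75906)) (.node (.leaf 97122) (.leaf 120988))) (.node (.node (.leaf 48595) (.leaf 108651)) (.node (.leaf 63099) (.leaf 133868))))) (.node (.node (.node (.node (.leaf 10626) (.leaf 70864)) (.node (.leaf 53347) (.leaf 118911))) (.node (.node (.leaf 96729) (.leaf 115176)) (.node (.leaf 60461) (.leaf 129606)))) (.node (.node (.node (.leaf 41050) (.leaf 102447)) (.node (.leaf 97518) (.leaf 123123))) (.node (.node (.leaf 50756) (.leaf 132257)) (.node (.leaf 66299) (.leaf 137172))))))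
def dFin_1296 : BT := .node (.node (.node (.node (.node (.node (.node (.leaf 37235) (.leaf 138614)) (.leaf 99136)) (.node (.leaf 51219) (.leaf 123982))) (.node (.node (.leaf 40955) (.leaf 103343)) (.node (.leaf 106249) (.leaf 127415)))) (.node (.node (.node (.leaf 45186) (.leaf 72861)) (.node (.leaf 54098) (.leaf 117775))) (.node (.node (.leaf 55266) (.leaf 110285)) (.node (.leaf 61392) (.leaf 131373))))) (.node (.node (.node (.node (.node (.leaf 2583) (.leaf 140938)) (.leaf 100893)) (.node (.leaf 97416) (.leaf 114928))) (.node (.node (.leaf 24622) (.leaf 100841)) (.node (.leaf 70656) (.leaf 127810)))) (.node (.node (.node (.leaf 14154) (.leaf 79098)) (.node (.leaf 58430) (.leaf 121311))) (.node (.node (.leaf 49553) (.leaf 109896)) (.node (.leaf 65130) (.leaf 135551)))))) (.node (.node (.node (.node (.node (.node (.leaf 472) (.leaf 139680)) (.leaf 103758)) (.node (.leaf 65366) (.leaf 131596))) (.node (.node (.leaf 23708) (.leaf 130025)) (.node (.leaf 102467) (.leaf 126150)))) (.node (.node (.node (.leaf 42337) (.leaf 76022)) (.node (.leaf 54427) (.leaf 119404)))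 (.node (.node (.leaf 48534) (.leaf 108550)) (.node (.leaf 63353) (.leaf 133573))))) (.node (.node (.node (.node (.leaf 8372) (.leaf 70469)) (.node (.leaf 105307) (.leaf 116622))) (.node (.node (.leaf 26162) (.leaf 93428)) (.node (.leaf 95202) (.leaf 129876)))) (.node (.node (.node (.leaf 47206) (.leaf 105342)) (.node (.leaf 55873) (.leaf 122897))) (.node (.node (.leaf 50682) (.leaf 119271)) (.node (.leaf 66149) (.leaf 137027))))))
def dFin_1303 : BT := .node (.node (.node (.node (.node (.node (.node (.leaf 45615) (.leaf 138775)) (.leaf 105161)) (.node (.leaf 74131) (.leaf 112523))) (.node (.node (.leaf 45371) (.leaf 97248)) (.node (.leaf 131237) (.leaf 124900)))) (.node (.node (.node (.leaf 12224) (.leaf 73387)) (.node (.leaf 98960) (.leaf 118258))) (.node (.node (.leaf 61873) (.leaf 107335)) (.node (.leaf 61701) (.leaf 131980))))) (.node (.node (.node (.node (.node (.leaf 10624) (.leaf 141093)) (.leaf 69685)) (.node (.leaf 52808) (.leaf 115656))) (.node (.node (.leaf 81540) (.leaf 109230)) (.node (.leaf 59290) (.leaf 128184)))) (.node (.node (.node (.leaf 40759)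 (.leaf 96412)) (.node (.leaf 106208) (.leaf 123397))) (.node (.node (.leaf 49711) (.leaf 109995)) (.node (.leaf 107218) (.leaf 135808)))))) (.node (.node (.node (.node (.node (.node (.leaf 36800) (.leaf 139862)) (.leaf 68561)) (.node (.leaf 52184) (.leaf 113552))) (.node (.node (.leaf 23767) (.leaf 88842)) (.node (.leaf 107992) (.leaf 126732)))) (.node (.node (.node (.leaf 44717) (.leaf 100848)) (.node (.leaf 54659) (.leaf 119583))) (.node (.node (.leaf 48696) (.leaf 121392)) (.node (.leaf 63556) (.leaf 133790))))) (.node (.node (.node (.node (.leaf 42397) (.leaf 72424)) (.node (.leaf 53251) (.leaf 116768))) (.node (.node (.leaf 25984) (.leaf 93536)) (.node (.leaf 60542) (.leaf 129476)))) (.node (.node (.node (.leaf 44679) (.leaf 101047)) (.node (.leaf 55777) (.leaf 123191))) (.node (.node (.leaf 50895) (.leaf 111321)) (.node (.leaf 94524) (.leaf 137254))))))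
def dFin_1312 : BT := .node (.node (.node (.node (.node (.node (.node (.leaf 34377) (.leaf 138561)) (.leaf 101631)) (.node (.leaf 51278) (.leaf 112642))) (.node (.node (.leaf 38578) (.leaf 102160)) (.node (.leaf 56164) (.leaf 124685)))) (.node (.node (.node (.leaf 36413) (.leaf 72922)) (.node (.leaf 95072) (.leaf 120783))) (.node (.node (.leaf 47938) (.leaf 107168)) (.node (.leaf 61512) (.leaf 131504))))) (.node (.node (.node (.node (.node (.leaf 35244) (.leaf 140904)) (.leaf 105200)) (.node (.leaf 52666) (.leaf 114819))) (.node (.node (.leaf 114196) (.leaf 106830)) (.node (.leaf 103085) (.leaf 127597)))) (.node (.node (.node (.leaf 14142) (.leaf 79123)) (.node (.leaf 61912) (.leaf 121299))) (.node (.node (.leaf 49500) (.leaf 109898)) (.node (.leaf 64872) (.leaf 135441)))))) (.node (.node (.node (.node (.node (.node (.leaf 37463) (.leaf 140494)) (.leaf 104641)) (.node (.leaf 52034) (.leaf 113415))) (.node (.node (.leaf 23646) (.leaf 97373)) (.node (.leaf 102973) (.leaf 126822)))) (.node (.node (.node (.leaf 99957) (.leaf 78067)) (.node (.leaf 54456) (.leaf 119441)))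 (.node (.node (.leaf 48561) (.leaf 108445)) (.node (.leaf 63225) (.leaf 133185))))) (.node (.node (.node (.node (.leaf 10764) (.leaf 70463)) (.node (.leaf 105620) (.leaf 116592))) (.node (.node (.leaf 42635) (.leaf 93378)) (.node (.leaf 101370) (.leaf 129916)))) (.node (.node (.node (.leaf 37433) (.leaf 82527)) (.node (.leaf 55652) (.leaf 133882))) (.node (.node (.leaf 50615) (.leaf 133642)) (.node (.leaf 66170) (.leaf 137084))))))
def dFin_1319 : BT := .node (.node (.node (.node (.node (.node (.node (.leaf 36525) (.leaf 138710)) (.leaf 105123)) (.node (.leaf 51171) (.leaf 112113))) (.node (.node (.leaf 125315) (.leaf 111247)) (.node (.leaf 56863) (.leaf 124856)))) (.node (.node (.node (.leaf 12210) (.leaf 73407)) (.node (.leaf 98180) (.leaf 118120))) (.node (.node (.leaf 47596) (.leaf 107257)) (.node (.leaf 63852) (.leaf 132046))))) (.node (.node (.node (.node (.node (.leaf 2617) (.leaf 141057)) (.leaf 69730)) (.node (.leaf 113540) (.leaf 115103))) (.node (.node (.leaf 24657) (.leaf 92377)) (.node (.leaf 59317) (.leaf 130251)))) (.node (.node (.node (.leaf 41443)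 (.leaf 104521)) (.node (.leaf 55088) (.leaf 121443))) (.node (.node (.leaf 49642) (.leaf 109973)) (.node (.leaf 65412) (.leaf 135768)))))) (.node (.node (.node (.node (.node (.node (.leaf 940) (.leaf 140287)) (.leaf 68252)) (.node (.leaf 72531) (.leaf 113590))) (.node (.node (.leaf 46220) (.leaf 88543)) (.node (.leaf 123248) (.leaf 126429)))) (.node (.node (.node (.leaf 46723) (.leaf 76187)) (.node (.leaf 54392) (.leaf 119708))) (.node (.node (.leaf 48692) (.leaf 108747)) (.node (.leaf 63048) (.leaf 133620))))) (.node (.node (.node (.node (.leaf 46516) (.leaf 71218)) (.node (.leaf 53298) (.leaf 116725))) (.node (.node (.leaf 42426) (.leaf 93563)) (.node (.leaf 60440) (.leaf 129550)))) (.node (.node (.node (.leaf 17340) (.leaf 100183)) (.node (.leaf 67839) (.leaf 123143))) (.node (.node (.leaf 50783) (.leaf 111317)) (.node (.leaf 66321) (.leaf 137231))))))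
def dFin_1327 : BT := .node (.node (.node (.node (.node (.node (.node (.leaf 35644) (.leaf 139752)) (.leaf 67128)) (.node (.leaf 102810) (.leaf 112551))) (.node (.node (.leaf 19290) (.leaf 103270)) (.node (.leaf 63157) (.leaf 124769)))) (.node (.node (.node (.leaf 55800) (.leaf 72824)) (.node (.leaf 54051) (.leaf 118020))) (.node (.node (.leaf 47496) (.leaf 107944)) (.node (.leaf 61755) (.leaf 131224))))) (.node (.node (.node (.node (.node (.leaf 2596) (.leaf 140987)) (.leaf 96694)) (.node (.leaf 97538) (.leaf 115016))) (.node (.node (.leaf 44917) (.leaf 92206)) (.node (.leaf 101062) (.leaf 127647)))) (.node (.node (.node (.leaf 37877) (.leaf 79075)) (.node (.leaf 55152) (.leaf 121345))) (.node (.node (.leaf 49591) (.leaf 109872)) (.node (.leaf 65212) (.leaf 135599)))))) (.node (.node (.node (.node (.node (.node (.leaf 45991) (.leaf 139724)) (.leaf 114658)) (.node (.leaf 101173) (.leaf 113448))) (.node (.node (.leaf 45831) (.leaf 120849)) (.node (.leaf 91933) (.leaf 126550)))) (.node (.node (.node (.leaf 13005) (.leaf 75939)) (.node (.leaf 98636) (.leaf 119508)))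 (.node (.node (.leaf 48628) (.leaf 108590)) (.node (.leaf 63475) (.leaf 133477))))) (.node (.node (.node (.node (.leaf 10762) (.leaf 70991)) (.node (.leaf 100842) (.leaf 118246))) (.node (.node (.leaf 25935) (.leaf 93468)) (.node (.leaf 60480) (.leaf 131507)))) (.node (.node (.node (.leaf 41386) (.leaf 82711)) (.node (.leaf 55840) (.leaf 123033))) (.node (.node (.leaf 50718) (.leaf 111268)) (.node (.leaf 72527) (.leaf 137208))))))
def dFin_1334 : BT := .node (.node (.node (.node (.node (.node (.node (.leaf 45806) (.leaf 138787)) (.leaf 67138)) (.node (.leaf 72847) (.leaf 112462))) (.node (.node (.leaf 93149) (.leaf 85932)) (.node (.leaf 107890) (.leaf 124929)))) (.node (.node (.node (.leaf 46615) (.leaf 73360)) (.node (.leaf 53951) (.leaf 118271))) (.node (.node (.leaf 47656) (.leaf 107448)) (.node (.leaf 61668) (.leaf 131934))))) (.node (.node (.node (.node (.leaf 70167) (.leaf 76590)) (.node (.leaf 52785) (.leaf 115144))) (.node (.node (.leaf 42483) (.leaf 106733)) (.node (.leaf 59266) (.leaf 128169)))) (.node (.node (.node (.leaf 14297) (.leaf 95236)) (.node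 (.leaf 113177) (.leaf 121529))) (.node (.node (.leaf 49743) (.leaf 117488)) (.node (.leaf 97461) (.leaf 135838)))))) (.node (.node (.node (.node (.node (.node (.leaf 1564) (.leaf 139834)) (.leaf 68540)) (.node (.leaf 101809) (.leaf 113629))) (.node (.node (.leaf 24186) (.leaf 88802)) (.node (.leaf 58002) (.leaf 127345)))) (.node (.node (.node (.leaf 41599) (.leaf 102922)) (.node (.leaf 54610) (.leaf 119629))) (.node (.node (.leaf 48753) (.leaf 108607)) (.node (.leaf 99544) (.leaf 133779))))) (.node (.node (.node (.node (.leaf 10814) (.leaf 71140)) (.node (.leaf 102478) (.leaf 116806))) (.node (.node (.leaf 26015) (.leaf 93766)) (.node (.leaf 60500) (.leaf 129459)))) (.node (.node (.node (.leaf 71859) (.leaf 111826)) (.node (.leaf 101807) (.leaf 123221))) (.node (.node (.leaf 50843) (.leaf 111355)) (.node (.leaf 73191) (.leaf 137344))))))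
def dFin_1344 : BT := .node (.node (.node (.node (.node (.node (.node (.leaf 37544) (.leaf 138601)) (.leaf 67419)) (.node (.leaf 105293) (.leaf 112062))) (.node (.node (.leaf 19251) (.leaf 85521)) (.node (.leaf 56117) (.leaf 124661)))) (.node (.node (.node (.leaf 12199) (.leaf 104559)) (.node (.leaf 53921) (.leaf 117760))) (.node (.node (.leaf 47406) (.leaf 114156)) (.node (.leaf 61424) (.leaf 131513))))) (.node (.node (.node (.node (.node (.leaf 42738) (.leaf 140976)) (.leaf 114699)) (.node (.leaf 52776) (.leaf 114878))) (.node (.node (.leaf 24205) (.leaf 91379)) (.node (.leaf 60298) (.leaf 127559)))) (.node (.node (.node (.leaf 46170) (.leaf 109719)) (.node (.leaf 99358) (.leaf 121300))) (.node (.node (.leaf 49487) (.leaf 138836)) (.node (.leaf 89388) (.leaf 135504)))))) (.node (.node (.node (.node (.node (.node (.leaf 45648) (.leaf 139628)) (.leaf 67902)) (.node (.leaf 52014) (.leaf 113413))) (.node (.node (.leaf 113608) (.leaf 108331)) (.node (.leaf 57587) (.leaf 126383)))) (.node (.node (.node (.leaf 40864) (.leaf 108925)) (.node (.leaf 107286) (.leaf 122973)))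 (.node (.node (.leaf 48512) (.leaf 108437)) (.node (.leaf 103820) (.leaf 133256))))) (.node (.node (.node (.node (.leaf 8160) (.leaf 70342)) (.node (.leaf 61287) (.leaf 116591))) (.node (.node (.leaf 42601) (.leaf 93356)) (.node (.leaf 59902) (.leaf 129914)))) (.node (.node (.node (.leaf 46677) (.leaf 96385)) (.node (.leaf 106368) (.leaf 122597))) (.node (.node (.leaf 97733) (.leaf 110819)) (.node (.leaf 100909) (.leaf 137004))))))
def dFin_1351 : BT := .node (.node (.node (.node (.node (.node (.node (.leaf 34734) (.leaf 138703)) (.leaf 102134)) (.node (.leaf 51386) (.leaf 112295))) (.node (.node (.leaf 19314) (.leaf 85685)) (.node (.leaf 57310) (.leaf 124824)))) (.node (.node (.node (.leaf 12207) (.leaf 110073)) (.node (.leaf 53798) (.leaf 118082))) (.node (.node (.leaf 47562) (.leaf 123422)) (.node (.leaf 61904) (.leaf 131721))))) (.node (.node (.node (.node (.node (.leaf 8085) (.leaf 141045)) (.leaf 116361)) (.node (.leaf 52724) (.leaf 116701))) (.node (.node (.leaf 41300) (.leaf 114065)) (.node (.leaf 59205) (.leaf 130237)))) (.node (.node (.node (.leaf 35677)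 (.leaf 79171)) (.node (.leaf 105750) (.leaf 121417))) (.node (.node (.leaf 49613) (.leaf 109952)) (.node (.leaf 65308) (.leaf 136658)))))) (.node (.node (.node (.node (.node (.node (.leaf 1145) (.leaf 139987)) (.leaf 68289)) (.node (.leaf 52191) (.leaf 113579))) (.node (.node (.leaf 23958) (.leaf 88449)) (.node (.leaf 57997) (.leaf 126749)))) (.node (.node (.node (.leaf 45946) (.leaf 104110)) (.node (.leaf 128746) (.leaf 119770))) (.node (.node (.leaf 106775) (.leaf 108766)) (.node (.leaf 63160) (.leaf 133814))))) (.node (.node (.node (.node (.leaf 40830) (.leaf 71074)) (.node (.leaf 102828) (.leaf 140696))) (.node (.node (.leaf 25962) (.leaf 93510)) (.node (.leaf 75808) (.leaf 129752)))) (.node (.node (.node (.leaf 56009) (.leaf 82843)) (.node (.leaf 55956) (.leaf 123108))) (.node (.node (.leaf 50822) (.leaf 111284)) (.node (.leaf 66308) (.leaf 137151))))))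
def dFin_1359 : BT := .node (.node (.node (.node (.node (.node (.node (.leaf 12720) (.leaf 138644)) (.leaf 67307)) (.node (.leaf 51506) (.leaf 134272))) (.node (.node (.leaf 135901) (.leaf 87283)) (.node (.leaf 56350) (.leaf 124744)))) (.node (.node (.node (.leaf 40880) (.leaf 72809)) (.node (.leaf 95746) (.leaf 118030))) (.node (.node (.leaf 47484) (.leaf 107207)) (.node (.leaf 61838) (.leaf 131215))))) (.node (.node (.node (.node (.node (.leaf 2588) (.leaf 140969)) (.leaf 69193)) (.node (.leaf 97493) (.leaf 114951))) (.node (.node (.leaf 45981) (.leaf 92262)) (.node (.leaf 58748) (.leaf 129907)))) (.node (.node (.node (.leaf 47820) (.leaf 79025)) (.node (.leaf 133836) (.leaf 121322))) (.node (.node (.leaf 49579) (.leaf 109829)) (.node (.leaf 65180) (.leaf 135561)))))) (.node (.node (.node (.node (.node (.node (.leaf 35280) (.leaf 139710)) (.leaf 103766)) (.node (.leaf 52108) (.leaf 113366))) (.node (.node (.leaf 23712) (.leaf 88222)) (.node (.leaf 57514) (.leaf 126263)))) (.node (.node (.node (.leaf 12983) (.leaf 130026)) (.node (.leaf 98630) (.leaf 119499)))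 (.node (.node (.leaf 48621) (.leaf 108596)) (.node (.leaf 103970) (.leaf 133554))))) (.node (.node (.node (.node (.leaf 8195) (.leaf 96282)) (.node (.leaf 53167) (.leaf 116644))) (.node (.node (.leaf 41349) (.leaf 93456)) (.node (.leaf 59802) (.leaf 129854)))) (.node (.node (.node (.leaf 37275) (.leaf 82634)) (.node (.leaf 96183) (.leaf 125473))) (.node (.node (.leaf 50699) (.leaf 111183)) (.node (.leaf 66208) (.leaf 137049))))))
def dFin_1366 : BT := .node (.node (.node (.node (.node (.node (.node (.leaf 1110) (.leaf 138752)) (.leaf 67201)) (.node (.leaf 57521) (.leaf 112117))) (.node (.node (.leaf 45145) (.leaf 85959)) (.node (.leaf 56769) (.leaf 137748)))) (.node (.node (.node (.leaf 46125) (.leaf 73340)) (.node (.leaf 106884) (.leaf 118243))) (.node (.node (.leaf 49726) (.leaf 107314)) (.node (.leaf 101593) (.leaf 132004))))) (.node (.node (.node (.node (.leaf 36763) (.leaf 105644)) (.node (.leaf 96506) (.leaf 115152))) (.node (.node (.leaf 24684) (.leaf 106725)) (.node (.leaf 97715) (.leaf 130260)))) (.node (.node (.node (.leaf 113754) (.leaf 79798)) (.node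 (.leaf 55204) (.leaf 121508))) (.node (.node (.leaf 49690) (.leaf 137955)) (.node (.leaf 65343) (.leaf 135753)))))) (.node (.node (.node (.node (.node (.node (.leaf 36650) (.leaf 139871)) (.leaf 102407)) (.node (.leaf 52179) (.leaf 113637))) (.node (.node (.leaf 41250) (.leaf 101875)) (.node (.leaf 57934) (.leaf 126699)))) (.node (.node (.node (.leaf 45412) (.leaf 76331)) (.node (.leaf 105887) (.leaf 124536))) (.node (.node (.leaf 48706) (.leaf 108679)) (.node (.leaf 63869) (.leaf 134990))))) (.node (.node (.node (.node (.leaf 32936) (.leaf 140209)) (.node (.leaf 53089) (.leaf 116777))) (.node (.node (.leaf 25996) (.leaf 105632)) (.node (.leaf 101133) (.leaf 129897)))) (.node (.node (.node (.leaf 17362) (.leaf 83362)) (.node (.leaf 97610) (.leaf 123202))) (.node (.node (.leaf 50901) (.leaf 111104)) (.node (.leaf 66790) (.leaf 137323))))))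
def dFin_1375 : BT := .node (.node (.node (.node (.node (.node (.node (.leaf 11930) (.leaf 138572)) (.leaf 67361)) (.node (.leaf 100910) (.leaf 112078))) (.node (.node (.leaf 19452) (.leaf 85716)) (.node (.leaf 56471) (.leaf 124705)))) (.node (.node (.node (.leaf 41594) (.leaf 78172)) (.node (.leaf 53871) (.leaf 137205))) (.node (.node (.leaf 47442) (.leaf 107183)) (.node (.leaf 104981) (.leaf 131434))))) (.node (.node (.node (.node (.node (.leaf 2554) (.leaf 140937)) (.leaf 69222)) (.node (.leaf 59351) (.leaf 114837))) (.node (.node (.leaf 24196) (.leaf 91361)) (.node (.leaf 58831) (.leaf 137363)))) (.node (.node (.node (.leaf 37567) (.leaf 110912)) (.node (.leaf 99371) (.leaf 121219))) (.node (.node (.leaf 49564) (.leaf 109810)) (.node (.leaf 65101) (.leaf 135444)))))) (.node (.node (.node (.node (.node (.node (.leaf 45578) (.leaf 139656)) (.leaf 103765)) (.node (.leaf 52050) (.leaf 113404))) (.node (.node (.leaf 42033) (.leaf 88358)) (.node (.leaf 57536) (.leaf 126322)))) (.node (.node (.node (.leaf 12968) (.leaf 76030)) (.node (.leaf 98349) (.leaf 122468)))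 (.node (.node (.leaf 48529) (.leaf 108535)) (.node (.leaf 103980) (.leaf 133595))))) (.node (.node (.node (.node (.leaf 8256) (.leaf 70283)) (.node (.leaf 53214) (.leaf 129116))) (.node (.node (.leaf 49915) (.leaf 100201)) (.node (.leaf 59855) (.leaf 129467)))) (.node (.node (.node (.leaf 118314) (.leaf 82660)) (.node (.leaf 120285) (.leaf 122989))) (.node (.node (.leaf 50654) (.leaf 110750)) (.node (.leaf 66125) (.leaf 137094))))))
def dFin_1382 : BT := .node (.node (.node (.node (.node (.node (.node (.leaf 1269) (.leaf 138730)) (.leaf 67249)) (.node (.leaf 56612) (.leaf 112234))) (.node (.node (.leaf 19328) (.leaf 85652)) (.node (.leaf 56860) (.leaf 124876)))) (.node (.node (.node (.leaf 100030) (.leaf 108311)) (.node (.leaf 77698) (.leaf 118199))) (.node (.node (.leaf 47565) (.leaf 107346)) (.node (.leaf 106639) (.leaf 132032))))) (.node (.node (.node (.node (.node (.leaf 41520) (.leaf 141079)) (.leaf 104412)) (.node (.leaf 52701) (.leaf 115055))) (.node (.node (.leaf 40607) (.leaf 102777)) (.node (.leaf 101176) (.leaf 136143)))) (.node (.node (.node (.leaf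 44643) (.leaf 79136)) (.node (.leaf 55237) (.leaf 121463))) (.node (.node (.leaf 104755) (.leaf 111951)) (.node (.leaf 65370) (.leaf 135780)))))) (.node (.node (.node (.node (.node (.node (.leaf 8726) (.leaf 139816)) (.leaf 68266)) (.node (.leaf 52150) (.leaf 113549))) (.node (.node (.leaf 24017) (.leaf 99177)) (.node (.leaf 57968) (.leaf 126717)))) (.node (.node (.node (.leaf 52635) (.leaf 76399)) (.node (.leaf 92104) (.leaf 119710))) (.node (.node (.leaf 48675) (.leaf 108703)) (.node (.leaf 100711) (.leaf 134935))))) (.node (.node (.node (.node (.leaf 10782) (.leaf 72450)) (.node (.leaf 102646) (.leaf 116747))) (.node (.node (.leaf 26038) (.leaf 93524)) (.node (.leaf 60307) (.leaf 129470)))) (.node (.node (.node (.leaf 42761) (.leaf 83480)) (.node (.leaf 55925) (.leaf 123157))) (.node (.node (.leaf 50792) (.leaf 111137)) (.node (.leaf 74515) (.leaf 137283))))))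
def dFin_1390 : BT := .node (.node (.node (.node (.node (.node (.node (.leaf 144) (.leaf 138672)) (.leaf 102059)) (.node (.leaf 51447) (.leaf 112354))) (.node (.node (.leaf 42224) (.leaf 103274)) (.node (.leaf 56344) (.leaf 124792)))) (.node (.node (.node (.leaf 12189) (.leaf 103902)) (.node (.leaf 98024) (.leaf 118057))) (.node (.node (.leaf 47519) (.leaf 107291)) (.node (.leaf 106815) (.leaf 131766))))) (.node (.node (.node (.node (.node (.leaf 2745) (.leaf 141025)) (.leaf 69162)) (.node (.leaf 52749) (.leaf 114963))) (.node (.node (.leaf 46749) (.leaf 92278)) (.node (.leaf 58626) (.leaf 127500)))) (.node (.node (.node (.leaf 49936) (.leaf 79193)) (.node (.leaf 101457) (.leaf 121360))) (.node (.node (.leaf 49602) (.leaf 109885)) (.node (.leaf 126031) (.leaf 135613)))))) (.node (.node (.node (.node (.node (.node (.leaf 1347) (.leaf 139806)) (.leaf 68322)) (.node (.leaf 58510) (.leaf 113484))) (.node (.node (.leaf 23726) (.leaf 88471)) (.node (.leaf 57317) (.leaf 126766)))) (.node (.node (.node (.leaf 108140) (.leaf 97851)) (.node (.leaf 67827) (.leaf 119559)))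 (.node (.node (.leaf 48614) (.leaf 108757)) (.node (.leaf 118969) (.leaf 133480))))) (.node (.node (.node (.node (.leaf 41514) (.leaf 80005)) (.node (.leaf 53118) (.leaf 137328))) (.node (.node (.leaf 41193) (.leaf 93484)) (.node (.leaf 60304) (.leaf 140825)))) (.node (.node (.node (.leaf 46938) (.leaf 82611)) (.node (.leaf 55989) (.leaf 124662))) (.node (.node (.leaf 112680) (.leaf 111330)) (.node (.leaf 66281) (.leaf 137156))))))
def dFin_1397 : BT := .node (.node (.node (.node (.node (.node (.node (.leaf 45767) (.leaf 138809)) (.leaf 67154)) (.node (.leaf 51320) (.leaf 123378))) (.node (.node (.leaf 45520) (.leaf 105597)) (.node (.leaf 56744) (.leaf 124955)))) (.node (.node (.node (.leaf 50545) (.leaf 73721)) (.node (.leaf 106143) (.leaf 118288))) (.node (.node (.leaf 47621) (.leaf 107458)) (.node (.leaf 61587) (.leaf 131954))))) (.node (.node (.node (.node (.leaf 2654) (.leaf 83270)) (.node (.leaf 79981) (.leaf 115155))) (.node (.node (.leaf 24876) (.leaf 113326)) (.node (.leaf 97888) (.leaf 128250)))) (.node (.node (.node (.leaf 42682) (.leaf 97744)) (.node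 (.leaf 55173) (.leaf 121548))) (.node (.node (.leaf 49752) (.leaf 110038)) (.node (.leaf 65395) (.leaf 135713)))))) (.node (.node (.node (.node (.node (.node (.leaf 37892) (.leaf 139889)) (.leaf 73780)) (.node (.leaf 52329) (.leaf 113648))) (.node (.node (.leaf 40589) (.leaf 103255)) (.node (.leaf 104977) (.leaf 126633)))) (.node (.node (.node (.leaf 13418) (.leaf 76287)) (.node (.leaf 54839) (.leaf 119635))) (.node (.node (.leaf 99800) (.leaf 108738)) (.node (.leaf 63845) (.leaf 133710))))) (.node (.node (.node (.node (.leaf 42624) (.leaf 113252)) (.node (.leaf 78332) (.leaf 116782))) (.node (.node (.leaf 49780) (.leaf 105628)) (.node (.leaf 97468) (.leaf 129446)))) (.node (.node (.node (.leaf 17380) (.leaf 83347)) (.node (.leaf 62801) (.leaf 123251))) (.node (.node (.leaf 50873) (.leaf 111070)) (.node (.leaf 66569) (.leaf 137373))))))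
def dFin_1408 : BT := .node (.node (.node (.node (.node (.node (.node (.leaf 584) (.leaf 138588)) (.leaf 96299)) (.node (.leaf 100784) (.leaf 114490))) (.node (.node (.leaf 45523) (.leaf 121283)) (.node (.leaf 106403) (.leaf 124655)))) (.node (.node (.node (.leaf 42143) (.leaf 103533)) (.node (.leaf 54013) (.leaf 117854))) (.node (.node (.leaf 47394) (.leaf 95451)) (.node (.leaf 61549) (.leaf 131305))))) (.node (.node (.node (.node (.node (.leaf 10640) (.leaf 140883)) (.leaf 69316)) (.node (.leaf 97137) (.leaf 114901))) (.node (.node (.leaf 46398) (.leaf 91407)) (.node (.leaf 103224) (.leaf 129793)))) (.node (.node (.node (.leaf 38781) (.leaf 121665)) (.node (.leaf 55129) (.leaf 121275))) (.node (.node (.leaf 49513) (.leaf 109782)) (.node (.leaf 64792) (.leaf 135495)))))) (.node (.node (.node (.node (.node (.node (.leaf 45789) (.leaf 139624)) (.leaf 118014)) (.node (.leaf 52009) (.leaf 113426))) (.node (.node (.leaf 23794) (.leaf 97152)) (.node (.leaf 106653) (.leaf 126499)))) (.node (.node (.node (.leaf 12938) (.leaf 75937)) (.node (.leaf 80504) (.leaf 131975)))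 (.node (.node (.leaf 48503) (.leaf 108508)) (.node (.leaf 63124) (.leaf 133250))))) (.node (.node (.node (.node (.leaf 8153) (.leaf 70499)) (.node (.leaf 53355) (.leaf 116578))) (.node (.node (.leaf 36847) (.leaf 93347)) (.node (.leaf 59975) (.leaf 129957)))) (.node (.node (.node (.leaf 41187) (.leaf 97682)) (.node (.leaf 101608) (.leaf 123021))) (.node (.node (.leaf 50623) (.leaf 125496)) (.node (.leaf 123172) (.leaf 136985))))))
def dFin_1415 : BT := .node (.node (.node (.node (.node (.node (.node (.leaf 37032) (.leaf 138791)) (.leaf 67387)) (.node (.leaf 102990) (.leaf 112411))) (.node (.node (.leaf 19312) (.leaf 85706)) (.node (.leaf 94305) (.leaf 136725)))) (.node (.node (.node (.leaf 12949) (.leaf 101040)) (.node (.leaf 53910) (.leaf 118081))) (.node (.node (.leaf 47538) (.leaf 114964)) (.node (.leaf 61650) (.leaf 131733))))) (.node (.node (.node (.node (.node (.leaf 42395) (.leaf 141037)) (.leaf 78666)) (.node (.leaf 52768) (.leaf 114998))) (.node (.node (.leaf 24648) (.leaf 92288)) (.node (.leaf 60512) (.leaf 127532)))) (.node (.node (.node (.leaf 46594)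 (.leaf 106000)) (.node (.leaf 55041) (.leaf 121411))) (.node (.node (.leaf 96954) (.leaf 109935)) (.node (.leaf 132487) (.leaf 135645)))))) (.node (.node (.node (.node (.node (.node (.leaf 958) (.leaf 139762)) (.leaf 68329)) (.node (.leaf 52114) (.leaf 113517))) (.node (.node (.leaf 46548) (.leaf 114695)) (.node (.leaf 58054) (.leaf 126375)))) (.node (.node (.node (.leaf 40713) (.leaf 76082)) (.node (.leaf 96399) (.leaf 136695))) (.node (.node (.leaf 48604) (.leaf 114804)) (.node (.leaf 63158) (.leaf 133870))))) (.node (.node (.node (.node (.leaf 8286) (.leaf 70872)) (.node (.leaf 61279) (.leaf 123289))) (.node (.node (.leaf 50796) (.leaf 93496)) (.node (.leaf 60410) (.leaf 134108)))) (.node (.node (.node (.leaf 46838) (.leaf 82828)) (.node (.leaf 107023) (.leaf 123091))) (.node (.node (.leaf 50780) (.leaf 111236)) (.node (.leaf 91761) (.leaf 137183))))))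
def dFin_1423 : BT := .node (.node (.node (.node (.node (.node (.node (.leaf 39134) (.leaf 138632)) (.leaf 118948)) (.node (.leaf 102844) (.leaf 112531))) (.node (.node (.leaf 19278) (.leaf 102165)) (.node (.leaf 107583) (.leaf 124732)))) (.node (.node (.node (.leaf 12146) (.leaf 72693)) (.node (.leaf 79748) (.leaf 117989))) (.node (.node (.leaf 47475) (.leaf 107200)) (.node (.leaf 61400) (.leaf 131203))))) (.node (.node (.node (.node (.node (.leaf 8474) (.leaf 140950)) (.leaf 69249)) (.node (.leaf 52816) (.leaf 115406))) (.node (.node (.leaf 49870) (.leaf 114130)) (.node (.leaf 58818) (.leaf 127706)))) (.node (.node (.node (.leaf 40800) (.leaf 79026)) (.node (.leaf 55038) (.leaf 121340))) (.node (.node (.leaf 49560) (.leaf 109841)) (.node (.leaf 65193) (.leaf 135553)))))) (.node (.node (.node (.node (.node (.node (.leaf 34360) (.leaf 139693)) (.leaf 68385)) (.node (.leaf 52166) (.leaf 113352))) (.node (.node (.leaf 24090) (.leaf 88208)) (.node (.leaf 57505) (.leaf 128841)))) (.node (.node (.node (.leaf 44676) (.leaf 106445)) (.node (.leaf 54371) (.leaf 119917)))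 (.node (.node (.leaf 48542) (.leaf 113953)) (.node (.leaf 63020) (.leaf 133562))))) (.node (.node (.node (.node (.leaf 42393) (.leaf 70488)) (.node (.leaf 53259) (.leaf 116634))) (.node (.node (.leaf 25928) (.leaf 93432)) (.node (.leaf 59793) (.leaf 129511)))) (.node (.node (.node (.leaf 17313) (.leaf 107124)) (.node (.leaf 97720) (.leaf 122541))) (.node (.node (.leaf 110244) (.leaf 111248)) (.node (.leaf 66204) (.leaf 137040))))))
def dFin_1430 : BT := .node (.node (.node (.node (.node (.node (.node (.leaf 37431) (.leaf 138771)) (.leaf 67296)) (.node (.leaf 51497) (.leaf 112579))) (.node (.node (.leaf 137779) (.leaf 87616)) (.node (.leaf 56818) (.leaf 124910)))) (.node (.node (.node (.leaf 40789) (.leaf 104275)) (.node (.leaf 98660) (.leaf 118278))) (.node (.node (.leaf 47582) (.leaf 107634)) (.node (.leaf 76970) (.leaf 131998))))) (.node (.node (.node (.node (.leaf 2638) (.leaf 69585)) (.node (.leaf 95689) (.leaf 115119))) (.node (.node (.leaf 45982) (.leaf 92448)) (.node (.leaf 59241) (.leaf 129825)))) (.node (.node (.node (.leaf 47856) (.leaf 97567)) (.node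 (.leaf 117930) (.leaf 121492))) (.node (.node (.leaf 58610) (.leaf 110000)) (.node (.leaf 70195) (.leaf 135816)))))) (.node (.node (.node (.node (.node (.node (.leaf 34124) (.leaf 139811)) (.leaf 84867)) (.node (.leaf 52172) (.leaf 113566))) (.node (.node (.leaf 23772) (.leaf 88777)) (.node (.leaf 58112) (.leaf 126252)))) (.node (.node (.node (.leaf 45408) (.leaf 117789)) (.node (.leaf 61569) (.leaf 119720))) (.node (.node (.leaf 101195) (.leaf 130891)) (.node (.leaf 81429) (.leaf 133797))))) (.node (.node (.node (.node (.leaf 10837) (.leaf 98824)) (.node (.leaf 53159) (.leaf 124062))) (.node (.node (.leaf 41533) (.leaf 106711)) (.node (.leaf 60362) (.leaf 137280)))) (.node (.node (.node (.leaf 37265) (.leaf 83407)) (.node (.leaf 97608) (.leaf 124658))) (.node (.node (.leaf 50852) (.leaf 111164)) (.node (.leaf 66744) (.leaf 137271))))))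
def dFin_1439 : BT := .node (.node (.node (.node (.node (.node (.node (.leaf 45611) (.leaf 138568)) (.leaf 126579)) (.node (.leaf 104622) (.leaf 112077))) (.node (.node (.leaf 93032) (.leaf 99264)) (.node (.leaf 69791) (.leaf 124695)))) (.node (.node (.node (.leaf 12155) (.leaf 72760)) (.node (.leaf 95161) (.leaf 117825))) (.node (.node (.leaf 47430) (.leaf 107172)) (.node (.leaf 99999) (.leaf 131422))))) (.node (.node (.node (.node (.node (.leaf 8398) (.leaf 140914)) (.leaf 69289)) (.node (.leaf 52665) (.leaf 114815))) (.node (.node (.leaf 24184) (.leaf 91389)) (.node (.leaf 58834) (.leaf 129759)))) (.node (.node (.node (.leaf 41406) (.leaf 102577)) (.node (.leaf 55096) (.leaf 121268))) (.node (.node (.leaf 49504) (.leaf 109806)) (.node (.leaf 65113) (.leaf 135532)))))) (.node (.node (.node (.node (.node (.node (.leaf 45861) (.leaf 140167)) (.leaf 116341)) (.node (.leaf 52046) (.leaf 113390))) (.node (.node (.leaf 46508) (.leaf 88315)) (.node (.leaf 106948) (.leaf 126438)))) (.node (.node (.node (.leaf 47342) (.leaf 75920)) (.node (.leaf 54400) (.leaf 122649)))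 (.node (.node (.leaf 48933) (.leaf 108522)) (.node (.leaf 63075) (.leaf 133430))))) (.node (.node (.node (.node (.leaf 46520) (.leaf 70662)) (.node (.leaf 53306) (.leaf 116604))) (.node (.node (.leaf 42328) (.leaf 93391)) (.node (.leaf 59958) (.leaf 129928)))) (.node (.node (.node (.leaf 17226) (.leaf 107106)) (.node (.leaf 56002) (.leaf 123031))) (.node (.node (.leaf 50667) (.leaf 110876)) (.node (.leaf 96260) (.leaf 137101))))))
def dFin_1446 : BT := .node (.node (.node (.node (.node (.node (.node (.leaf 36913) (.leaf 138714)) (.leaf 67342)) (.node (.leaf 102668) (.leaf 119335))) (.node (.node (.leaf 19321) (.leaf 85644)) (.node (.leaf 56842) (.leaf 124865)))) (.node (.node (.node (.leaf 41966) (.leaf 99826)) (.node (.leaf 53863) (.leaf 118189))) (.node (.node (.leaf 47587) (.leaf 118229)) (.node (.leaf 113726) (.leaf 132022))))) (.node (.node (.node (.node (.node (.leaf 2622) (.leaf 141071)) (.leaf 69632)) (.node (.leaf 59343) (.leaf 115085))) (.node (.node (.leaf 24666) (.leaf 92349)) (.node (.leaf 59335) (.leaf 128108)))) (.node (.node (.node (.leaf 93458)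 (.leaf 104900)) (.node (.leaf 87071) (.leaf 121450))) (.node (.node (.leaf 49734) (.leaf 117398)) (.node (.leaf 65422) (.leaf 135776)))))) (.node (.node (.node (.node (.node (.node (.leaf 52077) (.leaf 139790)) (.leaf 86744)) (.node (.leaf 52142) (.leaf 113575))) (.node (.node (.leaf 36484) (.leaf 88598)) (.node (.leaf 58031) (.leaf 126313)))) (.node (.node (.node (.leaf 13027) (.leaf 104404)) (.node (.leaf 54846) (.leaf 128039))) (.node (.node (.leaf 48671) (.leaf 128093)) (.node (.leaf 104069) (.leaf 133855))))) (.node (.node (.node (.node (.leaf 10777) (.leaf 71119)) (.node (.leaf 53206) (.leaf 116736))) (.node (.node (.leaf 26022) (.leaf 101033)) (.node (.leaf 60387) (.leaf 136813)))) (.node (.node (.node (.leaf 109616) (.leaf 83420)) (.node (.leaf 114574) (.leaf 123149))) (.node (.node (.leaf 50764) (.leaf 111197)) (.node (.leaf 103002) (.leaf 137308))))))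
def dFin_1454 : BT := .node (.node (.node (.node (.node (.node (.node (.leaf 45596) (.leaf 138725)) (.leaf 103091)) (.node (.leaf 139084) (.leaf 112470))) (.node (.node (.leaf 19299) (.leaf 85785)) (.node (.leaf 93482) (.leaf 124776)))) (.node (.node (.node (.leaf 12196) (.leaf 72632)) (.node (.leaf 53959) (.leaf 118053))) (.node (.node (.leaf 47505) (.leaf 107274)) (.node (.leaf 61683) (.leaf 137622))))) (.node (.node (.node (.node (.node (.leaf 46518) (.leaf 140996)) (.leaf 98860)) (.node (.leaf 52793) (.leaf 115028))) (.node (.node (.leaf 42484) (.leaf 121058)) (.node (.leaf 58618) (.leaf 127651)))) (.node (.node (.node (.leaf 14172) (.leaf 106688)) (.node (.leaf 102346) (.leaf 121371))) (.node (.node (.leaf 49601) (.leaf 116065)) (.node (.leaf 65271) (.leaf 135607)))))) (.node (.node (.node (.node (.node (.node (.leaf 35678) (.leaf 139728)) (.leaf 68362)) (.node (.leaf 52075) (.leaf 113471))) (.node (.node (.leaf 46157) (.leaf 88514)) (.node (.leaf 57304) (.leaf 127101)))) (.node (.node (.node (.leaf 41401) (.leaf 96325)) (.node (.leaf 54340) (.leaf 137941)))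 (.node (.node (.leaf 48609) (.leaf 108744)) (.node (.leaf 105775) (.leaf 139920))))) (.node (.node (.node (.node (.leaf 8246) (.leaf 70941)) (.node (.leaf 100844) (.leaf 116668))) (.node (.node (.leaf 25944) (.leaf 93472)) (.node (.leaf 60514) (.leaf 129803)))) (.node (.node (.node (.leaf 46802) (.leaf 128207)) (.node (.leaf 82769) (.leaf 123038))) (.node (.node (.leaf 50731) (.leaf 134167)) (.node (.leaf 107162) (.leaf 137218))))))
def dFin_1461 : BT := .node (.node (.node (.node (.node (.node (.node (.leaf 39873) (.leaf 138766)) (.leaf 75112)) (.node (.leaf 51436) (.leaf 112346))) (.node (.node (.leaf 42233) (.leaf 89110)) (.node (.leaf 56797) (.leaf 124943)))) (.node (.node (.node (.leaf 12247) (.leaf 113030)) (.node (.leaf 97312) (.leaf 118273))) (.node (.node (.leaf 47613) (.leaf 107469)) (.node (.leaf 61588) (.leaf 131987))))) (.node (.node (.node (.node (.leaf 8418) (.leaf 69536)) (.node (.leaf 52741) (.leaf 115156))) (.node (.node (.leaf 46388) (.leaf 92401)) (.node (.leaf 59215) (.leaf 128111)))) (.node (.node (.node (.leaf 14270) (.leaf 79648)) (.node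 (.leaf 106329) (.leaf 121540))) (.node (.node (.leaf 49816) (.leaf 110032)) (.node (.leaf 65378) (.leaf 138360)))))) (.node (.node (.node (.node (.node (.node (.leaf 1314) (.leaf 139913)) (.leaf 68504)) (.node (.leaf 59133) (.leaf 113642))) (.node (.node (.leaf 23786) (.leaf 88759)) (.node (.leaf 57998) (.leaf 126186)))) (.node (.node (.node (.leaf 65906) (.leaf 117372)) (.node (.leaf 74525) (.leaf 119617))) (.node (.node (.leaf 48725) (.leaf 108734)) (.node (.leaf 106162) (.leaf 133748))))) (.node (.node (.node (.node (.leaf 41500) (.leaf 98169)) (.node (.leaf 53110) (.leaf 136866))) (.node (.node (.leaf 40668) (.leaf 105646)) (.node (.leaf 97485) (.leaf 129433)))) (.node (.node (.node (.leaf 17376) (.leaf 83394)) (.node (.leaf 55981) (.leaf 123231))) (.node (.node (.leaf 99860) (.leaf 111347)) (.node (.leaf 66685) (.leaf 137356))))))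
def dFin_1471 : BT := .node (.node (.node (.node (.node (.node (.node (.leaf 34164) (.leaf 138741)) (.leaf 77499)) (.node (.leaf 51394) (.leaf 112068))) (.node (.node (.leaf 19254) (.leaf 85475)) (.node (.leaf 57874) (.leaf 124670)))) (.node (.node (.node (.leaf 44592) (.leaf 105420)) (.node (.leaf 95166) (.leaf 117817))) (.node (.node (.leaf 52642) (.leaf 114190)) (.node (.leaf 81104) (.leaf 131484))))) (.node (.node (.node (.node (.node (.leaf 2686) (.leaf 140922)) (.leaf 98816)) (.node (.leaf 52732) (.leaf 114838))) (.node (.node (.leaf 41276) (.leaf 119763)) (.node (.leaf 58636) (.leaf 129891)))) (.node (.node (.node (.leaf 14134) (.leaf 79180)) (.node (.leaf 92041) (.leaf 121293))) (.node (.node (.leaf 49535) (.leaf 109818)) (.node (.leaf 64874) (.leaf 135514)))))) (.node (.node (.node (.node (.node (.node (.leaf 1425) (.leaf 139641)) (.leaf 67908)) (.node (.leaf 52056) (.leaf 113383))) (.node (.node (.leaf 24051) (.leaf 88241)) (.node (.leaf 57450) (.leaf 132958)))) (.node (.node (.node (.leaf 14035) (.leaf 101240)) (.node (.leaf 108965) (.leaf 119434)))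 (.node (.node (.leaf 48527) (.leaf 108426)) (.node (.leaf 105316) (.leaf 133267))))) (.node (.node (.node (.node (.leaf 38450) (.leaf 70249)) (.node (.leaf 103847) (.leaf 140296))) (.node (.node (.leaf 25908) (.leaf 93398)) (.node (.leaf 64036) (.leaf 129922)))) (.node (.node (.node (.leaf 49913) (.leaf 82772)) (.node (.leaf 55648) (.leaf 122586))) (.node (.node (.leaf 50602) (.leaf 122820)) (.node (.leaf 66219) (.leaf 137012))))))
def dFin_1478 : BT := .node (.node (.node (.node (.node (.node (.node (.leaf 37791) (.leaf 138722)) (.leaf 107447)) (.node (.leaf 51270) (.leaf 112114))) (.node (.node (.leaf 41678) (.leaf 113531)) (.node (.leaf 56152) (.leaf 124843)))) (.node (.node (.node (.leaf 12208) (.leaf 73451)) (.node (.leaf 123036) (.leaf 118107))) (.node (.node (.leaf 47546) (.leaf 107251)) (.node (.leaf 61807) (.leaf 131737))))) (.node (.node (.node (.node (.node (.leaf 37307) (.leaf 141052)) (.leaf 115914)) (.node (.leaf 97986) (.leaf 115095))) (.node (.node (.leaf 24663) (.leaf 95934)) (.node (.leaf 99027) (.leaf 128258)))) (.node (.node (.node (.leaf 14234)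 (.leaf 79112)) (.node (.leaf 102391) (.leaf 121426))) (.node (.node (.leaf 49630) (.leaf 109956)) (.node (.leaf 81562) (.leaf 135749)))))) (.node (.node (.node (.node (.node (.node (.leaf 37952) (.leaf 139783)) (.leaf 68251)) (.node (.leaf 95078) (.leaf 114355))) (.node (.node (.leaf 23742) (.leaf 88595)) (.node (.leaf 100270) (.leaf 126751)))) (.node (.node (.node (.leaf 98281) (.leaf 104425)) (.node (.leaf 54448) (.leaf 119780))) (.node (.node (.leaf 48648) (.leaf 115232)) (.node (.leaf 63168) (.leaf 133703))))) (.node (.node (.node (.node (.leaf 10767) (.leaf 101823)) (.node (.leaf 139380) (.leaf 116713))) (.node (.node (.leaf 95063) (.leaf 93553)) (.node (.leaf 106116) (.leaf 129638)))) (.node (.node (.node (.leaf 44707) (.leaf 82852)) (.node (.leaf 55896) (.leaf 123141))) (.node (.node (.leaf 50818) (.leaf 123348)) (.node (.leaf 66316) (.leaf 137292))))))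
def dFin_1486 : BT := .node (.node (.node (.node (.node (.node (.node (.leaf 1122) (.leaf 140481)) (.leaf 67210)) (.node (.leaf 57688) (.leaf 133403))) (.node (.node (.leaf 45696) (.leaf 85661)) (.node (.leaf 56275) (.leaf 124767)))) (.node (.node (.node (.leaf 12929) (.leaf 104343)) (.node (.leaf 128391) (.leaf 117998))) (.node (.node (.leaf 101130) (.leaf 107212)) (.node (.leaf 61867) (.leaf 131206))))) (.node (.node (.node (.node (.node (.leaf 36124) (.leaf 141000)) (.leaf 98854)) (.node (.leaf 52669) (.leaf 128221))) (.node (.node (.leaf 24628) (.leaf 92604)) (.node (.leaf 58810) (.leaf 131216)))) (.node (.node (.node (.leaf 37957) (.leaf 79236)) (.node (.leaf 55212) (.leaf 121334))) (.node (.node (.leaf 49582) (.leaf 109849)) (.node (.leaf 65200) (.leaf 135577)))))) (.node (.node (.node (.node (.node (.node (.leaf 36676) (.leaf 139717)) (.leaf 116109)) (.node (.leaf 52096) (.leaf 113488))) (.node (.node (.leaf 41211) (.leaf 105279)) (.node (.leaf 57329) (.leaf 126801)))) (.node (.node (.node (.leaf 12984) (.leaf 75960)) (.node (.leaf 96607) (.leaf 123320)))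 (.node (.node (.leaf 48580) (.leaf 108578)) (.node (.leaf 63297) (.leaf 135362))))) (.node (.node (.node (.node (.leaf 32922) (.leaf 106076)) (.node (.leaf 103899) (.leaf 116643))) (.node (.node (.leaf 50004) (.leaf 93455)) (.node (.leaf 99191) (.leaf 129729)))) (.node (.node (.node (.leaf 17318) (.leaf 82567)) (.node (.leaf 65098) (.leaf 122559))) (.node (.node (.leaf 50706) (.leaf 111123)) (.node (.leaf 96321) (.leaf 137106))))))
def dFin_1493 : BT := .node (.node (.node (.node (.node (.node (.node (.leaf 35150) (.leaf 139702)) (.leaf 67137)) (.node (.leaf 101094) (.leaf 112575))) (.node (.node (.leaf 19342) (.leaf 85939)) (.node (.leaf 100340) (.leaf 124937)))) (.node (.node (.node (.leaf 98051) (.leaf 73353)) (.node (.leaf 54043) (.leaf 118253))) (.node (.node (.leaf 47658) (.leaf 114310)) (.node (.leaf 61740) (.leaf 131861))))) (.node (.node (.node (.node (.leaf 46816) (.leaf 91643)) (.node (.leaf 106483) (.leaf 115130))) (.node (.node (.leaf 44865) (.leaf 92542)) (.node (.leaf 97702) (.leaf 128265)))) (.node (.node (.node (.leaf 14306) (.leaf 79450)) (.node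 (.leaf 55144) (.leaf 121520))) (.node (.node (.leaf 49703) (.leaf 116896)) (.node (.leaf 65349) (.leaf 138372)))))) (.node (.node (.node (.node (.node (.node (.leaf 32870) (.leaf 139826)) (.leaf 116868)) (.node (.leaf 52193) (.leaf 113606))) (.node (.node (.leaf 73181) (.leaf 106990)) (.node (.leaf 104291) (.leaf 126537)))) (.node (.node (.node (.leaf 13042) (.leaf 76240)) (.node (.leaf 104232) (.leaf 119751))) (.node (.node (.leaf 48768) (.leaf 108634)) (.node (.leaf 63877) (.leaf 133746))))) (.node (.node (.node (.node (.leaf 10792) (.leaf 71180)) (.node (.leaf 108774) (.leaf 116914))) (.node (.node (.leaf 35933) (.leaf 93806)) (.node (.leaf 60472) (.leaf 131218)))) (.node (.node (.node (.leaf 41375) (.leaf 99580)) (.node (.leaf 55832) (.leaf 123215))) (.node (.node (.leaf 50887) (.leaf 111338)) (.node (.leaf 99823) (.leaf 137331))))))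
def dFin_1502 : BT := .node (.node (.node (.node (.node (.node (.node (.leaf 1281) (.leaf 138623)) (.leaf 67266)) (.node (.leaf 56604) (.leaf 112101))) (.node (.node (.leaf 19272) (.leaf 85679)) (.node (.leaf 56362) (.leaf 124729)))) (.node (.node (.node (.leaf 66765) (.leaf 72843)) (.node (.leaf 95146) (.leaf 117765))) (.node (.node (.leaf 47457) (.leaf 137390)) (.node (.leaf 105583) (.leaf 131445))))) (.node (.node (.node (.node (.node (.leaf 38068) (.leaf 140925)) (.leaf 124634)) (.node (.leaf 52709) (.leaf 114921))) (.node (.node (.leaf 40559) (.leaf 106406)) (.node (.leaf 101189) (.leaf 128054)))) (.node (.node (.node (.leaf 35681) (.leaf 79161)) (.node (.leaf 55245) (.leaf 121230))) (.node (.node (.leaf 138071) (.leaf 109911)) (.node (.leaf 65118) (.leaf 135464)))))) (.node (.node (.node (.node (.node (.node (.leaf 45655) (.leaf 139668)) (.leaf 68286)) (.node (.leaf 52060) (.leaf 113351))) (.node (.node (.leaf 23951) (.leaf 101623)) (.node (.leaf 57391) (.leaf 128823)))) (.node (.node (.node (.leaf 48364) (.leaf 75994)) (.node (.leaf 122310) (.leaf 119374)))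 (.node (.node (.leaf 48520) (.leaf 108542)) (.node (.leaf 103995) (.leaf 133597))))) (.node (.node (.node (.node (.leaf 8176) (.leaf 70465)) (.node (.leaf 103610) (.leaf 116613))) (.node (.node (.leaf 25924) (.leaf 93520)) (.node (.leaf 59776) (.leaf 129874)))) (.node (.node (.node (.leaf 42748) (.leaf 82736)) (.node (.leaf 55933) (.leaf 122575))) (.node (.node (.leaf 50670) (.leaf 110634)) (.node (.leaf 72334) (.leaf 137059))))))
def dFin_1509 : BT := .node (.node (.node (.node (.node (.node (.node (.leaf 36176) (.leaf 138729)) (.leaf 103140)) (.node (.leaf 51211) (.leaf 123881))) (.node (.node (.leaf 40948) (.leaf 97389)) (.node (.leaf 103957) (.leaf 124893)))) (.node (.node (.node (.leaf 12260) (.leaf 73435)) (.node (.leaf 54090) (.leaf 118209))) (.node (.node (.leaf 63654) (.leaf 113599)) (.node (.leaf 61771) (.leaf 131879))))) (.node (.node (.node (.node (.node (.leaf 36758) (.leaf 141086)) (.leaf 111341)) (.node (.leaf 97989) (.leaf 115064))) (.node (.node (.leaf 25384) (.leaf 106778)) (.node (.leaf 101169) (.leaf 128272)))) (.node (.node (.node (.leaf 14254)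 (.leaf 79085)) (.node (.leaf 81379) (.leaf 121475))) (.node (.node (.leaf 65202) (.leaf 109988)) (.node (.leaf 65360) (.leaf 135806)))))) (.node (.node (.node (.node (.node (.node (.leaf 774) (.leaf 139853)) (.leaf 85580)) (.node (.leaf 65416) (.leaf 114308))) (.node (.node (.leaf 24878) (.leaf 106871)) (.node (.leaf 100147) (.leaf 126740)))) (.node (.node (.node (.leaf 42346) (.leaf 76605)) (.node (.leaf 54751) (.leaf 119718))) (.node (.node (.leaf 48684) (.leaf 108669)) (.node (.leaf 63547) (.leaf 133673))))) (.node (.node (.node (.node (.leaf 50938) (.leaf 71196)) (.node (.leaf 111985) (.leaf 116756))) (.node (.node (.leaf 46390) (.leaf 93532)) (.node (.leaf 115964) (.leaf 129533)))) (.node (.node (.node (.leaf 47377) (.leaf 114916)) (.node (.leaf 55865) (.leaf 124646))) (.node (.node (.leaf 50804) (.leaf 120018)) (.node (.leaf 66457) (.leaf 137247))))))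
def dFin_1517 : BT := .node (.node (.node (.node (.node (.node (.node (.leaf 35687) (.leaf 138683)) (.leaf 67165)) (.node (.leaf 51331) (.leaf 116898))) (.node (.node (.leaf 45296) (.leaf 103253)) (.node (.leaf 56213) (.leaf 136218)))) (.node (.node (.node (.leaf 12172) (.leaf 73464)) (.node (.leaf 98030) (.leaf 118064))) (.node (.node (.leaf 47618) (.leaf 107276)) (.node (.leaf 104928) (.leaf 131770))))) (.node (.node (.node (.node (.node (.leaf 2602) (.leaf 141008)) (.leaf 100889)) (.node (.leaf 97728) (.leaf 127940))) (.node (.node (.leaf 24646) (.leaf 92273)) (.node (.leaf 96115) (.leaf 127531)))) (.node (.node (.node (.leaf 42361) (.leaf 79213)) (.node (.leaf 55181) (.leaf 121382))) (.node (.node (.leaf 49661) (.leaf 109889)) (.node (.leaf 65289) (.leaf 135622)))))) (.node (.node (.node (.node (.node (.node (.leaf 35660) (.leaf 139737)) (.leaf 73416)) (.node (.leaf 52093) (.leaf 113501))) (.node (.node (.leaf 40534) (.leaf 88404)) (.node (.leaf 92091) (.leaf 126776)))) (.node (.node (.node (.leaf 12991) (.leaf 75896)) (.node (.leaf 54479) (.leaf 120946)))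 (.node (.node (.leaf 95154) (.leaf 121225)) (.node (.leaf 63189) (.leaf 133502))))) (.node (.node (.node (.node (.leaf 35837) (.leaf 121284)) (.node (.leaf 102820) (.leaf 116674))) (.node (.node (.leaf 25955) (.leaf 126813)) (.node (.leaf 96765) (.leaf 129690)))) (.node (.node (.node (.leaf 17345) (.leaf 82538)) (.node (.leaf 62809) (.leaf 123113))) (.node (.node (.leaf 50747) (.leaf 111090)) (.node (.leaf 66289) (.leaf 137162))))))
def dFin_1524 : BT := .node (.node (.node (.node (.node (.node (.node (.leaf 563) (.leaf 138802)) (.leaf 99124)) (.node (.leaf 51555) (.leaf 112589))) (.node (.node (.leaf 19359) (.leaf 127508)) (.node (.leaf 99724) (.leaf 125338)))) (.node (.node (.node (.leaf 42077) (.leaf 75002)) (.node (.leaf 53994) (.leaf 118298))) (.node (.node (.leaf 47632) (.leaf 107463)) (.node (.leaf 61920) (.leaf 131843))))) (.node (.node (.node (.node (.leaf 8360) (.leaf 69757)) (.node (.leaf 133349) (.leaf 115174))) (.node (.node (.leaf 24706) (.leaf 92523)) (.node (.leaf 59156) (.leaf 131730)))) (.node (.node (.node (.leaf 14293) (.leaf 98244)) (.node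 (.leaf 55113) (.leaf 122382))) (.node (.node (.leaf 49756) (.leaf 110045)) (.node (.leaf 65404) (.leaf 135855)))))) (.node (.node (.node (.node (.node (.node (.leaf 36884) (.leaf 139900)) (.leaf 121880)) (.node (.leaf 114716) (.leaf 113662))) (.node (.node (.leaf 23792) (.leaf 88714)) (.node (.leaf 132531) (.leaf 126459)))) (.node (.node (.node (.leaf 13426) (.leaf 76194)) (.node (.leaf 104398) (.leaf 119789))) (.node (.node (.leaf 48739) (.leaf 108643)) (.node (.leaf 63793) (.leaf 134925))))) (.node (.node (.node (.node (.leaf 38758) (.leaf 71165)) (.node (.leaf 53339) (.leaf 120092))) (.node (.node (.leaf 36837) (.leaf 113082)) (.node (.leaf 60450) (.leaf 129460)))) (.node (.node (.node (.leaf 41058) (.leaf 94167)) (.node (.leaf 103097) (.leaf 140648))) (.node (.node (.leaf 50882) (.leaf 133755)) (.node (.leaf 104670) (.leaf 137377))))))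
def dFin_1537 : BT := .node (.node (.node (.node (.node (.node (.node (.leaf 1130) (.leaf 138554)) (.leaf 67241)) (.node (.leaf 103780) (.leaf 132720))) (.node (.node (.leaf 45319) (.leaf 85440)) (.node (.leaf 56283) (.leaf 124632)))) (.node (.node (.node (.leaf 12176) (.leaf 103785)) (.node (.leaf 101101) (.leaf 117844))) (.node (.node (.leaf 49721) (.leaf 95445)) (.node (.leaf 105305) (.leaf 131533))))) (.node (.node (.node (.node (.node (.leaf 38416) (.leaf 140873)) (.leaf 69126)) (.node (.leaf 98154) (.leaf 114892))) (.node (.node (.leaf 24172) (.leaf 106284)) (.node (.leaf 67290) (.leaf 128003)))) (.node (.node (.node (.leaf 46527) (.leaf 79288)) (.node (.leaf 55219) (.leaf 121099))) (.node (.node (.leaf 49519) (.leaf 115988)) (.node (.leaf 64899) (.leaf 135368)))))) (.node (.node (.node (.node (.node (.node (.leaf 45942) (.leaf 139610)) (.leaf 117996)) (.node (.leaf 51994) (.leaf 113434))) (.node (.node (.leaf 37718) (.leaf 97142)) (.node (.leaf 57338) (.leaf 126838)))) (.node (.node (.node (.leaf 12931) (.leaf 75986)) (.node (.leaf 54303) (.leaf 130516)))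 (.node (.node (.leaf 48578) (.leaf 108496)) (.node (.leaf 63306) (.leaf 133300))))) (.node (.node (.node (.node (.leaf 32881) (.leaf 105107)) (.node (.leaf 103986) (.leaf 116571))) (.node (.node (.leaf 47166) (.leaf 93322)) (.node (.leaf 103320) (.leaf 129989)))) (.node (.node (.node (.leaf 17202) (.leaf 82244)) (.node (.leaf 64602) (.leaf 122571))) (.node (.node (.leaf 50644) (.leaf 110588)) (.node (.leaf 98594) (.leaf 136978))))))
def dFin_1544 : BT := .node (.node (.node (.node (.node (.node (.node (.leaf 35407) (.leaf 139204)) (.leaf 102124)) (.node (.leaf 113714) (.leaf 112558))) (.node (.node (.leaf 19308) (.leaf 85701)) (.node (.leaf 56330) (.leaf 124805)))) (.node (.node (.node (.leaf 89310) (.leaf 104231)) (.node (.leaf 54048) (.leaf 118074))) (.node (.node (.leaf 47524) (.leaf 108276)) (.node (.leaf 61752) (.leaf 131779))))) (.node (.node (.node (.node (.node (.leaf 2606) (.leaf 141088)) (.leaf 69431)) (.node (.leaf 97734) (.leaf 114978))) (.node (.node (.leaf 114154) (.leaf 92282)) (.node (.leaf 106271) (.leaf 127518)))) (.node (.node (.node (.leaf 38777)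 (.leaf 79072)) (.node (.leaf 55151) (.leaf 121390))) (.node (.node (.leaf 91949) (.leaf 109941)) (.node (.leaf 65296) (.leaf 135631)))))) (.node (.node (.node (.node (.node (.node (.leaf 1392) (.leaf 139756)) (.leaf 103366)) (.node (.leaf 62550) (.leaf 113519))) (.node (.node (.leaf 48101) (.leaf 105189)) (.node (.leaf 100835) (.leaf 126549)))) (.node (.node (.node (.leaf 12994) (.leaf 75904)) (.node (.leaf 97118) (.leaf 119570))) (.node (.node (.leaf 48590) (.leaf 108661)) (.node (.leaf 63503) (.leaf 133881))))) (.node (.node (.node (.node (.leaf 45567) (.leaf 70862)) (.node (.leaf 101414) (.leaf 120715))) (.node (.node (.leaf 25949) (.leaf 93490)) (.node (.leaf 60479) (.leaf 129805)))) (.node (.node (.node (.leaf 41758) (.leaf 82835)) (.node (.leaf 55839) (.leaf 123096))) (.node (.node (.leaf 50754) (.leaf 111276)) (.node (.leaf 91749) (.leaf 137194))))))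
def dFin_1552 : BT := .node (.node (.node (.node (.node (.node (.node (.leaf 45238) (.leaf 138619)) (.leaf 99134)) (.node (.leaf 51277) (.leaf 112107))) (.node (.node (.leaf 41663) (.leaf 85805)) (.node (.leaf 56163) (.leaf 124737)))) (.node (.node (.node (.leaf 45184) (.leaf 72859)) (.node (.leaf 53792) (.leaf 120838))) (.node (.node (.leaf 47459) (.leaf 107194)) (.node (.leaf 61390) (.leaf 131454))))) (.node (.node (.node (.node (.node (.leaf 36593) (.leaf 140934)) (.leaf 140338)) (.node (.leaf 97412) (.leaf 114935))) (.node (.node (.leaf 24655) (.leaf 92267)) (.node (.leaf 94576) (.leaf 127593)))) (.node (.node (.node (.leaf 14152) (.leaf 79120)) (.node (.leaf 99399) (.leaf 121267))) (.node (.node (.leaf 49550) (.leaf 109900)) (.node (.leaf 65129) (.leaf 135580)))))) (.node (.node (.node (.node (.node (.node (.leaf 35957) (.leaf 139687)) (.leaf 103756)) (.node (.leaf 52160) (.leaf 113443))) (.node (.node (.leaf 23658) (.leaf 88217)) (.node (.leaf 63183) (.leaf 126817)))) (.node (.node (.node (.leaf 100263) (.leaf 98859)) (.node (.leaf 54455) (.leaf 119402)))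 (.node (.node (.leaf 48532) (.leaf 109234)) (.node (.leaf 63218) (.leaf 133575))))) (.node (.node (.node (.node (.leaf 8185) (.leaf 95815)) (.node (.leaf 118389) (.leaf 116620))) (.node (.node (.leaf 65364) (.leaf 93426)) (.node (.leaf 101057) (.leaf 129669)))) (.node (.node (.node (.leaf 44740) (.leaf 82519)) (.node (.leaf 55903) (.leaf 135389))) (.node (.node (.leaf 50681) (.leaf 127388)) (.node (.leaf 66169) (.leaf 137022))))))
def dFin_1559 : BT := .node (.node (.node (.node (.node (.node (.node (.leaf 35513) (.leaf 138777)) (.leaf 105236)) (.node (.leaf 102665) (.leaf 130186))) (.node (.node (.leaf 93237) (.leaf 97244)) (.node (.leaf 103626) (.leaf 124894)))) (.node (.node (.node (.leaf 12222) (.leaf 73403)) (.node (.leaf 99015) (.leaf 118220))) (.node (.node (.leaf 47572) (.leaf 107337)) (.node (.leaf 102655) (.leaf 131991))))) (.node (.node (.node (.node (.node (.leaf 2629) (.leaf 141091)) (.leaf 69729)) (.node (.leaf 101277) (.leaf 115075))) (.node (.node (.leaf 24671) (.leaf 92514)) (.node (.leaf 59310) (.leaf 129808)))) (.node (.node (.node (.leaf 41449)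 (.leaf 79792)) (.node (.leaf 55087) (.leaf 121481))) (.node (.node (.leaf 49713) (.leaf 110025)) (.node (.leaf 71291) (.leaf 135802)))))) (.node (.node (.node (.node (.node (.node (.leaf 880) (.leaf 139856)) (.leaf 116140)) (.node (.leaf 121676) (.leaf 113546))) (.node (.node (.leaf 24032) (.leaf 88856)) (.node (.leaf 94031) (.leaf 126426)))) (.node (.node (.node (.leaf 46726) (.leaf 76184)) (.node (.leaf 54705) (.leaf 119731))) (.node (.node (.leaf 48695) (.leaf 114822)) (.node (.leaf 63554) (.leaf 135539))))) (.node (.node (.node (.node (.leaf 48792) (.leaf 71217)) (.node (.leaf 53297) (.leaf 116766))) (.node (.node (.leaf 42431) (.leaf 93560)) (.node (.leaf 60439) (.leaf 129544)))) (.node (.node (.node (.leaf 17369) (.leaf 99913)) (.node (.leaf 97598) (.leaf 123183))) (.node (.node (.leaf 50835) (.leaf 111318)) (.node (.leaf 73196) (.leaf 137259))))))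
def dFin_1568 : BT := .node (.node (.node (.node (.node (.node (.node (.leaf 37550) (.leaf 138546)) (.leaf 67194)) (.node (.leaf 51336) (.leaf 129522))) (.node (.node (.leaf 45699) (.leaf 99262)) (.node (.leaf 56222) (.leaf 124681)))) (.node (.node (.node (.leaf 12134) (.leaf 72974)) (.node (.leaf 95070) (.leaf 117813))) (.node (.node (.leaf 47425) (.leaf 107166)) (.node (.leaf 106279) (.leaf 131498))))) (.node (.node (.node (.node (.node (.leaf 2532) (.leaf 140902)) (.leaf 71251)) (.node (.leaf 97343) (.leaf 130795))) (.node (.node (.leaf 50267) (.leaf 106793)) (.node (.leaf 58599) (.leaf 128033)))) (.node (.node (.node (.leaf 42699) (.leaf 102750)) (.node (.leaf 55186) (.leaf 121297))) (.node (.node (.leaf 49498) (.leaf 109902)) (.node (.leaf 65056) (.leaf 135526)))))) (.node (.node (.node (.node (.node (.node (.leaf 38056) (.leaf 139658)) (.leaf 103621)) (.node (.leaf 52024) (.leaf 113398))) (.node (.node (.leaf 40561) (.leaf 107924)) (.node (.leaf 102465) (.leaf 133609)))) (.node (.node (.node (.leaf 13417) (.leaf 75973)) (.node (.leaf 54484) (.leaf 125297)))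 (.node (.node (.leaf 112563) (.leaf 114570)) (.node (.leaf 63265) (.leaf 133215))))) (.node (.node (.node (.node (.leaf 32971) (.leaf 70490)) (.node (.leaf 103983) (.leaf 116588))) (.node (.node (.leaf 46557) (.leaf 122664)) (.node (.leaf 105118) (.leaf 129912)))) (.node (.node (.node (.leaf 17224) (.leaf 82553)) (.node (.leaf 62384) (.leaf 122895))) (.node (.node (.leaf 50611) (.leaf 110529)) (.node (.leaf 66190) (.leaf 137072))))))
def dFin_1575 : BT := .node (.node (.node (.node (.node (.node (.node (.leaf 572) (.leaf 138708)) (.leaf 101778)) (.node (.leaf 102994) (.leaf 112565))) (.node (.node (.leaf 19414) (.leaf 105228)) (.node (.leaf 104091) (.leaf 124871)))) (.node (.node (.node (.leaf 42746) (.leaf 74760)) (.node (.leaf 54001) (.leaf 118118))) (.node (.node (.leaf 47594) (.leaf 107255)) (.node (.leaf 61840) (.leaf 131745))))) (.node (.node (.node (.node (.node (.leaf 8413) (.leaf 141099)) (.leaf 69774)) (.node (.leaf 97991) (.leaf 115101))) (.node (.node (.leaf 24848) (.leaf 92385)) (.node (.leaf 97253) (.leaf 129821)))) (.node (.node (.node (.leaf 14241)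 (.leaf 104903)) (.node (.leaf 55118) (.leaf 121448))) (.node (.node (.leaf 49640) (.leaf 109971)) (.node (.leaf 65328) (.leaf 135766)))))) (.node (.node (.node (.node (.node (.node (.leaf 46824) (.leaf 139784)) (.leaf 140194)) (.node (.leaf 52147) (.leaf 113588))) (.node (.node (.leaf 23758) (.leaf 101282)) (.node (.leaf 136817) (.leaf 126487)))) (.node (.node (.node (.leaf 13029) (.leaf 76229)) (.node (.leaf 99240) (.leaf 119702))) (.node (.node (.leaf 48655) (.leaf 108648)) (.node (.leaf 63096) (.leaf 136628))))) (.node (.node (.node (.node (.leaf 10798) (.leaf 71173)) (.node (.leaf 53344) (.leaf 123274))) (.node (.node (.leaf 35841) (.leaf 93559)) (.node (.leaf 60458) (.leaf 129586)))) (.node (.node (.node (.leaf 41065) (.leaf 83282)) (.node (.leaf 97770) (.leaf 123137))) (.node (.node (.leaf 50811) (.leaf 119273)) (.node (.leaf 66774) (.leaf 137321))))))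
def dFin_1583 : BT := .node (.node (.node (.node (.node (.node (.node (.leaf 36038) (.leaf 138653)) (.leaf 120921)) (.node (.leaf 51216) (.leaf 124364))) (.node (.node (.leaf 41141) (.leaf 85633)) (.node (.leaf 100013) (.leaf 124765)))) (.node (.node (.node (.leaf 44584) (.leaf 72822)) (.node (.leaf 54097) (.leaf 118019))) (.node (.node (.leaf 106462) (.leaf 113468)) (.node (.leaf 61783) (.leaf 131222))))) (.node (.node (.node (.node (.node (.leaf 8334) (.leaf 140982)) (.leaf 103059)) (.node (.leaf 97585) (.leaf 115014))) (.node (.node (.leaf 24636) (.leaf 92202)) (.node (.leaf 115457) (.leaf 127645)))) (.node (.node (.node (.leaf 14170) (.leaf 79097)) (.node (.leaf 99513) (.leaf 121353))) (.node (.node (.leaf 49632) (.leaf 109857)) (.node (.leaf 65210) (.leaf 135584)))))) (.node (.node (.node (.node (.node (.node (.leaf 468) (.leaf 139718)) (.leaf 104778)) (.node (.leaf 65353) (.leaf 113473))) (.node (.node (.leaf 46071) (.leaf 105238)) (.node (.leaf 57298) (.leaf 126811)))) (.node (.node (.node (.leaf 42161) (.leaf 75952)) (.node (.leaf 54424) (.leaf 119506)))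 (.node (.node (.leaf 48626) (.leaf 108588)) (.node (.leaf 63350) (.leaf 133570))))) (.node (.node (.node (.node (.leaf 38074) (.leaf 71011)) (.node (.leaf 100838) (.leaf 116662))) (.node (.node (.leaf 50556) (.leaf 93466)) (.node (.leaf 60301) (.leaf 129840)))) (.node (.node (.node (.leaf 47234) (.leaf 113492)) (.node (.leaf 55870) (.leaf 123184))) (.node (.node (.leaf 50716) (.leaf 120015)) (.node (.leaf 66145) (.leaf 137225))))))
def dFin_1590 : BT := .node (.node (.node (.node (.node (.node (.node (.leaf 45763) (.leaf 138760)) (.leaf 103040)) (.node (.leaf 66767) (.leaf 112520))) (.node (.node (.leaf 45323) (.leaf 98997)) (.node (.leaf 136348) (.leaf 124927)))) (.node (.node (.node (.leaf 12249) (.leaf 73358)) (.node (.leaf 98725) (.leaf 118264))) (.node (.node (.leaf 47669) (.leaf 107332)) (.node (.leaf 61698) (.leaf 131932))))) (.node (.node (.node (.node (.leaf 2643) (.leaf 69682)) (.node (.leaf 52807) (.leaf 115143))) (.node (.node (.leaf 92840) (.leaf 113310)) (.node (.leaf 59286) (.leaf 128183)))) (.node (.node (.node (.leaf 40741) (.leaf 95157)) (.node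 (.leaf 55047) (.leaf 121552))) (.node (.node (.leaf 49708) (.leaf 122343)) (.node (.leaf 65385) (.leaf 135830)))))) (.node (.node (.node (.node (.node (.node (.leaf 895) (.leaf 139865)) (.leaf 68558)) (.node (.leaf 59136) (.leaf 113620))) (.node (.node (.leaf 46326) (.leaf 88838)) (.node (.leaf 94146) (.leaf 129323)))) (.node (.node (.node (.leaf 45416) (.leaf 102920)) (.node (.leaf 54656) (.leaf 119637))) (.node (.node (.leaf 48755) (.leaf 114844)) (.node (.leaf 63738) (.leaf 133756))))) (.node (.node (.node (.node (.leaf 42390) (.leaf 98834)) (.node (.leaf 53248) (.leaf 116808))) (.node (.node (.leaf 26017) (.leaf 93786)) (.node (.leaf 60541) (.leaf 129475)))) (.node (.node (.node (.leaf 46728) (.leaf 111775)) (.node (.leaf 115505) (.leaf 123235))) (.node (.node (.leaf 66773) (.leaf 111343)) (.node (.leaf 114922) (.leaf 137342))))))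
def dFin_1600 : BT := .node (.node (.node (.node (.node (.node (.node (.leaf 138) (.leaf 138597)) (.leaf 95031)) (.node (.leaf 107587) (.leaf 112058))) (.node (.node (.leaf 19282) (.leaf 85537)) (.node (.leaf 103008) (.leaf 124656)))) (.node (.node (.node (.leaf 12128) (.leaf 72648)) (.node (.leaf 53967) (.leaf 117807))) (.node (.node (.leaf 47405) (.leaf 107160)) (.node (.leaf 61444) (.leaf 131161))))) (.node (.node (.node (.node (.node (.leaf 66277) (.leaf 140890)) (.leaf 88592)) (.node (.leaf 52798) (.leaf 114880))) (.node (.node (.leaf 42500) (.leaf 118110)) (.node (.leaf 58841) (.leaf 127677)))) (.node (.node (.node (.leaf 14130) (.leaf 102746)) (.node (.leaf 55254) (.leaf 127038))) (.node (.node (.leaf 49532) (.leaf 138658)) (.node (.leaf 95967) (.leaf 135419)))))) (.node (.node (.node (.node (.node (.node (.leaf 50287) (.leaf 139626)) (.leaf 67898)) (.node (.leaf 107938) (.leaf 113916))) (.node (.node (.leaf 23844) (.leaf 88292)) (.node (.leaf 57635) (.leaf 128879)))) (.node (.node (.node (.leaf 41572) (.leaf 113550)) (.node (.leaf 54347) (.leaf 122735)))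 (.node (.node (.leaf 48510) (.leaf 108451)) (.node (.leaf 103747) (.leaf 135286))))) (.node (.node (.node (.node (.leaf 8158) (.leaf 70400)) (.node (.leaf 63468) (.leaf 116577))) (.node (.node (.leaf 25906) (.leaf 93354)) (.node (.leaf 60294) (.leaf 137506)))) (.node (.node (.node (.leaf 37273) (.leaf 88665)) (.node (.leaf 87476) (.leaf 122595))) (.node (.node (.leaf 50597) (.leaf 120554)) (.node (.leaf 139120) (.leaf 137002))))))
def dFin_1607 : BT := .node (.node (.node (.node (.node (.node (.node (.leaf 37034) (.leaf 138694)) (.leaf 102130)) (.node (.leaf 51444) (.leaf 112353))) (.node (.node (.leaf 42236) (.leaf 103261)) (.node (.leaf 56142) (.leaf 124822)))) (.node (.node (.node (.leaf 12186) (.leaf 101038)) (.node (.leaf 98170) (.leaf 118109))) (.node (.node (.leaf 47554) (.leaf 111666)) (.node (.leaf 99420) (.leaf 131719))))) (.node (.node (.node (.node (.node (.leaf 8377) (.leaf 141043)) (.leaf 69543)) (.node (.leaf 52746) (.leaf 115042))) (.node (.node (.leaf 45985) (.leaf 92381)) (.node (.leaf 59227) (.leaf 130232)))) (.node (.node (.node (.leaf 14226)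 (.leaf 79189)) (.node (.leaf 101460) (.leaf 121412))) (.node (.node (.leaf 49604) (.leaf 109950)) (.node (.leaf 65304) (.leaf 136232)))))) (.node (.node (.node (.node (.node (.node (.leaf 1301) (.leaf 139768)) (.leaf 68309)) (.node (.leaf 52125) (.leaf 113527))) (.node (.node (.leaf 23740) (.leaf 88467)) (.node (.leaf 58104) (.leaf 126746)))) (.node (.node (.node (.leaf 50817) (.leaf 110319)) (.node (.leaf 67818) (.leaf 119768))) (.node (.node (.leaf 48637) (.leaf 108777)) (.node (.leaf 65114) (.leaf 133824))))) (.node (.node (.node (.node (.leaf 41545) (.leaf 76050)) (.node (.leaf 53117) (.leaf 116705))) (.node (.node (.leaf 40624) (.leaf 93500)) (.node (.leaf 96886) (.leaf 131433)))) (.node (.node (.node (.leaf 17333) (.leaf 82838)) (.node (.leaf 55986) (.leaf 123106))) (.node (.node (.leaf 137213) (.leaf 111348)) (.node (.leaf 66304) (.leaf 137155))))))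
def dFin_1615 : BT := .node (.node (.node (.node (.node (.node (.node (.leaf 13433) (.leaf 138642)) (.leaf 67349)) (.node (.leaf 101359) (.leaf 112884))) (.node (.node (.leaf 45705) (.leaf 85712)) (.node (.leaf 56348) (.leaf 124743)))) (.node (.node (.node (.leaf 41588) (.leaf 72816)) (.node (.leaf 53868) (.leaf 119818))) (.node (.node (.leaf 47482) (.leaf 108357)) (.node (.leaf 61855) (.leaf 131238))))) (.node (.node (.node (.node (.node (.leaf 2586) (.leaf 141002)) (.leaf 69221)) (.node (.leaf 97551) (.leaf 114946))) (.node (.node (.leaf 24626) (.leaf 92260)) (.node (.leaf 58824) (.leaf 127652)))) (.node (.node (.node (.leaf 14164) (.leaf 122445)) (.node (.leaf 99372) (.leaf 121320))) (.node (.node (.leaf 49575) (.leaf 109827)) (.node (.leaf 65191) (.leaf 135559)))))) (.node (.node (.node (.node (.node (.node (.leaf 32951) (.leaf 139698)) (.leaf 103771)) (.node (.leaf 52106) (.leaf 113364))) (.node (.node (.leaf 42031) (.leaf 88221)) (.node (.leaf 57512) (.leaf 126321)))) (.node (.node (.node (.leaf 12980) (.leaf 75957)) (.node (.leaf 69346) (.leaf 123310)))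 (.node (.node (.leaf 48565) (.leaf 122381)) (.node (.leaf 62943) (.leaf 133549))))) (.node (.node (.node (.node (.leaf 8410) (.leaf 70279)) (.node (.leaf 53213) (.leaf 116653))) (.node (.node (.leaf 49952) (.leaf 97555)) (.node (.leaf 59800) (.leaf 129851)))) (.node (.node (.node (.leaf 50856) (.leaf 82656)) (.node (.leaf 111681) (.leaf 122547))) (.node (.node (.leaf 50692) (.leaf 111213)) (.node (.leaf 96304) (.leaf 137442))))))
def dFin_1622 : BT := .node (.node (.node (.node (.node (.node (.node (.leaf 1266) (.leaf 138732)) (.leaf 67245)) (.node (.leaf 56357) (.leaf 112233))) (.node (.node (.leaf 19340) (.leaf 85973)) (.node (.leaf 56856) (.leaf 133774)))) (.node (.node (.node (.leaf 46499) (.leaf 139213)) (.node (.leaf 77697) (.leaf 118241))) (.node (.node (.leaf 47603) (.leaf 107310)) (.node (.leaf 102332) (.leaf 132002))))) (.node (.node (.node (.node (.leaf 41529) (.leaf 78695)) (.node (.leaf 52698) (.leaf 115121))) (.node (.node (.leaf 37858) (.leaf 106727)) (.node (.leaf 97690) (.leaf 137639)))) (.node (.node (.node (.leaf 44637) (.leaf 79580)) (.node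 (.leaf 55234) (.leaf 121503))) (.node (.node (.leaf 138189) (.leaf 125616)) (.node (.leaf 65341) (.leaf 135818)))))) (.node (.node (.node (.node (.node (.node (.leaf 36802) (.leaf 139815)) (.leaf 68471)) (.node (.leaf 52177) (.leaf 115877))) (.node (.node (.leaf 24752) (.leaf 108489)) (.node (.leaf 57956) (.leaf 126709)))) (.node (.node (.node (.leaf 45410) (.leaf 76371)) (.node (.leaf 128863) (.leaf 119744))) (.node (.node (.leaf 48720) (.leaf 108677)) (.node (.leaf 104917) (.leaf 133934))))) (.node (.node (.node (.node (.leaf 10821) (.leaf 98830)) (.node (.leaf 102394) (.leaf 116812))) (.node (.node (.leaf 47160) (.leaf 110881)) (.node (.leaf 97487) (.leaf 129424)))) (.node (.node (.node (.leaf 42762) (.leaf 83467)) (.node (.leaf 55922) (.leaf 123200))) (.node (.node (.leaf 50899) (.leaf 111134)) (.node (.leaf 73198) (.leaf 137284))))))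
def dFin_1631 : BT := .node (.node (.node (.node (.node (.node (.node (.leaf 45447) (.leaf 138608)) (.leaf 67403)) (.node (.leaf 118903) (.leaf 112092))) (.node (.node (.leaf 19263) (.leaf 85754)) (.node (.leaf 115301) (.leaf 124701)))) (.node (.node (.node (.leaf 12166) (.leaf 106324)) (.node (.leaf 53917) (.leaf 124431))) (.node (.node (.leaf 47440) (.leaf 107181)) (.node (.leaf 61408) (.leaf 131430))))) (.node (.node (.node (.node (.node (.leaf 35246) (.leaf 140933)) (.leaf 107642)) (.node (.leaf 52775) (.leaf 114834))) (.node (.node (.leaf 24194) (.leaf 91375)) (.node (.leaf 59963) (.leaf 127540)))) (.node (.node (.node (.leaf 42622) (.leaf 102606)) (.node (.leaf 99357) (.leaf 121216))) (.node (.node (.leaf 97637) (.leaf 138748)) (.node (.leaf 65102) (.leaf 135438)))))) (.node (.node (.node (.node (.node (.node (.leaf 50482) (.leaf 139654)) (.leaf 68346)) (.node (.leaf 52048) (.leaf 113402))) (.node (.node (.leaf 46141) (.leaf 108366)) (.node (.leaf 57534) (.leaf 126380)))) (.node (.node (.node (.leaf 40718) (.leaf 98587)) (.node (.leaf 54307) (.leaf 122974)))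 (.node (.node (.leaf 48549) (.leaf 108531)) (.node (.leaf 103978) (.leaf 133602))))) (.node (.node (.node (.node (.leaf 8174) (.leaf 70341)) (.node (.leaf 61284) (.leaf 116619))) (.node (.node (.leaf 50024) (.leaf 93396)) (.node (.leaf 59901) (.leaf 129862)))) (.node (.node (.node (.leaf 44863) (.leaf 109998)) (.node (.leaf 114454) (.leaf 122987))) (.node (.node (.leaf 50665) (.leaf 110808)) (.node (.leaf 113736) (.leaf 137091))))))
def dFin_1638 : BT := .node (.node (.node (.node (.node (.node (.node (.leaf 34000) (.leaf 138828)) (.leaf 77364)) (.node (.leaf 51385) (.leaf 112292))) (.node (.node (.leaf 19326) (.leaf 85650)) (.node (.leaf 58102) (.leaf 124872)))) (.node (.node (.node (.leaf 12217) (.leaf 99834)) (.node (.leaf 99115) (.leaf 118213))) (.node (.node (.leaf 47561) (.leaf 114341)) (.node (.leaf 102521) (.leaf 132030))))) (.node (.node (.node (.node (.node (.leaf 37386) (.leaf 141077)) (.leaf 69435)) (.node (.leaf 52723) (.leaf 115063))) (.node (.node (.leaf 41293) (.leaf 106772)) (.node (.leaf 59202) (.leaf 129818)))) (.node (.node (.node (.leaf 36703)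 (.leaf 79134)) (.node (.leaf 55043) (.leaf 121459))) (.node (.node (.leaf 49682) (.leaf 109982)) (.node (.leaf 65338) (.leaf 136965)))))) (.node (.node (.node (.node (.node (.node (.leaf 1139) (.leaf 139875)) (.leaf 68264)) (.node (.leaf 59708) (.leaf 113545))) (.node (.node (.leaf 24792) (.leaf 88446)) (.node (.leaf 57990) (.leaf 126727)))) (.node (.node (.node (.leaf 45821) (.leaf 91779)) (.node (.leaf 137318) (.leaf 119704))) (.node (.node (.leaf 108532) (.leaf 108701)) (.node (.leaf 105312) (.leaf 133806))))) (.node (.node (.node (.node (.leaf 40819) (.leaf 108513)) (.node (.leaf 113272) (.leaf 116774))) (.node (.node (.leaf 25972) (.leaf 93507)) (.node (.leaf 69085) (.leaf 129535)))) (.node (.node (.node (.leaf 123896) (.leaf 83478)) (.node (.leaf 55955) (.leaf 123155))) (.node (.node (.leaf 50790) (.leaf 111308)) (.node (.leaf 66631) (.leaf 137276))))))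
def dFin_1646 : BT := .node (.node (.node (.node (.node (.node (.node (.leaf 37019) (.leaf 138670)) (.leaf 67304)) (.node (.leaf 51505) (.leaf 134585))) (.node (.node (.leaf 136627) (.leaf 87276)) (.node (.leaf 56342) (.leaf 124790)))) (.node (.node (.node (.leaf 40872) (.leaf 103900)) (.node (.leaf 98022) (.leaf 118051))) (.node (.node (.leaf 47510) (.leaf 113582)) (.node (.leaf 61574) (.leaf 131785))))) (.node (.node (.node (.node (.node (.leaf 2600) (.leaf 141028)) (.leaf 69190)) (.node (.leaf 60533) (.leaf 114958))) (.node (.node (.leaf 46784) (.leaf 92246)) (.node (.leaf 58624) (.leaf 129438)))) (.node (.node (.node (.leaf 46564) (.leaf 106210)) (.node (.leaf 112873) (.leaf 121356))) (.node (.node (.leaf 49620) (.leaf 109883)) (.node (.leaf 65263) (.leaf 135608)))))) (.node (.node (.node (.node (.node (.node (.leaf 35724) (.leaf 139738)) (.leaf 104795)) (.node (.leaf 52085) (.leaf 113482))) (.node (.node (.leaf 23724) (.leaf 88489)) (.node (.leaf 57313) (.leaf 126260)))) (.node (.node (.node (.leaf 12993) (.leaf 136951)) (.node (.leaf 97114) (.leaf 119560)))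 (.node (.node (.leaf 52258) (.leaf 108749)) (.node (.leaf 69490) (.leaf 133474))))) (.node (.node (.node (.node (.leaf 10650) (.leaf 101595)) (.node (.leaf 53164) (.leaf 122512))) (.node (.node (.leaf 41536) (.leaf 93478)) (.node (.leaf 60369) (.leaf 129784)))) (.node (.node (.node (.leaf 17326) (.leaf 82633)) (.node (.leaf 101925) (.leaf 123194))) (.node (.node (.leaf 50850) (.leaf 111180)) (.node (.leaf 66278) (.leaf 137197))))))
def dFin_1653 : BT := .node (.node (.node (.node (.node (.node (.node (.leaf 1109) (.leaf 138948)) (.leaf 67152)) (.node (.leaf 56663) (.leaf 132560))) (.node (.node (.leaf 45516) (.leaf 85944)) (.node (.leaf 56766) (.leaf 125328)))) (.node (.node (.node (.leaf 39070) (.leaf 102311)) (.node (.leaf 106542) (.leaf 118286))) (.node (.node (.leaf 116744) (.leaf 107456)) (.node (.leaf 101569) (.leaf 131951))))) (.node (.node (.node (.node (.leaf 40828) (.leaf 104216)) (.node (.leaf 101575) (.leaf 115192))) (.node (.node (.leaf 24702) (.leaf 106708)) (.node (.leaf 97886) (.leaf 140944)))) (.node (.node (.node (.leaf 108048) (.leaf 79767))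 (.node (.leaf 55203) (.leaf 121546))) (.node (.node (.leaf 49750) (.leaf 110332)) (.node (.leaf 65388) (.leaf 135733)))))) (.node (.node (.node (.node (.node (.node (.leaf 37039) (.leaf 139884)) (.leaf 101503)) (.node (.leaf 52387) (.leaf 113657))) (.node (.node (.leaf 41275) (.leaf 107299)) (.node (.leaf 57933) (.leaf 126645)))) (.node (.node (.node (.leaf 13415) (.leaf 76327)) (.node (.leaf 104390) (.leaf 119631))) (.node (.node (.leaf 48708) (.leaf 108732)) (.node (.leaf 63843) (.leaf 133766))))) (.node (.node (.node (.node (.leaf 11446) (.leaf 99302)) (.node (.leaf 102366) (.leaf 116779))) (.node (.node (.leaf 25998) (.leaf 113072)) (.node (.leaf 97464) (.leaf 129444)))) (.node (.node (.node (.leaf 17378) (.leaf 83361)) (.node (.leaf 64994) (.leaf 123242))) (.node (.node (.leaf 50868) (.leaf 111100)) (.node (.leaf 73193) (.leaf 137368))))))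
def dFin_1664 : BT := .node (.node (.node (.node (.node (.node (.node (.leaf 37982) (.leaf 139720)) (.leaf 105678)) (.node (.leaf 103937) (.leaf 112075))) (.node (.node (.leaf 19248) (.leaf 118006)) (.node (.leaf 102983) (.leaf 124645)))) (.node (.node (.node (.leaf 95489) (.leaf 73114)) (.node (.leaf 54059) (.leaf 117852))) (.node (.node (.leaf 47392) (.leaf 109917)) (.node (.leaf 61492) (.leaf 131353))))) (.node (.node (.node (.node (.node (.leaf 2632) (.leaf 140881)) (.leaf 69125)) (.node (.leaf 119683) (.leaf 114899))) (.node (.node (.leaf 46880) (.leaf 91421)) (.node (.leaf 104872) (.leaf 127781)))) (.node (.node (.node (.leaf 14222) (.leaf 79083)) (.node (.leaf 55159) (.leaf 121255))) (.node (.node (.leaf 49528) (.leaf 109919)) (.node (.leaf 64822) (.leaf 135491)))))) (.node (.node (.node (.node (.node (.node (.leaf 301) (.leaf 139622)) (.leaf 102509)) (.node (.leaf 52071) (.leaf 113333))) (.node (.node (.leaf 44834) (.leaf 119888)) (.node (.leaf 102457) (.leaf 126557)))) (.node (.node (.node (.leaf 12936) (.leaf 75951)) (.node (.leaf 82712) (.leaf 119420)))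 (.node (.node (.leaf 48498) (.leaf 108506)) (.node (.leaf 63448) (.leaf 133248))))) (.node (.node (.node (.node (.leaf 10794) (.leaf 70551)) (.node (.leaf 103990) (.leaf 116563))) (.node (.node (.leaf 36229) (.leaf 93342)) (.node (.leaf 59973) (.leaf 131582)))) (.node (.node (.node (.leaf 42009) (.leaf 82763)) (.node (.leaf 55659) (.leaf 132631))) (.node (.node (.leaf 50625) (.leaf 122843)) (.node (.leaf 107624) (.leaf 136995))))))
def dFin_1671 : BT := .node (.node (.node (.node (.node (.node (.node (.leaf 28008) (.leaf 138797)) (.leaf 105048)) (.node (.leaf 106637) (.leaf 112469))) (.node (.node (.leaf 122758) (.leaf 85704)) (.node (.leaf 109946) (.leaf 124814)))) (.node (.node (.node (.leaf 12205) (.leaf 73376)) (.node (.leaf 53956) (.leaf 118095))) (.node (.node (.leaf 47537) (.leaf 107296)) (.node (.leaf 61680) (.leaf 131715))))) (.node (.node (.node (.node (.node (.leaf 46118) (.leaf 141019)) (.leaf 104653)) (.node (.leaf 52790) (.leaf 114996))) (.node (.node (.leaf 42493) (.leaf 113672)) (.node (.leaf 59278) (.leaf 127528)))) (.node (.node (.node (.leaf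 14214) (.leaf 105895)) (.node (.leaf 73778) (.leaf 129078))) (.node (.node (.leaf 49623) (.leaf 109960)) (.node (.leaf 93262) (.leaf 135655)))))) (.node (.node (.node (.node (.node (.node (.leaf 767) (.leaf 139760)) (.leaf 68349)) (.node (.leaf 52112) (.leaf 114254))) (.node (.node (.leaf 23731) (.leaf 88510)) (.node (.leaf 58072) (.leaf 126786)))) (.node (.node (.node (.leaf 41403) (.leaf 104102)) (.node (.leaf 54339) (.leaf 119758))) (.node (.node (.leaf 48602) (.leaf 114801)) (.node (.leaf 63179) (.leaf 133864))))) (.node (.node (.node (.node (.leaf 8284) (.leaf 70870)) (.node (.leaf 102822) (.leaf 116692))) (.node (.node (.leaf 25960) (.leaf 93494)) (.node (.leaf 60507) (.leaf 129744)))) (.node (.node (.node (.leaf 56004) (.leaf 110324)) (.node (.leaf 55774) (.leaf 123089))) (.node (.node (.leaf 50770) (.leaf 111286)) (.node (.leaf 111902) (.leaf 137181))))))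
def dFin_1679 : BT := .node (.node (.node (.node (.node (.node (.node (.leaf 141) (.leaf 138630)) (.leaf 106107)) (.node (.leaf 51166) (.leaf 131644))) (.node (.node (.leaf 136028) (.leaf 106987)) (.node (.leaf 72855) (.leaf 124726)))) (.node (.node (.node (.leaf 12144) (.leaf 72751)) (.node (.leaf 97631) (.leaf 117781))) (.node (.node (.leaf 47470) (.leaf 107198)) (.node (.leaf 63548) (.leaf 131199))))) (.node (.node (.node (.node (.node (.leaf 8472) (.leaf 140948)) (.leaf 69286)) (.node (.leaf 101817) (.leaf 114939))) (.node (.node (.leaf 24615) (.leaf 92256)) (.node (.leaf 58816) (.leaf 129538)))) (.node (.node (.node (.leaf 41490) (.leaf 87069)) (.node (.leaf 55095) (.leaf 121313))) (.node (.node (.leaf 49558) (.leaf 109851)) (.node (.leaf 65187) (.leaf 135547)))))) (.node (.node (.node (.node (.node (.node (.leaf 45163) (.leaf 139691)) (.leaf 116252)) (.node (.leaf 114418) (.leaf 113348))) (.node (.node (.leaf 46503) (.leaf 88206)) (.node (.leaf 127047) (.leaf 126437)))) (.node (.node (.node (.leaf 46702) (.leaf 75919)) (.node (.leaf 54399) (.leaf 123308)))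 (.node (.node (.leaf 48914) (.leaf 108561)) (.node (.leaf 63068) (.leaf 137465))))) (.node (.node (.node (.node (.leaf 42648) (.leaf 70475)) (.node (.leaf 53305) (.leaf 116632))) (.node (.node (.leaf 42420) (.leaf 93564)) (.node (.leaf 59788) (.leaf 129581)))) (.node (.node (.node (.leaf 17310) (.leaf 116650)) (.node (.leaf 55770) (.leaf 125475))) (.node (.node (.leaf 50691) (.leaf 111255)) (.node (.leaf 95971) (.leaf 137064))))))
def dFin_1686 : BT := .node (.node (.node (.node (.node (.node (.node (.leaf 16979) (.leaf 138773)) (.leaf 67294)) (.node (.leaf 51176) (.leaf 128237))) (.node (.node (.leaf 19333) (.leaf 86013)) (.node (.leaf 56838) (.leaf 124909)))) (.node (.node (.node (.leaf 41479) (.leaf 76662)) (.node (.leaf 53860) (.leaf 118235))) (.node (.node (.leaf 47580) (.leaf 107309)) (.node (.leaf 101548) (.leaf 131997))))) (.node (.node (.node (.node (.leaf 2636) (.leaf 69631)) (.node (.leaf 97936) (.leaf 115082))) (.node (.node (.leaf 24682) (.leaf 92468)) (.node (.leaf 59328) (.leaf 135396)))) (.node (.node (.node (.leaf 46483) (.leaf 106245)) (.node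 (.leaf 87058) (.leaf 121490))) (.node (.node (.leaf 49718) (.leaf 109996)) (.node (.leaf 91737) (.leaf 135814)))))) (.node (.node (.node (.node (.node (.node (.leaf 45924) (.leaf 139841)) (.leaf 87102)) (.node (.leaf 52170) (.leaf 113564))) (.node (.node (.leaf 42504) (.leaf 88878)) (.node (.leaf 58019) (.leaf 126310)))) (.node (.node (.node (.leaf 13024) (.leaf 100854)) (.node (.leaf 104222) (.leaf 131437))) (.node (.node (.leaf 48714) (.leaf 127909)) (.node (.leaf 106820) (.leaf 133798))))) (.node (.node (.node (.node (.leaf 10833) (.leaf 71116)) (.node (.leaf 53205) (.leaf 136697))) (.node (.node (.leaf 26061) (.leaf 93584)) (.node (.leaf 60384) (.leaf 129423)))) (.node (.node (.node (.leaf 56134) (.leaf 83419)) (.node (.leaf 112638) (.leaf 123192))) (.node (.node (.leaf 50836) (.leaf 111194)) (.node (.leaf 92294) (.leaf 137267))))))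
def dFin_1695 : BT := .node (.node (.node (.node (.node (.node (.node (.leaf 580) (.leaf 138566)) (.leaf 98305)) (.node (.leaf 100902) (.leaf 112085))) (.node (.node (.leaf 45139) (.leaf 106866)) (.node (.leaf 56119) (.leaf 124713)))) (.node (.node (.node (.leaf 42146) (.leaf 102868)) (.node (.leaf 54009) (.leaf 117823))) (.node (.node (.leaf 47428) (.leaf 107170)) (.node (.leaf 61565) (.leaf 131302))))) (.node (.node (.node (.node (.node (.leaf 45954) (.leaf 140946)) (.leaf 69315)) (.node (.leaf 101180) (.leaf 114813))) (.node (.node (.leaf 46405) (.leaf 91403)) (.node (.leaf 58600) (.leaf 131449)))) (.node (.node (.node (.leaf 44655) (.leaf 101539)) (.node (.leaf 55126) (.leaf 121210))) (.node (.node (.leaf 49502) (.leaf 109784)) (.node (.leaf 64783) (.leaf 135451)))))) (.node (.node (.node (.node (.node (.node (.leaf 45647) (.leaf 139650)) (.leaf 103395)) (.node (.leaf 52043) (.leaf 113389))) (.node (.node (.leaf 24192) (.leaf 101869)) (.node (.leaf 102203) (.leaf 126496)))) (.node (.node (.node (.leaf 12966) (.leaf 75934)) (.node (.leaf 80503) (.leaf 119408)))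 (.node (.node (.leaf 48964) (.leaf 108482)) (.node (.leaf 63123) (.leaf 133585))))) (.node (.node (.node (.node (.leaf 8165) (.leaf 70496)) (.node (.leaf 53352) (.leaf 116603))) (.node (.node (.leaf 36827) (.leaf 93387)) (.node (.leaf 59954) (.leaf 129926)))) (.node (.node (.node (.leaf 40694) (.leaf 103345)) (.node (.leaf 70769) (.leaf 132607))) (.node (.node (.leaf 50620) (.leaf 125529)) (.node (.leaf 96256) (.leaf 137074))))))
def dFin_1702 : BT := .node (.node (.node (.node (.node (.node (.node (.leaf 36645) (.leaf 138726)) (.leaf 67384)) (.node (.leaf 115281) (.leaf 112408))) (.node (.node (.leaf 19322) (.leaf 85642)) (.node (.leaf 56665) (.leaf 125578)))) (.node (.node (.node (.leaf 46572) (.leaf 99933)) (.node (.leaf 53909) (.leaf 118185))) (.node (.node (.leaf 47589) (.leaf 107352)) (.node (.leaf 61649) (.leaf 132018))))) (.node (.node (.node (.node (.node (.leaf 42413) (.leaf 141069)) (.leaf 104129)) (.node (.leaf 52767) (.leaf 115087))) (.node (.node (.leaf 24664) (.leaf 92363)) (.node (.leaf 60511) (.leaf 128159)))) (.node (.node (.node (.leaf 44616)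 (.leaf 106982)) (.node (.leaf 55044) (.leaf 129909))) (.node (.node (.leaf 49725) (.leaf 109990)) (.node (.leaf 65362) (.leaf 135772)))))) (.node (.node (.node (.node (.node (.node (.leaf 982) (.leaf 139788)) (.leaf 68260)) (.node (.leaf 52140) (.leaf 113576))) (.node (.node (.leaf 114112) (.leaf 107636)) (.node (.leaf 58049) (.leaf 126371)))) (.node (.node (.node (.leaf 40911) (.leaf 113060)) (.node (.leaf 92097) (.leaf 124522))) (.node (.node (.leaf 48662) (.leaf 108604)) (.node (.leaf 80892) (.leaf 133841))))) (.node (.node (.node (.node (.leaf 10774) (.leaf 71133)) (.node (.leaf 102849) (.leaf 116743))) (.node (.node (.leaf 25974) (.leaf 93543)) (.node (.leaf 60409) (.leaf 129521)))) (.node (.node (.node (.leaf 44684) (.leaf 104687)) (.node (.leaf 107009) (.leaf 123147))) (.node (.node (.leaf 50779) (.leaf 111227)) (.node (.leaf 95253) (.leaf 137307))))))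
def dFin_1710 : BT := .node (.node (.node (.node (.node (.node (.node (.leaf 36699) (.leaf 138666)) (.leaf 126090)) (.node (.leaf 102814) (.leaf 112528))) (.node (.node (.leaf 19294) (.leaf 123280)) (.node (.leaf 72845) (.leaf 124774)))) (.node (.node (.node (.leaf 12191) (.leaf 72690)) (.node (.leaf 95765) (.leaf 118040))) (.node (.node (.leaf 47904) (.leaf 107228)) (.node (.leaf 61713) (.leaf 131758))))) (.node (.node (.node (.node (.node (.leaf 8186) (.leaf 140994)) (.leaf 69246)) (.node (.leaf 52815) (.leaf 115549))) (.node (.node (.leaf 92874) (.leaf 107970)) (.node (.leaf 58616) (.leaf 127649)))) (.node (.node (.node (.leaf 40776) (.leaf 106411)) (.node (.leaf 119677) (.leaf 136255))) (.node (.node (.leaf 49596) (.leaf 121526)) (.node (.leaf 65300) (.leaf 135595)))))) (.node (.node (.node (.node (.node (.node (.leaf 35674) (.leaf 140276)) (.leaf 68382)) (.node (.leaf 52182) (.leaf 113464))) (.node (.node (.leaf 24114) (.leaf 88532)) (.node (.leaf 100047) (.leaf 129109)))) (.node (.node (.node (.leaf 47102) (.leaf 97099)) (.node (.leaf 54368) (.leaf 119546)))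 (.node (.node (.leaf 48611) (.leaf 108600)) (.node (.leaf 63019) (.leaf 133487))))) (.node (.node (.node (.node (.leaf 42406) (.leaf 72208)) (.node (.leaf 53256) (.leaf 116666))) (.node (.node (.leaf 25942) (.leaf 93470)) (.node (.leaf 60557) (.leaf 129507)))) (.node (.node (.node (.leaf 17325) (.leaf 108262)) (.node (.leaf 105469) (.leaf 123034))) (.node (.node (.leaf 109610) (.leaf 111322)) (.node (.leaf 66287) (.leaf 137216))))))
def dFin_1717 : BT := .node (.node (.node (.node (.node (.node (.node (.leaf 45829) (.leaf 138764)) (.leaf 67146)) (.node (.leaf 51494) (.leaf 128241))) (.node (.node (.leaf 137050) (.leaf 87478)) (.node (.leaf 56817) (.leaf 124941)))) (.node (.node (.node (.leaf 40857) (.leaf 73596)) (.node (.leaf 53804) (.leaf 118281))) (.node (.node (.leaf 47651) (.leaf 123212)) (.node (.leaf 76984) (.leaf 131944))))) (.node (.node (.node (.node (.leaf 2650) (.leaf 69582)) (.node (.leaf 96518) (.leaf 115161))) (.node (.node (.leaf 46783) (.leaf 92440)) (.node (.leaf 59237) (.leaf 130200)))) (.node (.node (.node (.leaf 14277) (.leaf 95761)) (.node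 (.leaf 134913) (.leaf 121534))) (.node (.node (.leaf 114440) (.leaf 110030)) (.node (.leaf 65397) (.leaf 135843)))))) (.node (.node (.node (.node (.node (.node (.leaf 34054) (.leaf 139895)) (.leaf 102573)) (.node (.leaf 52503) (.leaf 113640))) (.node (.node (.leaf 23784) (.leaf 88773)) (.node (.leaf 58111) (.leaf 126247)))) (.node (.node (.node (.leaf 13422) (.leaf 105444)) (.node (.leaf 54512) (.leaf 119615))) (.node (.node (.leaf 99798) (.leaf 108741)) (.node (.leaf 70152) (.leaf 133742))))) (.node (.node (.node (.node (.leaf 10834) (.leaf 98038)) (.node (.leaf 53156) (.leaf 129428))) (.node (.node (.leaf 41354) (.leaf 106719)) (.node (.leaf 60361) (.leaf 129853)))) (.node (.node (.node (.leaf 46674) (.leaf 83404)) (.node (.leaf 101732) (.leaf 123227))) (.node (.node (.leaf 50849) (.leaf 111160)) (.node (.leaf 66743) (.leaf 137355))))))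
def dFin_1727 : BT := .node (.node (.node (.node (.node (.node (.node (.leaf 10679) (.leaf 138606)) (.leaf 75438)) (.node (.leaf 51452) (.leaf 112066))) (.node (.node (.leaf 38916) (.leaf 91242)) (.node (.leaf 56372) (.leaf 124668)))) (.node (.node (.node (.leaf 12126) (.leaf 102862)) (.node (.leaf 95091) (.leaf 117799))) (.node (.node (.leaf 47826) (.leaf 107155)) (.node (.leaf 100171) (.leaf 131481))))) (.node (.node (.node (.node (.node (.leaf 8433) (.leaf 140911)) (.leaf 69169)) (.node (.leaf 52754) (.leaf 114807))) (.node (.node (.leaf 50800) (.leaf 106300)) (.node (.leaf 58694) (.leaf 128046)))) (.node (.node (.node (.leaf 48479) (.leaf 79198)) (.node (.leaf 97671) (.leaf 121291))) (.node (.node (.leaf 50052) (.leaf 109927)) (.node (.leaf 97475) (.leaf 135510)))))) (.node (.node (.node (.node (.node (.node (.leaf 1339) (.leaf 140130)) (.leaf 67906)) (.node (.leaf 52028) (.leaf 113377))) (.node (.node (.leaf 23644) (.leaf 88255)) (.node (.leaf 57878) (.leaf 126147)))) (.node (.node (.node (.leaf 99700) (.leaf 103063)) (.node (.leaf 113556) (.leaf 119439)))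 (.node (.node (.leaf 49063) (.leaf 108422)) (.node (.leaf 104889) (.leaf 133265))))) (.node (.node (.node (.node (.leaf 38448) (.leaf 77062)) (.node (.leaf 53125) (.leaf 116597))) (.node (.node (.leaf 40660) (.leaf 93361)) (.node (.leaf 101210) (.leaf 129973)))) (.node (.node (.node (.leaf 17217) (.leaf 82624)) (.node (.leaf 55646) (.leaf 122604))) (.node (.node (.leaf 95190) (.leaf 111641)) (.node (.leaf 66237) (.leaf 137010))))))
def dFin_1734 : BT := .node (.node (.node (.node (.node (.node (.node (.leaf 37036) (.leaf 138832)) (.leaf 67162)) (.node (.leaf 51328) (.leaf 117437))) (.node (.node (.leaf 45308) (.leaf 96743)) (.node (.leaf 56150) (.leaf 124840)))) (.node (.node (.node (.leaf 91833) (.leaf 73463)) (.node (.leaf 105670) (.leaf 118098))) (.node (.node (.leaf 47816) (.leaf 107249)) (.node (.leaf 92043) (.leaf 131735))))) (.node (.node (.node (.node (.node (.leaf 2614) (.leaf 141050)) (.leaf 104630)) (.node (.leaf 72145) (.leaf 115060))) (.node (.node (.leaf 24658) (.leaf 130915)) (.node (.leaf 59143) (.leaf 128105)))) (.node (.node (.node (.leaf 42678)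 (.leaf 105815)) (.node (.leaf 55178) (.leaf 121424))) (.node (.node (.leaf 49628) (.leaf 109954)) (.node (.leaf 65321) (.leaf 135657)))))) (.node (.node (.node (.node (.node (.node (.leaf 37985) (.leaf 139767)) (.leaf 73348)) (.node (.leaf 52134) (.leaf 124682))) (.node (.node (.leaf 40529) (.leaf 123129)) (.node (.leaf 100268) (.leaf 126757)))) (.node (.node (.node (.leaf 45948) (.leaf 76320)) (.node (.leaf 54476) (.leaf 121372))) (.node (.node (.leaf 100305) (.leaf 108773)) (.node (.leaf 63166) (.leaf 133725))))) (.node (.node (.node (.node (.leaf 32940) (.leaf 105179)) (.node (.leaf 102913) (.leaf 116711))) (.node (.node (.leaf 46451) (.leaf 104077)) (.node (.leaf 106115) (.leaf 129670)))) (.node (.node (.node (.leaf 17338) (.leaf 82850)) (.node (.leaf 97613) (.leaf 123158))) (.node (.node (.leaf 50830) (.leaf 111086)) (.node (.leaf 66314) (.leaf 137290))))))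
def dFin_1742 : BT := .node (.node (.node (.node (.node (.node (.node (.leaf 1278) (.leaf 138826)) (.leaf 67254)) (.node (.leaf 102846) (.leaf 112241))) (.node (.node (.leaf 19288) (.leaf 85675)) (.node (.leaf 56358) (.leaf 124755)))) (.node (.node (.node (.leaf 65106) (.leaf 72834)) (.node (.leaf 106682) (.leaf 117994))) (.node (.node (.leaf 47487) (.leaf 107208)) (.node (.leaf 61863) (.leaf 131200))))) (.node (.node (.node (.node (.node (.leaf 36732) (.leaf 140961)) (.leaf 109676)) (.node (.leaf 52706) (.leaf 115912))) (.node (.node (.leaf 36514) (.leaf 105991)) (.node (.leaf 58807) (.leaf 128094)))) (.node (.node (.node (.leaf 14163) (.leaf 79158)) (.node (.leaf 55242) (.leaf 121333))) (.node (.node (.leaf 96707) (.leaf 109845)) (.node (.leaf 65198) (.leaf 135575)))))) (.node (.node (.node (.node (.node (.node (.leaf 34374) (.leaf 139772)) (.leaf 68285)) (.node (.leaf 52098) (.leaf 113461))) (.node (.node (.leaf 48117) (.leaf 107295)) (.node (.leaf 57387) (.leaf 126799)))) (.node (.node (.node (.leaf 49286) (.leaf 75958)) (.node (.leaf 96610) (.leaf 119496)))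 (.node (.node (.leaf 48566) (.leaf 108576)) (.node (.leaf 63536) (.leaf 134788))))) (.node (.node (.node (.node (.leaf 8196) (.leaf 99143)) (.node (.leaf 100915) (.leaf 116656))) (.node (.node (.leaf 25936) (.leaf 115151)) (.node (.leaf 96269) (.leaf 129801)))) (.node (.node (.node (.leaf 42751) (.leaf 82728)) (.node (.leaf 55930) (.leaf 122557))) (.node (.node (.leaf 50704) (.leaf 111153)) (.node (.leaf 72330) (.leaf 137056))))))
def dFin_1749 : BT := .node (.node (.node (.node (.node (.node (.node (.leaf 35762) (.leaf 138747)) (.leaf 68626)) (.node (.leaf 51207) (.leaf 127504))) (.node (.node (.leaf 40967) (.leaf 95555)) (.node (.leaf 100338) (.leaf 124953)))) (.node (.node (.node (.leaf 39080) (.leaf 73350)) (.node (.leaf 54089) (.leaf 118249))) (.node (.node (.leaf 104789) (.leaf 113558)) (.node (.leaf 61768) (.leaf 131875))))) (.node (.node (.node (.node (.leaf 52004) (.leaf 92036)) (.node (.leaf 96510) (.leaf 115128))) (.node (.node (.leaf 25428) (.leaf 106729)) (.node (.leaf 97700) (.leaf 128271)))) (.node (.node (.node (.leaf 14302) (.leaf 79490)) (.node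 (.leaf 81376) (.leaf 135586))) (.node (.node (.leaf 49699) (.leaf 110022)) (.node (.leaf 65347) (.leaf 136137)))))) (.node (.node (.node (.node (.node (.node (.leaf 884) (.leaf 139824)) (.leaf 85577)) (.node (.leaf 52641) (.leaf 113631))) (.node (.node (.leaf 50220) (.leaf 105231)) (.node (.leaf 104453) (.leaf 126691)))) (.node (.node (.node (.leaf 42110) (.leaf 100866)) (.node (.leaf 54748) (.leaf 119749))) (.node (.node (.leaf 48766) (.leaf 108666)) (.node (.leaf 63873) (.leaf 133670))))) (.node (.node (.node (.node (.leaf 50972) (.leaf 71192)) (.node (.leaf 102474) (.leaf 116826))) (.node (.node (.leaf 99925) (.leaf 93826)) (.node (.leaf 60309) (.leaf 129903)))) (.node (.node (.node (.leaf 47346) (.leaf 83285)) (.node (.leaf 55862) (.leaf 123211))) (.node (.node (.leaf 50889) (.leaf 126836)) (.node (.leaf 66454) (.leaf 137327))))))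
def dFin_1758 : BT := .node (.node (.node (.node (.node (.node (.node (.leaf 35020) (.leaf 140456)) (.leaf 98327)) (.node (.leaf 51393) (.leaf 112099))) (.node (.node (.leaf 19270) (.leaf 85693)) (.node (.leaf 57883) (.leaf 124719)))) (.node (.node (.node (.leaf 45180) (.leaf 106642)) (.node (.leaf 53791) (.leaf 119465))) (.node (.node (.leaf 50249) (.leaf 107202)) (.node (.leaf 78806) (.leaf 131443))))) (.node (.node (.node (.node (.node (.leaf 45960) (.leaf 140954)) (.leaf 69129)) (.node (.leaf 52731) (.leaf 114927))) (.node (.node (.leaf 41245) (.leaf 108572)) (.node (.leaf 58635) (.leaf 128071)))) (.node (.node (.node (.leaf 47520) (.leaf 79179)) (.node (.leaf 92047) (.leaf 121226))) (.node (.node (.leaf 49545) (.leaf 109817)) (.node (.leaf 65116) (.leaf 135463)))))) (.node (.node (.node (.node (.node (.node (.leaf 1426) (.leaf 139677)) (.leaf 68306)) (.node (.leaf 52059) (.leaf 113347))) (.node (.node (.leaf 23881) (.leaf 88238)) (.node (.leaf 57449) (.leaf 134408)))) (.node (.node (.node (.leaf 45892) (.leaf 103076)) (.node (.leaf 107109) (.leaf 119372)))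 (.node (.node (.leaf 61860) (.leaf 108536)) (.node (.leaf 140603) (.leaf 133593))))) (.node (.node (.node (.node (.leaf 40822) (.leaf 70480)) (.node (.leaf 100722) (.leaf 116640))) (.node (.node (.leaf 25920) (.leaf 93415)) (.node (.leaf 59950) (.leaf 129866)))) (.node (.node (.node (.leaf 112632) (.leaf 82742)) (.node (.leaf 55963) (.leaf 122585))) (.node (.node (.leaf 50668) (.leaf 111402)) (.node (.leaf 66216) (.leaf 137061))))))
def dFin_1765 : BT := .node (.node (.node (.node (.node (.node (.node (.leaf 36779) (.leaf 138781)) (.leaf 105163)) (.node (.leaf 51269) (.leaf 123435))) (.node (.node (.leaf 41656) (.leaf 97234)) (.node (.leaf 56729) (.leaf 124889)))) (.node (.node (.node (.leaf 12218) (.leaf 73447)) (.node (.leaf 53800) (.leaf 118205))) (.node (.node (.leaf 47548) (.leaf 107341)) (.node (.leaf 61799) (.leaf 132040))))) (.node (.node (.node (.node (.node (.leaf 36756) (.leaf 141084)) (.leaf 111275)) (.node (.leaf 52675) (.leaf 115071))) (.node (.node (.leaf 24679) (.leaf 109212)) (.node (.leaf 101160) (.leaf 128257)))) (.node (.node (.node (.leaf 14252)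 (.leaf 79107)) (.node (.leaf 83788) (.leaf 121468))) (.node (.node (.leaf 49732) (.leaf 109986)) (.node (.leaf 65398) (.leaf 135745)))))) (.node (.node (.node (.node (.node (.node (.leaf 37967) (.leaf 139850)) (.leaf 102978)) (.node (.leaf 52186) (.leaf 114356))) (.node (.node (.leaf 23764) (.leaf 124597)) (.node (.leaf 94044) (.leaf 126728)))) (.node (.node (.node (.leaf 97428) (.leaf 104537)) (.node (.leaf 54797) (.leaf 119716))) (.node (.node (.leaf 48682) (.leaf 109468)) (.node (.leaf 63542) (.leaf 133695))))) (.node (.node (.node (.node (.leaf 10808) (.leaf 101251)) (.node (.leaf 106641) (.leaf 116754))) (.node (.node (.leaf 42637) (.leaf 93530)) (.node (.leaf 96943) (.leaf 129524)))) (.node (.node (.node (.leaf 44693) (.leaf 83337)) (.node (.leaf 55895) (.leaf 123170))) (.node (.node (.leaf 50803) (.leaf 111326)) (.node (.leaf 66515) (.leaf 137233))))))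
def dFin_1773 : BT := .node (.node (.node (.node (.node (.node (.node (.leaf 1121) (.leaf 138697)) (.leaf 67209)) (.node (.leaf 102861) (.leaf 127327))) (.node (.node (.leaf 45357) (.leaf 85658)) (.node (.leaf 56271) (.leaf 124798)))) (.node (.node (.node (.leaf 12924) (.leaf 105979)) (.node (.leaf 129084) (.leaf 118062))) (.node (.node (.leaf 101146) (.leaf 107272)) (.node (.leaf 92773) (.leaf 131765))))) (.node (.node (.node (.node (.node (.leaf 38402) (.leaf 141005)) (.leaf 69432)) (.node (.leaf 97724) (.leaf 115005))) (.node (.node (.leaf 24642) (.leaf 92274)) (.node (.leaf 66109) (.leaf 129440)))) (.node (.node (.node (.leaf 38037) (.leaf 79226)) (.node (.leaf 55211) (.leaf 121380))) (.node (.node (.leaf 49659) (.leaf 109914)) (.node (.leaf 65284) (.leaf 135620)))))) (.node (.node (.node (.node (.node (.node (.leaf 35688) (.leaf 139749)) (.leaf 104597)) (.node (.leaf 52091) (.leaf 113497))) (.node (.node (.leaf 41220) (.leaf 88604)) (.node (.leaf 57322) (.leaf 126773)))) (.node (.node (.node (.leaf 12986) (.leaf 75892)) (.node (.leaf 54311) (.leaf 124616)))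 (.node (.node (.leaf 48577) (.leaf 108761)) (.node (.leaf 63187) (.leaf 133501))))) (.node (.node (.node (.node (.leaf 36748) (.leaf 102246)) (.node (.leaf 53084) (.leaf 116672))) (.node (.node (.leaf 108307) (.leaf 93477)) (.node (.leaf 99049) (.leaf 129722)))) (.node (.node (.node (.leaf 17347) (.leaf 82564)) (.node (.leaf 65069) (.leaf 123058))) (.node (.node (.leaf 50742) (.leaf 111120)) (.node (.leaf 72518) (.leaf 137694))))))
def dFin_1780 : BT := .node (.node (.node (.node (.node (.node (.node (.leaf 36196) (.leaf 138800)) (.leaf 107152)) (.node (.leaf 101036) (.leaf 112582))) (.node (.node (.leaf 19356) (.leaf 86244)) (.node (.leaf 99720) (.leaf 125332)))) (.node (.node (.node (.leaf 52984) (.leaf 73752)) (.node (.leaf 54040) (.leaf 118296))) (.node (.node (.leaf 47630) (.leaf 107445)) (.node (.leaf 61739) (.leaf 131857))))) (.node (.node (.node (.node (.leaf 8358) (.leaf 105987)) (.node (.leaf 106484) (.leaf 115172))) (.node (.node (.leaf 47462) (.leaf 92541)) (.node (.leaf 97737) (.leaf 128262)))) (.node (.node (.node (.leaf 47868) (.leaf 79442)) (.node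 (.leaf 55143) (.leaf 121565))) (.node (.node (.leaf 50893) (.leaf 110048)) (.node (.leaf 65402) (.leaf 135685)))))) (.node (.node (.node (.node (.node (.node (.leaf 36882) (.leaf 139898)) (.leaf 121876)) (.node (.leaf 59112) (.leaf 123026))) (.node (.node (.leaf 44819) (.leaf 110890)) (.node (.leaf 74626) (.leaf 126517)))) (.node (.node (.node (.leaf 13424) (.leaf 76236)) (.node (.leaf 104394) (.leaf 119675))) (.node (.node (.leaf 48734) (.leaf 108655)) (.node (.leaf 63851) (.leaf 133641))))) (.node (.node (.node (.node (.leaf 38756) (.leaf 71179)) (.node (.leaf 108697) (.leaf 117439))) (.node (.node (.leaf 45937) (.leaf 93805)) (.node (.leaf 60468) (.leaf 129457)))) (.node (.node (.node (.leaf 41766) (.leaf 83305)) (.node (.leaf 55831) (.leaf 123257))) (.node (.node (.leaf 50880) (.leaf 111353)) (.node (.leaf 104668) (.leaf 137387))))))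
def dFin_1792 : BT := .node (.node (.node (.node (.node (.node (.node (.leaf 34349) (.leaf 138543)) (.leaf 101954)) (.node (.leaf 51281) (.leaf 136347))) (.node (.node (.leaf 41697) (.leaf 85558)) (.node (.leaf 56167) (.leaf 124641)))) (.node (.node (.node (.leaf 12117) (.leaf 72926)) (.node (.leaf 94906) (.leaf 117905))) (.node (.node (.leaf 47381) (.leaf 95449)) (.node (.leaf 61528) (.leaf 131538))))) (.node (.node (.node (.node (.node (.leaf 2680) (.leaf 140874)) (.leaf 123138)) (.node (.leaf 52663) (.leaf 114894))) (.node (.node (.leaf 97210) (.leaf 95413)) (.node (.leaf 103220) (.leaf 127614)))) (.node (.node (.node (.leaf 14126) (.leaf 79127)) (.node (.leaf 79264) (.leaf 121105))) (.node (.node (.leaf 49515) (.leaf 109684)) (.node (.leaf 64979) (.leaf 135518)))))) (.node (.node (.node (.node (.node (.node (.leaf 38793) (.leaf 140568)) (.leaf 102503)) (.node (.leaf 52002) (.leaf 113440))) (.node (.node (.leaf 23636) (.leaf 97209)) (.node (.leaf 102968) (.leaf 126834)))) (.node (.node (.node (.leaf 67660) (.leaf 78070)) (.node (.leaf 54459) (.leaf 119442)))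 (.node (.node (.leaf 48494) (.leaf 115897)) (.node (.leaf 63226) (.leaf 133193))))) (.node (.node (.node (.node (.leaf 10810) (.leaf 109191)) (.node (.leaf 105623) (.leaf 116559))) (.node (.node (.leaf 52164) (.leaf 93338)) (.node (.leaf 105147) (.leaf 129993)))) (.node (.node (.node (.leaf 37417) (.leaf 82248)) (.node (.leaf 55695) (.leaf 122598))) (.node (.node (.leaf 50634) (.leaf 122812)) (.node (.leaf 66173) (.leaf 136977))))))
def dFin_1799 : BT := .node (.node (.node (.node (.node (.node (.node (.leaf 45916) (.leaf 138686)) (.leaf 126704)) (.node (.leaf 102992) (.leaf 112561))) (.node (.node (.leaf 122746) (.leaf 105101)) (.node (.leaf 56133) (.leaf 124808)))) (.node (.node (.node (.leaf 12182) (.leaf 73408)) (.node (.leaf 98034) (.leaf 118079))) (.node (.node (.leaf 47528) (.leaf 107267)) (.node (.leaf 63861) (.leaf 131723))))) (.node (.node (.node (.node (.node (.leaf 2605) (.leaf 141014)) (.leaf 69733)) (.node (.leaf 52672) (.leaf 114983))) (.node (.node (.leaf 45755) (.leaf 92286)) (.node (.leaf 59318) (.leaf 129454)))) (.node (.node (.node (.leaf 41473)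 (.leaf 105845)) (.node (.leaf 55091) (.leaf 121399))) (.node (.node (.leaf 49649) (.leaf 119486)) (.node (.leaf 65311) (.leaf 135639)))))) (.node (.node (.node (.node (.node (.node (.leaf 932) (.leaf 139867)) (.leaf 94194)) (.node (.leaf 108122) (.leaf 113511))) (.node (.node (.leaf 46510) (.leaf 88544)) (.node (.leaf 129536) (.leaf 126433)))) (.node (.node (.node (.leaf 47230) (.leaf 75908)) (.node (.leaf 54395) (.leaf 119764))) (.node (.node (.leaf 48599) (.leaf 108762)) (.node (.leaf 63051) (.leaf 133860))))) (.node (.node (.node (.node (.leaf 37910) (.leaf 70867)) (.node (.leaf 53301) (.leaf 116688))) (.node (.node (.leaf 42451) (.leaf 110188)) (.node (.leaf 60443) (.leaf 129570)))) (.node (.node (.node (.leaf 17343) (.leaf 86320)) (.node (.leaf 55994) (.leaf 123102))) (.node (.node (.leaf 50761) (.leaf 111273)) (.node (.leaf 99597) (.leaf 137176))))))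
def dFin_1807 : BT := .node (.node (.node (.node (.node (.node (.node (.leaf 37237) (.leaf 140176)) (.leaf 99140)) (.node (.leaf 51165) (.leaf 112534))) (.node (.node (.leaf 19274) (.leaf 108840)) (.node (.leaf 56352) (.leaf 124723)))) (.node (.node (.node (.leaf 94033) (.leaf 73021)) (.node (.leaf 54052) (.leaf 117777))) (.node (.node (.leaf 47466) (.leaf 114218)) (.node (.leaf 61394) (.leaf 131325))))) (.node (.node (.node (.node (.node (.leaf 2576) (.leaf 140943)) (.leaf 98554)) (.node (.leaf 97420) (.leaf 114930))) (.node (.node (.leaf 107158) (.leaf 92252)) (.node (.leaf 115386) (.leaf 127758)))) (.node (.node (.node (.leaf 37865) (.leaf 79076)) (.node (.leaf 55155) (.leaf 121304))) (.node (.node (.leaf 49700) (.leaf 116083)) (.node (.leaf 65132) (.leaf 135541)))))) (.node (.node (.node (.node (.node (.node (.leaf 308) (.leaf 139682)) (.leaf 103760)) (.node (.leaf 55766) (.leaf 113340))) (.node (.node (.leaf 23924) (.leaf 109533)) (.node (.leaf 68051) (.leaf 126553)))) (.node (.node (.node (.leaf 12976) (.leaf 75947)) (.node (.leaf 98399) (.leaf 119406)))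 (.node (.node (.leaf 48536) (.leaf 108552)) (.node (.leaf 63464) (.leaf 134776))))) (.node (.node (.node (.node (.leaf 8374) (.leaf 70471)) (.node (.leaf 53079) (.leaf 125648))) (.node (.node (.leaf 35967) (.leaf 93430)) (.node (.leaf 59784) (.leaf 129880)))) (.node (.node (.node (.leaf 41774) (.leaf 82720)) (.node (.leaf 55843) (.leaf 125503))) (.node (.node (.leaf 50684) (.leaf 111018)) (.node (.leaf 102121) (.leaf 137031))))))
def dFin_1814 : BT := .node (.node (.node (.node (.node (.node (.node (.leaf 154) (.leaf 138788)) (.leaf 115040)) (.node (.leaf 106657) (.leaf 112465))) (.node (.node (.leaf 122771) (.leaf 86037)) (.node (.leaf 105524) (.leaf 124902)))) (.node (.node (.node (.leaf 44630) (.leaf 73371)) (.node (.leaf 53952) (.leaf 124882))) (.node (.node (.leaf 47577) (.leaf 107317)) (.node (.leaf 61671) (.leaf 131983))))) (.node (.node (.node (.node (.node (.leaf 36311) (.leaf 141095)) (.leaf 76593)) (.node (.leaf 52786) (.leaf 115078))) (.node (.node (.leaf 35990) (.leaf 108548)) (.node (.leaf 59270) (.leaf 128170)))) (.node (.node (.node (.leaf 14264)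 (.leaf 79791)) (.node (.leaf 113989) (.leaf 121737))) (.node (.node (.leaf 49685) (.leaf 138307)) (.node (.leaf 101201) (.leaf 135823)))))) (.node (.node (.node (.node (.node (.node (.leaf 4466) (.leaf 139845)) (.leaf 68543)) (.node (.leaf 52157) (.leaf 114302))) (.node (.node (.leaf 24162) (.leaf 88806)) (.node (.leaf 58015) (.leaf 126736)))) (.node (.node (.node (.leaf 41616) (.leaf 76432)) (.node (.leaf 54613) (.leaf 119735))) (.node (.node (.leaf 48698) (.leaf 108691)) (.node (.leaf 106807) (.leaf 133793))))) (.node (.node (.node (.node (.leaf 10825) (.leaf 71144)) (.node (.leaf 102652) (.leaf 116770))) (.node (.node (.leaf 25986) (.leaf 93538)) (.node (.leaf 98237) (.leaf 129895)))) (.node (.node (.node (.leaf 91808) (.leaf 110973)) (.node (.leaf 97861) (.leaf 123186))) (.node (.node (.leaf 50844) (.leaf 133886)) (.node (.leaf 66786) (.leaf 137260))))))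
def dFin_1823 : BT := .node (.node (.node (.node (.node (.node (.node (.leaf 37554) (.leaf 138581)) (.leaf 98403)) (.node (.leaf 51220) (.leaf 117827))) (.node (.node (.leaf 38580) (.leaf 102163)) (.node (.leaf 102591) (.leaf 124689)))) (.node (.node (.node (.leaf 44589) (.leaf 72870)) (.node (.leaf 54101) (.leaf 117819))) (.node (.node (.leaf 115551) (.leaf 110258)) (.node (.leaf 61494) (.leaf 131398))))) (.node (.node (.node (.node (.node (.leaf 45952) (.leaf 140908)) (.leaf 104369)) (.node (.leaf 101158) (.leaf 114809))) (.node (.node (.leaf 24621) (.leaf 106829)) (.node (.leaf 105131) (.leaf 127814)))) (.node (.node (.node (.leaf 14144) (.leaf 79101)) (.node (.leaf 99493) (.leaf 121206))) (.node (.node (.leaf 50168) (.leaf 109894)) (.node (.leaf 64843) (.leaf 135447)))))) (.node (.node (.node (.node (.node (.node (.leaf 475) (.leaf 139646)) (.leaf 100815)) (.node (.leaf 52033) (.leaf 113417))) (.node (.node (.leaf 23734) (.leaf 110178)) (.node (.leaf 57287) (.leaf 127088)))) (.node (.node (.node (.leaf 42715) (.leaf 76047)) (.node (.leaf 54428) (.leaf 119427)))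 (.node (.node (.leaf 48559) (.leaf 108478)) (.node (.leaf 103826) (.leaf 133155))))) (.node (.node (.node (.node (.leaf 38306) (.leaf 70492)) (.node (.leaf 109922) (.leaf 116594))) (.node (.node (.leaf 26138) (.leaf 93380)) (.node (.leaf 59949) (.leaf 129918)))) (.node (.node (.node (.leaf 37337) (.leaf 114560)) (.node (.leaf 55654) (.leaf 122533))) (.node (.node (.leaf 50616) (.leaf 125525)) (.node (.leaf 66150) (.leaf 137079))))))
def dFin_1830 : BT := .node (.node (.node (.node (.node (.node (.node (.leaf 36643) (.leaf 138712)) (.leaf 101780)) (.node (.leaf 102666) (.leaf 112524))) (.node (.node (.leaf 45717) (.leaf 85638)) (.node (.leaf 128053) (.leaf 124858)))) (.node (.node (.node (.leaf 12212) (.leaf 73391)) (.node (.leaf 79735) (.leaf 118214))) (.node (.node (.leaf 47986) (.leaf 107259)) (.node (.leaf 61709) (.leaf 132026))))) (.node (.node (.node (.node (.node (.leaf 45571) (.leaf 141059)) (.leaf 69686)) (.node (.leaf 52811) (.leaf 115106))) (.node (.node (.leaf 92819) (.leaf 113212)) (.node (.leaf 59297) (.leaf 128187)))) (.node (.node (.node (.leaf 40753)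 (.leaf 94296)) (.node (.leaf 101560) (.leaf 121470))) (.node (.node (.leaf 49644) (.leaf 109966)) (.node (.leaf 65369) (.leaf 135760)))))) (.node (.node (.node (.node (.node (.node (.leaf 8745) (.leaf 139794)) (.leaf 68256)) (.node (.leaf 59706) (.leaf 113592))) (.node (.node (.leaf 23757) (.leaf 88527)) (.node (.leaf 109343) (.leaf 130889)))) (.node (.node (.node (.leaf 44720) (.leaf 116146)) (.node (.leaf 54364) (.leaf 124515))) (.node (.node (.leaf 48658) (.leaf 108750)) (.node (.leaf 63000) (.leaf 133842))))) (.node (.node (.node (.node (.leaf 42401) (.leaf 72435)) (.node (.leaf 53252) (.leaf 116726))) (.node (.node (.leaf 25968) (.leaf 93547)) (.node (.leaf 60553) (.leaf 129480)))) (.node (.node (.node (.leaf 17349) (.leaf 101044)) (.node (.leaf 97772) (.leaf 123167))) (.node (.node (.leaf 97332) (.leaf 111306)) (.node (.leaf 66770) (.leaf 137303))))))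
def dFin_1838 : BT := .node (.node (.node (.node (.node (.node (.node (.leaf 576) (.leaf 138662)) (.leaf 105061)) (.node (.leaf 119848) (.leaf 112542))) (.node (.node (.leaf 45290) (.leaf 105653)) (.node (.leaf 56658) (.leaf 124787)))) (.node (.node (.node (.leaf 42136) (.leaf 72831)) (.node (.leaf 54005) (.leaf 118022))) (.node (.node (.leaf 47498) (.leaf 107224)) (.node (.leaf 61852) (.leaf 131232))))) (.node (.node (.node (.node (.node (.leaf 37800) (.leaf 140991)) (.leaf 69311)) (.node (.leaf 97540) (.leaf 115018))) (.node (.node (.leaf 24634) (.leaf 92210)) (.node (.leaf 95132) (.leaf 131210)))) (.node (.node (.node (.leaf 37025) (.leaf 106326)) (.node (.leaf 55122) (.leaf 121379))) (.node (.node (.leaf 49592) (.leaf 109877)) (.node (.leaf 65214) (.leaf 135591)))))) (.node (.node (.node (.node (.node (.node (.leaf 35672) (.leaf 139726)) (.leaf 117444)) (.node (.leaf 52087) (.leaf 113452))) (.node (.node (.leaf 49677) (.leaf 120890)) (.node (.leaf 108379) (.leaf 126492)))) (.node (.node (.node (.leaf 13003) (.leaf 75925)) (.node (.leaf 98640) (.leaf 119540)))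 (.node (.node (.leaf 48632) (.leaf 108592)) (.node (.leaf 63115) (.leaf 133483))))) (.node (.node (.node (.node (.leaf 10803) (.leaf 70971)) (.node (.leaf 53348) (.leaf 118303))) (.node (.node (.leaf 36761) (.leaf 115136)) (.node (.leaf 60462) (.leaf 129613)))) (.node (.node (.node (.leaf 40698) (.leaf 108866)) (.node (.leaf 101677) (.leaf 124674))) (.node (.node (.leaf 50720) (.leaf 122301)) (.node (.leaf 66283) (.leaf 137210))))))
def dFin_1845 : BT := .node (.node (.node (.node (.node (.node (.node (.leaf 5974) (.leaf 138795)) (.leaf 67140)) (.node (.leaf 115166) (.leaf 112404))) (.node (.node (.leaf 19346) (.leaf 85934)) (.node (.leaf 121125) (.leaf 124933)))) (.node (.node (.node (.leaf 46574) (.leaf 101492)) (.node (.leaf 53905) (.leaf 118263))) (.node (.node (.leaf 47655) (.leaf 114639)) (.node (.leaf 61638) (.leaf 131938))))) (.node (.node (.node (.node (.leaf 42743) (.leaf 104541)) (.node (.leaf 52763) (.leaf 115146))) (.node (.node (.leaf 24698) (.leaf 92480)) (.node (.leaf 60492) (.leaf 128155)))) (.node (.node (.node (.leaf 46481) (.leaf 95241)) (.node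 (.leaf 55048) (.leaf 121539))) (.node (.node (.leaf 49747) (.leaf 110027)) (.node (.leaf 65391) (.leaf 135837)))))) (.node (.node (.node (.node (.node (.node (.leaf 8674) (.leaf 139836)) (.leaf 68522)) (.node (.leaf 52619) (.leaf 113635))) (.node (.node (.leaf 107954) (.leaf 89058)) (.node (.leaf 58004) (.leaf 126363)))) (.node (.node (.node (.leaf 40891) (.leaf 102924)) (.node (.leaf 54511) (.leaf 119685))) (.node (.node (.leaf 48751) (.leaf 108727)) (.node (.leaf 63857) (.leaf 133764))))) (.node (.node (.node (.node (.leaf 10816) (.leaf 71126)) (.node (.leaf 102489) (.leaf 133268))) (.node (.node (.leaf 26024) (.leaf 93746)) (.node (.leaf 60405) (.leaf 129437)))) (.node (.node (.node (.leaf 37405) (.leaf 99588)) (.node (.leaf 107047) (.leaf 123223))) (.node (.node (.leaf 99858) (.leaf 111220)) (.node (.leaf 94594) (.leaf 137346))))))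
def dFin_1855 : BT := .node (.node (.node (.node (.node (.node (.node (.leaf 11793) (.leaf 138602)) (.leaf 67377)) (.node (.leaf 51161) (.leaf 129530))) (.node (.node (.leaf 45727) (.leaf 85505)) (.node (.leaf 56472) (.leaf 124665)))) (.node (.node (.node (.leaf 41582) (.leaf 73099)) (.node (.leaf 53875) (.leaf 128068))) (.node (.node (.leaf 47408) (.leaf 110087)) (.node (.leaf 103677) (.leaf 131517))))) (.node (.node (.node (.node (.node (.leaf 2528) (.leaf 140907)) (.leaf 69225)) (.node (.leaf 98233) (.leaf 114876))) (.node (.node (.leaf 24203) (.leaf 91365)) (.node (.leaf 58832) (.leaf 128044)))) (.node (.node (.node (.leaf 48879) (.leaf 121636)) (.node (.leaf 55034) (.leaf 121287))) (.node (.node (.leaf 50118) (.leaf 109908)) (.node (.leaf 112886) (.leaf 135506)))))) (.node (.node (.node (.node (.node (.node (.leaf 45652) (.leaf 139630)) (.leaf 86322)) (.node (.leaf 52016) (.leaf 113411))) (.node (.node (.leaf 42526) (.leaf 88361)) (.node (.leaf 57539) (.leaf 126325)))) (.node (.node (.node (.leaf 12944) (.leaf 76042)) (.node (.leaf 71245) (.leaf 125289)))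 (.node (.node (.leaf 48517) (.leaf 108515)) (.node (.leaf 103822) (.leaf 133260))))) (.node (.node (.node (.node (.leaf 10830) (.leaf 70284)) (.node (.leaf 53217) (.leaf 131425))) (.node (.node (.leaf 26021) (.leaf 93369)) (.node (.leaf 59856) (.leaf 137018)))) (.node (.node (.node (.leaf 48090) (.leaf 82668)) (.node (.leaf 134592) (.leaf 122601))) (.node (.node (.leaf 50591) (.leaf 110761)) (.node (.leaf 96696) (.leaf 137398))))))
def dFin_1862 : BT := .node (.node (.node (.node (.node (.node (.node (.leaf 1274) (.leaf 138700)) (.leaf 67250)) (.node (.leaf 56611) (.leaf 112237))) (.node (.node (.leaf 19316) (.leaf 85671)) (.node (.leaf 56147) (.leaf 124838)))) (.node (.node (.node (.leaf 56136) (.leaf 110122)) (.node (.leaf 77650) (.leaf 118086))) (.node (.node (.leaf 47545) (.leaf 107304)) (.node (.leaf 106520) (.leaf 131725))))) (.node (.node (.node (.node (.node (.leaf 41505) (.leaf 141047)) (.leaf 104213)) (.node (.leaf 52702) (.leaf 115056))) (.node (.node (.leaf 40614) (.leaf 106395)) (.node (.leaf 98453) (.leaf 135947)))) (.node (.node (.node (.leaf 47608)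 (.leaf 79153)) (.node (.leaf 55238) (.leaf 121421))) (.node (.node (.leaf 96962) (.leaf 116758)) (.node (.leaf 65312) (.leaf 135651)))))) (.node (.node (.node (.node (.node (.node (.leaf 8724) (.leaf 140250)) (.leaf 68269)) (.node (.leaf 52130) (.leaf 113581))) (.node (.node (.leaf 48152) (.leaf 101284)) (.node (.leaf 57975) (.leaf 126763)))) (.node (.node (.node (.leaf 97286) (.leaf 76400)) (.node (.leaf 106568) (.leaf 119772))) (.node (.node (.leaf 48716) (.leaf 108768)) (.node (.leaf 63686) (.leaf 133874))))) (.node (.node (.node (.node (.leaf 8290) (.leaf 72458)) (.node (.leaf 119732) (.leaf 123292))) (.node (.node (.leaf 49928) (.leaf 93522)) (.node (.leaf 96890) (.leaf 129763)))) (.node (.node (.node (.leaf 42753) (.leaf 82847)) (.node (.leaf 55926) (.leaf 123110))) (.node (.node (.leaf 50824) (.leaf 111146)) (.node (.leaf 91854) (.leaf 137147))))))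
def dFin_1870 : BT := .node (.node (.node (.node (.node (.node (.node (.leaf 36573) (.leaf 138646)) (.leaf 99148)) (.node (.leaf 51448) (.leaf 112357))) (.node (.node (.leaf 44365) (.leaf 89062)) (.node (.leaf 56354) (.leaf 124746)))) (.node (.node (.node (.leaf 12148) (.leaf 93422)) (.node (.leaf 75566) (.leaf 118013))) (.node (.node (.leaf 47491) (.leaf 119490)) (.node (.leaf 61859) (.leaf 131194))))) (.node (.node (.node (.node (.node (.leaf 2591) (.leaf 140972)) (.leaf 69165)) (.node (.leaf 52750) (.leaf 115012))) (.node (.node (.leaf 45431) (.leaf 99481)) (.node (.leaf 58690) (.leaf 127497)))) (.node (.node (.node (.leaf 42612) (.leaf 79194)) (.node (.leaf 99375) (.leaf 121324))) (.node (.node (.leaf 49570) (.leaf 109831)) (.node (.leaf 104615) (.leaf 135563)))))) (.node (.node (.node (.node (.node (.node (.leaf 1344) (.leaf 140252)) (.leaf 68325)) (.node (.leaf 52174) (.leaf 113370))) (.node (.node (.leaf 23714) (.leaf 88224)) (.node (.leaf 57518) (.leaf 126809)))) (.node (.node (.node (.leaf 50631) (.leaf 126779)) (.node (.leaf 98632) (.leaf 119492))) (.node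 (.node (.leaf 50694) (.leaf 108585)) (.node (.leaf 115631) (.leaf 133556))))) (.node (.node (.node (.node (.leaf 41503) (.leaf 96284)) (.node (.leaf 53121) (.leaf 116649))) (.node (.node (.leaf 40663) (.leaf 114720)) (.node (.leaf 95368) (.leaf 129858)))) (.node (.node (.node (.leaf 17356) (.leaf 82612)) (.node (.leaf 55990) (.leaf 122902))) (.node (.node (.leaf 132145) (.leaf 111303)) (.node (.leaf 66210) (.leaf 137052))))))
def dFin_1877 : BT := .node (.node (.node (.node (.node (.node (.node (.leaf 45623) (.leaf 138743)) (.leaf 67157)) (.node (.leaf 51323) (.leaf 128225))) (.node (.node (.leaf 45316) (.leaf 101648)) (.node (.leaf 56747) (.leaf 133776)))) (.node (.node (.node (.leaf 50203) (.leaf 73344)) (.node (.leaf 124412) (.leaf 118245))) (.node (.node (.leaf 47622) (.leaf 107318)) (.node (.leaf 93865) (.leaf 132011))))) (.node (.node (.node (.node (.leaf 2640) (.leaf 104522)) (.node (.leaf 75775) (.leaf 115111))) (.node (.node (.leaf 24688) (.leaf 106784)) (.node (.leaf 59154) (.leaf 129816)))) (.node (.node (.node (.leaf 42689) (.leaf 82079)) (.node (.leaf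 55174) (.leaf 121510))) (.node (.node (.leaf 49692) (.leaf 110018)) (.node (.leaf 71272) (.leaf 135721)))))) (.node (.node (.node (.node (.node (.node (.leaf 36806) (.leaf 139819)) (.leaf 102354)) (.node (.leaf 52181) (.leaf 113623))) (.node (.node (.leaf 40564) (.leaf 103328)) (.node (.leaf 104186) (.leaf 126707)))) (.node (.node (.node (.leaf 13034) (.leaf 76291)) (.node (.leaf 54840) (.leaf 119726))) (.node (.node (.leaf 98179) (.leaf 108680)) (.node (.leaf 63871) (.leaf 133714))))) (.node (.node (.node (.node (.leaf 10827) (.leaf 100929)) (.node (.leaf 102595) (.leaf 116784))) (.node (.node (.leaf 46790) (.leaf 105627)) (.node (.leaf 101165) (.leaf 129899)))) (.node (.node (.node (.leaf 17364) (.leaf 83348)) (.node (.leaf 97789) (.leaf 123244))) (.node (.node (.leaf 50902) (.leaf 111074)) (.node (.leaf 66570) (.leaf 137335))))))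
def dFin_1886 : BT := .node (.node (.node (.node (.node (.node (.node (.leaf 12689) (.leaf 138574)) (.leaf 67319)) (.node (.leaf 51509) (.leaf 112104))) (.node (.node (.leaf 137102) (.leaf 87295)) (.node (.leaf 56421) (.leaf 124711)))) (.node (.node (.node (.leaf 40886) (.leaf 102397)) (.node (.leaf 95140) (.leaf 117787))) (.node (.node (.leaf 47444) (.leaf 107178)) (.node (.leaf 76538) (.leaf 131438))))) (.node (.node (.node (.node (.node (.leaf 2556) (.leaf 140966)) (.leaf 69194)) (.node (.leaf 60545) (.leaf 114919))) (.node (.node (.leaf 46414) (.leaf 91347)) (.node (.leaf 58751) (.leaf 128056)))) (.node (.node (.node (.leaf 47566) (.leaf 114830)) (.node (.leaf 133795) (.leaf 121221))) (.node (.node (.leaf 59780) (.leaf 109813)) (.node (.leaf 65142) (.leaf 135448)))))) (.node (.node (.node (.node (.node (.node (.leaf 36612) (.leaf 139808)) (.leaf 84652)) (.node (.leaf 52052) (.leaf 113406))) (.node (.node (.leaf 23652) (.leaf 88266)) (.node (.leaf 57529) (.leaf 126264)))) (.node (.node (.node (.leaf 12971) (.leaf 139096)) (.node (.leaf 54308) (.leaf 119366)))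 (.node (.node (.leaf 99642) (.leaf 108529)) (.node (.leaf 104241) (.leaf 133589))))) (.node (.node (.node (.node (.leaf 10778) (.leaf 101184)) (.node (.leaf 53168) (.leaf 129044))) (.node (.node (.leaf 41341) (.leaf 93416)) (.node (.leaf 59809) (.leaf 129870)))) (.node (.node (.node (.leaf 36299) (.leaf 82638)) (.node (.leaf 55768) (.leaf 133873))) (.node (.node (.leaf 50653) (.leaf 110692)) (.node (.leaf 66252) (.leaf 137098))))))
def dFin_1893 : BT := .node (.node (.node (.node (.node (.node (.node (.leaf 1113) (.leaf 138755)) (.leaf 67205)) (.node (.leaf 57525) (.leaf 128249))) (.node (.node (.leaf 45525) (.leaf 85654)) (.node (.leaf 56773) (.leaf 124881)))) (.node (.node (.node (.leaf 47933) (.leaf 99836)) (.node (.leaf 106405) (.leaf 118201))) (.node (.node (.leaf 55261) (.leaf 107349)) (.node (.leaf 132173) (.leaf 132034))))) (.node (.node (.node (.node (.node (.leaf 40837) (.leaf 141065)) (.leaf 69436)) (.node (.leaf 52676) (.leaf 115638))) (.node (.node (.leaf 24668) (.leaf 106776)) (.node (.leaf 97337) (.leaf 133605)))) (.node (.node (.node (.leaf 108485)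 (.leaf 79338)) (.node (.leaf 55207) (.leaf 121464))) (.node (.node (.leaf 49728) (.leaf 118334)) (.node (.leaf 65372) (.leaf 135782)))))) (.node (.node (.node (.node (.node (.node (.leaf 984) (.leaf 139878)) (.leaf 118090)) (.node (.leaf 52152) (.leaf 113537))) (.node (.node (.leaf 37712) (.leaf 88881)) (.node (.leaf 57946) (.leaf 128767)))) (.node (.node (.node (.leaf 13010) (.leaf 76359)) (.node (.leaf 54507) (.leaf 119725))) (.node (.node (.leaf 48668) (.leaf 108705)) (.node (.leaf 63538) (.leaf 135517))))) (.node (.node (.node (.node (.leaf 32955) (.leaf 107026)) (.node (.leaf 106201) (.leaf 136894))) (.node (.node (.leaf 25980) (.leaf 93527)) (.node (.leaf 98177) (.leaf 129512)))) (.node (.node (.node (.leaf 17373) (.leaf 83365)) (.node (.leaf 97776) (.leaf 123161))) (.node (.node (.leaf 50794) (.leaf 111107)) (.node (.leaf 73211) (.leaf 137234))))))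
def dFin_1901 : BT := .node (.node (.node (.node (.node (.node (.node (.leaf 35386) (.leaf 138676)) (.leaf 77388)) (.node (.leaf 51389) (.leaf 112296))) (.node (.node (.leaf 19304) (.leaf 85686)) (.node (.leaf 56660) (.leaf 124794)))) (.node (.node (.node (.leaf 44723) (.leaf 112005)) (.node (.leaf 98026) (.leaf 118071))) (.node (.node (.leaf 48357) (.leaf 134555)) (.node (.leaf 61907) (.leaf 131761))))) (.node (.node (.node (.node (.node (.leaf 2809) (.leaf 141030)) (.leaf 92073)) (.node (.leaf 52727) (.leaf 114989))) (.node (.node (.leaf 41233) (.leaf 111908)) (.node (.leaf 58628) (.leaf 127985)))) (.node (.node (.node (.leaf 46590) (.leaf 79175)) (.node (.leaf 102545) (.leaf 121369))) (.node (.node (.leaf 65182) (.leaf 109822)) (.node (.leaf 65280) (.leaf 135617)))))) (.node (.node (.node (.node (.node (.node (.leaf 1433) (.leaf 139877)) (.leaf 68302)) (.node (.leaf 59662) (.leaf 113528))) (.node (.node (.leaf 48800) (.leaf 88453)) (.node (.leaf 57318) (.leaf 126768)))) (.node (.node (.node (.leaf 14138) (.leaf 75886)) (.node (.leaf 128745) (.leaf 119562)))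 (.node (.node (.leaf 95152) (.leaf 108755)) (.node (.leaf 118973) (.leaf 133484))))) (.node (.node (.node (.node (.leaf 40824) (.leaf 96447)) (.node (.leaf 53083) (.leaf 116694))) (.node (.node (.leaf 25946) (.leaf 110170)) (.node (.leaf 96889) (.leaf 129788)))) (.node (.node (.node (.leaf 120432) (.leaf 82703)) (.node (.leaf 55959) (.leaf 123054))) (.node (.node (.leaf 50738) (.leaf 111253)) (.node (.leaf 66285) (.leaf 137152))))))
def dFin_1908 : BT := .node (.node (.node (.node (.node (.node (.node (.leaf 45624) (.leaf 138820)) (.leaf 95355)) (.node (.leaf 51262) (.leaf 125248))) (.node (.node (.leaf 41673) (.leaf 118268)) (.node (.leaf 56722) (.leaf 127078)))) (.node (.node (.node (.leaf 12232) (.leaf 73711)) (.node (.leaf 98878) (.leaf 118293))) (.node (.node (.leaf 47606) (.leaf 107460)) (.node (.leaf 61795) (.leaf 131958))))) (.node (.node (.node (.node (.leaf 2663) (.leaf 112082)) (.node (.leaf 52679) (.leaf 128849))) (.node (.node (.leaf 91786) (.leaf 106714)) (.node (.leaf 97892) (.leaf 128253)))) (.node (.node (.node (.leaf 14286) (.leaf 79522)) (.node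 (.leaf 105938) (.leaf 121550))) (.node (.node (.leaf 49754) (.leaf 110040)) (.node (.leaf 65447) (.leaf 135693)))))) (.node (.node (.node (.node (.node (.node (.leaf 37894) (.leaf 140812)) (.leaf 68422)) (.node (.leaf 97689) (.leaf 113647))) (.node (.node (.leaf 23788) (.leaf 88723)) (.node (.leaf 76467) (.leaf 126637)))) (.node (.node (.node (.leaf 108947) (.leaf 102934)) (.node (.leaf 54793) (.leaf 119669))) (.node (.node (.leaf 48730) (.leaf 109483)) (.node (.leaf 63836) (.leaf 133688))))) (.node (.node (.node (.node (.leaf 46295) (.leaf 71081)) (.node (.leaf 112548) (.leaf 116787))) (.node (.node (.leaf 52104) (.leaf 93845)) (.node (.leaf 97472) (.leaf 129448)))) (.node (.node (.node (.leaf 46724) (.leaf 83333)) (.node (.leaf 55891) (.leaf 135582))) (.node (.node (.leaf 50877) (.leaf 111044)) (.node (.leaf 66511) (.leaf 137367))))))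
def dFin_1919 : BT := .node (.node (.node (.node (.node (.node (.node (.leaf 34419) (.leaf 138590)) (.leaf 105681)) (.node (.leaf 51162) (.leaf 112054))) (.node (.node (.leaf 136064) (.leaf 127044)) (.node (.leaf 69799) (.leaf 124650)))) (.node (.node (.node (.leaf 12122) (.leaf 72764)) (.node (.leaf 82064) (.leaf 117856))) (.node (.node (.leaf 47396) (.leaf 95455)) (.node (.leaf 100733) (.leaf 131488))))) (.node (.node (.node (.node (.node (.leaf 2525) (.leaf 140886)) (.leaf 69290)) (.node (.leaf 109666) (.leaf 114903))) (.node (.node (.leaf 24182) (.leaf 91393)) (.node (.leaf 58945) (.leaf 128006)))) (.node (.node (.node (.leaf 41460) (.leaf 83818)) (.node (.leaf 55099) (.leaf 121270))) (.node (.node (.leaf 49511) (.leaf 109881)) (.node (.leaf 105055) (.leaf 135498)))))) (.node (.node (.node (.node (.node (.node (.leaf 302) (.leaf 139997)) (.leaf 67894)) (.node (.leaf 52012) (.leaf 113428))) (.node (.node (.leaf 46286) (.leaf 88316)) (.node (.leaf 102966) (.leaf 126441)))) (.node (.node (.node (.leaf 12941) (.leaf 75923)) (.node (.leaf 54403) (.leaf 122726)))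 (.node (.node (.leaf 48507) (.leaf 108429)) (.node (.leaf 63076) (.leaf 133252))))) (.node (.node (.node (.node (.leaf 46533) (.leaf 70673)) (.node (.leaf 53309) (.leaf 116573))) (.node (.node (.leaf 42348) (.leaf 93351)) (.node (.leaf 59977) (.leaf 129945)))) (.node (.node (.node (.leaf 17208) (.leaf 82770)) (.node (.leaf 82232) (.leaf 123028))) (.node (.node (.leaf 50628) (.leaf 123005)) (.node (.leaf 103354) (.leaf 137001))))))
def dFin_1926 : BT := .node (.node (.node (.node (.node (.node (.node (.leaf 37889) (.leaf 138690)) (.leaf 67345)) (.node (.leaf 51169) (.leaf 118978))) (.node (.node (.leaf 19311) (.leaf 85708)) (.node (.leaf 56138) (.leaf 124819)))) (.node (.node (.node (.leaf 41585) (.leaf 100035)) (.node (.leaf 53864) (.leaf 118101))) (.node (.node (.leaf 47540) (.leaf 107241)) (.node (.leaf 102517) (.leaf 131787))))) (.node (.node (.node (.node (.node (.leaf 2610) (.leaf 141039)) (.leaf 69635)) (.node (.leaf 59344) (.leaf 115000))) (.node (.node (.leaf 24650) (.leaf 92290)) (.node (.leaf 59336) (.leaf 130230)))) (.node (.node (.node (.leaf 114708)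 (.leaf 105711)) (.node (.leaf 68568) (.leaf 121406))) (.node (.node (.leaf 97187) (.leaf 136439)) (.node (.leaf 93330) (.leaf 135647)))))) (.node (.node (.node (.node (.node (.node (.leaf 51005) (.leaf 139764)) (.leaf 94196)) (.node (.leaf 52116) (.leaf 113523))) (.node (.node (.leaf 42028) (.leaf 88601)) (.node (.leaf 58036) (.leaf 126317)))) (.node (.node (.node (.leaf 12998) (.leaf 104106)) (.node (.leaf 96151) (.leaf 119766))) (.node (.node (.leaf 48641) (.leaf 108780)) (.node (.leaf 63147) (.leaf 133611))))) (.node (.node (.node (.node (.leaf 36752) (.leaf 70874)) (.node (.leaf 53209) (.leaf 121518))) (.node (.node (.leaf 46392) (.leaf 101042)) (.node (.leaf 60388) (.leaf 129746)))) (.node (.node (.node (.leaf 46792) (.leaf 82830)) (.node (.leaf 118383) (.leaf 123095))) (.node (.node (.leaf 50762) (.leaf 111206)) (.node (.leaf 66300) (.leaf 137186))))))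
def dFin_1934 : BT := .node (.node (.node (.node (.node (.node (.node (.leaf 142) (.leaf 138637)) (.leaf 99144)) (.node (.leaf 139209) (.leaf 112473))) (.node (.node (.leaf 19285) (.leaf 85786)) (.node (.leaf 129097) (.leaf 124734)))) (.node (.node (.node (.leaf 12156) (.leaf 72635)) (.node (.leaf 53960) (.leaf 118001))) (.node (.node (.leaf 47479) (.leaf 113456)) (.node (.leaf 61402) (.leaf 131231))))) (.node (.node (.node (.node (.node (.leaf 37327) (.leaf 140952)) (.leaf 98833)) (.node (.leaf 52794) (.leaf 114942))) (.node (.node (.leaf 36486) (.leaf 121650)) (.node (.leaf 58820) (.leaf 127654)))) (.node (.node (.node (.leaf 14156) (.leaf 106665)) (.node (.leaf 99368) (.leaf 121303))) (.node (.node (.leaf 49569) (.leaf 109870)) (.node (.leaf 65179) (.leaf 135571)))))) (.node (.node (.node (.node (.node (.node (.leaf 34364) (.leaf 139694)) (.leaf 68365)) (.node (.leaf 52073) (.leaf 113816))) (.node (.node (.leaf 46079) (.leaf 88214)) (.node (.leaf 57506) (.leaf 126826)))) (.node (.node (.node (.leaf 41411) (.leaf 101919)) (.node (.leaf 54343) (.leaf 119480)))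 (.node (.node (.leaf 48544) (.leaf 108562)) (.node (.leaf 104159) (.leaf 135387))))) (.node (.node (.node (.node (.leaf 8188) (.leaf 70395)) (.node (.leaf 100730) (.leaf 116636))) (.node (.node (.leaf 25930) (.leaf 93434)) (.node (.leaf 59797) (.leaf 131487)))) (.node (.node (.node (.leaf 120261) (.leaf 139822)) (.node (.leaf 67634) (.leaf 122543))) (.node (.node (.leaf 50697) (.leaf 111017)) (.node (.leaf 106380) (.leaf 137042))))))
def dFin_1941 : BT := .node (.node (.node (.node (.node (.node (.node (.leaf 36869) (.leaf 138769)) (.leaf 75381)) (.node (.leaf 51439) (.leaf 112349))) (.node (.node (.leaf 42235) (.leaf 89238)) (.node (.leaf 56798) (.leaf 124912)))) (.node (.node (.node (.leaf 12226) (.leaf 105651)) (.node (.leaf 98770) (.leaf 118239))) (.node (.node (.leaf 47616) (.leaf 113601)) (.node (.leaf 61585) (.leaf 134941))))) (.node (.node (.node (.node (.leaf 2774) (.leaf 69539)) (.node (.leaf 52742) (.leaf 115112))) (.node (.node (.leaf 45986) (.leaf 113280)) (.node (.leaf 59219) (.leaf 135944)))) (.node (.node (.node (.leaf 14268) (.leaf 79656)) (.node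 (.leaf 106010) (.leaf 121494))) (.node (.node (.leaf 49670) (.leaf 110006)) (.node (.leaf 65333) (.leaf 136400)))))) (.node (.node (.node (.node (.node (.node (.leaf 1222) (.leaf 139804)) (.leaf 68507)) (.node (.leaf 52188) (.leaf 113568))) (.node (.node (.leaf 23774) (.leaf 88763)) (.node (.leaf 99983) (.leaf 126694)))) (.node (.node (.node (.leaf 106771) (.leaf 100856)) (.node (.leaf 68226) (.leaf 119740))) (.node (.node (.leaf 48705) (.leaf 108629)) (.node (.leaf 113194) (.leaf 133801))))) (.node (.node (.node (.node (.leaf 41507) (.leaf 123048)) (.node (.leaf 53113) (.leaf 136687))) (.node (.node (.leaf 41190) (.leaf 93583)) (.node (.leaf 101152) (.leaf 129623)))) (.node (.node (.node (.leaf 44664) (.leaf 83397)) (.node (.leaf 55982) (.leaf 123197))) (.node (.node (.leaf 137688) (.leaf 111333)) (.node (.leaf 66686) (.leaf 137274))))))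
def dFin_1950 : BT := .node (.node (.node (.node (.node (.node (.node (.leaf 45445) (.leaf 138570)) (.leaf 106847)) (.node (.leaf 100906) (.leaf 112088))) (.node (.node (.leaf 19264) (.leaf 99266)) (.node (.leaf 106649) (.leaf 124697)))) (.node (.node (.node (.leaf 12153) (.leaf 72702)) (.node (.leaf 95170) (.leaf 133081))) (.node (.node (.leaf 47435) (.leaf 107174)) (.node (.leaf 61448) (.leaf 135084))))) (.node (.node (.node (.node (.node (.leaf 8400) (.leaf 140916)) (.leaf 69250)) (.node (.leaf 52819) (.leaf 114908))) (.node (.node (.leaf 118768) (.leaf 114044)) (.node (.leaf 58836) (.leaf 127710)))) (.node (.node (.node (.leaf 40716) (.leaf 79023)) (.node (.leaf 99316) (.leaf 121261))) (.node (.node (.leaf 49506) (.leaf 135592)) (.node (.leaf 65138) (.leaf 135457)))))) (.node (.node (.node (.node (.node (.node (.leaf 9714) (.leaf 139664)) (.leaf 68386)) (.node (.leaf 52041) (.leaf 113394))) (.node (.node (.leaf 23842) (.leaf 88303)) (.node (.leaf 114891) (.leaf 126825)))) (.node (.node (.node (.leaf 44675) (.leaf 75875)) (.node (.leaf 54372) (.leaf 119365)))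 (.node (.node (.leaf 48553) (.leaf 108521)) (.node (.leaf 63027) (.leaf 133579))))) (.node (.node (.node (.node (.leaf 42404) (.leaf 71589)) (.node (.leaf 53260) (.leaf 116606))) (.node (.node (.leaf 25916) (.leaf 93392)) (.node (.leaf 59960) (.leaf 129930)))) (.node (.node (.node (.leaf 17303) (.leaf 105219)) (.node (.leaf 55996) (.leaf 128944))) (.node (.node (.leaf 50688) (.leaf 133652)) (.node (.leaf 96262) (.leaf 137087))))))
def dFin_1957 : BT := .node (.node (.node (.node (.node (.node (.node (.leaf 36889) (.leaf 138716)) (.leaf 67300)) (.node (.leaf 51501) (.leaf 125373))) (.node (.node (.leaf 132564) (.leaf 87168)) (.node (.leaf 56822) (.leaf 124866)))) (.node (.node (.node (.leaf 41144) (.leaf 99937)) (.node (.leaf 99041) (.leaf 118193))) (.node (.node (.leaf 47585) (.leaf 107742)) (.node (.leaf 85584) (.leaf 132028))))) (.node (.node (.node (.node (.node (.leaf 2624) (.leaf 141073)) (.leaf 69586)) (.node (.leaf 95789) (.leaf 115051))) (.node (.node (.leaf 46786) (.leaf 92335)) (.node (.leaf 59246) (.leaf 129787)))) (.node (.node (.node (.leaf 47420)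 (.leaf 104910)) (.node (.leaf 117927) (.leaf 121452))) (.node (.node (.leaf 100084) (.leaf 109978)) (.node (.leaf 65375) (.leaf 135778)))))) (.node (.node (.node (.node (.node (.node (.leaf 35570) (.leaf 140260)) (.leaf 84436)) (.node (.leaf 52144) (.leaf 113573))) (.node (.node (.leaf 23760) (.leaf 88482)) (.node (.leaf 58130) (.leaf 126255)))) (.node (.node (.node (.leaf 13421) (.leaf 111314)) (.node (.leaf 54508) (.leaf 119671))) (.node (.node (.leaf 48677) (.leaf 108694)) (.node (.leaf 76666) (.leaf 133826))))) (.node (.node (.node (.node (.leaf 10781) (.leaf 114960)) (.node (.leaf 53160) (.leaf 123294))) (.node (.node (.leaf 41351) (.leaf 93515)) (.node (.leaf 60365) (.leaf 129527)))) (.node (.node (.node (.leaf 17350) (.leaf 83408)) (.node (.leaf 95284) (.leaf 123151))) (.node (.node (.leaf 50773) (.leaf 111167)) (.node (.leaf 66747) (.leaf 137314))))))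
def dFin_1965 : BT := .node (.node (.node (.node (.node (.node (.node (.leaf 36701) (.leaf 138857)) (.leaf 67388)) (.node (.leaf 103016) (.leaf 112412))) (.node (.node (.leaf 19293) (.leaf 85749)) (.node (.leaf 104389) (.leaf 124781)))) (.node (.node (.node (.leaf 12200) (.leaf 100436)) (.node (.leaf 53913) (.leaf 118042))) (.node (.node (.leaf 47506) (.leaf 107798)) (.node (.leaf 61653) (.leaf 131754))))) (.node (.node (.node (.node (.node (.leaf 35352) (.leaf 141020)) (.leaf 98864)) (.node (.leaf 52771) (.leaf 115030))) (.node (.node (.leaf 24638) (.leaf 92242)) (.node (.leaf 59790) (.leaf 127535)))) (.node (.node (.node (.leaf 39038) (.leaf 106429)) (.node (.leaf 104998) (.leaf 121346))) (.node (.node (.leaf 49657) (.leaf 138750)) (.node (.leaf 120277) (.leaf 135600)))))) (.node (.node (.node (.node (.node (.node (.leaf 35682) (.leaf 139730)) (.leaf 68342)) (.node (.leaf 52078) (.leaf 113479))) (.node (.node (.leaf 46535) (.leaf 108856)) (.node (.leaf 57306) (.leaf 126376)))) (.node (.node (.node (.leaf 40711) (.leaf 75885)) (.node (.leaf 98128) (.leaf 119552)))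 (.node (.node (.leaf 48607) (.leaf 121400)) (.node (.leaf 63505) (.leaf 133495))))) (.node (.node (.node (.node (.leaf 8248) (.leaf 70919)) (.node (.leaf 100883) (.leaf 116677))) (.node (.node (.leaf 50496) (.leaf 93474)) (.node (.leaf 60413) (.leaf 130405)))) (.node (.node (.node (.leaf 46805) (.leaf 107132)) (.node (.leaf 105483) (.leaf 123044))) (.node (.node (.leaf 50735) (.leaf 111240)) (.node (.leaf 72532) (.leaf 137220))))))
def dFin_1972 : BT := .node (.node (.node (.node (.node (.node (.node (.leaf 35868) (.leaf 138868)) (.leaf 77072)) (.node (.leaf 51378) (.leaf 112288))) (.node (.node (.leaf 19352) (.leaf 85940)) (.node (.leaf 58089) (.leaf 124945)))) (.node (.node (.node (.leaf 12239) (.leaf 106603)) (.node (.leaf 53803) (.leaf 118285))) (.node (.node (.leaf 110163) (.leaf 107452)) (.node (.leaf 79223) (.leaf 131947))))) (.node (.node (.node (.node (.leaf 2670) (.leaf 93969)) (.node (.leaf 52719) (.leaf 115168))) (.node (.node (.leaf 41307) (.leaf 106712)) (.node (.leaf 59193) (.leaf 131820)))) (.node (.node (.node (.leaf 14281) (.leaf 79610)) (.node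 (.leaf 106206) (.leaf 121543))) (.node (.node (.leaf 49740) (.leaf 110034)) (.node (.leaf 65380) (.leaf 135846)))))) (.node (.node (.node (.node (.node (.node (.leaf 1404) (.leaf 139887)) (.leaf 68486)) (.node (.leaf 97552) (.leaf 113658))) (.node (.node (.leaf 46328) (.leaf 88745)) (.node (.leaf 57977) (.leaf 130588)))) (.node (.node (.node (.leaf 13486) (.leaf 102932)) (.node (.leaf 105186) (.leaf 119621))) (.node (.node (.leaf 56646) (.leaf 108728)) (.node (.leaf 101436) (.leaf 133752))))) (.node (.node (.node (.node (.leaf 40810) (.leaf 96270)) (.node (.leaf 102362) (.leaf 116803))) (.node (.node (.leaf 26013) (.leaf 105648)) (.node (.leaf 97587) (.leaf 129443)))) (.node (.node (.node (.leaf 97366) (.leaf 99590)) (.node (.leaf 55951) (.leaf 123239))) (.node (.node (.leaf 50864) (.leaf 111357)) (.node (.leaf 66627) (.leaf 137358))))))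
def dFin_1982 : BT := .node (.node (.node (.node (.node (.node (.node (.leaf 1282) (.leaf 138578)) (.leaf 67282)) (.node (.leaf 56603) (.leaf 112070))) (.node (.node (.leaf 19256) (.leaf 85457)) (.node (.leaf 56521) (.leaf 124716)))) (.node (.node (.node (.leaf 51563) (.leaf 105363)) (.node (.leaf 95064) (.leaf 117809))) (.node (.node (.leaf 47423) (.leaf 136502)) (.node (.leaf 139480) (.leaf 131490))))) (.node (.node (.node (.node (.node (.leaf 41550) (.leaf 140897)) (.leaf 114482)) (.node (.leaf 52710) (.leaf 114843))) (.node (.node (.leaf 40590) (.leaf 106790)) (.node (.leaf 101205) (.leaf 129749)))) (.node (.node (.node (.leaf 14133) (.leaf 79162)) (.node (.leaf 55246) (.leaf 121418))) (.node (.node (.leaf 104321) (.leaf 109928)) (.node (.leaf 64876) (.leaf 135520)))))) (.node (.node (.node (.node (.node (.node (.leaf 45793) (.leaf 139636)) (.leaf 67910)) (.node (.leaf 52020) (.leaf 113392))) (.node (.node (.leaf 23989) (.leaf 115116)) (.node (.leaf 57392) (.leaf 126148)))) (.node (.node (.node (.leaf 57300) (.leaf 75997)) (.node (.leaf 128138) (.leaf 119431)))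 (.node (.node (.leaf 48518) (.leaf 108430)) (.node (.leaf 103851) (.leaf 134723))))) (.node (.node (.node (.node (.leaf 8162) (.leaf 70660)) (.node (.leaf 103928) (.leaf 116585))) (.node (.node (.leaf 25912) (.leaf 93373)) (.node (.leaf 59769) (.leaf 129469)))) (.node (.node (.node (.leaf 42330) (.leaf 82776)) (.node (.leaf 55650) (.leaf 122554))) (.node (.node (.leaf 50604) (.leaf 110645)) (.node (.leaf 98557) (.leaf 137014))))))
def dFin_1989 : BT := .node (.node (.node (.node (.node (.node (.node (.leaf 37040) (.leaf 138699)) (.leaf 85807)) (.node (.leaf 51212) (.leaf 120403))) (.node (.node (.leaf 40970) (.leaf 85637)) (.node (.leaf 92084) (.leaf 124849)))) (.node (.node (.node (.leaf 39068) (.leaf 73439)) (.node (.leaf 54093) (.leaf 118113))) (.node (.node (.leaf 102942) (.leaf 113514)) (.node (.leaf 61779) (.leaf 131741))))) (.node (.node (.node (.node (.node (.leaf 36939) (.leaf 141054)) (.leaf 120070)) (.node (.leaf 79932) (.leaf 115097))) (.node (.node (.leaf 48486) (.leaf 92387)) (.node (.leaf 99298) (.leaf 128275)))) (.node (.node (.node (.leaf 14236)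 (.leaf 79090)) (.node (.leaf 102377) (.leaf 121441))) (.node (.node (.leaf 49635) (.leaf 109958)) (.node (.leaf 65324) (.leaf 135758)))))) (.node (.node (.node (.node (.node (.node (.leaf 768) (.leaf 139776)) (.leaf 90038)) (.node (.leaf 52137) (.leaf 113596))) (.node (.node (.leaf 24834) (.leaf 114683)) (.node (.leaf 104096) (.leaf 126158)))) (.node (.node (.node (.leaf 42159) (.leaf 76602)) (.node (.leaf 54420) (.leaf 119782))) (.node (.node (.leaf 48650) (.leaf 108670)) (.node (.leaf 63170) (.leaf 133681))))) (.node (.node (.node (.node (.leaf 38398) (.leaf 71199)) (.node (.leaf 102834) (.leaf 116715))) (.node (.node (.leaf 46383) (.leaf 93551)) (.node (.leaf 98655) (.leaf 129756)))) (.node (.node (.node (.leaf 47284) (.leaf 101035)) (.node (.leaf 55866) (.leaf 123131))) (.node (.node (.leaf 50815) (.leaf 132535)) (.node (.leaf 66318) (.leaf 137286))))))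
def dFin_1997 : BT := .node (.node (.node (.node (.node (.node (.node (.leaf 39138) (.leaf 138704)) (.leaf 67166)) (.node (.leaf 51332) (.leaf 112544))) (.node (.node (.leaf 45286) (.leaf 85634)) (.node (.leaf 56217) (.leaf 124756)))) (.node (.node (.node (.leaf 12170) (.leaf 72818)) (.node (.leaf 137378) (.leaf 118004))) (.node (.node (.leaf 47493) (.leaf 107214)) (.node (.leaf 61572) (.leaf 131213))))) (.node (.node (.node (.node (.node (.leaf 2592) (.leaf 140978)) (.leaf 71211)) (.node (.leaf 97532) (.leaf 115037))) (.node (.node (.leaf 24690) (.leaf 106497)) (.node (.leaf 58606) (.leaf 127498)))) (.node (.node (.node (.leaf 42371) (.leaf 79238)) (.node (.leaf 55182) (.leaf 121336))) (.node (.node (.leaf 49584) (.leaf 109853)) (.node (.leaf 65205) (.leaf 135579)))))) (.node (.node (.node (.node (.node (.node (.leaf 36678) (.leaf 139709)) (.leaf 104221)) (.node (.leaf 52094) (.leaf 113447))) (.node (.node (.leaf 40525) (.leaf 105241)) (.node (.leaf 57501) (.leaf 126804)))) (.node (.node (.node (.leaf 13514) (.leaf 75962)) (.node (.leaf 54480) (.leaf 119503)))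 (.node (.node (.leaf 122268) (.leaf 119626)) (.node (.leaf 63257) (.leaf 133566))))) (.node (.node (.node (.node (.leaf 32924) (.leaf 106556)) (.node (.leaf 100836) (.leaf 116658))) (.node (.node (.leaf 50224) (.leaf 124708)) (.node (.leaf 106390) (.leaf 129697)))) (.node (.node (.node (.leaf 17320) (.leaf 82541)) (.node (.leaf 62874) (.leaf 123041))) (.node (.node (.leaf 50711) (.leaf 111093)) (.node (.leaf 66185) (.leaf 137240))))))
def dFin_2004 : BT := .node (.node (.node (.node (.node (.node (.node (.leaf 564) (.leaf 138756)) (.leaf 67149)) (.node (.leaf 51556) (.leaf 140754))) (.node (.node (.leaf 45714) (.leaf 106343)) (.node (.leaf 56671) (.leaf 124921)))) (.node (.node (.node (.leaf 42088) (.leaf 74632)) (.node (.leaf 53997) (.leaf 118254))) (.node (.node (.leaf 47660) (.leaf 107328)) (.node (.leaf 61919) (.leaf 131847))))) (.node (.node (.node (.node (.leaf 8414) (.leaf 69770)) (.node (.leaf 137564) (.leaf 115134))) (.node (.node (.leaf 25294) (.leaf 92524)) (.node (.leaf 97957) (.leaf 131769)))) (.node (.node (.node (.leaf 14298) (.leaf 95239)) (.node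 (.leaf 55114) (.leaf 121531))) (.node (.node (.leaf 49704) (.leaf 125680)) (.node (.leaf 65351) (.leaf 138358)))))) (.node (.node (.node (.node (.node (.node (.leaf 37031) (.leaf 139832)) (.leaf 111377)) (.node (.leaf 52636) (.leaf 113610))) (.node (.node (.leaf 23780) (.leaf 102069)) (.node (.leaf 122289) (.leaf 126479)))) (.node (.node (.node (.leaf 13044) (.leaf 76198)) (.node (.leaf 104236) (.leaf 119619))) (.node (.node (.leaf 48772) (.leaf 108644)) (.node (.leaf 63794) (.leaf 133751))))) (.node (.node (.node (.node (.leaf 34341) (.leaf 71166)) (.node (.leaf 53340) (.leaf 116887))) (.node (.node (.leaf 36967) (.leaf 105630)) (.node (.leaf 60454) (.leaf 129585)))) (.node (.node (.node (.leaf 40687) (.leaf 99755)) (.node (.leaf 107594) (.leaf 123217))) (.node (.node (.leaf 50885) (.leaf 119249)) (.node (.leaf 66792) (.leaf 137341))))))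
def dFin_2013 : BT := .node (.node (.node (.node (.node (.node (.node (.leaf 1125) (.leaf 138625)) (.leaf 67222)) (.node (.leaf 57691) (.leaf 112108))) (.node (.node (.leaf 45339) (.leaf 85665)) (.node (.leaf 56279) (.leaf 128132)))) (.node (.node (.node (.leaf 12141) (.leaf 72606)) (.node (.leaf 95148) (.leaf 117767))) (.node (.node (.leaf 99599) (.leaf 107190)) (.node (.leaf 105309) (.leaf 131447))))) (.node (.node (.node (.node (.node (.leaf 38070) (.leaf 140926)) (.leaf 69130)) (.node (.leaf 97406) (.leaf 114948))) (.node (.node (.leaf 24198) (.leaf 92249)) (.node (.leaf 58814) (.leaf 128048)))) (.node (.node (.node (.leaf 37945) (.leaf 79251)) (.node (.leaf 55215) (.leaf 121233))) (.node (.node (.leaf 49546) (.leaf 116073)) (.node (.leaf 65120) (.leaf 135466)))))) (.node (.node (.node (.node (.node (.node (.leaf 9655) (.leaf 139667)) (.leaf 103754)) (.node (.leaf 52062) (.leaf 113385))) (.node (.node (.leaf 41216) (.leaf 88211)) (.node (.leaf 57333) (.leaf 128827)))) (.node (.node (.node (.leaf 12972) (.leaf 75982)) (.node (.leaf 98144) (.leaf 122473))) (.node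 (.node (.leaf 48525) (.leaf 108544)) (.node (.leaf 63298) (.leaf 135412))))) (.node (.node (.node (.node (.leaf 10804) (.leaf 70479)) (.node (.leaf 53080) (.leaf 116614))) (.node (.node (.leaf 26000) (.leaf 93425)) (.node (.leaf 59779) (.leaf 129733)))) (.node (.node (.node (.leaf 17306) (.leaf 82571)) (.node (.leaf 65092) (.leaf 122563))) (.node (.node (.leaf 50672) (.leaf 110576)) (.node (.leaf 71231) (.leaf 137021))))))
def dFin_2020 : BT := .node (.node (.node (.node (.node (.node (.node (.leaf 35755) (.leaf 139505)) (.leaf 103142)) (.node (.leaf 106304) (.leaf 112572))) (.node (.node (.leaf 19330) (.leaf 97240)) (.node (.leaf 100428) (.leaf 124887)))) (.node (.node (.node (.leaf 100032) (.leaf 73468)) (.node (.leaf 54044) (.leaf 118217))) (.node (.node (.leaf 47568) (.leaf 114347)) (.node (.leaf 61743) (.leaf 131865))))) (.node (.node (.node (.node (.node (.leaf 2630) (.leaf 141096)) (.leaf 104418)) (.node (.leaf 100221) (.leaf 115066))) (.node (.node (.leaf 110228) (.leaf 92550)) (.node (.leaf 101178) (.leaf 128266)))) (.node (.node (.node (.leaf 14259) (.leaf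 79063)) (.node (.leaf 55147) (.leaf 121487))) (.node (.node (.leaf 49722) (.leaf 110003)) (.node (.leaf 65358) (.leaf 135793)))))) (.node (.node (.node (.node (.node (.node (.leaf 4942) (.leaf 139855)) (.leaf 124230)) (.node (.leaf 64730) (.leaf 113538))) (.node (.node (.leaf 44832) (.leaf 101964)) (.node (.leaf 73564) (.leaf 126542)))) (.node (.node (.node (.leaf 13020) (.leaf 76268)) (.node (.leaf 54850) (.leaf 119722))) (.node (.node (.leaf 48686) (.leaf 108657)) (.node (.leaf 63551) (.leaf 133780))))) (.node (.node (.node (.node (.leaf 10790) (.leaf 71184)) (.node (.leaf 53087) (.leaf 116761))) (.node (.node (.leaf 25979) (.leaf 93534)) (.node (.leaf 60475) (.leaf 129541)))) (.node (.node (.node (.leaf 41373) (.leaf 101077)) (.node (.leaf 55835) (.leaf 123179))) (.node (.node (.leaf 50806) (.leaf 111328)) (.node (.leaf 99625) (.leaf 137253))))))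
def dFin_2028 : BT := .node (.node (.node (.node (.node (.node (.node (.leaf 36713) (.leaf 138783)) (.leaf 102122)) (.node (.leaf 51273) (.leaf 112111))) (.node (.node (.leaf 41664) (.leaf 85799)) (.node (.leaf 56155) (.leaf 124801)))) (.node (.node (.node (.leaf 12882) (.leaf 73452)) (.node (.leaf 107804) (.leaf 118067))) (.node (.node (.leaf 47514) (.leaf 107278)) (.node (.leaf 61808) (.leaf 131774))))) (.node (.node (.node (.node (.node (.leaf 10806) (.leaf 141011)) (.leaf 103391)) (.node (.leaf 97730) (.leaf 114977))) (.node (.node (.leaf 24676) (.leaf 113684)) (.node (.leaf 99163) (.leaf 127514)))) (.node (.node (.node (.leaf 14210) (.leaf 79116)) (.node (.leaf 83822) (.leaf 121384))) (.node (.node (.leaf 49663) (.leaf 109891)) (.node (.leaf 65293) (.leaf 135660)))))) (.node (.node (.node (.node (.node (.node (.leaf 35691) (.leaf 139755)) (.leaf 94186)) (.node (.leaf 52111) (.leaf 113505))) (.node (.node (.leaf 23728) (.leaf 88596)) (.node (.leaf 101334) (.leaf 126780)))) (.node (.node (.node (.leaf 121713) (.leaf 77916)) (.node (.leaf 54451) (.leaf 119566)))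 (.node (.node (.leaf 48586) (.leaf 109449)) (.node (.leaf 63191) (.leaf 133504))))) (.node (.node (.node (.node (.leaf 8277) (.leaf 98993)) (.node (.leaf 139274) (.leaf 116680))) (.node (.node (.leaf 46645) (.leaf 93486)) (.node (.leaf 106157) (.leaf 129658)))) (.node (.node (.node (.leaf 44694) (.leaf 82512)) (.node (.leaf 55899) (.leaf 123092))) (.node (.node (.leaf 50751) (.leaf 117435)) (.node (.leaf 66291) (.leaf 137164))))))
def dFin_2035 : BT := .node (.node (.node (.node (.node (.node (.node (.leaf 44968) (.leaf 138804)) (.leaf 106100)) (.node (.leaf 56336) (.leaf 112595))) (.node (.node (.leaf 135982) (.leaf 103412)) (.node (.leaf 99726) (.leaf 125156)))) (.node (.node (.node (.leaf 12240) (.leaf 73667)) (.node (.leaf 98715) (.leaf 118300))) (.node (.node (.leaf 47634) (.leaf 107465)) (.node (.leaf 63955) (.leaf 131811))))) (.node (.node (.node (.node (.leaf 8441) (.leaf 69713)) (.node (.leaf 52680) (.leaf 115179))) (.node (.node (.leaf 24705) (.leaf 92505)) (.node (.leaf 59305) (.leaf 130199)))) (.node (.node (.node (.leaf 41433) (.leaf 98248)) (.node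 (.leaf 55083) (.leaf 130904))) (.node (.node (.leaf 49758) (.leaf 114200)) (.node (.leaf 65441) (.leaf 135852)))))) (.node (.node (.node (.node (.node (.node (.leaf 916) (.leaf 140411)) (.leaf 68421)) (.node (.leaf 59116) (.leaf 113664))) (.node (.node (.leaf 24800) (.leaf 88716)) (.node (.leaf 105352) (.leaf 126401)))) (.node (.node (.node (.leaf 13621) (.leaf 76152)) (.node (.leaf 54701) (.leaf 119811))) (.node (.node (.leaf 48743) (.leaf 108785)) (.node (.leaf 63765) (.leaf 133735))))) (.node (.node (.node (.node (.leaf 10898) (.leaf 71204)) (.node (.leaf 53293) (.leaf 116793))) (.node (.node (.leaf 42422) (.leaf 105635)) (.node (.leaf 60432) (.leaf 129462)))) (.node (.node (.node (.leaf 17382) (.leaf 84507)) (.node (.leaf 103163) (.leaf 123290))) (.node (.node (.leaf 50964) (.leaf 111373)) (.node (.leaf 103697) (.leaf 137393))))))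
end Cfsg.Agent.Lib.Helper66.G23Up
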