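import Cfsg.Agent.Lib.Helper66.TCE

set_option autoImplicit false
set_option maxRecDepth 100000
namespace Cfsg.Agent.Lib.Helper66.G23Up
open Cfsg.Agent.Lib.Helper66.TCE
def dF_4 : BT := .node (.node (.node (.node (.node (.node (.node (.leaf 96636787335) (.leaf 4264903541770)) (.leaf 2856153932815)) (.node (.leaf 144418303767) (.leaf 3042984930071))) (.node (.node (.leaf 1189169353345) (.leaf 3224984349975)) (.node (.leaf 2372433112323) (.leaf 3857418422425)))) (.node (.node (.node (.node (.leaf 501437443718) (.leaf 4444755340177)) (.leaf 3091303448338)) (.node (.leaf 1960116167055) (.leaf 3637838103819))) (.node (.node (.leaf 2029909400329) (.leaf 2030446372748)) (.node (.leaf 2623688772498) (.leaf 4031901517057))))) (.node (.node (.node (.node (.node (.leaf 387084019859) (.leaf 4376035847058)) (.leaf 2990371692818)) (.node (.leaf 159450698905) (.leaf 2459406217856))) (.node (.node (.leaf 1642825382417) (.leaf 3400541167379)) (.node (.leaf 2503966530576) (.leaf 3958887035028)))) (.node (.node (.node (.leaf 220117258122) (.leaf 3189550848768)) (.node (.leaf 1772211076873)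 (.leaf 3750044214541))) (.node (.node (.leaf 221727760281) (.leaf 2821257337367)) (.node (.leaf 2346126541577) (.leaf 4162898044189)))))) (.node (.node (.node (.node (.node (.node (.leaf 246960678528) (.leaf 4330401808668)) (.leaf 2931315878529)) (.node (.leaf 29527907225) (.leaf 2633352600066))) (.node (.node (.leaf 1377611089034) (.leaf 3335042900498)) (.node (.leaf 2432025811227) (.leaf 3907347429130)))) (.node (.node (.node (.leaf 623844002436) (.leaf 3133179389457)) (.node (.leaf 1322313414676) (.leaf 3699041140739))) (.node (.node (.leaf 24696146459) (.leaf 3582003578897)) (.node (.leaf 2683281458053) (.leaf 4115653392657))))) (.node (.node (.node (.node (.node (.leaf 468151541786) (.leaf 4413079948805)) (.leaf 3025805112963)) (.node (.leaf 143881574430) (.leaf 3482682436484))) (.node (.node (.leaf 1842004534921) (.leaf 3472481886749)) (.node (.leaf 2576444120974) (.leaf 4009889797762)))) (.node (.node (.node (.leaf 998043262343) (.leaf 3234647847189)) (.node (.leaf 2033130701056) (.leaf 3613142143892))) (.node (.node (.leaf 1778653810971) (.leaf 2929168290691))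 (.node (.leaf 2790118781334) (.leaf 4217122019333))))))
def dF_11 : BT := .node (.node (.node (.node (.node (.node (.node (.leaf 116501015813) (.leaf 4267050936198)) (.leaf 2861522643219)) (.node (.leaf 2004676458782) (.leaf 2386928802305))) (.node (.node (.leaf 1229971553292) (.leaf 3284040151696)) (.node (.leaf 2376728094097) (.leaf 3773129690398)))) (.node (.node (.node (.node (.leaf 134217834389) (.leaf 4448513437464)) (.leaf 2811056722567)) (.node (.leaf 1129039797134) (.leaf 3016141652638))) (.node (.node (.leaf 2065879762049) (.leaf 2370822676638)) (.node (.leaf 2415382857995) (.leaf 4061966280457))))) (.node (.node (.node (.node (.node (.leaf 227096449927) (.leaf 4378720199572)) (.leaf 2999498500508)) (.node (.leaf 204547900446) (.leaf 2382633900803))) (.node (.node (.leaf 1688459377925) (.leaf 2826089293187)) (.node (.leaf 2523293888132) (.leaf 3969087357707)))) (.node (.node (.node (.leaf 817654593665) (.leaf 3186866493456)) (.node (.leaf 2308008600977) (.leaf 3752728569619))) (.node (.node (.leaf 1140314088963) (.leaf 2723009952926)) (.node (.leaf 2741800401298)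 (.leaf 4161287418773)))))) (.node (.node (.node (.node (.node (.node (.leaf 67108925972) (.leaf 4336843829256)) (.leaf 2444373914759)) (.node (.leaf 48318442398) (.leaf 2918967865236))) (.node (.node (.leaf 1405528382748) (.leaf 3345780321296)) (.node (.leaf 2437931392657) (.leaf 3925601044499)))) (.node (.node (.node (.leaf 635655311377) (.leaf 2769180797446)) (.node (.leaf 1269700144007) (.leaf 3702262692096))) (.node (.node (.leaf 890132220438) (.leaf 2463701417612)) (.node (.leaf 2683281457938) (.leaf 4110284591366))))) (.node (.node (.node (.node (.node (.leaf 496068841095) (.leaf 4416838046109)) (.leaf 3041911266581)) (.node (.leaf 696321738906) (.leaf 2573223076236))) (.node (.node (.leaf 1864553101081) (.leaf 3473018722580)) (.node (.leaf 2586107799695) (.leaf 4020627218579)))) (.node (.node (.node (.leaf 1040992947093) (.leaf 3243237952668)) (.node (.leaf 2341294600583) (.leaf 3803731318425))) (.node (.node (.leaf 652298209817) (.leaf 2545842487691)) (.node (.leaf 2797634989455) (.leaf 4219269160584))))))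
def dF_19 : BT := .node (.node (.node (.node (.node (.node (.node (.leaf 103616087823) (.leaf 3976603862423)) (.leaf 2870112579866)) (.node (.leaf 11274469017) (.leaf 2463164359169))) (.node (.node (.leaf 470836076168) (.leaf 3284040151709)) (.node (.leaf 2374580211074) (.leaf 3855807809558)))) (.node (.node (.node (.node (.leaf 112742993030) (.leaf 4444218469773)) (.leaf 3006477844359)) (.node (.leaf 523449334915) (.leaf 3640522318602))) (.node (.node (.leaf 2038499335821) (.leaf 2317672529159)) (.node (.leaf 2425046536726) (.leaf 4060355675544))))) (.node (.node (.node (.node (.node (.leaf 17179960596) (.leaf 4365835299989)) (.leaf 2964601889803)) (.node (.leaf 426275807361) (.leaf 2619393776158))) (.node (.node (.leaf 1665910837261) (.leaf 3361886464022)) (.node (.leaf 2514167080349) (.leaf 3971771953949)))) (.node (.node (.node (.leaf 798864107653) (.leaf 3186866493466)) (.node (.leaf 766651932181) (.leaf 3755949795867))) (.node (.node (.leaf 1220844989708) (.leaf 3610457744024)) (.node (.leaf 2748779724825) (.leaf 4159676817945)))))) (.node (.node (.node (.node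 (.node (.node (.leaf 51002797582) (.leaf 3716221485830)) (.leaf 2934000233618)) (.node (.leaf 438086777886) (.leaf 2426657184388))) (.node (.node (.leaf 1389422248854) (.leaf 3348464676612)) (.node (.leaf 2445447587217) (.leaf 3908421171217)))) (.node (.node (.node (.leaf 623844150025) (.leaf 3087008492182)) (.node (.leaf 1136555887873) (.leaf 3700115207696))) (.node (.node (.leaf 354871709849) (.leaf 3568044931856)) (.node (.leaf 2690797652506) (.leaf 4006668598422))))) (.node (.node (.node (.node (.node (.leaf 492310743699) (.leaf 4414690561949)) (.leaf 3045669409935)) (.node (.leaf 1900523481626) (.leaf 2909304278665))) (.node (.node (.leaf 1825361541253) (.leaf 3373697639047)) (.node (.leaf 2581812831388) (.leaf 3891778138754)))) (.node (.node (.node (.leaf 1028108041732) (.leaf 617939191434)) (.node (.leaf 2338610250259) (.leaf 3616900240788))) (.node (.node (.leaf 584115637248) (.leaf 2491081625479)) (.node (.leaf 2026688359300) (.leaf 4214437664026))))))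
def dF_26 : BT := .node (.node (.node (.node (.node (.node (.node (.leaf 107911079059) (.leaf 4274567220507)) (.leaf 2874407548293)) (.node (.leaf 251255909790) (.leaf 2466385573768))) (.node (.node (.leaf 114353800858) (.leaf 3281892473218)) (.node (.leaf 2379412449297) (.leaf 3869229585309)))) (.node (.node (.node (.leaf 139049673730) (.leaf 3098819642906)) (.node (.leaf 1626719251215) (.leaf 3654481169412))) (.node (.node (.leaf 1951526260620) (.leaf 2521146543501)) (.node (.leaf 2640868645778) (.leaf 3917548013830))))) (.node (.node (.node (.node (.node (.leaf 355945446791) (.leaf 4385699525776)) (.leaf 2996277274264)) (.node (.leaf 524523291934) (.leaf 3314641571852))) (.node (.node (.leaf 1637456685824) (.leaf 3419868524828)) (.node (.leaf 2526515114258) (.leaf 3976066922257)))) (.node (.node (.node (.leaf 378494189195) (.leaf 2532957723139)) (.node (.leaf 2310156085259) (.leaf 3749507343375))) (.node (.node (.leaf 2258616465025) (.leaf 2767570370317)) (.node (.leaf 2744484743446) (.leaf 4001836768896)))))) (.node (.node (.node (.node (.node (.node (.leaf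 93415602574) (.leaf 4341139222295)) (.leaf 2947422009629)) (.node (.leaf 1045287706142) (.leaf 2583423444488))) (.node (.node (.leaf 1431298192775) (.leaf 3339337675907)) (.node (.leaf 2454574394908) (.leaf 3923990431384)))) (.node (.node (.node (.leaf 637265924759) (.leaf 2629057447302)) (.node (.leaf 28991331722) (.leaf 3711926370688))) (.node (.node (.leaf 885300348292) (.leaf 2688113256707)) (.node (.leaf 2446521385879) (.leaf 2541011005576))))) (.node (.node (.node (.node (.node (.leaf 9126926080) (.leaf 4418985530267)) (.leaf 3048890636293)) (.node (.leaf 162135054106) (.leaf 2547453120009))) (.node (.node (.leaf 856309550349) (.leaf 3462818184323)) (.node (.leaf 1696512699143) (.leaf 1320703340674)))) (.node (.node (.node (.leaf 1049046011157) (.leaf 3245385436819)) (.node (.leaf 2343442089629) (.leaf 3257733603201))) (.node (.node (.leaf 573915045534) (.leaf 2478733637382)) (.node (.leaf 162135683084) (.leaf 4107600350977))))))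
def dF_35 : BT := .node (.node (.node (.node (.node (.node (.node (.leaf 91268078859) (.leaf 4228396320001)) (.leaf 2870112579972)) (.node (.leaf 49929146507) (.leaf 2610266974468))) (.node (.node (.leaf 1133334780160) (.leaf 3282429538691)) (.node (.leaf 2373506867865) (.leaf 3856344680345)))) (.node (.node (.node (.node (.leaf 336081292948) (.leaf 4140886404233)) (.leaf 3084860995856)) (.node (.leaf 1828045891215) (.leaf 3223910694276))) (.node (.node (.leaf 2032056886428) (.leaf 2033130934686)) (.node (.leaf 2634426193294) (.leaf 4057134439178))))) (.node (.node (.node (.node (.node (.leaf 380104696336) (.leaf 4377646460165)) (.leaf 2825552322711)) (.node (.leaf 334470582166) (.leaf 2833068387073))) (.node (.node (.leaf 1649267832205) (.leaf 3352222785301)) (.node (.leaf 2500745279494) (.leaf 3962108275214)))) (.node (.node (.node (.leaf 784368589580) (.leaf 3193308945948)) (.node (.leaf 1699733505047) (.leaf 3757560408988))) (.node (.node (.leaf 450971793689) (.leaf 2546916326917)) (.node (.leaf 2740189788189) (.leaf 4161287431066)))))) (.node (.node (.node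 (.node (.node (.node (.leaf 236760079631) (.leaf 4331475550738)) (.leaf 2936147717786)) (.node (.leaf 818191421086) (.leaf 2882997432577))) (.node (.node (.leaf 1382442928523) (.leaf 3334506023686)) (.node (.leaf 2432562682256) (.leaf 3740380575638)))) (.node (.node (.node (.leaf 627065374739) (.leaf 3142306184980)) (.node (.leaf 631897260033) (.leaf 3699578186888))) (.node (.node (.leaf 330175881989) (.leaf 3569118673946)) (.node (.leaf 2695629491869) (.leaf 4114042779534))))) (.node (.node (.node (.node (.node (.leaf 483720807168) (.leaf 4413616819869)) (.leaf 3033321272454)) (.node (.leaf 350039918107) (.leaf 3169686466443))) (.node (.node (.leaf 1844152022428) (.leaf 3466576305306)) (.node (.leaf 2581812831492) (.leaf 4005594555018)))) (.node (.node (.node (.leaf 1011465039492) (.leaf 2617783169286)) (.node (.leaf 1843078398468) (.leaf 3422552970374))) (.node (.node (.leaf 878321361054) (.leaf 2493766162945)) (.node (.leaf 2786360472966) (.leaf 4217658890268))))))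
def dF_42 : BT := .node (.node (.node (.node (.node (.node (.node (.leaf 111132305308) (.leaf 4272419729416)) (.leaf 2866891353615)) (.node (.leaf 8053079838) (.leaf 2563559327239))) (.node (.node (.leaf 1232655907856) (.leaf 2961380734211)) (.node (.leaf 2377801836175) (.leaf 2836289950471)))) (.node (.node (.node (.leaf 379030975491) (.leaf 2483565466631)) (.node (.leaf 1437740645134) (.leaf 2310693273603))) (.node (.node (.leaf 2067490375057) (.leaf 2563022302730)) (.node (.leaf 2638184290588) (.leaf 4029754034182))))) (.node (.node (.node (.node (.node (.leaf 382252093187) (.leaf 4002910565637)) (.leaf 2997887887387)) (.node (.leaf 338765550337) (.leaf 2410014361729))) (.node (.node (.leaf 1693291260177) (.leaf 3413962943501)) (.node (.leaf 2527588856346) (.leaf 3978751277468)))) (.node (.node (.node (.leaf 820338949139) (.leaf 2976413097730)) (.node (.leaf 635118839433) (.leaf 3751117956496))) (.node (.node (.leaf 2253247754774) (.leaf 2650532407198)) (.node (.leaf 2746095369614) (.leaf 4158603075855)))))) (.node (.node (.node (.node (.node (.node (.leaf 107374245382)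 (.leaf 4133907057539)) (.leaf 2939368944132)) (.node (.leaf 329101950366) (.leaf 3583077065737))) (.node (.node (.leaf 1421097643013) (.leaf 2866891467910)) (.node (.leaf 2448131942532) (.leaf 3911105526428)))) (.node (.node (.node (.leaf 636192182036) (.leaf 2771865266566)) (.node (.leaf 1268626417286) (.leaf 3703873305095))) (.node (.node (.leaf 1044751046403) (.leaf 2756832918656)) (.node (.leaf 2689723910414) (.leaf 4108674067988))))) (.node (.node (.node (.node (.node (.leaf 496068841118) (.leaf 4416301175319)) (.leaf 3042448101635)) (.node (.leaf 634581569307) (.leaf 2394445097857))) (.node (.node (.leaf 877247513368) (.leaf 3467650006403)) (.node (.leaf 2583960273300) (.leaf 3556233806878)))) (.node (.node (.node (.leaf 1045824785937) (.leaf 3247532920984)) (.node (.leaf 2342368347537) (.leaf 1833415071628))) (.node (.node (.leaf 836445377152) (.leaf 2864206895488)) (.node (.leaf 1836099186438) (.leaf 4211216437762))))))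
def dF_50 : BT := .node (.node (.node (.node (.node (.node (.node (.leaf 106300465937) (.leaf 4057671371294)) (.leaf 2864743869464)) (.node (.leaf 420906917643) (.leaf 641024560013))) (.node (.node (.leaf 1216012905741) (.leaf 3281892667545)) (.node (.leaf 2375654352027) (.leaf 3865471488133)))) (.node (.node (.node (.node (.leaf 331786249991) (.leaf 4447439695385)) (.leaf 2476049361027)) (.node (.leaf 825170788494) (.leaf 2575370632968))) (.node (.node (.leaf 1788317497733) (.leaf 2594697842315)) (.node (.leaf 2420214697365) (.leaf 4060892546574))))) (.node (.node (.node (.node (.node (.leaf 376883466138) (.leaf 4185446674590)) (.leaf 641561457414)) (.node (.leaf 486942030349) (.leaf 2898566754326))) (.node (.node (.leaf 1678795742213) (.leaf 3409667975055)) (.node (.leaf 2514703951378) (.leaf 3959960792087)))) (.node (.node (.node (.leaf 813359611649) (.leaf 3193845816979)) (.node (.leaf 1894617900693) (.leaf 3754339182744))) (.node (.node (.leaf 1137629991447) (.leaf 2674154814210)) (.node (.leaf 2750927208979) (.leaf 2345590007838)))))) (.node (.node (.node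 (.node (.node (.node (.leaf 44023474062) (.leaf 4336844261147)) (.leaf 2934000233615)) (.node (.leaf 1046361908638) (.leaf 2777233819798))) (.node (.node (.leaf 1396938446212) (.leaf 3346317192344)) (.node (.leaf 2437931392667) (.leaf 3911642397573)))) (.node (.node (.node (.leaf 632970956179) (.leaf 3082713523862)) (.node (.leaf 1127429246597) (.leaf 3701188949784))) (.node (.node (.leaf 1047435361566) (.leaf 2578591769246)) (.node (.leaf 2685965813145) (.leaf 4118337747842))))) (.node (.node (.node (.node (.node (.leaf 486941925271) (.leaf 4415764304029)) (.leaf 3041374441625)) (.node (.leaf 1954747456666) (.leaf 2853469678088))) (.node (.node (.leaf 1853815701253) (.leaf 3468186918416)) (.node (.leaf 2587181499543) (.leaf 4022237831709)))) (.node (.node (.node (.leaf 1039382333447) (.leaf 3244311694852)) (.node (.leaf 2340220863377) (.leaf 3052112041474))) (.node (.node (.leaf 359166759966) (.leaf 2435783991809)) (.node (.leaf 2796023862534) (.leaf 4211216437784))))))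
def dF_57 : BT := .node (.node (.node (.node (.node (.node (.node (.leaf 13958671384) (.leaf 4273493335434)) (.leaf 2872260064026)) (.node (.leaf 1796370378654) (.leaf 3276524008222))) (.node (.node (.leaf 1248762039069) (.leaf 3297461927820)) (.node (.leaf 2383707417741) (.leaf 3870839471117)))) (.node (.node (.node (.leaf 377957124867) (.leaf 3097745900817)) (.node (.leaf 532576071694) (.leaf 3656091782427))) (.node (.node (.leaf 2080375279747) (.leaf 3026878798080)) (.node (.leaf 2639257983639) (.leaf 3630322076054))))) (.node (.node (.node (.node (.node (.leaf 394600214528) (.leaf 4386773267867)) (.leaf 3003793468819)) (.node (.leaf 33286178568) (.leaf 2501819109507))) (.node (.node (.leaf 1691680648578) (.leaf 3420405395856)) (.node (.leaf 2525441372174) (.leaf 3978751231753)))) (.node (.node (.node (.leaf 756988182663) (.leaf 3185255814662)) (.node (.leaf 1834488457091) (.leaf 3747359859093))) (.node (.node (.leaf 2261837690505) (.leaf 2649458582784)) (.node (.leaf 2739652847508) (.leaf 4175246078213)))))) (.node (.node (.node (.node (.node (.node (.leaf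 100394925966) (.leaf 3680251137026)) (.leaf 2942590170266)) (.node (.leaf 88583706375) (.leaf 2468533095838))) (.node (.node (.leaf 1373853006852) (.leaf 3353833386909)) (.node (.leaf 2449742555547) (.leaf 3922379818259)))) (.node (.node (.node (.leaf 641024021779) (.leaf 3149822391705)) (.node (.leaf 1314797192478) (.leaf 3717295080988))) (.node (.node (.leaf 1045824788246) (.leaf 2610803395212)) (.node (.leaf 2698850718213) (.leaf 4003984240513))))) (.node (.node (.node (.node (.node (.leaf 9663797653) (.leaf 4419522401296)) (.leaf 3048353765145)) (.node (.leaf 631897214107) (.leaf 3128347489033))) (.node (.node (.leaf 1779727519642) (.leaf 3479461210269)) (.node (.leaf 2600066446848) (.leaf 3893388744990)))) (.node (.node (.node (.leaf 1052267224967) (.leaf 3247532920975)) (.node (.leaf 2345052702613) (.leaf 3812858126104))) (.node (.node (.leaf 103616087822) (.leaf 2542621453837)) (.node (.leaf 2806761797253) (.leaf 3736622550669))))))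
def dF_67 : BT := .node (.node (.node (.node (.node (.node (.node (.leaf 98247400337) (.leaf 4262756035341)) (.leaf 2861522643332)) (.node (.leaf 329101871362) (.leaf 2836826621445))) (.node (.node (.leaf 1191316838026) (.leaf 3275986904599)) (.node (.leaf 2372969996829) (.leaf 3856881551377)))) (.node (.node (.node (.node (.leaf 497679432341) (.leaf 4445292211217)) (.leaf 3082713511698)) (.node (.leaf 1834488343695) (.leaf 3284577107201))) (.node (.node (.leaf 2031520015377) (.leaf 2561411689611)) (.node (.leaf 2629057482896) (.leaf 4056060707218))))) (.node (.node (.node (.node (.node (.leaf 388694632976) (.leaf 2367601765773)) (.leaf 2992519137813)) (.node (.leaf 17716744344) (.leaf 2397129235991))) (.node (.node (.leaf 1645509735433) (.leaf 3402688640020)) (.node (.leaf 2507724627855) (.leaf 3964255759378)))) (.node (.node (.node (.leaf 775778652940) (.leaf 3197067043217)) (.node (.leaf 642098033303) (.leaf 3758634151181))) (.node (.node (.leaf 1808718537114) (.leaf 2435783988736)) (.node (.leaf 2748779724829) (.leaf 4169877367706)))))) (.node (.node (.node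 (.node (.node (.node (.leaf 175556846746) (.leaf 4329328066584)) (.leaf 2936684588827)) (.node (.leaf 43486763294) (.leaf 2032057089292))) (.node (.node (.leaf 1317481547403) (.leaf 3335042900494)) (.node (.leaf 2435247037459) (.leaf 3786014603013)))) (.node (.node (.node (.leaf 625454735757) (.leaf 3135326873615)) (.node (.leaf 827318226455) (.leaf 827855828358))) (.node (.node (.leaf 197031708930) (.leaf 3572339900188)) (.node (.leaf 2691871394693) (.leaf 4107063456017))))) (.node (.node (.node (.node (.node (.leaf 466004054680) (.leaf 4412543077896)) (.leaf 3027415683459)) (.node (.leaf 618475437847) (.leaf 2408403682058))) (.node (.node (.leaf 1843615151377) (.leaf 3463891950109)) (.node (.leaf 2574296609415) (.leaf 3910568677900)))) (.node (.node (.node (.leaf 1002875102852) (.leaf 3228205468673)) (.node (.leaf 833761083785) (.leaf 3801046963215))) (.node (.node (.leaf 430570897816) (.leaf 2545842600350)) (.node (.leaf 2793876878613) (.leaf 4221416987535))))))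
def dF_74 : BT := .node (.node (.node (.node (.node (.node (.node (.leaf 119722241948) (.leaf 4243428707077)) (.leaf 2864206998416)) (.node (.leaf 49392390283) (.leaf 1962263804941))) (.node (.node (.leaf 1233192778909) (.leaf 3281892667534)) (.node (.leaf 2377264965135) (.leaf 3860102777618)))) (.node (.node (.node (.node (.leaf 449360986115) (.leaf 4447976566677)) (.leaf 2970507333255)) (.node (.leaf 1267015654415) (.leaf 3642669819533))) (.node (.node (.leaf 2074469698688) (.leaf 2687039473928)) (.node (.leaf 2643016129935) (.leaf 3633006430102))))) (.node (.node (.node (.node (.node (.leaf 384399664643) (.leaf 2542621684745)) (.leaf 3006477824027)) (.node (.leaf 624918114718) (.leaf 2501282200582))) (.node (.node (.leaf 1692217506314) (.leaf 3405909730950)) (.node (.leaf 2528125727389) (.leaf 3713000176266)))) (.node (.node (.node (.leaf 819265207057) (.leaf 3188477106575)) (.node (.leaf 1847373358599) (.leaf 3759707893136))) (.node (.node (.leaf 926102755604) (.leaf 2858838293534)) (.node (.leaf 2743947885456) (.leaf 4160750522389)))))) (.node (.node (.node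 (.node (.node (.node (.leaf 261993005576) (.leaf 4307316361092)) (.leaf 2929168277255)) (.node (.leaf 427349539469) (.leaf 2924873320588))) (.node (.node (.leaf 1412507706373) (.leaf 3346854063374)) (.node (.leaf 2440078876815) (.leaf 3919695463068)))) (.node (.node (.node (.leaf 636729051139) (.leaf 2532420774278)) (.node (.leaf 1831803732611) (.leaf 3703873304977))) (.node (.node (.leaf 882615991559) (.leaf 2742337310366)) (.node (.leaf 2686502684176) (.leaf 3682935436171))))) (.node (.node (.node (.node (.node (.leaf 501974422419) (.leaf 4417911788175)) (.leaf 2573759876866)) (.node (.leaf 760209392666) (.leaf 3048353653004))) (.node (.node (.leaf 130996946713) (.leaf 3470334355207)) (.node (.leaf 2583960273303) (.leaf 3561602556446)))) (.node (.node (.node (.leaf 1043677301911) (.leaf 3245385436826)) (.node (.leaf 2341294605464) (.leaf 3640522561302))) (.node (.node (.leaf 23622370433) (.leaf 2821794186118)) (.node (.leaf 2798171860497) (.leaf 1895155324446))))))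
def dF_82 : BT := .node (.node (.node (.node (.node (.node (.node (.leaf 5905605142) (.leaf 4271345994368)) (.leaf 2861522643226)) (.node (.leaf 340913063820) (.leaf 2517925164695))) (.node (.node (.leaf 1207422969101) (.leaf 3282966409627)) (.node (.leaf 2362769450122) (.leaf 3854197196052)))) (.node (.node (.node (.node (.leaf 330712582535) (.leaf 4347581705738)) (.leaf 2860985825302)) (.node (.leaf 833760681603) (.leaf 3634080071574))) (.node (.node (.leaf 2046552404621) (.leaf 1130113958275)) (.node (.leaf 2416456600086) (.leaf 3446712223367))))) (.node (.node (.node (.node (.node (.leaf 13958734356) (.leaf 3926138024838)) (.leaf 3001645984781)) (.node (.leaf 441844890398) (.leaf 2607045720197))) (.node (.node (.leaf 1670205805573) (.leaf 3406983619867)) (.node (.leaf 2517388306585) (.leaf 3969087598746)))) (.node (.node (.node (.leaf 807454044292) (.leaf 3189013977624)) (.node (.leaf 1902134093962) (.leaf 3747359859227))) (.node (.node (.leaf 1355599345302) (.leaf 3609384002582)) (.node (.leaf 2740189788185) (.leaf 4169877367697)))))) (.node (.node (.node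 (.node (.node (.node (.leaf 255013695247) (.leaf 4335233648132)) (.leaf 2935610846736)) (.node (.leaf 22011712666) (.leaf 2812667378439))) (.node (.node (.leaf 1330903322759) (.leaf 3347390934428)) (.node (.leaf 2439005134749) (.leaf 3909494913309)))) (.node (.node (.node (.leaf 631360343069) (.leaf 3084861008022)) (.node (.leaf 1120986631701) (.leaf 3701188795272))) (.node (.node (.leaf 898185248158) (.leaf 3584687934215)) (.node (.leaf 2694555749785) (.leaf 4117800800265))))) (.node (.node (.node (.node (.node (.leaf 481573322899) (.leaf 4415227054088)) (.leaf 3041374441629)) (.node (.leaf 1902134094746) (.leaf 3169149654794))) (.node (.node (.leaf 1818919090828) (.leaf 3466039434258)) (.node (.leaf 2580739089306) (.leaf 4020090347651)))) (.node (.node (.node (.leaf 1036697978373) (.leaf 3236795500187)) (.node (.leaf 1829119755029) (.leaf 3802120661013))) (.node (.node (.leaf 50465972894) (.leaf 2493229315713)) (.node (.leaf 2351495261185) (.leaf 4219806374424))))))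
def dF_89 : BT := .node (.node (.node (.node (.node (.node (.node (.leaf 112206047377) (.leaf 4275640836382)) (.leaf 2874944419229)) (.node (.leaf 5905581455) (.leaf 2743947887774))) (.node (.node (.leaf 1246614555016) (.leaf 3288871978389)) (.node (.leaf 2379949320339) (.leaf 3869766106761)))) (.node (.node (.node (.leaf 466004041494) (.leaf 3095061545625)) (.node (.leaf 526133619214) (.leaf 3433290353694))) (.node (.node (.leaf 2086280861572) (.leaf 3249143590795)) (.node (.leaf 2637647419536) (.leaf 4064650643968))))) (.node (.node (.node (.node (.node (.leaf 358629801986) (.leaf 4323959371395)) (.leaf 3008088430219)) (.node (.leaf 2195265687454) (.leaf 2383170596363))) (.node (.node (.leaf 1696512472705) (.leaf 3418794782744)) (.node (.leaf 2525978243217) (.leaf 3975529712011)))) (.node (.node (.node (.leaf 759672536982) (.leaf 2624762648582)) (.node (.leaf 631897614359) (.leaf 3745212375043))) (.node (.node (.leaf 2259690207127) (.leaf 2822331156382)) (.node (.leaf 2684892084119) (.leaf 4157529228556)))))) (.node (.node (.node (.node (.node (.node (.leaf 97173699726)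 (.leaf 4337381124886)) (.leaf 2938832072989)) (.node (.leaf 143344567706) (.leaf 2948495647774))) (.node (.node (.leaf 1436666903069) (.leaf 3353833387021)) (.node (.leaf 2445984458268) (.leaf 3915400494744)))) (.node (.node (.node (.leaf 639413408656) (.leaf 3140158715533)) (.node (.leaf 112743144606) (.leaf 3720516307328))) (.node (.node (.leaf 899795859336) (.leaf 3030100256396)) (.node (.leaf 2452963838356) (.leaf 4104915866122))))) (.node (.node (.node (.node (.node (.leaf 506806261777) (.leaf 4414690563220)) (.leaf 3049427507229)) (.node (.leaf 699006094107) (.leaf 3506304768261))) (.node (.node (.leaf 1877438027021) (.leaf 3476776855173)) (.node (.leaf 2591476510208) (.leaf 3964792643742)))) (.node (.node (.node (.leaf 1049582882837) (.leaf 3246459178897)) (.node (.leaf 2344515831707) (.leaf 2308545829918))) (.node (.node (.leaf 835371364635) (.leaf 2659659311104)) (.node (.leaf 2799782473728) (.leaf 3698504716045))))))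
def dF_98 : BT := .node (.node (.node (.node (.node (.node (.node (.leaf 101468626577) (.leaf 4265977245701)) (.leaf 2866891353628)) (.node (.leaf 147102771486) (.leaf 2573223006724))) (.node (.node (.leaf 1197222419340) (.leaf 2710125148035)) (.node (.leaf 2362769449857) (.leaf 3855807809431)))) (.node (.node (.node (.node (.leaf 113279864071) (.leaf 4332549319946)) (.leaf 3087008480014)) (.node (.leaf 690416260739) (.leaf 3639985651219))) (.node (.node (.leaf 2034741221775) (.leaf 3292629978014)) (.node (.leaf 2625836256654) (.leaf 3332895589773))))) (.node (.node (.node (.node (.node (.leaf 20401186836) (.leaf 4377109589147)) (.leaf 2993592919055)) (.node (.leaf 1581084930718) (.leaf 3314641804958))) (.node (.node (.leaf 1657320900621) (.leaf 3405909877900)) (.node (.leaf 2508798372493) (.leaf 3971771954048)))) (.node (.node (.node (.leaf 791347904665) (.leaf 3195456430106)) (.node (.leaf 1119376116886) (.leaf 3748970472348))) (.node (.node (.leaf 952409441158) (.leaf 3609920872986)) (.node (.leaf 2744484756507) (.leaf 4168266754585)))))) (.node (.node (.node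 (.node (.node (.node (.leaf 107374241549) (.leaf 4328254324494)) (.leaf 2935073975704)) (.node (.leaf 1282584678686) (.leaf 3141769169154))) (.node (.node (.leaf 1365263059991) (.leaf 3339874739972)) (.node (.leaf 2438468263811) (.leaf 3759171057814)))) (.node (.node (.node (.leaf 628139116829) (.leaf 3089155976342)) (.node (.leaf 824633874186) (.leaf 3700114939017))) (.node (.node (.leaf 1873679586457) (.leaf 3571266158098)) (.node (.leaf 2687039555229) (.leaf 4105452842894))))) (.node (.node (.node (.node (.node (.leaf 492310743809) (.leaf 4412006207254)) (.leaf 2386928751111)) (.node (.leaf 1904281578906) (.leaf 2473901957513))) (.node (.node (.leaf 1846836374027) (.leaf 3469260660505)) (.node (.leaf 2587718412819) (.leaf 4006668571530)))) (.node (.node (.node (.leaf 1019518105092) (.leaf 2962991256583)) (.node (.leaf 1842004656789) (.leaf 3801583738114))) (.node (.node (.leaf 1877438059290) (.leaf 2640868683781)) (.node (.leaf 2794950634259) (.leaf 4209068953628))))))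
def dF_105 : BT := .node (.node (.node (.node (.node (.node (.node (.leaf 116501015699) (.leaf 4276714704659)) (.leaf 2869575652610)) (.node (.leaf 105763594895) (.leaf 2954401361556))) (.node (.node (.leaf 1240708973580) (.leaf 3285113734019)) (.node (.leaf 2378875033229) (.leaf 3868692714268)))) (.node (.node (.node (.leaf 377420253846) (.leaf 3099356513937)) (.node (.leaf 1399622801295) (.leaf 3647501629194))) (.node (.node (.leaf 2058900438417) (.leaf 2370822749826)) (.node (.leaf 2641405516824) (.leaf 3511136733322))))) (.node (.node (.node (.node (.node (.leaf 114890402567) (.leaf 4386236396829)) (.leaf 3004867210904)) (.node (.leaf 523449544581) (.leaf 3055869964292))) (.node (.node (.leaf 1694365002257) (.leaf 3422552622733)) (.node (.leaf 2527051985305) (.leaf 3976603401741)))) (.node (.node (.node (.leaf 821412689943) (.leaf 2481418116503)) (.node (.leaf 765578471169) (.leaf 3758097280015))) (.node (.node (.leaf 2255931686657) (.leaf 2649995484419)) (.node (.leaf 2748779711766) (.leaf 4158065795211)))))) (.node (.node (.node (.node (.node (.node (.leaf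 265751163909) (.leaf 4079146224286)) (.leaf 2947958880772)) (.node (.leaf 338765742217) (.leaf 2530273211401))) (.node (.node (.leaf 1428076966429) (.leaf 3342558888963)) (.node (.leaf 2456721879172) (.leaf 3917547978906)))) (.node (.node (.node (.leaf 637802792469) (.leaf 3138548021254)) (.node (.leaf 1323924027550) (.leaf 3704947047068))) (.node (.node (.leaf 958314806405) (.leaf 2472828021120)) (.node (.leaf 2455111322519) (.leaf 4027069690250))))) (.node (.node (.node (.node (.node (.leaf 503048164480) (.leaf 4418448659217)) (.leaf 2700998238210)) (.node (.leaf 820875820187) (.leaf 2470680718349))) (.node (.node (.leaf 1854352557583) (.leaf 2505577372678)) (.node (.leaf 693100964486) (.leaf 3762929070978)))) (.node (.node (.node (.leaf 1047435397654) (.leaf 3238942984344)) (.node (.leaf 2342905218575) (.leaf 3806952544775))) (.node (.node (.leaf 1863479201566) (.leaf 2497523965197)) (.node (.leaf 2798708731776) (.leaf 2479270875528))))))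
def dF_113 : BT := .node (.node (.node (.node (.node (.node (.node (.leaf 107911079173) (.leaf 3890704516610)) (.leaf 2870112579859)) (.node (.leaf 228707427614) (.leaf 2450816357123))) (.node (.node (.leaf 1223529100300) (.leaf 3286187635858)) (.node (.leaf 2376191223050) (.leaf 3512210428564)))) (.node (.node (.node (.node (.leaf 429496757382) (.leaf 4447976566406)) (.leaf 2868502019861)) (.node (.leaf 160524567181) (.leaf 3205120214276))) (.node (.node (.leaf 1951526255745) (.leaf 2385318029443)) (.node (.leaf 2428804634005) (.leaf 3359202264838))))) (.node (.node (.node (.node (.node (.leaf 20938057859) (.leaf 4384625783705)) (.leaf 3008088437148)) (.node (.leaf 33822875546) (.leaf 2389076199812))) (.node (.node (.leaf 1542967403141) (.leaf 3408594232975)) (.node (.leaf 2517925177614) (.leaf 3969624469785)))) (.node (.node (.node (.leaf 816043969672) (.leaf 3195456430096)) (.node (.leaf 161598394629) (.leaf 3745749246104))) (.node (.node (.leaf 2217814008838) (.leaf 3355980710404)) (.node (.leaf 2749853466897) (.leaf 4117800889108)))))) (.node (.node (.node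 (.node (.node (.node (.leaf 67108925466) (.leaf 4336307390104)) (.leaf 2935073871618)) (.node (.leaf 129922772869) (.leaf 2538326299671))) (.node (.node (.leaf 1405528382852) (.leaf 3344169708179)) (.node (.leaf 2444373845139) (.leaf 3920232334213)))) (.node (.node (.node (.leaf 634044684951) (.leaf 3132642453142)) (.node (.leaf 1562294808839) (.leaf 3348464760970))) (.node (.node (.leaf 892279669406) (.leaf 2699924505344)) (.node (.leaf 2691871394578) (.leaf 2330020738590))))) (.node (.node (.node (.node (.node (.leaf 30064886294) (.leaf 2743948284298)) (.leaf 3041374441619)) (.node (.leaf 761820005786) (.leaf 2524904654849))) (.node (.node (.leaf 1862405637893) (.leaf 3470334402574)) (.node (.leaf 2580739089299) (.leaf 4019553476504)))) (.node (.node (.node (.leaf 1041529817629) (.leaf 3197067055636)) (.node (.leaf 1844689011733) (.leaf 3803194447389))) (.node (.node (.leaf 355945535247) (.leaf 2437931405701)) (.node (.leaf 2025614617865) (.leaf 4219806374402))))))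
def dF_120 : BT := .node (.node (.node (.node (.node (.node (.node (.leaf 25232961940) (.leaf 4272956578568)) (.leaf 2875481290258)) (.node (.leaf 2095944213278) (.leaf 2688650379149))) (.node (.node (.leaf 1189706239232) (.leaf 2896419357463)) (.node (.leaf 2392297354380) (.leaf 3609384064390)))) (.node (.node (.node (.leaf 451508470292) (.leaf 2874944472214)) (.node (.leaf 545997847694) (.leaf 3656091623556))) (.node (.node (.leaf 1789391247898) (.leaf 2595234557578)) (.node (.leaf 2637110525703) (.leaf 3675419232909))))) (.node (.node (.node (.node (.node (.leaf 403190151169) (.leaf 4387310136596)) (.leaf 2995203532179)) (.node (.leaf 1314260305947) (.leaf 2938294653580))) (.node (.node (.leaf 1699196841619) (.leaf 3421478984578)) (.node (.leaf 2365453839107) (.leaf 3896610007319)))) (.node (.node (.node (.leaf 766114988181) (.leaf 2869575720967)) (.node (.leaf 2311229459465) (.leaf 2373507196702))) (.node (.node (.leaf 267362253701) (.leaf 2554969246221)) (.node (.leaf 2452426980373) (.leaf 4175782949147)))))) (.node (.node (.node (.node (.node (.node (.leaf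 277025415303) (.leaf 4342212502285)) (.leaf 2946348267545)) (.node (.leaf 94489800222) (.leaf 2457795870854))) (.node (.node (.leaf 1363652460053) (.leaf 3352759644825)) (.node (.leaf 2453500652824) (.leaf 3913789881619)))) (.node (.node (.node (.leaf 643171502217) (.leaf 3149285455381)) (.node (.leaf 17716744452) (.leaf 3708705144348))) (.node (.node (.leaf 1096827552140) (.leaf 2742874330765)) (.node (.leaf 2700461331229) (.leaf 4124243193485))))) (.node (.node (.node (.node (.node (.leaf 510027488019) (.leaf 4421133014277)) (.leaf 3047816894098)) (.node (.leaf 1502165169947) (.leaf 3021510202369))) (.node (.node (.leaf 1882269866381) (.leaf 3478387296258)) (.node (.leaf 2396055501332) (.leaf 3737696218646)))) (.node (.node (.node (.leaf 1045287916937) (.leaf 3238942984335)) (.node (.leaf 2345589573785) (.leaf 3805341931549))) (.node (.node (.leaf 464930324254) (.leaf 2627983740545)) (.node (.leaf 2815351733893) (.leaf 4122095868950))))))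
def dF_131 : BT := .node (.node (.node (.node (.node (.node (.node (.leaf 97173656725) (.leaf 4083441173150)) (.leaf 2853469520646)) (.node (.leaf 410169527946) (.leaf 768262875014))) (.node (.node (.leaf 1190243095818) (.leaf 3277060618755)) (.node (.leaf 2372969996817) (.leaf 2944201000962)))) (.node (.node (.node (.node (.leaf 49392243331) (.leaf 4033512221706)) (.leaf 3087008480018)) (.node (.leaf 1845762635535) (.leaf 825708329997))) (.node (.node (.leaf 2030446273299) (.leaf 2561411738497)) (.node (.leaf 2633352451216) (.leaf 4057671249286))))) (.node (.node (.node (.node (.node (.leaf 382789051539) (.leaf 3482145778571)) (.leaf 2989834821777)) (.node (.leaf 156229472667) (.leaf 2397666106629))) (.node (.node (.leaf 1643362253469) (.leaf 3402688651535)) (.node (.leaf 2512019596175) (.leaf 3959960791058)))) (.node (.node (.node (.leaf 774168036749) (.leaf 3193845817088)) (.node (.leaf 1694901873045) (.leaf 3754339182860))) (.node (.node (.leaf 136902395162) (.leaf 3149822400908)) (.node (.leaf 2752000951065) (.leaf 4158603075869)))))) (.node (.node (.node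 (.node (.node (.node (.leaf 246960678417) (.leaf 4329864937627)) (.leaf 2935610846849)) (.node (.leaf 448824184094) (.leaf 2484102408834))) (.node (.node (.leaf 1380295443978) (.leaf 3335042900496)) (.node (.leaf 2433636424344) (.leaf 3907347429139)))) (.node (.node (.node (.leaf 624917744136) (.leaf 3139621841935)) (.node (.leaf 1274531696261) (.leaf 3699041465619))) (.node (.node (.leaf 197031730590) (.leaf 3582540449934)) (.node (.leaf 2687576426373) (.leaf 4111358424337))))) (.node (.node (.node (.node (.node (.leaf 11811271446) (.leaf 4412543077788)) (.leaf 2383707432839)) (.node (.leaf 711354148510) (.leaf 3182034644489))) (.node (.node (.leaf 1842541409299) (.leaf 3468186918429)) (.node (.leaf 2576980949783) (.leaf 4009352926731)))) (.node (.node (.node (.leaf 999653875083) (.leaf 3230889721863)) (.node (.leaf 2332704669975) (.leaf 2372970337287))) (.node (.node (.leaf 115427725086) (.leaf 2439005134999)) (.node (.leaf 2792266265494) (.leaf 4221416935301))))))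
def dF_138 : BT := .node (.node (.node (.node (.node (.node (.node (.leaf 120795984133) (.leaf 4267050974870)) (.leaf 2868501966736)) (.node (.leaf 2077690919966) (.leaf 2836289757696))) (.node (.node (.leaf 1236413742733) (.leaf 3286187635854)) (.node (.leaf 162672453122) (.leaf 3860102777614)))) (.node (.node (.node (.node (.leaf 468151525653) (.leaf 4449050308484)) (.leaf 2436857788550)) (.node (.leaf 1118839247374) (.leaf 3642669994240))) (.node (.node (.leaf 2070174730368) (.leaf 2355253275149)) (.node (.leaf 2639794903808) (.leaf 3433827321736))))) (.node (.node (.node (.node (.node (.leaf 180388669447) (.leaf 4118337811460)) (.leaf 2995203532188)) (.node (.leaf 1692217518105) (.leaf 2382633676694))) (.node (.node (.leaf 19864626831) (.leaf 3406446737303)) (.node (.leaf 2527588856452) (.leaf 3976066922371)))) (.node (.node (.node (.leaf 818728335361) (.leaf 3192772074895)) (.node (.leaf 2308008600989) (.leaf 3748433601299))) (.node (.node (.leaf 2211371558933) (.leaf 2444373930381)) (.node (.leaf 2748242853776) (.leaf 4160750172937)))))) (.node (.node (.node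 (.node (.node (.node (.leaf 260919282063) (.leaf 4333086163855)) (.leaf 2652679874432)) (.node (.leaf 155692601625) (.leaf 3347390741635))) (.node (.node (.leaf 1401233414428) (.leaf 3341485352976)) (.node (.leaf 2442763232016) (.leaf 3923990431388)))) (.node (.node (.node (.leaf 635655284631) (.leaf 2418604061831)) (.node (.leaf 1845762462851) (.leaf 3703336433945))) (.node (.node (.leaf 881005379843) (.leaf 2850785244288)) (.node (.leaf 2690797652496) (.leaf 4110284658327))))) (.node (.node (.node (.node (.node (.leaf 500363809420) (.leaf 4416838046336)) (.leaf 3041911266582)) (.node (.leaf 700079836186) (.leaf 3334505839754))) (.node (.node (.leaf 1860257957785) (.leaf 3470334252547)) (.node (.leaf 2581812831375) (.leaf 4019553476496)))) (.node (.node (.node (.leaf 1043677301890) (.leaf 3238942984348)) (.node (.leaf 2335925896468) (.leaf 3803731318533))) (.node (.node (.leaf 210990517018) (.leaf 3000035263235)) (.node (.leaf 2797634989467) (.leaf 4169340508567))))))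
def dF_146 : BT := .node (.node (.node (.node (.node (.node (.node (.leaf 104689852817) (.leaf 4267051026051)) (.leaf 2865817611546)) (.node (.leaf 26306755468) (.leaf 2578054765569))) (.node (.node (.leaf 1203128000780) (.leaf 3287261377947)) (.node (.leaf 2374043626902) (.leaf 3854196953606)))) (.node (.node (.node (.node (.leaf 333396863126) (.leaf 4150550080907)) (.leaf 2865280793622)) (.node (.leaf 2019171651463) (.leaf 2396592619402))) (.node (.node (.leaf 2042257436301) (.leaf 2829847265428)) (.node (.leaf 2420751568406) (.leaf 4060892546692))))) (.node (.node (.node (.node (.node (.leaf 381715222165) (.leaf 4381404557572)) (.leaf 2997351016461)) (.node (.leaf 1266478783385) (.leaf 2688650125700))) (.node (.node (.leaf 1629403615493) (.leaf 3407520490908)) (.node (.leaf 2515777693466) (.leaf 3973382567066)))) (.node (.node (.node (.leaf 803159075973) (.leaf 3193308945944)) (.node (.leaf 826244773766) (.leaf 3751654827547))) (.node (.node (.leaf 445066277918) (.leaf 3612068357137)) (.node (.leaf 2744484756505) (.leaf 4170951070622)))))) (.node (.node (.node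 (.node (.node (.node (.leaf 251792517776) (.leaf 4332549218184)) (.leaf 2929705265298)) (.node (.leaf 150861185566) (.leaf 2812130586116))) (.node (.node (.leaf 1377611091861) (.leaf 2541010825223)) (.node (.leaf 2443300103069) (.leaf 3909494913297)))) (.node (.node (.node (.leaf 630823472019) (.leaf 3136937474580)) (.node (.leaf 765578188160) (.leaf 3699578337029))) (.node (.node (.leaf 987305830814) (.leaf 3569118673934)) (.node (.leaf 2686502684186) (.leaf 4118874594965))))) (.node (.node (.node (.node (.node (.leaf 485868291219) (.leaf 4415227432979)) (.leaf 3045669409949)) (.node (.leaf 1846299506586) (.leaf 2637647517323))) (.node (.node (.leaf 1848446973071) (.leaf 3470334402578)) (.node (.leaf 2585034057626) (.leaf 3870840230021)))) (.node (.node (.node (.leaf 1032403010053) (.leaf 2798171965059)) (.node (.leaf 2327872832259) (.leaf 3802657576349))) (.node (.node (.leaf 1994475979916) (.leaf 2436320792469)) (.node (.leaf 2033130810262) (.leaf 4210142695706))))))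
def dF_153 : BT := .node (.node (.node (.node (.node (.node (.node (.leaf 116501015697) (.leaf 4274030349464)) (.leaf 2877091903377)) (.node (.leaf 944892811021) (.leaf 2789581901834))) (.node (.node (.leaf 16106424452) (.leaf 3228205576215)) (.node (.leaf 93416106124) (.leaf 3869766456326)))) (.node (.node (.node (.leaf 431644294279) (.leaf 3094524674586)) (.node (.leaf 524523006095) (.leaf 3595962240258))) (.node (.node (.leaf 2081985893252) (.leaf 2383707422604)) (.node (.leaf 2641942387856) (.leaf 3898757531925))))) (.node (.node (.node (.node (.node (.leaf 116501015682) (.leaf 4147865712004)) (.leaf 2980171149708)) (.node (.leaf 46170909465) (.leaf 2560338071299))) (.node (.node (.leaf 1635846073237) (.leaf 3419331653787)) (.node (.leaf 2522220145938) (.leaf 3976066897175)))) (.node (.node (.node (.leaf 467614760840) (.leaf 3187940169862)) (.node (.leaf 694174640132) (.leaf 3745212375055))) (.node (.node (.leaf 2259153335816) (.leaf 2981244999326)) (.node (.leaf 2742337259286) (.leaf 4155918720657)))))) (.node (.node (.node (.node (.node (.node (.leaf 94489344654)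 (.leaf 4337381132174)) (.leaf 2943127041309)) (.node (.leaf 515933196565) (.leaf 3231963476254))) (.node (.node (.leaf 1435593161100) (.leaf 2432026027268)) (.node (.leaf 2450279426588) (.leaf 3919695463064)))) (.node (.node (.node (.leaf 637802796037) (.leaf 3147138036613)) (.node (.leaf 28991117057) (.leaf 3716221339008))) (.node (.node (.leaf 818728355597) (.leaf 2964065111044)) (.node (.leaf 2448668870036) (.leaf 4104915947284))))) (.node (.node (.node (.node (.node (.leaf 506269390737) (.leaf 3019363062921)) (.leaf 2858301463051)) (.node (.leaf 827855143706) (.leaf 2458332600072))) (.node (.node (.leaf 1871532445965) (.leaf 3463355043860)) (.node (.leaf 2588792154909) (.leaf 3763465990660)))) (.node (.node (.node (.leaf 1045287915907) (.leaf 3241090468499)) (.node (.leaf 2343978960669) (.leaf 3608310308759))) (.node (.node (.leaf 1115617786264) (.leaf 2972654948480)) (.node (.leaf 2800319344650) (.leaf 4207995211534))))))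
def dF_162 : BT := .node (.node (.node (.node (.node (.node (.node (.leaf 99858008982) (.leaf 2510409401610)) (.leaf 2870649450907)) (.node (.leaf 339839374981) (.leaf 2398739688069))) (.node (.node (.leaf 1196685532427) (.leaf 3286724507013)) (.node (.leaf 1902134207364) (.leaf 3856344680213)))) (.node (.node (.node (.node (.leaf 447750425731) (.leaf 4444755340436)) (.leaf 3091303448334)) (.node (.leaf 1050119754254) (.leaf 3639448780189))) (.node (.node (.leaf 2033130628497) (.leaf 2887292439425)) (.node (.leaf 2630131224974) (.leaf 4056060704132))))) (.node (.node (.node (.node (.node (.leaf 388157674631) (.leaf 4377646460178)) (.leaf 2734284254211)) (.node (.leaf 2196339172610) (.leaf 3055869964190))) (.node (.node (.leaf 1653025932301) (.leaf 3011309755907)) (.node (.leaf 2515777693573) (.leaf 3968550688776)))) (.node (.node (.node (.leaf 788663557901) (.leaf 3189013977628)) (.node (.leaf 1132261021192) (.leaf 3753265440668))) (.node (.node (.leaf 953483182740) (.leaf 3149285530368)) (.node (.leaf 2748779724827) (.leaf 4156992462746)))))) (.node (.node (.node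 (.node (.node (.node (.leaf 241591952667) (.leaf 4328791137025)) (.leaf 2931852749466)) (.node (.leaf 489089823646) (.leaf 2632278673694))) (.node (.node (.leaf 1385663877772) (.leaf 2705293320195)) (.node (.leaf 2434173295375) (.leaf 3908957264396)))) (.node (.node (.node (.leaf 627602245789) (.leaf 3141232442900)) (.node (.leaf 1765768627204) (.leaf 3700114883971))) (.node (.node (.leaf 1296543696279) (.leaf 3570192416024)) (.node (.leaf 2691334523549) (.leaf 4109747811214))))) (.node (.node (.node (.node (.node (.leaf 488015775488) (.leaf 4412006207239)) (.leaf 2449205822594)) (.node (.leaf 1829656504346) (.leaf 2627983884937))) (.node (.node (.leaf 1845225764612) (.leaf 3462281336986)) (.node (.leaf 2586107799812) (.leaf 4006131700483)))) (.node (.node (.node (.leaf 1015760007812) (.leaf 3235184705030)) (.node (.leaf 2338610249097) (.leaf 3785477706902))) (.node (.node (.leaf 1779727552539) (.leaf 2926483932052)) (.node (.leaf 2343442197255) (.leaf 4213363921948))))))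
def dF_169 : BT := .node (.node (.node (.node (.node (.node (.node (.leaf 120795984019) (.leaf 4276177833732)) (.leaf 2862596385295)) (.node (.leaf 572841265304) (.leaf 2401424176661))) (.node (.node (.leaf 1236950848283) (.leaf 3286187623190)) (.node (.leaf 2377801836187) (.leaf 3868692714258)))) (.node (.node (.node (.leaf 467077696276) (.leaf 3096672158853)) (.node (.leaf 1403917769615) (.leaf 3425237286934))) (.node (.node (.leaf 2063195406737) (.leaf 3293166976260)) (.node (.leaf 2639794903707) (.leaf 4063040022792))))) (.node (.node (.node (.node (.node (.leaf 356482317827) (.leaf 4386236396815)) (.leaf 3009162179224)) (.node (.leaf 539555670409) (.leaf 3026341971969))) (.node (.node (.leaf 1693828131217) (.leaf 3418257911820)) (.node (.leaf 2523293888026) (.leaf 3976603777542)))) (.node (.node (.node (.leaf 820875818903) (.leaf 2481418116500)) (.node (.leaf 1771137689238) (.leaf 3746822988176))) (.node (.node (.leaf 2254320977689) (.leaf 2622615182727)) (.node (.leaf 2741800401294) (.leaf 4158602995724)))))) (.node (.node (.node (.node (.node (.node (.leaf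 264677422469) (.leaf 4311611329430)) (.leaf 2943663912452)) (.node (.leaf 22548682517) (.leaf 2624225643529))) (.node (.node (.leaf 1425392611332) (.leaf 3344706542723)) (.node (.leaf 2452426910852) (.leaf 3921842947226)))) (.node (.node (.node (.leaf 637265921429) (.leaf 3137474318342)) (.node (.leaf 1180579140126) (.leaf 3347391019658))) (.node (.node (.leaf 1044214172680) (.leaf 2579128013580)) (.node (.leaf 2685428942094) (.leaf 4108137198086))))) (.node (.node (.node (.node (.node (.leaf 498753088535) (.leaf 4416301175445)) (.leaf 2850248286339)) (.node (.leaf 1059783432986) (.leaf 2617246399232))) (.node (.node (.leaf 754304074264) (.leaf 3466576132866)) (.node (.leaf 2580202199178) (.leaf 3558918220684)))) (.node (.node (.node (.leaf 1046361656979) (.leaf 3243237952664)) (.node (.leaf 2342368347549) (.leaf 3804805060507))) (.node (.node (.leaf 42412838543) (.leaf 2498597919233)) (.node (.leaf 2798708731545) (.leaf 4211216425878))))))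
def dF_177 : BT := .node (.node (.node (.node (.node (.node (.node (.leaf 67645760397) (.leaf 4271882814080)) (.leaf 2860448901144)) (.node (.leaf 190052772766) (.leaf 2386391815296))) (.node (.node (.leaf 1219234131980) (.leaf 2526515295765)) (.node (.leaf 2375117480974) (.leaf 2470680859264)))) (.node (.node (.node (.node (.leaf 331249453570) (.leaf 4447976566415)) (.leaf 2864207051541)) (.node (.leaf 828928885774) (.leaf 3643743748620))) (.node (.node (.leaf 2055678804504) (.leaf 2829847265558)) (.node (.leaf 2424509665685) (.leaf 4060892546585))))) (.node (.node (.node (.node (.node (.leaf 340913118873) (.leaf 4378720156165)) (.leaf 2816425521941)) (.node (.leaf 425738734746) (.leaf 2507724649348))) (.node (.node (.leaf 1683090710532) (.leaf 3406446748819)) (.node (.leaf 2516314564497) (.leaf 3964255758357)))) (.node (.node (.node (.leaf 815507098888) (.leaf 3189550848659)) (.node (.leaf 2031519800322) (.leaf 3750044214424))) (.node (.node (.leaf 2212445300502) (.leaf 2927020365964)) (.node (.leaf 2749853453846) (.leaf 4009889834014)))))) (.node (.node (.node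 (.node (.node (.node (.leaf 211527200396) (.leaf 4333086163868)) (.leaf 2929705265295)) (.node (.leaf 435402315284) (.leaf 2427193971718))) (.node (.node (.leaf 1401233414532) (.leaf 3348464676499)) (.node (.leaf 2441152618905) (.leaf 3915937365893)))) (.node (.node (.node (.leaf 633507827229) (.leaf 2996814177799)) (.node (.leaf 1257352050432) (.leaf 3685619693312))) (.node (.node (.leaf 889595351555) (.leaf 2851321683084)) (.node (.leaf 2695092620814) (.leaf 4116189846814))))) (.node (.node (.node (.node (.node (.leaf 490700022551) (.leaf 2550674755848)) (.leaf 3044595667855)) (.node (.leaf 2029909402266) (.leaf 3301756895624))) (.node (.node (.leaf 1858110669573) (.leaf 3463891950096)) (.node (.leaf 2585034057619) (.leaf 4020627218586)))) (.node (.node (.node (.leaf 1040992946579) (.leaf 3248606663172)) (.node (.leaf 2340220863389) (.leaf 2376728434189))) (.node (.node (.leaf 137975922462) (.leaf 2914136008069)) (.node (.leaf 1130650807426) (.leaf 4221416916096))))))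
def dF_184 : BT := .node (.node (.node (.node (.node (.node (.node (.leaf 26843571342) (.leaf 4272956607494)) (.leaf 2873870677145)) (.node (.leaf 467614703518) (.leaf 2506113974540))) (.node (.node (.leaf 1246614555653) (.leaf 3301756412301)) (.node (.leaf 2388002386061) (.leaf 3870840198425)))) (.node (.node (.node (.leaf 465467083139) (.leaf 3097745900815)) (.node (.leaf 550292816014) (.leaf 3648038716819))) (.node (.node (.leaf 478352480536) (.leaf 2549063812490)) (.node (.leaf 2435247086485) (.leaf 3457449642626))))) (.node (.node (.node (.node (.node (.leaf 398895182848) (.leaf 4387310133895)) (.leaf 2999498500499)) (.node (.leaf 397821429534) (.leaf 2937221530910))) (.node (.node (.leaf 1691680648724) (.leaf 3420405395854)) (.node (.leaf 2521146403854) (.leaf 3978751259415)))) (.node (.node (.node (.leaf 825707659539) (.leaf 2862059526403)) (.node (.leaf 2311229827217) (.leaf 2345053037470))) (.node (.node (.leaf 2261300304771) (.leaf 2736968607629)) (.node (.leaf 2450279496213) (.leaf 4175782949126)))))) (.node (.node (.node (.node (.node (.node (.leaf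 275951673231) (.leaf 4243428723735)) (.leaf 2938295201946)) (.node (.leaf 882616298398) (.leaf 3284577067422))) (.node (.node (.leaf 472983616920) (.leaf 3353296515866)) (.node (.leaf 2457795621144) (.leaf 3918084849939)))) (.node (.node (.node (.leaf 642097763857) (.leaf 3149822391694)) (.node (.leaf 1324460856843) (.leaf 3713000112668))) (.node (.node (.leaf 1058172825118) (.leaf 2710125133316)) (.node (.leaf 2701535073297) (.leaf 1318555942284))))) (.node (.node (.node (.node (.node (.leaf 505732520587) (.leaf 4420596142977)) (.leaf 3049964332181)) (.node (.leaf 1573569018266) (.leaf 2427194128138))) (.node (.node (.leaf 1809255421708) (.leaf 3478387468178)) (.node (.leaf 2604361415168) (.leaf 3897146894230)))) (.node (.node (.node (.leaf 1053340978825) (.leaf 3243237952655)) (.node (.leaf 2321430382727) (.leaf 3805341931539))) (.node (.node (.leaf 279173034776) (.leaf 3190087548948)) (.node (.leaf 2811056765573) (.leaf 4221953858574))))))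
def dF_194 : BT := .node (.node (.node (.node (.node (.node (.node (.leaf 98784267159) (.leaf 4264903541785)) (.leaf 2865817611652)) (.node (.leaf 329101950362) (.leaf 1196685906078))) (.node (.node (.leaf 1119913006976) (.leaf 2696166500999)) (.node (.leaf 2368138158721) (.leaf 3855270938269)))) (.node (.node (.node (.node (.leaf 476204591253) (.leaf 4445292211229)) (.leaf 3089155964176)) (.node (.leaf 1838783312015) (.leaf 3638911909149))) (.node (.node (.leaf 2032593755145) (.leaf 2384244338441)) (.node (.leaf 2624762514576) (.leaf 4057134449428))))) (.node (.node (.node (.node (.node (.leaf 384399664656) (.leaf 4366372171157)) (.leaf 2825552322708)) (.node (.leaf 510027488025) (.leaf 2453500744833))) (.node (.node (.leaf 228170530438) (.leaf 3353833398422)) (.node (.leaf 2503429659535) (.leaf 3963182017296)))) (.node (.node (.node (.leaf 780073621261) (.leaf 3197067043227)) (.node (.leaf 1277216384390) (.leaf 3760244764179))) (.node (.node (.leaf 1115618185742) (.leaf 2785287044099)) (.node (.leaf 2744484756509) (.leaf 4165582399386)))))) (.node (.node (.node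 (.node (.node (.node (.leaf 239981305871) (.leaf 4331475550725)) (.leaf 2932926491548)) (.node (.leaf 865435921182) (.leaf 3497714833024))) (.node (.node (.leaf 1383516669193) (.leaf 3336116636803)) (.node (.leaf 2436857650576) (.leaf 3738233091973)))) (.node (.node (.node (.leaf 521838675843) (.leaf 3143379873942)) (.node (.leaf 638339697793) (.leaf 3699578336659))) (.node (.node (.leaf 330712734474) (.leaf 3568044931868)) (.node (.leaf 2695629491855) (.leaf 4118337747854))))) (.node (.node (.node (.node (.node (.leaf 99321233152) (.leaf 4413616818189)) (.leaf 3029563232661)) (.node (.leaf 617401718548) (.leaf 2742337220493))) (.node (.node (.leaf 1844688889737) (.leaf 3470871273626)) (.node (.leaf 2400350462101) (.leaf 4005057938327)))) (.node (.node (.node (.leaf 1007170071172) (.leaf 3233574077063)) (.node (.leaf 2332704670101) (.leaf 3801046963227))) (.node (.node (.leaf 431107504015) (.leaf 2786897534469)) (.node (.leaf 2787434426134) (.leaf 4221416987547))))))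
def dF_201 : BT := .node (.node (.node (.node (.node (.node (.node (.leaf 115427273628) (.leaf 2662880742155)) (.leaf 2859912030096)) (.node (.leaf 51002767774) (.leaf 2518462180994))) (.node (.node (.leaf 1231582165789) (.leaf 2525978424726)) (.node (.leaf 2377264965149) (.leaf 3860102687622)))) (.node (.node (.node (.leaf 449897909910) (.leaf 2971581088770)) (.node (.leaf 1176284448654) (.leaf 3642132929164))) (.node (.node (.leaf 2073932827537) (.leaf 2563022412289)) (.node (.leaf 2642479258908) (.leaf 3648038815619))))) (.node (.node (.node (.node (.node (.leaf 112742918402) (.leaf 4374425236502)) (.leaf 3002182855707)) (.node (.leaf 819802287006) (.leaf 2944200736006))) (.node (.node (.leaf 1692753990408) (.leaf 3404836124180)) (.node (.leaf 2523830759069) (.leaf 3901978736798)))) (.node (.node (.node (.leaf 819802078099) (.leaf 3195456260501)) (.node (.leaf 1276679579159) (.leaf 3755412924816))) (.node (.node (.leaf 2201708119685) (.leaf 2723009953025)) (.node (.leaf 2739652917136) (.leaf 3966403289859)))))) (.node (.node (.node (.node (.node (.node (.leaf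 88583763214) (.leaf 4341139229572)) (.leaf 2493229213719)) (.node (.leaf 756451295387) (.leaf 3361349560584))) (.node (.node (.leaf 1416802674693) (.leaf 3347927612547)) (.node (.leaf 2444373845135) (.leaf 3915400494748)))) (.node (.node (.node (.leaf 636729053469) (.leaf 2421288460291)) (.node (.leaf 1389959096478) (.leaf 3703873304968))) (.node (.node (.leaf 1049046011272) (.leaf 3059091043970)) (.node (.leaf 2694018878734) (.leaf 4108674043779))))) (.node (.node (.node (.node (.node (.leaf 497679454099) (.leaf 2549601014408)) (.leaf 2850248397463)) (.node (.leaf 824097046426) (.leaf 3310346595597))) (.node (.node (.leaf 1866163339419) (.leaf 3296925097607)) (.node (.leaf 2580202218498) (.leaf 3561602520844)))) (.node (.node (.node (.leaf 1045287914113) (.leaf 3241090468506)) (.node (.leaf 2330020316544) (.leaf 2734284461954))) (.node (.node (.leaf 649614249859) (.leaf 2422362132225)) (.node (.leaf 2798171860509) (.leaf 4019016651276))))))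
def dF_209 : BT := .node (.node (.node (.node (.node (.node (.node (.leaf 105763594897) (.leaf 4014184827531)) (.leaf 2869038837784)) (.node (.leaf 92341860510) (.leaf 2848637616387))) (.node (.node (.leaf 1211717937420) (.leaf 3286187635865)) (.node (.leaf 2375654352015) (.leaf 3861176519813)))) (.node (.node (.node (.node (.leaf 111132379906) (.leaf 4446365953537)) (.leaf 3082176587540)) (.node (.leaf 763430618894) (.leaf 3641059393295))) (.node (.node (.leaf 2050847372940) (.leaf 2594697422210)) (.node (.leaf 2416993422090) (.leaf 4060892170499))))) (.node (.node (.node (.node (.node (.leaf 379030944536) (.leaf 4384625783695)) (.leaf 3005940953100)) (.node (.leaf 226559529246) (.leaf 2938295285662))) (.node (.node (.leaf 1674500773893) (.leaf 3406446748824)) (.node (.leaf 2518998919698) (.leaf 3881577641118)))) (.node (.node (.node (.leaf 137976017802) (.leaf 2814278082818)) (.node (.leaf 1903744707221) (.leaf 3758634151064))) (.node (.node (.leaf 1227287227924) (.leaf 3591667140109)) (.node (.leaf 2750927113735) (.leaf 4169339817357)))))) (.node (.node (.node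 (.node (.node (.node (.leaf 250718726927) (.leaf 4336844261137)) (.leaf 2931315878416)) (.node (.leaf 435402559115) (.leaf 2919504703255))) (.node (.node (.leaf 1385664156036) (.leaf 3346854063387)) (.node (.leaf 2442226360987) (.leaf 3908421171590)))) (.node (.node (.node (.leaf 624381021451) (.leaf 3134789990420)) (.node (.leaf 701690549527) (.leaf 3701725820819))) (.node (.node (.leaf 932544989598) (.leaf 3586835418258)) (.node (.leaf 2690260781465) (.leaf 4116727065481))))) (.node (.node (.node (.node (.node (.leaf 437549910682) (.leaf 4415764304015)) (.leaf 3041374441627)) (.node (.leaf 2024003820827) (.leaf 2809446055560))) (.node (.node (.leaf 1772748192909) (.leaf 3472481886736)) (.node (.leaf 2583960315544) (.leaf 4022774702736)))) (.node (.node (.node (.leaf 1038845246617) (.leaf 3240016726532)) (.node (.leaf 2340220862985) (.leaf 3616363369736))) (.node (.node (.leaf 410706280478) (.leaf 2823404323980)) (.node (.leaf 2796024376339) (.leaf 4215511406104))))))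
def dF_216 : BT := .node (.node (.node (.node (.node (.node (.node (.leaf 107911079057) (.leaf 4276177797517)) (.leaf 2876555032346)) (.node (.leaf 881005365389) (.leaf 2606509000478))) (.node (.node (.leaf 382789257733) (.leaf 3293166959501)) (.node (.leaf 2379949320087) (.leaf 3870303327371)))) (.node (.node (.node (.leaf 139049673749) (.leaf 3097745900819)) (.node (.leaf 529354845454) (.leaf 2481955096734))) (.node (.node (.leaf 2083596506259) (.leaf 3462817953792)) (.node (.leaf 2638721161614) (.leaf 2530273577352))))) (.node (.node (.node (.node (.node (.leaf 89657535488) (.leaf 4366372173463)) (.leaf 3007014695055)) (.node (.leaf 370441017627) (.leaf 2587181624330))) (.node (.node (.leaf 1635309202452) (.leaf 3420405395858)) (.node (.leaf 2521683274897) (.leaf 3976603793027)))) (.node (.node (.node (.leaf 824097046549) (.leaf 3186329556739)) (.node (.leaf 2310692601729) (.leaf 2335389360268))) (.node (.node (.leaf 2260227078528) (.leaf 2682207740685)) (.node (.leaf 2559264290307) (.leaf 4021700885261)))))) (.node (.node (.node (.node (.node (.node (.leaf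 98784312846) (.leaf 4306779490183)) (.leaf 2946885138586)) (.node (.leaf 1050119543553) (.leaf 2406256001288))) (.node (.node (.leaf 1432371934749) (.leaf 3355980871059)) (.node (.leaf 2454037523867) (.leaf 3911105526424)))) (.node (.node (.node (.leaf 640487122825) (.leaf 3150896133785)) (.node (.leaf 1250372504350) (.leaf 3721053178267))) (.node (.node (.leaf 900869605012) (.leaf 2401961250181)) (.node (.leaf 2457258806676) (.leaf 4104915946765))))) (.node (.node (.node (.node (.node (.leaf 507343132930) (.leaf 4419522401306)) (.leaf 3048890636186)) (.node (.leaf 638876537627) (.leaf 2960843757825))) (.node (.node (.leaf 1283658798490) (.leaf 3479461210257)) (.node (.leaf 2595771478528) (.leaf 3960497604126)))) (.node (.node (.node (.leaf 469762298632) (.leaf 3242164210577)) (.node (.leaf 2344515831810) (.leaf 2981245081612))) (.node (.node (.leaf 212600899353) (.leaf 2534031364482)) (.node (.leaf 2802466828933) (.leaf 4207458059016))))))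
def dF_225 : BT := .node (.node (.node (.node (.node (.node (.node (.leaf 2147508102) (.leaf 3743601886593)) (.leaf 2862596385308)) (.node (.leaf 812285883806) (.leaf 2742874076803))) (.node (.node (.leaf 1197222419712) (.leaf 3288335120029)) (.node (.leaf 1847373374359) (.leaf 3855807502087)))) (.node (.node (.node (.node (.leaf 382789072791) (.leaf 4238596910347)) (.leaf 3082713511694)) (.node (.leaf 2026151003660) (.leaf 3223910694536))) (.node (.node (.leaf 1350230829312) (.leaf 2886755568522)) (.node (.leaf 2621541288334) (.leaf 4060355675534))))) (.node (.node (.node (.node (.node (.leaf 35433488646) (.leaf 4377109167112)) (.leaf 2799245648906)) (.node (.leaf 238907759262) (.leaf 2592013441420))) (.node (.node (.leaf 1661615868940) (.leaf 3410204843277)) (.node (.leaf 2518462048669) (.leaf 1128503603341)))) (.node (.node (.node (.leaf 794569139333) (.leaf 3191161461786)) (.node (.leaf 1196685530261) (.leaf 3744675504028))) (.node (.node (.leaf 949724869766) (.leaf 3609920872989)) (.node (.leaf 2740189788187) (.leaf 4163971786265)))))) (.node (.node (.node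 (.node (.node (.node (.leaf 251792517893) (.leaf 4081830576901)) (.leaf 2930779007384)) (.node (.leaf 1775432547230) (.leaf 2483028560135))) (.node (.node (.leaf 1388348491414) (.leaf 3344169708292)) (.node (.leaf 2442763232133) (.leaf 3908958002308)))) (.node (.node (.node (.leaf 466540972549) (.leaf 3139084958740)) (.node (.leaf 1699196632085) (.leaf 3700652078747))) (.node (.node (.leaf 428423031820) (.leaf 3572339900176)) (.node (.leaf 2695092620826) (.leaf 2960307190792))))) (.node (.node (.node (.node (.node (.leaf 493921356807) (.leaf 4414690561549)) (.leaf 3042448183808)) (.node (.leaf 1824824664986) (.leaf 3481608526216))) (.node (.node (.leaf 1846299506578) (.leaf 3464965692185)) (.node (.leaf 2586107799708) (.leaf 3969624478594)))) (.node (.node (.node (.leaf 1023813073412) (.leaf 3129958144006)) (.node (.leaf 2338610250266) (.leaf 3692062168449))) (.node (.node (.leaf 1287416922910) (.leaf 2498597919390)) (.node (.leaf 2794950435968) (.leaf 4218732632346))))))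
def dF_232 : BT := .node (.node (.node (.node (.node (.node (.node (.leaf 112206047379) (.leaf 4275104091548)) (.leaf 2859375053826)) (.node (.leaf 92878896158) (.leaf 3223910493190))) (.node (.node (.leaf 1003948900879) (.leaf 3284039970196)) (.node (.leaf 2377801836438) (.leaf 3869229585297)))) (.node (.node (.node (.leaf 450434780935) (.leaf 3098282771869)) (.node (.leaf 1395327832975) (.leaf 3650186201092))) (.node (.node (.leaf 1806571113988) (.leaf 2759517216397)) (.node (.leaf 2637110548504) (.leaf 3767224158358))))) (.node (.node (.node (.node (.node (.leaf 356482370566) (.leaf 4385699506179)) (.leaf 3000572242584)) (.node (.leaf 627065630981) (.leaf 3462281203462))) (.node (.node (.leaf 20938369673) (.leaf 2921652319126)) (.node (.leaf 2522757016985) (.leaf 3976066922264)))) (.node (.node (.node (.leaf 821949562004) (.leaf 3190087550101)) (.node (.leaf 644245645076) (.leaf 3753802311695))) (.node (.node (.leaf 2257005390722) (.leaf 3020436522755)) (.node (.leaf 2746632227606) (.leaf 3699041575053)))))) (.node (.node (.node (.node (.node (.node (.leaf 261993068677)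 (.leaf 4341138775306)) (.leaf 2949569493779)) (.node (.leaf 98247589278) (.leaf 2422362247306))) (.node (.node (.leaf 1425929482259) (.leaf 2861522757510)) (.node (.leaf 2458332492187) (.leaf 3913253010586)))) (.node (.node (.node (.leaf 638876537617) (.leaf 3139084800386)) (.node (.leaf 1276679404062) (.leaf 3707631402368))) (.node (.node (.leaf 1052804124813) (.leaf 3279744886156)) (.node (.leaf 2450816354199) (.leaf 2942590447755))))) (.node (.node (.node (.node (.node (.leaf 8053183887) (.leaf 2826626405257)) (.leaf 2901788005255)) (.node (.leaf 517543682586) (.leaf 3169149625608))) (.node (.node (.leaf 922344655257) (.leaf 3316252449301)) (.node (.leaf 2588255283851) (.leaf 3939559067015)))) (.node (.node (.node (.leaf 1047435399424) (.leaf 2428267909382)) (.node (.leaf 2342904813059) (.leaf 3811247513100))) (.node (.node (.leaf 835908500490) (.leaf 2473901740039)) (.node (.leaf 2360622067591) (.leaf 4002910523797))))))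
def dF_240 : BT := .node (.node (.node (.node (.node (.node (.node (.leaf 112206047493) (.leaf 4268124689420)) (.leaf 2865817611539)) (.node (.leaf 1950989033886) (.leaf 769336821773))) (.node (.node (.leaf 1227824068621) (.leaf 3281892667538)) (.node (.leaf 163209323906) (.leaf 2903935684894)))) (.node (.node (.node (.node (.leaf 355408650118) (.leaf 4448513437444)) (.leaf 2426120360838)) (.node (.leaf 161061312014) (.leaf 3647501845778))) (.node (.node (.leaf 2061584793729) (.leaf 2385318071700)) (.node (.leaf 2415919729175) (.leaf 4061966288659))))) (.node (.node (.node (.node (.node (.leaf 242128839042) (.leaf 4378720107142)) (.leaf 3003793468828)) (.node (.leaf 523449264027) (.leaf 2908230312842))) (.node (.node (.leaf 1629940491141) (.leaf 3408594221460)) (.node (.leaf 2513630209294) (.leaf 3883188192896)))) (.node (.node (.node (.leaf 814433368213) (.leaf 3191161461776)) (.node (.leaf 1276679579018) (.leaf 3757023537939))) (.node (.node (.leaf 2217277395206) (.leaf 3550864930826)) (.node (.leaf 2746095369618) (.leaf 4161287328012)))))) (.node (.node (.node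 (.node (.node (.node (.leaf 259308666905) (.leaf 4336307341854)) (.leaf 2554969302022)) (.node (.leaf 88583738368) (.leaf 2868501953300))) (.node (.node (.leaf 1365263065240) (.leaf 3339874739859)) (.node (.leaf 2440078876819) (.leaf 3924527302533)))) (.node (.node (.node (.leaf 634581567124) (.leaf 2805151209478)) (.node (.leaf 1967632361624) (.leaf 3702799502089))) (.node (.node (.leaf 881542233740) (.leaf 2578591143820)) (.node (.leaf 2687576426258) (.leaf 2868502263177))))) (.node (.node (.node (.node (.node (.leaf 479962709764) (.leaf 4416838046097)) (.leaf 3043521925775)) (.node (.leaf 761283134746) (.leaf 2706903978117))) (.node (.node (.leaf 1866700606213) (.leaf 3466039434254)) (.node (.leaf 2583423444496) (.leaf 3923453554182)))) (.node (.node (.node (.leaf 1040992946964) (.leaf 3247532920988)) (.node (.leaf 2340757581446) (.leaf 3803731318401))) (.node (.node (.leaf 210990767134) (.leaf 2478196597900)) (.node (.leaf 2797634806409) (.leaf 4219806362518))))))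
def dF_247 : BT := .node (.node (.node (.node (.node (.node (.node (.leaf 123480339332) (.leaf 4278862188935)) (.leaf 2871186321938)) (.node (.leaf 926639297669) (.leaf 3070902318238))) (.node (.node (.leaf 1251983265418) (.leaf 3299072540828)) (.node (.leaf 2355253262214) (.leaf 3674882315649)))) (.node (.node (.node (.leaf 341450003351) (.leaf 2875481323398)) (.node (.leaf 537407911055) (.leaf 3536369569162))) (.node (.node (.leaf 23622818688) (.leaf 3386045439242)) (.node (.leaf 2646237356292) (.leaf 4065724385947))))) (.node (.node (.node (.node (.node (.leaf 344671222170) (.leaf 4386773170434)) (.leaf 3003793468817)) (.node (.leaf 18790594718) (.leaf 2893198038145))) (.node (.node (.leaf 1700270582411) (.leaf 3420405276439)) (.node (.leaf 2530810082692) (.leaf 3894999392662)))) (.node (.node (.node (.leaf 826244530688) (.leaf 3194919493379)) (.node (.leaf 1129576950026) (.leaf 632971701022))) (.node (.node (.leaf 2262374563082) (.leaf 2417530382477)) (.node (.leaf 2454574464533) (.leaf 4172561722909)))))) (.node (.node (.node (.node (.node (.node (.leaf 280783554061)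 (.leaf 4345971068932)) (.leaf 2942053299225)) (.node (.leaf 90731223810) (.leaf 2695092808198))) (.node (.node (.leaf 17717084187) (.leaf 3355444000018)) (.node (.leaf 2449205684504) (.leaf 1847910614925)))) (.node (.node (.node (.leaf 642634634908) (.leaf 2640331895811)) (.node (.leaf 1316407480459) (.leaf 3719979436187))) (.node (.node (.leaf 1169305125127) (.leaf 2902324710924)) (.node (.leaf 2696166362909) (.leaf 3891778224394))))) (.node (.node (.node (.node (.node (.leaf 510564359069) (.leaf 4421133014419)) (.leaf 3049964378254)) (.node (.leaf 1380832314907) (.leaf 2474438623497))) (.node (.node (.leaf 1886564834693) (.leaf 2849711629826)) (.node (.leaf 2603287672988) (.leaf 3892851910540)))) (.node (.node (.node (.leaf 1046898530049) (.leaf 3246996037526)) (.node (.leaf 2345052702978) (.leaf 3812321085568))) (.node (.node (.leaf 649613870110) (.leaf 2432562875399)) (.node (.leaf 2816425475859) (.leaf 3711926492166))))))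
def dF_259 : BT := .node (.node (.node (.node (.node (.node (.node (.leaf 88583723656) (.leaf 4264903483797)) (.leaf 2854006448655)) (.node (.leaf 750545649822) (.leaf 2349884581639))) (.node (.node (.leaf 1189706211081) (.leaf 2515777874965)) (.node (.leaf 1895154885124) (.leaf 3856881551488)))) (.node (.node (.node (.node (.leaf 49929114370) (.leaf 4444755340189)) (.leaf 3089155964178)) (.node (.leaf 1831803988495) (.leaf 3637838167059))) (.node (.node (.leaf 2029909402368) (.leaf 1902671187724)) (.node (.leaf 2621541288338) (.leaf 4059818797697))))) (.node (.node (.node (.node (.node (.leaf 384936535699) (.leaf 4376035847066)) (.leaf 2991982305937)) (.node (.leaf 105763594905) (.leaf 3061238642177))) (.node (.node (.leaf 1643362251913) (.leaf 3401614909457)) (.node (.leaf 2501819046416) (.leaf 3715684525952)))) (.node (.node (.node (.leaf 706522304640) (.leaf 3191698332929)) (.node (.leaf 637803048960) (.leaf 3752191698701))) (.node (.node (.leaf 1184337764375) (.leaf 2477659997589)) (.node (.leaf 2350421508885) (.leaf 4160750560029)))))) (.node (.node (.node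 (.node (.node (.node (.leaf 102005532314) (.leaf 4328254324508)) (.leaf 2933463362688)) (.node (.leaf 1219771082910) (.leaf 2633889413900))) (.node (.node (.leaf 1377611089163) (.leaf 3332895416338)) (.node (.leaf 2435783908504) (.leaf 3870303336200)))) (.node (.node (.node (.leaf 624381019537) (.leaf 3141769326095)) (.node (.leaf 1324460897943) (.leaf 3699041262856))) (.node (.node (.leaf 2090575415680) (.leaf 3582003578905)) (.node (.leaf 2685428942212) (.leaf 4113505908497))))) (.node (.node (.node (.node (.node (.leaf 468151537816) (.leaf 4413079948819)) (.leaf 2833068442627)) (.node (.leaf 461709154060) (.leaf 3180424129159))) (.node (.node (.leaf 1842004538368) (.leaf 3470334402589)) (.node (.leaf 2574296636814) (.leaf 2670396872200)))) (.node (.node (.node (.leaf 931471270404) (.leaf 2404108714244)) (.node (.leaf 2337536508175) (.leaf 3800510092187))) (.node (.node (.leaf 185220943875) (.leaf 2437931562782)) (.node (.leaf 2734284220308) (.leaf 4219269503492))))))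
def dF_266 : BT := .node (.node (.node (.node (.node (.node (.node (.leaf 118648499972) (.leaf 4267051025934)) (.leaf 2859375159059)) (.node (.leaf 22548735646) (.leaf 2386928685963))) (.node (.node (.leaf 1234266521101) (.leaf 3281892667536)) (.node (.leaf 2376728094109) (.leaf 3868155843225)))) (.node (.node (.node (.node (.leaf 446676683655) (.leaf 4408248119180)) (.leaf 2974802358151)) (.node (.leaf 1129576668174) (.leaf 2925947338880))) (.node (.node (.leaf 2068027246208) (.leaf 2795487665037)) (.node (.leaf 2637647419649) (.leaf 2932926760836))))) (.node (.node (.node (.node (.node (.leaf 37044101767) (.leaf 4378720202267)) (.leaf 2997351016348)) (.node (.leaf 205084792845) (.leaf 2382633676682))) (.node (.node (.leaf 1666447713818) (.leaf 3407520479383)) (.node (.leaf 2525441372293) (.leaf 3969087536276)))) (.node (.node (.node (.leaf 818191464977) (.leaf 3194919559055)) (.node (.leaf 644782515607) (.leaf 3750581085459))) (.node (.node (.leaf 2215666525717) (.leaf 2444373868291)) (.node (.leaf 2739652917138) (.leaf 4002910511895)))))) (.node (.node (.node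 (.node (.node (.node (.leaf 260382411023) (.leaf 4333085718792)) (.leaf 2928631389830)) (.node (.leaf 49929306270) (.leaf 3395709180547))) (.node (.node (.leaf 1403380898588) (.leaf 3343632837136)) (.node (.leaf 2440615747856) (.leaf 3925601044507)))) (.node (.node (.node (.leaf 635118440348) (.leaf 2531346976006)) (.node (.leaf 1837172543622) (.leaf 3703336433939))) (.node (.node (.leaf 933618783885) (.leaf 2851858450828)) (.node (.leaf 2692945136656) (.leaf 4110284282251))))) (.node (.node (.node (.node (.node (.leaf 498216325260) (.leaf 2696166773258)) (.leaf 2848637673222)) (.node (.leaf 701153578266) (.leaf 3506841410304))) (.node (.node (.leaf 1862405617945) (.leaf 3323768643861)) (.node (.leaf 2583960315535) (.leaf 4020627218307)))) (.node (.node (.node (.leaf 1019518110722) (.leaf 3241090468508)) (.node (.leaf 2341831476495) (.leaf 2357401081607))) (.node (.node (.leaf 210990768130) (.leaf 2545842458647)) (.node (.leaf 2375117581716) (.leaf 4219269503378))))))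
def dF_274 : BT := .node (.node (.node (.node (.node (.node (.node (.leaf 104152957199) (.leaf 4266514147585)) (.leaf 2867965095706)) (.node (.leaf 186831105920) (.leaf 2463163897740))) (.node (.node (.leaf 470836076300) (.leaf 3281892667549)) (.node (.leaf 2374043738897) (.leaf 3854196977664)))) (.node (.node (.node (.node (.leaf 112206100099) (.leaf 4446902824322)) (.leaf 2867428277782)) (.node (.leaf 578210455430) (.leaf 3641059393412))) (.node (.node (.leaf 2040109952140) (.leaf 1901597491980)) (.node (.leaf 2422899052566) (.leaf 4023311582603))))) (.node (.node (.node (.node (.node (.leaf 358092989595) (.leaf 4379257073421)) (.leaf 2995203532300)) (.node (.leaf 426275809802) (.leaf 2447058204288))) (.node (.node (.leaf 1666447708288) (.leaf 3409667975068)) (.node (.leaf 2517925177626) (.leaf 3969624469789)))) (.node (.node (.node (.leaf 801011591812) (.leaf 3195456430104)) (.node (.leaf 1130650322689) (.leaf 3753802311707))) (.node (.node (.leaf 1220308118924) (.leaf 3610994615059)) (.node (.leaf 2746632240665) (.leaf 4157529333785)))))) (.node (.node (.node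 (.node (.node (.node (.leaf 253940001936) (.leaf 4286378394390)) (.leaf 2931852749458)) (.node (.leaf 21474841626) (.leaf 2663954070660))) (.node (.node (.leaf 1390495993619) (.leaf 3350075289615)) (.node (.leaf 2445447587229) (.leaf 3908421116822)))) (.node (.node (.node (.leaf 11274439560) (.leaf 3137474292501)) (.node (.leaf 760746351639) (.leaf 3700115192453))) (.node (.node (.leaf 469762263838) (.leaf 3571266158094)) (.node (.leaf 2688650168346) (.leaf 4119411478029))))) (.node (.node (.node (.node (.node (.leaf 488015775379) (.leaf 4415227432333)) (.leaf 2852395881620)) (.node (.leaf 1839857054107) (.leaf 3233037258760))) (.node (.node (.leaf 1847373248668) (.leaf 3472481886738)) (.node (.leaf 2587181541786) (.leaf 4003984077704)))) (.node (.node (.node (.leaf 1030255525893) (.leaf 2798171965056)) (.node (.leaf 132070802186) (.leaf 3786551448982))) (.node (.node (.leaf 972810231823) (.leaf 2641405537537)) (.node (.leaf 2332704779137) (.leaf 4212290179866))))))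
def dF_281 : BT := .node (.node (.node (.node (.node (.node (.node (.leaf 118648499857) (.leaf 4276177833624)) (.leaf 2876555032452)) (.node (.leaf 447213571742) (.leaf 2786897672714))) (.node (.node (.leaf 15569553305) (.leaf 3281892654869)) (.node (.leaf 2379412449290) (.leaf 3869766456335)))) (.node (.node (.node (.leaf 466004041479) (.leaf 3096672158746)) (.node (.leaf 1624571767055) (.leaf 1900523900173))) (.node (.node (.leaf 2079838409091) (.leaf 2684892032140)) (.node (.leaf 2638721161618) (.leaf 4064113772815))))) (.node (.node (.node (.node (.node (.leaf 116501068422) (.leaf 4385699520662)) (.leaf 2994129790104)) (.node (.leaf 47781522586) (.leaf 2383707583774))) (.node (.node (.leaf 1639604169610) (.leaf 3421479137947)) (.node (.leaf 2524367630098) (.leaf 3976066906645)))) (.node (.node (.node (.leaf 823023303956) (.leaf 3188476950146)) (.node (.leaf 2310155938048) (.leaf 3747359859215))) (.node (.node (.leaf 2258615948802) (.leaf 3132642523661)) (.node (.leaf 2688650181396) (.leaf 4155918708102)))))) (.node (.node (.node (.node (.node (.node (.leaf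 93952473614) (.leaf 4341139229446)) (.leaf 2945274525469)) (.node (.leaf 169651248666) (.leaf 2583423506462))) (.node (.node (.leaf 1433445676940) (.leaf 3338263920643)) (.node (.leaf 2452426910748) (.leaf 3921842947224)))) (.node (.node (.node (.leaf 638339666824) (.leaf 3144990552452)) (.node (.leaf 1319629047070) (.leaf 3714073854849))) (.node (.node (.leaf 885837219589) (.leaf 2450816501534)) (.node (.leaf 2446521385876) (.leaf 4105989631370))))) (.node (.node (.node (.node (.node (.leaf 506269310217) (.leaf 4420058830731)) (.leaf 3051038120452)) (.node (.leaf 162671925147) (.leaf 2674691521288))) (.node (.node (.leaf 1870995574541) (.leaf 3461744293506)) (.node (.leaf 2379412499223) (.leaf 3764539683591)))) (.node (.node (.node (.leaf 1048509139476) (.leaf 3243237952659)) (.node (.leaf 2343978960657) (.leaf 3617437114246))) (.node (.node (.leaf 76235710344) (.leaf 2669322912258)) (.node (.leaf 2414846029827) (.leaf 4207994933386))))))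
def dF_290 : BT := .node (.node (.node (.node (.node (.node (.node (.leaf 100394884499) (.leaf 3706557793542)) (.leaf 2814814876035)) (.node (.leaf 49928997398) (.leaf 2319283121286))) (.node (.node (.leaf 1188632484233) (.leaf 3284577022852)) (.node (.leaf 2368675029760) (.leaf 3854197196185)))) (.node (.node (.node (.node (.leaf 335544421911) (.leaf 4422206762124)) (.leaf 3082713511696)) (.node (.leaf 2030446273294) (.leaf 2376191524237))) (.node (.node (.leaf 2033130611339) (.leaf 1277216588167)) (.node (.leaf 2632278709134) (.leaf 4056060666901))))) (.node (.node (.node (.node (.node (.leaf 388694632962) (.leaf 4377645980940)) (.leaf 2934000247047)) (.node (.leaf 1313186567454) (.leaf 2833068384267))) (.node (.node (.leaf 1650878448140) (.leaf 2780992134663)) (.node (.leaf 2513630209412) (.leaf 3964255759374)))) (.node (.node (.node (.leaf 786516073740) (.leaf 3191161461788)) (.node (.leaf 1829119681156) (.leaf 3755412924828))) (.node (.node (.leaf 954556924311) (.leaf 2546916323725)) (.node (.leaf 2750927208987) (.leaf 4159139946906)))))) (.node (.node (.node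 (.node (.node (.node (.leaf 234612595471) (.leaf 4148402569502)) (.leaf 2934000233626)) (.node (.leaf 144418309784) (.leaf 2483028727680))) (.node (.node (.leaf 1385127269003) (.leaf 3333432185094)) (.node (.leaf 2436320779535) (.leaf 3907884056968)))) (.node (.node (.node (.leaf 578210121857) (.leaf 2632278830595)) (.node (.leaf 824633873921) (.leaf 3700652078465))) (.node (.node (.leaf 1871532480921) (.leaf 3572339900184)) (.node (.leaf 2693482007709) (.leaf 4111895295374))))) (.node (.node (.node (.node (.node (.leaf 485868291329) (.leaf 4414153690371)) (.leaf 2891587351555)) (.node (.leaf 1838246440987) (.leaf 2407330006533))) (.node (.node (.leaf 1845225761163) (.leaf 3464428821146)) (.node (.leaf 2583960315653) (.leaf 4006131701376)))) (.node (.node (.node (.leaf 1013612523653) (.leaf 3234647861383)) (.node (.leaf 1839857173120) (.leaf 3801583834256))) (.node (.node (.leaf 878321360896) (.leaf 2493765981079)) (.node (.leaf 2786897511831) (.leaf 4215511406108))))))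
def dF_297 : BT := .node (.node (.node (.node (.node (.node (.node (.leaf 108984821148) (.leaf 4274030349573)) (.leaf 2864743869455)) (.node (.leaf 536907547) (.leaf 2401424158467))) (.node (.node (.leaf 1228360939536) (.leaf 3286187454356)) (.node (.leaf 2378338707224) (.leaf 3073586893570)))) (.node (.node (.node (.leaf 378494104455) (.leaf 3094524674692)) (.node (.leaf 1405528382734) (.leaf 3642133135376))) (.node (.node (.leaf 2065342890897) (.leaf 2385854951172)) (.node (.leaf 2641942387867) (.leaf 4063040030745))))) (.node (.node (.node (.node (.node (.leaf 357019188867) (.leaf 3481608910089)) (.leaf 2995740403227)) (.node (.leaf 539555671426) (.leaf 2833605366918))) (.node (.node (.leaf 1693291260296) (.leaf 3416110427661)) (.node (.leaf 2525441372186) (.leaf 3978214406427)))) (.node (.node (.node (.leaf 820875820177) (.leaf 2483565600660)) (.node (.leaf 2309082343059) (.leaf 3748970472336))) (.node (.node (.leaf 2253784106649) (.leaf 2681134042014)) (.node (.leaf 2743947885454) (.leaf 4158603063700)))))) (.node (.node (.node (.node (.node (.node (.leaf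 89657505294) (.leaf 4300337040276)) (.leaf 2941516428293)) (.node (.leaf 49929006747) (.leaf 3497177954568))) (.node (.node (.leaf 1423245127173) (.leaf 3139621890950)) (.node (.leaf 2450279426693) (.leaf 3923990431386)))) (.node (.node (.node (.leaf 637265922695) (.leaf 2863133151106)) (.node (.leaf 1268626324373) (.leaf 3704410176027))) (.node (.node (.leaf 1053340978836) (.leaf 2579128542723)) (.node (.leaf 2687576426254) (.leaf 4018479758215))))) (.node (.node (.node (.node (.node (.leaf 496068733335) (.leaf 4417374917149)) (.leaf 2608656418439)) (.node (.leaf 821412691227) (.leaf 2408403654539))) (.node (.node (.leaf 138513138201) (.leaf 3295314484482)) (.node (.leaf 2586107757460) (.leaf 3561065646110)))) (.node (.node (.node (.leaf 1046361656705) (.leaf 3245385436824)) (.node (.leaf 2341294605719) (.leaf 3634080110484))) (.node (.node (.leaf 836445390218) (.leaf 2915209701662)) (.node (.leaf 2799245510530) (.leaf 4211216413588))))))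
def dF_305 : BT := .node (.node (.node (.node (.node (.node (.node (.leaf 7516218252) (.leaf 4051765790878)) (.leaf 2862596385304)) (.node (.leaf 420906898200) (.leaf 2332704856333))) (.node (.node (.leaf 1218160126605) (.leaf 3288871991057)) (.node (.leaf 2375117480984) (.leaf 3867618972292)))) (.node (.node (.node (.node (.leaf 423054304902) (.leaf 4447439689997)) (.leaf 2862059567381)) (.node (.leaf 827318272654) (.leaf 2440616034316))) (.node (.node (.leaf 2055678814873) (.leaf 1274532311181)) (.node (.leaf 2422362181525) (.leaf 3940633462293))))) (.node (.node (.node (.node (.node (.leaf 339839377305) (.leaf 4048007720734)) (.leaf 644782682882)) (.node (.leaf 33823253150) (.leaf 2567317424263))) (.node (.node (.leaf 1680943226373) (.leaf 3408594232979)) (.node (.leaf 2518462048657) (.leaf 3960497608836)))) (.node (.node (.node (.leaf 814433367808) (.leaf 3191698332819)) (.node (.leaf 1129039995271) (.leaf 3752191698584))) (.node (.node (.leaf 2216740267286) (.leaf 2436857629324)) (.node (.leaf 2750927112726) (.leaf 2327336396318)))))) (.node (.node (.node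 (.node (.node (.node (.leaf 249108162307) (.leaf 4335233648028)) (.leaf 2931852749455)) (.node (.leaf 435402315266) (.leaf 2538863134868))) (.node (.node (.leaf 1399085930373) (.leaf 3349538418575)) (.node (.leaf 2443300103065) (.leaf 3913789881732)))) (.node (.node (.node (.leaf 625454763529) (.leaf 2859912095380)) (.node (.leaf 1963337229318) (.leaf 3701188949777))) (.node (.node (.leaf 898722159372) (.leaf 2463701417758)) (.node (.leaf 2683818328985) (.leaf 4103842232853))))) (.node (.node (.node (.node (.node (.leaf 489626388486) (.leaf 4416301174913)) (.leaf 2902324722947)) (.node (.leaf 1961726780187) (.leaf 3372623873673))) (.node (.node (.leaf 1855963185412) (.leaf 3466039434256)) (.node (.leaf 2587181541779) (.leaf 4020090347549)))) (.node (.node (.node (.leaf 14495762816) (.leaf 3246459179013)) (.node (.leaf 2333241541527) (.leaf 3639448819200))) (.node (.node (.leaf 358629781268) (.leaf 3149822313351)) (.node (.leaf 2370285743233) (.leaf 4209068953624))))))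
def dF_312 : BT := .node (.node (.node (.node (.node (.node (.node (.leaf 16106154520) (.leaf 4273493478418)) (.leaf 2876018161305)) (.node (.leaf 208843289502) (.leaf 2744484888222))) (.node (.node (.leaf 1249298910097) (.leaf 3299609411980)) (.node (.leaf 2385854901901) (.leaf 3870840198417)))) (.node (.node (.node (.leaf 431644294275) (.leaf 3095598416657)) (.node (.leaf 534186684815) (.leaf 3648038669056))) (.node (.node (.leaf 231391860739) (.leaf 2500745383691)) (.node (.leaf 2637110499479) (.leaf 4064650643869))))) (.node (.node (.node (.node (.node (.leaf 396747698689) (.leaf 4387310123778)) (.leaf 3001645984659)) (.node (.leaf 33286002188) (.leaf 2501819066900))) (.node (.node (.leaf 1691680648598) (.leaf 3418257911696)) (.node (.leaf 2523293888014) (.leaf 3978751277457)))) (.node (.node (.node (.leaf 765041246472) (.leaf 3184718842754)) (.node (.leaf 2311229578125) (.leaf 2733747577481))) (.node (.node (.leaf 2257542724229) (.leaf 2736968644354)) (.node (.leaf 2448668883094) (.leaf 3882651431169)))))) (.node (.node (.node (.node (.node (.node (.leaf 266288037899)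 (.leaf 4342212971537)) (.leaf 2940442686106)) (.node (.leaf 88583721627) (.leaf 3127273661214))) (.node (.node (.leaf 383863045402) (.leaf 3355444000026)) (.node (.leaf 2447595071387) (.leaf 3920232334099)))) (.node (.node (.node (.leaf 642097760265) (.leaf 3098819655189)) (.node (.leaf 1321776543390) (.leaf 3715147596828))) (.node (.node (.leaf 1045824788116) (.leaf 2587718439814)) (.node (.leaf 2700998202372) (.leaf 2732673920651))))) (.node (.node (.node (.node (.node (.leaf 508953745939) (.leaf 4420595659656)) (.leaf 2410014251399)) (.node (.leaf 644782119067) (.leaf 2736968605313))) (.node (.node (.leaf 987842925082) (.leaf 2902324979719)) (.node (.leaf 2602213931009) (.leaf 3897146836107)))) (.node (.node (.node (.leaf 1050656625684) (.leaf 3245385436815)) (.node (.leaf 2345589469697) (.leaf 3805341822592))) (.node (.node (.leaf 1777579598348) (.leaf 3190087541763)) (.node (.leaf 2808909281412) (.leaf 4207458316311))))))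
def dF_322 : BT := .node (.node (.node (.node (.node (.node (.node (.leaf 92341820308) (.leaf 4262756057625)) (.leaf 2863670127493)) (.node (.leaf 329101947534) (.leaf 3059628003742))) (.node (.node (.leaf 470836074123) (.leaf 3118683908867)) (.node (.leaf 2345052709509) (.leaf 3856881551386)))) (.node (.node (.node (.node (.leaf 497142561301) (.leaf 4445292209676)) (.leaf 3091303448336)) (.node (.leaf 1840930796174) (.leaf 3638911909130))) (.node (.node (.leaf 2030983144338) (.leaf 2384244273283)) (.node (.leaf 2626909998736) (.leaf 4057134449294))))) (.node (.node (.node (.node (.node (.leaf 386547148816) (.leaf 4155918773634)) (.leaf 2826626064788)) (.node (.leaf 6442452505) (.leaf 2745558521089))) (.node (.node (.leaf 1646046608780) (.leaf 3200288317442)) (.node (.leaf 2505577143695) (.leaf 3961034533136)))) (.node (.node (.node (.leaf 777926137101) (.leaf 2921652265351)) (.node (.leaf 1962800476546) (.leaf 3608310296072))) (.node (.node (.leaf 2233383084826) (.leaf 2533494463508)) (.node (.leaf 2746632240669) (.leaf 4167729883546)))))) (.node (.node (.node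 (.node (.node (.node (.leaf 244276274191) (.leaf 4330938571934)) (.leaf 2935073975708)) (.node (.leaf 815507109775) (.leaf 3156264724867))) (.node (.node (.leaf 1382442927625) (.leaf 3332895416334)) (.node (.leaf 2433099553299) (.leaf 3804268214145)))) (.node (.node (.node (.leaf 507343161100) (.leaf 3133179389455)) (.node (.leaf 639413453451) (.leaf 3238943094154))) (.node (.node (.leaf 109521947916) (.leaf 3570192416028)) (.node (.leaf 2694018878852) (.leaf 4104915971857))))) (.node (.node (.node (.node (.node (.leaf 9663787286) (.leaf 4412543077911)) (.leaf 2834142162691)) (.node (.leaf 617938566804) (.leaf 2355253461772))) (.node (.node (.leaf 1843078280338) (.leaf 3473018757786)) (.node (.leaf 2398202977941) (.leaf 4005057928966)))) (.node (.node (.node (.leaf 1005022587013) (.leaf 3228204977158)) (.node (.leaf 1837172818309) (.leaf 3613679014932))) (.node (.node (.leaf 431107828362) (.leaf 2971044335364)) (.node (.leaf 2787434259596) (.leaf 4171487992724))))))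
def dF_329 : BT := .node (.node (.node (.node (.node (.node (.node (.leaf 117574757788) (.leaf 4272419736337)) (.leaf 2862059514256)) (.node (.leaf 771483768971) (.leaf 1196686044163))) (.node (.node (.leaf 1228897810589) (.leaf 3234648028695)) (.node (.leaf 2376191223316) (.leaf 3860102777624)))) (.node (.node (.node (.node (.leaf 359166747394) (.leaf 4449050308373)) (.leaf 2626910087686)) (.node (.leaf 1178431932814) (.leaf 3642669835157))) (.node (.node (.leaf 2074469698578) (.leaf 2687039474964)) (.node (.leaf 2437394570646) (.leaf 2482492065676))))) (.node (.node (.node (.node (.node (.leaf 226022707842) (.leaf 3955665925132)) (.leaf 3004330339867)) (.node (.leaf 111132683652) (.leaf 2501282280597))) (.node (.node (.leaf 1692217518097) (.leaf 3204046414722)) (.node (.leaf 2525978243229) (.leaf 3882651384468)))) (.node (.node (.node (.leaf 819802077825) (.leaf 3186329622415)) (.node (.leaf 2308545472017) (.leaf 3757560408976))) (.node (.node (.leaf 2091649598085) (.leaf 2816962476574)) (.node (.leaf 2741800401296) (.leaf 4121022112286)))))) (.node (.node (.node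 (.node (.node (.node (.leaf 262529938061) (.leaf 4338991745413)) (.leaf 2930242123796)) (.node (.leaf 88583703956) (.leaf 2976412775565))) (.node (.node (.leaf 1414655190532) (.leaf 2813741248259)) (.node (.leaf 2442226360975) (.leaf 3917547978908)))) (.node (.node (.node (.leaf 376883531915) (.leaf 2770791367427)) (.node (.leaf 1902133791879) (.leaf 3048353921419))) (.node (.node (.leaf 890669053461) (.leaf 2836826733836)) (.node (.leaf 2684355200016) (.leaf 4116727132830))))) (.node (.node (.node (.node (.node (.leaf 499826938259) (.leaf 4417911788185)) (.leaf 2937221484295)) (.node (.leaf 765578103066) (.leaf 2407329857933))) (.node (.node (.leaf 208306358426) (.leaf 3322158030741)) (.node (.leaf 2581812789143) (.leaf 3562139430157)))) (.node (.node (.node (.leaf 1044751043857) (.leaf 3243237952666)) (.node (.leaf 2341294605454) (.leaf 3804267933194))) (.node (.node (.leaf 42412877982) (.leaf 2492692252037)) (.node (.leaf 2359548325396) (.leaf 4176319829022))))))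
def dF_337 : BT := .node (.node (.node (.node (.node (.node (.node (.leaf 1073767047) (.leaf 2647848356488)) (.leaf 2859375159066)) (.node (.leaf 506269394334) (.leaf 1845762767380))) (.node (.node (.leaf 1209570453261) (.leaf 3288335120025)) (.node (.leaf 1127966352391) (.leaf 3856881551368)))) (.node (.node (.node (.node (.leaf 331786324628) (.leaf 4446365953540)) (.leaf 3082713445254)) (.node (.leaf 768799329295) (.leaf 3641596264349))) (.node (.node (.leaf 2048699888780) (.leaf 2350421506573)) (.node (.leaf 2416456599808) (.leaf 4060892546718))))) (.node (.node (.node (.node (.node (.leaf 379030948762) (.leaf 3746286269314)) (.leaf 3003793468940)) (.node (.leaf 876710346398) (.leaf 3106872739230))) (.node (.node (.leaf 1672353289732) (.leaf 3408594232984)) (.node (.leaf 2515240822425) (.leaf 3738233107102)))) (.node (.node (.node (.leaf 809601528453) (.leaf 3186866493464)) (.node (.leaf 1901060338187) (.leaf 3745212375067))) (.node (.node (.leaf 1357209958550) (.leaf 3610994615055)) (.node (.leaf 2353105863424) (.leaf 4169877355413)))))) (.node (.node (.node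 (.node (.node (.node (.leaf 252866211087) (.leaf 3551402116877)) (.leaf 2933463362576)) (.node (.leaf 293131548190) (.leaf 2919504729093))) (.node (.node (.leaf 472983605516) (.leaf 3349001547547)) (.node (.leaf 2444373845147) (.leaf 3910031319821)))) (.node (.node (.node (.leaf 631897214099) (.leaf 3135326808341)) (.node (.leaf 702227423883) (.leaf 3188477228811))) (.node (.node (.leaf 937913747460) (.leaf 3586835208204)) (.node (.leaf 2692408265625) (.leaf 3823595616904))))) (.node (.node (.node (.node (.node (.leaf 492847614736) (.leaf 4413616820354)) (.leaf 3043521925787)) (.node (.leaf 2033130628506) (.leaf 3076271059337))) (.node (.node (.leaf 1850594456975) (.leaf 3463891950098)) (.node (.leaf 2586107799704) (.leaf 4022237831812)))) (.node (.node (.node (.leaf 1037771695003) (.leaf 3237869242373)) (.node (.leaf 2339683992345) (.leaf 3802120701463))) (.node (.node (.leaf 577136556190) (.leaf 2913599137159)) (.node (.leaf 702764690434) (.leaf 4217658890264))))))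
def dF_344 : BT := .node (.node (.node (.node (.node (.node (.node (.leaf 110058563217) (.leaf 3887483292830)) (.leaf 2872796935069)) (.node (.leaf 381715504158) (.leaf 2451353170846))) (.node (.node (.leaf 1247151425939) (.leaf 3291019475341)) (.node (.leaf 2379949320348) (.leaf 3433290404998)))) (.node (.node (.node (.leaf 466003954196) (.leaf 3098819642895)) (.node (.leaf 565862076175) (.leaf 642098481822))) (.node (.node (.leaf 2085743990419) (.leaf 3106872668032)) (.node (.leaf 2640868645774) (.leaf 4064650277893))))) (.node (.node (.node (.node (.node (.leaf 301721524486) (.leaf 4377646462613)) (.leaf 3007551484679)) (.node (.leaf 472446504204) (.leaf 2587181510529))) (.node (.node (.leaf 1696512472855) (.leaf 3422016008977)) (.node (.leaf 2523830759057) (.leaf 3975530051218)))) (.node (.node (.node (.leaf 758598795271) (.leaf 3186329452822)) (.node (.leaf 2310692956189) (.leaf 2910914977930))) (.node (.node (.leaf 390842562826) (.leaf 2651069277982)) (.node (.leaf 2738579162005) (.leaf 4157529321475)))))) (.node (.node (.node (.node (.node (.node (.leaf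 264140553609) (.leaf 4337381132188)) (.leaf 2949032622746)) (.node (.leaf 24696065429) (.leaf 3220689334686))) (.node (.node (.leaf 1434519418909) (.leaf 3355980868749)) (.node (.leaf 2456185008027) (.leaf 3913253010584)))) (.node (.node (.node (.leaf 639413405207) (.leaf 3099356526229)) (.node (.leaf 16643005185) (.leaf 3721053178255))) (.node (.node (.leaf 900869604997) (.leaf 3226058136704)) (.node (.leaf 2455111322516) (.leaf 4104915624200))))) (.node (.node (.node (.node (.node (.leaf 159450781718) (.leaf 4420059272345)) (.leaf 3051038120346)) (.node (.leaf 639413408667) (.leaf 2706367113862))) (.node (.node (.leaf 1879585494029) (.leaf 3478924339332)) (.node (.leaf 2593623994369) (.leaf 3964792643847)))) (.node (.node (.node (.leaf 996969534088) (.leaf 3244311694737)) (.node (.leaf 1909113522186) (.leaf 2663417502238))) (.node (.node (.leaf 152471874334) (.leaf 2659659215748)) (.node (.leaf 2799245602948) (.leaf 3955129011845))))))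
def dF_353 : BT := .node (.node (.node (.node (.node (.node (.node (.leaf 100931755159) (.leaf 4266514064775)) (.leaf 2864743869468)) (.node (.leaf 28454193306) (.leaf 2400887305862))) (.node (.node (.leaf 1198295966607) (.leaf 3289408862105)) (.node (.leaf 2374580609937) (.leaf 3855807501698)))) (.node (.node (.node (.node (.leaf 425738712853) (.leaf 4446365953297)) (.leaf 3084860995854)) (.node (.leaf 1059783662356) (.leaf 2375117782663))) (.node (.node (.leaf 231391848458) (.leaf 2886755511043)) (.node (.leaf 2623688772494) (.leaf 3470871414150))))) (.node (.node (.node (.node (.node (.leaf 177167443207) (.leaf 4377109476226)) (.leaf 2799245648917)) (.node (.leaf 51002744606) (.leaf 2592013469827))) (.node (.node (.leaf 1659468384780) (.leaf 3408057362060)) (.node (.leaf 2519535790745) (.leaf 3973919438209)))) (.node (.node (.node (.leaf 792421655172) (.leaf 3193308945946)) (.node (.leaf 1123671088649) (.leaf 3746822988188))) (.node (.node (.leaf 1860794807683) (.leaf 3611531486108)) (.node (.leaf 2742337272347) (.leaf 4166119270425)))))) (.node (.node (.node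 (.node (.node (.node (.leaf 249645033732) (.leaf 4328254313367)) (.leaf 2932926491544)) (.node (.leaf 1774358804894) (.leaf 3141769242124))) (.node (.node (.leaf 1387811635990) (.leaf 3342022224133)) (.node (.leaf 2440615747972) (.leaf 3908421171229)))) (.node (.node (.node (.leaf 623844149652) (.leaf 3139621776661)) (.node (.leaf 767725557396) (.leaf 3700652078739))) (.node (.node (.leaf 1108638654212) (.leaf 3569118673938)) (.node (.leaf 2684892071069) (.leaf 3765076688129))))) (.node (.node (.node (.node (.node (.leaf 494458217984) (.leaf 4414153690134)) (.leaf 3040300699649)) (.node (.leaf 1843615151387) (.leaf 3570192166788))) (.node (.node (.leaf 1846836377617) (.leaf 3467113176345)) (.node (.leaf 2587718412827) (.leaf 4007205426452)))) (.node (.node (.node (.leaf 1021665589253) (.leaf 2708514509826)) (.node (.leaf 2339147121305) (.leaf 3802657299341))) (.node (.node (.leaf 1879585539866) (.leaf 2640868653322)) (.node (.leaf 2352569002774) (.leaf 4220880116506))))))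
def dF_360 : BT := .node (.node (.node (.node (.node (.node (.node (.leaf 114353531539) (.leaf 4276714704667)) (.leaf 2812667335682)) (.node (.leaf 188441715355) (.leaf 3223910676096))) (.node (.node (.leaf 1242856455565) (.leaf 3284577010069)) (.node (.leaf 2360085096326) (.leaf 2933463585674)))) (.node (.node (.node (.leaf 137975910018) (.leaf 3099356513945)) (.node (.leaf 1397475317135) (.leaf 3648038716941))) (.node (.node (.leaf 2075543440659) (.leaf 3291019263628)) (.node (.leaf 2639258032664) (.leaf 4063576901779))))) (.node (.node (.node (.node (.node (.leaf 113816713222) (.leaf 4386236324237)) (.leaf 3002719726744)) (.node (.leaf 523449543700) (.leaf 3055870065037))) (.node (.node (.leaf 1694901873029) (.leaf 3093451010947)) (.node (.leaf 2524904501145) (.leaf 3976066922268)))) (.node (.node (.node (.leaf 820875820544) (.leaf 2423436057606)) (.node (.leaf 635118839557) (.leaf 3755949795855))) (.node (.node (.leaf 89657980289) (.leaf 2623151928205)) (.node (.leaf 2692945149716) (.leaf 4158066204817)))))) (.node (.node (.node (.node (.node (.node (.leaf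 266288035589) (.leaf 4341139229468)) (.leaf 2949569493775)) (.node (.leaf 338765548438) (.leaf 2582886750597))) (.node (.node (.leaf 1425929482269) (.leaf 3136400664710)) (.node (.leaf 2458332492175) (.leaf 3915400494746)))) (.node (.node (.node (.leaf 638876535687) (.leaf 3002719693959)) (.node (.leaf 1316407781773) (.leaf 3705483918209))) (.node (.node (.leaf 1054951593733) (.leaf 2710125133214)) (.node (.leaf 2452963838359) (.leaf 4107600326932))))) (.node (.node (.node (.node (.node (.leaf 8053183757) (.leaf 4418448659229)) (.leaf 2400350573186)) (.node (.leaf 651224571547) (.leaf 2407866623243))) (.node (.node (.leaf 148713670553) (.leaf 3465502528020)) (.node (.leaf 2588255283864) (.leaf 3561065698435)))) (.node (.node (.node (.leaf 469762297994) (.leaf 3248069610004)) (.node (.leaf 1844152141334) (.leaf 3809100028940))) (.node (.node (.leaf 835908500098) (.leaf 2432026040094)) (.node (.leaf 2652142972802) (.leaf 4210679566734))))))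
def dF_368 : BT := .node (.node (.node (.node (.node (.node (.node (.leaf 110058563332) (.leaf 4268124768015)) (.leaf 2867965095699)) (.node (.leaf 39192031114) (.leaf 2742337298182))) (.node (.node (.leaf 1225676584461) (.leaf 3284040151698)) (.node (.leaf 2376191223065) (.leaf 2511483048581)))) (.node (.node (.node (.node (.leaf 13421884551) (.leaf 4407711248140)) (.leaf 2426657259139)) (.node (.leaf 166430022415) (.leaf 2496450610440))) (.node (.node (.leaf 2059437309568) (.leaf 2385318071689)) (.node (.leaf 2415919729157) (.leaf 4023311582980))))) (.node (.node (.node (.node (.node (.leaf 19327357442) (.leaf 4378720107138)) (.leaf 3005940952988)) (.node (.leaf 18790536094) (.leaf 2389076143126))) (.node (.node (.leaf 1686848807699) (.leaf 3406446748815)) (.node (.leaf 2515777693454) (.leaf 3882651382027)))) (.node (.node (.node (.leaf 816043980829) (.leaf 3193308945936)) (.node (.leaf 82678157699) (.leaf 3759171022099))) (.node (.node (.leaf 2217814008853) (.leaf 3455301821572)) (.node (.leaf 2748242853778) (.leaf 4169340098312)))))) (.node (.node (.node (.node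 (.node (.node (.leaf 258234924951) (.leaf 4334159905944)) (.leaf 2792803123462)) (.node (.leaf 761820307085) (.leaf 2868501957120))) (.node (.node (.leaf 1407675867013) (.leaf 3342022224019)) (.node (.leaf 2442226360979) (.leaf 3922379818372)))) (.node (.node (.node (.leaf 634581569297) (.leaf 2910914832006)) (.node (.leaf 1968169232667) (.leaf 3702262691869))) (.node (.node (.leaf 892279567371) (.leaf 2756832918558)) (.node (.leaf 2689723910418) (.leaf 4111895289091))))) (.node (.node (.node (.node (.node (.leaf 27917402134) (.leaf 2733210866059)) (.leaf 3042448183697)) (.node (.leaf 694174254746) (.leaf 2571612504448))) (.node (.node (.leaf 1864553122052) (.leaf 3468186918414)) (.node (.leaf 2585570928656) (.leaf 4021164089618)))) (.node (.node (.node (.leaf 1042066688659) (.leaf 3249143534107)) (.node (.leaf 2340757734425) (.leaf 3803730965383))) (.node (.node (.leaf 306016426265) (.leaf 2478196838147)) (.node (.leaf 2374043839755) (.leaf 4219806350228))))))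
def dF_375 : BT := .node (.node (.node (.node (.node (.node (.node (.leaf 122943440665) (.leaf 3908421259141)) (.leaf 2873333806098)) (.node (.leaf 23085461388) (.leaf 2397666169630))) (.node (.node (.leaf 382252387723) (.leaf 3301220024988)) (.node (.leaf 2394444838541) (.leaf 3871377069456)))) (.node (.node (.node (.leaf 140660286850) (.leaf 2434710324227)) (.node (.leaf 535797297934) (.leaf 2356327304578))) (.node (.node (.leaf 23085947535) (.leaf 2563559339393)) (.node (.leaf 2644089872131) (.leaf 3634617043605))))) (.node (.node (.node (.node (.node (.leaf 405337624960) (.leaf 4387310136584)) (.leaf 3005940952977)) (.node (.leaf 385473402526) (.leaf 2528125865236))) (.node (.node (.leaf 1699733712657) (.leaf 3420942168071)) (.node (.leaf 2528662598533) (.leaf 3893925611038)))) (.node (.node (.node (.leaf 826244528649) (.leaf 2813204275078)) (.node (.leaf 639950678272) (.leaf 3745749248286))) (.node (.node (.leaf 2263985175317) (.leaf 2554969295511)) (.node (.leaf 2745558428951) (.leaf 4174709207069)))))) (.node (.node (.node (.node (.node (.node (.leaf 278636069901)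 (.leaf 4343823584773)) (.leaf 2944200783385)) (.node (.leaf 417685669146) (.leaf 2457795636886))) (.node (.node (.leaf 1376000491140) (.leaf 2728378774791)) (.node (.leaf 2451353168664) (.leaf 3911642397459)))) (.node (.node (.node (.leaf 624917894785) (.leaf 3148748637332)) (.node (.leaf 1321776501918) (.leaf 3706557660188))) (.node (.node (.leaf 1169841748865) (.leaf 2902324877826)) (.node (.leaf 2698313847069) (.leaf 4124243329297))))) (.node (.node (.node (.node (.node (.leaf 506806262657) (.leaf 4207458391435)) (.leaf 3049427507217)) (.node (.leaf 1445793710747) (.leaf 3238406014217))) (.node (.node (.leaf 1884417350532) (.leaf 3477313588611)) (.node (.leaf 2604898286107) (.leaf 3964792629258)))) (.node (.node (.node (.leaf 1054951593737) (.leaf 3248069779605)) (.node (.leaf 1844689012869) (.leaf 2825015648132))) (.node (.node (.leaf 10737424926) (.leaf 2627983281548)) (.node (.leaf 2308008722178) (.leaf 4221953833856))))))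
def dF_386 : BT := .node (.node (.node (.node (.node (.node (.node (.leaf 91268078343) (.leaf 4262755986567)) (.leaf 2859375159173)) (.node (.leaf 1169305120670) (.leaf 2029909541645))) (.node (.node (.leaf 1191316837891) (.leaf 3277060646679)) (.node (.leaf 1847910244887) (.leaf 2839511173127)))) (.node (.node (.node (.node (.leaf 500363701634) (.leaf 4445292150536)) (.leaf 3084860995858)) (.node (.leaf 1833951472655) (.leaf 3638911651725))) (.node (.node (.leaf 2031520013193) (.leaf 2561411605255)) (.node (.leaf 2631204967056) (.leaf 4057671320337))))) (.node (.node (.node (.node (.node (.leaf 380641567379) (.leaf 4197794704516)) (.leaf 2990908563855)) (.node (.leaf 47781522585) (.leaf 2397129241219))) (.node (.node (.leaf 1635846060809) (.leaf 3400541167375)) (.node (.leaf 2509872112015) (.leaf 3962108275218)))) (.node (.node (.node (.leaf 774168039709) (.leaf 3195993301249)) (.node (.leaf 767725825025) (.leaf 3756486667020))) (.node (.node (.leaf 1491964635802) (.leaf 2784213258114)) (.node (.leaf 2750927208989) (.leaf 4156455591709)))))) (.node (.node (.node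 (.node (.node (.node (.leaf 51002795404) (.leaf 4331475550744)) (.leaf 2828773535490)) (.node (.leaf 203474155038) (.leaf 3247532981898))) (.node (.node (.leaf 1324997740170) (.leaf 3332895416336)) (.node (.leaf 2431488940184) (.leaf 3907347429145)))) (.node (.node (.node (.leaf 578210121354) (.leaf 3137474357775)) (.node (.leaf 696321877125) (.leaf 3699041465627))) (.node (.node (.leaf 196494838166) (.leaf 3572876771219)) (.node (.leaf 2689723910532) (.leaf 4109210940177))))) (.node (.node (.node (.node (.node (.leaf 466004059162) (.leaf 4412543077776)) (.leaf 2561411704839)) (.node (.leaf 711353963660) (.leaf 3180960912010))) (.node (.node (.leaf 1843615147785) (.leaf 3466039434269)) (.node (.leaf 2574833465623) (.leaf 4009352904597)))) (.node (.node (.node (.leaf 13958882444) (.leaf 3228204947459)) (.node (.leaf 2337536218246) (.leaf 3698504619013))) (.node (.node (.leaf 338229153054) (.leaf 2784213159041)) (.node (.leaf 2736431704468) (.leaf 2918968155017))))))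
def dF_393 : BT := .node (.node (.node (.node (.node (.node (.node (.leaf 1073770776) (.leaf 4268124767747)) (.leaf 2866354482576)) (.node (.leaf 253403552411) (.leaf 2836289750550))) (.node (.node (.leaf 1235340263069) (.leaf 3284040151694)) (.node (.leaf 2377264965130) (.leaf 3860102661760)))) (.node (.node (.node (.node (.leaf 137975910023) (.leaf 4443144728461)) (.leaf 2998961548039)) (.node (.leaf 1276142462095) (.leaf 3642669320966))) (.node (.node (.leaf 2072322214529) (.leaf 2687039353860)) (.node (.leaf 2641942387969) (.leaf 4062503159696))))) (.node (.node (.node (.node (.node (.leaf 17179873286) (.leaf 2392834700298)) (.leaf 3008625308187)) (.node (.leaf 651224823296) (.leaf 2942590055045))) (.node (.node (.leaf 20401497988) (.leaf 3406446545158)) (.node (.leaf 2528125727377) (.leaf 3978214406532)))) (.node (.node (.node (.leaf 818728336029) (.leaf 3190624590735)) (.node (.leaf 1267552773641) (.leaf 3746286117139))) (.node (.node (.leaf 2215129655829) (.leaf 3081639836035)) (.node (.leaf 2746095369616) (.leaf 4160750203146)))))) (.node (.node (.node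 (.node (.node (.node (.leaf 261456153615) (.leaf 4333086155927)) (.leaf 2930778889886)) (.node (.leaf 252329651358) (.leaf 3141769210240))) (.node (.node (.leaf 1410360222212) (.leaf 3349001547534)) (.node (.leaf 2444910716176) (.leaf 3921842947228)))) (.node (.node (.node (.leaf 578210123668) (.leaf 2623688806919)) (.node (.leaf 1282048189574) (.leaf 3703336246536))) (.node (.node (.leaf 892279678341) (.leaf 2964065110942)) (.node (.leaf 2688650168336) (.leaf 4118874616832))))) (.node (.node (.node (.node (.node (.leaf 502511291277) (.leaf 4416301175303)) (.leaf 2847027171223)) (.node (.leaf 769873071387) (.leaf 3048353681025))) (.node (.node (.leaf 1860257741976) (.leaf 3323768643862)) (.node (.leaf 2586107757463) (.leaf 3557307602178)))) (.node (.node (.node (.leaf 1044214172806) (.leaf 3247532920986)) (.node (.leaf 2341831476507) (.leaf 3804268189455))) (.node (.node (.leaf 185220540293) (.leaf 2542621453726)) (.node (.leaf 2798171662477) (.leaf 2368675469342))))))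
def dF_401 : BT := .node (.node (.node (.node (.node (.node (.node (.leaf 104689852829) (.leaf 4269198510209)) (.leaf 2863670127386)) (.node (.leaf 541702884254) (.leaf 2517925234817))) (.node (.node (.leaf 1205275484941) (.leaf 3285113893787)) (.node (.leaf 1059783746569) (.leaf 3854196936077)))) (.node (.node (.node (.node (.leaf 423591175956) (.leaf 4446902824349)) (.leaf 2863133309462)) (.node (.leaf 511101515277) (.leaf 2336999948172))) (.node (.node (.leaf 2044404920461) (.leaf 2033130832262)) (.node (.leaf 2418604084246) (.leaf 3141769545347))))) (.node (.node (.node (.node (.node (.leaf 381178427672) (.leaf 4383552041733)) (.leaf 2999498500621)) (.node (.leaf 17179873305) (.leaf 2398203016834))) (.node (.node (.leaf 1557999784452) (.leaf 3409131104027)) (.node (.leaf 2513630209306) (.leaf 3971235082906)))) (.node (.node (.node (.leaf 805306560133) (.leaf 3191161461784)) (.node (.leaf 1902134079365) (.leaf 3749507343387))) (.node (.node (.leaf 446676891149) (.leaf 3609384001936)) (.node (.leaf 2742337272345) (.leaf 4171487959040)))))) (.node (.node (.node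 (.node (.node (.node (.leaf 249645033616) (.leaf 4333086163973)) (.leaf 2935610820999)) (.node (.leaf 20938392734) (.leaf 2812667317248))) (.node (.node (.leaf 472446734341) (.leaf 3349538418588)) (.node (.leaf 2441152618909) (.leaf 2905546307850)))) (.node (.node (.node (.leaf 624917892101) (.leaf 2862596450583)) (.node (.leaf 1130113436565) (.leaf 3701188534790))) (.node (.node (.leaf 1052267235870) (.leaf 3567507812868)) (.node (.leaf 2684355200026) (.leaf 3735011916807))))) (.node (.node (.node (.node (.node (.leaf 483720807059) (.leaf 4414690562070)) (.leaf 3043521925789)) (.node (.leaf 1845225764506) (.leaf 3179887107338))) (.node (.node (.leaf 1773285063180) (.leaf 3468186918418)) (.node (.leaf 2582886573466) (.leaf 4014721636995)))) (.node (.node (.node (.leaf 1034550494212) (.leaf 2798171965076)) (.node (.leaf 517544117005) (.leaf 3802120393217))) (.node (.node (.leaf 145492447518) (.leaf 2532957556628)) (.node (.leaf 2795487036419) (.leaf 4207995211546))))))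
def dF_408 : BT := .node (.node (.node (.node (.node (.node (.node (.leaf 114353531537) (.leaf 4276714704532)) (.leaf 2877091903389)) (.node (.leaf 7516194575) (.leaf 2754148432670))) (.node (.node (.leaf 1246614527745) (.leaf 3281355658374)) (.node (.leaf 2022393292934) (.leaf 3869766456345)))) (.node (.node (.node (.leaf 340376261271) (.leaf 3097209029785)) (.node (.leaf 1754494558735) (.leaf 3608310271253))) (.node (.node (.leaf 2084133377413) (.leaf 2383707467402)) (.node (.leaf 2639794903696) (.leaf 4064113772829))))) (.node (.node (.node (.node (.node (.leaf 379567825282) (.leaf 2368675509901)) (.leaf 3008088355719)) (.node (.leaf 1063004681502) (.leaf 2560338103565))) (.node (.node (.leaf 1697049342211) (.leaf 3420942266904)) (.node (.leaf 2520072661778) (.leaf 2902861969160)))) (.node (.node (.node (.leaf 766114987913) (.leaf 3189013808021)) (.node (.leaf 2310692956177) (.leaf 3744675197067))) (.node (.node (.leaf 2259690206851) (.leaf 2910914798366)) (.node (.leaf 2740726646165) (.leaf 4155918708119)))))) (.node (.node (.node (.node (.node (.node (.leaf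 102542408585) (.leaf 4337381132178)) (.leaf 2940979557149)) (.node (.leaf 161061756044) (.leaf 2762201566366))) (.node (.node (.leaf 1437740642317) (.leaf 3351685902860)) (.node (.leaf 2448131942428) (.leaf 3917547978904)))) (.node (.node (.node (.leaf 639950279699) (.leaf 3149285520772)) (.node (.leaf 1255741229854) (.leaf 3718368823169))) (.node (.node (.leaf 883152860937) (.leaf 2742337191043)) (.node (.leaf 2450816354196) (.leaf 4105452560648))))) (.node (.node (.node (.node (.node (.leaf 506269390858) (.leaf 4420059272335)) (.leaf 3051574991389)) (.node (.leaf 641560892826) (.leaf 3505231020298))) (.node (.node (.leaf 1873143059212) (.leaf 3474629371012)) (.node (.leaf 2589329026049) (.leaf 3762929161237)))) (.node (.node (.node (.leaf 1050119754257) (.leaf 3238942984339)) (.node (.leaf 2344515831697) (.leaf 3633543241348))) (.node (.node (.leaf 653908926622) (.leaf 2972654871557)) (.node (.leaf 2798708731925) (.leaf 4207995187348))))))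
def dF_417 : BT := .node (.node (.node (.node (.node (.node (.node (.leaf 91804950027) (.leaf 4265977283865)) (.leaf 2869038837788)) (.node (.leaf 49929029530) (.leaf 2398739800842))) (.node (.node (.leaf 1196685548177) (.leaf 3288871991172)) (.node (.leaf 2374043611914) (.leaf 3567508129676)))) (.node (.node (.node (.node (.leaf 382789072774) (.leaf 4445829082267)) (.leaf 3089155964174)) (.node (.leaf 689879604237) (.leaf 3639985651201))) (.node (.node (.leaf 2033667495823) (.leaf 2887292432136)) (.node (.leaf 2627983740814) (.leaf 3680251068807))))) (.node (.node (.node (.node (.node (.leaf 387620881305) (.leaf 4377646460184)) (.leaf 2495913521538)) (.node (.leaf 33286503454) (.leaf 3486440292103))) (.node (.node (.leaf 1655173416461) (.leaf 3398930542740)) (.node (.leaf 2517925177732) (.leaf 3969624469889)))) (.node (.node (.node (.leaf 790810881549) (.leaf 3186866493468)) (.node (.leaf 1122060476055) (.leaf 3751117956508))) (.node (.node (.leaf 375272994334) (.leaf 3612605228188)) (.node (.leaf 2746632240667) (.leaf 4170414238745)))))) (.node (.node (.node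 (.node (.node (.node (.leaf 242128824091) (.leaf 4328254191616)) (.leaf 2929705265306)) (.node (.leaf 35970356111) (.leaf 2720325503134))) (.node (.node (.leaf 1386737894157) (.leaf 2431489156357)) (.node (.leaf 2432025811215) (.leaf 3903589333122)))) (.node (.node (.node (.leaf 521838676235) (.leaf 2866891418903)) (.node (.leaf 1695438537621) (.leaf 3642133149194))) (.node (.node (.leaf 1873679504152) (.leaf 3568044931864)) (.node (.leaf 2689187039389) (.leaf 4107600327054))))) (.node (.node (.node (.node (.node (.leaf 490163259648) (.leaf 4414153690897)) (.leaf 2835752775814)) (.node (.leaf 1837172698906) (.leaf 3285650558984))) (.node (.node (.leaf 1845762635539) (.leaf 3471408144665)) (.node (.leaf 2395518626317) (.leaf 3924527322006)))) (.node (.node (.node (.leaf 1017907491973) (.leaf 2526515171078)) (.node (.leaf 2328409702917) (.leaf 3801583834266))) (.node (.node (.leaf 1873143091482) (.leaf 2533494437770)) (.node (.leaf 2338610359040) (.leaf 4211216437788))))))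
def dF_424 : BT := .node (.node (.node (.node (.node (.node (.node (.leaf 118648499859) (.leaf 4248260546304)) (.leaf 2860448901135)) (.node (.leaf 158377230750) (.leaf 2320356869261))) (.node (.node (.leaf 1238561489420) (.leaf 3285113881110)) (.node (.leaf 820876191367) (.leaf 1699734229773)))) (.node (.node (.node (.leaf 117574810519) (.leaf 3098819643012)) (.node (.leaf 1401770285455) (.leaf 3642133039232))) (.node (.node (.leaf 2061047922577) (.leaf 3293166888075)) (.node (.leaf 2637647419547) (.leaf 3925601077383))))) (.node (.node (.node (.node (.node (.leaf 380641480067) (.leaf 4375498978582)) (.leaf 3007014695064)) (.node (.leaf 539555671446) (.leaf 3026341497356))) (.node (.node (.leaf 1694365001989) (.leaf 3420405395980)) (.node (.leaf 2521146403866) (.leaf 3976603676553)))) (.node (.node (.node (.leaf 821412691217) (.leaf 2809983114498)) (.node (.leaf 2309082260486) (.leaf 3744675504016))) (.node (.node (.leaf 26844083328) (.leaf 2681670854659)) (.node (.leaf 2739652917134) (.leaf 4157529106441)))))) (.node (.node (.node (.node (.node (.node (.leaf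 102005536520) (.leaf 4223564498829)) (.leaf 2945811396613)) (.node (.leaf 424128216843) (.leaf 2895882389896))) (.node (.node (.leaf 1427540095493) (.leaf 3343632701059)) (.node (.leaf 2454574395013) (.leaf 3919695463066)))) (.node (.node (.node (.leaf 376883532297) (.leaf 3087008459654)) (.node (.leaf 1314260321438) (.leaf 3704947047059))) (.node (.node (.leaf 1043677301765) (.leaf 2401424211851)) (.node (.leaf 2683281457934) (.leaf 3704410272256))))) (.node (.node (.node (.node (.node (.leaf 48855372310) (.leaf 3102578053897)) (.leaf 2757369576582)) (.node (.leaf 635655311387) (.leaf 3169686466570))) (.node (.node (.leaf 150861168665) (.leaf 3466039399063)) (.node (.leaf 2556579900032) (.leaf 3958886953868)))) (.node (.node (.node (.leaf 993211436811) (.leaf 3241090468504)) (.node (.leaf 2339683993097) (.leaf 3406983714821))) (.node (.node (.leaf 209380188160) (.leaf 2734821008286)) (.node (.leaf 2414309158530) (.leaf 3999689298311))))))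
def dF_432 : BT := .node (.node (.node (.node (.node (.node (.node (.leaf 106837336843) (.leaf 4271882865309)) (.leaf 2870112501255)) (.node (.leaf 878857892126) (.leaf 3073586625029))) (.node (.node (.leaf 1221381616140) (.leaf 3288335120018)) (.node (.leaf 156766872834) (.leaf 3868155843219)))) (.node (.node (.node (.node (.leaf 337155035028) (.leaf 4447976566426)) (.leaf 2866354535701)) (.node (.leaf 760746263695) (.leaf 3645891232781))) (.node (.node (.leaf 1789391240072) (.leaf 2887292453014)) (.node (.leaf 2426657149845) (.leaf 4061965902723))))) (.node (.node (.node (.node (.node (.leaf 9663766036) (.leaf 4107600392862)) (.leaf 3009699050267)) (.node (.leaf 383325910924) (.leaf 2507724599445))) (.node (.node (.leaf 1685238194693) (.leaf 3407520490897)) (.node (.leaf 2514167080337) (.leaf 3969624469777)))) (.node (.node (.node (.leaf 815507109779) (.leaf 3187403364499)) (.node (.leaf 640487482754) (.leaf 3747896730264))) (.node (.node (.leaf 2214055913750) (.leaf 3404299035908)) (.node (.leaf 2750390324885) (.leaf 3735548799747)))))) (.node (.node (.node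 (.node (.node (.node (.leaf 73014505230) (.leaf 4334696776987)) (.leaf 2793339994502)) (.node (.leaf 756451295375) (.leaf 2538326307340))) (.node (.node (.leaf 1403380898693) (.leaf 3346317192339)) (.node (.leaf 2439005134745) (.leaf 3918084850052)))) (.node (.node (.node (.leaf 518080581260) (.leaf 2654827406723)) (.node (.leaf 827855413895) (.leaf 3702799562895))) (.node (.node (.leaf 903017123870) (.leaf 2836289671938)) (.node (.leaf 2694018878738) (.leaf 1909113944094))))) (.node (.node (.node (.node (.node (.leaf 32212370454) (.leaf 4416301175059)) (.leaf 3043521925779)) (.node (.leaf 2024540691866) (.leaf 3037616205828))) (.node (.node (.leaf 1860258153732) (.leaf 3472481886734)) (.node (.leaf 2582886573459) (.leaf 4021700960664)))) (.node (.node (.node (.leaf 1041529807876) (.leaf 2429341651458)) (.node (.leaf 1962800612353) (.leaf 3778498385431))) (.node (.node (.leaf 359166652290) (.leaf 2914135464076)) (.node (.leaf 2796561133319) (.leaf 4018479782412))))))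
def dF_439 : BT := .node (.node (.node (.node (.node (.node (.node (.leaf 27917313420) (.leaf 4272956519296)) (.leaf 2871723192985)) (.node (.leaf 917512400798) (.leaf 2451352851596))) (.node (.node (.leaf 16643296393) (.leaf 3169686651651)) (.node (.leaf 2390149870220) (.leaf 3870839857416)))) (.node (.node (.node (.leaf 119722294679) (.leaf 3095598416655)) (.node (.leaf 548145331854) (.leaf 3648038716825))) (.node (.node (.leaf 478352480666) (.leaf 2800856236425)) (.node (.leaf 2433099602325) (.leaf 3018289236614))))) (.node (.node (.node (.node (.node (.leaf 401042667008) (.leaf 4387310083597)) (.leaf 2997351016339)) (.node (.leaf 536871044894) (.leaf 3158949048862))) (.node (.node (.leaf 1636919815817) (.leaf 3418257911694)) (.node (.leaf 2520072632197) (.leaf 3896073157260)))) (.node (.node (.node (.leaf 825170788508) (.leaf 3196530106502)) (.node (.leaf 1281511418007) (.leaf 3746286118174))) (.node (.node (.leaf 2262374029824) (.leaf 2416993441671)) (.node (.leaf 2743410944791) (.leaf 3969624518923)))))) (.node (.node (.node (.node (.node (.node (.leaf 102542410250)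 (.leaf 4342212971549)) (.leaf 2948495751705)) (.node (.leaf 82141278750) (.leaf 3381750617886))) (.node (.node (.leaf 1440425000085) (.leaf 3354907128985)) (.node (.leaf 2455648136984) (.leaf 3915937365779)))) (.node (.node (.node (.leaf 641560892818) (.leaf 3149822326422)) (.node (.leaf 1449014907166) (.leaf 3710852628508))) (.node (.node (.leaf 1058172842008) (.leaf 2766496603782)) (.node (.leaf 2701535073305) (.leaf 4122095845260))))) (.node (.node (.node (.node (.node (.leaf 9663798026) (.leaf 4420596143385)) (.leaf 3049964378258)) (.node (.leaf 1282048043546) (.leaf 2633352006284))) (.node (.node (.leaf 1808181680138) (.leaf 3478387468174)) (.node (.leaf 2604898286095) (.leaf 3737696217472)))) (.node (.node (.node (.leaf 1053340980509) (.leaf 3241090468495)) (.node (.leaf 2345589573779) (.leaf 3805341894039))) (.node (.node (.leaf 231928751518) (.leaf 2422899136645)) (.node (.leaf 2813204249732) (.leaf 4173635476500))))))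
def dF_449 : BT := .node (.node (.node (.node (.node (.node (.node (.leaf 99321125015) (.leaf 3721590179074)) (.leaf 2867965095813)) (.node (.leaf 49928997383) (.leaf 1835025391764))) (.node (.node (.leaf 1120449878144) (.leaf 3280282041749)) (.node (.leaf 2031520096917) (.leaf 3855807809306)))) (.node (.node (.node (.node (.leaf 475667720194) (.leaf 4444755340417)) (.leaf 3087008480016)) (.node (.leaf 1899449739535) (.leaf 2339684302215))) (.node (.node (.leaf 1954747475073) (.leaf 3364570680222)) (.node (.leaf 2622615030416) (.leaf 3978214425221))))) (.node (.node (.node (.node (.node (.leaf 382252180496) (.leaf 4377646460318)) (.leaf 2823404838548)) (.node (.leaf 334470881544) (.leaf 2410014361886))) (.node (.node (.leaf 1648193704717) (.leaf 3401077977991)) (.node (.leaf 2501282175375) (.leaf 3959960791054)))) (.node (.node (.node (.leaf 782221105421) (.leaf 3195456430108)) (.node (.leaf 1701344117652) (.leaf 3759707893148))) (.node (.node (.leaf 955630451102) (.leaf 2785286962828)) (.node (.leaf 2742337272349) (.leaf 4163434915226)))))) (.node (.node (.node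 (.node (.node (.node (.leaf 238907563791) (.leaf 4331474921996)) (.leaf 2930779007388)) (.node (.leaf 119185345054) (.leaf 3460670749067))) (.node (.node (.leaf 1382979799296) (.leaf 2470143861251)) (.node (.leaf 2434710166416) (.leaf 3907884300179)))) (.node (.node (.node (.leaf 627065374337) (.leaf 3142843002901)) (.node (.leaf 827855353472) (.leaf 3699041465750))) (.node (.node (.leaf 330712513434) (.leaf 3571266158106)) (.node (.leaf 2458332548756) (.leaf 4116190263694))))) (.node (.node (.node (.node (.node (.leaf 481573323009) (.leaf 4413616819846)) (.leaf 3031710716821)) (.node (.leaf 350039918095) (.leaf 3286187706501))) (.node (.node (.leaf 1824824669569) (.leaf 3468723789466)) (.node (.leaf 1842541585165) (.leaf 4005594830622)))) (.node (.node (.node (.leaf 1009317555333) (.leaf 2525441415558)) (.node (.leaf 2338073379225) (.leaf 3205657121921))) (.node (.node (.leaf 339302530445) (.leaf 3149285442590)) (.node (.leaf 2729452380948) (.leaf 4219806374428))))))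
def dF_456 : BT := .node (.node (.node (.node (.node (.node (.node (.leaf 113279789468) (.leaf 4272419736349)) (.leaf 2869038837775)) (.node (.leaf 703301143454) (.leaf 2518462020629))) (.node (.node (.leaf 1234803392016) (.leaf 3287261196436)) (.node (.leaf 82141816460) (.leaf 3868155746185)))) (.node (.node (.node (.leaf 338765648151) (.leaf 3081639640965)) (.node (.leaf 1173600093454) (.leaf 3642670006429))) (.node (.node (.leaf 2071785343377) (.leaf 2563022301189)) (.node (.leaf 2640331774748) (.leaf 3875135211520))))) (.node (.node (.node (.node (.node (.leaf 16643002242) (.leaf 4385162590980)) (.leaf 3000035371547)) (.node (.leaf 1697586020126) (.leaf 2944200811287))) (.node (.node (.leaf 1692754389139) (.leaf 3411815459341)) (.node (.leaf 2521683274909) (.leaf 3979825019544)))) (.node (.node (.node (.leaf 816043981833) (.leaf 3195456260502)) (.node (.leaf 2308545472029) (.leaf 3753265440656))) (.node (.node (.leaf 44023952024) (.leaf 2444910868231)) (.node (.leaf 2748242853774) (.leaf 4158603063559)))))) (.node (.node (.node (.node (.node (.node (.leaf 263066809730)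 (.leaf 3741991291776)) (.leaf 2937221459973)) (.node (.leaf 367757116830) (.leaf 2512019822345))) (.node (.node (.leaf 1418950158852) (.leaf 3346854039299)) (.node (.leaf 2445984458373) (.leaf 3913253010588)))) (.node (.node (.node (.leaf 636729051412) (.leaf 2862596371970)) (.node (.leaf 1329829562910) (.leaf 3704410176017))) (.node (.node (.leaf 1044214174987) (.leaf 2517925409536)) (.node (.leaf 2691871394574) (.leaf 4108674001801))))) (.node (.node (.node (.node (.node (.leaf 495531969939) (.leaf 4417374917137)) (.leaf 2952253731974)) (.node (.leaf 764504360986) (.leaf 3473555493376))) (.node (.node (.leaf 1859184000408) (.leaf 3062312509058)) (.node (.leaf 2581812789140) (.leaf 3560528827655)))) (.node (.node (.node (.leaf 1045287914909) (.leaf 3238942984346)) (.node (.leaf 1844152141194) (.leaf 2989835016070))) (.node (.node (.leaf 653909097886) (.leaf 2422899136798)) (.node (.leaf 2799245602575) (.leaf 4211216408204))))))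
def dF_464 : BT := .node (.node (.node (.node (.node (.node (.node (.leaf 105763594644) (.leaf 4057134500501)) (.leaf 2866891353624)) (.node (.leaf 26306765083) (.leaf 2848637226631))) (.node (.node (.leaf 1213865421580) (.leaf 3284040151705)) (.node (.leaf 2359011353748) (.leaf 3863324003972)))) (.node (.node (.node (.node (.leaf 110595508866) (.leaf 4446365953557)) (.leaf 2997887907719)) (.node (.leaf 764504360975) (.leaf 3641059393299))) (.node (.node (.leaf 2052994857101) (.leaf 2594697270406)) (.node (.leaf 2418067213205) (.leaf 4060892156424))))) (.node (.node (.node (.node (.node (.leaf 11811250196) (.leaf 4356708496276)) (.leaf 3008088437261)) (.node (.leaf 1442035600030) (.leaf 2898566806660))) (.node (.node (.leaf 1676648258052) (.leaf 3208341383042)) (.node (.leaf 2516851435538) (.leaf 3900368120588)))) (.node (.node (.node (.leaf 812285722777) (.leaf 3195993301139)) (.node (.leaf 1902670965527) (.leaf 3756486666904))) (.node (.node (.leaf 2218887579908) (.leaf 3150359367820)) (.node (.leaf 2750927111307) (.leaf 4103842245150)))))) (.node (.node (.node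 (.node (.node (.node (.leaf 249645033502) (.leaf 3900368209674)) (.leaf 2929168394256)) (.node (.leaf 2018634881795) (.leaf 3347390934558))) (.node (.node (.leaf 1394790962053) (.leaf 3348464676504)) (.node (.leaf 2440078876827) (.leaf 3910031784349)))) (.node (.node (.node (.leaf 624917892490) (.leaf 2860448966423)) (.node (.leaf 639950396171) (.leaf 3701725820827))) (.node (.node (.leaf 903017086100) (.leaf 2700461376030)) (.node (.leaf 2688113297305) (.leaf 4117800830723))))) (.node (.node (.node (.node (.node (.leaf 35433596694) (.leaf 4413616820373)) (.leaf 3043521925785)) (.node (.leaf 1962800522267) (.leaf 2612414553353))) (.node (.node (.leaf 1282585050506) (.leaf 3470334402576)) (.node (.leaf 2581812831384) (.leaf 4022774702744)))) (.node (.node (.node (.leaf 1039382333456) (.leaf 3242164210693)) (.node (.leaf 2331094057867) (.leaf 2412698785288))) (.node (.node (.leaf 410169411224) (.leaf 2806761797124)) (.node (.leaf 2356327099414) (.leaf 4213363921944))))))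
def dF_471 : BT := .node (.node (.node (.node (.node (.node (.node (.leaf 11811188248) (.leaf 4276714704518)) (.leaf 2874407548186)) (.node (.leaf 922881623045) (.leaf 2398203040414))) (.node (.node (.leaf 1246077684488) (.leaf 3295314443661)) (.node (.leaf 2381559933580) (.leaf 3870303327385)))) (.node (.node (.node (.leaf 376346620291) (.leaf 3095598416659)) (.node (.leaf 530965458575) (.leaf 2482491967134))) (.node (.node (.leaf 2081449022099) (.leaf 2833605259776)) (.node (.leaf 2641405467799) (.leaf 4064650643855))))) (.node (.node (.node (.node (.node (.leaf 392452730369) (.leaf 4387847009949)) (.leaf 3005940952979)) (.node (.leaf 33286094209) (.leaf 2618856905374))) (.node (.node (.leaf 1640141040896) (.leaf 3418257911698)) (.node (.leaf 2527588856334) (.leaf 3978751221507)))) (.node (.node (.node (.leaf 824633917469) (.leaf 2474438792980)) (.node (.leaf 2310156085137) (.leaf 3746285832584))) (.node (.node (.leaf 2260763487107) (.leaf 2650532300045)) (.node (.leaf 2446521398934) (.leaf 4173098594052)))))) (.node (.node (.node (.node (.node (.node (.leaf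 103616151173) (.leaf 4155381894144)) (.leaf 2944737654426)) (.node (.leaf 158376922497) (.leaf 2705293180958))) (.node (.node (.leaf 1438277494799) (.leaf 3355980871069)) (.node (.leaf 2451890039707) (.leaf 3924527302419)))) (.node (.node (.node (.leaf 640487150848) (.leaf 3149822391709)) (.node (.leaf 1444719938718) (.leaf 3719442565148))) (.node (.node (.leaf 900869641863) (.leaf 2401961247501)) (.node (.leaf 2696703234052) (.leaf 4104379100566))))) (.node (.node (.node (.node (.node (.leaf 9663797634) (.leaf 4419521978762)) (.leaf 3050501249305)) (.node (.leaf 1695438744346) (.leaf 2960843655945))) (.node (.node (.leaf 1777580037018) (.leaf 3331821709461)) (.node (.leaf 2597918962689) (.leaf 3896610023445)))) (.node (.node (.node (.leaf 996969534340) (.leaf 3240016726417)) (.node (.leaf 2345052702739) (.leaf 3812858126108))) (.node (.node (.leaf 279173022494) (.leaf 2534031284756)) (.node (.leaf 2804614313092) (.leaf 4207458340498))))))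
def dF_480 : BT := .node (.node (.node (.node (.node (.node (.node (.leaf 2147508116) (.leaf 4266514154897)) (.leaf 2860448901148)) (.node (.leaf 338765695114) (.leaf 3030100014722))) (.node (.node (.leaf 381715504648) (.leaf 3286187635869)) (.node (.leaf 2374580609949) (.leaf 3855807809294)))) (.node (.node (.node (.node (.leaf 384399685908) (.leaf 4446365933576)) (.leaf 3092377088642)) (.node (.leaf 2024540358278) (.leaf 3640522522259))) (.node (.node (.leaf 1350230829574) (.leaf 2588792106398)) (.node (.leaf 2427194020886) (.leaf 3944391558549))))) (.node (.node (.node (.node (.node (.leaf 19327444756) (.leaf 4377109477773)) (.leaf 2993592919068)) (.node (.leaf 28454547102) (.leaf 2587181690398))) (.node (.node (.leaf 1663763353101) (.leaf 3410204846099)) (.node (.leaf 2516314564509) (.leaf 3973919438109)))) (.node (.node (.node (.leaf 796716623492) (.leaf 3189013977626)) (.node (.leaf 1120449860246) (.leaf 3758097280027))) (.node (.node (.leaf 1221381652766) (.leaf 3611531486098)) (.node (.leaf 2750927208985) (.leaf 4161824302105)))))) (.node (.node (.node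 (.node (.node (.node (.leaf 253940002052) (.leaf 4286378394369)) (.leaf 2936147717778)) (.node (.leaf 347355572510) (.leaf 2632815600769))) (.node (.node (.leaf 1329292709255) (.leaf 3346317192453)) (.node (.leaf 2444910716292) (.leaf 3908421136023)))) (.node (.node (.node (.leaf 629749729939) (.leaf 2864743934743)) (.node (.leaf 1130113452043) (.leaf 3700115207704))) (.node (.node (.leaf 1859720949918) (.leaf 3570192416016)) (.node (.leaf 2692945136666) (.leaf 4118874319755))))) (.node (.node (.node (.node (.node (.leaf 39728565014) (.leaf 4414690561939)) (.leaf 3044595667969)) (.node (.leaf 1898912868507) (.leaf 3333969158283))) (.node (.node (.leaf 1847910115979) (.leaf 3462818208025)) (.node (.leaf 2583960315548) (.leaf 3713537037570)))) (.node (.node (.node (.leaf 1025960557573) (.leaf 3078418515463)) (.node (.leaf 767725961731) (.leaf 3802657576339))) (.node (.node (.leaf 1998233841420) (.leaf 2421288390404)) (.node (.leaf 2347200293760) (.leaf 4216585148186))))))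
def dF_487 : BT := .node (.node (.node (.node (.node (.node (.node (.leaf 110058563219) (.leaf 4272956607388)) (.leaf 2872260064132)) (.node (.leaf 478888967695) (.leaf 2784213122825))) (.node (.node (.leaf 1006096385037) (.leaf 3178276581662)) (.node (.leaf 2378338707211) (.leaf 2587181847435)))) (.node (.node (.node (.leaf 138512802695) (.leaf 3096135287709)) (.node (.leaf 1509681364494) (.leaf 3652333685253))) (.node (.node (.leaf 1806571114120) (.leaf 2833605261452)) (.node (.leaf 2642479258897) (.leaf 4063576901787))))) (.node (.node (.node (.node (.node (.leaf 354871757442) (.leaf 4385699058825)) (.leaf 2998424758424)) (.node (.leaf 627065421588) (.leaf 3314641632257))) (.node (.node (.leaf 1692754389770) (.leaf 3422016008988)) (.node (.leaf 2520609532825) (.leaf 3315178829707)))) (.node (.node (.node (.leaf 823023304451) (.leaf 2478196890263)) (.node (.leaf 2309619214109) (.leaf 3751654827535))) (.node (.node (.leaf 2257542209155) (.leaf 2827163018526)) (.node (.leaf 2690797665556) (.leaf 4158066170755)))))) (.node (.node (.node (.node (.node (.node (.leaf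 267361738889) (.leaf 4341139184397)) (.leaf 2949569493789)) (.node (.leaf 158913872128) (.leaf 2705830074526))) (.node (.node (.leaf 1429150708613) (.leaf 3340411574403)) (.node (.leaf 2456721879068) (.leaf 3911105526426)))) (.node (.node (.node (.leaf 638339666578) (.leaf 2660196077699)) (.node (.leaf 1268089466398) (.leaf 3709778886529))) (.node (.node (.leaf 894427190534) (.leaf 3074660315783)) (.node (.leaf 2448668870039) (.leaf 4106526487948))))) (.node (.node (.node (.node (.node (.leaf 504658676119) (.leaf 4418985530257)) (.leaf 3046743152132)) (.node (.leaf 514322456347) (.leaf 3117610197640))) (.node (.node (.leaf 1791001807880) (.leaf 3317326191382)) (.node (.leaf 2379949370114) (.leaf 3939559067778)))) (.node (.node (.node (.leaf 1049046012189) (.leaf 3247532920979)) (.node (.leaf 2343442089617) (.leaf 3813394680717))) (.node (.node (.leaf 835908235419) (.leaf 2478733713922)) (.node (.leaf 2799782473625) (.leaf 4155381862785))))))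
def dF_495 : BT := .node (.node (.node (.node (.node (.node (.node (.leaf 114353531652) (.leaf 4268124716950)) (.leaf 2863670127379)) (.node (.leaf 23085454735) (.leaf 2688113382401))) (.node (.node (.leaf 1228360940045) (.leaf 3286187635856)) (.node (.leaf 1046361974150) (.leaf 768800067358)))) (.node (.node (.node (.node (.leaf 355408575766) (.leaf 4443681599245)) (.leaf 2662880439814)) (.node (.leaf 162135054095) (.leaf 2931852920065))) (.node (.node (.leaf 2063732277888) (.leaf 2364917055874)) (.node (.leaf 2621004245891) (.leaf 4027606550294))))) (.node (.node (.node (.node (.node (.leaf 384936535687) (.leaf 4378720202255)) (.leaf 3001645984668)) (.node (.leaf 616865147550) (.leaf 3385508659102))) (.node (.node (.leaf 1686311937027) (.leaf 3408057158275)) (.node (.leaf 2521146403971) (.leaf 3707094593686)))) (.node (.node (.node (.leaf 814433368323) (.leaf 3189013977616)) (.node (.leaf 699006477707) (.leaf 3754876053779))) (.node (.node (.leaf 1139777474567) (.leaf 2802466743454)) (.node (.leaf 2743947885458) (.leaf 4161287431057)))))) (.node (.node (.node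 (.node (.node (.node (.leaf 1610674709) (.leaf 4253092398366)) (.leaf 2734821021191)) (.node (.leaf 9663824542) (.leaf 2918967727234))) (.node (.node (.leaf 1407675866908) (.leaf 3347927805456)) (.node (.leaf 642098192141) (.leaf 2623689082891)))) (.node (.node (.node (.leaf 635655309443) (.leaf 2530273290115)) (.node (.leaf 1909113418255) (.leaf 3702262691859))) (.node (.node (.leaf 1053877850398) (.leaf 2518998908702)) (.node (.leaf 2685428942098) (.leaf 3915937412254))))) (.node (.node (.node (.node (.node (.leaf 479962601736) (.leaf 4413616820628)) (.leaf 3041374441615)) (.node (.leaf 690416157467) (.leaf 2469606794369))) (.node (.node (.leaf 1866700466969) (.leaf 3463891950094)) (.node (.leaf 2581275960336) (.leaf 3713000185996)))) (.node (.node (.node (.leaf 1040992947075) (.leaf 3245385436828)) (.node (.leaf 2341831356425) (.leaf 3803731318419))) (.node (.node (.leaf 317827624094) (.leaf 2669322971678)) (.node (.leaf 2030983327115) (.leaf 4219806363393))))))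
def dF_502 : BT := .node (.node (.node (.node (.node (.node (.node (.leaf 125627823493) (.leaf 4281009673100)) (.leaf 2874944419217)) (.node (.leaf 926639713163) (.leaf 2398203004931))) (.node (.node (.leaf 382252388104) (.leaf 3296925056668)) (.node (.leaf 2396055451537) (.leaf 3871377069468)))) (.node (.node (.node (.leaf 151934557079) (.leaf 3098282663042)) (.node (.leaf 549756231710) (.leaf 3656628653455))) (.node (.node (.leaf 2091649078784) (.leaf 3132105484800)) (.node (.leaf 2648384840453) (.leaf 3870840245004))))) (.node (.node (.node (.node (.node (.leaf 404800749979) (.leaf 4386773182345)) (.leaf 3001645984657)) (.node (.leaf 616864689165) (.leaf 3371013263518))) (.node (.node (.leaf 1701344323979) (.leaf 2812130652422)) (.node (.leaf 2532957566853) (.leaf 3717831994506)))) (.node (.node (.node (.leaf 826781401619) (.leaf 3193308880262)) (.node (.leaf 2311766698257) (.leaf 1127429811469))) (.node (.node (.leaf 2265595788932) (.leaf 2554432375701)) (.node (.leaf 2747705913111) (.leaf 4174172336026)))))) (.node (.node (.node (.node (.node (.node (.leaf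 282931038221) (.leaf 3727495778304)) (.leaf 2939905815065)) (.node (.leaf 90731205786) (.leaf 2695092579991))) (.node (.node (.leaf 18253955336) (.leaf 3353296515858)) (.node (.leaf 2447058200344) (.leaf 3922916689296)))) (.node (.node (.node (.leaf 643708373643) (.leaf 2639795024771)) (.node (.leaf 1315334049028) (.leaf 3717831952027))) (.node (.node (.leaf 331249581573) (.leaf 3132105523075)) (.node (.leaf 2699387589147) (.leaf 4124243329309))))) (.node (.node (.node (.node (.node (.leaf 163208879108) (.leaf 2550137886216)) (.leaf 3047816894094)) (.node (.leaf 1314797176986) (.leaf 3186329581833))) (.node (.node (.leaf 1888712318852) (.leaf 3329674225302)) (.node (.leaf 2601140188828) (.leaf 3897683751180)))) (.node (.node (.node (.leaf 1055488464669) (.leaf 3246458996887)) (.node (.leaf 2346126444815) (.leaf 3812321110279))) (.node (.node (.leaf 506269808414) (.leaf 2808372379908)) (.node (.leaf 2815888604828) (.leaf 4222490729607))))))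
def dF_515 : BT := .node (.node (.node (.node (.node (.node (.node (.leaf 91804948999) (.leaf 4264903541776)) (.leaf 2855080190735)) (.node (.leaf 281320482462) (.leaf 3053185608836))) (.node (.node (.leaf 1184874386315) (.leaf 3277597517716)) (.node (.leaf 2372969913993) (.leaf 3856881531661)))) (.node (.node (.node (.node (.leaf 50465963651) (.leaf 4444755340185)) (.leaf 3090229706258)) (.node (.leaf 1847373248655) (.leaf 3637838167055))) (.node (.node (.leaf 2029909402259) (.leaf 1902671130371)) (.node (.leaf 2622615030418) (.leaf 3903052497822))))) (.node (.node (.node (.node (.node (.leaf 386010277779) (.leaf 4376035733270)) (.leaf 2989297950738)) (.node (.leaf 506269390745) (.leaf 2696166339840))) (.node (.node (.leaf 1642825382429) (.leaf 3402688651537)) (.node (.leaf 2502892788496) (.leaf 3958887032726)))) (.node (.node (.node (.leaf 220117258252) (.leaf 3190624590861)) (.node (.leaf 1700807470100) (.leaf 3751117956608))) (.node (.node (.leaf 936302932372) (.leaf 2477659839746)) (.node (.leaf 2351495250699) (.leaf 4161824302109)))))) (.node (.node (.node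 (.node (.node (.node (.leaf 200789780101) (.leaf 4329328066588)) (.leaf 2932389620620)) (.node (.leaf 1472100396318) (.leaf 2427730859010))) (.node (.node (.leaf 1379221701898) (.leaf 3333969158418)) (.node (.leaf 2436857650584) (.leaf 2496450672391)))) (.node (.node (.node (.leaf 623844145690) (.leaf 3142843068175)) (.node (.leaf 1501628256661) (.leaf 3699041445253))) (.node (.node (.leaf 354871678874) (.leaf 3582003578899)) (.node (.leaf 2684355200133) (.leaf 4114579650577))))) (.node (.node (.node (.node (.node (.leaf 12885013526) (.leaf 4413079948815)) (.leaf 2739116003462)) (.node (.leaf 711890976791) (.leaf 3180424124318))) (.node (.node (.leaf 1842004538259) (.leaf 3471408144669)) (.node (.leaf 2575370378894) (.leaf 4009889478281)))) (.node (.node (.node (.leaf 469225414921) (.leaf 3235721589269)) (.node (.leaf 641024426242) (.leaf 3701725844374))) (.node (.node (.leaf 916439126168) (.leaf 2929168276364)) (.node (.leaf 2733210478228) (.leaf 4218195761412))))))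
def dF_522 : BT := .node (.node (.node (.node (.node (.node (.node (.leaf 117574757892) (.leaf 4267051026183)) (.leaf 2860448901139)) (.node (.leaf 618475614494) (.leaf 2386928685957))) (.node (.node (.leaf 1233192779009) (.leaf 3282966409616)) (.node (.leaf 2376728094105) (.leaf 3374234602526)))) (.node (.node (.node (.node (.leaf 355945521172) (.leaf 4448513437468)) (.leaf 2425046579590)) (.node (.leaf 1128502926095) (.leaf 2925410468254))) (.node (.node (.leaf 2066953504141) (.leaf 1835025609229)) (.node (.leaf 1824824858636) (.leaf 2646237693825))))) (.node (.node (.node (.node (.node (.leaf 242128839047) (.leaf 4378720196374)) (.leaf 2998424758428)) (.node (.leaf 205084793092) (.leaf 2382633704966))) (.node (.node (.leaf 1689533157391) (.leaf 3406983584643)) (.node (.leaf 2524367630213) (.leaf 3969087598737)))) (.node (.node (.node (.leaf 814433368586) (.leaf 3195993301135)) (.node (.leaf 1275605837205) (.leaf 3751654827539))) (.node (.node (.leaf 1072131466883) (.leaf 2444910801822)) (.node (.leaf 2740726659218) (.leaf 4161287177867)))))) (.node (.node (.node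 (.node (.node (.node (.leaf 260382454411) (.leaf 4333086158596)) (.leaf 2930242136067)) (.node (.leaf 48855264655) (.leaf 2918967819158))) (.node (.node (.leaf 1404454640668) (.leaf 3344706579216)) (.node (.leaf 2439542005776) (.leaf 3766687254550)))) (.node (.node (.node (.leaf 635655311379) (.leaf 2911988430210)) (.node (.leaf 1188095751559) (.leaf 3703336433935))) (.node (.node (.leaf 933618765441) (.leaf 2851859056135)) (.node (.leaf 2694018878736) (.leaf 4110284282249))))) (.node (.node (.node (.node (.node (.leaf 497142583169) (.leaf 4188131037577)) (.leaf 3040837524501)) (.node (.leaf 768262458266) (.leaf 3506841556874))) (.node (.node (.leaf 1863479359513) (.leaf 3471944980500)) (.node (.leaf 2585034057615) (.leaf 3923990454146)))) (.node (.node (.node (.leaf 1042603559831) (.leaf 3242164210588)) (.node (.leaf 1839857173761) (.leaf 3803731318429))) (.node (.node (.leaf 652298209563) (.leaf 2545842721165)) (.node (.leaf 2797634989459) (.leaf 4219269503374))))))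
def dF_530 : BT := .node (.node (.node (.node (.node (.node (.node (.leaf 2147508374) (.leaf 4266514154907)) (.leaf 2869038837786)) (.node (.leaf 157303315614) (.leaf 2463164358917))) (.node (.node (.leaf 1136556007045) (.leaf 3282966409629)) (.node (.leaf 2313377325826) (.leaf 3568045000460)))) (.node (.node (.node (.node (.leaf 425201789059) (.leaf 4446365953408)) (.leaf 2868502019862)) (.node (.leaf 1696512202637) (.leaf 2797635190402))) (.node (.node (.leaf 2039036210049) (.leaf 1901597380995)) (.node (.leaf 2423972794646) (.leaf 4060355675549))))) (.node (.node (.node (.node (.node (.leaf 16106218516) (.leaf 1319629745676)) (.leaf 2994129790209)) (.node (.leaf 426275807624) (.leaf 2739116050692))) (.node (.node (.leaf 1524176916484) (.leaf 3410204846107)) (.node (.leaf 2518998919706) (.leaf 3970698211869)))) (.node (.node (.node (.leaf 799937849732) (.leaf 3196530172184)) (.node (.leaf 1130650407957) (.leaf 3754876053787))) (.node (.node (.leaf 448824373645) (.leaf 3609384001944)) (.node (.leaf 2747705982745) (.leaf 4158603075865)))))) (.node (.node (.node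 (.node (.node (.node (.leaf 255013744016) (.leaf 4286378394389)) (.leaf 2932926491538)) (.node (.leaf 1831267117455) (.leaf 2426657114389))) (.node (.node (.leaf 1389959122701) (.leaf 3349538418692)) (.node (.leaf 2445447587225) (.leaf 3760781670421)))) (.node (.node (.node (.leaf 630286600979) (.leaf 3138011216660)) (.node (.leaf 700079936663) (.leaf 3700115206805))) (.node (.node (.leaf 977642037022) (.leaf 3572339900174)) (.node (.leaf 2689723910426) (.leaf 4119411398403))))) (.node (.node (.node (.node (.node (.leaf 489089517459) (.leaf 4414690093705)) (.leaf 2902861747331)) (.node (.leaf 1840393925147) (.leaf 2669859851787))) (.node (.node (.leaf 1847910119699) (.leaf 3473018757777)) (.node (.leaf 2580739089308) (.leaf 4003984151686)))) (.node (.node (.node (.leaf 1029181783813) (.leaf 1896228832909)) (.node (.leaf 2338610248725) (.leaf 3786551448971))) (.node (.node (.leaf 1995549411870) (.leaf 2491081695511)) (.node (.leaf 1839320411019) (.leaf 4213363921946))))))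
def dF_537 : BT := .node (.node (.node (.node (.node (.node (.node (.leaf 119722241937) (.leaf 4273493478427)) (.leaf 2875481290372)) (.node (.leaf 470299145502) (.leaf 2729452497930))) (.node (.node (.leaf 1182726915717) (.leaf 3281892507783)) (.node (.leaf 2023467034630) (.leaf 3409668084746)))) (.node (.node (.node (.leaf 377420362374) (.leaf 3097745900826)) (.node (.leaf 1625645509135) (.leaf 3655554911492))) (.node (.node (.leaf 2078764667021) (.leaf 2938832194699)) (.node (.leaf 2639794903698) (.leaf 2538863511818))))) (.node (.node (.node (.node (.node (.leaf 12884992262) (.leaf 4385699523220)) (.leaf 2995203532184)) (.node (.leaf 2284922790686) (.leaf 2592550223491))) (.node (.node (.leaf 1695438744339) (.leaf 3418794782748)) (.node (.leaf 2525441372178) (.leaf 3976066922259)))) (.node (.node (.node (.leaf 823560175379) (.leaf 2477123148183)) (.node (.leaf 637266323339) (.leaf 3748433601295))) (.node (.node (.leaf 2255395239819) (.leaf 2858838431235)) (.node (.leaf 2743411001366) (.leaf 4155918394890)))))) (.node (.node (.node (.node (.node (.node (.leaf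 268435519753) (.leaf 2367064886029)) (.leaf 2946348267549)) (.node (.leaf 169651232131) (.leaf 2615099040414))) (.node (.node (.leaf 1432371934849) (.leaf 2474438829442)) (.node (.leaf 2453500652828) (.leaf 3922916689304)))) (.node (.node (.node (.leaf 638339663252) (.leaf 3143916744981)) (.node (.leaf 1324997756830) (.leaf 3713000112781))) (.node (.node (.leaf 885300347145) (.leaf 2688113461772)) (.node (.leaf 2590939661059) (.leaf 4105989463688))))) (.node (.node (.node (.node (.node (.leaf 505732519697) (.leaf 2402498384906)) (.leaf 3049964378372)) (.node (.leaf 160524440986) (.leaf 3284576846856))) (.node (.node (.leaf 1869921832449) (.leaf 3026342156418)) (.node (.leaf 2379412499220) (.leaf 3764539683203)))) (.node (.node (.node (.leaf 1047435399319) (.leaf 3244311694739)) (.node (.leaf 2343978413064) (.leaf 3802120707971))) (.node (.node (.leaf 503584956190) (.leaf 2478733590549)) (.node (.leaf 2798708731905) (.leaf 4210679492994))))))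
def dF_546 : BT := .node (.node (.node (.node (.node (.node (.node (.leaf 92878691716) (.leaf 3927211738371)) (.leaf 2870649450895)) (.node (.leaf 254476824222) (.leaf 1903744959501))) (.node (.node (.leaf 1195611806217) (.leaf 3283503280772)) (.node (.leaf 2373506867869) (.leaf 3855270938265)))) (.node (.node (.node (.node (.leaf 428423068053) (.leaf 4445829082255)) (.leaf 3083787253776)) (.node (.leaf 1903207836814) (.leaf 3639448780177))) (.node (.node (.leaf 2032056886416) (.leaf 2350421506462)) (.node (.leaf 2633352451214) (.leaf 4056060670336))))) (.node (.node (.node (.node (.node (.leaf 379030954256) (.leaf 4377646024202)) (.leaf 2824478580631)) (.node (.leaf 1062467810462) (.leaf 2833605504414))) (.node (.node (.leaf 1649804706049) (.leaf 3400004223623)) (.node (.leaf 2500745294358) (.leaf 3963182017294)))) (.node (.node (.node (.leaf 785442331648) (.leaf 3192235203868)) (.node (.leaf 1772211364999) (.leaf 3756486666908))) (.node (.node (.leaf 954556924294) (.leaf 2546916213770)) (.node (.leaf 2739116046109) (.leaf 4160213688986)))))) (.node (.node (.node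 (.node (.node (.node (.leaf 235686337551) (.leaf 4331475539607)) (.leaf 2935073975706)) (.node (.leaf 143881505054) (.leaf 3361349589633))) (.node (.node (.leaf 1318018418945) (.leaf 3309809967367)) (.node (.leaf 2431488940176) (.leaf 3907884300187)))) (.node (.node (.node (.leaf 521838676106) (.leaf 3141769260821)) (.node (.leaf 826244484247) (.leaf 2335389349382))) (.node (.node (.leaf 330175642394) (.leaf 3568044931866)) (.node (.leaf 2694555749789) (.leaf 4112969037454))))) (.node (.node (.node (.node (.node (.leaf 484794549261) (.leaf 4413616746121)) (.leaf 2839510823302)) (.node (.leaf 1762010753307) (.leaf 2407330006686))) (.node (.node (.leaf 1844152022416) (.leaf 3465502563226)) (.node (.leaf 2582886573572) (.leaf 4005594763405)))) (.node (.node (.node (.leaf 1012538781573) (.leaf 3234111032966)) (.node (.leaf 2339147119243) (.leaf 3747896743050))) (.node (.node (.leaf 790274037763) (.leaf 2493765994374)) (.node (.leaf 2547990012693) (.leaf 4216585148188))))))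
def dF_553 : BT := .node (.node (.node (.node (.node (.node (.node (.leaf 110058563228) (.leaf 4272956607493)) (.leaf 2865817611535)) (.node (.leaf 82678182942) (.leaf 2563559173910))) (.node (.node (.leaf 1229434681616) (.leaf 3233574286615)) (.node (.leaf 2378338707218) (.leaf 3853660328713)))) (.node (.node (.node (.leaf 467614654594) (.leaf 2909304209796)) (.node (.leaf 1394254280222) (.leaf 3642669999620))) (.node (.node (.leaf 2066416632977) (.leaf 2385855011201)) (.node (.leaf 2637110548508) (.leaf 3359202265099))))) (.node (.node (.node (.node (.node (.leaf 136365296902) (.leaf 4080756847879)) (.leaf 2996814145307)) (.node (.leaf 628139357342) (.leaf 2833605262978))) (.node (.node (.leaf 1693291260189) (.leaf 3415036685568)) (.node (.leaf 2526515114266) (.leaf 3979288148507)))) (.node (.node (.node (.leaf 467614760074) (.leaf 3194382518421)) (.node (.leaf 2309082343055) (.leaf 3750044214416))) (.node (.node (.leaf 43487080984) (.leaf 2443837163266)) (.node (.leaf 2745021627534) (.leaf 4158603075859)))))) (.node (.node (.node (.node (.node (.node (.leaf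 102542407173) (.leaf 4341676100486)) (.leaf 2940442686212)) (.node (.leaf 49929029271) (.leaf 3325379221769))) (.node (.node (.leaf 1422171385093) (.leaf 3345780272263)) (.node (.leaf 2449205684612) (.leaf 3925064173466)))) (.node (.node (.node (.leaf 625454764183) (.leaf 3085934606215)) (.node (.leaf 1379221704478) (.leaf 3482682489355))) (.node (.node (.leaf 1053340979720) (.leaf 2463164547072)) (.node (.leaf 2688650168334) (.leaf 4109747715463))))) (.node (.node (.node (.node (.node (.leaf 44023532950) (.leaf 4417374917145)) (.leaf 2698850646790)) (.node (.leaf 636192182427) (.leaf 3117609960193))) (.node (.node (.leaf 137439396633) (.leaf 3320010546581)) (.node (.leaf 2585034015380) (.leaf 3556233806988)))) (.node (.node (.node (.leaf 1045824785949) (.leaf 3246459178904)) (.node (.leaf 2335389025685) (.leaf 3804805060499))) (.node (.node (.leaf 836445390083) (.leaf 2864206891908)) (.node (.leaf 2799245602586) (.leaf 4211216389766))))))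
def dF_561 : BT := .node (.node (.node (.node (.node (.node (.node (.leaf 1073767191) (.leaf 3903589419422)) (.leaf 2863670127384)) (.node (.leaf 420906797332) (.leaf 2338073577869))) (.node (.node (.leaf 1217086647808) (.leaf 3183645292291)) (.node (.leaf 2375117480988) (.leaf 3866545230212)))) (.node (.node (.node (.node (.leaf 331786324614) (.leaf 4447439695389)) (.leaf 2861522587010)) (.node (.leaf 760209392655) (.leaf 3641596017289))) (.node (.node (.leaf 2055142332313) (.leaf 2385855057566)) (.node (.leaf 2421288439445) (.leaf 4060892546577))))) (.node (.node (.node (.node (.node (.leaf 377420253845) (.leaf 4048007720990)) (.leaf 2980708021000)) (.node (.leaf 385473696030) (.leaf 2567317320576))) (.node (.node (.leaf 1679869484293) (.leaf 3409667975059)) (.node (.leaf 2513630209298) (.leaf 3963181959179)))) (.node (.node (.node (.leaf 813896482689) (.leaf 3192772074899)) (.node (.leaf 1960116140053) (.leaf 3753265440664))) (.node (.node (.leaf 2217814008854) (.leaf 2876555159555)) (.node (.leaf 2750927116692) (.leaf 1834488899358)))))) (.node (.node (.node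 (.node (.node (.node (.leaf 248571291413) (.leaf 4336307390108)) (.leaf 2932926491535)) (.node (.leaf 1045824785946) (.leaf 2538863138689))) (.node (.node (.leaf 1398012188292) (.leaf 2870112694150)) (.node (.leaf 2444373845145) (.leaf 3912716139653)))) (.node (.node (.node (.leaf 632970956298) (.leaf 3133716227974)) (.node (.leaf 1127429069333) (.leaf 3701188928919))) (.node (.node (.leaf 898722156034) (.leaf 2700461375884)) (.node (.leaf 2684892071065) (.leaf 4002910501376))))) (.node (.node (.node (.node (.node (.leaf 489626388482) (.leaf 4413616820357)) (.leaf 3045669256582)) (.node (.leaf 2032056886427) (.leaf 3395709233673))) (.node (.node (.leaf 1854889443332) (.leaf 3467113176336)) (.node (.leaf 2587181541775) (.leaf 4021164089629)))) (.node (.node (.node (.leaf 13958891801) (.leaf 3245385436933)) (.node (.leaf 1843078398869) (.leaf 2515778000388))) (.node (.node (.leaf 355945538462) (.leaf 2435783908614)) (.node (.leaf 2796561146891) (.leaf 4210142695704))))))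
def dF_568 : BT := .node (.node (.node (.node (.node (.node (.node (.leaf 15032412952) (.leaf 4273493456781)) (.leaf 2871186321946)) (.node (.leaf 137975852574) (.leaf 3163244092446))) (.node (.node (.leaf 1249298909573) (.leaf 3298535669888)) (.node (.leaf 2384781159809) (.leaf 3869229585664)))) (.node (.node (.node (.leaf 467077696263) (.leaf 3096672158737)) (.node (.leaf 533649813774) (.leaf 3648038043660))) (.node (.node (.leaf 2087354219919) (.leaf 2592550244224)) (.node (.leaf 2638184241559) (.leaf 4064650643867))))) (.node (.node (.node (.node (.node (.leaf 395673956621) (.leaf 4386773267865)) (.leaf 3002719726739)) (.node (.leaf 33286178186) (.leaf 2501819063308))) (.node (.node (.leaf 476204903813) (.leaf 3419331653776)) (.node (.leaf 2524367630094) (.leaf 3978751277455)))) (.node (.node (.node (.leaf 763967504644) (.leaf 3185255710742)) (.node (.leaf 2310155685142) (.leaf 3747359823112))) (.node (.node (.leaf 390842563211) (.leaf 2649458761093)) (.node (.leaf 2447595141014) (.leaf 4175782949135)))))) (.node (.node (.node (.node (.node (.node (.leaf 274877972619)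 (.leaf 3680788007946)) (.leaf 2941516428186)) (.node (.leaf 88583706390) (.leaf 2895882389662))) (.node (.node (.leaf 1439351236629) (.leaf 3352759644829)) (.node (.leaf 2448668813467) (.leaf 3921306076179)))) (.node (.node (.node (.leaf 624917894528) (.leaf 2674154763779)) (.node (.leaf 1314260306452) (.leaf 3716221338908))) (.node (.node (.leaf 1041529820802) (.leaf 2587718552704)) (.node (.leaf 2699924460292) (.leaf 4003984240532))))) (.node (.node (.node (.node (.node (.leaf 508953745281) (.leaf 4411469337613)) (.leaf 3051038074262)) (.node (.leaf 645318990106) (.leaf 3049427476105))) (.node (.node (.leaf 1108638880026) (.leaf 2757906704387)) (.node (.leaf 2601140188940) (.leaf 3717295139991)))) (.node (.node (.node (.leaf 469762298889) (.leaf 3246459178895)) (.node (.leaf 2341294606341) (.leaf 3805341205388))) (.node (.node (.leaf 219043496094) (.leaf 3190087631873)) (.node (.leaf 2807835539333) (.leaf 4207458316290))))))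
def dF_578 : BT := .node (.node (.node (.node (.node (.node (.node (.leaf 98247400349) (.leaf 4262755999637)) (.leaf 2862596385413)) (.node (.leaf 329101992586) (.leaf 2836826506763))) (.node (.node (.leaf 1192927449731) (.leaf 3223373736852)) (.node (.leaf 2372969996928) (.leaf 3856344680468)))) (.node (.node (.node (.node (.leaf 497142475412) (.leaf 4445292211092)) (.leaf 3092377190416)) (.node (.leaf 1843078280334) (.leaf 3637838167298))) (.node (.node (.leaf 2031520015389) (.leaf 2384244330112)) (.node (.leaf 2627983740816) (.leaf 4056597578257))))) (.node (.node (.node (.node (.node (.leaf 387620890896) (.leaf 4100621069696)) (.leaf 2991445395733)) (.node (.leaf 157840220574) (.leaf 2838437241601))) (.node (.node (.leaf 1564979100673) (.leaf 3401614897940)) (.node (.leaf 2506650885775) (.leaf 3959960791056)))) (.node (.node (.node (.leaf 776852395008) (.leaf 2541010788739)) (.node (.leaf 827318497675) (.leaf 3759707893248))) (.node (.node (.leaf 1807644825882) (.leaf 2533494440711)) (.node (.leaf 2747705982749) (.leaf 4168803625626)))))) (.node (.node (.node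 (.node (.node (.node (.leaf 176630588314) (.leaf 4328254324504)) (.leaf 2936147717788)) (.node (.leaf 833223665822) (.leaf 3156264699404))) (.node (.node (.leaf 1381906056329) (.leaf 3333969158414)) (.node (.leaf 2434173295379) (.leaf 3907883934467)))) (.node (.node (.node (.leaf 521838675714) (.leaf 3134253131535)) (.node (.leaf 1695438537622) (.leaf 2310156416387))) (.node (.node (.leaf 330712700062) (.leaf 3571266158108)) (.node (.leaf 2692945136773) (.leaf 4105989713937))))) (.node (.node (.node (.node (.node (.leaf 464930313112) (.leaf 4412543077525)) (.leaf 2833605395220)) (.node (.leaf 617938502412) (.leaf 3286187476363))) (.node (.node (.leaf 1843615151389) (.leaf 3462818208029)) (.node (.leaf 2397129235861) (.leaf 4005057895680)))) (.node (.node (.node (.leaf 1003948844933) (.leaf 3228205359234)) (.node (.leaf 2320356639106) (.leaf 3801046963219))) (.node (.node (.leaf 339302902302) (.leaf 2649458659358)) (.node (.leaf 2787434356486) (.leaf 4221416987539))))))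
def dF_585 : BT := .node (.node (.node (.node (.node (.node (.node (.leaf 118648499868) (.leaf 4272419736335)) (.leaf 2863133256336)) (.node (.leaf 49392403226) (.leaf 1962263755286))) (.node (.node (.leaf 1229971552669) (.leaf 3288335107350)) (.node (.leaf 2377264965139) (.leaf 3860102724747)))) (.node (.node (.node (.node (.leaf 449897909894) (.leaf 4449050308506)) (.leaf 2626373170566)) (.node (.leaf 1179505674894) (.leaf 3642670006417))) (.node (.node (.leaf 2075006569617) (.leaf 2687039475210)) (.node (.leaf 2643016129939) (.leaf 3564286953357))))) (.node (.node (.node (.node (.node (.leaf 17716744323) (.leaf 4385162654735)) (.leaf 3005404081947)) (.node (.leaf 625455002014) (.leaf 2501282258188))) (.node (.node (.leaf 1692217506944) (.leaf 3357591495702)) (.node (.leaf 2527051985309) (.leaf 3979825019536)))) (.node (.node (.node (.leaf 819265207069) (.leaf 3187403364495)) (.node (.leaf 695248381445) (.leaf 3758634151056))) (.node (.node (.leaf 2245731549824) (.leaf 2637110640129)) (.node (.leaf 2742874143376) (.leaf 4103842243230)))))) (.node (.node (.node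 (.node (.node (.node (.leaf 103616148618) (.leaf 4337918003333)) (.leaf 2931315844482)) (.node (.leaf 88583703942) (.leaf 2310693214860))) (.node (.node (.leaf 1413581448452) (.leaf 3345780321294)) (.node (.leaf 2441152618895) (.leaf 3918621720988)))) (.node (.node (.node (.leaf 634581569793) (.leaf 3084860920967)) (.node (.leaf 1841467410179) (.leaf 3702262692231))) (.node (.node (.leaf 882615989526) (.leaf 3044595494156)) (.node (.leaf 2685428942096) (.leaf 3190087938952))))) (.node (.node (.node (.node (.node (.leaf 500900680339) (.leaf 4410932466316)) (.leaf 3039763782421)) (.node (.leaf 825170788506) (.leaf 3511136603934))) (.node (.node (.leaf 209380099994) (.leaf 3469797507846)) (.node (.leaf 2582886531223) (.leaf 3562139440002)))) (.node (.node (.node (.leaf 1040992947466) (.leaf 3244311694746)) (.node (.leaf 2341294604054) (.leaf 3804268189467))) (.node (.node (.leaf 2081985596318) (.leaf 2821794104342)) (.node (.leaf 2798171860499) (.leaf 2327336408350))))))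
def dF_593 : BT := .node (.node (.node (.node (.node (.node (.node (.leaf 5905605260) (.leaf 3887483292293)) (.leaf 2860448901146)) (.node (.leaf 157303301150) (.leaf 1121523921805))) (.node (.node (.leaf 1208496711168) (.leaf 3281892667547)) (.node (.leaf 2375117478155) (.leaf 3855807809289)))) (.node (.node (.node (.node (.leaf 330712582548) (.leaf 4360466607625)) (.leaf 2859912083222)) (.node (.leaf 767188716174) (.leaf 3641596264345))) (.node (.node (.leaf 2047626146689) (.leaf 2316061868062)) (.node (.leaf 2622077987331) (.leaf 2424510006921))))) (.node (.node (.node (.node (.node (.leaf 380104690330) (.leaf 2568391488392)) (.leaf 3002719726849)) (.node (.leaf 1631550706206) (.leaf 3106335686402))) (.node (.node (.leaf 1671279547652) (.leaf 3409667975064)) (.node (.leaf 2516314564505) (.leaf 3882651382016)))) (.node (.node (.node (.leaf 808527786373) (.leaf 3187940235544)) (.node (.leaf 1898912882176) (.leaf 3746286117147))) (.node (.node (.leaf 1354525603734) (.leaf 3609920872975)) (.node (.leaf 2739116046105) (.leaf 4169877367699)))))) (.node (.node (.node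 (.node (.node (.node (.leaf 253939953167) (.leaf 4336307390212)) (.leaf 2934537104656)) (.node (.leaf 617401872414) (.leaf 2919504704001))) (.node (.node (.leaf 1392106605973) (.leaf 3346317192348)) (.node (.leaf 2437931392669) (.leaf 3909494673928)))) (.node (.node (.node (.leaf 631897201289) (.leaf 3135863732500)) (.node (.leaf 702227436933) (.leaf 2372970313475))) (.node (.node (.leaf 893353407774) (.leaf 3585761676289)) (.node (.leaf 2693482007705) (.leaf 3924527348487))))) (.node (.node (.node (.node (.node (.leaf 480499580819) (.leaf 2451890507914)) (.leaf 3044595667867)) (.node (.leaf 1901597223707) (.leaf 2809983086987))) (.node (.node (.leaf 1850057597711) (.leaf 3464965692178)) (.node (.leaf 2587181541784) (.leaf 4021164089732)))) (.node (.node (.node (.leaf 1001264498202) (.leaf 2922189145861)) (.node (.leaf 651224974103) (.leaf 3802120661002))) (.node (.node (.leaf 49929320324) (.leaf 2493229144844)) (.node (.leaf 1909113629705) (.leaf 4218732632344))))))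
def dF_600 : BT := .node (.node (.node (.node (.node (.node (.node (.leaf 111132305297) (.leaf 3746823114142)) (.leaf 2873870677149)) (.node (.leaf 82141269135) (.leaf 2743410968587))) (.node (.node (.leaf 1247151398273) (.leaf 3289945733248)) (.node (.leaf 2379949320344) (.leaf 3870303311237)))) (.node (.node (.node (.leaf 119185445506) (.leaf 3098819589911)) (.node (.leaf 527207361294) (.leaf 3433827224478))) (.node (.node (.leaf 2086817732499) (.leaf 2447595087104)) (.node (.leaf 2641942387854) (.leaf 4064650643998))))) (.node (.node (.node (.node (.node (.leaf 12348121219) (.leaf 4366372173446)) (.leaf 3008088430230)) (.node (.leaf 1072131471262) (.leaf 2383170709645))) (.node (.node (.leaf 1697049357469) (.leaf 2485176267526)) (.node (.leaf 2524904501137) (.leaf 3975530051214)))) (.node (.node (.node (.leaf 378494189576) (.leaf 2911451715586)) (.node (.leaf 2310692956185) (.leaf 2457795928073))) (.node (.node (.leaf 2260227077641) (.leaf 3150359246494)) (.node (.leaf 2739652904085) (.leaf 4157529321472)))))) (.node (.node (.node (.node (.node (.node (.leaf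 271656746375) (.leaf 4337381132184)) (.leaf 2937758330909)) (.node (.leaf 536907550) (.leaf 2512556484102))) (.node (.node (.leaf 1435593160989) (.leaf 3354907129089)) (.node (.leaf 2457258750107) (.leaf 3914326752664)))) (.node (.node (.node (.leaf 639413408277) (.leaf 3150896133777)) (.node (.leaf 1248225124480) (.leaf 3721053178242))) (.node (.node (.leaf 883689731844) (.leaf 2400887315968)) (.node (.leaf 2454037580436) (.leaf 4104915941125))))) (.node (.node (.node (.node (.node (.leaf 506806181142) (.leaf 4414690563223)) (.leaf 3048353765149)) (.node (.leaf 632970956187) (.leaf 3531537450248))) (.node (.node (.leaf 1878511769088) (.leaf 3477850597252)) (.node (.leaf 2592550252301) (.leaf 3964792620674)))) (.node (.node (.node (.leaf 1046361657879) (.leaf 3245385436817)) (.node (.leaf 2321967253382) (.leaf 2724083915550))) (.node (.node (.leaf 26843611934) (.leaf 2659659244930)) (.node (.leaf 2800319344533) (.leaf 4157529345666))))))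
def dF_609 : BT := .node (.node (.node (.node (.node (.node (.node (.leaf 101468626589) (.leaf 4265976861833)) (.leaf 2865817611548)) (.node (.leaf 1440424947998) (.leaf 2400887378049))) (.node (.node (.leaf 1197759290256) (.leaf 3236258641815)) (.node (.leaf 2334852162309) (.leaf 3855807809694)))) (.node (.node (.node (.node (.leaf 334470679828) (.leaf 4436702276877)) (.leaf 3085934737934)) (.node (.leaf 627065707527) (.leaf 3639985651227))) (.node (.node (.leaf 231391848328) (.leaf 2886755568512)) (.node (.leaf 2624762514574) (.leaf 3944391558532))))) (.node (.node (.node (.node (.node (.leaf 20401099526) (.leaf 4377109413642)) (.leaf 2993592919056)) (.node (.leaf 33286533534) (.leaf 2592013374593))) (.node (.node (.leaf 1658394642689) (.leaf 3406983619968)) (.node (.leaf 2519535790737) (.leaf 3972845696141)))) (.node (.node (.node (.leaf 791884760089) (.leaf 3194382688026)) (.node (.leaf 763967577600) (.leaf 3747896730268))) (.node (.node (.leaf 950798491288) (.leaf 3612068357146)) (.node (.leaf 2743411014427) (.leaf 4167193012505)))))) (.node (.node (.node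 (.node (.node (.node (.leaf 248571291651) (.leaf 4328254324498)) (.leaf 2934000233624)) (.node (.leaf 1775432554526) (.leaf 2812130586270))) (.node (.node (.leaf 1387811635989) (.leaf 3340948482052)) (.node (.leaf 2439542005892) (.leaf 3908958042266)))) (.node (.node (.node (.leaf 628675927813) (.leaf 3140158700820)) (.node (.leaf 695784855173) (.leaf 3700652078735))) (.node (.node (.leaf 1875290542341) (.leaf 3570192416018)) (.node (.leaf 2685965813149) (.leaf 4104379100814))))) (.node (.node (.node (.node (.node (.leaf 493384485901) (.leaf 4414153690907)) (.leaf 766115516172)) (.node (.leaf 1835025214746) (.leaf 3570192282504))) (.node (.node (.leaf 1845225764872) (.leaf 3468186918425)) (.node (.leaf 2410551011862) (.leaf 3939559707659)))) (.node (.node (.node (.leaf 1020591847173) (.leaf 2907156694790)) (.node (.leaf 2331630928535) (.leaf 2813204485377))) (.node (.node (.leaf 1878511798298) (.leaf 2640868169095)) (.node (.leaf 2346663422740) (.leaf 4207995211548))))))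
def dF_616 : BT := .node (.node (.node (.node (.node (.node (.node (.leaf 115427273619) (.leaf 2907157008139)) (.leaf 2813204262919)) (.node (.leaf 210990305563) (.leaf 2954401308438))) (.node (.node (.leaf 1241782715649) (.leaf 3285113712276)) (.node (.leaf 2378875578257) (.leaf 3106336019200)))) (.node (.node (.node (.leaf 359166673046) (.leaf 2877091956373)) (.node (.leaf 1398549059215) (.leaf 2649995691276))) (.node (.node (.leaf 1806571113728) (.leaf 2370822676749)) (.node (.leaf 2640331774744) (.leaf 4063576901775))))) (.node (.node (.node (.node (.node (.leaf 335544400007) (.leaf 4385699525786)) (.leaf 3003793468824)) (.node (.leaf 523449543433) (.leaf 3055869839243))) (.node (.node (.leaf 1694365002269) (.leaf 3422552880017)) (.node (.leaf 2525978243225) (.leaf 3976603793307)))) (.node (.node (.node (.leaf 821949562371) (.leaf 3191161292182)) (.node (.leaf 1127429465864) (.leaf 3757023537935))) (.node (.node (.leaf 2255932110210) (.leaf 2649995528717)) (.node (.leaf 2747705969686) (.leaf 4158066149894)))))) (.node (.node (.node (.node (.node (.node (.leaf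 91268118414) (.leaf 4341676100507)) (.leaf 2949032622852)) (.node (.leaf 628139163294) (.leaf 2643016076420))) (.node (.node (.leaf 1427003224349) (.leaf 3342559046023)) (.node (.leaf 2457795621252) (.leaf 3916474236826)))) (.node (.node (.node (.leaf 466004103816) (.leaf 2973191846791)) (.node (.leaf 571767612702) (.leaf 3704947045399))) (.node (.node (.leaf 1045824788101) (.leaf 2472828021380)) (.node (.leaf 2454037580439) (.leaf 4107600240009))))) (.node (.node (.node (.node (.node (.leaf 462782846093) (.leaf 4418448659225)) (.leaf 2578054799106)) (.node (.leaf 833760725146) (.leaf 2682207665418))) (.node (.node (.leaf 149787412121) (.leaf 3465502522246)) (.node (.leaf 2378338757271) (.leaf 1315334631687)))) (.node (.node (.node (.leaf 1047972269699) (.leaf 3248606481047)) (.node (.leaf 2342905218579) (.leaf 3808026286849))) (.node (.node (.leaf 836445080577) (.leaf 3259880829854)) (.node (.leaf 2799782473615) (.leaf 2483565842827))))))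
def dF_624 : BT := .node (.node (.node (.node (.node (.node (.node (.leaf 108984821252) (.leaf 4268124533512)) (.leaf 2869038837779)) (.node (.leaf 403190509214) (.leaf 2450816354054))) (.node (.node (.leaf 1224602842368) (.leaf 3285113893778)) (.node (.leaf 2376191223057) (.leaf 3512210428567)))) (.node (.node (.node (.node (.leaf 430033681159) (.leaf 4447976566405)) (.leaf 3091303421062)) (.node (.leaf 169651248655) (.leaf 3616363332870))) (.node (.node (.leaf 2058363567500) (.leaf 2385317866502)) (.node (.leaf 2415919729162) (.leaf 3944391558922))))) (.node (.node (.node (.node (.node (.leaf 19864315779) (.leaf 4384625783709)) (.leaf 3007014695068)) (.node (.leaf 385473691166) (.leaf 2389076156167))) (.node (.node (.leaf 1686311936768) (.leaf 3407520490895)) (.node (.leaf 2516851435534) (.leaf 3885872607383)))) (.node (.node (.node (.leaf 816043980817) (.leaf 3194382688016)) (.node (.leaf 94489319043) (.leaf 3744675504024))) (.node (.node (.leaf 1138703732995) (.leaf 2499671678469)) (.node (.leaf 2749316595858) (.leaf 4117800889111)))))) (.node (.node (.node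 (.node (.node (.node (.leaf 74088247310) (.leaf 4335233648024)) (.leaf 2881923721474)) (.node (.leaf 129922957577) (.leaf 2976413032199))) (.node (.node (.leaf 1406602124932) (.leaf 3343095966099)) (.node (.leaf 2443300103059) (.leaf 3921306076293)))) (.node (.node (.node (.leaf 634581567747) (.leaf 2910377928455)) (.node (.leaf 1966558619544) (.leaf 3702799562906))) (.node (.node (.leaf 890669053204) (.leaf 2578054898462)) (.node (.leaf 2690797652498) (.leaf 4111895249024))))) (.node (.node (.node (.node (.node (.leaf 28991144214) (.leaf 4413616820611)) (.leaf 3043521925777)) (.node (.leaf 762893747867) (.leaf 3506304497549))) (.node (.node (.leaf 1863479379972) (.leaf 3469260660494)) (.node (.leaf 2586644670736) (.leaf 4021164089616)))) (.node (.node (.node (.leaf 1042066443658) (.leaf 2485713097238)) (.node (.leaf 2334315283479) (.leaf 3803194441483))) (.node (.node (.leaf 307090686622) (.leaf 2478733760158)) (.node (.leaf 1901060566276) (.leaf 4219806323462))))))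
def dF_631 : BT := .node (.node (.node (.node (.node (.node (.node (.leaf 122406587545) (.leaf 4272956465804)) (.leaf 2874407548178)) (.node (.leaf 2093797056015) (.leaf 3164854749086))) (.node (.node (.leaf 1251446378627) (.leaf 3301756896027)) (.node (.leaf 2393371096449) (.leaf 3061238863241)))) (.node (.node (.node (.leaf 452045341315) (.leaf 3097209009926)) (.node (.leaf 534723555854) (.leaf 2495376870657))) (.node (.node (.leaf 2015950772740) (.leaf 3266860193025)) (.node (.leaf 2357937675789) (.leaf 4065724385937))))) (.node (.node (.node (.node (.node (.leaf 404263893261) (.leaf 4387310133910)) (.leaf 2994129790099)) (.node (.leaf 1557999393566) (.leaf 2528125721091))) (.node (.node (.leaf 1635309203204) (.leaf 3421479059462)) (.node (.leaf 2521683237644) (.leaf 3897683749399)))) (.node (.node (.node (.leaf 825170773014) (.leaf 3195993144710)) (.node (.leaf 2311229459716) (.leaf 2344516167710))) (.node (.node (.leaf 2263447786509) (.leaf 2554969246485)) (.node (.leaf 2744484686871) (.leaf 4172024851868)))))) (.node (.node (.node (.node (.node (.node (.leaf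 277562327808) (.leaf 4342749842693)) (.leaf 2945274525465)) (.node (.leaf 417686052620) (.leaf 2457795805836))) (.node (.node (.leaf 1348620074650) (.leaf 3355980721542)) (.node (.leaf 2452426910744) (.leaf 3912716139539)))) (.node (.node (.node (.leaf 641024022283) (.leaf 3097209042070)) (.node (.leaf 1318018433950) (.leaf 3707631402268))) (.node (.node (.leaf 886910996740) (.leaf 2450816446087)) (.node (.leaf 2699387589149) (.leaf 3735548788992))))) (.node (.node (.node (.node (.node (.leaf 510027488138) (.leaf 2692945548681)) (.leaf 3046743152018)) (.node (.leaf 1503238912027) (.leaf 3193845626379))) (.node (.node (.leaf 1883343608451) (.leaf 2901251237634)) (.node (.leaf 2573222902294) (.leaf 3959960695564)))) (.node (.node (.node (.leaf 998580147712) (.leaf 3247532725511)) (.node (.leaf 2345589573789) (.leaf 2825015648030))) (.node (.node (.leaf 510027904542) (.leaf 2627983739651)) (.node (.leaf 2816425471621) (.leaf 4221953858586))))))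
def dF_642 : BT := .node (.node (.node (.node (.node (.node (.node (.leaf 97710529415) (.leaf 4262755932034)) (.leaf 2723009947269)) (.node (.leaf 410169477388) (.leaf 2375654359181))) (.node (.node (.leaf 381715502347) (.leaf 3276523944470)) (.node (.leaf 1960653136405) (.leaf 3856344680453)))) (.node (.node (.node (.node (.leaf 500363787523) (.leaf 4445292211073)) (.leaf 3085934737938)) (.node (.leaf 1832877730574) (.leaf 3637838144006))) (.node (.node (.leaf 1954747474816) (.leaf 2561411852805)) (.node (.leaf 2632278709136) (.leaf 4057670991753))))) (.node (.node (.node (.node (.node (.leaf 381715309459) (.leaf 4376035772692)) (.leaf 2991982305935)) (.node (.leaf 47781556894) (.leaf 2397129235968))) (.node (.node (.leaf 1643899124617) (.leaf 3401614909455)) (.node (.leaf 2510945854095) (.leaf 3961034533138)))) (.node (.node (.node (.leaf 774168039697) (.leaf 3194919559180)) (.node (.leaf 1771137289620) (.leaf 3755412924928))) (.node (.node (.leaf 1363652460570) (.leaf 3149822231446)) (.node (.leaf 2752000951069) (.leaf 4157529333789)))))) (.node (.node (.node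 (.node (.node (.node (.leaf 245886936337) (.leaf 4328791195547)) (.leaf 2936684585229)) (.node (.leaf 236760128664) (.leaf 3195456261644))) (.node (.node (.leaf 1378684831233) (.leaf 3333969158416)) (.node (.leaf 2432562682264) (.leaf 3870303336212)))) (.node (.node (.node (.leaf 624917890579) (.leaf 3138548099855)) (.node (.leaf 1569810850955) (.leaf 3699041465495))) (.node (.node (.leaf 196494859917) (.leaf 3572876771215)) (.node (.leaf 2688650168453) (.leaf 4110284682257))))) (.node (.node (.node (.node (.node (.leaf 467077800730) (.leaf 4412543077784)) (.leaf 2739652874502)) (.node (.leaf 711354413828) (.leaf 2812130517896))) (.node (.node (.leaf 1824824669312) (.leaf 3467113176349)) (.node (.leaf 2575907207703) (.leaf 4019016603286)))) (.node (.node (.node (.leaf 1000190747659) (.leaf 3228742322566)) (.node (.leaf 2337536508187) (.leaf 1847910585347))) (.node (.node (.leaf 115964595742) (.leaf 3015067632670)) (.node (.leaf 2735357962388) (.leaf 4221416987526))))))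
def dF_649 : BT := .node (.node (.node (.node (.node (.node (.node (.leaf 68182634765) (.leaf 4267051025946)) (.leaf 2867428224656)) (.node (.leaf 253403328133) (.leaf 2836289704468))) (.node (.node (.leaf 1236414005149) (.leaf 3285113893774)) (.node (.leaf 2376191223297) (.leaf 3860102777744)))) (.node (.node (.node (.node (.leaf 134754705415) (.leaf 4449050308488)) (.leaf 3003256508807)) (.node (.leaf 1196685548175) (.leaf 3642669405443))) (.node (.node (.leaf 2069100988812) (.leaf 2687039475585)) (.node (.leaf 2640868645901) (.leaf 2410551363466))))) (.node (.node (.node (.node (.node (.leaf 226022707846) (.leaf 3707094692866)) (.leaf 2994129790108)) (.node (.leaf 43486622977) (.leaf 2942590169090))) (.node (.node (.leaf 19864626971) (.leaf 3406983559431)) (.node (.leaf 624381473421) (.leaf 3977140664452)))) (.node (.node (.node (.leaf 818728336017) (.leaf 3191698332815)) (.node (.leaf 644782515712) (.leaf 3747359859219))) (.node (.node (.leaf 2214055913749) (.leaf 2649995535902)) (.node (.leaf 2747169111696) (.leaf 4160750520971)))))) (.node (.node (.node (.node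 (.node (.node (.leaf 261456134662) (.leaf 4333086163859)) (.leaf 2788508215298)) (.node (.leaf 48318587934) (.leaf 3347390934668))) (.node (.node (.leaf 1409823329049) (.leaf 3340411610896)) (.node (.leaf 2443836974096) (.leaf 3922916689308)))) (.node (.node (.node (.leaf 635118440337) (.leaf 2529736313862)) (.node (.leaf 1127429369218) (.leaf 3703336433949))) (.node (.node (.leaf 881005362316) (.leaf 3044058824990)) (.node (.leaf 2689723910416) (.leaf 4110284586381))))) (.node (.node (.node (.node (.node (.leaf 501437551489) (.leaf 4414690562561)) (.leaf 2848100913303)) (.node (.leaf 760746263706) (.leaf 2394445097728))) (.node (.node (.leaf 1040456271002) (.leaf 3470871238423)) (.node (.leaf 2580739089295) (.leaf 3713536946462)))) (.node (.node (.node (.leaf 469762296961) (.leaf 3248606663066)) (.node (.leaf 1842541528342) (.leaf 2515778000648))) (.node (.node (.leaf 211527173006) (.leaf 2543158182785)) (.node (.leaf 2797634489603) (.leaf 4172024863105))))))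
def dF_657 : BT := .node (.node (.node (.node (.node (.node (.node (.leaf 104689852819) (.leaf 4268124768135)) (.leaf 2864743869466)) (.node (.leaf 433791804830) (.leaf 2700461478656))) (.node (.node (.leaf 1204201742848) (.leaf 3286187635867)) (.node (.leaf 2375117481097) (.leaf 3854197196041)))) (.node (.node (.node (.node (.leaf 424664918036) (.leaf 4446902824345)) (.leaf 2864207051542)) (.node (.leaf 694711367175) (.leaf 3641596264335))) (.node (.node (.leaf 2043331178369) (.leaf 2364917043486)) (.node (.leaf 2419677826326) (.leaf 2650532660865))))) (.node (.node (.node (.node (.node (.leaf 335544411033) (.leaf 4382478299652)) (.leaf 2998424758529)) (.node (.leaf 1314260314398) (.leaf 2743410943619))) (.node (.node (.leaf 1668058015641) (.leaf 3406446748828)) (.node (.leaf 2514703951386) (.leaf 3972308824986)))) (.node (.node (.node (.leaf 804232818053) (.leaf 3192235203864)) (.node (.leaf 1846299519895) (.leaf 3750581085467))) (.node (.node (.leaf 445603149086) (.leaf 3610457744016)) (.node (.leaf 2743411014425) (.leaf 4006131739678)))))) (.node (.node (.node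 (.node (.node (.node (.leaf 250718775696) (.leaf 4262756074244)) (.leaf 2936684484743)) (.node (.leaf 1775432551582) (.leaf 2976413073182))) (.node (.node (.leaf 472983605252) (.leaf 3350075289627)) (.node (.leaf 2442226360989) (.leaf 3909494913299)))) (.node (.node (.node (.leaf 630823472136) (.leaf 3085934750102)) (.node (.leaf 760746351636) (.leaf 1896228943751))) (.node (.node (.leaf 1043140433438) (.leaf 3568044931854)) (.node (.leaf 2685428942106) (.leaf 4118874594966))))) (.node (.node (.node (.node (.node (.leaf 484794549139) (.leaf 4414690562069)) (.leaf 3044595667869)) (.node (.leaf 1897302255387) (.leaf 2535105189643))) (.node (.node (.leaf 229781191170) (.leaf 3469260660498)) (.node (.leaf 2583960315546) (.leaf 4003447345410)))) (.node (.node (.node (.leaf 1033476752132) (.leaf 1315871377031)) (.node (.leaf 761283511047) (.leaf 3802120374796))) (.node (.node (.leaf 972810523163) (.leaf 2532957569796)) (.node (.leaf 2795487505307) (.leaf 4209068953626))))))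
def dF_664 : BT := .node (.node (.node (.node (.node (.node (.node (.leaf 115427273617) (.leaf 4272956607384)) (.leaf 2877091903385)) (.node (.leaf 92878731550) (.leaf 2754148386827))) (.node (.node (.leaf 16106424584) (.leaf 3281355498242)) (.node (.leaf 815507482759) (.leaf 2706904060939)))) (.node (.node (.node (.leaf 340376261254) (.leaf 3098282771865)) (.node (.leaf 525060170253) (.leaf 3625490140422))) (.node (.node (.leaf 2083059635333) (.leaf 2560874868363)) (.node (.leaf 2640868645776) (.leaf 4064113772825))))) (.node (.node (.node (.node (.node (.leaf 337155013122) (.leaf 4387310139012)) (.leaf 3008088437137)) (.node (.leaf 1074278966430) (.leaf 2560337947531))) (.node (.node (.leaf 386547461130) (.leaf 3422016008984)) (.node (.leaf 2521146403858) (.leaf 3888556963479)))) (.node (.node (.node (.leaf 763430633349) (.leaf 2476049406100)) (.node (.leaf 1269163386757) (.leaf 3744675374856))) (.node (.node (.leaf 2259153335831) (.leaf 3411815320094)) (.node (.leaf 2741800388245) (.leaf 4155918708373)))))) (.node (.node (.node (.node (.node (.node (.leaf 269509262216)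 (.leaf 4337381132176)) (.leaf 2942053299229)) (.node (.leaf 161061297537) (.leaf 2705830074628))) (.node (.node (.leaf 1436666903169) (.leaf 3350612160769)) (.node (.leaf 2449205684508) (.leaf 3918621720984)))) (.node (.node (.node (.leaf 466004104073) (.leaf 3148211778693)) (.node (.leaf 539018407582) (.leaf 3717295081100))) (.node (.node (.leaf 900869601034) (.leaf 3184182071070)) (.node (.leaf 2449742612116) (.leaf 4105452753926))))) (.node (.node (.node (.node (.node (.leaf 506269308182) (.leaf 4414690563203)) (.leaf 3051574991385)) (.node (.leaf 828392014746) (.leaf 3133716349065))) (.node (.node (.leaf 1874216800768) (.leaf 3054796317572)) (.node (.leaf 2379412499209) (.leaf 3938485907593)))) (.node (.node (.node (.leaf 1043677303307) (.leaf 3240016726419)) (.node (.leaf 2344515283978) (.leaf 2825552519045))) (.node (.node (.leaf 1115617805083) (.leaf 2972654832643)) (.node (.leaf 2800319344657) (.leaf 4207995211536))))))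
def dF_673 : BT := .node (.node (.node (.node (.node (.node (.node (.leaf 100931755659) (.leaf 3955129025815)) (.leaf 2870112579868)) (.node (.leaf 49392446238) (.leaf 2398739717768))) (.node (.node (.leaf 1131724167817) (.leaf 3287798249092)) (.node (.leaf 2372969997194) (.leaf 2390150219654)))) (.node (.node (.node (.node (.leaf 471372751879) (.leaf 4444755340420)) (.leaf 3090229706254)) (.node (.leaf 2018634793996) (.leaf 3639985337095))) (.node (.node (.leaf 2033130628509) (.leaf 2887291916166)) (.node (.leaf 2629057482894) (.leaf 4042638934409))))) (.node (.node (.node (.node (.node (.leaf 21474928902) (.leaf 4377646457495)) (.leaf 2932926387463)) (.node (.leaf 350040379404) (.leaf 3486440537860))) (.node (.node (.leaf 1654099674369) (.leaf 2486786874754)) (.node (.leaf 2516851435653) (.leaf 3721590108300)))) (.node (.node (.node (.leaf 789737299968) (.leaf 3187940235548)) (.node (.leaf 1121523603076) (.leaf 3752191698588))) (.node (.node (.leaf 952409441172) (.leaf 3149285360661)) (.node (.leaf 2747705982747) (.leaf 4155918720666)))))) (.node (.node (.node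 (.node (.node (.node (.leaf 240518211099) (.leaf 4328791195534)) (.leaf 2930779007386)) (.node (.leaf 35433534750) (.leaf 3420405329438))) (.node (.node (.leaf 1386201008911) (.leaf 3332358395650)) (.node (.leaf 2433099553295) (.leaf 3908421171215)))) (.node (.node (.node (.leaf 628139116545) (.leaf 3090229718422)) (.node (.leaf 828928840852) (.leaf 2395518891659))) (.node (.node (.leaf 1871532497153) (.leaf 3569118673944)) (.node (.leaf 2690260781469) (.leaf 4108674069134))))) (.node (.node (.node (.node (.node (.leaf 487478904845) (.leaf 3692599185163)) (.leaf 2563022456071)) (.node (.leaf 1842541409307) (.leaf 2421288440201))) (.node (.node (.leaf 1775432546053) (.leaf 3472481886745)) (.node (.leaf 2587181541892) (.leaf 4006131635853)))) (.node (.node (.node (.leaf 1016833749893) (.leaf 2765422670215)) (.node (.leaf 833761084036) (.leaf 3801583536769))) (.node (.node (.leaf 1872069349402) (.leaf 2533494440961)) (.node (.leaf 2362769550085) (.leaf 4212290179868))))))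
def dF_680 : BT := .node (.node (.node (.node (.node (.node (.node (.leaf 119722241939) (.leaf 2330020777741)) (.leaf 2861522643215)) (.node (.leaf 157303486605) (.leaf 2320356806915))) (.node (.node (.leaf 1237487747329) (.leaf 3285650605059)) (.node (.leaf 2378338695174) (.leaf 3854197199637)))) (.node (.node (.node (.leaf 378493995926) (.leaf 3097745900932)) (.node (.leaf 1402844027535) (.leaf 3642133135384))) (.node (.node (.leaf 2062121664657) (.leaf 3293166478086)) (.node (.leaf 2638721161627) (.leaf 4063576870533))))) (.node (.node (.node (.node (.node (.leaf 15032476418) (.leaf 4386236396819)) (.leaf 3008088437144)) (.node (.leaf 539555671572) (.leaf 3026341903622))) (.node (.node (.leaf 1693828131229) (.leaf 3419331653888)) (.node (.leaf 2522220145946) (.leaf 3732327470211)))) (.node (.node (.node (.leaf 821412690819) (.leaf 3192235034261)) (.node (.leaf 2309082343067) (.leaf 3745749246096))) (.node (.node (.leaf 2254857915020) (.leaf 2654290398110)) (.node (.leaf 2740726659214) (.leaf 4158065893512)))))) (.node (.node (.node (.node (.node (.node (.leaf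 264140551828) (.leaf 4223564498974)) (.leaf 2944737654532)) (.node (.leaf 22548583704) (.leaf 3325916092809))) (.node (.node (.leaf 1426466353413) (.leaf 2773475928706)) (.node (.leaf 2453500652932) (.leaf 3920769205146)))) (.node (.node (.node (.leaf 637265924616) (.leaf 2972654987911)) (.node (.leaf 16643002910) (.leaf 3704947047055))) (.node (.node (.leaf 1050119755403) (.leaf 2401961250334)) (.node (.leaf 2684355200014) (.leaf 4108137096585))))) (.node (.node (.node (.node (.node (.leaf 47781630230) (.leaf 4418448614027)) (.leaf 2578591634183)) (.node (.leaf 641024021786) (.leaf 3037616301057))) (.node (.node (.leaf 151934910745) (.leaf 3466039330307)) (.node (.leaf 2588254689036) (.leaf 3900904894988)))) (.node (.node (.node (.leaf 998580145930) (.leaf 3242164210584)) (.node (.leaf 2340220864000) (.leaf 3804804724745))) (.node (.node (.leaf 76235694366) (.leaf 2990371666846)) (.node (.leaf 2022930263687) (.leaf 4087199257094))))))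
def dF_688 : BT := .node (.node (.node (.node (.node (.node (.node (.leaf 106837336979) (.leaf 4271882865307)) (.leaf 2859375159064)) (.node (.leaf 848256100638) (.leaf 2386391815044))) (.node (.node (.leaf 1220307874048) (.leaf 3288335120014)) (.node (.leaf 2375117480978) (.leaf 3868155843217)))) (.node (.node (.node (.node (.leaf 109521766787) (.leaf 4447976566418)) (.leaf 2865280793621)) (.node (.leaf 769873071374) (.leaf 3644817490688))) (.node (.node (.leaf 2056216058265) (.leaf 2887292549509)) (.node (.leaf 2425583407765) (.leaf 4060892546589))))) (.node (.node (.node (.node (.node (.leaf 375809719832) (.leaf 4158603129630)) (.leaf 2816425521942)) (.node (.leaf 384936814622) (.leaf 2507724649100))) (.node (.node (.leaf 1684164452613) (.leaf 3408594232977)) (.node (.leaf 2515240822417) (.leaf 3969624363145)))) (.node (.node (.node (.leaf 815507098629) (.leaf 3188477106579)) (.node (.leaf 1269163105028) (.leaf 3748970472344))) (.node (.node (.leaf 2211371558934) (.leaf 3015067509900)) (.node (.leaf 2750390337936) (.leaf 4169340496657)))))) (.node (.node (.node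 (.node (.node (.node (.leaf 256624312085) (.leaf 4335770519067)) (.leaf 2793340055043)) (.node (.leaf 435402413465) (.leaf 2538326307076))) (.node (.node (.leaf 1402307156612) (.leaf 3347390934419)) (.node (.leaf 2440078876825) (.leaf 3917011107973)))) (.node (.node (.node (.leaf 634044671875) (.leaf 3082176652821)) (.node (.leaf 1276142625671) (.leaf 3702262691980))) (.node (.node (.leaf 889595366797) (.leaf 3074123583518)) (.node (.leaf 2695092620818) (.leaf 2367601703436))))) (.node (.node (.node (.node (.node (.leaf 33286112534) (.leaf 4414153691404)) (.leaf 3044595667859)) (.node (.leaf 2021856336667) (.leaf 3221226205449))) (.node (.node (.leaf 1859184411652) (.leaf 3462818208016)) (.node (.leaf 2583960315539) (.leaf 4019553476506)))) (.node (.node (.node (.leaf 1041529807625) (.leaf 3249143534095)) (.node (.leaf 2330557187072) (.leaf 3639448819221))) (.node (.node (.leaf 51002848027) (.leaf 2914135997834)) (.node (.leaf 2361158937748) (.leaf 3924527373184))))))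
def dF_695 : BT := .node (.node (.node (.node (.node (.node (.node (.leaf 107911079046) (.leaf 4272956607511)) (.leaf 2872796935065)) (.node (.leaf 50466296222) (.leaf 3267933985054))) (.node (.node (.leaf 1250372651909) (.leaf 3301756896017)) (.node (.leaf 2389076128129) (.leaf 3870840198429)))) (.node (.node (.node (.leaf 376346511766) (.leaf 3096672158735)) (.node (.leaf 549219073934) (.leaf 3648038547467))) (.node (.node (.leaf 2014877030660) (.leaf 3365644435460)) (.node (.leaf 2434173344405) (.leaf 3634617043595))))) (.node (.node (.node (.node (.node (.leaf 398358312205) (.leaf 4387309769099)) (.leaf 2998424758419)) (.node (.leaf 33823064329) (.leaf 3106872661127))) (.node (.node (.leaf 1692754390656) (.leaf 3419331653774)) (.node (.leaf 2520072661774) (.leaf 3978214389644)))) (.node (.node (.node (.leaf 759135666454) (.leaf 2913599108611)) (.node (.leaf 2311229827219) (.leaf 2344516166686))) (.node (.node (.leaf 2262374082316) (.leaf 2555506360990)) (.node (.leaf 2742337202711) (.leaf 4124243341588)))))) (.node (.node (.node (.node (.node (.node (.leaf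 276488544399) (.leaf 4342212971545)) (.leaf 2937221459866)) (.node (.leaf 93952929566) (.leaf 2904472337156))) (.node (.node (.leaf 1374926749060) (.leaf 3352222773786)) (.node (.leaf 2456721879064) (.leaf 3917011107859)))) (.node (.node (.node (.leaf 642097763869) (.leaf 3149822391698)) (.node (.leaf 1313723466398) (.leaf 3711926370588))) (.node (.node (.leaf 1096827552286) (.leaf 2766496591488)) (.node (.leaf 2464775001108) (.leaf 4121022103169))))) (.node (.node (.node (.node (.node (.leaf 509490616979) (.leaf 4420596143377)) (.leaf 3050501249297)) (.node (.leaf 1560684113306) (.leaf 2427193947405))) (.node (.node (.leaf 1808181680008) (.leaf 3478387468176)) (.node (.leaf 699543419399) (.leaf 3716758209812)))) (.node (.node (.node (.leaf 1053340980497) (.leaf 3242164210575)) (.node (.leaf 1894081136780) (.leaf 3805341894036))) (.node (.node (.leaf 834297400844) (.leaf 2422899003520)) (.node (.leaf 2812130507653) (.leaf 4221953858576))))))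
def dF_705 : BT := .node (.node (.node (.node (.node (.node (.node (.leaf 99321140747) (.leaf 4264903413389)) (.leaf 2866891353733)) (.node (.leaf 1365262822814) (.leaf 1835025377414))) (.node (.node (.leaf 1193464322048) (.leaf 2514167261846)) (.node (.leaf 2373506867857) (.leaf 3854197196189)))) (.node (.node (.node (.node (.leaf 386547170068) (.leaf 4034049092746)) (.leaf 3088082222096)) (.node (.leaf 1840393925134) (.leaf 2413772488072))) (.node (.node (.leaf 2030446273803) (.leaf 2384244293517)) (.node (.leaf 2623688772496) (.leaf 3978751296132))))) (.node (.node (.node (.node (.node (.leaf 383325922576) (.leaf 2549064134027)) (.leaf 2824478580628)) (.node (.leaf 334470875653) (.leaf 2453500770188))) (.node (.node (.leaf 1578400874117) (.leaf 3400541155863)) (.node (.leaf 2502355917455) (.leaf 3964255759376)))) (.node (.node (.node (.leaf 781147363328) (.leaf 3196530172188)) (.node (.leaf 1276679511302) (.leaf 3760244764187))) (.node (.node (.leaf 452582406809) (.leaf 2785286923527)) (.node (.leaf 2743411014429) (.leaf 4164508657306)))))) (.node (.node (.node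 (.node (.node (.node (.leaf 36507279758) (.leaf 4331475436810)) (.leaf 2931852749468)) (.node (.leaf 46170909455) (.leaf 826782029580))) (.node (.node (.leaf 1381906057354) (.leaf 3335579760002)) (.node (.leaf 2435783908496) (.leaf 3907884300175)))) (.node (.node (.node (.leaf 507880032140) (.leaf 2869038903063)) (.node (.leaf 632434131733) (.leaf 3698504594836))) (.node (.node (.leaf 330712485261) (.leaf 3572339900186)) (.node (.leaf 2394444910211) (.leaf 4117264005774))))) (.node (.node (.node (.node (.node (.leaf 480499580940) (.leaf 4413616819857)) (.leaf 3030636974741)) (.node (.leaf 346281885453) (.leaf 3286187555585))) (.node (.node (.leaf 1842541409803) (.leaf 3469797531546)) (.node (.leaf 2401424204181) (.leaf 4005057958408)))) (.node (.node (.node (.leaf 1008243813253) (.leaf 3129421316995)) (.node (.leaf 2337536508311) (.leaf 3801046647562))) (.node (.node (.leaf 813359980830) (.leaf 2821257382913)) (.node (.leaf 2786360684054) (.leaf 4220880116508))))))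
def dF_712 : BT := .node (.node (.node (.node (.node (.node (.node (.leaf 114353531548) (.leaf 4272419736347)) (.leaf 2858838288016)) (.node (.leaf 51002848030) (.leaf 2518462035463))) (.node (.node (.leaf 1235877134096) (.leaf 3287261183238)) (.node (.leaf 2376191223300) (.leaf 3823058684680)))) (.node (.node (.node (.leaf 377957233431) (.leaf 2858838341141)) (.node (.leaf 1175210706574) (.leaf 3642670006427))) (.node (.node (.leaf 2072859085457) (.leaf 2563022295427)) (.node (.leaf 2641405516828) (.leaf 4063039328909))))) (.node (.node (.node (.node (.node (.leaf 334470657922) (.leaf 4385162654747)) (.leaf 3001109113627)) (.node (.leaf 386547083139) (.leaf 2944200758165))) (.node (.node (.leaf 1692754361217) (.leaf 3410741717248)) (.node (.leaf 2522757016989) (.leaf 3733401270302)))) (.node (.node (.node (.leaf 767725599754) (.leaf 2633352585222)) (.node (.leaf 2308545472025) (.leaf 3754339182736))) (.node (.node (.leaf 2252710883971) (.leaf 2444910758914)) (.node (.leaf 2749316595854) (.leaf 3731253830413)))))) (.node (.node (.node (.node (.node (.node (.leaf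 263066809734) (.leaf 1692755020685)) (.leaf 2789581957763)) (.node (.leaf 344671318558) (.leaf 2694555883401))) (.node (.node (.leaf 1417876416772) (.leaf 3246459202946)) (.node (.leaf 2439005134467) (.leaf 3914326752668)))) (.node (.node (.node (.leaf 636192182418) (.leaf 2477659919618)) (.node (.leaf 1282048110090) (.leaf 3704410174605))) (.node (.node (.leaf 1052804107016) (.leaf 2400887315870)) (.node (.leaf 2692945136654) (.leaf 4108674069126))))) (.node (.node (.node (.node (.node (.leaf 496605712019) (.leaf 2569465238025)) (.leaf 2899640409987)) (.node (.leaf 758598779546) (.leaf 2905545960076))) (.node (.node (.leaf 1867237080987) (.leaf 3468723754263)) (.node (.leaf 2580202176020) (.leaf 3560528843778)))) (.node (.node (.node (.leaf 1045287914897) (.leaf 3240016726426)) (.node (.leaf 1829656626569) (.leaf 2573760059274))) (.node (.node (.leaf 649613890584) (.leaf 2422362131331)) (.node (.leaf 2798708731660) (.leaf 4219269443842))))))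
def dF_720 : BT := .node (.node (.node (.node (.node (.node (.node (.leaf 105763594908) (.leaf 4271882865297)) (.leaf 2867965095704)) (.node (.leaf 43486603038) (.leaf 2848637733893))) (.node (.node (.leaf 1212791679488) (.leaf 3285113893785)) (.node (.leaf 2375654352019) (.leaf 3862250261892)))) (.node (.node (.node (.node (.leaf 424128099714) (.leaf 4447439695377)) (.leaf 2860448887814)) (.node (.leaf 765041232014) (.leaf 3641059132929))) (.node (.node (.leaf 2051921115009) (.leaf 2594697728388)) (.node (.leaf 2416993471125) (.leaf 4060892400134))))) (.node (.node (.node (.node (.node (.leaf 377957202968) (.leaf 4384625783699)) (.leaf 3007014695169)) (.node (.leaf 1317481532187) (.leaf 2937758374146))) (.node (.node (.leaf 1675574515972) (.leaf 3409667963543)) (.node (.leaf 2517925177618) (.leaf 3874598319518)))) (.node (.node (.node (.leaf 755914437644) (.leaf 3196530172176)) (.node (.leaf 1845225777815) (.leaf 3757560408984))) (.node (.node (.leaf 1228360970132) (.leaf 2642479192076)) (.node (.leaf 2750927166466) (.leaf 4120485243550)))))) (.node (.node (.node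 (.node (.node (.node (.leaf 249644984719) (.leaf 4336844261126)) (.leaf 2930242136336)) (.node (.leaf 331786616606) (.leaf 3446712077068))) (.node (.node (.leaf 1393717219972) (.leaf 3349538418584)) (.node (.leaf 2441152618907) (.leaf 3910031784345)))) (.node (.node (.node (.leaf 632434085139) (.leaf 3083787265942)) (.node (.leaf 1122597259798) (.leaf 3613142120342))) (.node (.node (.leaf 1043140433035) (.leaf 3571266161421)) (.node (.leaf 2689187039385) (.leaf 4117264005766))))) (.node (.node (.node (.node (.node (.leaf 38654822934) (.leaf 4415764304017)) (.leaf 3044595667865)) (.node (.leaf 1963337393306) (.leaf 2958159473545))) (.node (.node (.leaf 1852204760077) (.leaf 3471408144656)) (.node (.leaf 2582886573464) (.leaf 4006668574988)))) (.node (.node (.node (.leaf 13958891533) (.leaf 3241090468613)) (.node (.leaf 2332167799685) (.leaf 3786551448969))) (.node (.node (.leaf 50465977243) (.leaf 2823404812308)) (.node (.leaf 2349884648468) (.leaf 4214437664024))))))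
def dF_727 : BT := .node (.node (.node (.node (.node (.node (.node (.leaf 10737446680) (.leaf 4276177833616)) (.leaf 2875481290266)) (.node (.leaf 922881579651) (.leaf 2848100942238))) (.node (.node (.leaf 1248224982789) (.leaf 3294240701568)) (.node (.leaf 2380486191489) (.leaf 3870303327377)))) (.node (.node (.node (.leaf 377420253827) (.leaf 3096672158739)) (.node (.leaf 529891716495) (.leaf 2631742080926))) (.node (.node (.leaf 2082522764179) (.leaf 2573759983489)) (.node (.leaf 2637647419534) (.leaf 3834869893507))))) (.node (.node (.node (.node (.node (.leaf 391378988300) (.leaf 4387847009945)) (.leaf 3007014695059)) (.node (.leaf 33286004505) (.leaf 2587181330573))) (.node (.node (.leaf 1696512486666) (.leaf 3419331653778)) (.node (.leaf 2520609532817) (.leaf 3739306850700)))) (.node (.node (.node (.leaf 759672537111) (.leaf 2711198865159)) (.node (.leaf 2310155731735) (.leaf 2675228647690))) (.node (.node (.leaf 91805464961) (.leaf 2650532439687)) (.node (.leaf 2738042234388) (.leaf 4172024851972)))))) (.node (.node (.node (.node (.node (.node (.leaf 272730488452)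 (.leaf 4327717455752)) (.leaf 2945811396506)) (.node (.leaf 1050119987084) (.leaf 2615099016710))) (.node (.node (.leaf 1431298192387) (.leaf 3355980871065)) (.node (.leaf 2452963781787) (.leaf 3925600670860)))) (.node (.node (.node (.leaf 640487150739) (.leaf 3150896133789)) (.node (.leaf 112742899614) (.leaf 3720516307228))) (.node (.node (.leaf 885837219478) (.leaf 2401961075082)) (.node (.leaf 2500745350916) (.leaf 3730180075284))))) (.node (.node (.node (.node (.node (.leaf 375809759489) (.leaf 4420059271174)) (.leaf 3047816894106)) (.node (.leaf 697932352027) (.leaf 3335042726016))) (.node (.node (.leaf 1776506295450) (.leaf 3227668752518)) (.node (.leaf 2596845220621) (.leaf 3896610024576)))) (.node (.node (.node (.leaf 1051730352903) (.leaf 3241090468497)) (.node (.leaf 1895691749388) (.leaf 3813394997147))) (.node (.node (.leaf 1778116472718) (.leaf 2534568204574)) (.node (.leaf 2803540571013) (.leaf 4207458340494))))))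
def dF_736 : BT := .node (.node (.node (.node (.node (.node (.node (.leaf 102542368642) (.leaf 3197067298185)) (.leaf 2861522643228)) (.node (.leaf 338765593857) (.leaf 2742873656204))) (.node (.node (.leaf 1197222419842) (.leaf 3287261377949)) (.node (.leaf 2374580609945) (.leaf 3855807580812)))) (.node (.node (.node (.node (.leaf 383862814871) (.leaf 4446365953307)) (.leaf 3092914008340)) (.node (.leaf 821412977415) (.leaf 3640522522255))) (.node (.node (.leaf 1350230829442) (.leaf 2887292549662)) (.node (.leaf 2428267762966) (.leaf 4060355675538))))) (.node (.node (.node (.node (.node (.leaf 386547148807) (.leaf 4377109117323)) (.leaf 2993592919064)) (.node (.leaf 33286053534) (.leaf 2560338106910))) (.node (.node (.leaf 1662689611009) (.leaf 3410204846095)) (.node (.leaf 2517388306589) (.leaf 3974993180189)))) (.node (.node (.node (.leaf 795642881412) (.leaf 3190087719706)) (.node (.leaf 1120449858708) (.leaf 3759171022107))) (.node (.node (.leaf 948651008536) (.leaf 3611531486094)) (.node (.leaf 2739116046107) (.leaf 4162898044185)))))) (.node (.node (.node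 (.node (.node (.node (.leaf 252866259973) (.leaf 3732327613197)) (.leaf 2929705265304)) (.node (.leaf 20937974174) (.leaf 3194382588574))) (.node (.node (.leaf 1388885363477) (.leaf 3345243450372)) (.node (.leaf 2443836974212) (.leaf 3908957695496)))) (.node (.node (.node (.leaf 629749728645) (.leaf 3088082234262)) (.node (.leaf 764504447627) (.leaf 3700115207708))) (.node (.node (.leaf 1780264144789) (.leaf 3571266158096)) (.node (.leaf 2694018878746) (.leaf 3735548787847))))) (.node (.node (.node (.node (.node (.leaf 40802307094) (.leaf 4413616820097)) (.leaf 3043521925901)) (.node (.leaf 1831803988507) (.leaf 2871186330121))) (.node (.node (.leaf 1846299506820) (.leaf 3463891950105)) (.node (.leaf 2585034057628) (.leaf 3924527251971)))) (.node (.node (.node (.leaf 1024886815493) (.leaf 2906082992774)) (.node (.leaf 2339146833414) (.leaf 2679523628418))) (.node (.node (.leaf 2171106444574) (.leaf 2421288510850)) (.node (.leaf 2794950525962) (.leaf 4217658890266))))))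
def dF_743 : BT := .node (.node (.node (.node (.node (.node (.node (.leaf 111132305299) (.leaf 4274030349468)) (.leaf 2871186322052)) (.node (.leaf 897648184472) (.leaf 3223910477321))) (.node (.node (.leaf 1005022642959) (.leaf 2612951511684)) (.node (.leaf 2378875578267) (.leaf 3742528050054)))) (.node (.node (.node (.leaf 138512802709) (.leaf 3097209029789)) (.node (.leaf 2188823040781) (.leaf 3651259943172))) (.node (.node (.leaf 1807107984901) (.leaf 3264175767948)) (.node (.leaf 2436320828566) (.leaf 2315525212301))))) (.node (.node (.node (.node (.node (.leaf 354334833671) (.leaf 4267051054219)) (.leaf 2999498500504)) (.node (.leaf 641561131806) (.leaf 3462281074956))) (.node (.node (.leaf 1694901873299) (.leaf 3422552880027)) (.node (.leaf 2521683274905) (.leaf 2326262609676)))) (.node (.node (.node (.leaf 821949560726) (.leaf 2627983874822)) (.node (.leaf 2309619214105) (.leaf 3752728569615))) (.node (.node (.leaf 2257542208385) (.leaf 3020436379781)) (.node (.leaf 2745558485526) (.leaf 4105989726231)))))) (.node (.node (.node (.node (.node (.node (.leaf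 92341860494) (.leaf 4341138767880)) (.leaf 2949569493785)) (.node (.leaf 101468812574) (.leaf 2523830950046))) (.node (.node (.leaf 1428613810971) (.leaf 3187940272002)) (.node (.leaf 2457795621148) (.leaf 3912179268506)))) (.node (.node (.node (.leaf 638876537629) (.leaf 2661269847043)) (.node (.leaf 1267552674950) (.leaf 3708705144461))) (.node (.node (.leaf 1118302360844) (.leaf 3045131979276)) (.node (.leaf 2449742612119) (.leaf 3727495721091))))) (.node (.node (.node (.node (.node (.leaf 8053184025) (.leaf 4415227433861)) (.leaf 2703145768196)) (.node (.leaf 165356280347) (.leaf 2457795699336))) (.node (.node (.leaf 1791001807750) (.leaf 3464428785943)) (.node (.leaf 2588255233801) (.leaf 1322314011651)))) (.node (.node (.node (.leaf 1049046012177) (.leaf 3248069792016)) (.node (.leaf 47245198984) (.leaf 3812321255169))) (.node (.node (.leaf 835908015513) (.leaf 2669859706526)) (.node (.leaf 2799782473610) (.leaf 4160750571927))))))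
def dF_751 : BT := .node (.node (.node (.node (.node (.node (.node (.leaf 113279789572) (.leaf 4268124647444)) (.leaf 2864743869459)) (.node (.leaf 1954210604958) (.leaf 2356327214087))) (.node (.node (.leaf 1228897810688) (.leaf 3287261377936)) (.node (.leaf 92879234435) (.leaf 700080590878)))) (.node (.node (.node (.node (.leaf 13421863319) (.leaf 4448513437448)) (.leaf 2811593593607)) (.node (.leaf 168577506575) (.leaf 3614752720151))) (.node (.node (.leaf 2062658535820) (.leaf 2385318029334)) (.node (.leaf 1130650765575) (.leaf 4023311582996))))) (.node (.node (.node (.node (.node (.leaf 33822875523) (.leaf 4378719728905)) (.leaf 3002719726748)) (.node (.leaf 523449264015) (.leaf 2908230511885))) (.node (.node (.leaf 1687922239387) (.leaf 2554432611970)) (.node (.leaf 2520072661901) (.leaf 3883188232715)))) (.node (.node (.node (.leaf 816580851970) (.leaf 3190087719696)) (.node (.leaf 1269163386249) (.leaf 3755949795859))) (.node (.node (.leaf 1139240603779) (.leaf 3104188219166)) (.node (.leaf 2745021627538) (.leaf 4161287421696)))))) (.node (.node (.node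 (.node (.node (.node (.leaf 259308712324) (.leaf 4133907056388)) (.leaf 2498061005702)) (.node (.leaf 110595442177) (.leaf 2868501992470))) (.node (.node (.leaf 1408749608988) (.leaf 3349001547536)) (.node (.leaf 2439005134739) (.leaf 3925601040389)))) (.node (.node (.node (.leaf 376883531658) (.leaf 3133716159874)) (.node (.leaf 1968169232655) (.leaf 3274913445899))) (.node (.node (.leaf 890669056414) (.leaf 2401424186654)) (.node (.leaf 2686502684178) (.leaf 4119948359044))))) (.node (.node (.node (.node (.node (.leaf 479962601751) (.leaf 4416838046099)) (.leaf 3042448183695)) (.node (.leaf 694711125787) (.leaf 2706903543565))) (.node (.node (.leaf 1819455965965) (.leaf 3464965692174)) (.node (.leaf 2582349702416) (.leaf 4020627150743)))) (.node (.node (.node (.leaf 1042603559810) (.leaf 3246459178908)) (.node (.leaf 2331094058112) (.leaf 3803731318415))) (.node (.node (.leaf 307090699417) (.leaf 2478196824470)) (.node (.leaf 2345589681541) (.leaf 4219269443847))))))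
def dF_758 : BT := .node (.node (.node (.node (.node (.node (.node (.leaf 124554081413) (.leaf 4279935931009)) (.leaf 2876018161297)) (.node (.leaf 926639713929) (.leaf 2575370349315))) (.node (.node (.leaf 471372959371) (.leaf 3297998798748)) (.node (.leaf 1699733878659) (.leaf 3871377069464)))) (.node (.node (.node (.leaf 507880003350) (.leaf 2985539880199)) (.node (.leaf 538481661069) (.leaf 2338073693575))) (.node (.node (.leaf 2091112700817) (.leaf 3313567866112)) (.node (.leaf 2647311098373) (.leaf 4065724283286))))) (.node (.node (.node (.node (.node (.leaf 404800764189) (.leaf 4386773152646)) (.leaf 3002719726737)) (.node (.leaf 1147293416478) (.leaf 2509872220062))) (.node (.node (.leaf 1635846074372) (.leaf 3142306263431)) (.node (.leaf 2531883824772) (.leaf 3896073134230)))) (.node (.node (.node (.leaf 759672537601) (.leaf 2918967885446)) (.node (.leaf 1122060757249) (.leaf 1268626861086))) (.node (.node (.leaf 248034901380) (.leaf 2554432546179)) (.node (.leaf 2746632171031) (.leaf 4175246078106)))))) (.node (.node (.node (.node (.node (.node (.leaf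 281857296128) (.leaf 1693291892749)) (.leaf 2940979557145)) (.node (.leaf 93415620638) (.leaf 2695092761612))) (.node (.node (.leaf 18790826116) (.leaf 3354370257938)) (.node (.leaf 2448131942424) (.leaf 3923990431376)))) (.node (.node (.node (.leaf 642634634896) (.leaf 3096672171029)) (.node (.leaf 1316407789844) (.leaf 3718905694107))) (.node (.node (.leaf 1151051491969) (.leaf 2902324856981)) (.node (.leaf 2700461331227) (.leaf 4124243329305))))) (.node (.node (.node (.node (.node (.leaf 511101229065) (.leaf 4421133014427)) (.leaf 3048890636174)) (.node (.leaf 1320165887387) (.leaf 2437394521609))) (.node (.node (.leaf 1887638576773) (.leaf 3476776819863)) (.node (.leaf 2602213930908) (.leaf 3892851926932)))) (.node (.node (.node (.leaf 1055488464657) (.leaf 3247532738967)) (.node (.leaf 372052101387) (.leaf 3812321065731))) (.node (.node (.leaf 231391525278) (.leaf 2808372410240)) (.node (.leaf 2816425475867) (.leaf 4222490718468))))))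
def dF_770 : BT := .node (.node (.node (.node (.node (.node (.node (.leaf 97173658259) (.leaf 3923990512644)) (.leaf 2852932614659)) (.node (.leaf 410169528968) (.leaf 2796024538398))) (.node (.node (.leaf 1120449877003) (.leaf 3277597686550)) (.node (.leaf 1128503222791) (.leaf 3856881551511)))) (.node (.node (.node (.node (.leaf 501437529602) (.leaf 4431870438285)) (.leaf 3088082222098)) (.node (.leaf 1833414601614) (.leaf 2465312095232))) (.node (.node (.leaf 1954210603777) (.leaf 1897302531870)) (.node (.leaf 2634426193296) (.leaf 4059818729485))))) (.node (.node (.node (.node (.node (.leaf 383862793619) (.leaf 4373351492493)) (.leaf 2990908563857)) (.node (.leaf 51003047838) (.leaf 2397666106881))) (.node (.node (.leaf 1643362253457) (.leaf 3400541167377)) (.node (.leaf 2500745304336) (.leaf 3959423920017)))) (.node (.node (.node (.leaf 703301079169) (.leaf 3192772075020)) (.node (.leaf 642098033300) (.leaf 3753265440769))) (.node (.node (.leaf 135828637722) (.leaf 3149822244610)) (.node (.leaf 2355253347095) (.leaf 4159676817949)))))) (.node (.node (.node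 (.node (.node (.node (.leaf 174483105178) (.leaf 4330938679707)) (.leaf 2934537104780)) (.node (.leaf 1348083185054) (.leaf 2428267766023))) (.node (.node (.leaf 1380295443585) (.leaf 3336116642576)) (.node (.leaf 2434710166424) (.leaf 3349001680652)))) (.node (.node (.node (.leaf 624381019549) (.leaf 3140695584015)) (.node (.leaf 1383516655511) (.leaf 3699041465615))) (.node (.node (.leaf 196494785410) (.leaf 3582540449938)) (.node (.leaf 2686502684292) (.leaf 4112432166417))))) (.node (.node (.node (.node (.node (.leaf 467077796248) (.leaf 4413079948827)) (.leaf 2684892049030)) (.node (.leaf 711891019029) (.leaf 3005940920069))) (.node (.node (.leaf 1824287798273) (.leaf 3469260660509)) (.node (.leaf 2578054691863) (.leaf 4009352842760)))) (.node (.node (.node (.leaf 932008141444) (.leaf 2958159495070)) (.node (.leaf 2337536508179) (.leaf 3800510068619))) (.node (.node (.leaf 1076426657694) (.leaf 2439005250700)) (.node (.leaf 2791192523414) (.leaf 4220343245573))))))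
def dF_777 : BT := .node (.node (.node (.node (.node (.node (.node (.leaf 119722242053) (.leaf 4267051025938)) (.leaf 2869575708816)) (.node (.leaf 958315009694) (.leaf 2386928643733))) (.node (.node (.leaf 1235340263168) (.leaf 3287261377934)) (.node (.leaf 2376728093972) (.leaf 3868155843227)))) (.node (.node (.node (.node (.leaf 446676683670) (.leaf 4449050308480)) (.leaf 2643016211974)) (.node (.leaf 1119376118415) (.leaf 3647501845786))) (.node (.node (.leaf 2067490375565) (.leaf 699543600771)) (.node (.leaf 2638721161740) (.leaf 3614752819078))))) (.node (.node (.node (.node (.node (.leaf 37580972807) (.leaf 4185983544837)) (.leaf 2996277274268)) (.node (.leaf 205084718615) (.leaf 2382633718932))) (.node (.node (.leaf 1630477362693) (.leaf 3359738979862)) (.node (.leaf 2526515114372) (.leaf 3711389562509)))) (.node (.node (.node (.leaf 818191464989) (.leaf 3193845816975)) (.node (.leaf 2308008600985) (.leaf 3749507343379))) (.node (.node (.leaf 2212445300501) (.leaf 2443837059742)) (.node (.leaf 2749316595856) (.leaf 3334506226569)))))) (.node (.node (.node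 (.node (.node (.node (.leaf 1610674969) (.leaf 4333086156802)) (.leaf 829466257283)) (.node (.leaf 1073770782) (.leaf 3395709328268))) (.node (.node (.leaf 1402307156508) (.leaf 3342559095056)) (.node (.leaf 2441689489936) (.leaf 3925064173468)))) (.node (.node (.node (.leaf 635118410509) (.leaf 2419677847175)) (.node (.leaf 1835561946758) (.leaf 3361349662986))) (.node (.node (.leaf 903017123459) (.leaf 3045132608670)) (.node (.leaf 2691871394576) (.leaf 4110284660501))))) (.node (.node (.node (.node (.node (.leaf 499290067328) (.leaf 4417911787779)) (.leaf 2576444185991)) (.node (.leaf 820338949147) (.leaf 2719251797002))) (.node (.node (.leaf 1861331876377) (.leaf 2455648379011)) (.node (.leaf 2582886573455) (.leaf 4019553404423)))) (.node (.node (.node (.leaf 380641725441) (.leaf 3240016726428)) (.node (.leaf 2341831476499) (.leaf 2313914537731))) (.node (.node (.leaf 210990742028) (.leaf 3011846450462)) (.node (.leaf 2357400841622) (.leaf 4117800901013))))))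
def dF_785 : BT := .node (.node (.node (.node (.node (.node (.node (.leaf 104689847309) (.leaf 4266513969034)) (.leaf 2866891353626)) (.node (.leaf 186831614477) (.leaf 2463164366613))) (.node (.node (.leaf 1202054258689) (.leaf 3288335120027)) (.node (.leaf 1961726878485) (.leaf 3854196956931)))) (.node (.node (.node (.node (.leaf 424664970754) (.leaf 4446902824326)) (.leaf 2866354535702)) (.node (.leaf 634045029894) (.leaf 2791192739714))) (.node (.node (.leaf 2041183694208) (.leaf 1897302531724)) (.node (.leaf 2421825310486) (.leaf 2600603665795))))) (.node (.node (.node (.node (.node (.leaf 357019247515) (.leaf 4380330815491)) (.leaf 2996277274368)) (.node (.leaf 112742895501) (.leaf 2447058466956))) (.node (.node (.leaf 1666447708418) (.leaf 3408594232988)) (.node (.leaf 2516851435546) (.leaf 3974456309146)))) (.node (.node (.node (.leaf 802085333893) (.leaf 3194382688024)) (.node (.leaf 697932470913) (.leaf 3752728569627))) (.node (.node (.leaf 1219771100684) (.leaf 3609920872979)) (.node (.leaf 2745558498585) (.leaf 4156455591705)))))) (.node (.node (.node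 (.node (.node (.node (.leaf 252866259856) (.leaf 4332549292827)) (.leaf 2930779007378)) (.node (.leaf 1831267140382) (.leaf 2663954057492))) (.node (.node (.leaf 1391032861463) (.leaf 3350075289619)) (.node (.leaf 2444373845149) (.leaf 3909494148365)))) (.node (.node (.node (.leaf 624381021061) (.leaf 2863670192663)) (.node (.leaf 1129576552197) (.leaf 3701188949893))) (.node (.node (.leaf 934155602462) (.leaf 3570192416014)) (.node (.leaf 2687576426266) (.leaf 4118337649932))))) (.node (.node (.node (.node (.node (.leaf 486942033299) (.leaf 4415227432977)) (.leaf 3045669409945)) (.node (.leaf 1832340859546) (.leaf 2534031308811))) (.node (.node (.leaf 1847373248656) (.leaf 3471408144658)) (.node (.leaf 2586107799706) (.leaf 4003447345428)))) (.node (.node (.node (.leaf 1031329267973) (.leaf 3236795500177)) (.node (.leaf 1835562205953) (.leaf 3802657576347))) (.node (.node (.leaf 1994475669889) (.leaf 2641405516810)) (.node (.leaf 2033130810261) (.leaf 4211216437786))))))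
def dF_792 : BT := .node (.node (.node (.node (.node (.node (.node (.leaf 117574757777) (.leaf 4275104091544)) (.leaf 2866354485133)) (.node (.leaf 944893287178) (.leaf 2515240873611))) (.node (.node (.leaf 15569553435) (.leaf 3281892486039)) (.node (.leaf 2379412449307) (.leaf 3869766456337)))) (.node (.node (.node (.leaf 377420362391) (.leaf 3095598416666)) (.node (.leaf 1623498024975) (.leaf 2494839999744))) (.node (.node (.leaf 2080912151172) (.leaf 2581812826381)) (.node (.leaf 2637647419538) (.leaf 3700115294476))))) (.node (.node (.node (.node (.node (.leaf 13421776003) (.leaf 4148939453580)) (.leaf 2815351780096)) (.node (.leaf 386547228958) (.leaf 2560337948545))) (.node (.node (.leaf 1638530427776) (.leaf 3420405395867)) (.node (.leaf 2523293888018) (.leaf 3976066594186)))) (.node (.node (.node (.leaf 819802078998) (.leaf 2476049406103)) (.node (.leaf 635118839816) (.leaf 3746286117135))) (.node (.node (.leaf 2259153336067) (.leaf 2816962452867)) (.node (.leaf 2687576439316) (.leaf 4155918684045)))))) (.node (.node (.node (.node (.node (.node (.leaf 268972390793)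 (.leaf 4341675729161)) (.leaf 2944200783389)) (.node (.leaf 515932968193) (.leaf 2523830813060))) (.node (.node (.leaf 1434519419008) (.leaf 3338264012423)) (.node (.leaf 2451353168668) (.leaf 3920769205144)))) (.node (.node (.node (.leaf 639950277383) (.leaf 3146064294532)) (.node (.leaf 1314797220766) (.leaf 3715147596940))) (.node (.node (.leaf 879394763525) (.leaf 3073586712832)) (.node (.leaf 2447595127956) (.leaf 4105452818561))))) (.node (.node (.node (.node (.node (.leaf 506269310468) (.leaf 4416838046849)) (.leaf 3038153218573)) (.node (.leaf 1707249907226) (.leaf 2828236620169))) (.node (.node (.leaf 1872069316608) (.leaf 3314104965141)) (.node (.leaf 2588792154905) (.leaf 3764002861342)))) (.node (.node (.node (.leaf 1049582883331) (.leaf 3242164210579)) (.node (.leaf 2343978960665) (.leaf 3608310308756))) (.node (.node (.leaf 2254321010206) (.leaf 2637647611550)) (.node (.leaf 2312840556551) (.leaf 4207995091074))))))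
def dF_801 : BT := .node (.node (.node (.node (.node (.node (.node (.leaf 100394882199) (.leaf 3955665896725)) (.leaf 2541010710918)) (.node (.leaf 359703592094) (.leaf 2398739800449))) (.node (.node (.leaf 1120449878401) (.leaf 3285650764933)) (.node (.leaf 2374580526985) (.leaf 2388539606915)))) (.node (.node (.node (.node (.leaf 381715330690) (.leaf 4445829082259)) (.leaf 3092377190414)) (.node (.leaf 692027088781) (.leaf 3639448780185))) (.node (.node (.leaf 1962800539016) (.leaf 1274532311070)) (.node (.leaf 2631204967054) (.leaf 4056060666902))))) (.node (.node (.node (.node (.node (.leaf 346818701720) (.leaf 4377646460174)) (.leaf 2989834704258)) (.node (.leaf 17179873295) (.leaf 2833068630797))) (.node (.node (.leaf 1651952190208) (.leaf 3399467413783)) (.node (.leaf 2514703951492) (.leaf 3737696233354)))) (.node (.node (.node (.leaf 787589815809) (.leaf 3190087719708)) (.node (.leaf 1122060688643) (.leaf 3754339182748))) (.node (.node (.leaf 953483182743) (.leaf 2478196848518)) (.node (.leaf 2749853466907) (.leaf 4158066204826)))))) (.node (.node (.node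 (.node (.node (.node (.leaf 37581021838) (.leaf 3770982318110)) (.leaf 2932926491546)) (.node (.leaf 338765650821) (.leaf 3446712023051))) (.node (.node (.leaf 1320165902853) (.leaf 2903935557639)) (.node (.leaf 2435247037455) (.leaf 646393509900)))) (.node (.node (.node (.leaf 627602245777) (.leaf 2867965160983)) (.node (.leaf 828928840855) (.leaf 2330020640386))) (.node (.node (.leaf 454193235483) (.leaf 3571266158104)) (.node (.leaf 2692408265629) (.leaf 4110821553294))))) (.node (.node (.node (.node (.node (.leaf 486942033421) (.leaf 4412543078145)) (.leaf 2740726681602)) (.node (.leaf 1828582762266) (.leaf 3511136338313))) (.node (.node (.leaf 1845225764499) (.leaf 3463355079066)) (.node (.leaf 2585034057733) (.leaf 4006131503626)))) (.node (.node (.node (.leaf 1014686265732) (.leaf 2907156759683)) (.node (.leaf 2337536508553) (.leaf 3615826498708))) (.node (.node (.leaf 724239048478) (.leaf 2926484023041)) (.node (.leaf 132070910728) (.leaf 4214437664028))))))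
def dF_808 : BT := .node (.node (.node (.node (.node (.node (.node (.leaf 9663705112) (.leaf 4275104091652)) (.leaf 2863670127375)) (.node (.leaf 884226887582) (.leaf 2401424204038))) (.node (.node (.leaf 1231045294736) (.leaf 2524367811605)) (.node (.leaf 2378338707228) (.leaf 3868692714254)))) (.node (.node (.node (.leaf 467614567299) (.leaf 3095598416773)) (.node (.leaf 1404991511695) (.leaf 2924873596948))) (.node (.node (.leaf 2064269148817) (.leaf 2385854951561)) (.node (.leaf 2640868645787) (.leaf 4063040030749))))) (.node (.node (.node (.node (.node (.leaf 15569347458) (.leaf 4080756847875)) (.leaf 2994666661147)) (.node (.leaf 539555271429) (.leaf 3056406938654))) (.node (.node (.leaf 1691680647561) (.leaf 3417184169729)) (.node (.leaf 2524367630106) (.leaf 3978751277464)))) (.node (.node (.node (.leaf 820875820189) (.leaf 3193308776341)) (.node (.leaf 632971355796) (.leaf 3747896730256))) (.node (.node (.leaf 2253784098840) (.leaf 3387656107294)) (.node (.leaf 2742874143374) (.leaf 4107600339222)))))) (.node (.node (.node (.node (.node (.node (.leaf 264140547981)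 (.leaf 2404108979083)) (.leaf 2942590170373)) (.node (.leaf 1896228534686) (.leaf 3473018757769))) (.node (.node (.leaf 1424318869252) (.leaf 3192235240322)) (.node (.leaf 2451353168773) (.leaf 3922916689306)))) (.node (.node (.node (.leaf 637265924499) (.leaf 2659122375043)) (.node (.leaf 1268626267287) (.leaf 2310156417676))) (.node (.node (.leaf 1053340979734) (.leaf 2579128632838)) (.node (.leaf 2686502684174) (.leaf 3193846034954))))) (.node (.node (.node (.node (.node (.leaf 497679346455) (.leaf 2392297837193)) (.leaf 2609730090503)) (.node (.leaf 625454761626) (.leaf 2906619760256))) (.node (.node (.leaf 1857573535515) (.leaf 3466039399060)) (.node (.leaf 2587181499540) (.leaf 3561065650444)))) (.node (.node (.node (.leaf 1019518111371) (.leaf 3244311694744)) (.node (.leaf 2342368347545) (.leaf 3641596303254))) (.node (.node (.leaf 836444886553) (.leaf 3138011218462)) (.node (.leaf 2798708731549) (.leaf 4211216119691))))))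
def dF_816 : BT := .node (.node (.node (.node (.node (.node (.node (.leaf 1073767307) (.leaf 3890704517022)) (.leaf 2861522643224)) (.node (.leaf 12348083614) (.leaf 2850785126917))) (.node (.node (.leaf 1218697237273) (.leaf 2527589037845)) (.node (.leaf 2375117476758) (.leaf 2739116315277)))) (.node (.node (.node (.node (.leaf 110058615938) (.leaf 4406100635276)) (.leaf 2863133309461)) (.node (.leaf 701153578255) (.leaf 3642670006529))) (.node (.node (.leaf 1789391239828) (.leaf 643709002381)) (.node (.leaf 2423435923605) (.leaf 3980361909783))))) (.node (.node (.node (.node (.node (.leaf 10737508099) (.leaf 4381941427742)) (.leaf 2980708021003)) (.node (.leaf 386010583454) (.leaf 2567317270934))) (.node (.node (.leaf 1682016968452) (.leaf 3407520490899)) (.node (.leaf 2517388306577) (.leaf 3737696233604)))) (.node (.node (.node (.leaf 12348225418) (.leaf 3190624590739)) (.node (.leaf 765041247361) (.leaf 3751117956504))) (.node (.node (.leaf 2215666525718) (.leaf 3105262172171)) (.node (.leaf 2695629504919) (.leaf 4000226157854)))))) (.node (.node (.node (.node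 (.node (.node (.leaf 172335623834) (.leaf 4334159905948)) (.leaf 2930779007375)) (.node (.leaf 435402390541) (.leaf 2427194055041))) (.node (.node (.leaf 1400159672453) (.leaf 3349538418579)) (.node (.leaf 2442226360985) (.leaf 3914863623812)))) (.node (.node (.node (.leaf 633507827217) (.leaf 2858838353300)) (.node (.leaf 644782269461) (.leaf 3701188928916))) (.node (.node (.leaf 898722155028) (.leaf 2850785244190)) (.node (.leaf 2695092564246) (.leaf 4116727107459))))) (.node (.node (.node (.node (.node (.leaf 490163259523) (.leaf 2495913922827)) (.leaf 2851322139540)) (.node (.leaf 2031520015387) (.leaf 3373160744201))) (.node (.node (.leaf 1857036927493) (.leaf 3464965692176)) (.node (.leaf 2586107799699) (.leaf 4022237831707)))) (.node (.node (.node (.leaf 1019518104966) (.leaf 3247532921092)) (.node (.leaf 2340220863385) (.leaf 3803194447377))) (.node (.node (.leaf 137439051264) (.leaf 3149822338455)) (.node (.leaf 2361695808649) (.leaf 4207995211544))))))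
def dF_823 : BT := .node (.node (.node (.node (.node (.node (.node (.leaf 107374206725) (.leaf 4272956607379)) (.leaf 2874944419225)) (.node (.leaf 1788853890974) (.leaf 2689187041182))) (.node (.node (.leaf 16643296264) (.leaf 3300683154049)) (.node (.leaf 2386928643968) (.leaf 3870840198419)))) (.node (.node (.node (.leaf 431644241538) (.leaf 3094524674577)) (.node (.leaf 551366558094) (.leaf 3648038716817))) (.node (.node (.leaf 2087891407503) (.leaf 3059091107595)) (.node (.leaf 2436320828565) (.leaf 4065724283137))))) (.node (.node (.node (.node (.node (.leaf 397821440781) (.leaf 4387310138885)) (.leaf 3000572242579)) (.node (.leaf 33822898305) (.leaf 2501819024662))) (.node (.node (.leaf 1698659657733) (.leaf 3421479137934)) (.node (.leaf 2522220145934) (.leaf 3978751221269)))) (.node (.node (.node (.leaf 378494189705) (.leaf 2922189133333)) (.node (.leaf 2311229827215) (.leaf 3064996930186))) (.node (.node (.leaf 2261837691397) (.leaf 2736968561930)) (.node (.leaf 2449205754133) (.leaf 4172024852738)))))) (.node (.node (.node (.node (.node (.node (.leaf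 101468668046) (.leaf 3910031887381)) (.leaf 2939368944026)) (.node (.leaf 101469122206) (.leaf 3495030429598))) (.node (.node (.leaf 401579785496) (.leaf 3354370257946)) (.node (.leaf 2446521329307) (.leaf 3919158592019)))) (.node (.node (.node (.leaf 640487151114) (.leaf 3097745913109)) (.node (.leaf 1320165930526) (.leaf 3714073854748))) (.node (.node (.leaf 1043140392837) (.leaf 2619393884190)) (.node (.leaf 2691334525965) (.leaf 4104379100565))))) (.node (.node (.node (.node (.node (.leaf 508953746058) (.leaf 4420595815562)) (.leaf 3051038074261)) (.node (.leaf 702227320347) (.leaf 2426657262464))) (.node (.node (.leaf 1808181679874) (.leaf 3478924339217)) (.node (.leaf 2603287673101) (.leaf 3897146798733)))) (.node (.node (.node (.leaf 1052804107529) (.leaf 3244311694735)) (.node (.leaf 1909113522307) (.leaf 3805341931537))) (.node (.node (.leaf 26843547934) (.leaf 3190624526878)) (.node (.leaf 2809983023492) (.leaf 3704410299396))))))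
def dF_833 : BT := .node (.node (.node (.node (.node (.node (.node (.leaf 98784269451) (.leaf 4262756057629)) (.leaf 2864743869572)) (.node (.leaf 329101871382) (.leaf 700080269059))) (.node (.node (.leaf 1192390579477) (.leaf 2514704132885)) (.node (.leaf 2362769449611) (.leaf 3856344680349)))) (.node (.node (.node (.node (.leaf 387620912148) (.leaf 4445292211225)) (.leaf 3090229706256)) (.node (.leaf 1841467667215) (.leaf 3638911909145))) (.node (.node (.leaf 2030983144576) (.leaf 2384243917702)) (.node (.leaf 2625836256656) (.leaf 4056060707214))))) (.node (.node (.node (.node (.node (.leaf 385473406736) (.leaf 4378183331219)) (.leaf 2990908482306)) (.node (.leaf 46171323806) (.leaf 2745558573829))) (.node (.node (.leaf 1647120071311) (.leaf 3401614897943)) (.node (.leaf 2504503401615) (.leaf 3962108275216)))) (.node (.node (.node (.leaf 778999879169) (.leaf 2485713084823)) (.node (.leaf 1771137575942) (.leaf 3760244764175))) (.node (.node (.leaf 1134408722715) (.leaf 2533494414486)) (.node (.leaf 2745558498589) (.leaf 4166656141466)))))) (.node (.node (.node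 (.node (.node (.node (.leaf 241055047951) (.leaf 4331475537538)) (.leaf 2934000233628)) (.node (.leaf 847182505374) (.leaf 3156264937866))) (.node (.node (.leaf 1318018418688) (.leaf 3050501317506)) (.node (.leaf 2432025811219) (.leaf 2517388638090)))) (.node (.node (.node (.leaf 626528478977) (.leaf 3142843028742)) (.node (.leaf 827855098506) (.leaf 3699578336655))) (.node (.node (.leaf 330712752900) (.leaf 3569118673948)) (.node (.leaf 2695092620932) (.leaf 4119411489934))))) (.node (.node (.node (.node (.node (.leaf 464930317594) (.leaf 4413079948436)) (.leaf 3028489490581)) (.node (.leaf 617401738526) (.leaf 2563559350797))) (.node (.node (.leaf 1843078280576) (.leaf 3471945015706)) (.node (.leaf 2399276720021) (.leaf 4005057905290)))) (.node (.node (.node (.leaf 1006096329092) (.leaf 3232500453767)) (.node (.leaf 2338073379217) (.leaf 3701188973590))) (.node (.node (.leaf 431107347853) (.leaf 3000035371678)) (.node (.leaf 2787434382868) (.leaf 4119948385174))))))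
def dF_840 : BT := .node (.node (.node (.node (.node (.node (.node (.leaf 116501015708) (.leaf 4272419736339)) (.leaf 2860985772176)) (.node (.leaf 11811212574) (.leaf 1196685905933))) (.node (.node (.leaf 1230508423709) (.leaf 3287798236309)) (.node (.leaf 2377264965145) (.leaf 3860102777628)))) (.node (.node (.node (.leaf 358629802006) (.leaf 2659122335622)) (.node (.leaf 1177358190734) (.leaf 3642669954455))) (.node (.node (.leaf 2073395956498) (.leaf 2687039476118)) (.node (.leaf 2643016129947) (.leaf 4062502772609))))) (.node (.node (.node (.node (.node (.leaf 180925540482) (.leaf 4385162654739)) (.leaf 3003256597787)) (.node (.leaf 111132685960) (.leaf 2501282304151))) (.node (.node (.leaf 1692217518109) (.leaf 3404836036226)) (.node (.leaf 2524904501149) (.leaf 3891778189974)))) (.node (.node (.node (.leaf 814970239883) (.leaf 3196530002581)) (.node (.leaf 645319386645) (.leaf 3756486666896))) (.node (.node (.leaf 1986422899717) (.leaf 2668786016926)) (.node (.leaf 2740726659216) (.leaf 4107063468292)))))) (.node (.node (.node (.node (.node (.node (.leaf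 102005536006) (.leaf 4340065487492)) (.leaf 2930242032022)) (.node (.leaf 382789265182) (.leaf 3274376473097))) (.node (.node (.leaf 1415728932613) (.leaf 2539400212098)) (.node (.leaf 2443300103055) (.leaf 3916474236828)))) (.node (.node (.node (.leaf 509490647308) (.leaf 2771328281602)) (.node (.leaf 1506997101958) (.leaf 3703873304987))) (.node (.node (.leaf 1049046013568) (.leaf 3029563385857)) (.node (.leaf 2683281457936) (.leaf 4108674021760))))) (.node (.node (.node (.node (.node (.leaf 498753196179) (.leaf 4417911788189)) (.leaf 3042985008662)) (.node (.leaf 766114974107) (.leaf 3511136608775))) (.node (.node (.leaf 1864552708248) (.leaf 3469260431495)) (.node (.leaf 2580739047063) (.leaf 2798172079006)))) (.node (.node (.node (.leaf 1044751043869) (.leaf 3242164210586)) (.node (.leaf 2341294605458) (.leaf 3635690723204))) (.node (.node (.leaf 41118) (.leaf 2492692317591)) (.node (.leaf 2798171860505) (.leaf 3909494985502))))))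
def dF_848 : BT := .node (.node (.node (.node (.node (.node (.node (.leaf 105763594882) (.leaf 4057134500482)) (.leaf 2870112579864)) (.node (.leaf 9126807695) (.leaf 2848637672448))) (.node (.node (.leaf 1210644195329) (.leaf 3287261377945)) (.node (.leaf 2371359384705) (.leaf 3860102777733)))) (.node (.node (.node (.node (.leaf 111669176327) (.leaf 4447439695367)) (.leaf 2623688881795)) (.node (.leaf 758598779535) (.leaf 3641059393306))) (.node (.node (.leaf 2049773630848) (.leaf 2752000935582)) (.node (.leaf 2622078110346) (.leaf 4060892210177))))) (.node (.node (.node (.node (.node (.leaf 12884992276) (.leaf 2954401674123)) (.leaf 3004867211008)) (.node (.leaf 1173600149022) (.leaf 3106335248780))) (.node (.node (.leaf 1673427031813) (.leaf 3407520490904)) (.node (.leaf 2514167080345) (.leaf 3804268229534)))) (.node (.node (.node (.leaf 137976017672) (.leaf 3196530002582)) (.node (.leaf 1707249953412) (.leaf 3759707893144))) (.node (.node (.leaf 1358283700630) (.leaf 2627447060354)) (.node (.leaf 2750927116548) (.leaf 4169877071627)))))) (.node (.node (.node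 (.node (.node (.node (.leaf 251792469007) (.leaf 3900368209664)) (.leaf 2932389620496)) (.node (.leaf 435402313088) (.leaf 2919504768533))) (.node (.node (.leaf 1365263061255) (.leaf 3347927805467)) (.node (.leaf 2443300103067) (.leaf 3910031784337)))) (.node (.node (.node (.leaf 631897214218) (.leaf 2861522708503)) (.node (.leaf 1120986631702) (.leaf 3701725820815))) (.node (.node (.leaf 937913706759) (.leaf 3586835418254)) (.node (.leaf 2691334523545) (.leaf 4117800876682))))) (.node (.node (.node (.node (.node (.leaf 492847614722) (.leaf 4133370204297)) (.leaf 3042448183707)) (.node (.leaf 1896765384346) (.leaf 2854543275530))) (.node (.node (.leaf 1282585050240) (.leaf 3462818208018)) (.node (.leaf 2585034057624) (.leaf 4008816059020)))) (.node (.node (.node (.leaf 1038308455695) (.leaf 3238942984452)) (.node (.leaf 2339683992349) (.leaf 3802120705305))) (.node (.node (.leaf 49929189531) (.leaf 2823404764036)) (.node (.leaf 2796024376335) (.leaf 4216585148184))))))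
def dF_855 : BT := .node (.node (.node (.node (.node (.node (.node (.leaf 108984821137) (.leaf 4276177805570)) (.leaf 2871723192989)) (.node (.leaf 12884946957) (.leaf 2607045871105))) (.node (.node (.leaf 1246077684230) (.leaf 3292093217409)) (.node (.leaf 2379949320065) (.leaf 3634616996994)))) (.node (.node (.node (.leaf 466004041493) (.leaf 3098819642899)) (.node (.leaf 528281103374) (.leaf 645319707038))) (.node (.node (.leaf 2084670248339) (.leaf 2884071192449)) (.node (.leaf 2639794903694) (.leaf 2643016468871))))) (.node (.node (.node (.node (.node (.leaf 353261091590) (.leaf 2836290074250)) (.leaf 2978023665812)) (.node (.leaf 397821437709) (.leaf 2587181565062))) (.node (.node (.leaf 1696512486419) (.leaf 3421479137938)) (.node (.leaf 2522757016977) (.leaf 3733401269909)))) (.node (.node (.node (.leaf 824633917457) (.leaf 2711735736199)) (.node (.leaf 2310156085146) (.leaf 2458332799113))) (.node (.node (.leaf 2260227078164) (.leaf 2682207758215)) (.node (.leaf 2683818342039) (.leaf 4157529321493)))))) (.node (.node (.node (.node (.node (.node (.leaf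 103616151044) (.leaf 4235912529795)) (.leaf 2947958880666)) (.node (.leaf 24696067865) (.leaf 2406256261508))) (.node (.node (.leaf 1433445676829) (.leaf 3355980871055)) (.node (.leaf 2455111265947) (.leaf 3912179268504)))) (.node (.node (.node (.leaf 631360345108) (.leaf 2877091968663)) (.node (.leaf 1180042267166) (.leaf 3721053178259))) (.node (.node (.leaf 1055488427654) (.leaf 3279208259971)) (.node (.leaf 2456185064596) (.leaf 4104915577483))))) (.node (.node (.node (.node (.node (.leaf 507343049345) (.leaf 4420059272349)) (.leaf 3049964378266)) (.node (.leaf 639950279706) (.leaf 2584497157772))) (.node (.node (.leaf 1282585056922) (.leaf 3469260662925)) (.node (.leaf 2594697736461) (.leaf 3964792570381)))) (.node (.node (.node (.leaf 995895792260) (.leaf 3243237952657)) (.node (.leaf 150861285387) (.leaf 2499135002910))) (.node (.node (.leaf 170724968199) (.leaf 2659658768012)) (.node (.leaf 2801393086852) (.leaf 4207458294406))))))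
def dF_864 : BT := .node (.node (.node (.node (.node (.node (.node (.leaf 2147507972) (.leaf 3733401339266)) (.leaf 2863670127388)) (.node (.leaf 147102704542) (.leaf 2400887203212))) (.node (.node (.leaf 223875456136) (.leaf 3289408862109)) (.node (.leaf 2024003904405) (.leaf 3855807809540)))) (.node (.node (.node (.node (.leaf 471909622933) (.leaf 4446365953299)) (.leaf 3083787253774)) (.node (.leaf 1059783663382) (.leaf 701154279043))) (.node (.node (.leaf 231391848588) (.leaf 2886755377031)) (.node (.leaf 2622615030414) (.leaf 3944391558536))))) (.node (.node (.node (.node (.node (.leaf 241591968006) (.leaf 4377109546244)) (.leaf 2964601889812)) (.node (.leaf 33286356229) (.leaf 2592013497738))) (.node (.node (.leaf 1660542126848) (.leaf 3409131104129)) (.node (.leaf 2519535790749) (.leaf 3974993177485)))) (.node (.node (.node (.leaf 793495397253) (.leaf 3192235203866)) (.node (.leaf 1122597346836) (.leaf 3745749246108))) (.node (.node (.leaf 949724750104) (.leaf 3611531374476)) (.node (.leaf 2741263530267) (.leaf 4165045528345)))))) (.node (.node (.node (.node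 (.node (.node (.leaf 250718775812) (.leaf 4281546555143)) (.leaf 2931852749464)) (.node (.leaf 387620894494) (.leaf 3446712076958))) (.node (.node (.leaf 1388348491413) (.leaf 3343095966213)) (.node (.leaf 2441689490053) (.leaf 3908421171225)))) (.node (.node (.node (.leaf 628675987974) (.leaf 2865817676823)) (.node (.leaf 643171536150) (.leaf 3564823738007))) (.node (.node (.leaf 840740272535) (.leaf 3568044931858)) (.node (.leaf 2683818328989) (.leaf 4119411084040))))) (.node (.node (.node (.node (.node (.leaf 493921343003) (.leaf 2746095767304)) (.leaf 3041374441740)) (.node (.leaf 1834488343707) (.leaf 2719252005129))) (.node (.node (.leaf 1846836377629) (.leaf 3466039434265)) (.node (.leaf 2587181541788) (.leaf 3884798874631)))) (.node (.node (.node (.leaf 1022739331332) (.leaf 2856154010503)) (.node (.leaf 2339147121309) (.leaf 3802657576335))) (.node (.node (.leaf 1950989370398) (.leaf 2982855364638)) (.node (.leaf 2794950634267) (.leaf 4219806374426))))))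
def dF_871 : BT := .node (.node (.node (.node (.node (.node (.node (.leaf 113279789459) (.leaf 4276177833628)) (.leaf 2858838209415)) (.node (.leaf 844498149662) (.leaf 3223910093954))) (.node (.node (.leaf 1002875158799) (.leaf 3231426802455)) (.node (.leaf 2377801836437) (.leaf 3869229585295)))) (.node (.node (.node (.leaf 449897909909) (.leaf 3099356513949)) (.node (.leaf 1396401575055) (.leaf 3649112459011))) (.node (.node (.leaf 2076079909531) (.leaf 2404108709389)) (.node (.leaf 2638184290584) (.leaf 4043175807124))))) (.node (.node (.node (.node (.node (.leaf 381178438407) (.leaf 4267051054208)) (.leaf 3001645984664)) (.node (.leaf 636192421790) (.leaf 3462281083265))) (.node (.node (.leaf 1693828131462) (.leaf 2485713138566)) (.node (.leaf 2523830759065) (.leaf 3976066922266)))) (.node (.node (.node (.leaf 822486432279) (.leaf 3191161292181)) (.node (.leaf 2309619214097) (.leaf 3754876053775))) (.node (.node (.leaf 26844083722) (.leaf 2654827268894)) (.node (.leaf 2691871407636) (.leaf 4158066192533)))))) (.node (.node (.node (.node (.node (.node (.leaf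 266288035976) (.leaf 4341139179778)) (.leaf 2896419273474)) (.node (.leaf 338765626266) (.leaf 2582886534155))) (.node (.node (.leaf 1427003224339) (.leaf 3341485238663)) (.node (.leaf 2458332492179) (.leaf 3914326752666)))) (.node (.node (.node (.leaf 637265924868) (.leaf 2629594410115)) (.node (.leaf 1266478840734) (.leaf 3706557660300))) (.node (.node (.leaf 1050119753349) (.leaf 3226594847628)) (.node (.leaf 2451890096279) (.leaf 4107063359116))))) (.node (.node (.node (.node (.node (.leaf 503584933655) (.leaf 4418985228427)) (.leaf 2900714217095)) (.node (.leaf 511101230106) (.leaf 3455301945353))) (.node (.node (.leaf 923418396825) (.leaf 3317326191381)) (.node (.leaf 2588255283868) (.leaf 3938485858434)))) (.node (.node (.node (.leaf 1049046011395) (.leaf 2484102484117)) (.node (.leaf 2342905218587) (.leaf 3810173771008))) (.node (.node (.leaf 835908436741) (.leaf 2433099550726)) (.node (.leaf 2799782473619) (.leaf 4210679566738))))))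
def dF_879 : BT := .node (.node (.node (.node (.node (.node (.node (.leaf 111132305413) (.leaf 4268124768019)) (.leaf 2866891353619)) (.node (.leaf 1807644825118) (.leaf 769336749187))) (.node (.node (.leaf 1226750326529) (.leaf 3282966409618)) (.node (.leaf 2376191223069) (.leaf 2904472555934)))) (.node (.node (.node (.node (.leaf 379567846548) (.leaf 4448513437440)) (.leaf 2867965047042)) (.node (.leaf 162671925134) (.leaf 3647501845774))) (.node (.node (.leaf 2060511051660) (.leaf 2385318182668)) (.node (.leaf 2415919680009) (.leaf 4061966288657))))) (.node (.node (.node (.node (.node (.leaf 227096449922) (.leaf 4378720139915)) (.leaf 3004867210908)) (.node (.leaf 11274656926) (.leaf 2908230420225))) (.node (.node (.leaf 1686311936898) (.leaf 3360812721941)) (.node (.leaf 2514703951374) (.leaf 3717832012044)))) (.node (.node (.node (.leaf 816580768641) (.leaf 3192235203856)) (.node (.leaf 162671908611) (.leaf 3758097280019))) (.node (.node (.leaf 1138703733012) (.leaf 3262028334341)) (.node (.leaf 2747169111698) (.leaf 4169877275785)))))) (.node (.node (.node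 (.node (.node (.node (.leaf 258771795991) (.leaf 4333086163864)) (.leaf 2443837043719)) (.node (.leaf 762893578122) (.leaf 2868501999493))) (.node (.node (.leaf 1408749609093) (.leaf 3340948481939)) (.node (.leaf 2441152618899) (.leaf 3923453560452)))) (.node (.node (.node (.leaf 634581569299) (.leaf 2911451624455)) (.node (.leaf 1909113418267) (.leaf 3702262691865))) (.node (.node (.leaf 901406474782) (.leaf 2579128554782)) (.node (.leaf 2688650168338) (.leaf 4111895048970))))) (.node (.node (.node (.node (.node (.leaf 480499472663) (.leaf 4413616820612)) (.leaf 3041374441617)) (.node (.leaf 1129576668186) (.leaf 3521873828126))) (.node (.node (.leaf 1865626864133) (.leaf 3467113176334)) (.node (.leaf 2584497186576) (.leaf 4021164066455)))) (.node (.node (.node (.leaf 1040992946946) (.leaf 3248606663068)) (.node (.leaf 2340757734429) (.leaf 3639985690242))) (.node (.node (.leaf 1370094722974) (.leaf 2478196720519)) (.node (.leaf 2363306421505) (.leaf 4219806233739))))))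
def dF_886 : BT := .node (.node (.node (.node (.node (.node (.node (.leaf 25232962198) (.leaf 4277788446851)) (.leaf 2872260064018)) (.node (.leaf 50465926558) (.leaf 2848100785667))) (.node (.node (.leaf 1188095626647) (.leaf 3300146282908)) (.node (.leaf 2395518580608) (.leaf 3674882315668)))) (.node (.node (.node (.leaf 464930299414) (.leaf 3096672105748)) (.node (.leaf 536334168975) (.leaf 2845416705409))) (.node (.node (.leaf 23085947675) (.leaf 3213173101835)) (.node (.leaf 2645163614212) (.leaf 3634617043606))))) (.node (.node (.node (.node (.node (.leaf 405337635206) (.leaf 4377109591446)) (.leaf 3004867210897)) (.node (.leaf 1559073278622) (.leaf 2528125825174))) (.node (.node (.leaf 1699733712669) (.leaf 2812667523462)) (.node (.leaf 2529736340613) (.leaf 3717831994142)))) (.node (.node (.node (.leaf 826244530579) (.leaf 2919504729223)) (.node (.leaf 761283504393) (.leaf 3744675506718))) (.node (.node (.leaf 248571772045) (.leaf 2417530355974)) (.node (.leaf 2453500722453) (.leaf 4173635464989)))))) (.node (.node (.node (.node (.node (.node (.leaf 279709811969)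 (.leaf 4344897326852)) (.leaf 2943127041305)) (.node (.leaf 82678639646) (.leaf 2695092601731))) (.node (.node (.leaf 17717083917) (.leaf 3355444000014)) (.node (.leaf 2450279426584) (.leaf 3910568655379)))) (.node (.node (.node (.leaf 643171505939) (.leaf 3148211713301)) (.node (.leaf 1324460855838) (.leaf 3705483918108))) (.node (.node (.leaf 301721734272) (.leaf 2902324796422)) (.node (.leaf 2697240104989) (.leaf 4124243329299))))) (.node (.node (.node (.node (.node (.leaf 510564359057) (.leaf 4421133014415)) (.leaf 3048353765137)) (.node (.leaf 1384590412187) (.leaf 2611877817225))) (.node (.node (.leaf 1885491092612) (.leaf 3476776819860)) (.node (.leaf 2604361415068) (.leaf 3959423904150)))) (.node (.node (.node (.leaf 1045824788105) (.leaf 3196530184599)) (.node (.leaf 2346126444545) (.leaf 3813394674185))) (.node (.node (.leaf 119722286366) (.leaf 2432562785155)) (.node (.leaf 2816425475855) (.leaf 3681861721099))))))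
def dF_897 : BT := .node (.node (.node (.node (.node (.node (.node (.leaf 89657465737) (.leaf 4262756057615)) (.leaf 2860448901252)) (.node (.leaf 572304429854) (.leaf 3044595582878))) (.node (.node (.leaf 382252373514) (.leaf 3276523819010)) (.node (.leaf 2372969996825) (.leaf 2898030102541)))) (.node (.node (.node (.node (.leaf 48318501251) (.leaf 4445292211076)) (.leaf 3083787253778)) (.node (.leaf 1835025214734) (.leaf 3638911909135))) (.node (.node (.leaf 2029909402634) (.leaf 2561411689609)) (.node (.leaf 2630131224976) (.leaf 4057134449298))))) (.node (.node (.node (.node (.node (.leaf 379567825299) (.leaf 4377646460292)) (.leaf 2989834821775)) (.node (.leaf 105763762462) (.leaf 2397129193749))) (.node (.node (.leaf 1643899124736) (.leaf 3354907140501)) (.node (.leaf 2508798369935) (.leaf 3963182017298)))) (.node (.node (.node (.leaf 774704910849) (.leaf 3197066947341)) (.node (.leaf 1963337346050) (.leaf 3757560409089))) (.node (.node (.leaf 1686311937818) (.leaf 2545842685440)) (.node (.leaf 2749853466909) (.leaf 4170951109786)))))) (.node (.node (.node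 (.node (.node (.node (.leaf 245350016271) (.leaf 4330401808664)) (.leaf 2936684588819)) (.node (.leaf 540092185886) (.leaf 2730526198669))) (.node (.node (.leaf 1326071481993) (.leaf 3336116642574)) (.node (.leaf 2436320779539) (.leaf 3907347429149)))) (.node (.node (.node (.leaf 625454761617) (.leaf 3136400615695)) (.node (.leaf 643708527382) (.leaf 2475512657162))) (.node (.node (.leaf 109521918622) (.leaf 3572876771227)) (.node (.leaf 2690797652612) (.leaf 4108137198097))))) (.node (.node (.node (.node (.node (.leaf 10737529366) (.leaf 4411469335944)) (.leaf 2740189753094)) (.node (.leaf 617938589086) (.leaf 2960843785611))) (.node (.node (.leaf 1842004538634) (.leaf 3464965692189)) (.node (.leaf 2573759723543) (.leaf 4004521064990)))) (.node (.node (.node (.leaf 1001801360772) (.leaf 3228742265750)) (.node (.leaf 2338073377291) (.leaf 3188477252616))) (.node (.node (.leaf 430570793502) (.leaf 2784213122827)) (.node (.leaf 2793340007574) (.leaf 4117264030595))))))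
def dF_904 : BT := .node (.node (.node (.node (.node (.node (.node (.leaf 120795984028) (.leaf 4080756819712)) (.leaf 2865280740496)) (.node (.leaf 49392127489) (.leaf 1962263783170))) (.node (.node (.leaf 1234266520989) (.leaf 3282966409614)) (.node (.leaf 518080996871) (.leaf 3860102777617)))) (.node (.node (.node (.node (.leaf 12348121223) (.leaf 4449050308497)) (.leaf 2658048475906)) (.node (.leaf 1274531848974) (.leaf 3642669817352))) (.node (.node (.leaf 2073395956621) (.leaf 2687039535622)) (.node (.leaf 2643016127117) (.leaf 4027069679508))))) (.node (.node (.node (.node (.node (.leaf 383862793606) (.leaf 3707094692870)) (.leaf 3007551566107)) (.node (.leaf 10737423104) (.leaf 2501282270082))) (.node (.node (.leaf 1691680647046) (.leaf 3358128366741)) (.node (.leaf 2528125727385) (.leaf 3979288148613)))) (.node (.node (.node (.leaf 819265206785) (.leaf 3189550848655)) (.node (.leaf 1273458353674) (.leaf 3745212375059))) (.node (.node (.leaf 1813550038413) (.leaf 2767570370462)) (.node (.leaf 2745021627536) (.leaf 4160750560016)))))) (.node (.node (.node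 (.node (.node (.node (.leaf 261456158613) (.leaf 4333086141708)) (.leaf 2437931510022)) (.node (.leaf 426812601374) (.leaf 3446711405709))) (.node (.node (.leaf 1411433964293) (.leaf 3347927805454)) (.node (.leaf 2439005134735) (.leaf 3920769205148)))) (.node (.node (.node (.leaf 635118440586) (.leaf 2475512435462)) (.node (.leaf 1839319925635) (.leaf 3703872889485))) (.node (.node (.leaf 895500892169) (.leaf 2687576542342)) (.node (.leaf 2687576426256) (.leaf 4109747811202))))) (.node (.node (.node (.node (.node (.leaf 501974314775) (.leaf 2778844893835)) (.leaf 2574833618951)) (.node (.leaf 644245248026) (.leaf 2407330008990))) (.node (.node (.leaf 132070688281) (.leaf 3469797496343)) (.node (.leaf 2585034015383) (.leaf 3557307548172)))) (.node (.node (.node (.leaf 1019518110869) (.leaf 3246459178906)) (.node (.leaf 2341294605468) (.leaf 3804268189459))) (.node (.node (.leaf 653372226846) (.leaf 2821794120450)) (.node (.leaf 2798171860495) (.leaf 2357401179934))))))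
def dF_912 : BT := .node (.node (.node (.node (.node (.node (.node (.leaf 105226700565) (.leaf 4270272252300)) (.leaf 2862596385306)) (.node (.leaf 432717989516) (.leaf 2517925221141))) (.node (.node (.leaf 1206349227009) (.leaf 3284040151707)) (.node (.leaf 2375117472773) (.leaf 3854197196177)))) (.node (.node (.node (.node (.leaf 331249378966) (.leaf 4446902803848)) (.leaf 2862059567382)) (.node (.leaf 2030982843015) (.leaf 3641596264339))) (.node (.node (.leaf 2045478662528) (.leaf 1835025609118)) (.node (.leaf 2417530342166) (.leaf 4056060708490))))) (.node (.node (.node (.node (.node (.leaf 380104686104) (.leaf 4384625737093)) (.leaf 3000572242688)) (.node (.leaf 1216549781022) (.leaf 2607045731970))) (.node (.node (.leaf 1669132063493) (.leaf 3408057361947)) (.node (.leaf 2518462048665) (.leaf 3970161340826)))) (.node (.node (.node (.leaf 806380302212) (.leaf 3190087719704)) (.node (.leaf 1895691642006) (.leaf 3748433601307))) (.node (.node (.leaf 1226213486356) (.leaf 3612068357134)) (.node (.leaf 2741263530265) (.leaf 4169877367695)))))) (.node (.node (.node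 (.node (.node (.node (.leaf 248571291536) (.leaf 4334159906053)) (.leaf 2936147717775)) (.node (.leaf 150860929182) (.leaf 2812667457029))) (.node (.node (.leaf 472983605384) (.leaf 3348464676508)) (.node (.leaf 2440078876829) (.leaf 3909494913305)))) (.node (.node (.node (.leaf 631360343057) (.leaf 3136400550421)) (.node (.leaf 1121523501440) (.leaf 3052112017289))) (.node (.node (.leaf 1049582845086) (.leaf 3583614192131)) (.node (.leaf 2683281457946) (.leaf 4118337671433))))) (.node (.node (.node (.node (.node (.leaf 482647064979) (.leaf 4415227432987)) (.leaf 3042448183709)) (.node (.leaf 1845762635547) (.leaf 3404299057546))) (.node (.node (.leaf 1849520384271) (.leaf 3467113176338)) (.node (.leaf 2581812831386) (.leaf 1323387756429)))) (.node (.node (.node (.leaf 1035624236293) (.leaf 2359548429974)) (.node (.leaf 2339683992337) (.leaf 3802120705299))) (.node (.node (.leaf 1365799612062) (.leaf 2877628800769)) (.node (.leaf 2796024270731) (.leaf 4220880116504))))))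
def dF_919 : BT := .node (.node (.node (.node (.node (.node (.node (.leaf 113279789457) (.leaf 4276177368972)) (.leaf 2876018161309)) (.node (.leaf 93415602590) (.leaf 3030636919838))) (.node (.node (.leaf 1246614554899) (.leaf 2520072843285)) (.node (.leaf 2379949320335) (.leaf 3869766456349)))) (.node (.node (.node (.leaf 432718036374) (.leaf 3096135287705)) (.node (.leaf 1753420816655) (.leaf 3608310271254))) (.node (.node (.leaf 2085207119492) (.leaf 2580202393485)) (.node (.leaf 2638721161616) (.leaf 4064113542793))))) (.node (.node (.node (.node (.node (.leaf 134217760002) (.leaf 4387847009937)) (.leaf 3008088391060)) (.node (.leaf 1314260305935) (.leaf 2383170600834))) (.node (.node (.leaf 1637993557121) (.leaf 3419868524824)) (.node (.leaf 2527051985297) (.leaf 3975529762953)))) (.node (.node (.node (.leaf 824097046419) (.leaf 3187403208070)) (.node (.leaf 826244884501) (.leaf 2785824055307))) (.node (.node (.leaf 2255932110987) (.leaf 2768107241758)) (.node (.leaf 2685965826199) (.leaf 4103305371269)))))) (.node (.node (.node (.node (.node (.node (.leaf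 270583004295) (.leaf 4337381124885)) (.leaf 2939905815069)) (.node (.leaf 143344768644) (.leaf 2512019743006))) (.node (.node (.leaf 1437740645149) (.leaf 3352759644928)) (.node (.leaf 2447058200348) (.leaf 3916474236824)))) (.node (.node (.node (.leaf 639413408668) (.leaf 3150359262852)) (.node (.leaf 383325835422) (.leaf 3719442565261))) (.node (.node (.leaf 883152859912) (.leaf 2450279464707)) (.node (.leaf 2451890096276) (.leaf 4105452818583))))) (.node (.node (.node (.node (.node (.leaf 506806181001) (.leaf 4420059272339)) (.leaf 3050501249309)) (.node (.leaf 630286600987) (.leaf 3532074566046))) (.node (.node (.leaf 1876364284929) (.leaf 3475703113093)) (.node (.leaf 2590402768140) (.leaf 3557844461708)))) (.node (.node (.node (.leaf 1050119754269) (.leaf 3247532920977)) (.node (.leaf 2344515724429) (.leaf 826782113054))) (.node (.node (.leaf 835371275778) (.leaf 2973191805982)) (.node (.leaf 2800319344666) (.leaf 4207995199638))))))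
def dF_928 : BT := .node (.node (.node (.node (.node (.node (.node (.leaf 93952433797) (.leaf 4265977283869)) (.leaf 2867965095708)) (.node (.leaf 1454920479646) (.leaf 3023657701888))) (.node (.node (.leaf 1196685548189) (.leaf 638340298637)) (.node (.leaf 2374043326983) (.leaf 3856344680336)))) (.node (.node (.node (.node (.leaf 335007550854) (.leaf 4445829082006)) (.leaf 3088082222094)) (.node (.leaf 1123134129537) (.leaf 3639985651215))) (.node (.node (.leaf 2034203978383) (.leaf 2887292439435)) (.node (.leaf 2626909998734) (.leaf 4057134375437))))) (.node (.node (.node (.node (.node (.leaf 387083932565) (.leaf 4377646460188)) (.leaf 2800319390732)) (.node (.leaf 472446693790) (.leaf 3486440262412))) (.node (.node (.leaf 1656247158528) (.leaf 3404836135809)) (.node (.leaf 2518998919812) (.leaf 3970698211980)))) (.node (.node (.node (.leaf 706522308760) (.leaf 3196530172186)) (.node (.leaf 1132261193859) (.leaf 3750044214428))) (.node (.node (.leaf 375272994180) (.leaf 3611531486107)) (.node (.leaf 2745558498587) (.leaf 4169340496665)))))) (.node (.node (.node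 (.node (.node (.node (.leaf 243202566171) (.leaf 4328254324484)) (.leaf 2936147717784)) (.node (.leaf 1822676754846) (.leaf 3194919375902))) (.node (.node (.leaf 1387274528141) (.leaf 3338800997893)) (.node (.leaf 2342905241229) (.leaf 3759171057813)))) (.node (.node (.node (.leaf 628139116817) (.leaf 3140695518741)) (.node (.leaf 1699196633226) (.leaf 643172234759))) (.node (.node (.leaf 2134062321942) (.leaf 3572339900178)) (.node (.leaf 2688113297309) (.leaf 4106526584974))))) (.node (.node (.node (.node (.node (.leaf 489089518092) (.leaf 4412006207253)) (.leaf 3030100046214)) (.node (.leaf 1844688893466) (.leaf 2981245028489))) (.node (.node (.leaf 1825361540996) (.leaf 3470334402585)) (.node (.leaf 2587718412817) (.leaf 4006668225416)))) (.node (.node (.node (.leaf 115964359944) (.leaf 3131031761283)) (.node (.leaf 2339147121297) (.leaf 3801583834268))) (.node (.node (.leaf 1876364317210) (.leaf 2640868578050)) (.node (.leaf 2794950634255) (.leaf 4210142695708))))))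
def dF_935 : BT := .node (.node (.node (.node (.node (.node (.node (.leaf 117574757779) (.leaf 4276714704657)) (.leaf 2859375159055)) (.node (.leaf 597000483614) (.leaf 2954401201155))) (.node (.node (.leaf 1239635231488) (.leaf 3285650583319)) (.node (.leaf 2377801836179) (.leaf 3868692714264)))) (.node (.node (.node (.leaf 118648552599) (.leaf 3089155966605)) (.node (.leaf 1400696543375) (.leaf 3642132838283))) (.node (.node (.leaf 2059974180497) (.leaf 2372433171206)) (.node (.leaf 2642479258904) (.leaf 4051765741704))))) (.node (.node (.node (.node (.node (.leaf 15032389126) (.leaf 4386236396825)) (.leaf 3005940952984)) (.node (.leaf 1758789187230) (.leaf 3055869885056))) (.node (.node (.leaf 1693291260423) (.leaf 3421479138049)) (.node (.leaf 2520072661786) (.leaf 3976603793297)))) (.node (.node (.node (.leaf 821412691229) (.leaf 3192235034262)) (.node (.leaf 2309618816011) (.leaf 3759171022095))) (.node (.node (.leaf 2255395226264) (.leaf 2681670873357)) (.node (.leaf 2694018891796) (.leaf 3955665870853)))))) (.node (.node (.node (.node (.node (.node (.leaf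 90731247374) (.leaf 3735011969438)) (.leaf 2946885138693)) (.node (.leaf 338765548422) (.leaf 2418067164169))) (.node (.node (.leaf 1428076966419) (.leaf 2478733797762)) (.node (.leaf 2455648137093) (.leaf 3918621720986)))) (.node (.node (.node (.leaf 637802795539) (.leaf 2808372423559)) (.node (.leaf 1316407791364) (.leaf 3704947047064))) (.node (.node (.leaf 1050119755012) (.leaf 2610266985347)) (.node (.leaf 2456185064599) (.leaf 4107600197644))))) (.node (.node (.node (.node (.node (.leaf 74625176730) (.leaf 4418448659203)) (.leaf 2610266961543)) (.node (.leaf 643171505947) (.leaf 2349884605836))) (.node (.node (.leaf 1853278790799) (.leaf 3320010546582)) (.node (.leaf 2588255283858) (.leaf 3556770689158)))) (.node (.node (.node (.leaf 1047435398403) (.leaf 3240016726424)) (.node (.leaf 2325725349383) (.leaf 3805878802691))) (.node (.node (.leaf 209379661324) (.leaf 2497524170250)) (.node (.leaf 2798708731539) (.leaf 4211216269704))))))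
def dF_943 : BT := .node (.node (.node (.node (.node (.node (.node (.leaf 2147509253) (.leaf 4268124673925)) (.leaf 2870112579855)) (.node (.leaf 44560313741) (.leaf 3073586542476))) (.node (.node (.leaf 1222455358209) (.leaf 3287261377938)) (.node (.leaf 2376190778118) (.leaf 2844343014023)))) (.node (.node (.node (.node (.leaf 469225267733) (.leaf 4447976566401)) (.leaf 2867428277781)) (.node (.leaf 826781401615) (.leaf 3646964974849))) (.node (.node (.leaf 1789391240202) (.leaf 2385318071681)) (.node (.leaf 2427730891925) (.leaf 3249143727873))))) (.node (.node (.node (.node (.node (.leaf 375809724570) (.leaf 4117264069022)) (.leaf 3009162179228)) (.node (.leaf 33822921612) (.leaf 2507724641687))) (.node (.node (.leaf 1686311539355) (.leaf 3406446748817)) (.node (.leaf 2518998919694) (.leaf 3969624413973)))) (.node (.node (.node (.leaf 815507109898) (.leaf 3186329622419)) (.node (.leaf 1967632347668) (.leaf 3746822988184))) (.node (.node (.leaf 2215129655830) (.leaf 2882997495557)) (.node (.leaf 2749316582805) (.leaf 3735548799750)))))) (.node (.node (.node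 (.node (.node (.node (.leaf 257161183125) (.leaf 4333623034907)) (.leaf 2935073963014)) (.node (.leaf 110058539788) (.leaf 2538326250645))) (.node (.node (.leaf 1404454640773) (.leaf 3345243450259)) (.node (.leaf 2437931392665) (.leaf 3919158592132)))) (.node (.node (.node (.leaf 634044698269) (.leaf 2710661981574)) (.node (.leaf 1894080879622) (.leaf 3702799562896))) (.node (.node (.leaf 882079020041) (.leaf 3029563385758)) (.node (.leaf 2692945136658) (.leaf 1961190422302))))) (.node (.node (.node (.node (.node (.leaf 31138628374) (.leaf 4416301175067)) (.leaf 3042448183699)) (.node (.leaf 2025614433947) (.leaf 2350421454732))) (.node (.node (.leaf 1861331895813) (.leaf 3471408144654)) (.node (.leaf 2581812831379) (.leaf 4020627218584)))) (.node (.node (.node (.leaf 1041529817617) (.leaf 3249143534099)) (.node (.leaf 2340757734417) (.leaf 3803194447385))) (.node (.node (.leaf 359166652308) (.leaf 2643553056773)) (.node (.leaf 2372433227008) (.leaf 4219806374415))))))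
def dF_950 : BT := .node (.node (.node (.node (.node (.node (.node (.leaf 121869698457) (.leaf 4272956458250)) (.leaf 2876555032338)) (.node (.leaf 50465977246) (.leaf 2688650192395))) (.node (.node (.leaf 1250909509513) (.leaf 3221226259207)) (.node (.leaf 2391223612288) (.leaf 3871377057412)))) (.node (.node (.node (.leaf 451508470275) (.leaf 3094524674575)) (.node (.leaf 547071589774) (.leaf 3648038716829))) (.node (.node (.leaf 2015413901700) (.leaf 2595234599819)) (.node (.leaf 2432025860245) (.leaf 2574833863304))))) (.node (.node (.node (.node (.node (.leaf 399968925452) (.leaf 4387310138896)) (.leaf 2996277274259)) (.node (.leaf 1313186563867) (.leaf 2938295076099))) (.node (.node (.leaf 1575716531841) (.leaf 3422015889556)) (.node (.leaf 2520072614022) (.leaf 3896610007316)))) (.node (.node (.node (.leaf 825170788497) (.leaf 2921115237890)) (.node (.leaf 2311229827227) (.leaf 3747359860254))) (.node (.node (.leaf 2262910993807) (.leaf 2554969262979)) (.node (.leaf 2451353238293) (.leaf 4131759534358)))))) (.node (.node (.node (.node (.node (.node (.leaf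 256624361996) (.leaf 4342212956169)) (.leaf 2947422009625)) (.node (.leaf 417685754114) (.leaf 2457795608835))) (.node (.node (.leaf 1440961852951) (.leaf 3353833386905)) (.node (.leaf 2454574394904) (.leaf 3914863623699)))) (.node (.node (.node (.leaf 641560893056) (.leaf 2875481355543)) (.node (.leaf 1316944649228) (.leaf 3709778886428))) (.node (.node (.leaf 1076963324165) (.leaf 2742874215175)) (.node (.leaf 2701535073309) (.leaf 4123169587328))))) (.node (.node (.node (.node (.node (.leaf 506269391617) (.leaf 4420596143389)) (.leaf 3048890636178)) (.node (.leaf 1329829566107) (.leaf 2859911953419))) (.node (.node (.leaf 22012156044) (.leaf 3478924304020)) (.node (.leaf 2604898286099) (.leaf 3737696175493)))) (.node (.node (.node (.leaf 1053877851657) (.leaf 3240016726415)) (.node (.leaf 1909113522327) (.leaf 3805341931545))) (.node (.node (.leaf 9127343262) (.leaf 2628520656926)) (.node (.leaf 2814277991812) (.leaf 4173635476503))))))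
def dF_960 : BT := .node (.node (.node (.node (.node (.node (.node (.leaf 99858013579) (.leaf 4265977283855)) (.leaf 2869038837892)) (.node (.leaf 49929146889) (.leaf 2610267159680))) (.node (.node (.leaf 1195074933385) (.leaf 3281355796621)) (.node (.leaf 2358474482327) (.leaf 3854734067226)))) (.node (.node (.node (.node (.leaf 381178459650) (.leaf 3716758383755)) (.leaf 3085934737936)) (.node (.leaf 1843615151375) (.leaf 2829310573954))) (.node (.node (.leaf 2032593757459) (.leaf 3364033757453)) (.node (.leaf 2621541288336) (.leaf 3760244834951))))) (.node (.node (.node (.node (.node (.leaf 381178438416) (.leaf 4377646435202)) (.leaf 2990371653654)) (.node (.leaf 334470883466) (.leaf 3123515655053))) (.node (.node (.leaf 1648730684045) (.leaf 3400540963078)) (.node (.leaf 2500745291266) (.leaf 3961034533134)))) (.node (.node (.node (.leaf 783294847489) (.leaf 3194382688028)) (.node (.leaf 828929093397) (.leaf 3758634151068))) (.node (.node (.leaf 955093580164) (.leaf 2546916425986)) (.node (.leaf 2741263530269) (.leaf 4162361173146)))))) (.node (.node (.node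 (.node (.node (.node (.leaf 237833821711) (.leaf 4331475550734)) (.leaf 2929705265308)) (.node (.leaf 144418427528) (.leaf 2828236680961))) (.node (.node (.leaf 1384590411145) (.leaf 3334505823234)) (.node (.leaf 2433636424336) (.leaf 3696894031764)))) (.node (.node (.node (.leaf 159450810380) (.leaf 3091303460502)) (.node (.leaf 826244484244) (.leaf 3699578336667))) (.node (.node (.leaf 422517498509) (.leaf 3570192416026)) (.node (.leaf 2695629491865) (.leaf 4115116521614))))) (.node (.node (.node (.node (.node (.leaf 482647065100) (.leaf 4413616819865)) (.leaf 3032784458901)) (.node (.leaf 497142583064) (.leaf 3286187493132))) (.node (.node (.leaf 1844688893459) (.leaf 3467650047386)) (.node (.leaf 2580739089411) (.leaf 4005594829442)))) (.node (.node (.node (.leaf 1010391297412) (.leaf 2707977482375)) (.node (.leaf 2338073379229) (.leaf 2633889600644))) (.node (.node (.leaf 790274171038) (.leaf 2821257248907)) (.node (.leaf 2786360517763) (.leaf 4218732632348))))))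
def dF_967 : BT := .node (.node (.node (.node (.node (.node (.node (.leaf 112206047388) (.leaf 4272419614471)) (.leaf 2867965095695)) (.node (.leaf 15) (.leaf 2518462062871))) (.node (.node (.leaf 1233729649936) (.leaf 3286724494229)) (.node (.leaf 2378338159756) (.leaf 3868692710660)))) (.node (.node (.node (.leaf 117037939479) (.leaf 2858838341142)) (.node (.leaf 1173063222415) (.leaf 2030983528454))) (.node (.node (.leaf 2068564117137) (.leaf 2563022352520)) (.node (.leaf 2639258032668) (.leaf 4063040030737))))) (.node (.node (.node (.node (.node (.leaf 16643089542) (.leaf 4385699525888)) (.leaf 2998961629467)) (.node (.leaf 386547094285) (.leaf 2691334611718))) (.node (.node (.leaf 1691680647432) (.leaf 3412889201409)) (.node (.leaf 2520609532829) (.leaf 3979825019548)))) (.node (.node (.node (.leaf 760209406987) (.leaf 3194382518422)) (.node (.leaf 2309081944587) (.leaf 3752191698576))) (.node (.node (.leaf 2253247647764) (.leaf 2444910784013)) (.node (.leaf 2747169111694) (.leaf 4158602950539)))))) (.node (.node (.node (.node (.node (.node (.leaf 89120634254)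 (.leaf 4341676100497)) (.leaf 2938295202053)) (.node (.leaf 49929029251) (.leaf 2492155429000))) (.node (.node (.leaf 1420023900933) (.leaf 3346853949063)) (.node (.leaf 2447058200453) (.leaf 3912179268508)))) (.node (.node (.node (.leaf 634581569686) (.leaf 2971044374787)) (.node (.leaf 1267552528926) (.leaf 3702262692355))) (.node (.node (.leaf 958314826888) (.leaf 3226058136606)) (.node (.leaf 2690797652494) (.leaf 4108673994635))))) (.node (.node (.node (.node (.node (.leaf 417148816909) (.leaf 4417911788053)) (.leaf 2849711387907)) (.node (.leaf 829465756827) (.leaf 3512210080385))) (.node (.node (.leaf 987842921496) (.leaf 3468186732930)) (.node (.leaf 2582886531220) (.leaf 3560528774669)))) (.node (.node (.node (.leaf 1045824785665) (.leaf 3248606663064)) (.node (.leaf 1834488464769) (.leaf 3804805060495))) (.node (.node (.leaf 678068011806) (.leaf 2422362379661)) (.node (.leaf 2799245602576) (.leaf 4211216439809))))))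
def dF_975 : BT := .node (.node (.node (.node (.node (.node (.node (.leaf 106300460429) (.leaf 4057671371415)) (.leaf 2865817611544)) (.node (.leaf 420906797320) (.leaf 2848637756554))) (.node (.node (.leaf 1214939163649) (.leaf 3282966409625)) (.node (.leaf 2029909484694) (.leaf 3864397746053)))) (.node (.node (.node (.node (.leaf 332323173766) (.leaf 4446902824471)) (.leaf 3083787152002)) (.node (.leaf 763967489934) (.leaf 3641059392021))) (.node (.node (.leaf 2054068599168) (.leaf 2594697796233)) (.node (.leaf 2419140955285) (.leaf 4060892194570))))) (.node (.node (.node (.node (.node (.leaf 377957207706) (.leaf 4373351494550)) (.leaf 3009162179328)) (.node (.leaf 18253615384) (.leaf 2898566794388))) (.node (.node (.leaf 1677722000133) (.leaf 3156264904582)) (.node (.leaf 2515777693458) (.leaf 3963718887317)))) (.node (.node (.node (.leaf 11811353869) (.leaf 3194919559059)) (.node (.leaf 1901597223957) (.leaf 3755412924824))) (.node (.node (.leaf 2218887750421) (.leaf 3361886402050)) (.node (.leaf 2750927208975) (.leaf 2367601715486)))))) (.node (.node (.node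 (.node (.node (.node (.leaf 249108162566) (.leaf 4303558264598)) (.leaf 2935073975695)) (.node (.leaf 2018635110425) (.leaf 2777233806343))) (.node (.node (.leaf 1395864704133) (.leaf 3347390934424)) (.node (.leaf 2439005134747) (.leaf 3910568655492)))) (.node (.node (.node (.leaf 578210123145) (.leaf 3134253066261)) (.node (.leaf 697395583498) (.leaf 3701188949788))) (.node (.node (.leaf 1041529784711) (.leaf 3502546506142)) (.node (.leaf 2687039555225) (.leaf 4117800210573))))) (.node (.node (.node (.node (.node (.leaf 488015667351) (.leaf 4415764304025)) (.leaf 3042448183705)) (.node (.leaf 2028835660186) (.leaf 2916283381896))) (.node (.node (.leaf 1579474664965) (.leaf 3469260660496)) (.node (.leaf 2580739089304) (.leaf 4022774702746)))) (.node (.node (.node (.leaf 988379596801) (.leaf 3243237952772)) (.node (.leaf 1840930915200) (.leaf 651225323015))) (.node (.node (.leaf 358629821440) (.leaf 2675228336258)) (.node (.leaf 2796024376347) (.leaf 4212290179864))))))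
def dF_982 : BT := .node (.node (.node (.node (.node (.node (.node (.leaf 12884929816) (.leaf 4273493437826)) (.leaf 2873333806106)) (.node (.leaf 922881580171) (.leaf 2514704178462))) (.node (.node (.leaf 1248762039057) (.leaf 3296388185729)) (.node (.leaf 2382633675648) (.leaf 3870303327389)))) (.node (.node (.node (.leaf 467077783555) (.leaf 3094524674579)) (.node (.leaf 532039482893) (.leaf 3010236073356))) (.node (.node (.leaf 2080375280019) (.leaf 2752537894529)) (.node (.leaf 2640331725719) (.leaf 4064650643859))))) (.node (.node (.node (.node (.node (.leaf 393526472460) (.leaf 4386773267869)) (.leaf 3004867210899)) (.node (.leaf 486405127198) (.leaf 2410551005319))) (.node (.node (.leaf 1635846073620) (.leaf 3421479137936)) (.node (.leaf 2526515114254) (.leaf 3978750937611)))) (.node (.node (.node (.leaf 825170788615) (.leaf 3185792706307)) (.node (.leaf 827855497109) (.leaf 3746822678025))) (.node (.node (.leaf 92342336000) (.leaf 2681133924354)) (.node (.leaf 2738579105428) (.leaf 4174172336133)))))) (.node (.node (.node (.node (.node (.node (.leaf 273804230539)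 (.leaf 3680251137030)) (.leaf 2943663912346)) (.node (.leaf 88583706371) (.leaf 2705829990665))) (.node (.node (.leaf 226022997018) (.leaf 3354907128989)) (.node (.leaf 2450816297627) (.leaf 3923453560339)))) (.node (.node (.node (.leaf 624381023489) (.leaf 3149822391707)) (.node (.leaf 1319629031198) (.leaf 3718368823068))) (.node (.node (.leaf 1054951593748) (.leaf 2610804052229)) (.node (.leaf 2697776976133) (.leaf 4104915882759))))) (.node (.node (.node (.node (.node (.leaf 157303298433) (.leaf 2463701668873)) (.leaf 3049427507225)) (.node (.leaf 632434085146) (.leaf 2554969428616))) (.node (.node (.leaf 1778653778074) (.leaf 3479461210265)) (.node (.leaf 2598992704780) (.leaf 3717295138817)))) (.node (.node (.node (.leaf 993211437845) (.leaf 3238942984337)) (.node (.leaf 2345052702747) (.leaf 3812858126106))) (.node (.node (.leaf 834834357772) (.leaf 2534031341334)) (.node (.leaf 2805688055172) (.leaf 4207458328598))))))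
def dF_991 : BT := .node (.node (.node (.node (.node (.node (.node (.leaf 103079234703) (.leaf 2340758193548)) (.leaf 2859375159068)) (.node (.leaf 338765604620) (.leaf 3030100078347))) (.node (.node (.leaf 1136019136006) (.leaf 3285113893789)) (.node (.leaf 2374043738906) (.leaf 3855807809298)))) (.node (.node (.node (.node (.leaf 333933734166) (.leaf 4286378421642)) (.leaf 3092377170054)) (.node (.leaf 821412647040) (.leaf 3640522522267))) (.node (.node (.leaf 1350230829571) (.leaf 2379412450437)) (.node (.leaf 2426120278806) (.leaf 1842005067148))))) (.node (.node (.node (.node (.node (.leaf 18253702676) (.leaf 4377109589137)) (.leaf 2993592829954)) (.node (.leaf 537944790156) (.leaf 2587718413831))) (.node (.node (.leaf 1664837095168) (.leaf 2556043225095)) (.node (.leaf 2515240822429) (.leaf 3972845696029)))) (.node (.node (.node (.leaf 797790365573) (.leaf 3187940235546)) (.node (.leaf 1132260920727) (.leaf 3757023537947))) (.node (.node (.leaf 1221918302750) (.leaf 3612068357145)) (.node (.leaf 2749853466905) (.leaf 4160750560025)))))) (.node (.node (.node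 (.node (.node (.node (.leaf 255013744132) (.leaf 4286378394371)) (.leaf 2935073975698)) (.node (.leaf 346818691855) (.leaf 2427194055198))) (.node (.node (.leaf 383863033354) (.leaf 3347390934533)) (.node (.leaf 2429878330765) (.leaf 3908421171208)))) (.node (.node (.node (.leaf 629749730056) (.leaf 3138548034581)) (.node (.leaf 701153680023) (.leaf 3700652078725))) (.node (.node (.leaf 464393782149) (.leaf 3569118673936)) (.node (.leaf 2691871394586) (.leaf 3924527348884))))) (.node (.node (.node (.node (.node (.leaf 493384485779) (.leaf 4414690561945)) (.leaf 3045669407117)) (.node (.leaf 1839320183067) (.leaf 2432562891401))) (.node (.node (.leaf 1845762636041) (.leaf 3473018722583)) (.node (.leaf 2582886573468) (.leaf 3896610014466)))) (.node (.node (.node (.leaf 1027034299652) (.leaf 3235721680007)) (.node (.leaf 2338610250255) (.leaf 3259344213383))) (.node (.node (.leaf 1998233783323) (.leaf 2827163031198)) (.node (.leaf 1837709798281) (.leaf 4215511406106))))))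
def dF_998 : BT := .node (.node (.node (.node (.node (.node (.node (.leaf 108984821139) (.leaf 4275640962587)) (.leaf 2873333806213)) (.node (.leaf 342523663003) (.leaf 2405182266632))) (.node (.node (.leaf 1243393144463) (.leaf 2467459494535)) (.node (.leaf 2379411919373) (.leaf 3869229585305)))) (.node (.node (.node (.leaf 450434780931) (.leaf 3095061545629)) (.node (.leaf 1627792993295) (.leaf 3653407427333))) (.node (.node (.leaf 1806571114250) (.leaf 2896956194305)) (.node (.leaf 2641942387858) (.leaf 3874061469955))))) (.node (.node (.node (.node (.node (.leaf 133680888962) (.leaf 4385699478277)) (.leaf 2997351016344)) (.node (.leaf 627065420694) (.leaf 3314641757446))) (.node (.node (.leaf 1635309202185) (.leaf 3420942266908)) (.node (.leaf 2527588856338) (.leaf 3976066922255)))) (.node (.node (.node (.leaf 821412691713) (.leaf 3189550803587)) (.node (.leaf 2030446339842) (.leaf 3750581085455))) (.node (.node (.leaf 2258079077763) (.leaf 2767570328834)) (.node (.leaf 2689723923476) (.leaf 4001836769054)))))) (.node (.node (.node (.node (.node (.node (.leaf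 267361778058) (.leaf 4341139229458)) (.leaf 2948495751709)) (.node (.leaf 158913827865) (.leaf 2583423518982))) (.node (.node (.leaf 1430224450691) (.leaf 2530810275458)) (.node (.leaf 2455648136988) (.leaf 3925064173464)))) (.node (.node (.node (.leaf 638876535445) (.leaf 3001645895682)) (.node (.leaf 1581622012318) (.leaf 3710852628621))) (.node (.node (.leaf 1046361618567) (.leaf 3074659863436)) (.node (.leaf 2447595127959) (.leaf 3705484013574))))) (.node (.node (.node (.node (.node (.leaf 505195638924) (.leaf 4407174370189)) (.leaf 3047816894213)) (.node (.leaf 161598183067) (.leaf 3404299079691))) (.node (.node (.leaf 1791001808010) (.leaf 3315178707222)) (.node (.leaf 2557116771072) (.leaf 3937948454662)))) (.node (.node (.node (.leaf 1048509141138) (.leaf 3246459178899)) (.node (.leaf 2343442089625) (.leaf 3813394997135))) (.node (.node (.leaf 7516258718) (.leaf 2478733760004)) (.node (.leaf 2799782473629) (.leaf 4158603087902))))))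
def dF_1006 : BT := .node (.node (.node (.node (.node (.node (.node (.leaf 115427273733) (.leaf 4268124768027)) (.leaf 2862596385299)) (.node (.leaf 959925315614) (.leaf 2688113310214))) (.node (.node (.leaf 1231045294848) (.leaf 3285113893776)) (.node (.leaf 2376728094089) (.leaf 2465312149022)))) (.node (.node (.node (.node (.leaf 355408650135) (.leaf 4448513437457)) (.leaf 3003793379847)) (.node (.leaf 1127429184015) (.leaf 3156801831838))) (.node (.node (.leaf 2064806019981) (.leaf 2364917043597)) (.node (.leaf 2621004368276) (.leaf 4061966288667))))) (.node (.node (.node (.node (.node (.leaf 18790486406) (.leaf 4378720202259)) (.leaf 3000572242588)) (.node (.leaf 617401696024) (.leaf 2387465555844))) (.node (.node (.leaf 1504849568901) (.leaf 3407520479380)) (.node (.leaf 2522220146052) (.leaf 3969087284232)))) (.node (.node (.node (.leaf 814433368343) (.leaf 3187940235536)) (.node (.leaf 645319386497) (.leaf 3753802311699))) (.node (.node (.leaf 2215666525702) (.leaf 2637110640030)) (.node (.leaf 2742874143378) (.leaf 4161287431059)))))) (.node (.node (.node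 (.node (.node (.node (.leaf 259845546381) (.leaf 4311611327518)) (.leaf 2791729324806)) (.node (.leaf 120795957406) (.leaf 2918967844614))) (.node (.node (.leaf 1406602124828) (.leaf 3346854063376)) (.node (.leaf 2438468263694) (.leaf 3925601044495)))) (.node (.node (.node (.leaf 634044698624) (.leaf 2624225677959)) (.node (.leaf 1194538219783) (.leaf 3697967724567))) (.node (.node (.leaf 890132062859) (.leaf 3226595007390)) (.node (.leaf 2684355200018) (.leaf 3915937412100))))) (.node (.node (.node (.node (.node (.leaf 494995099011) (.leaf 4416838046105)) (.leaf 3042985008661)) (.node (.leaf 692026770587) (.leaf 2469606347917))) (.node (.node (.leaf 1865626725401) (.leaf 3462818208014)) (.node (.leaf 2580202218256) (.leaf 4020627218575)))) (.node (.node (.node (.leaf 1042603559815) (.leaf 3244311694748)) (.node (.leaf 2340757734666) (.leaf 3639985690261))) (.node (.node (.leaf 652835355806) (.leaf 2545842517377)) (.node (.leaf 1961726979456) (.leaf 4219806214921))))))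
def dF_1013 : BT := .node (.node (.node (.node (.node (.node (.node (.leaf 126701565572) (.leaf 4282083415168)) (.leaf 2873870677137)) (.node (.leaf 114890657182) (.leaf 2514704137475))) (.node (.node (.leaf 1253057007377) (.leaf 3295851314588)) (.node (.leaf 2396055451545) (.leaf 3871377022602)))) (.node (.node (.node (.leaf 462245891476) (.leaf 2436320884355)) (.node (.leaf 549756231820) (.leaf 2382633979276))) (.node (.node (.leaf 23622818948) (.leaf 3489661517569)) (.node (.leaf 2649458582532) (.leaf 4066261256975))))) (.node (.node (.node (.node (.node (.leaf 404800764166) (.leaf 4386772787980)) (.leaf 3000572242577)) (.node (.leaf 1443646241310) (.leaf 3313031223554))) (.node (.node (.leaf 1699733713032) (.leaf 2918967963925)) (.node (.leaf 2534031308933) (.leaf 3893388783125)))) (.node (.node (.node (.leaf 760209408640) (.leaf 2928094548231)) (.node (.leaf 700617091348) (.leaf 3759170854411))) (.node (.node (.leaf 2266669531013) (.leaf 2554432424727)) (.node (.leaf 2455648206613) (.leaf 4173098593946)))))) (.node (.node (.node (.node (.node (.node (.leaf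 284004780289) (.leaf 4346507939857)) (.leaf 2938832072985)) (.node (.leaf 762356876825) (.leaf 2457258888452))) (.node (.node (.leaf 1444183082891) (.leaf 3352222773778)) (.node (.leaf 2445984458264) (.leaf 3921842947216)))) (.node (.node (.node (.leaf 643708376979) (.leaf 3096135299990)) (.node (.leaf 1315334047764) (.leaf 3716758209947))) (.node (.node (.leaf 331249604993) (.leaf 3132105694855)) (.node (.leaf 2698313847067) (.leaf 4123706458268))))) (.node (.node (.node (.node (.node (.leaf 511101230097) (.leaf 4422206756231)) (.leaf 3049427473158)) (.node (.leaf 1319092145307) (.leaf 2711198752136))) (.node (.node (.leaf 1889786060932) (.leaf 3475703077783)) (.node (.leaf 2600066446748) (.leaf 3897683707030)))) (.node (.node (.node (.leaf 1054951593618) (.leaf 3246995867924)) (.node (.leaf 2346126444817) (.leaf 3812321255055))) (.node (.node (.leaf 26306676992) (.leaf 2808909426334)) (.node (.leaf 2814814862748) (.leaf 2958159731848))))))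
def dF_1027 : BT := .node (.node (.node (.node (.node (.node (.node (.leaf 97173656967) (.leaf 4264903541774)) (.leaf 2855617061774)) (.node (.leaf 410169608990) (.leaf 2325188688646))) (.node (.node (.leaf 1185948128129) (.leaf 2516851617045)) (.node (.leaf 2368138158592) (.leaf 3857418422427)))) (.node (.node (.node (.node (.leaf 410706367363) (.leaf 4444755340179)) (.leaf 3090766577299)) (.node (.leaf 1846299506574) (.leaf 3637838136839))) (.node (.node (.leaf 2029909402257) (.leaf 2365453878412)) (.node (.leaf 2623151901459) (.leaf 3891241337886))))) (.node (.node (.node (.node (.node (.leaf 386547148818) (.leaf 4376035733269)) (.leaf 2989834821779)) (.node (.leaf 159450698907) (.leaf 2459406336903))) (.node (.node (.leaf 1642825382419) (.leaf 3403225522576)) (.node (.leaf 2503429659537) (.leaf 3958887035031)))) (.node (.node (.node (.leaf 772557407247) (.leaf 3190087719813)) (.node (.leaf 824097272449) (.leaf 3750581085573))) (.node (.node (.leaf 258772002840) (.leaf 2477659944705)) (.node (.leaf 643708879618) (.leaf 4162361173148)))))) (.node (.node (.node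 (.node (.node (.node (.leaf 247497526917) (.leaf 4329864937629)) (.leaf 2931852749572)) (.node (.leaf 368830410398) (.leaf 2427730937216))) (.node (.node (.leaf 1379221701505) (.leaf 3334506029459)) (.node (.leaf 2431488940186) (.leaf 2932926723846)))) (.node (.node (.node (.leaf 623844141464) (.leaf 3132642518416)) (.node (.leaf 1316407833620) (.leaf 3699040781058))) (.node (.node (.leaf 354335319553) (.leaf 3582003569411)) (.node (.leaf 2683818329088) (.leaf 4115116521616))))) (.node (.node (.node (.node (.node (.leaf 468688309399) (.leaf 4412543077764)) (.leaf 2739116114562)) (.node (.leaf 711890933516) (.leaf 3482682307724))) (.node (.node (.leaf 1842004538257) (.leaf 3471945015708)) (.node (.leaf 2575907249935) (.leaf 4010963539849)))) (.node (.node (.node (.leaf 993748295943) (.leaf 2527052154132)) (.node (.leaf 1837172818185) (.leaf 3613142143895))) (.node (.node (.leaf 2011118655001) (.leaf 2929168290309)) (.node (.leaf 2789581910293) (.leaf 4217658890380))))))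
def dF_1034 : BT := .node (.node (.node (.node (.node (.node (.node (.leaf 117037886860) (.leaf 4267050743561)) (.leaf 2860985772178)) (.node (.leaf 2005213329822) (.leaf 2386928728579))) (.node (.node (.leaf 1232655907972) (.leaf 3283503280657)) (.node (.leaf 2376728094099) (.leaf 3373160860830)))) (.node (.node (.node (.node (.leaf 446139812629) (.leaf 4448513437466)) (.leaf 2674691556614)) (.node (.leaf 1120986731535) (.leaf 3186329731614))) (.node (.node (.leaf 2066416633092) (.leaf 2027225132422)) (.node (.leaf 2541010654722) (.leaf 4023311582985))))) (.node (.node (.node (.node (.node (.leaf 179314927366) (.leaf 4378720199575)) (.leaf 2998961629469)) (.node (.leaf 204010976798) (.leaf 2382633726597))) (.node (.node (.leaf 228170540440) (.leaf 3259880990082)) (.node (.leaf 2523830759180) (.leaf 3969087598735)))) (.node (.node (.node (.leaf 467614759297) (.leaf 3186329622417)) (.node (.leaf 2308008600979) (.leaf 3752191698578))) (.node (.node (.leaf 1072668337922) (.leaf 2779918334750)) (.node (.leaf 2741263530259) (.leaf 4161287293834)))))) (.node (.node (.node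 (.node (.node (.node (.leaf 1610674839) (.leaf 4336843804937)) (.leaf 2792266300291)) (.node (.leaf 48855510661) (.leaf 2918967819157))) (.node (.node (.leaf 1404991511709) (.leaf 3345243450257)) (.node (.leaf 2439005134737) (.leaf 3766687254549)))) (.node (.node (.node (.leaf 511101259788) (.leaf 2530810161155)) (.node (.leaf 1846836222214) (.leaf 3703335954445))) (.node (.node (.leaf 898722158337) (.leaf 2851859115397)) (.node (.leaf 2694555749777) (.leaf 4110284491400))))) (.node (.node (.node (.node (.node (.leaf 496605712132) (.leaf 4416838045334)) (.leaf 2848100913300)) (.node (.leaf 769336200346) (.leaf 2483028803979))) (.node (.node (.leaf 1777580034072) (.leaf 3324842385941)) (.node (.leaf 2585570928654) (.leaf 3923990454302)))) (.node (.node (.node (.leaf 1042603559828) (.leaf 3242701081629)) (.node (.leaf 2339147121920) (.leaf 3803731318427))) (.node (.node (.leaf 652298187034) (.leaf 2545842017676)) (.node (.leaf 2797634989457) (.leaf 4172024863115))))))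
def dF_1042 : BT := .node (.node (.node (.node (.node (.node (.node (.leaf 67645759628) (.leaf 4266514154905)) (.leaf 2869575708827)) (.node (.leaf 315680584350) (.leaf 2463164385026))) (.node (.node (.leaf 1200980497175) (.leaf 3283503280668)) (.node (.leaf 2374043640599) (.leaf 2938295420446)))) (.node (.node (.node (.node (.leaf 425201789063) (.leaf 4446902824335)) (.leaf 3091840266263)) (.node (.leaf 1696512486414) (.leaf 2515777961610))) (.node (.node (.leaf 231928720132) (.leaf 2317672467852)) (.node (.leaf 2630131175959) (.leaf 4060355675547))))) (.node (.node (.node (.node (.node (.leaf 382788964245) (.leaf 4366372171017)) (.leaf 2993592919172)) (.node (.leaf 426275801733) (.leaf 2739115993344))) (.node (.node (.leaf 1666447315609) (.leaf 3410204846105)) (.node (.leaf 2513630209308) (.leaf 3971235082908)))) (.node (.node (.node (.leaf 799400978701) (.leaf 3186329622427)) (.node (.leaf 1132260920724) (.leaf 3755412924826))) (.node (.node (.leaf 448287503006) (.leaf 3609920872985)) (.node (.leaf 2748242853784) (.leaf 4159139946904)))))) (.node (.node (.node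 (.node (.node (.node (.leaf 255550615057) (.leaf 4021701034759)) (.leaf 2933463362579)) (.node (.leaf 437549903244) (.leaf 2426657284108))) (.node (.node (.leaf 1365263060618) (.leaf 3349001547649)) (.node (.leaf 2445447587219) (.leaf 3908421171219)))) (.node (.node (.node (.leaf 630286600977) (.leaf 3137474345623)) (.node (.leaf 1130113436566) (.leaf 3700115207698))) (.node (.node (.leaf 445602946457) (.leaf 3567508060817)) (.node (.leaf 2690260781467) (.leaf 4119411481356))))) (.node (.node (.node (.node (.node (.leaf 491773872658) (.leaf 4414690196360)) (.leaf 3045669409937)) (.node (.leaf 1838783312026) (.leaf 3382287382152))) (.node (.node (.leaf 1847910119697) (.leaf 3473018757775)) (.node (.leaf 2581275960349) (.leaf 4003984151045)))) (.node (.node (.node (.leaf 1028644912781) (.leaf 3236795183629)) (.node (.leaf 1843615269397) (.leaf 3616900240778))) (.node (.node (.leaf 584116028046) (.leaf 2491081695508)) (.node (.leaf 2336462875530) (.leaf 4213900792987))))))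
def dF_1049 : BT := .node (.node (.node (.node (.node (.node (.node (.leaf 120259112976) (.leaf 4274030349466)) (.leaf 2874944419341)) (.node (.leaf 250719141272) (.leaf 3590593428234))) (.node (.node (.leaf 1243929935513) (.leaf 3281892472838)) (.node (.leaf 2379412449299) (.leaf 3869229555076)))) (.node (.node (.node (.leaf 466540825222) (.leaf 3098282771867)) (.node (.leaf 1626182380174) (.leaf 3655018040449))) (.node (.node (.leaf 2078227795973) (.leaf 3398393626122)) (.node (.leaf 2640331774739) (.leaf 3874061469959))))) (.node (.node (.node (.node (.node (.leaf 379567737991) (.leaf 4385699525778)) (.leaf 2995740403225)) (.node (.leaf 524523296542) (.leaf 2559264318750))) (.node (.node (.leaf 1695438744337) (.leaf 3419331653789)) (.node (.leaf 2525978243219) (.leaf 3975529988109)))) (.node (.node (.node (.leaf 823560175377) (.leaf 2626910132738)) (.node (.leaf 2310692557195) (.leaf 3748970472334))) (.node (.node (.leaf 98247915393) (.leaf 2529199566238)) (.node (.leaf 2689187052439) (.leaf 4155918661760)))))) (.node (.node (.node (.node (.node (.node (.leaf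 261993069066) (.leaf 4341139229464)) (.leaf 2946885138588)) (.node (.leaf 169651229825) (.leaf 2406256261406))) (.node (.node (.leaf 1431835063812) (.leaf 2859912144387)) (.node (.leaf 2454037523869) (.leaf 3923453560345)))) (.node (.node (.node (.leaf 638339666325) (.leaf 2479270505863)) (.node (.leaf 129386018078) (.leaf 3712463241733))) (.node (.node (.leaf 899258990852) (.leaf 2688113336071)) (.node (.leaf 2683281401366) (.leaf 3075197563017))))) (.node (.node (.node (.node (.node (.leaf 505732401408) (.leaf 4418985530269)) (.leaf 3049427507340)) (.node (.leaf 166430022426) (.leaf 2695629569544))) (.node (.node (.leaf 1869384961412) (.leaf 3462281301783)) (.node (.leaf 2557116771093) (.leaf 3764539150722)))) (.node (.node (.node (.leaf 1049046011158) (.leaf 3244848565778)) (.node (.leaf 2343442089736) (.leaf 3813394997137))) (.node (.node (.leaf 76235793541) (.leaf 2478733558284)) (.node (.leaf 2800319344279) (.leaf 4210679516419))))))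
def dF_1058 : BT := .node (.node (.node (.node (.node (.node (.node (.leaf 98784271752) (.leaf 4265977283857)) (.leaf 2870648933133)) (.node (.leaf 49929073548) (.leaf 2401424233118))) (.node (.node (.leaf 1194538064256) (.leaf 3282966409735)) (.node (.leaf 2373506867867) (.leaf 3855807809304)))) (.node (.node (.node (.node (.leaf 427886196995) (.leaf 4405563763848)) (.leaf 3084324124817)) (.node (.leaf 1837172698894) (.leaf 3639448780175))) (.node (.node (.leaf 2032056886418) (.leaf 1130113970974)) (.node (.leaf 2633889322255) (.leaf 4056060671885))))) (.node (.node (.node (.node (.node (.leaf 379567825297) (.leaf 4377646457478)) (.leaf 2989297911574)) (.node (.leaf 143344718494) (.leaf 2833068482692))) (.node (.node (.leaf 1646583480452) (.leaf 3399467413780)) (.node (.leaf 2500745294357) (.leaf 3962645146255)))) (.node (.node (.node (.leaf 784905460613) (.leaf 3192772074909)) (.node (.leaf 1772211320194) (.leaf 3757023537949))) (.node (.node (.leaf 954556924291) (.leaf 2546916189575)) (.node (.leaf 2739652917148) (.leaf 4160750560027)))))) (.node (.node (.node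 (.node (.node (.node (.leaf 30601698318) (.leaf 4331475539604)) (.leaf 2935610846747)) (.node (.leaf 818728292126) (.leaf 2859911953409))) (.node (.node (.leaf 1381369186689) (.leaf 3333969146887)) (.node (.leaf 2432025811217) (.leaf 3907884300185)))) (.node (.node (.node (.leaf 627065374749) (.leaf 2868502032020)) (.node (.leaf 695248028036) (.leaf 3699578152073))) (.node (.node (.leaf 330175809934) (.leaf 3568581802907)) (.node (.leaf 2695092620828) (.leaf 4113505908495))))) (.node (.node (.node (.node (.node (.leaf 484257678213) (.leaf 4413616754184)) (.leaf 2390149977351)) (.node (.leaf 1762547624346) (.leaf 3511136338309))) (.node (.node (.leaf 1844152022418) (.leaf 3466039434267)) (.node (.leaf 2582349702529) (.leaf 4005594510859)))) (.node (.node (.node (.leaf 1012001910540) (.leaf 2408403682310)) (.node (.leaf 2338610250379) (.leaf 2519536096393))) (.node (.node (.leaf 789737284382) (.leaf 2492692363678)) (.node (.leaf 2786360587271) (.leaf 4217122019229))))))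
def dF_1065 : BT := .node (.node (.node (.node (.node (.node (.node (.leaf 110595434269) (.leaf 4131222686604)) (.leaf 2866354482574)) (.node (.leaf 503048046490) (.leaf 2563559173909))) (.node (.node (.leaf 1229971552657) (.leaf 2616709608710)) (.node (.leaf 2378338707216) (.leaf 2386392126214)))) (.node (.node (.node (.leaf 468151438339) (.leaf 2632278673542)) (.node (.leaf 1437203774095) (.leaf 3614215847940))) (.node (.node (.leaf 2066953504016) (.leaf 2563022352523)) (.node (.leaf 2637647419549) (.leaf 4029754034197))))) (.node (.node (.node (.node (.node (.leaf 358092930951) (.leaf 3719979595014)) (.leaf 2997351016346)) (.node (.leaf 627602486302) (.leaf 2458869607710))) (.node (.node (.leaf 1693291260179) (.leaf 3414499814533)) (.node (.leaf 2527051985307) (.leaf 3978214406429)))) (.node (.node (.node (.leaf 820338949149) (.leaf 2426657283846)) (.node (.leaf 1268626515589) (.leaf 3750581085457))) (.node (.node (.leaf 2252710883988) (.leaf 2443836974464)) (.node (.leaf 2745558498575) (.leaf 4158603075857)))))) (.node (.node (.node (.node (.node (.node (.leaf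 264140551429) (.leaf 4341676100499)) (.leaf 2939905815169)) (.node (.leaf 49929029268) (.leaf 2513093593353))) (.node (.node (.leaf 1420023901325) (.leaf 3346316999430)) (.node (.leaf 2448668813569) (.leaf 3910568655389)))) (.node (.node (.node (.leaf 625454764180) (.leaf 2532957698438)) (.node (.leaf 538481612446) (.leaf 3238406224394))) (.node (.node (.leaf 1055488425219) (.leaf 2756832752003)) (.node (.leaf 2689187039375) (.leaf 4108674067991))))) (.node (.node (.node (.node (.node (.leaf 496068841220) (.leaf 4417911788054)) (.leaf 2698850800130)) (.node (.leaf 819802078107) (.leaf 3128884406401))) (.node (.node (.leaf 1858647306779) (.leaf 3468186883220)) (.node (.leaf 2407329785621) (.leaf 3556233860231)))) (.node (.node (.node (.leaf 1045824785939) (.leaf 3246996049945)) (.node (.leaf 2342368347539) (.leaf 3804805060497))) (.node (.node (.leaf 836445389826) (.leaf 2716030523806)) (.node (.leaf 2799245602584) (.leaf 4211216437779))))))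
def dF_1073 : BT := .node (.node (.node (.node (.node (.node (.node (.leaf 106300465939) (.leaf 4057671371392)) (.leaf 2864206998425)) (.node (.leaf 420906895374) (.leaf 2338073547010))) (.node (.node (.leaf 1216549776773) (.leaf 3288871809559)) (.node (.leaf 2375654352029) (.leaf 3866008359181)))) (.node (.node (.node (.node (.leaf 423591175942) (.leaf 4447439695387)) (.leaf 2625299441795)) (.node (.leaf 765578103055) (.leaf 2398203232011))) (.node (.node (.leaf 1789391239680) (.leaf 2563022412446)) (.node (.leaf 2626373078676) (.leaf 4060892285325))))) (.node (.node (.node (.node (.node (.leaf 377420253831) (.leaf 4185446674692)) (.leaf 2364380214023)) (.node (.leaf 1558536625310) (.leaf 2898566794391))) (.node (.node (.leaf 1677722000525) (.leaf 3409667975057)) (.node (.leaf 2514167080339) (.leaf 3715684526986)))) (.node (.node (.node (.leaf 11811354139) (.leaf 3193308945938)) (.node (.leaf 1895691642005) (.leaf 3753802311705))) (.node (.node (.leaf 2218351137283) (.leaf 2674154832135)) (.node (.leaf 2750927112725) (.leaf 1894081570718)))))) (.node (.node (.node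 (.node (.node (.node (.leaf 248571291668) (.leaf 4336844261149)) (.leaf 2933463362574)) (.node (.leaf 1045825017868) (.leaf 2538863132928))) (.node (.node (.leaf 1397475317249) (.leaf 3349538225670)) (.node (.leaf 2444910716184) (.leaf 3912179268608)))) (.node (.node (.node (.leaf 632970956189) (.leaf 3133179377303)) (.node (.leaf 1129039679620) (.leaf 3701725820800))) (.node (.node (.leaf 904627701022) (.leaf 2518462280222)) (.node (.leaf 2685428942104) (.leaf 3796215200266))))) (.node (.node (.node (.node (.node (.leaf 489626280471) (.leaf 4415764304006)) (.leaf 3045132492822)) (.node (.leaf 2030983144347) (.leaf 2853469678085))) (.node (.node (.leaf 1854352572301) (.leaf 3467650047377)) (.node (.leaf 2409477269782) (.leaf 4021700960668)))) (.node (.node (.node (.leaf 13958891663) (.leaf 3244848565900)) (.node (.leaf 2340220863379) (.leaf 2516314871301))) (.node (.node (.leaf 358629781255) (.leaf 2435783991557)) (.node (.leaf 1838246669444) (.leaf 4210679566745))))))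
def dF_1080 : BT := .node (.node (.node (.node (.node (.node (.node (.leaf 115427249561) (.leaf 4273493478414)) (.leaf 2871723192987)) (.node (.leaf 922881245594) (.leaf 2743947887616))) (.node (.node (.leaf 1248762039176) (.leaf 3297998798853)) (.node (.leaf 2384244288772) (.leaf 3870840198415)))) (.node (.node (.node (.leaf 11811250183) (.leaf 3097209029776)) (.node (.leaf 533112942735) (.leaf 3656091782429))) (.node (.node (.leaf 231391860758) (.leaf 2382096847105)) (.node (.leaf 2433099602326) (.leaf 4064650643865))))) (.node (.node (.node (.node (.node (.leaf 395137085573) (.leaf 4387310138904)) (.leaf 3003256597778)) (.node (.leaf 33286178697) (.leaf 2501819154564))) (.node (.node (.leaf 1698122808069) (.leaf 3419868524817)) (.node (.leaf 2524904501135) (.leaf 3978750928264)))) (.node (.node (.node (.leaf 766114988293) (.leaf 3184718882819)) (.node (.leaf 2310155685141) (.leaf 3747359859094))) (.node (.node (.leaf 2257542724105) (.leaf 2649458710146)) (.node (.leaf 2448132012053) (.leaf 4175782800397)))))) (.node (.node (.node (.node (.node (.node (.leaf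 273804230660) (.leaf 4056060775427)) (.leaf 2942053299227)) (.node (.leaf 88583706389) (.leaf 2582886635422))) (.node (.node (.leaf 383863045272) (.leaf 3353296515868)) (.node (.leaf 2449205684506) (.leaf 3921842947218)))) (.node (.node (.node (.leaf 641024021789) (.leaf 3150359250455)) (.node (.leaf 1314260295052) (.leaf 3716758209949))) (.node (.node (.leaf 1054951593751) (.leaf 2610804049549)) (.node (.leaf 2699387589261) (.leaf 4003984240514))))) (.node (.node (.node (.node (.node (.leaf 505732520458) (.leaf 4419522401298)) (.leaf 3047816894104)) (.node (.leaf 642097763866) (.leaf 2763275166729))) (.node (.node (.leaf 1871532423707) (.leaf 3478924304023)) (.node (.leaf 2600603317893) (.leaf 3717295139988)))) (.node (.node (.node (.leaf 994822050823) (.leaf 3246996049934)) (.node (.leaf 2345052702614) (.leaf 3812321255065))) (.node (.node (.leaf 233002508446) (.leaf 3190087632000)) (.node (.leaf 2807298668288) (.leaf 4207458316289))))))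
def dF_1090 : BT := .node (.node (.node (.node (.node (.node (.node (.leaf 98247400339) (.leaf 4262756057619)) (.leaf 2862059514381)) (.node (.leaf 329101871369) (.leaf 2386928693534))) (.node (.node (.leaf 1192390579971) (.leaf 3276523775636)) (.node (.leaf 2372969596418) (.leaf 3856881551379)))) (.node (.node (.node (.node (.leaf 46171017109) (.leaf 4445292211219)) (.leaf 3082176640659)) (.node (.leaf 1844152022414) (.leaf 3638911909137))) (.node (.node (.leaf 2031520015379) (.leaf 2561411736717)) (.node (.leaf 2628520611857) (.leaf 4057134449296))))) (.node (.node (.node (.node (.node (.leaf 388157761937) (.leaf 4378183331215)) (.leaf 2827699806868)) (.node (.leaf 17716744346) (.leaf 2746095356423))) (.node (.node (.leaf 1643362253963) (.leaf 3353833398421)) (.node (.leaf 2507187756814) (.leaf 3964792630419)))) (.node (.node (.node (.leaf 776315523973) (.leaf 2634963198338)) (.node (.leaf 1771137291147) (.leaf 3759171022213))) (.node (.node (.leaf 1893007266843) (.leaf 2533494506371)) (.node (.leaf 2748242853788) (.leaf 4169340496667)))))) (.node (.node (.node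 (.node (.node (.node (.leaf 244813177883) (.leaf 4328791195545)) (.leaf 2936684588829)) (.node (.leaf 44023952030) (.leaf 2369212087180))) (.node (.node (.leaf 1317481547520) (.leaf 3334506029455)) (.node (.leaf 2434710166418) (.leaf 1961727244166)))) (.node (.node (.node (.leaf 625454761629) (.leaf 3134790002574)) (.node (.leaf 633507872897) (.leaf 3699577891971))) (.node (.node (.leaf 197031708950) (.leaf 3571803029149)) (.node (.leaf 2692408265728) (.leaf 4106526584976))))) (.node (.node (.node (.node (.node (.leaf 432718066073) (.leaf 4412543077908)) (.leaf 2833605291651)) (.node (.leaf 616864867742) (.leaf 2535641891593))) (.node (.node (.leaf 1843615151379) (.leaf 3463355079068)) (.node (.leaf 2573759723540) (.leaf 4005057408652)))) (.node (.node (.node (.leaf 1003411973900) (.leaf 3228205468800)) (.node (.leaf 1842004656520) (.leaf 3801046963217))) (.node (.node (.leaf 118112086430) (.leaf 1700807629830)) (.node (.leaf 2786897485826) (.leaf 4221416987537))))))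
def dF_1097 : BT := .node (.node (.node (.node (.node (.node (.node (.leaf 119185370909) (.leaf 4272419678861)) (.leaf 2863670127377)) (.node (.leaf 49392398744) (.leaf 1962263755285))) (.node (.node (.leaf 1232655907868) (.leaf 3287798039431)) (.node (.leaf 2377264965137) (.leaf 3860102757269)))) (.node (.node (.node (.node (.leaf 358629876355) (.leaf 4449050308504)) (.leaf 2658585464582)) (.node (.leaf 1180042545935) (.leaf 3642669824908))) (.node (.node (.leaf 2075006505477) (.leaf 2687039475977)) (.node (.leaf 2643016129937) (.leaf 4027069679511))))) (.node (.node (.node (.node (.node (.leaf 383862793602) (.leaf 3796215264264)) (.leaf 3005940952986)) (.node (.leaf 578210361630) (.leaf 2501282160778))) (.node (.node (.leaf 1692217506699) (.leaf 2789582070663)) (.node (.leaf 2527588856348) (.leaf 3979825019534)))) (.node (.node (.node (.leaf 819265207059) (.leaf 3187940235534)) (.node (.leaf 699006477825) (.leaf 3759171022097))) (.node (.node (.leaf 2201707821082) (.leaf 3132642523806)) (.node (.leaf 2743411014417) (.leaf 3915937424135)))))) (.node (.node (.node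 (.node (.node (.node (.leaf 261993024783) (.leaf 4337381132300)) (.leaf 2929168360454)) (.node (.leaf 88583703938) (.leaf 2340220975884))) (.node (.node (.leaf 1413044577420) (.leaf 3346317192335)) (.node (.leaf 2440615747854) (.leaf 3919158592029)))) (.node (.node (.node (.leaf 627065376899) (.leaf 2770254641286)) (.node (.leaf 1824824426371) (.leaf 3703873304979))) (.node (.node (.leaf 882615989525) (.leaf 2450279630750)) (.node (.leaf 2685965813137) (.leaf 3482145715081))))) (.node (.node (.node (.node (.node (.leaf 501437551378) (.leaf 4417911788177)) (.leaf 2847027171220)) (.node (.leaf 759135650586) (.leaf 3048353652877))) (.node (.node (.leaf 1863478966680) (.leaf 3271155294086)) (.node (.leaf 2406256043542) (.leaf 3560528774814)))) (.node (.node (.node (.leaf 1019518110870) (.leaf 3244848565787)) (.node (.leaf 2341831115650) (.leaf 3804268189465))) (.node (.node (.leaf 23622370206) (.leaf 2821794104341)) (.node (.leaf 2359548325379) (.leaf 2336463213982))))))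
def dF_1105 : BT := .node (.node (.node (.node (.node (.node (.node (.leaf 105226700551) (.leaf 4271882739205)) (.leaf 2860985772187)) (.node (.leaf 594853092123) (.leaf 3563749882526))) (.node (.node (.leaf 1207959840133) (.leaf 3282429538586)) (.node (.leaf 2373506868363) (.leaf 3854197196055)))) (.node (.node (.node (.node (.leaf 422517433863) (.leaf 4447439636105)) (.leaf 3083250329623)) (.node (.leaf 692026760839) (.leaf 2631742078732))) (.node (.node (.leaf 2047089275652) (.leaf 1130113971085)) (.node (.leaf 2622077716610) (.leaf 2658585724552))))) (.node (.node (.node (.node (.node (.leaf 354334892699) (.leaf 3872987804551)) (.leaf 3002182855812)) (.node (.leaf 1147830287518) (.leaf 2607045836422))) (.node (.node (.leaf 1670742676620) (.leaf 3406446748826)) (.node (.leaf 2516851435544) (.leaf 3882651382174)))) (.node (.node (.node (.leaf 807990915341) (.leaf 3188477106585)) (.node (.leaf 1898912883082) (.leaf 3746822988186))) (.node (.node (.leaf 1227287227927) (.leaf 3609384001934)) (.node (.leaf 2739652917144) (.leaf 4169877367682)))))) (.node (.node (.node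 (.node (.node (.node (.leaf 49929055502) (.leaf 4335770519169)) (.leaf 2935073975697)) (.node (.leaf 1894081029147) (.leaf 2976949903006))) (.node (.node (.leaf 1317481549973) (.leaf 3346854063389)) (.node (.leaf 2438468263708) (.leaf 3909494665737)))) (.node (.node (.node (.leaf 624381021322) (.leaf 3135326861463)) (.node (.leaf 645855976340) (.leaf 3613142120322))) (.node (.node (.leaf 892816539422) (.leaf 3585224805252)) (.node (.leaf 2694018878744) (.leaf 2543158491913))))) (.node (.node (.node (.node (.node (.leaf 481036451858) (.leaf 4415227034249)) (.leaf 3045132538906)) (.node (.leaf 1901060352666) (.leaf 2809446188171))) (.node (.node (.leaf 229781191432) (.leaf 3465502563219)) (.node (.leaf 2580202218267) (.leaf 4020627218695)))) (.node (.node (.node (.leaf 1037234633869) (.leaf 3236795500189)) (.node (.leaf 651224974100) (.leaf 3802120701460))) (.node (.node (.leaf 410169583518) (.leaf 2493229291525)) (.node (.leaf 2350421519360) (.leaf 4219269503385))))))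
def dF_1112 : BT := .node (.node (.node (.node (.node (.node (.node (.leaf 111669176336) (.leaf 3746286243457)) (.leaf 2874407548188)) (.node (.leaf 5905609114) (.leaf 2506114120862))) (.node (.node (.leaf 1247151132424) (.leaf 2513630394373)) (.node (.leaf 2377801836695) (.leaf 3397320053900)))) (.node (.node (.node (.leaf 340376261251) (.leaf 3094524674584)) (.node (.leaf 526670490255) (.leaf 2989298109700))) (.node (.node (.leaf 2086817729293) (.leaf 3197067071371)) (.node (.leaf 2637110548497) (.leaf 4065187148805))))) (.node (.node (.node (.node (.node (.leaf 379030866946) (.leaf 4387847009939)) (.leaf 3008088391063)) (.node (.leaf 2195802301830) (.leaf 2383170656780))) (.node (.node (.leaf 1636382944406) (.leaf 3422015889559)) (.node (.leaf 2525441372176) (.leaf 3975529806090)))) (.node (.node (.node (.leaf 824097046429) (.leaf 3186866337030)) (.node (.leaf 826244884502) (.leaf 3744675504002))) (.node (.node (.leaf 91805464832) (.leaf 2737505587870)) (.node (.leaf 2739116033046) (.leaf 4157529333775)))))) (.node (.node (.node (.node (.node (.node (.leaf 270583004424)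 (.leaf 4337381125015)) (.leaf 2938295201948)) (.node (.leaf 24696065411) (.leaf 3583077193118))) (.node (.node (.leaf 1436130032028) (.leaf 3354370258052)) (.node (.leaf 2457795621146) (.leaf 3914863623705)))) (.node (.node (.node (.leaf 639413405204) (.leaf 3150896133775)) (.node (.leaf 17180122398) (.leaf 3721053173765))) (.node (.node (.leaf 884226603528) (.leaf 3030100273549)) (.node (.leaf 2690797595925) (.leaf 4104915923459))))) (.node (.node (.node (.node (.node (.leaf 506806261779) (.leaf 4411469337740)) (.leaf 3048890636188)) (.node (.leaf 698469223067) (.leaf 2571612281220))) (.node (.node (.leaf 1877974898053) (.leaf 3477313726221)) (.node (.leaf 2592013381253) (.leaf 3964255743262)))) (.node (.node (.node (.leaf 1049582882838) (.leaf 3245922307856)) (.node (.leaf 2344515831709) (.leaf 2498598132638))) (.node (.node (.leaf 297426957189) (.leaf 2659659131905)) (.node (.leaf 2799782473736) (.leaf 4207995144707))))))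
def dF_1121 : BT := .node (.node (.node (.node (.node (.node (.node (.leaf 101468626579) (.leaf 4265976995336)) (.leaf 2866354482589)) (.node (.leaf 367756915230) (.leaf 2954401354526))) (.node (.node (.leaf 1197759058060) (.leaf 3236258641812)) (.node (.leaf 1837709697925) (.leaf 3856344680193)))) (.node (.node (.node (.node (.leaf 426812454933) (.leaf 4446365948429)) (.leaf 3086471608975)) (.node (.leaf 2025614203648) (.leaf 3639985651225))) (.node (.node (.leaf 230854977285) (.leaf 3365107564702)) (.node (.leaf 2625299385615) (.leaf 4060355647748))))) (.node (.node (.node (.node (.node (.leaf 20937970567) (.leaf 4377109589145)) (.leaf 2964601889792)) (.node (.leaf 370441472030) (.leaf 2592013332096))) (.node (.node (.leaf 1657857771652) (.leaf 3406446748933)) (.node (.leaf 2519535790735) (.leaf 3972308825093)))) (.node (.node (.node (.leaf 118111789450) (.leaf 3194919559067)) (.node (.leaf 1131724150166) (.leaf 3748433601309))) (.node (.node (.leaf 1860794807687) (.leaf 3609384001947)) (.node (.leaf 2743947885466) (.leaf 4167729883544)))))) (.node (.node (.node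 (.node (.node (.node (.leaf 248034420611) (.leaf 4328254324496)) (.leaf 2934537104665)) (.node (.leaf 1824287807390) (.leaf 3141769392388))) (.node (.node (.leaf 383863032960) (.leaf 3340411611009)) (.node (.leaf 2439005134855) (.leaf 3908958042264)))) (.node (.node (.node (.leaf 623844149638) (.leaf 3139621829783)) (.node (.leaf 641024065546) (.leaf 3425237300745))) (.node (.node (.leaf 2134062321923) (.leaf 3570729287059)) (.node (.leaf 2686502684188) (.leaf 4104915971855))))) (.node (.node (.node (.node (.node (.leaf 492847614852) (.leaf 4414153690905)) (.leaf 2579128541191)) (.node (.leaf 1894617900186) (.leaf 2659659099913))) (.node (.node (.leaf 1831803991947) (.leaf 3468723789464)) (.node (.leaf 2410551011861) (.leaf 4007205426455)))) (.node (.node (.node (.leaf 1020054976140) (.leaf 2962454281603)) (.node (.leaf 2331630928532) (.leaf 3801583658634))) (.node (.node (.leaf 2001992078619) (.leaf 2640868579846)) (.node (.leaf 2352569002773) (.leaf 4208532082589))))))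
def dF_1128 : BT := .node (.node (.node (.node (.node (.node (.node (.leaf 115964144658) (.leaf 3142843338506)) (.leaf 2869575695494)) (.node (.leaf 156229472655) (.leaf 2954401308437))) (.node (.node (.leaf 1241245844612) (.leaf 3284576841239)) (.node (.leaf 2378875578255) (.leaf 3868692710807)))) (.node (.node (.node (.leaf 377957233428) (.leaf 3099356513939)) (.node (.leaf 1399085930254) (.leaf 3647501683212))) (.node (.node (.leaf 2058363567376) (.leaf 2370822516230)) (.node (.leaf 2640868645785) (.leaf 2626910341259))))) (.node (.node (.node (.node (.node (.leaf 114353584258) (.leaf 4385699525788)) (.leaf 3004330339865)) (.node (.leaf 640487389726) (.leaf 3055869853574))) (.node (.node (.leaf 1694365002259) (.leaf 3422552880015)) (.node (.leaf 2526515114264) (.leaf 3976603793305)))) (.node (.node (.node (.leaf 378494188938) (.leaf 3193308776342)) (.node (.leaf 694174639881) (.leaf 3757560408974))) (.node (.node (.leaf 2255395239190) (.leaf 2649995632004)) (.node (.leaf 2693482020759) (.leaf 4158066102151)))))) (.node (.node (.node (.node (.node (.node (.leaf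 102005536649) (.leaf 4079146224385)) (.leaf 2948495751809)) (.node (.leaf 627602292126) (.leaf 2474975616521))) (.node (.node (.leaf 1427540095388) (.leaf 2971581294851)) (.node (.leaf 2457258750209) (.leaf 3917011107867)))) (.node (.node (.node (.leaf 637802792470) (.leaf 2809446230919)) (.node (.leaf 1316944704926) (.leaf 3704947045396))) (.node (.node (.leaf 958314806668) (.leaf 2587718552862)) (.node (.leaf 2691871338006) (.leaf 4107599964682))))) (.node (.node (.node (.node (.node (.leaf 503048164484) (.leaf 4418448659219)) (.leaf 2851322057475)) (.node (.leaf 634044698266) (.leaf 2517388330124))) (.node (.node (.leaf 1793686159244) (.leaf 3294240742407)) (.node (.leaf 2378338757268) (.leaf 3763465940359)))) (.node (.node (.node (.leaf 1047435399178) (.leaf 3238406113305)) (.node (.leaf 2342905218577) (.leaf 3807489415812))) (.node (.node (.leaf 209379794971) (.leaf 3206193695390)) (.node (.leaf 2799781844621) (.leaf 4210679404808))))))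
def dF_1136 : BT := .node (.node (.node (.node (.node (.node (.node (.leaf 108447950221) (.leaf 3890704516867)) (.leaf 2869575708818)) (.node (.leaf 38654760478) (.leaf 2450816392965))) (.node (.node (.leaf 1224065971333) (.leaf 3285650764819)) (.node (.leaf 2376191223055) (.leaf 2681671127690)))) (.node (.node (.node (.node (.leaf 337691906054) (.leaf 4447976566410)) (.leaf 3005940920199)) (.node (.leaf 696321613324) (.leaf 3633006331143))) (.node (.node (.leaf 2057826696452) (.leaf 2385318080261)) (.node (.leaf 2634963015316) (.leaf 3840238601991))))) (.node (.node (.node (.node (.node (.leaf 386547061506) (.leaf 4384625783707)) (.leaf 3007551566109)) (.node (.leaf 474594274462) (.leaf 2389076170118))) (.node (.node (.leaf 1686311542937) (.leaf 3408057361934)) (.node (.leaf 2517388306575) (.leaf 3969087598744)))) (.node (.node (.node (.leaf 816043953284) (.leaf 3194919559057)) (.node (.leaf 1049045800711) (.leaf 3745212375065))) (.node (.node (.leaf 2217814008834) (.leaf 2728915520004)) (.node (.leaf 2749853466899) (.leaf 4120485243659)))))) (.node (.node (.node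 (.node (.node (.node (.leaf 257698054165) (.leaf 4335770519065)) (.leaf 2498061053187)) (.node (.leaf 129922943112) (.leaf 2976412998274))) (.node (.node (.leaf 1406065253889) (.leaf 3343632837138)) (.node (.leaf 2443836974098) (.leaf 3920769205248)))) (.node (.node (.node (.leaf 634044698378) (.leaf 3133179336327)) (.node (.leaf 1966558619534) (.leaf 3702799562904))) (.node (.node (.leaf 890668954632) (.leaf 2699924385539)) (.node (.leaf 2691334523539) (.leaf 2330020738444))))) (.node (.node (.node (.node (.node (.leaf 482646956951) (.leaf 4416838045827)) (.leaf 3044058796816)) (.node (.leaf 695247996827) (.leaf 3180960772237))) (.node (.node (.leaf 1862942508940) (.leaf 3469797531535)) (.node (.leaf 2580202218258) (.leaf 4021164089614)))) (.node (.node (.node (.leaf 1041529817738) (.leaf 3197067055639)) (.node (.leaf 2334315283476) (.leaf 3803194408330))) (.node (.node (.leaf 137975836547) (.leaf 2437931484550)) (.node (.leaf 1707250167045) (.leaf 4219806374419))))))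
def dF_1143 : BT := .node (.node (.node (.node (.node (.node (.node (.leaf 25232962056) (.leaf 4272956607375)) (.leaf 2874944419219)) (.node (.leaf 344671293982) (.leaf 2606508896899))) (.node (.node (.leaf 1191853723018) (.leaf 3301756896025)) (.node (.leaf 2392834225412) (.leaf 3612605289863)))) (.node (.node (.node (.leaf 140123415829) (.leaf 3096672105751)) (.node (.leaf 1712081468557) (.leaf 2500745579784))) (.node (.node (.leaf 2089502020249) (.leaf 2858301304448)) (.node (.leaf 2542084397190) (.leaf 3196530379404))))) (.node (.node (.node (.node (.node (.leaf 403727022212) (.leaf 4387310133909)) (.leaf 2994666661138)) (.node (.leaf 1216012627230) (.leaf 2938295282189))) (.node (.node (.leaf 1699196841629) (.leaf 3420942147476)) (.node (.leaf 2317672328205) (.leaf 3892851912086)))) (.node (.node (.node (.leaf 825170773013) (.leaf 2539936912646)) (.node (.leaf 2311229459080) (.leaf 2345053038494))) (.node (.node (.leaf 2262374562818) (.leaf 2554969295508)) (.node (.leaf 2451890109334) (.leaf 4175782949149)))))) (.node (.node (.node (.node (.node (.node (.leaf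 217432785541) (.leaf 4221417016460)) (.leaf 2945811396504)) (.node (.leaf 417685575435) (.leaf 2457795699339))) (.node (.node (.leaf 490700357144) (.leaf 3352222773784)) (.node (.leaf 2452963781785) (.leaf 3913253010578)))) (.node (.node (.node (.leaf 627602249353) (.leaf 3149285508375)) (.node (.leaf 1317481562910) (.leaf 3708168273309))) (.node (.node (.leaf 884763511556) (.leaf 2450816417542)) (.node (.leaf 2699924460188) (.leaf 4124243329295))))) (.node (.node (.node (.node (.node (.leaf 510027488029) (.leaf 4417911788933)) (.leaf 3047280023059)) (.node (.leaf 1501628298906) (.leaf 3238406171531))) (.node (.node (.leaf 1882806737411) (.leaf 3477850561940)) (.node (.leaf 2396055501335) (.leaf 3959960772621)))) (.node (.node (.node (.leaf 1052804109834) (.leaf 3238406113294)) (.node (.leaf 2345589573787) (.leaf 2898566961161))) (.node (.node (.leaf 375809731614) (.leaf 2627983811330)) (.node (.leaf 2815888604928) (.leaf 4221953858584))))))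
def dF_1154 : BT := .node (.node (.node (.node (.node (.node (.node (.leaf 96636787464) (.leaf 4083441172994)) (.leaf 2615098892807)) (.node (.leaf 410169528075) (.leaf 2375654554375))) (.node (.node (.leaf 1190779966339) (.leaf 3277060690050)) (.node (.leaf 2372969996819) (.leaf 2507724949507)))) (.node (.node (.node (.node (.leaf 409632625282) (.leaf 4445292037386)) (.leaf 3086471608979)) (.node (.leaf 1847910119694) (.leaf 2471754546188))) (.node (.node (.leaf 2030446273309) (.leaf 2561411765379)) (.node (.leaf 2632815580177) (.leaf 4057671041800))))) (.node (.node (.node (.node (.node (.leaf 382252180498) (.leaf 3696357272460)) (.leaf 2989297950736)) (.node (.leaf 47781556891) (.leaf 2397666079367))) (.node (.node (.leaf 1564979100416) (.leaf 3402151780494)) (.node (.leaf 2511482725134) (.leaf 3960497662099)))) (.node (.node (.node (.leaf 708132917504) (.leaf 3194382688133)) (.node (.leaf 1692754389653) (.leaf 3754876053893))) (.node (.node (.leaf 1377074214299) (.leaf 3149822231445)) (.node (.leaf 2752000951067) (.leaf 4158066204828)))))) (.node (.node (.node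 (.node (.node (.node (.leaf 246423807376) (.leaf 4329328066586)) (.leaf 2936147717892)) (.node (.leaf 471909757854) (.leaf 2427730818316))) (.node (.node (.leaf 1380832314625) (.leaf 3334506029457)) (.node (.leaf 2433099553305) (.leaf 3906810558229)))) (.node (.node (.node (.leaf 624917890577) (.leaf 3139084970894)) (.node (.leaf 1274531919371) (.leaf 3699041465492))) (.node (.node (.leaf 196494785415) (.leaf 3572876562444)) (.node (.leaf 2688113297408) (.leaf 4110821553296))))) (.node (.node (.node (.node (.node (.leaf 449361064859) (.leaf 4412543077786)) (.leaf 2685428870278)) (.node (.leaf 710817234974) (.leaf 2812667388936))) (.node (.node (.leaf 1842541409309) (.leaf 3467650047388)) (.node (.leaf 2399276720022) (.leaf 4019016603285)))) (.node (.node (.node (.leaf 999117005700) (.leaf 3228742322946)) (.node (.leaf 2337536508185) (.leaf 3801046326023))) (.node (.node (.leaf 115964595870) (.leaf 1963337622791)) (.node (.leaf 2791729394453) (.leaf 4176319830917))))))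
def dF_1161 : BT := .node (.node (.node (.node (.node (.node (.node (.leaf 121332832141) (.leaf 4267051025944)) (.leaf 2867965095697)) (.node (.leaf 253403149440) (.leaf 2836289612419))) (.node (.node (.leaf 1236414005137) (.leaf 3285650764815)) (.node (.leaf 2377264964993) (.leaf 3860102724737)))) (.node (.node (.node (.node (.leaf 134754705410) (.leaf 4449050308486)) (.leaf 2674154685574)) (.node (.leaf 1132261023374) (.leaf 3642669620482))) (.node (.node (.leaf 2070711601413) (.leaf 2687039474816)) (.node (.leaf 2640331774853) (.leaf 3625490237314))))) (.node (.node (.node (.node (.node (.leaf 180925540486) (.leaf 4385162607489)) (.leaf 2994666661149)) (.node (.leaf 523449264025) (.leaf 2382633718935))) (.node (.node (.leaf 1690606890756) (.leaf 3406983416198)) (.node (.leaf 2528125723789) (.leaf 3976603793415)))) (.node (.node (.node (.leaf 814433368715) (.leaf 3192235203854)) (.node (.leaf 2308008202373) (.leaf 3747896730258))) (.node (.node (.leaf 1142998699412) (.leaf 2681670912798)) (.node (.leaf 2747705982737) (.leaf 3779035341577)))))) (.node (.node (.node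 (.node (.node (.node (.leaf 102542406534) (.leaf 4333086163857)) (.leaf 2788508215454)) (.node (.leaf 155692601627) (.leaf 3347390934404))) (.node (.node (.leaf 1348620067080) (.leaf 3340948481937)) (.node (.leaf 2443300103057) (.leaf 3923453560349)))) (.node (.node (.node (.leaf 634044698518) (.leaf 2530273198343)) (.node (.leaf 764504615682) (.leaf 3703336433947))) (.node (.node (.leaf 881005256971) (.leaf 3378529290142)) (.node (.leaf 2690260781457) (.leaf 4110284660502))))) (.node (.node (.node (.node (.node (.leaf 500900680452) (.leaf 4417374916225)) (.leaf 2849174655383)) (.node (.leaf 768799329306) (.leaf 3482145414924))) (.node (.node (.leaf 1860794845595) (.leaf 2455111507971)) (.node (.leaf 2581275960334) (.leaf 4019553476498)))) (.node (.node (.node (.leaf 1044214172545) (.leaf 3238406113309)) (.node (.leaf 2335925896471) (.leaf 3590593566468))) (.node (.node (.leaf 256087435294) (.leaf 3000035371524)) (.node (.leaf 2797634989469) (.leaf 4218732621214))))))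
def dF_1169 : BT := .node (.node (.node (.node (.node (.node (.node (.leaf 104689852802) (.leaf 4267587897091)) (.leaf 2865280740507)) (.node (.leaf 26306765081) (.leaf 2578054963853))) (.node (.node (.leaf 1203664871813) (.leaf 3286724506906)) (.node (.leaf 2374043739136) (.leaf 3854196846343)))) (.node (.node (.node (.node (.leaf 111669229079) (.leaf 4446365953431)) (.leaf 3087545297943)) (.node (.leaf 2030446194823) (.leaf 2442226646919))) (.node (.node (.leaf 2042794307332) (.leaf 2829847265431)) (.node (.leaf 2625836207639) (.leaf 4061429081089))))) (.node (.node (.node (.node (.node (.leaf 15032476436) (.leaf 4381941428609)) (.leaf 2997887887492)) (.node (.leaf 1313186572446) (.leaf 2688650125573))) (.node (.node (.leaf 1666447708550) (.leaf 3406983619869)) (.node (.leaf 2515240822427) (.leaf 3972845696027)))) (.node (.node (.node (.leaf 802085334285) (.leaf 3192772074905)) (.node (.leaf 1846299519892) (.leaf 3751117956506))) (.node (.node (.leaf 445603148958) (.leaf 3610994615057)) (.node (.leaf 2743947885464) (.leaf 4006668610816)))))) (.node (.node (.node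 (.node (.node (.node (.leaf 251255646737) (.leaf 4285841523464)) (.leaf 2929168394259)) (.node (.leaf 1824287804446) (.leaf 2812130586380))) (.node (.node (.leaf 1391032863893) (.leaf 3350075289625)) (.node (.leaf 2442763232028) (.leaf 3708705192194)))) (.node (.node (.node (.leaf 630823472029) (.leaf 3085397879061)) (.node (.leaf 764504445952) (.leaf 1268089976710))) (.node (.node (.leaf 379567956638) (.leaf 3568581802895)) (.node (.leaf 2685965813147) (.leaf 4118874592020))))) (.node (.node (.node (.node (.node (.leaf 485331420178) (.leaf 4414690562055)) (.leaf 3045132538908)) (.node (.leaf 1960116167067) (.leaf 2432562891403))) (.node (.node (.leaf 1772748192140) (.leaf 3469797531539)) (.node (.leaf 2584497186587) (.leaf 3631932674185)))) (.node (.node (.node (.leaf 1030792397452) (.leaf 3236795500179)) (.node (.leaf 1838246560523) (.leaf 3802120705308))) (.node (.node (.leaf 1994475472795) (.leaf 2436320792470)) (.node (.leaf 2795487505305) (.leaf 4209605824667))))))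
def dF_1176 : BT := .node (.node (.node (.node (.node (.node (.node (.leaf 115964144656) (.leaf 4273493478425)) (.leaf 2877091903379)) (.node (.leaf 503048046488) (.leaf 2697240187904))) (.node (.node (.leaf 1246077390724) (.leaf 3281355689216)) (.node (.leaf 2379949319829) (.leaf 3703336473621)))) (.node (.node (.node (.leaf 432181112582) (.leaf 3098819642904)) (.node (.leaf 525059877134) (.leaf 3656091782419))) (.node (.node (.leaf 2082522764300) (.leaf 2592550222092)) (.node (.leaf 2641405516817) (.leaf 3898757531926))))) (.node (.node (.node (.node (.node (.leaf 337154960391) (.leaf 4386773267969)) (.leaf 3008088437135)) (.node (.leaf 46170909467) (.leaf 2560337997322))) (.node (.node (.leaf 1635846073238) (.leaf 3418794782746)) (.node (.leaf 2521683274899) (.leaf 3976066906646)))) (.node (.node (.node (.leaf 824097030279) (.leaf 3187940065941)) (.node (.leaf 1276679579653) (.leaf 3744675504014))) (.node (.node (.leaf 2259153335828) (.leaf 3010236016414)) (.node (.leaf 2687039568279) (.leaf 4155918720659)))))) (.node (.node (.node (.node (.node (.node (.leaf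 102542408456) (.leaf 4337381028609)) (.leaf 2942590170268)) (.node (.leaf 515933196566) (.leaf 3285113753118))) (.node (.node (.leaf 1436130032132) (.leaf 2802466959492)) (.node (.leaf 2449742555549) (.leaf 3919158592025)))) (.node (.node (.node (.leaf 377420403721) (.leaf 3147674907648)) (.node (.leaf 29527911966) (.leaf 3716758210053))) (.node (.node (.leaf 883689735562) (.leaf 2964065140359)) (.node (.leaf 2686502627605) (.leaf 4105452812036))))) (.node (.node (.node (.node (.node (.leaf 506269390739) (.leaf 2688113710216)) (.leaf 2858301463063)) (.node (.leaf 827318272667) (.leaf 3231426605445))) (.node (.node (.leaf 1873679929733) (.leaf 3461744442246)) (.node (.leaf 2588792147337) (.leaf 3938485325318)))) (.node (.node (.node (.leaf 1047972270593) (.leaf 3240553597458)) (.node (.leaf 1967632451466) (.leaf 3656091819926))) (.node (.node (.leaf 2149094684702) (.leaf 2660196086814)) (.node (.leaf 2800319344655) (.leaf 4207995091469))))))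
def dF_1185 : BT := .node (.node (.node (.node (.node (.node (.node (.leaf 99858013700) (.leaf 2825552626955)) (.leaf 2870649450909)) (.node (.leaf 1993939110814) (.leaf 2398739538822))) (.node (.node (.leaf 1118839265931) (.leaf 3287261378060)) (.node (.leaf 2374043624837) (.leaf 2840048043911)))) (.node (.node (.node (.node (.leaf 357556134278) (.leaf 4445292211350)) (.leaf 3090766577295)) (.node (.leaf 2027224729740) (.leaf 3639448780296))) (.node (.node (.leaf 2033130628499) (.leaf 2887292331906)) (.node (.leaf 2629594353935) (.leaf 4043175805320))))) (.node (.node (.node (.node (.node (.leaf 389231416707) (.leaf 4377646457492)) (.leaf 2496987311110)) (.node (.leaf 2196339424646) (.leaf 3486440378752))) (.node (.node (.leaf 1653562803332) (.leaf 3398930461698)) (.node (.leaf 2516314564608) (.leaf 3968550674694)))) (.node (.node (.node (.leaf 789200428933) (.leaf 3188477106589)) (.node (.leaf 1130650408457) (.leaf 3752728569629))) (.node (.node (.leaf 1858647324565) (.leaf 3149285485187)) (.node (.leaf 2748242853786) (.leaf 4156455591707)))))) (.node (.node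 (.node (.node (.node (.node (.leaf 177704329370) (.leaf 4328791184267)) (.leaf 2931315878427)) (.node (.leaf 399969263134) (.leaf 2483565466369))) (.node (.node (.leaf 226022984456) (.leaf 3046206349186)) (.node (.leaf 2433636424334) (.leaf 3908958042255)))) (.node (.node (.node (.leaf 627602245898) (.leaf 3089692847381)) (.node (.leaf 1707786568714) (.leaf 3700114878850))) (.node (.node (.leaf 453656366873) (.leaf 3569655544985)) (.node (.leaf 2690797652508) (.leaf 4109210940175))))) (.node (.node (.node (.node (.node (.leaf 488552646533) (.leaf 4410932465414)) (.leaf 3028489425542)) (.node (.leaf 1825361536027) (.leaf 2658585334281))) (.node (.node (.leaf 1845762632459) (.leaf 3473018757784)) (.node (.leaf 2586644670849) (.leaf 4006131703444)))) (.node (.node (.node (.leaf 1016296878861) (.leaf 2963528205699)) (.node (.leaf 827318633091) (.leaf 3615826498711))) (.node (.node (.leaf 2010045236376) (.leaf 2926483932055)) (.node (.leaf 639413922563) (.leaf 4212827050909))))))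
def dF_1192 : BT := .node (.node (.node (.node (.node (.node (.node (.leaf 120259112978) (.leaf 4276714665357)) (.leaf 2862059514254)) (.node (.leaf 844498165406) (.leaf 2401424176662))) (.node (.node (.leaf 1039382380676) (.leaf 3232500544535)) (.node (.leaf 2377801836185) (.leaf 3853660328724)))) (.node (.node (.node (.leaf 467614567303) (.leaf 3097209029901)) (.node (.leaf 1403380898574) (.leaf 2924873596951))) (.node (.node (.leaf 2062658535696) (.leaf 3293166848901)) (.node (.leaf 2639258032666) (.leaf 3707094616192))))) (.node (.node (.node (.node (.node (.leaf 133144070658) (.leaf 4386236396817)) (.leaf 3008625308185)) (.node (.leaf 539555682828) (.leaf 3026342057092))) (.node (.node (.leaf 1693828131219) (.leaf 3418794782853)) (.node (.leaf 2522757016987) (.leaf 3975529992836)))) (.node (.node (.node (.leaf 820875820298) (.leaf 3192771891843)) (.node (.leaf 2309082343065) (.leaf 3746286117137))) (.node (.node (.leaf 25770341403) (.leaf 2416993511838)) (.node (.leaf 2741263530255) (.leaf 2722473386120)))))) (.node (.node (.node (.node (.node (.node (.leaf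 107374245506) (.leaf 4341676100505)) (.leaf 2944200783489)) (.node (.leaf 22548682518) (.leaf 3374234486281))) (.node (.node (.leaf 1425929482381) (.leaf 2809446279939)) (.node (.leaf 2452963781889) (.leaf 3921306076187)))) (.node (.node (.node (.leaf 637265921430) (.leaf 2478733634823)) (.node (.leaf 1248225211294) (.leaf 2513093622411))) (.node (.node (.leaf 1054951590923) (.leaf 2579128551821)) (.node (.leaf 2684892071055) (.leaf 4108136891400))))) (.node (.node (.node (.node (.node (.leaf 498753196162) (.leaf 4415227433732)) (.leaf 2699924431110)) (.node (.leaf 1699196841626) (.leaf 2525441525760))) (.node (.node (.leaf 1857036648473) (.leaf 2742874315779)) (.node (.leaf 2379949369996) (.leaf 3558918205581)))) (.node (.node (.node (.leaf 1046361656989) (.leaf 3242701081625)) (.node (.leaf 2342368342403) (.leaf 3804805060509))) (.node (.node (.leaf 536922782) (.leaf 3359202121118)) (.node (.leaf 2798708213767) (.leaf 4210679129101))))))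
def dF_1200 : BT := .node (.node (.node (.node (.node (.node (.node (.leaf 106837336977) (.leaf 4271882865305)) (.leaf 2859912030105)) (.node (.leaf 848256247454) (.leaf 2386391791106))) (.node (.node (.leaf 1219771003013) (.leaf 2409477437062)) (.node (.leaf 2375117480976) (.leaf 2616172876417)))) (.node (.node (.node (.node (.leaf 422517486595) (.leaf 4447976566416)) (.leaf 3087545297940)) (.node (.leaf 768262458254) (.leaf 3644280619653))) (.node (.node (.leaf 1789391239940) (.leaf 2886755696260)) (.node (.leaf 2630668046996) (.leaf 4060892546587))))) (.node (.node (.node (.node (.node (.leaf 376346511746) (.leaf 3898757608332)) (.leaf 2980708021012)) (.node (.leaf 191126055966) (.leaf 2507724614663))) (.node (.node (.leaf 1683627581581) (.leaf 3409131104016)) (.node (.leaf 2515777693456) (.leaf 3772592843655)))) (.node (.node (.node (.leaf 815507082116) (.leaf 3189013977618)) (.node (.leaf 1128503124483) (.leaf 3749507343385))) (.node (.node (.leaf 1141924957207) (.leaf 1275606104077)) (.node (.leaf 2750390337934) (.leaf 4009889833868)))))) (.node (.node (.node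 (.node (.node (.node (.leaf 67108925206) (.leaf 4336307390106)) (.leaf 2929168394254)) (.node (.leaf 435402315287) (.leaf 2538326388611))) (.node (.node (.leaf 1401770285569) (.leaf 3347927805458)) (.node (.leaf 2440615747864) (.leaf 3916474236928)))) (.node (.node (.node (.leaf 466004102794) (.leaf 2859375224343)) (.node (.leaf 1268089546247) (.leaf 632434817036))) (.node (.node (.leaf 889595213194) (.leaf 3044595695774)) (.node (.leaf 2695092620816) (.leaf 2368675445022))))) (.node (.node (.node (.node (.node (.leaf 38117951894) (.leaf 4416301175055)) (.leaf 3044595667857)) (.node (.leaf 2030446273307) (.leaf 2405719390597))) (.node (.node (.leaf 1858647540621) (.leaf 3463355079057)) (.node (.leaf 2584497186578) (.leaf 4020090347547)))) (.node (.node (.node (.leaf 14495762954) (.leaf 3249143320333)) (.node (.leaf 2340220456067) (.leaf 2887292671500))) (.node (.node (.leaf 51002844033) (.leaf 2914136004999)) (.node (.leaf 2355790228613) (.leaf 4220880045854))))))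
def dF_1207 : BT := .node (.node (.node (.node (.node (.node (.node (.leaf 108447930767) (.leaf 4272956607508)) (.leaf 2873333806104)) (.node (.leaf 208843208606) (.leaf 3214246906270))) (.node (.node (.leaf 1249835781256) (.leaf 3301756896015)) (.node (.leaf 2388539257092) (.leaf 3870840198427)))) (.node (.node (.node (.leaf 465467170454) (.leaf 3097209029774)) (.node (.leaf 549755944975) (.leaf 3648038704390))) (.node (.node (.leaf 2088428274327) (.leaf 3365644415115)) (.node (.leaf 2640331725716) (.leaf 3906810595971))))) (.node (.node (.node (.node (.node (.leaf 399432053893) (.leaf 4387309757450)) (.leaf 2998961629458)) (.node (.leaf 33823049864) (.leaf 3106872674306))) (.node (.node (.leaf 1691680648727) (.leaf 3419868524815)) (.node (.leaf 2520609532815) (.leaf 3978751221270)))) (.node (.node (.node (.leaf 759135666453) (.leaf 2806224951554)) (.node (.leaf 1281511417986) (.leaf 2373507195532))) (.node (.node (.leaf 26307214092) (.leaf 2793877022238)) (.node (.leaf 2449742625174) (.leaf 4131759534357)))))) (.node (.node (.node (.node (.node (.node (.leaf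 217432785290) (.leaf 3910031887382)) (.leaf 2937758330907)) (.node (.leaf 44560710814) (.leaf 2904472232963))) (.node (.node (.leaf 1440424978455) (.leaf 3352759644827)) (.node (.leaf 2457258750105) (.leaf 3917547978898)))) (.node (.node (.node (.leaf 642097763859) (.leaf 3149822391696)) (.node (.leaf 1321776515486) (.leaf 3712463241629))) (.node (.node (.leaf 1076963324062) (.leaf 2710125193222)) (.node (.leaf 2701535073299) (.leaf 4120485232132))))) (.node (.node (.node (.node (.node (.leaf 509490616977) (.leaf 4420596143375)) (.leaf 3050501249295)) (.node (.leaf 1571958405147) (.leaf 2776160064650))) (.node (.node (.leaf 1808181679894) (.leaf 3477850597139)) (.node (.leaf 2604898232453) (.leaf 3716758214656)))) (.node (.node (.node (.leaf 993211438337) (.leaf 3242701081614)) (.node (.leaf 2345589573775) (.leaf 3805341888775))) (.node (.node (.leaf 279173361818) (.leaf 3190087548951)) (.node (.leaf 2811593636608) (.leaf 4109747837952))))))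
def dF_1217 : BT := .node (.node (.node (.node (.node (.node (.node (.leaf 98784271492) (.leaf 4264903541787)) (.leaf 2866354482700)) (.node (.leaf 49928997378) (.leaf 1122597883149))) (.node (.node (.leaf 1193464320521) (.leaf 2397129403014)) (.node (.leaf 2373506867855) (.leaf 3854734067228)))) (.node (.node (.node (.node (.leaf 387084041091) (.leaf 4445292211206)) (.leaf 3088619093137)) (.node (.leaf 1899986610574) (.leaf 3638911645704))) (.node (.node (.leaf 2022930080905) (.leaf 2384244338443)) (.node (.leaf 2624225643537) (.leaf 4057134449431))))) (.node (.node (.node (.node (.node (.leaf 383862793617) (.leaf 2836826942858)) (.leaf 2989297911573)) (.node (.leaf 510027488027) (.leaf 2453500744581))) (.node (.node (.leaf 1647656920975) (.leaf 3402688640023)) (.node (.leaf 2502892788494) (.leaf 3963718888337)))) (.node (.node (.node (.leaf 780610492293) (.leaf 3197067043229)) (.node (.leaf 635118593412) (.leaf 3760244764185))) (.node (.node (.leaf 956704013208) (.leaf 2785287004933)) (.node (.leaf 2743947885468) (.leaf 4165045528347)))))) (.node (.node (.node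 (.node (.node (.node (.leaf 33822925196) (.leaf 4331475539590)) (.leaf 2932389620509)) (.node (.leaf 46707829278) (.leaf 2438468495245))) (.node (.node (.leaf 1379758573577) (.leaf 3311420580482)) (.node (.leaf 2436320779537) (.leaf 3787625215876)))) (.node (.node (.node (.leaf 521838675847) (.leaf 2870112645143)) (.node (.leaf 638339712000) (.leaf 3699041465749))) (.node (.node (.leaf 330712535052) (.leaf 3567508060829)) (.node (.leaf 2695629491857) (.leaf 4117800876815))))) (.node (.node (.node (.node (.node (.leaf 479962709893) (.leaf 4413616819855)) (.leaf 2836826621460)) (.node (.leaf 617401718551) (.leaf 3582003508382))) (.node (.node (.leaf 1829119636873) (.leaf 3470334402587)) (.node (.leaf 2578054691860) (.leaf 4010963538437)))) (.node (.node (.node (.leaf 1007706942221) (.leaf 3233037378050)) (.node (.leaf 2337536508308) (.leaf 3801046963229))) (.node (.node (.leaf 790811357470) (.leaf 3415573348510)) (.node (.leaf 2729989251991) (.leaf 4221416987549))))))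
def dF_1224 : BT := .node (.node (.node (.node (.node (.node (.node (.leaf 114890402589) (.leaf 4272419736345)) (.leaf 2859375159057)) (.node (.leaf 1806033859358) (.leaf 2518462070532))) (.node (.node (.leaf 1232119036828) (.leaf 3286724325399)) (.node (.leaf 2377264964886) (.leaf 3860102661770)))) (.node (.node (.node (.leaf 467614654614) (.leaf 2478733709315)) (.node (.leaf 1175747577615) (.leaf 3642670006425))) (.node (.node (.leaf 2073395956496) (.leaf 2563022037762)) (.node (.leaf 2641942387869) (.leaf 3859029084170))))) (.node (.node (.node (.node (.node (.leaf 333933786883) (.leaf 4385162654745)) (.leaf 3001645984666)) (.node (.leaf 1634771939102) (.leaf 2944200811284))) (.node (.node (.leaf 1692754377483) (.leaf 3144990615685)) (.node (.leaf 2523293888028) (.leaf 3901978736897)))) (.node (.node (.node (.leaf 819802078109) (.leaf 3195993167111)) (.node (.leaf 645319386646) (.leaf 3754876053777))) (.node (.node (.leaf 2174327730701) (.leaf 2779918334849)) (.node (.leaf 2739116046097) (.leaf 2357401166604)))))) (.node (.node (.node (.node (.node (.node (.leaf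 102005536020) (.leaf 4341675957645)) (.leaf 2493229213716)) (.node (.leaf 691489899547) (.leaf 2393371266057))) (.node (.node (.leaf 1417339545741) (.leaf 2868502081027)) (.node (.leaf 2444910716174) (.leaf 3914863623709)))) (.node (.node (.node (.leaf 636192182428) (.leaf 2532957589122)) (.node (.leaf 1282048112648) (.leaf 3702262692358))) (.node (.node (.leaf 1049046010761) (.leaf 2578054898560)) (.node (.leaf 2693482007695) (.leaf 4108674071172))))) (.node (.node (.node (.node (.node (.leaf 497142583058) (.leaf 4417374445577)) (.leaf 3044058750742)) (.node (.leaf 765041232026) (.leaf 2616172554508))) (.node (.node (.leaf 206158875290) (.leaf 3321621159702)) (.node (.leaf 2404108559381) (.leaf 3561602520973)))) (.node (.node (.node (.leaf 1040992947595) (.leaf 3240553597467)) (.node (.leaf 2342368228361) (.leaf 2933463570307))) (.node (.node (.leaf 649614034180) (.leaf 2422362236546)) (.node (.leaf 156230102668) (.leaf 4219269452675))))))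
def dF_1232 : BT := .node (.node (.node (.node (.node (.node (.node (.leaf 105763594899) (.leaf 4271882865295)) (.leaf 2868501966745)) (.node (.leaf 418222660894) (.leaf 2848637733636))) (.node (.node (.leaf 1212254808453) (.leaf 3285650764824)) (.node (.leaf 2375654352017) (.leaf 3861713390860)))) (.node (.node (.node (.node (.leaf 332323121026) (.leaf 4447439695375)) (.leaf 3083250329620)) (.node (.leaf 759135650574) (.leaf 3641059117440))) (.node (.node (.leaf 2051384243972) (.leaf 2594697678083)) (.node (.leaf 2622615030411) (.leaf 4060892546565))))) (.node (.node (.node (.node (.node (.leaf 338765635737) (.leaf 4384625783697)) (.leaf 3006477824132)) (.node (.leaf 1317481532185) (.leaf 3158412178078))) (.node (.node (.leaf 1675037644941) (.leaf 3410204738314)) (.node (.leaf 2518462048659) (.leaf 3697967789342)))) (.node (.node (.node (.leaf 811212112923) (.leaf 3196530172174)) (.node (.leaf 1845225777812) (.leaf 3758097280025))) (.node (.node (.leaf 1354525603733) (.leaf 3098819729283)) (.node (.leaf 2750926584584) (.leaf 4169340496655)))))) (.node (.node (.node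 (.node (.node (.node (.leaf 45634087182) (.leaf 4336844261139)) (.leaf 2930779007377)) (.node (.leaf 435402388620) (.leaf 3446712076804))) (.node (.node (.leaf 1393180348929) (.leaf 3346317192346)) (.node (.leaf 2441689489946) (.leaf 2426120583563)))) (.node (.node (.node (.leaf 632434085137) (.leaf 3083250394901)) (.node (.leaf 1122060358656) (.leaf 3613142120341))) (.node (.node (.leaf 1043140433288) (.leaf 3586835418264)) (.node (.leaf 2689723910424) (.leaf 4116727134727))))) (.node (.node (.node (.node (.node (.leaf 491773859867) (.leaf 4409858723980)) (.leaf 3045132538904)) (.node (.leaf 1903207836827) (.leaf 2759517157385))) (.node (.node (.leaf 1282585050370) (.leaf 3471945015697)) (.node (.leaf 2583423444505) (.leaf 4022774702738)))) (.node (.node (.node (.leaf 987842725761) (.leaf 3240553597581)) (.node (.leaf 2333778412425) (.leaf 3802120701448))) (.node (.node (.leaf 51002843934) (.leaf 2823404861197)) (.node (.leaf 2356327099413) (.leaf 4214974535065))))))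
def dF_1239 : BT := .node (.node (.node (.node (.node (.node (.node (.leaf 119722215833) (.leaf 4276177833614)) (.leaf 2876018161307)) (.node (.leaf 922881103232) (.leaf 2607045934214))) (.node (.node (.leaf 1247688297094) (.leaf 3293703830533)) (.node (.leaf 2378338707716) (.leaf 3870303327375)))) (.node (.node (.node (.leaf 466004041474) (.leaf 3097209029778)) (.node (.leaf 529892003853) (.leaf 2631205210142))) (.node (.node (.leaf 2083059635218) (.leaf 3210488778496)) (.node (.leaf 2638184290575) (.leaf 3355981040002))))) (.node (.node (.node (.node (.node (.leaf 390842117253) (.leaf 4377646462614)) (.leaf 3007014695057)) (.node (.leaf 1508607648286) (.leaf 2587181498124))) (.node (.node (.leaf 1635309202455) (.leaf 3419868524819)) (.node (.leaf 2521146403856) (.leaf 3739306850829)))) (.node (.node (.node (.leaf 759672537108) (.leaf 3185792624903)) (.node (.leaf 2310692871686) (.leaf 3746285780748))) (.node (.node (.leaf 2260763948937) (.leaf 2650532325762)) (.node (.leaf 2738042237443) (.leaf 1313187245452)))))) (.node (.node (.node (.node (.node (.node (.leaf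 272730447639) (.leaf 4306779490181)) (.leaf 2946348267547)) (.node (.leaf 1050119509514) (.leaf 2615099040516))) (.node (.node (.leaf 1431835063708) (.leaf 3099356575110)) (.node (.leaf 2453500652826) (.leaf 3910568655385)))) (.node (.node (.node (.leaf 640487150737) (.leaf 3150896133787)) (.node (.leaf 1267015724318) (.leaf 3721053178269))) (.node (.node (.leaf 900869605015) (.leaf 2401961244550)) (.node (.leaf 2695092564245) (.leaf 4000226143884))))) (.node (.node (.node (.node (.node (.leaf 507879920385) (.leaf 4419522401304)) (.leaf 3048353765147)) (.node (.leaf 697395480987) (.leaf 2960843924226))) (.node (.node (.leaf 1877974756379) (.leaf 3479461210259)) (.node (.leaf 2596308349573) (.leaf 3964792575895)))) (.node (.node (.node (.leaf 1051193496455) (.leaf 3241627339536)) (.node (.leaf 2345052702735) (.leaf 3813394997145))) (.node (.node (.leaf 1777580101918) (.leaf 2534031310979)) (.node (.leaf 2803003699968) (.leaf 4207994934408))))))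
def dF_1248 : BT := .node (.node (.node (.node (.node (.node (.node (.leaf 102542345615) (.leaf 3462818399624)) (.leaf 2862059514269)) (.node (.leaf 338765548032) (.leaf 2742874222213))) (.node (.node (.leaf 1199369621261) (.leaf 3287798248988)) (.node (.leaf 2024003904406) (.leaf 3855807809290)))) (.node (.node (.node (.node (.leaf 472446493974) (.leaf 4446365953305)) (.leaf 3082176640655)) (.node (.leaf 636192513671) (.leaf 2729452584585))) (.node (.node (.leaf 2036888721293) (.leaf 2886755460621)) (.node (.leaf 2621004417295) (.leaf 4060355675536))))) (.node (.node (.node (.node (.node (.leaf 127238489223) (.leaf 4377109412361)) (.leaf 2799245648918)) (.node (.leaf 33286004506) (.leaf 2592013441293))) (.node (.node (.leaf 1662152739972) (.leaf 698469869581)) (.node (.leaf 2517925177628) (.leaf 3974993180187)))) (.node (.node (.node (.leaf 795106010380) (.leaf 3190624590747)) (.node (.leaf 1119376116885) (.leaf 3759707893146))) (.node (.node (.leaf 448287437849) (.leaf 3609384001948)) (.node (.leaf 2739652917146) (.leaf 4163434915224)))))) (.node (.node (.node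 (.node (.node (.node (.leaf 252329388928) (.leaf 4332549216909)) (.leaf 2930242136345)) (.node (.leaf 293131952158) (.leaf 2483028598924))) (.node (.node (.leaf 383863033224) (.leaf 3344706579329)) (.node (.leaf 2443300103180) (.leaf 3908958006789)))) (.node (.node (.node (.leaf 623844149896) (.leaf 3087545363221)) (.node (.leaf 1127966191237) (.leaf 3700652078749))) (.node (.node (.leaf 184683850388) (.leaf 3571803029137)) (.node (.leaf 2694555749787) (.leaf 4118874319752))))) (.node (.node (.node (.node (.node (.leaf 436476169114) (.leaf 4414690561935)) (.leaf 3042985054853)) (.node (.leaf 1843078280347) (.leaf 3481071823498))) (.node (.node (.leaf 1846299506576) (.leaf 3464428821144)) (.node (.leaf 2585570928669) (.leaf 4007205373571)))) (.node (.node (.node (.leaf 1024349944460) (.leaf 3129958109959)) (.node (.leaf 2338610250264) (.leaf 3802657576337))) (.node (.node (.leaf 1287416922764) (.leaf 2792266208798)) (.node (.leaf 2794950596227) (.leaf 4218195761307))))))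
def dF_1255 : BT := .node (.node (.node (.node (.node (.node (.node (.leaf 111669176338) (.leaf 4274567220509)) (.leaf 763431121420)) (.node (.leaf 7516195993) (.leaf 3223909979399))) (.node (.node (.leaf 1239635175310) (.leaf 2612951511582)) (.node (.leaf 2378875578265) (.leaf 3869229585299)))) (.node (.node (.node (.leaf 450434780950) (.leaf 3097745900828)) (.node (.leaf 1394790961934) (.leaf 3650723072129))) (.node (.node (.leaf 2076617152923) (.leaf 2612414659725)) (.node (.leaf 2642479209879) (.leaf 3875135211660))))) (.node (.node (.node (.node (.node (.leaf 135291502087) (.leaf 4385699525899)) (.leaf 3000035371545)) (.node (.leaf 642098002846) (.leaf 3462281157639))) (.node (.node (.leaf 1694901873297) (.leaf 3422552880025)) (.node (.leaf 2522220145944) (.leaf 3975530051225)))) (.node (.node (.node (.leaf 821949560725) (.leaf 2478196890260)) (.node (.leaf 644245645079) (.leaf 3753265440654))) (.node (.node (.leaf 2257005852298) (.leaf 3020436379652)) (.node (.leaf 2691334536599) (.leaf 3723200766083)))))) (.node (.node (.node (.node (.node (.node (.leaf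 107374246025) (.leaf 4341138775305)) (.leaf 2750390385415)) (.node (.leaf 91805138718) (.leaf 2583423621406))) (.node (.node (.leaf 1363652457096) (.leaf 3340948289030)) (.node (.leaf 2458332492189) (.leaf 3912716139547)))) (.node (.node (.node (.leaf 638876537619) (.leaf 2423435966467)) (.node (.leaf 1269163208478) (.leaf 3708168273413))) (.node (.node (.leaf 1052804107668) (.leaf 3045132420747)) (.node (.leaf 2687576369686) (.leaf 4106526187403))))) (.node (.node (.node (.node (.node (.leaf 504121896844) (.leaf 3073587024776)) (.leaf 2401424281218)) (.node (.leaf 517006811546) (.leaf 2660196192778))) (.node (.node (.leaf 1797444033176) (.leaf 3265786583686)) (.node (.leaf 2588255276296) (.leaf 3938485858951)))) (.node (.node (.node (.leaf 1042603561226) (.leaf 3248069792014)) (.node (.leaf 2342904912644) (.leaf 3811784384132))) (.node (.node (.leaf 835908436492) (.leaf 2670396497025)) (.node (.leaf 2798708731796) (.leaf 4002910523798))))))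
def dF_1263 : BT := .node (.node (.node (.node (.node (.node (.node (.leaf 112742918541) (.leaf 4268124716949)) (.leaf 2865280740498)) (.node (.leaf 478352480286) (.leaf 2796024538253))) (.node (.node (.leaf 1228360939653) (.leaf 3287798248977)) (.node (.leaf 2376728093953) (.leaf 1131724804254)))) (.node (.node (.node (.node (.leaf 468688309396) (.leaf 4448513437446)) (.leaf 2975339172615)) (.node (.leaf 156766343695) (.leaf 3614752720148))) (.node (.node (.leaf 2062121664772) (.leaf 2385318029333)) (.node (.leaf 2621004368265) (.leaf 4027606550293))))) (.node (.node (.node (.node (.node (.leaf 36507230723) (.leaf 4378720093319)) (.leaf 3003256597789)) (.node (.leaf 1692217518095) (.leaf 2908230303372))) (.node (.node (.leaf 1686311937030) (.leaf 3155191162499)) (.node (.leaf 2377801870085) (.leaf 3969624408596)))) (.node (.node (.node (.leaf 814433368214) (.leaf 3190624590737)) (.node (.leaf 2308008354697) (.leaf 3756486666898))) (.node (.node (.leaf 2216740524167) (.leaf 2497524165388)) (.node (.leaf 2745558498579) (.leaf 4161287431055)))))) (.node (.node (.node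 (.node (.node (.node (.leaf 259308712320) (.leaf 3881577727518)) (.leaf 2735357928198)) (.node (.leaf 88583802509) (.leaf 2868501992469))) (.node (.node (.leaf 1409286480029) (.leaf 3339337868818)) (.node (.leaf 2439542005778) (.leaf 3925064173568)))) (.node (.node (.node (.leaf 634581567127) (.leaf 2911988508806)) (.node (.leaf 1909113418265) (.leaf 3702262618763))) (.node (.node (.leaf 896574633502) (.leaf 2578591834893)) (.node (.leaf 2687039555219) (.leaf 3078418789768))))) (.node (.node (.node (.node (.node (.leaf 479962710028) (.leaf 4409321853324)) (.leaf 3042985054734)) (.node (.leaf 696858609947) (.leaf 2706903951242))) (.node (.node (.leaf 1867237458957) (.leaf 3465502563215)) (.node (.leaf 2582886573457) (.leaf 4020627150740)))) (.node (.node (.node (.leaf 1040992946967) (.leaf 3246996049949)) (.node (.leaf 1909113521156) (.leaf 2412698785417))) (.node (.node (.leaf 211527648926) (.leaf 2478196824469)) (.node (.leaf 2021856521609) (.leaf 4086662388230))))))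
def dF_1270 : BT := .node (.node (.node (.node (.node (.node (.node (.leaf 124017210380) (.leaf 4279399059972)) (.leaf 2876555032336)) (.node (.leaf 926639737992) (.leaf 2575370441089))) (.node (.node (.leaf 1252520121603) (.leaf 3298535669789)) (.node (.leaf 2316061685639) (.leaf 3397320054157)))) (.node (.node (.node (.leaf 505732520086) (.leaf 2876018214293)) (.node (.leaf 537944782094) (.leaf 1196686134662))) (.node (.node (.leaf 2091112683404) (.leaf 3184182032896)) (.node (.leaf 2646774227340) (.leaf 4065724385949))))) (.node (.node (.node (.node (.node (.leaf 405337635228) (.leaf 4386773210756)) (.leaf 3003256597776)) (.node (.leaf 441844890496) (.leaf 2893198037893))) (.node (.node (.leaf 1635309203333) (.leaf 2483565654403)) (.node (.leaf 2531346953729) (.leaf 3883725106199)))) (.node (.node (.node (.leaf 826781399945) (.leaf 2976413032070)) (.node (.leaf 765578471691) (.leaf 1266479377310))) (.node (.node (.leaf 2264521583501) (.leaf 2554432432384)) (.node (.leaf 2454037593494) (.leaf 4172024851866)))))) (.node (.node (.node (.node (.node (.node (.leaf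 281320425093) (.leaf 4346507877645)) (.leaf 2941516428184)) (.node (.leaf 91805444894) (.leaf 2695092585611))) (.node (.node (.leaf 1443109339781) (.leaf 3354907128979)) (.node (.leaf 2448668813465) (.leaf 3924527302417)))) (.node (.node (.node (.leaf 642634634898) (.leaf 2874407613463)) (.node (.leaf 1316407778444) (.leaf 3719442565146))) (.node (.node (.leaf 1080721403526) (.leaf 2902324905997)) (.node (.leaf 2700998202266) (.leaf 3735548789003))))) (.node (.node (.node (.node (.node (.leaf 166966975498) (.leaf 4421133014425)) (.leaf 3049427507215)) (.node (.leaf 1378684830746) (.leaf 2436857650568))) (.node (.node (.leaf 1887101705728) (.leaf 3476239834499)) (.node (.leaf 2602750801949) (.leaf 3892851830925)))) (.node (.node (.node (.leaf 993748309633) (.leaf 3247532908565)) (.node (.leaf 2344515832067) (.leaf 3812321032706))) (.node (.node (.leaf 221191036958) (.leaf 2480344261150)) (.node (.leaf 2816425475865) (.leaf 3996468075660))))))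
def dF_1282 : BT := .node (.node (.node (.node (.node (.node (.node (.leaf 97173658257) (.leaf 4264903483798)) (.leaf 2853469577614)) (.node (.leaf 409632617118) (.leaf 2349884816141))) (.node (.node (.leaf 1121523618821) (.leaf 2516314746006)) (.node (.leaf 1899986723338) (.leaf 3856881551508)))) (.node (.node (.node (.node (.leaf 410169388674) (.leaf 4444755334669)) (.leaf 3088619093139)) (.node (.leaf 1846836377615) (.leaf 3637838144404))) (.node (.node (.leaf 2030446271625) (.leaf 1901597492126)) (.node (.leaf 2621004417299) (.leaf 4059818804483))))) (.node (.node (.node (.node (.node (.leaf 384399664658) (.leaf 4376035847068)) (.leaf 2991445434896)) (.node (.leaf 105763594907) (.leaf 3061238594949))) (.node (.node (.leaf 1564442229377) (.leaf 3401078038416)) (.node (.leaf 2501282175377) (.leaf 3959423920015)))) (.node (.node (.node (.leaf 773631148557) (.leaf 3192235203972)) (.node (.leaf 1772211077652) (.leaf 3752728569732))) (.node (.node (.leaf 1184337264155) (.leaf 2477659997590)) (.node (.leaf 2355253347092) (.leaf 4160213688988)))))) (.node (.node (.node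 (.node (.node (.node (.leaf 246960661019) (.leaf 4331475550746)) (.leaf 2934000233733)) (.node (.leaf 15032725790) (.leaf 2428267953410))) (.node (.node (.leaf 18253940106) (.leaf 3336653513617)) (.node (.leaf 2435247037465) (.leaf 3907347429135)))) (.node (.node (.node (.leaf 624381019539) (.leaf 3141232455054)) (.node (.leaf 1503238868886) (.leaf 3699041355913))) (.node (.node (.leaf 196494859806) (.leaf 3582540449944)) (.node (.leaf 2685965813249) (.leaf 4112969037456))))) (.node (.node (.node (.node (.node (.leaf 430570582937) (.leaf 4413079948825)) (.leaf 2592013403143)) (.node (.leaf 711890976384) (.leaf 2961380667273))) (.node (.node (.leaf 1842541406217) (.leaf 3469797531548)) (.node (.leaf 2573759765775) (.leaf 3999689250436)))) (.node (.node (.node (.leaf 998580133131) (.leaf 2760590999582)) (.node (.leaf 2337536508177) (.leaf 3800510092189))) (.node (.node (.leaf 1075889786884) (.leaf 2439005148038)) (.node (.leaf 2733747349271) (.leaf 4219806374541))))))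
def dF_1289 : BT := .node (.node (.node (.node (.node (.node (.node (.leaf 119185371021) (.leaf 4267051025936)) (.leaf 2858838288018)) (.node (.leaf 1044214355742) (.leaf 2386928693388))) (.node (.node (.leaf 1234803392133) (.leaf 3287798248975)) (.node (.leaf 2376728093956) (.leaf 2884608330509)))) (.node (.node (.node (.node (.leaf 449361038869) (.leaf 4449050308247)) (.leaf 2661806690822)) (.node (.leaf 1130113539215) (.leaf 3647501845784))) (.node (.node (.leaf 2068564117253) (.leaf 2316061868173)) (.node (.leaf 2638184290692) (.leaf 3786014640007))))) (.node (.node (.node (.node (.node (.leaf 37044101763) (.leaf 4378720202269)) (.leaf 2996814145309)) (.node (.leaf 205084718612) (.leaf 2382633718923))) (.node (.node (.leaf 1690070033049) (.leaf 3358665237782)) (.node (.leaf 2525978243340) (.leaf 3885872607380)))) (.node (.node (.node (.leaf 818191464979) (.leaf 3194382688014)) (.node (.leaf 1275605837206) (.leaf 3750044214418))) (.node (.node (.leaf 1140851215636) (.leaf 2444374061188)) (.node (.leaf 2739116046099) (.leaf 3729106346886)))))) (.node (.node (.node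 (.node (.node (.node (.leaf 67645797014) (.leaf 4333085734793)) (.leaf 2928631292291)) (.node (.leaf 155692570112) (.leaf 3395709328004))) (.node (.node (.leaf 1402844027549) (.leaf 3343095966097)) (.node (.leaf 2441152618897) (.leaf 3925601044509)))) (.node (.node (.node (.leaf 635118440338) (.leaf 2656974803847)) (.node (.leaf 1836635688326) (.leaf 3703336433926))) (.node (.node (.leaf 903017124353) (.leaf 2851859112717)) (.node (.leaf 2692408265617) (.leaf 4110284491402))))) (.node (.node (.node (.node (.node (.leaf 498753196293) (.leaf 4417374917251)) (.leaf 2461016964359)) (.node (.leaf 646392732187) (.leaf 3015604672393))) (.node (.node (.leaf 1779727517208) (.leaf 3470871238420)) (.node (.leaf 2583423444494) (.leaf 4020627146261)))) (.node (.node (.node (.leaf 1043677301505) (.leaf 3240553597469)) (.node (.leaf 2341831476497) (.leaf 3804267449607))) (.node (.node (.leaf 210990768779) (.leaf 3398930452638)) (.node (.leaf 2375117581719) (.leaf 4169340508564))))))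
def dF_1297 : BT := .node (.node (.node (.node (.node (.node (.node (.leaf 1073766790) (.leaf 4266513912331)) (.leaf 2867428224667)) (.node (.leaf 186831083269) (.leaf 2463164588813))) (.node (.node (.leaf 1197759291268) (.leaf 3288871991066)) (.node (.leaf 2374043738899) (.leaf 3854196891906)))) (.node (.node (.node (.node (.leaf 332859992066) (.leaf 4446902824339)) (.leaf 3089692782103)) (.node (.leaf 815507397510) (.leaf 3641595988737))) (.node (.node (.leaf 2040646823173) (.leaf 1897302371459)) (.node (.leaf 2627983691799) (.leaf 2605435504000))))) (.node (.node (.node (.node (.node (.leaf 382252174618) (.leaf 4379793944451)) (.leaf 2995740403333)) (.node (.leaf 112743197066) (.leaf 2447058204548))) (.node (.node (.leaf 1666984186649) (.leaf 3409131104029)) (.node (.leaf 2517388306587) (.leaf 3969087598748)))) (.node (.node (.node (.leaf 801548462861) (.leaf 3194919559065)) (.node (.leaf 1130650308119) (.leaf 3753265440666))) (.node (.node (.leaf 447750632222) (.leaf 3610457744018)) (.node (.leaf 2746095369624) (.leaf 4156992462744)))))) (.node (.node (.node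 (.node (.node (.node (.leaf 253403130897) (.leaf 4332549292825)) (.leaf 2931315878419)) (.node (.leaf 1964410814494) (.leaf 2663954239628))) (.node (.node (.leaf 472983605120) (.leaf 3350075289617)) (.node (.leaf 2444910716188) (.leaf 3908421171456)))) (.node (.node (.node (.leaf 630823471749) (.leaf 2863133321620)) (.node (.leaf 1128502822422) (.leaf 693638100738))) (.node (.node (.leaf 468151647902) (.leaf 3570729287055)) (.node (.leaf 2688113297307) (.leaf 3707631500300))))) (.node (.node (.node (.node (.node (.leaf 487478904338) (.leaf 4415227432975)) (.leaf 2852395881623)) (.node (.leaf 1899449739546) (.leaf 2905009109130))) (.node (.node (.leaf 1847373248658) (.leaf 3471945015699)) (.node (.leaf 2586644670747) (.leaf 3132105855112)))) (.node (.node (.node (.leaf 1029181784205) (.leaf 2359548429953)) (.node (.leaf 2339683872513) (.leaf 3802657576345))) (.node (.node (.leaf 2273111916958) (.leaf 2641405480967)) (.node (.leaf 2795487505299) (.leaf 4211753308827))))))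
def dF_1304 : BT := .node (.node (.node (.node (.node (.node (.node (.leaf 118111628816) (.leaf 4275640962585)) (.leaf 2877091900941)) (.node (.leaf 944892810625) (.leaf 2460480041227))) (.node (.node (.leaf 1245003927172) (.leaf 3281892486036)) (.node (.leaf 2379412449305) (.leaf 3697967764480)))) (.node (.node (.node (.leaf 11274400405) (.leaf 3096135287707)) (.node (.leaf 1624034896014) (.leaf 3656091782415))) (.node (.node (.leaf 2080375280135) (.leaf 3026878846348)) (.node (.leaf 2638184290579) (.leaf 4064113772817))))) (.node (.node (.node (.node (.node (.leaf 338228702471) (.leaf 4385699523223)) (.leaf 3009162133022)) (.node (.leaf 6442643614) (.leaf 2560337948416))) (.node (.node (.leaf 1695975600515) (.leaf 3420942266906)) (.node (.leaf 2523830759059) (.leaf 3976066897172)))) (.node (.node (.node (.leaf 823023303959) (.leaf 3187940065942)) (.node (.leaf 2309082343433) (.leaf 3746822988174))) (.node (.node (.leaf 91805464579) (.leaf 2816962476673)) (.node (.leaf 2742874130325) (.leaf 4155918720655)))))) (.node (.node (.node (.node (.node (.node (.leaf 268435520138)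 (.leaf 2404108979081)) (.leaf 2944737654428)) (.node (.leaf 708132855966) (.leaf 2523294079006))) (.node (.node (.leaf 1433982547973) (.leaf 2967286326531)) (.node (.leaf 2451890039709) (.leaf 3921306076185)))) (.node (.node (.node (.leaf 639413408775) (.leaf 3145527423489)) (.node (.leaf 1320702789278) (.leaf 3714610725892))) (.node (.node (.leaf 900332729994) (.leaf 3044058825088)) (.node (.leaf 2684355143445) (.leaf 4003447369621))))) (.node (.node (.node (.node (.node (.leaf 506269309832) (.leaf 2441153090699)) (.leaf 3051574988045)) (.node (.leaf 156766343706) (.leaf 2523830807944))) (.node (.node (.leaf 1871532445573) (.leaf 3462281301780)) (.node (.leaf 2557116771094) (.leaf 3764539732100)))) (.node (.node (.node (.leaf 1048509141386) (.leaf 3242701081618)) (.node (.leaf 2343978960659) (.leaf 3656091819925))) (.node (.node (.leaf 76235669775) (.leaf 2809983150750)) (.node (.leaf 819802550278) (.leaf 4207995095943))))))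
def dF_1313 : BT := .node (.node (.node (.node (.node (.node (.node (.leaf 100394884509) (.leaf 4261145445639)) (.leaf 2870649450899)) (.node (.leaf 194884304158) (.leaf 2398739798272))) (.node (.node (.leaf 1194001193483) (.leaf 3285113893900)) (.node (.leaf 2374043739017) (.leaf 3302293899149)))) (.node (.node (.node (.node (.leaf 470835880854) (.leaf 4445829082257)) (.leaf 3082176640657)) (.node (.leaf 694711442573) (.leaf 2829847444876))) (.node (.node (.leaf 1955821217163) (.leaf 1277216496909)) (.node (.leaf 2631741838095) (.leaf 4056060356363))))) (.node (.node (.node (.node (.node (.leaf 388694622873) (.leaf 4377646396045)) (.leaf 2497524195587)) (.node (.leaf 1314260309406) (.leaf 2833067968908))) (.node (.node (.leaf 1651415319173) (.leaf 3351685914262)) (.node (.leaf 2514167080449) (.leaf 3964792630415)))) (.node (.node (.node (.leaf 787052944772) (.leaf 3190624590749)) (.node (.leaf 2029909185922) (.leaf 3754876053789))) (.node (.node (.leaf 1857573582998) (.leaf 2478196793602)) (.node (.leaf 2750390337946) (.leaf 4158603075867)))))) (.node (.node (.node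 (.node (.node (.node (.leaf 242665661071) (.leaf 3771519189150)) (.leaf 2933463362587)) (.node (.leaf 144418309786) (.leaf 2812130531072))) (.node (.node (.leaf 1319092161035) (.leaf 3332895223303)) (.node (.leaf 2435783908494) (.leaf 3907884036233)))) (.node (.node (.node (.leaf 513248741516) (.leaf 2812130586119)) (.node (.leaf 826781611658) (.leaf 3699578336769))) (.node (.node (.leaf 1861331560090) (.leaf 3571803029145)) (.node (.leaf 2692945136668) (.leaf 4111358424335))))) (.node (.node (.node (.node (.node (.leaf 486405162372) (.leaf 4410932465411)) (.leaf 2597919032450)) (.node (.leaf 1836098956826) (.leaf 2661806608008))) (.node (.node (.leaf 1845225764497) (.leaf 3463891950107)) (.node (.leaf 2584497186688) (.leaf 3094524891914)))) (.node (.node (.node (.leaf 1014149394700) (.leaf 2471217579143)) (.node (.leaf 2338610160769) (.leaf 3801583834258))) (.node (.node (.leaf 724775919616) (.leaf 2926484022912)) (.node (.leaf 2548526883733) (.leaf 4214974535069))))))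
def dF_1320 : BT := .node (.node (.node (.node (.node (.node (.node (.leaf 120795957401) (.leaf 4274567220621)) (.leaf 2864206998414)) (.node (.leaf 842887536542) (.leaf 2401424233220))) (.node (.node (.leaf 1230508423697) (.leaf 2960843863171)) (.node (.leaf 2378338707226) (.leaf 2644090163979)))) (.node (.node (.node (.leaf 12348142485) (.leaf 3095061545740)) (.node (.leaf 1404991708173) (.leaf 3642133135378))) (.node (.node (.leaf 2064806019856) (.leaf 2385854530566)) (.node (.leaf 2641405516826) (.leaf 4063040030747))))) (.node (.node (.node (.node (.node (.leaf 357019241607) (.leaf 3719979595010)) (.leaf 2995203532186)) (.node (.leaf 539555271556) (.leaf 3026878997534))) (.node (.node (.leaf 1693828130949) (.leaf 3416647298692)) (.node (.leaf 2524904501147) (.leaf 3979288148505)))) (.node (.node (.node (.leaf 820875820179) (.leaf 3193845764995)) (.node (.leaf 1771137689237) (.leaf 3748433601297))) (.node (.node (.leaf 337155470093) (.leaf 2649458665118)) (.node (.leaf 2743411014415) (.leaf 4158603063574)))))) (.node (.node (.node (.node (.node (.node (.leaf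 107374245396) (.leaf 2784213584778)) (.leaf 2942053299328)) (.node (.leaf 22548682503) (.leaf 3497714825609))) (.node (.node (.leaf 1421634514572) (.leaf 3345243314182)) (.node (.leaf 2450816297728) (.leaf 3923453560347)))) (.node (.node (.node (.leaf 637265924497) (.leaf 2422362237699)) (.node (.leaf 1268626324374) (.leaf 3704410176029))) (.node (.node (.leaf 1053340979733) (.leaf 2579128554629)) (.node (.leaf 2687039555215) (.leaf 4118337649927))))) (.node (.node (.node (.node (.node (.leaf 45634146070) (.leaf 4417911787799)) (.leaf 2756295884294)) (.node (.leaf 628139116827) (.leaf 3233037375370))) (.node (.node (.leaf 1857036517784) (.leaf 3318936804501)) (.node (.leaf 2409477269781) (.leaf 3558918220574)))) (.node (.node (.node (.leaf 1042066689665) (.leaf 3244848565785)) (.node (.leaf 2335389025686) (.leaf 3634080110487))) (.node (.node (.leaf 835908436638) (.leaf 2864743777950)) (.node (.leaf 694174756615) (.leaf 4211216306186))))))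
def dF_1328 : BT := .node (.node (.node (.node (.node (.node (.node (.leaf 106837311767) (.leaf 4047470823454)) (.leaf 2862059514265)) (.node (.leaf 510027488015) (.leaf 2850785117441))) (.node (.node (.leaf 114353794824) (.leaf 3288871991059)) (.node (.leaf 2375653968386) (.leaf 3868155771149)))) (.node (.node (.node (.node (.leaf 331249453574) (.leaf 4447439695363)) (.leaf 3085397813780)) (.node (.leaf 820338949134) (.leaf 3642133135492))) (.node (.node (.leaf 1985349122692) (.leaf 643709025927)) (.node (.leaf 2628520562836) (.leaf 3980361909780))))) (.node (.node (.node (.node (.node (.leaf 376883461400) (.leaf 4185446674078)) (.leaf 2356864021251)) (.node (.leaf 1668058326046) (.leaf 2567317270933))) (.node (.node (.leaf 1679332613772) (.leaf 3408057361938)) (.node (.leaf 2517925177616) (.leaf 3961034479902)))) (.node (.node (.node (.leaf 814970047360) (.leaf 3191161461778)) (.node (.leaf 1960116153492) (.leaf 3751654827545))) (.node (.node (.leaf 1139777474583) (.leaf 2642479454082)) (.node (.leaf 2337536606720) (.leaf 4124780209566)))))) (.node (.node (.node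 (.node (.node (.node (.leaf 249108162324) (.leaf 4334696776989)) (.leaf 2931315878414)) (.node (.leaf 435402315273) (.leaf 2538863134871))) (.node (.node (.leaf 1399622801408) (.leaf 3349538418577)) (.node (.leaf 2442763232024) (.leaf 3914326752769)))) (.node (.node (.node (.leaf 624917892619) (.leaf 3133179324181)) (.node (.leaf 1570884592651) (.leaf 3701188949779))) (.node (.node (.leaf 898722174477) (.leaf 2851859115550)) (.node (.leaf 2683281457944) (.leaf 4103842232854))))) (.node (.node (.node (.node (.node (.leaf 490163259527) (.leaf 4415227433217)) (.leaf 3045132492821)) (.node (.leaf 1960653038106) (.leaf 2614561964809))) (.node (.node (.leaf 1856500056461) (.leaf 3465502563217)) (.node (.leaf 2586644670738) (.leaf 4019553476508)))) (.node (.node (.node (.leaf 1040992941440) (.leaf 3246996050060)) (.node (.leaf 1843078398870) (.leaf 3803194447375))) (.node (.node (.leaf 358629781271) (.leaf 3149822338452)) (.node (.leaf 1841467894912) (.leaf 4208532082585))))))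
def dF_1335 : BT := .node (.node (.node (.node (.node (.node (.node (.leaf 113279766425) (.leaf 3981435702285)) (.leaf 2875481290264)) (.node (.leaf 51003222666) (.leaf 2451890041630))) (.node (.node (.leaf 1249298910099) (.leaf 3300146283012)) (.node (.leaf 2386391772933) (.leaf 3733401244931)))) (.node (.node (.node (.leaf 339302519170) (.leaf 3095061545616)) (.node (.leaf 551903429135) (.leaf 3648038428417))) (.node (.node (.leaf 231391860890) (.leaf 2458869505675)) (.node (.leaf 2642479209876) (.leaf 3641596365444))))) (.node (.node (.node (.node (.node (.leaf 397284569732) (.leaf 4387310071427)) (.leaf 3001109113618)) (.node (.leaf 1304596321694) (.leaf 2501819024661))) (.node (.node (.leaf 1698123099650) (.leaf 3417721040657)) (.node (.leaf 2522757016975) (.leaf 3978751277459)))) (.node (.node (.node (.leaf 757525053705) (.leaf 3184718943622)) (.node (.leaf 1315334285453) (.leaf 3747359855754))) (.node (.node (.leaf 2261300819589) (.leaf 2736968569475)) (.node (.leaf 2740726589588) (.leaf 4175782949137)))))) (.node (.node (.node (.node (.node (.node (.leaf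 262529941509) (.leaf 4342212971539)) (.leaf 2939905815067)) (.node (.leaf 881005710494) (.leaf 2523293976579))) (.node (.node (.leaf 1439888111125) (.leaf 3354907128987)) (.node (.leaf 2447058200346) (.leaf 3919695463058)))) (.node (.node (.node (.leaf 627065378185) (.leaf 3149822379412)) (.node (.leaf 1315870934558) (.leaf 3714610725789))) (.node (.node (.leaf 1054951608589) (.leaf 2410551139486)) (.node (.leaf 2701535070989) (.leaf 2451353562762))))) (.node (.node (.node (.node (.node (.leaf 508953745949) (.leaf 4420596142725)) (.leaf 3051038038915)) (.node (.leaf 645855861146) (.leaf 2427194128128))) (.node (.node (.leaf 1875290316571) (.leaf 3478924339215)) (.node (.leaf 2602750802052) (.leaf 3897146880140)))) (.node (.node (.node (.leaf 993211438208) (.leaf 3244848565774)) (.node (.leaf 1967632451713) (.leaf 3805341654657))) (.node (.node (.leaf 279173010944) (.leaf 3190087655812)) (.node (.leaf 2809446152449) (.leaf 3760244870795))))))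
def dF_1345 : BT := .node (.node (.node (.node (.node (.node (.node (.leaf 7516216324) (.leaf 4262756057627)) (.leaf 2864206998541)) (.node (.leaf 329101871381) (.leaf 1962263805086))) (.node (.node (.leaf 1192390578324) (.leaf 3222836865815)) (.node (.leaf 2341294613124) (.leaf 3856881551388)))) (.node (.node (.node (.node (.leaf 497142561282) (.leaf 4445292211095)) (.leaf 3090766577297)) (.node (.leaf 1839320183054) (.leaf 2905009372420))) (.node (.node (.leaf 2030983144336) (.leaf 2384244398725)) (.node (.leaf 2626373127697) (.leaf 4056597578255))))) (.node (.node (.node (.node (.node (.leaf 386010277777) (.leaf 4272956632451)) (.leaf 2990908550406)) (.node (.leaf 6442452507) (.leaf 2745558485379))) (.node (.node (.leaf 228170530306) (.leaf 3401077990403)) (.node (.leaf 2505040272654) (.leaf 3961571404177)))) (.node (.node (.node (.leaf 778463008132) (.leaf 2485713084820)) (.node (.leaf 1267552645509) (.leaf 2455111577097))) (.node (.node (.leaf 1115618272539) (.leaf 2533494414485)) (.node (.leaf 2746095369628) (.leaf 4167193012507)))))) (.node (.node (.node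 (.node (.node (.node (.leaf 35970408718) (.leaf 4331475405697)) (.leaf 2934537104669)) (.node (.leaf 46171218462) (.leaf 3409667315213))) (.node (.node (.leaf 1317481547649) (.leaf 2709588288515)) (.node (.leaf 2432562682258) (.leaf 1127429846919)))) (.node (.node (.node (.leaf 625991632770) (.leaf 3132642518414)) (.node (.leaf 767725556608) (.leaf 3041911469451))) (.node (.node (.leaf 330712734080) (.leaf 3569655544989)) (.node (.leaf 2694555749889) (.leaf 4104379100816))))) (.node (.node (.node (.node (.node (.leaf 451508547995) (.leaf 4411469336086)) (.leaf 2834679137300)) (.node (.leaf 617938566807) (.leaf 3117610156800))) (.node (.node (.leaf 1843078280336) (.leaf 3472481886747)) (.node (.leaf 2575907207700) (.leaf 4005057938324)))) (.node (.node (.node (.leaf 1005559458061) (.leaf 2520072830612)) (.node (.leaf 2338073379215) (.leaf 3613679014935))) (.node (.node (.leaf 431107397644) (.leaf 2658585390238)) (.node (.leaf 2787434426133) (.leaf 4171487992727))))))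
def dF_1352 : BT := .node (.node (.node (.node (.node (.node (.node (.leaf 117037886749) (.leaf 4272419736322)) (.leaf 2861522643217)) (.node (.leaf 467077877406) (.leaf 1196686114700))) (.node (.node (.leaf 1228360939548) (.leaf 3287261365270)) (.node (.leaf 2376728094230) (.leaf 3860102777627)))) (.node (.node (.node (.node (.leaf 449360986132) (.leaf 4449050308374)) (.leaf 3000572153607)) (.node (.leaf 1177895061775) (.leaf 3642669954452))) (.node (.node (.leaf 2073932827539) (.leaf 2687039476117)) (.node (.leaf 2643016129945) (.leaf 4062503159706))))) (.node (.node (.node (.node (.node (.leaf 180388669443) (.leaf 4385162654737)) (.leaf 3003793468826)) (.node (.leaf 111669263262) (.leaf 2501282280598))) (.node (.node (.leaf 1692217518099) (.leaf 2988224308099)) (.node (.leaf 2525441372188) (.leaf 3891778189973)))) (.node (.node (.node (.leaf 816043981697) (.leaf 3195993209987)) (.node (.leaf 2308545472019) (.leaf 3757023537937))) (.node (.node (.leaf 1986422899614) (.leaf 2431489034654)) (.node (.leaf 2741263530257) (.leaf 4107063468446)))))) (.node (.node (.node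 (.node (.node (.node (.leaf 262529916940) (.leaf 4339528616460)) (.leaf 2930242032021)) (.node (.leaf 88583703959) (.leaf 3395709299211))) (.node (.node (.leaf 1415192061580) (.leaf 3349001511043)) (.node (.leaf 2442763232014) (.leaf 3917011107869)))) (.node (.node (.node (.leaf 636729053457) (.leaf 3084860975490)) (.node (.leaf 644245548038) (.leaf 3703873304985))) (.node (.node (.leaf 890669053462) (.leaf 3030100256542)) (.node (.leaf 2683818328977) (.leaf 4002910499716))))) (.node (.node (.node (.node (.node (.leaf 499290067218) (.leaf 4417911788187)) (.leaf 3039763782422)) (.node (.leaf 763967489946) (.leaf 3511136570624))) (.node (.node (.leaf 1865089597851) (.leaf 3468723754260)) (.node (.leaf 2404108559382) (.leaf 3559455072414)))) (.node (.node (.node (.leaf 1044751043859) (.leaf 3242701081627)) (.node (.leaf 2341294605456) (.leaf 3804268063755))) (.node (.node (.leaf 42949723405) (.leaf 2492692317588)) (.node (.leaf 2359548325399) (.leaf 4002373653406))))))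
def dF_1360 : BT := .node (.node (.node (.node (.node (.node (.node (.leaf 105763594880) (.leaf 2884608428681)) (.leaf 2858838288027)) (.node (.leaf 331786347294) (.leaf 1845762767383))) (.node (.node (.leaf 1210107324292) (.leaf 3287798248984)) (.node (.leaf 1899986723968) (.leaf 1275069336332)))) (.node (.node (.node (.node (.leaf 424664992646) (.leaf 4200479075851)) (.leaf 2803540637319)) (.node (.leaf 829465756815) (.leaf 3641059393308))) (.node (.node (.leaf 2049236759813) (.leaf 2355253275038)) (.node (.leaf 2416456600068) (.leaf 4060892210304))))) (.node (.node (.node (.node (.node (.leaf 379567738005) (.leaf 3878893384579)) (.leaf 3004330339973)) (.node (.leaf 47244651534) (.leaf 3106335711751))) (.node (.node (.leaf 1672890160780) (.leaf 3408057361945)) (.node (.leaf 2514703951384) (.leaf 3907884315422)))) (.node (.node (.node (.leaf 810138239117) (.leaf 3186329622425)) (.node (.leaf 1840393938689) (.leaf 3744675504026))) (.node (.node (.leaf 1229434712215) (.leaf 3596499100428)) (.node (.leaf 2353105863172) (.leaf 4169877228554)))))) (.node (.node (.node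 (.node (.node (.node (.leaf 47781571342) (.leaf 4336844261135)) (.leaf 2932926491537)) (.node (.leaf 21474841624) (.leaf 2919504703252))) (.node (.node (.leaf 1392643471255) (.leaf 3348464676506)) (.node (.leaf 2443836974106) (.leaf 3910031784335)))) (.node (.node (.node (.leaf 631897214109) (.leaf 2860985837460)) (.node (.leaf 1136555874816) (.leaf 3701188742155))) (.node (.node (.leaf 937913536134) (.leaf 2706367122572)) (.node (.leaf 2691871394584) (.leaf 4117263696776))))) (.node (.node (.node (.node (.node (.leaf 492310635671) (.leaf 2790119182475)) (.leaf 3042985054746)) (.node (.leaf 2019171981466) (.leaf 2512556584202))) (.node (.node (.leaf 229781191692) (.leaf 3463355079059)) (.node (.leaf 2585570928665) (.leaf 4022774699532)))) (.node (.node (.node (.leaf 222264805142) (.leaf 3238406113421)) (.node (.leaf 2339683992347) (.leaf 3802120661014))) (.node (.node (.leaf 49929029528) (.leaf 2823404824579)) (.node (.leaf 2339684101125) (.leaf 4217122019225))))))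
def dF_1367 : BT := .node (.node (.node (.node (.node (.node (.node (.leaf 109521692176) (.leaf 3887483292673)) (.leaf 2872260064028)) (.node (.leaf 381178448269) (.leaf 2688650170398))) (.node (.node (.leaf 1247151425949) (.leaf 3291556346372)) (.node (.leaf 2379949320074) (.leaf 3258807358599)))) (.node (.node (.node (.leaf 10737529346) (.leaf 3098819642897)) (.node (.leaf 527744232335) (.leaf 631897934366))) (.node (.node (.leaf 2085207119378) (.leaf 2938832125056)) (.node (.leaf 2640331774735) (.leaf 2987150723462))))) (.node (.node (.node (.node (.node (.leaf 132607199623) (.leaf 4366372173460)) (.leaf 3007551559189)) (.node (.leaf 397821715980) (.leaf 2587181756291))) (.node (.node (.leaf 1696512486417) (.leaf 3422016008979)) (.node (.leaf 2523293888016) (.leaf 3975530030485)))) (.node (.node (.node (.leaf 764504375301) (.leaf 2474438792983)) (.node (.leaf 2310156085148) (.leaf 3745748939146))) (.node (.node (.leaf 2257005852948) (.leaf 2682207652994)) (.node (.leaf 2683281470996) (.leaf 4157529333779)))))) (.node (.node (.node (.node (.node (.node (.leaf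 98247441806) (.leaf 3733401356161)) (.leaf 2948495751707)) (.node (.leaf 24696065430) (.leaf 3274376372766))) (.node (.node (.leaf 1433982547868) (.leaf 3345780323725)) (.node (.leaf 2455648136986) (.leaf 3912716139545)))) (.node (.node (.node (.leaf 631360345111) (.leaf 2877091968660)) (.node (.leaf 16106130078) (.leaf 3721053178257))) (.node (.node (.leaf 900332729859) (.leaf 3279208321792)) (.node (.leaf 2692945080085) (.leaf 4104915752201))))) (.node (.node (.node (.node (.node (.leaf 505732520066) (.leaf 4420059272347)) (.leaf 3050501249307)) (.node (.leaf 637802795547) (.leaf 3530463875716))) (.node (.node (.leaf 1819992839821) (.leaf 3479461207949)) (.node (.leaf 2594160865412) (.leaf 3964792533260)))) (.node (.node (.node (.leaf 1050656611207) (.leaf 3243774823696)) (.node (.leaf 2345052702593) (.leaf 2431489268126))) (.node (.node (.leaf 217969738654) (.leaf 2659659134727)) (.node (.leaf 2800856215809) (.leaf 4207458224775))))))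
def dF_1376 : BT := .node (.node (.node (.node (.node (.node (.node (.leaf 92341821078) (.leaf 3976066991495)) (.leaf 2864206998429)) (.node (.leaf 144418309775) (.leaf 2400887340807))) (.node (.node (.leaf 1134408522757) (.leaf 3289408862107)) (.node (.leaf 2374580609939) (.leaf 3855807619843)))) (.node (.node (.node (.node (.leaf 426275583894) (.leaf 4446365953282)) (.leaf 3084324124815)) (.node (.leaf 1059783662359) (.leaf 3640521923207))) (.node (.node (.leaf 2035814979599) (.leaf 2886755031686)) (.node (.leaf 2623151901455) (.leaf 3943854687625))))) (.node (.node (.node (.node (.node (.leaf 347892381190) (.leaf 4377109477507)) (.leaf 1837709845510)) (.node (.leaf 33822898462) (.leaf 2592550315422))) (.node (.node (.leaf 1660005255813) (.leaf 3408594233092)) (.node (.leaf 2519535790747) (.leaf 3974456309252)))) (.node (.node (.node (.leaf 792958526220) (.leaf 3192772074907)) (.node (.leaf 1121523620503) (.leaf 3746286117149))) (.node (.node (.leaf 447213696281) (.leaf 3610994615069)) (.node (.leaf 2741800401306) (.leaf 4165582399384)))))) (.node (.node (.node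 (.node (.node (.node (.leaf 250181904769) (.leaf 4328254324488)) (.leaf 2932389620505)) (.node (.leaf 476741487134) (.leaf 3090766536478))) (.node (.node (.leaf 383863033092) (.leaf 3342559095168)) (.node (.leaf 2441152619020) (.leaf 3908421171227)))) (.node (.node (.node (.leaf 623844149655) (.leaf 2865280805780)) (.node (.leaf 767725557399) (.leaf 3564823738004))) (.node (.node (.leaf 1780264144790) (.leaf 3568581802899)) (.node (.leaf 2684355200028) (.leaf 4119411405441))))) (.node (.node (.node (.node (.node (.leaf 435402427546) (.leaf 3833259364105)) (.leaf 3040837570692)) (.node (.leaf 1846836377627) (.leaf 3506304517256))) (.node (.node (.leaf 1846836377619) (.leaf 3466576305304)) (.node (.leaf 2587718412829) (.leaf 3939559638662)))) (.node (.node (.node (.leaf 1022202460300) (.leaf 3182034541059)) (.node (.leaf 2339147121307) (.leaf 2641405793677))) (.node (.node (.leaf 1997697114910) (.leaf 2417530310529)) (.node (.leaf 2794950634265) (.leaf 4220343245467))))))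
def dF_1383 : BT := .node (.node (.node (.node (.node (.node (.node (.leaf 113816660498) (.leaf 4276714704669)) (.leaf 2858838255749)) (.node (.leaf 187904856475) (.leaf 3223910515073))) (.node (.node (.leaf 1237487691150) (.leaf 3179350323971)) (.node (.leaf 627602663303) (.leaf 3869229066893)))) (.node (.node (.node (.leaf 137975931669) (.leaf 3099356513947)) (.node (.leaf 1396938446094) (.leaf 3648575587971))) (.node (.node (.leaf 1806571113858) (.leaf 2403035033485)) (.node (.leaf 2638721161625) (.leaf 3767224158357))))) (.node (.node (.node (.node (.node (.leaf 336618089351) (.leaf 4386236368384)) (.leaf 3002182855705)) (.node (.leaf 523449543703) (.leaf 3462281187840))) (.node (.node (.leaf 1692754389637) (.leaf 3422552880019)) (.node (.leaf 2524367630104) (.leaf 3975530051229)))) (.node (.node (.node (.leaf 816580853258) (.leaf 3190624456711)) (.node (.leaf 2309619214095) (.leaf 3755412924814))) (.node (.node (.leaf 2255395239299) (.leaf 2417530382622)) (.node (.leaf 2747169098645) (.leaf 4158066204819)))))) (.node (.node (.node (.node (.node (.node (.leaf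 91804989454) (.leaf 4341139229466)) (.leaf 2949569493777)) (.node (.leaf 338765626264) (.leaf 2655901034889))) (.node (.node (.leaf 1427540095378) (.leaf 3342022087942)) (.node (.leaf 2458332492177) (.leaf 3914863623707)))) (.node (.node (.node (.leaf 630823473799) (.leaf 2865817555330)) (.node (.leaf 1315334051614) (.leaf 3706020789252))) (.node (.node (.leaf 1046361658629) (.leaf 2766496591646)) (.node (.leaf 2689723853846) (.leaf 4107600326935))))) (.node (.node (.node (.node (.node (.leaf 503585025933) (.leaf 4418448659332)) (.leaf 2849711492358)) (.node (.leaf 518080553627) (.leaf 2585034073227))) (.node (.node (.leaf 1795296365080) (.leaf 3365644573447)) (.node (.leaf 2588255283866) (.leaf 1325535220738)))) (.node (.node (.node (.leaf 1048509141251) (.leaf 2978023723266)) (.node (.leaf 2342905218585) (.leaf 3809636899973))) (.node (.node (.leaf 835371629342) (.leaf 2433099602945)) (.node (.leaf 2413772287875) (.leaf 4210679566736))))))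
def dF_1391 : BT := .node (.node (.node (.node (.node (.node (.node (.leaf 110595434381) (.leaf 4268124768017)) (.leaf 2867428224658)) (.node (.leaf 39191581839) (.leaf 2450279496327))) (.node (.node (.leaf 1226213455492) (.leaf 3283503280659)) (.node (.leaf 2376191223067) (.leaf 2512019919390)))) (.node (.node (.node (.node (.leaf 379030975494) (.leaf 4448513437333)) (.leaf 3090229547906)) (.node (.leaf 163208796174) (.leaf 3641059394818))) (.node (.node (.leaf 2059974180613) (.leaf 2385318030730)) (.node (.leaf 2622078159369) (.leaf 4061966288655))))) (.node (.node (.node (.node (.node (.leaf 18790486403) (.leaf 4378720093315)) (.leaf 3005404081949)) (.node (.leaf 49929086878) (.leaf 2907693549214))) (.node (.node (.leaf 1686848413977) (.leaf 3409667963540)) (.node (.leaf 2515240822415) (.leaf 3717295141133)))) (.node (.node (.node (.leaf 814433368194) (.leaf 3192772074897)) (.node (.leaf 82141286914) (.leaf 3758634151058))) (.node (.node (.leaf 1138703475846) (.leaf 3016141548548)) (.node (.leaf 2747705982739) (.leaf 2499135089545)))))) (.node (.node (.node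 (.node (.node (.node (.leaf 67645796634) (.leaf 4333623034905)) (.leaf 2680597072519)) (.node (.leaf 762893833856) (.leaf 2868501862529))) (.node (.node (.leaf 1408212738048) (.leaf 3341485352978)) (.node (.leaf 2441689489938) (.leaf 3922916689409)))) (.node (.node (.node (.leaf 510564388620) (.leaf 2997350995718)) (.node (.leaf 1967632361626) (.leaf 3702262691867))) (.node (.node (.leaf 892279650188) (.leaf 2463164546974)) (.node (.leaf 2689187039379) (.leaf 4111895295366))))) (.node (.node (.node (.node (.node (.leaf 481036437772) (.leaf 4415764304261)) (.leaf 3041911312656)) (.node (.leaf 692563641626) (.leaf 1835025457932))) (.node (.node (.leaf 1865089993101) (.leaf 3467650047375)) (.node (.leaf 2585034057617) (.leaf 4021164066452)))) (.node (.node (.node (.leaf 1042066688669) (.leaf 3249143534109)) (.node (.leaf 2340757734427) (.leaf 1967632799367))) (.node (.node (.leaf 306016630554) (.leaf 2478196848517)) (.node (.leaf 1275069082887) (.leaf 4219806278538))))))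
def dF_1398 : BT := .node (.node (.node (.node (.node (.node (.node (.leaf 74625086092) (.leaf 4277251575821)) (.leaf 2872796935059)) (.node (.leaf 124554057118) (.leaf 2848100892545))) (.node (.node (.leaf 1188095626644) (.leaf 3300683153949)) (.node (.leaf 2394981709573) (.leaf 3871377069458)))) (.node (.node (.node (.leaf 361314231575) (.leaf 2874944472213)) (.node (.leaf 535797582477) (.leaf 3656628392705))) (.node (.node (.leaf 2090038941317) (.leaf 2595234716161)) (.node (.leaf 2644626743175) (.leaf 3635153914516))))) (.node (.node (.node (.node (.node (.leaf 41339156866) (.leaf 4387310133897)) (.leaf 3005404081936)) (.node (.leaf 474593995166) (.leaf 2528125825173))) (.node (.node (.leaf 1699733712659) (.leaf 2484102525443)) (.node (.leaf 2529199469568) (.leaf 3717295122949)))) (.node (.node (.node (.leaf 826244530577) (.leaf 2920041652226)) (.node (.leaf 2311766416009) (.leaf 3745212377502))) (.node (.node (.leaf 391916305537) (.leaf 2417530541570)) (.node (.leaf 2745021557908) (.leaf 4174172336028)))))) (.node (.node (.node (.node (.node (.node (.leaf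 279172940932) (.leaf 4344360455820)) (.leaf 2943663912344)) (.node (.leaf 98247909662) (.leaf 2695092601729))) (.node (.node (.leaf 1441498407704) (.leaf 3355443794051)) (.node (.leaf 2450816297625) (.leaf 3911105526418)))) (.node (.node (.node (.leaf 643171505937) (.leaf 2874944484500)) (.node (.leaf 1316407791109) (.leaf 3706020789149))) (.node (.node (.leaf 1169841996166) (.leaf 2902324909317)) (.node (.leaf 2697776976028) (.leaf 4120485232898))))) (.node (.node (.node (.node (.node (.leaf 9663798155) (.leaf 3760244921738)) (.leaf 3048890636176)) (.node (.leaf 1450088679066) (.leaf 2822867928201))) (.node (.node (.leaf 1884954221569) (.leaf 3477313666050)) (.node (.leaf 2604898286109) (.leaf 3892315056151)))) (.node (.node (.node (.leaf 1055488462345) (.leaf 3248069779606)) (.node (.leaf 2345589573898) (.leaf 3813394984328))) (.node (.node (.leaf 217969616030) (.leaf 2627983915277)) (.node (.leaf 2348810911491) (.leaf 4221953858563))))))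
def dF_1409 : BT := .node (.node (.node (.node (.node (.node (.node (.leaf 96099916677) (.leaf 4262756014469)) (.leaf 2859912030221)) (.node (.leaf 753229927180) (.leaf 2316061714563))) (.node (.node (.leaf 1191853708035) (.leaf 2515241003926)) (.node (.leaf 1960653136406) (.leaf 3856881551370)))) (.node (.node (.node (.node (.leaf 48855350530) (.leaf 4445292211203)) (.leaf 3084324124819)) (.node (.leaf 1844688893454) (.leaf 2381023362317))) (.node (.node (.leaf 2022393209737) (.leaf 2561411739400)) (.node (.leaf 2630668096017) (.leaf 4057671320339))))) (.node (.node (.node (.node (.node (.leaf 380104696338) (.leaf 4377109589249)) (.leaf 2990371692814)) (.node (.leaf 383325910797) (.leaf 2397129235988))) (.node (.node (.leaf 1642825382794) (.leaf 3403762382100)) (.node (.leaf 2509335240974) (.leaf 3962645146259)))) (.node (.node (.node (.leaf 770409943428) (.leaf 3196530172292)) (.node (.leaf 639413677056) (.leaf 3757023538052))) (.node (.node (.leaf 1632087940379) (.leaf 2784213297543)) (.node (.leaf 2750390337948) (.leaf 4155918720668)))))) (.node (.node (.node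 (.node (.node (.node (.leaf 40265377038) (.leaf 4330938679705)) (.leaf 2883534368515)) (.node (.leaf 202937283852) (.leaf 3104725049229))) (.node (.node (.leaf 1381369185289) (.leaf 3336653513615)) (.node (.leaf 2436857650578) (.leaf 3907347429147)))) (.node (.node (.node (.leaf 625454615050) (.leaf 3136937486734)) (.node (.leaf 696321770116) (.leaf 3699041465629))) (.node (.node (.leaf 196494785431) (.leaf 3572876771225)) (.node (.leaf 2690260781569) (.leaf 4108674069136))))) (.node (.node (.node (.node (.node (.leaf 466540825239) (.leaf 4412543077774)) (.leaf 2448668840454)) (.node (.leaf 711353994381) (.leaf 2524904501259))) (.node (.node (.leaf 1828582765705) (.leaf 3465502563228)) (.node (.leaf 2397129235862) (.leaf 4009352904598)))) (.node (.node (.node (.leaf 1001264489740) (.leaf 3228742265749)) (.node (.leaf 1843078398347) (.leaf 3800510092292))) (.node (.node (.leaf 430034078750) (.leaf 2784213130501)) (.node (.leaf 2735894833431) (.leaf 4131759545218))))))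
def dF_1416 : BT := .node (.node (.node (.node (.node (.node (.node (.leaf 121332855069) (.leaf 4199942161932)) (.leaf 2865817611537)) (.node (.leaf 770946894622) (.leaf 2836289704471))) (.node (.node (.leaf 1234803392028) (.leaf 3283503280655)) (.node (.leaf 1053341296134) (.leaf 3860102777604)))) (.node (.node (.node (.node (.leaf 358629876359) (.leaf 4449050308495)) (.leaf 2658048600454)) (.node (.leaf 1268089396494) (.leaf 3642669699335))) (.node (.node (.leaf 2072859085572) (.leaf 2687039396741)) (.node (.leaf 2642479259012) (.leaf 4062503159698))))) (.node (.node (.node (.node (.node (.leaf 18253615362) (.leaf 3149822686219)) (.leaf 3008088437146)) (.node (.leaf 634044937630) (.leaf 2501282283393))) (.node (.node (.leaf 1691680248708) (.leaf 3357591495701)) (.node (.leaf 2528125727379) (.leaf 3978751277580)))) (.node (.node (.node (.leaf 814970239754) (.leaf 3190087719694)) (.node (.leaf 826244883972) (.leaf 3745749246098))) (.node (.node (.leaf 926102755607) (.leaf 3386582433054)) (.node (.leaf 2745558498577) (.leaf 4160750560014)))))) (.node (.node (.node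 (.node (.node (.node (.leaf 261456196109) (.leaf 4333086148353)) (.leaf 2437931510276)) (.node (.leaf 251792883352) (.leaf 3447785578240))) (.node (.node (.leaf 1410897093260) (.leaf 3348464676495)) (.node (.leaf 2437931392655) (.leaf 3921306076189)))) (.node (.node (.node (.leaf 578210123671) (.leaf 2769717625351)) (.node (.leaf 1127429382918) (.leaf 3702262692226))) (.node (.node (.leaf 895500895873) (.leaf 2687576400259)) (.node (.leaf 2688113297297) (.leaf 4109747813249))))) (.node (.node (.node (.node (.node (.leaf 51002856470) (.leaf 2454574862986)) (.leaf 2459943243778)) (.node (.leaf 756988166427) (.leaf 3048353882629))) (.node (.node (.leaf 1861331483544) (.leaf 3471944980503)) (.node (.leaf 2408403527702) (.leaf 3236795613982)))) (.node (.node (.node (.leaf 1044214172819) (.leaf 3246996049947)) (.node (.leaf 2341831476509) (.leaf 3804268189457))) (.node (.node (.leaf 966904667422) (.leaf 3237332359966)) (.node (.leaf 1895154986509) (.leaf 2366527985566))))))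
def dF_1424 : BT := .node (.node (.node (.node (.node (.node (.node (.leaf 5905605130) (.leaf 4269735381252)) (.leaf 2863133256347)) (.node (.leaf 542239755294) (.leaf 2517925164692))) (.node (.node (.leaf 1205812355972) (.leaf 3284577022746)) (.node (.leaf 2339684000900) (.leaf 3854196474892)))) (.node (.node (.node (.node (.leaf 110595486999) (.leaf 4446902753289)) (.leaf 3085397813783)) (.node (.leaf 2031519712391) (.leaf 3641596264337))) (.node (.node (.leaf 2044941791493) (.leaf 2033130934797)) (.node (.leaf 2623688723479) (.leaf 2584497538699))))) (.node (.node (.node (.node (.node (.leaf 336618152601) (.leaf 4384088912768)) (.leaf 3000035371653)) (.node (.leaf 17179873307) (.leaf 2398202977540))) (.node (.node (.leaf 1668595192460) (.leaf 3408594232986)) (.node (.leaf 2518998919704) (.leaf 3970698211867)))) (.node (.node (.node (.leaf 803695947532) (.leaf 3190624590745)) (.node (.leaf 1902670964502) (.leaf 3748970472346))) (.node (.node (.leaf 1226213486339) (.leaf 3612068245516)) (.node (.leaf 2741800401304) (.leaf 4169877264012)))))) (.node (.node (.node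 (.node (.node (.node (.leaf 249108162577) (.leaf 4333623035008)) (.leaf 2936147683842)) (.node (.leaf 1831267144990) (.leaf 2812667317121))) (.node (.node (.leaf 1312649711637) (.leaf 3349001547549)) (.node (.leaf 2440615747868) (.leaf 2871186569483)))) (.node (.node (.node (.leaf 11274439689) (.leaf 3135863679382)) (.node (.leaf 700079936660) (.leaf 2652143187848))) (.node (.node (.leaf 1048509106846) (.leaf 3373697665421)) (.node (.leaf 2683818328987) (.leaf 4118337583371))))) (.node (.node (.node (.node (.node (.leaf 483183936018) (.leaf 4415227432985)) (.leaf 3042985054748)) (.node (.leaf 1902670965787) (.leaf 3117073098120))) (.node (.node (.leaf 229781191302) (.leaf 3467650047379)) (.node (.leaf 2582349702427) (.leaf 4018479660294)))) (.node (.node (.node (.leaf 1035087365261) (.leaf 2798171965079)) (.node (.leaf 578210530060) (.leaf 3802120705297))) (.node (.node (.leaf 145492447617) (.leaf 2532957556631)) (.node (.leaf 2375654452228) (.leaf 4207458340507))))))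
def dF_1431 : BT := .node (.node (.node (.node (.node (.node (.node (.leaf 113816660496) (.leaf 4276714704535)) (.leaf 2876555032348)) (.node (.leaf 7516195995) (.leaf 2743411093376))) (.node (.node (.leaf 1246614554897) (.leaf 3281355783829)) (.node (.leaf 2377801836682) (.leaf 3869766456347)))) (.node (.node (.node (.leaf 340376186646) (.leaf 3096672158744)) (.node (.leaf 1753957687694) (.leaf 2493766257931))) (.node (.node (.leaf 2084670248460) (.leaf 2760590882701)) (.node (.leaf 2639258032657) (.leaf 4064113598472))))) (.node (.node (.node (.node (.node (.leaf 355408628483) (.leaf 4387847009935)) (.leaf 3008088430229)) (.node (.leaf 1313186563855) (.leaf 2383170589568))) (.node (.node (.leaf 1633161718787) (.leaf 3420405395865)) (.node (.leaf 2527588856336) (.leaf 3975530026247)))) (.node (.node (.node (.leaf 824097046417) (.leaf 3186866323861)) (.node (.leaf 2310692956179) (.leaf 3744675374858))) (.node (.node (.leaf 92342335617) (.leaf 2668786068354)) (.node (.leaf 2685428955156) (.leaf 4155918708374)))))) (.node (.node (.node (.node (.node (.node (.leaf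 261456198664) (.leaf 4337381125012)) (.leaf 2940442686108)) (.node (.leaf 161061312026) (.leaf 2468533184542))) (.node (.node (.leaf 1437740645139) (.leaf 3352222773893)) (.node (.leaf 2447595071389) (.leaf 3917011107865)))) (.node (.node (.node (.leaf 639950279709) (.leaf 3149822391809)) (.node (.leaf 129385973534) (.leaf 3718905694212))) (.node (.node (.leaf 900332732683) (.leaf 2742337344391)) (.node (.leaf 2688650111765) (.leaf 4105452750221))))) (.node (.node (.node (.node (.node (.leaf 506806143114) (.leaf 4420059272337)) (.leaf 3051038120348)) (.node (.leaf 624917890586) (.leaf 3505767897348))) (.node (.node (.leaf 1875827413892) (.leaf 3475166242060)) (.node (.leaf 2589865897092) (.leaf 3762929161238)))) (.node (.node (.node (.leaf 1050119754259) (.leaf 3238406113298)) (.node (.leaf 2344515831699) (.leaf 1700807957918))) (.node (.node (.leaf 834834776478) (.leaf 2972654902790)) (.node (.leaf 2800319344664) (.leaf 4207995199637))))))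
def dF_1440 : BT := .node (.node (.node (.node (.node (.node (.node (.leaf 99321142921) (.leaf 4265977283867)) (.leaf 2868501966749)) (.node (.leaf 147639646494) (.leaf 2398739673867))) (.node (.node (.leaf 1196685548179) (.leaf 3289408858637)) (.node (.leaf 645319402374) (.leaf 3856344680334)))) (.node (.node (.node (.node (.leaf 382252201748) (.leaf 4445829082269)) (.leaf 3088619093135)) (.node (.leaf 691490002435) (.leaf 2413772488201))) (.node (.node (.leaf 231391848066) (.leaf 2887292453002)) (.node (.leaf 2627446869775) (.leaf 4057134449411))))) (.node (.node (.node (.node (.node (.leaf 21474928916) (.leaf 4377646460186)) (.leaf 2987687324166)) (.node (.leaf 28454215582) (.leaf 3486440476811))) (.node (.node (.leaf 1655710287493) (.leaf 2929168507652)) (.node (.leaf 2518462048769) (.leaf 3970161340932)))) (.node (.node (.node (.leaf 724775919744) (.leaf 3186329622429)) (.node (.leaf 1132260919936) (.leaf 3750581085469))) (.node (.node (.leaf 375272994565) (.leaf 3610994615066)) (.node (.leaf 2746095369626) (.leaf 4169877367704)))))) (.node (.node (.node (.node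 (.node (.node (.leaf 179851813402) (.leaf 4328254266113)) (.leaf 2929168394267)) (.node (.leaf 1808718536350) (.leaf 2632815600926))) (.node (.node (.leaf 1365263059974) (.leaf 3338264126848)) (.node (.leaf 2431488940174) (.leaf 3908958042258)))) (.node (.node (.node (.leaf 516469967116) (.leaf 3140158647702)) (.node (.leaf 825170995969) (.leaf 3564823737991))) (.node (.node (.leaf 1871532489239) (.leaf 3567508060825)) (.node (.leaf 2688650168348) (.leaf 4107063456015))))) (.node (.node (.node (.node (.node (.leaf 490700130693) (.leaf 4414153690899)) (.leaf 2595234710919)) (.node (.leaf 1844152022426) (.leaf 2422899209353))) (.node (.node (.leaf 1845762635549) (.leaf 3470871273624)) (.node (.leaf 2587718412815) (.leaf 4006668562694)))) (.node (.node (.node (.leaf 1018444147725) (.leaf 2527589000322)) (.node (.leaf 2339147121295) (.leaf 2347737404556))) (.node (.node (.leaf 2011655754523) (.leaf 2640868687361)) (.node (.leaf 2750927219465) (.leaf 4210679566749))))))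
def dF_1447 : BT := .node (.node (.node (.node (.node (.node (.node (.leaf 118111628818) (.leaf 3926137999105)) (.leaf 2859912030094)) (.node (.leaf 104689852815) (.leaf 2954401382784))) (.node (.node (.leaf 1239098360453) (.leaf 3285650752149)) (.node (.leaf 2377801836177) (.leaf 2706904060684)))) (.node (.node (.node (.leaf 339302444566) (.leaf 3099356511629)) (.node (.leaf 1401233414414) (.leaf 3642132888072))) (.node (.node (.leaf 2060511051536) (.leaf 2372433345282)) (.node (.leaf 2637110548506) (.leaf 3932580399241))))) (.node (.node (.node (.node (.node (.leaf 336081218307) (.leaf 1321240360205)) (.leaf 3006477824025)) (.node (.leaf 539555671575) (.leaf 3026342123917))) (.node (.node (.leaf 1692217518597) (.leaf 3420942267012)) (.node (.leaf 2520609532827) (.leaf 3976603793295)))) (.node (.node (.node (.leaf 821412691219) (.leaf 3191698241667)) (.node (.leaf 1128503207691) (.leaf 3759707893134))) (.node (.node (.leaf 2255394707584) (.leaf 2681671027972)) (.node (.leaf 2739116046095) (.leaf 2833605664777)))))) (.node (.node (.node (.node (.node (.node (.leaf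 265214255109) (.leaf 3885872695582)) (.leaf 2946348267648)) (.node (.leaf 338765548418) (.leaf 3301756895881))) (.node (.node (.leaf 1428076951053) (.leaf 3138011277827)) (.node (.leaf 2455111266048) (.leaf 3919158592027)))) (.node (.node (.node (.leaf 637802795537) (.leaf 3002182822919)) (.node (.leaf 1315334091806) (.leaf 3702262692503))) (.node (.node (.leaf 1044214172805) (.leaf 2401423893900)) (.node (.leaf 2694018822166) (.leaf 3564823835148))))) (.node (.node (.node (.node (.node (.leaf 500900572695) (.leaf 2742337671944)) (.leaf 3045132470403)) (.node (.leaf 635118440347) (.leaf 2617246399243))) (.node (.node (.leaf 1854889036824) (.leaf 3467113141143)) (.node (.leaf 2588255283856) (.leaf 3559991961484)))) (.node (.node (.node (.leaf 380641726346) (.leaf 3240553597465)) (.node (.leaf 2341294605835) (.leaf 3805341931661))) (.node (.node (.leaf 209379817477) (.leaf 2648384973470)) (.node (.leaf 2798708731537) (.leaf 4211216428800))))))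
def dF_1455 : BT := .node (.node (.node (.node (.node (.node (.node (.leaf 106837336854) (.leaf 3746823113356)) (.leaf 2634426249475)) (.node (.leaf 45634087198) (.leaf 3073586611975))) (.node (.node (.leaf 1221918487172) (.leaf 3287798248979)) (.node (.leaf 2376190676098) (.leaf 2603287974534)))) (.node (.node (.node (.node (.leaf 428959939079) (.leaf 4447976566428)) (.leaf 3089692782100)) (.node (.leaf 699542965134) (.leaf 3646428103812))) (.node (.node (.leaf 2056752929817) (.leaf 2385318029312)) (.node (.leaf 2632815531156) (.leaf 2934000502531))))) (.node (.node (.node (.node (.node (.leaf 360777342619) (.leaf 4108137263646)) (.leaf 3009699050269)) (.node (.leaf 33823227140) (.leaf 2507724599446))) (.node (.node (.leaf 1685775065741) (.leaf 3406983619856)) (.node (.leaf 2513630209296) (.leaf 3969624469779)))) (.node (.node (.node (.leaf 815507109789) (.leaf 3186866493458)) (.node (.leaf 1961189592323) (.leaf 3747359859225))) (.node (.node (.leaf 1144072441495) (.leaf 3428458384260)) (.node (.leaf 2695092633876) (.leaf 4169340496659)))))) (.node (.node (.node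 (.node (.node (.node (.leaf 67108925336) (.leaf 4334159905946)) (.leaf 2499134761350)) (.node (.leaf 691489899535) (.leaf 2538326299668))) (.node (.node (.leaf 1403917769728) (.leaf 3345780321298)) (.node (.leaf 2438468263704) (.leaf 3918621721089)))) (.node (.node (.node (.leaf 634044698259) (.leaf 2780455200132)) (.node (.leaf 1895154621958) (.leaf 3702262691855))) (.node (.node (.leaf 882079120518) (.leaf 2836826733982)) (.node (.leaf 2693482007699) (.leaf 1896229042078))))) (.node (.node (.node (.node (.node (.leaf 484794441111) (.leaf 4416301175065)) (.leaf 3042985054738)) (.node (.leaf 2026151304986) (.leaf 3169686653316))) (.node (.node (.leaf 1860795024780) (.leaf 3471945015695)) (.node (.leaf 2582349702418) (.leaf 4021164089625)))) (.node (.node (.node (.leaf 1041529792261) (.leaf 2722473169411)) (.node (.leaf 2340757734415) (.leaf 3639448819222))) (.node (.node (.leaf 359166813327) (.leaf 2643553057025)) (.node (.leaf 2030983326869) (.leaf 4219806342668))))))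
def dF_1462 : BT := .node (.node (.node (.node (.node (.node (.node (.leaf 25232961926) (.leaf 4272956579458)) (.leaf 2871186321944)) (.node (.leaf 2036888320286) (.leaf 2688650253312))) (.node (.node (.leaf 1247151426826) (.leaf 3301756896019)) (.node (.leaf 2390686741253) (.leaf 3870303327628)))) (.node (.node (.node (.leaf 139586523159) (.leaf 3095061545614)) (.node (.leaf 547608460815) (.leaf 3648038716827))) (.node (.node (.leaf 2088965149335) (.leaf 2994129878665)) (.node (.leaf 2638184241556) (.leaf 2441689877127))))) (.node (.node (.node (.node (.node (.leaf 401579538053) (.leaf 4387310138894)) (.leaf 2996814145298)) (.node (.leaf 1313186563865) (.leaf 2938295147522))) (.node (.node (.leaf 1644972879498) (.leaf 3421479039111)) (.node (.leaf 2520072619271) (.leaf 3896609978374)))) (.node (.node (.node (.leaf 825170774423) (.leaf 2920578432135)) (.node (.leaf 2311229827225) (.leaf 3746822989214))) (.node (.node (.leaf 107374721930) (.leaf 2554969429506)) (.node (.leaf 2742874073748) (.leaf 4124243341591)))))) (.node (.node (.node (.node (.node (.node (.leaf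 277025415317) (.leaf 4342212940160)) (.leaf 2947958880664)) (.node (.leaf 100395342732) (.leaf 2457795608833))) (.node (.node (.leaf 472983617050) (.leaf 3354370257944)) (.node (.leaf 2455111265945) (.leaf 3915400494738)))) (.node (.node (.node (.leaf 641560892816) (.leaf 2876555097623)) (.node (.leaf 1316944662532) (.leaf 3710315757469))) (.node (.node (.leaf 1058172846490) (.leaf 2742874233734)) (.node (.leaf 2701535073307) (.leaf 4122632716293))))) (.node (.node (.node (.node (.node (.leaf 510027487745) (.leaf 4420596143387)) (.leaf 3049427507219)) (.node (.leaf 1281511172507) (.leaf 2632815699594))) (.node (.node (.leaf 1881196098971) (.leaf 3477850597135)) (.node (.leaf 2604898286097) (.leaf 3737696175620)))) (.node (.node (.node (.leaf 993748309376) (.leaf 3240553597454)) (.node (.leaf 1909113522324) (.leaf 3805341836421))) (.node (.node (.leaf 233001981710) (.leaf 2423435958174)) (.node (.leaf 2813741120769) (.leaf 4122095868949))))))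
def dF_1472 : BT := .node (.node (.node (.node (.node (.node (.node (.leaf 83215015172) (.leaf 4265977128333)) (.leaf 2868501966860)) (.node (.leaf 49929146760) (.leaf 1835025391767))) (.node (.node (.leaf 1194538064137) (.leaf 2378875793413)) (.node (.leaf 2358474482324) (.leaf 3855270938267)))) (.node (.node (.node (.node (.leaf 470299009813) (.leaf 4445829082242)) (.leaf 3086471608977)) (.node (.leaf 1832340859535) (.leaf 2378339007875))) (.node (.node (.leaf 2032593757457) (.leaf 3364033971589)) (.node (.leaf 2622078159377) (.leaf 3978214424973))))) (.node (.node (.node (.node (.node (.leaf 381715309457) (.leaf 4377646394113)) (.leaf 2826626064791)) (.node (.leaf 334470877577) (.leaf 3123515620620))) (.node (.node (.leaf 1646046609282) (.leaf 3147138096902)) (.node (.leaf 2500745304334) (.leaf 3960497662095)))) (.node (.node (.node (.leaf 782757976452) (.leaf 3194919559069)) (.node (.leaf 1699733460117) (.leaf 3759171022109))) (.node (.node (.leaf 955093580416) (.leaf 2785287001741)) (.node (.leaf 2741800401308) (.leaf 4162898044187)))))) (.node (.node (.node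 (.node (.node (.node (.leaf 32749182478) (.leaf 4331475440653)) (.leaf 2930242136349)) (.node (.leaf 456877260958) (.leaf 3347390961408))) (.node (.node (.leaf 1384053541257) (.leaf 3077881733506)) (.node (.leaf 2434173295377) (.leaf 3740380575637)))) (.node (.node (.node (.leaf 202937354251) (.leaf 3142843056023)) (.node (.leaf 827855248644) (.leaf 3699578336665))) (.node (.node (.leaf 422517678220) (.leaf 3570729287067)) (.node (.leaf 2458332548759) (.leaf 4115653392655))))) (.node (.node (.node (.node (.node (.leaf 482110194052) (.leaf 2551748497035)) (.leaf 2838974105620)) (.node (.leaf 349503047055) (.leaf 3286187555594))) (.node (.node (.leaf 1844688893457) (.leaf 3468186918427)) (.node (.leaf 2580202218371) (.leaf 4005594830465)))) (.node (.node (.node (.leaf 1009854426381) (.leaf 2585034043398)) (.node (.leaf 2338073379227) (.leaf 3801583555716))) (.node (.node (.leaf 790810908675) (.leaf 2821257382922)) (.node (.leaf 2786360187266) (.leaf 4219269503389))))))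
def dF_1479 : BT := .node (.node (.node (.node (.node (.node (.node (.leaf 112742918429) (.leaf 4272419678854)) (.leaf 2868501966734)) (.node (.leaf 269) (.leaf 2518462020630))) (.node (.node (.leaf 1234266520977) (.leaf 3234111157652)) (.node (.leaf 2377801836300) (.leaf 2526515434241)))) (.node (.node (.node (.leaf 430033681174) (.leaf 3081639694727)) (.node (.leaf 1406065253775) (.leaf 3642133135388))) (.node (.node (.leaf 2069100988176) (.leaf 2563022139142)) (.node (.leaf 2639794903709) (.leaf 3706557745153))))) (.node (.node (.node (.node (.node (.leaf 358092983682) (.leaf 4187057288325)) (.leaf 2999498500506)) (.node (.leaf 386547088012) (.leaf 2691334583812))) (.node (.node (.leaf 1692754389149) (.leaf 3412352330372)) (.node (.leaf 2521146403868) (.leaf 3979825019546)))) (.node (.node (.node (.leaf 701153606661) (.leaf 2483565600663)) (.node (.leaf 1127429465732) (.leaf 3752728569617))) (.node (.node (.leaf 1226213700250) (.leaf 2444910784140)) (.node (.leaf 2747705982735) (.leaf 4158603063686)))))) (.node (.node (.node (.node (.node (.node (.leaf 102005536131)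 (.leaf 4005058038657)) (.leaf 2937758331008)) (.node (.leaf 635118485022) (.leaf 2883534288776))) (.node (.node (.leaf 1419487029901) (.leaf 3004867292419)) (.node (.leaf 2446521329408) (.leaf 3912716139549)))) (.node (.node (.node (.leaf 636729051415) (.leaf 2714420013574)) (.node (.leaf 1280437427614) (.leaf 3703873305090))) (.node (.node (.leaf 1055488461963) (.leaf 2517925253635)) (.node (.leaf 2691334523535) (.leaf 4108673829770))))) (.node (.node (.node (.node (.node (.leaf 495531929484) (.leaf 4417374917139)) (.leaf 2461553810818)) (.node (.leaf 767188716187) (.leaf 3512210334466))) (.node (.node (.leaf 1859721075099) (.leaf 2690797837955)) (.node (.leaf 2405182301461) (.leaf 3560528834828)))) (.node (.node (.node (.leaf 1019518111242) (.leaf 3238406113307)) (.node (.leaf 769873446278) (.leaf 3743601776523))) (.node (.node (.leaf 653372332187) (.leaf 2422361822476)) (.node (.leaf 2798708731535) (.leaf 4211216437775))))))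
def dF_1487 : BT := .node (.node (.node (.node (.node (.node (.node (.leaf 1073767178) (.leaf 4057671371412)) (.leaf 2866354482585)) (.node (.leaf 420906797315) (.leaf 2848637831304))) (.node (.node (.leaf 1214402292612) (.leaf 3283503280664)) (.node (.leaf 2359011353751) (.leaf 3863860875020)))) (.node (.node (.node (.node (.leaf 331786249986) (.leaf 4446902824468)) (.leaf 3083787233414)) (.node (.leaf 825707659535) (.leaf 3641059385479))) (.node (.node (.leaf 2053531728133) (.leaf 2594697842312)) (.node (.leaf 2624225594516) (.leaf 4060892212233))))) (.node (.node (.node (.node (.node (.leaf 358629859483) (.leaf 4356708496279)) (.leaf 3008625308293)) (.node (.leaf 17716744335) (.leaf 2898566637190))) (.node (.node (.leaf 1677185129101) (.leaf 2992519276419)) (.node (.leaf 2516314564499) (.leaf 3900368120717)))) (.node (.node (.node (.leaf 754303825024) (.leaf 3195456430098)) (.node (.leaf 1896765384086) (.leaf 3755949795865))) (.node (.node (.leaf 2218887750406) (.leaf 2362769521293)) (.node (.leaf 2750927111690) (.leaf 2366527973790)))))) (.node (.node (.node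 (.node (.node (.node (.leaf 249108162820) (.leaf 3900905080587)) (.leaf 2935610846734)) (.node (.leaf 2018634780422) (.leaf 2777233989249))) (.node (.node (.leaf 1395327833088) (.leaf 3347927805465)) (.node (.leaf 2439542005786) (.leaf 3741454318081)))) (.node (.node (.node (.leaf 632970955913) (.leaf 3133716195222)) (.node (.leaf 1129039694218) (.leaf 3701725820829))) (.node (.node (.leaf 1041529779462) (.leaf 2851322114974)) (.node (.leaf 2687576426264) (.leaf 4117800853388))))) (.node (.node (.node (.node (.node (.leaf 489089517446) (.leaf 4413616820374)) (.leaf 3042985054744)) (.node (.leaf 1955284327707) (.leaf 2915746680840))) (.node (.node (.leaf 1852741954957) (.leaf 3469797531537)) (.node (.leaf 2581275960345) (.leaf 4021164089627)))) (.node (.node (.node (.leaf 1039382333458) (.leaf 3242701081741)) (.node (.leaf 1130650698630) (.leaf 3803193705607))) (.node (.node (.leaf 217969916318) (.leaf 2675228493697)) (.node (.leaf 2796024376345) (.leaf 4212827050905))))))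
def dF_1494 : BT := .node (.node (.node (.node (.node (.node (.node (.leaf 117574732697) (.leaf 4273493348993)) (.leaf 2873870677147)) (.node (.leaf 922881580042) (.leaf 2515240810113))) (.node (.node (.leaf 1248762038533) (.leaf 3295851314692)) (.node (.leaf 2382096804613) (.leaf 3870303327387)))) (.node (.node (.node (.leaf 377420362370) (.leaf 3095061545618)) (.node (.leaf 531502329614) (.leaf 3010236073502))) (.node (.node (.leaf 2080912151058) (.leaf 3315178502784)) (.node (.leaf 2435247086486) (.leaf 4064650643857))))) (.node (.node (.node (.node (.node (.leaf 392989601412) (.leaf 4387310138908)) (.leaf 3005404081938)) (.node (.leaf 397284477726) (.leaf 2410551047942))) (.node (.node (.leaf 386547461387) (.leaf 3417721040659)) (.node (.leaf 2527051985295) (.leaf 3978751016842)))) (.node (.node (.node (.leaf 824633917576) (.leaf 3185255710741)) (.node (.leaf 2310156085139) (.leaf 2514704245000))) (.node (.node (.leaf 2260763948546) (.leaf 2681133974144)) (.node (.leaf 2739115976471) (.leaf 4173635465100)))))) (.node (.node (.node (.node (.node (.node (.leaf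 262529941252) (.leaf 4342212956165)) (.leaf 2944200783387)) (.node (.leaf 158376930829) (.leaf 2602750801822))) (.node (.node (.leaf 1373316135812) (.leaf 3355444000028)) (.node (.leaf 2451353168666) (.leaf 3923990431378)))) (.node (.node (.node (.leaf 641024018697) (.leaf 3150359262746)) (.node (.leaf 1380832343198) (.leaf 3718905694109))) (.node (.node (.leaf 895500931335) (.leaf 2610803979651)) (.node (.leaf 2697240105100) (.leaf 4105452818710))))) (.node (.node (.node (.node (.node (.leaf 508416874625) (.leaf 2497524536328)) (.leaf 3049964378264)) (.node (.leaf 702764191386) (.leaf 2681133923336))) (.node (.node (.leaf 1875827390491) (.leaf 3331821709462)) (.node (.leaf 2598455833732) (.leaf 3896610023446)))) (.node (.node (.node (.leaf 1051193483269) (.leaf 3239479855376)) (.node (.leaf 2345052702745) (.leaf 3812321255069))) (.node (.node (.leaf 834297679390) (.leaf 2534031341333)) (.node (.leaf 2805151184129) (.leaf 4207458328597))))))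
def dF_1503 : BT := .node (.node (.node (.node (.node (.node (.node (.leaf 2147508232) (.leaf 4266514154899)) (.leaf 2859912030109)) (.node (.leaf 338765695243) (.leaf 3030100103557))) (.node (.node (.leaf 1200443626261) (.leaf 3285650764828)) (.node (.leaf 2374043738908) (.leaf 3855807809296)))) (.node (.node (.node (.node (.leaf 333933808791) (.leaf 4446365882505)) (.leaf 3091840266260)) (.node (.leaf 625454808323) (.leaf 3640522522265))) (.node (.node (.leaf 2037962096013) (.leaf 2557116764549)) (.node (.leaf 2632278660119) (.leaf 3943854687639))))) (.node (.node (.node (.node (.node (.leaf 384936448405) (.leaf 4377109589135)) (.leaf 2993592872704)) (.node (.leaf 537407915934) (.leaf 2587718435846))) (.node (.node (.leaf 1664300224133) (.leaf 3156801775622)) (.node (.leaf 2515777693468) (.leaf 3973382567068)))) (.node (.node (.node (.leaf 797253494540) (.leaf 3188477106587)) (.node (.leaf 1112933667734) (.leaf 3757560408986))) (.node (.node (.leaf 1220844797470) (.leaf 3611531486104)) (.node (.leaf 2750390337944) (.leaf 4161287431064)))))) (.node (.node (.node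 (.node (.node (.node (.leaf 254476873089) (.leaf 4332549292817)) (.leaf 2935610846739)) (.node (.leaf 346818697868) (.leaf 2632815544455))) (.node (.node (.leaf 1388885363478) (.leaf 3346854063488)) (.node (.leaf 2445447583373) (.leaf 2624225949707)))) (.node (.node (.node (.leaf 629749729949) (.leaf 3138011163542)) (.node (.leaf 701153680020) (.leaf 3700115206806))) (.node (.node (.leaf 464393782532) (.leaf 3569655544977)) (.node (.leaf 2692408265627) (.leaf 4006668598421))))) (.node (.node (.node (.node (.node (.leaf 493384485777) (.leaf 2646774648715)) (.leaf 3045132539012)) (.node (.leaf 1840930796187) (.leaf 3310346727048))) (.node (.node (.leaf 1832340863115) (.leaf 3462281336984)) (.node (.leaf 2583423444509) (.leaf 3937949068419)))) (.node (.node (.node (.leaf 1026497428621) (.leaf 2961917555590)) (.node (.leaf 1122060763654) (.leaf 3433827259782))) (.node (.node (.leaf 1998233673741) (.leaf 2626909998878)) (.node (.leaf 2795487395465) (.leaf 4216048277147))))))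
def dF_1510 : BT := .node (.node (.node (.node (.node (.node (.node (.leaf 109521692178) (.leaf 4276177833626)) (.leaf 2872796935180)) (.node (.leaf 389768378654) (.leaf 2404645395592))) (.node (.node (.leaf 223875466774) (.leaf 3178276581506)) (.node (.leaf 2377801836546) (.leaf 3742528050070)))) (.node (.node (.node (.leaf 450971599238) (.leaf 3095598416668)) (.node (.leaf 1509681392653) (.leaf 3652870556288))) (.node (.node (.leaf 2077154024475) (.leaf 3158949203980)) (.node (.leaf 2642479258899) (.leaf 4063576901789))))) (.node (.node (.node (.node (.node (.leaf 380104609031) (.leaf 3683472372873)) (.leaf 2997887887385)) (.node (.leaf 627065420693) (.leaf 3314641805060))) (.node (.node (.leaf 1695438731785) (.leaf 3421479137949)) (.node (.leaf 2520072661784) (.leaf 3976066909068)))) (.node (.node (.node (.leaf 823560174211) (.leaf 2479270632343)) (.node (.leaf 2309619116806) (.leaf 3751117956494))) (.node (.node (.leaf 2255395239690) (.leaf 2991445541278)) (.node (.leaf 2745021614485) (.leaf 4156992426142)))))) (.node (.node (.node (.node (.node (.node (.leaf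 92878731534) (.leaf 4341139229456)) (.leaf 2949032622748)) (.node (.leaf 105763742366) (.leaf 2583423621508))) (.node (.node (.leaf 1429687579661) (.leaf 2805151311619)) (.node (.leaf 2456185008029) (.leaf 3910568655387)))) (.node (.node (.node (.leaf 638339666576) (.leaf 2629057571843)) (.node (.leaf 456877233950) (.leaf 3710315757572))) (.node (.node (.leaf 885300347141) (.leaf 3074660343691)) (.node (.leaf 2685428885526) (.leaf 4015258529927))))) (.node (.node (.node (.node (.node (.leaf 8053184155) (.leaf 4418985530259)) (.leaf 3047280023180)) (.node (.leaf 168577506586) (.leaf 2444910939401))) (.node (.node (.leaf 1868311208729) (.leaf 3463355043863)) (.node (.leaf 2588791576461) (.leaf 1319629640579)))) (.node (.node (.node (.leaf 1048509141148) (.leaf 3246996049938)) (.node (.leaf 2343442089619) (.leaf 1898913324941))) (.node (.node (.leaf 26306740894) (.leaf 2478733632387)) (.node (.leaf 2799782473627) (.leaf 4172561731742))))))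
def dF_1518 : BT := .node (.node (.node (.node (.node (.node (.node (.leaf 114890402700) (.leaf 4268124768025)) (.leaf 2863133256338)) (.node (.leaf 22548735631) (.leaf 2688113360773))) (.node (.node (.leaf 1230508423813) (.leaf 3285650764817)) (.node (.leaf 517544125831) (.leaf 2465312149150)))) (.node (.node (.node (.node (.leaf 134754683799) (.leaf 4448513437455)) (.leaf 2867965128454)) (.node (.leaf 640487150735) (.leaf 3144453800990))) (.node (.node (.leaf 2064269148933) (.leaf 2364916985990)) (.node (.leaf 2621004345090) (.leaf 4061966288665))))) (.node (.node (.node (.node (.node (.leaf 384399664646) (.leaf 4378720202257)) (.leaf 3001109113629)) (.node (.leaf 617401696014) (.leaf 2610803932801))) (.node (.node (.leaf 1618129331205) (.leaf 3408057301506)) (.node (.leaf 2521683275015) (.leaf 3969087465482)))) (.node (.node (.node (.leaf 814433368340) (.leaf 3188477106577)) (.node (.leaf 1273458353536) (.leaf 3754339182738))) (.node (.node (.leaf 1073742080007) (.leaf 3081639774878)) (.node (.leaf 2743411014419) (.leaf 4161287431042)))))) (.node (.node (.node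 (.node (.node (.node (.leaf 259845583367) (.leaf 3920769303710)) (.leaf 2443300186247)) (.node (.leaf 159450874398) (.leaf 2918967858180))) (.node (.node (.leaf 1407138995869) (.leaf 3347390934417)) (.node (.leaf 2437931392659) (.leaf 2614562277386)))) (.node (.node (.node (.leaf 627602247555) (.leaf 2768644028163)) (.node (.leaf 1277753207943) (.leaf 3697967724564))) (.node (.node (.leaf 890132221187) (.leaf 2518461885708)) (.node (.leaf 2684892071059) (.leaf 4102768489861))))) (.node (.node (.node (.node (.node (.leaf 99321236749) (.leaf 4415764304278)) (.leaf 2850248397460)) (.node (.leaf 1127966055067) (.leaf 2469607020298))) (.node (.node (.leaf 1283658795544) (.leaf 3463355079055)) (.node (.leaf 2580739089297) (.leaf 3713537056909)))) (.node (.node (.node (.leaf 1040992947078) (.leaf 3244848565789)) (.node (.leaf 1838246560905) (.leaf 3613142144652))) (.node (.node (.leaf 305479555609) (.leaf 3020436571678)) (.node (.leaf 2313914297735) (.leaf 4219805960200))))))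
def dF_1525 : BT := .node (.node (.node (.node (.node (.node (.node (.leaf 126164694540) (.leaf 4281546544133)) (.leaf 2874407548176)) (.node (.leaf 1782948728862) (.leaf 2398203052806))) (.node (.node (.leaf 1253057006343) (.leaf 3296388185629)) (.node (.leaf 2396055451539) (.leaf 3871377023106)))) (.node (.node (.node (.leaf 462245891459) (.leaf 2642479367683)) (.node (.leaf 549219360670) (.leaf 3049427651981))) (.node (.node (.leaf 2091649546764) (.leaf 2766496600576)) (.node (.leaf 2648921711500) (.leaf 4066260483084))))) (.node (.node (.node (.node (.node (.leaf 40802285826) (.leaf 4386772835979)) (.leaf 3001109113616)) (.node (.leaf 1173600148864) (.leaf 3313031140737))) (.node (.node (.leaf 1693828132875) (.leaf 3420405276436)) (.node (.leaf 2533494437888) (.leaf 3896073134229)))) (.node (.node (.node (.leaf 826781401629) (.leaf 2917894116099)) (.node (.leaf 2311766698259) (.leaf 3759171015168))) (.node (.node (.leaf 2266132659980) (.leaf 2554432375702)) (.node (.leaf 2747169042068) (.leaf 4173635464987)))))) (.node (.node (.node (.node (.node (.node (.leaf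 283467909252) (.leaf 3968550817793)) (.leaf 2939368944024)) (.node (.leaf 1112396794905) (.leaf 2457258750211))) (.node (.node (.leaf 1444183083402) (.leaf 3352759644819)) (.node (.leaf 2446521329305) (.leaf 3922379818257)))) (.node (.node (.node (.leaf 643708376977) (.leaf 3095598428949)) (.node (.leaf 1315334050441) (.leaf 3717295080986))) (.node (.node (.leaf 331249581197) (.leaf 3518652745886)) (.node (.leaf 2698850718106) (.leaf 4120485232028))))) (.node (.node (.node (.node (.node (.leaf 159450782731) (.leaf 4421669885575)) (.leaf 2856153978900)) (.node (.leaf 1318018403226) (.leaf 3016141502601))) (.node (.node (.leaf 1889249189889) (.leaf 3477850561943)) (.node (.leaf 2600603317789) (.leaf 3897683707029)))) (.node (.node (.node (.leaf 1054951593628) (.leaf 3246995881094)) (.node (.leaf 1896765491468) (.leaf 3812321164808))) (.node (.node (.leaf 120796028446) (.leaf 2808372380037)) (.node (.leaf 2815351733789) (.leaf 3139085229193))))))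
def dF_1538 : BT := .node (.node (.node (.node (.node (.node (.node (.leaf 95563045508) (.leaf 4264903541778)) (.leaf 2854543319694)) (.node (.leaf 410169379331) (.leaf 769336821918))) (.node (.node (.leaf 1131187295242) (.leaf 3172371000451)) (.node (.leaf 2336462774789) (.leaf 3857418422429)))) (.node (.node (.node (.node (.leaf 501974314755) (.leaf 4444755340187)) (.leaf 3089692835219)) (.node (.leaf 1897302255375) (.leaf 3637838167057))) (.node (.node (.leaf 2029909402269) (.leaf 1902671200262)) (.node (.leaf 2622078159379) (.leaf 3903052497668))))) (.node (.node (.node (.node (.node (.leaf 385473406738) (.leaf 4376035847064)) (.leaf 2988761079699)) (.node (.leaf 506269390747) (.leaf 2696166374275))) (.node (.node (.leaf 1642825382528) (.leaf 3402151780496)) (.node (.leaf 2502355917457) (.leaf 3958886994305)))) (.node (.node (.node (.leaf 773094281743) (.leaf 3191161461892)) (.node (.leaf 1700807202197) (.leaf 3751654827653))) (.node (.node (.leaf 1184337764354) (.leaf 2477659977734)) (.node (.leaf 2356327088906) (.leaf 4161287431068)))))) (.node (.node (.node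 (.node (.node (.node (.leaf 41875990158) (.leaf 4328791195549)) (.leaf 2932926491653)) (.node (.leaf 368293987864) (.leaf 2427730894983))) (.node (.node (.leaf 1379758572545) (.leaf 3333432287379)) (.node (.leaf 2436320779545) (.leaf 3906810558217)))) (.node (.node (.node (.leaf 10737567112) (.leaf 3142306197134)) (.node (.leaf 1498943900182) (.leaf 3699041445124))) (.node (.node (.leaf 353798412186) (.leaf 3582003428106)) (.node (.leaf 2684892071181) (.leaf 4114042779536))))) (.node (.node (.node (.node (.node (.leaf 429496841369) (.leaf 4413079948817)) (.leaf 2683818364418)) (.node (.leaf 461709154206) (.leaf 3180424124420))) (.node (.node (.leaf 1842004538269) (.leaf 3470871273628)) (.node (.leaf 2574833507855) (.leaf 3382287701641)))) (.node (.node (.node (.leaf 997506391957) (.leaf 3230352850718)) (.node (.leaf 2327872831749) (.leaf 3800510092185))) (.node (.node (.leaf 2010044773273) (.leaf 2439005184129)) (.node (.leaf 2790655652373) (.leaf 4218732632449))))))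
def dF_1545 : BT := .node (.node (.node (.node (.node (.node (.node (.leaf 118111628929) (.leaf 3481072010761)) (.leaf 2859912030098)) (.node (.leaf 125627933086) (.leaf 2386928643722))) (.node (.node (.leaf 1233729650052) (.leaf 3282429538577)) (.node (.leaf 2376728094107) (.leaf 3374234602369)))) (.node (.node (.node (.node (.leaf 446676683650) (.leaf 4448513437334)) (.leaf 2809982931463)) (.node (.leaf 1112933665934) (.leaf 2925947339038))) (.node (.node (.leaf 2067490375173) (.leaf 2795487641222)) (.node (.leaf 2637110548612) (.leaf 4062502890500))))) (.node (.node (.node (.node (.node (.leaf 36507230726) (.leaf 4378720202265)) (.leaf 2997887887389)) (.node (.leaf 205084718599) (.leaf 2382633761543))) (.node (.node (.leaf 1628866749829) (.leaf 2825552422147)) (.node (.leaf 2524904501248) (.leaf 3969087598739)))) (.node (.node (.node (.leaf 818191464321) (.leaf 3195456430094)) (.node (.leaf 644782515604) (.leaf 3751117956498))) (.node (.node (.leaf 1139777474580) (.leaf 2444373946882)) (.node (.leaf 2740189788179) (.leaf 4161287418774)))))) (.node (.node (.node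 (.node (.node (.node (.leaf 260382417677) (.leaf 4333086163846)) (.leaf 2928631496453)) (.node (.leaf 104689872542) (.leaf 2918967865239))) (.node (.node (.leaf 1403917769629) (.leaf 3344169708177)) (.node (.leaf 2440078876817) (.leaf 3925601044505)))) (.node (.node (.node (.leaf 635655311389) (.leaf 2531883915395)) (.node (.leaf 1845225624454) (.leaf 3703336433937))) (.node (.node (.leaf 933618519434) (.leaf 2851858866187)) (.node (.leaf 2693482007697) (.leaf 4110284682242))))) (.node (.node (.node (.node (.node (.leaf 497679454212) (.leaf 4155918782856)) (.leaf 3041374330502)) (.node (.leaf 700616707226) (.leaf 2571612260362))) (.node (.node (.leaf 1778653775640) (.leaf 3372623896962)) (.node (.leaf 2584497186574) (.leaf 3923990454403)))) (.node (.node (.node (.leaf 1040992947094) (.leaf 3241627339549)) (.node (.leaf 1961189999745) (.leaf 3803731279370))) (.node (.node (.leaf 210453403166) (.leaf 2545842458644)) (.node (.leaf 2357400841621) (.leaf 4219269503376))))))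
def dF_1553 : BT := .node (.node (.node (.node (.node (.node (.node (.leaf 2147508492) (.leaf 4266514154909)) (.leaf 2868501966747)) (.node (.leaf 9126884621) (.leaf 2463164316939))) (.node (.node (.leaf 1119913008789) (.leaf 3282429538588)) (.node (.leaf 2374043738895) (.leaf 2938295420288)))) (.node (.node (.node (.node (.leaf 333396937731) (.leaf 4446902824337)) (.leaf 3090766524183)) (.node (.leaf 2027224968199) (.leaf 1832878161677))) (.node (.node (.leaf 2039573081092) (.leaf 1901597555078)) (.node (.leaf 2629057433879) (.leaf 4060355647895))))) (.node (.node (.node (.node (.node (.leaf 334470669465) (.leaf 4378720202373)) (.leaf 2994666661252)) (.node (.leaf 426275807753) (.leaf 2739116243212))) (.node (.node (.leaf 1524713787397) (.leaf 3410204846109)) (.node (.leaf 2518462048667) (.leaf 3970161340828)))) (.node (.node (.node (.leaf 800474720769) (.leaf 3195993301145)) (.node (.leaf 702227422485) (.leaf 3754339182746))) (.node (.node (.leaf 1219771083038) (.leaf 3612068357139)) (.node (.leaf 2747169111704) (.leaf 4158066204824)))))) (.node (.node (.node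 (.node (.node (.node (.leaf 254476872977) (.leaf 4238596883210)) (.leaf 2932389620499)) (.node (.leaf 1894081029135) (.leaf 2426657114390))) (.node (.node (.leaf 1390495774859) (.leaf 3350074641421)) (.node (.leaf 2445447587227) (.leaf 3908421116821)))) (.node (.node (.node (.leaf 630286600989) (.leaf 2864207063700)) (.node (.leaf 697395584128) (.leaf 3700115204356))) (.node (.node (.leaf 468688527902) (.leaf 3571803029135)) (.node (.leaf 2689187039387) (.leaf 4118874592023))))) (.node (.node (.node (.node (.node (.leaf 488552646418) (.leaf 2390687223818)) (.leaf 3045669409939)) (.node (.leaf 1899986610587) (.leaf 2534568268169))) (.node (.node (.leaf 1847910119709) (.leaf 3473018757779)) (.node (.leaf 2580202218269) (.leaf 4003983968393)))) (.node (.node (.node (.leaf 1029718654848) (.leaf 3236795500175)) (.node (.leaf 2338610248726) (.leaf 3616900240791))) (.node (.node (.leaf 972273697310) (.leaf 2715493653022)) (.node (.leaf 643708889990) (.leaf 4212827050907))))))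
def dF_1560 : BT := .node (.node (.node (.node (.node (.node (.node (.leaf 119185370896) (.leaf 4272956607386)) (.leaf 2876018161409)) (.node (.leaf 88583744524) (.leaf 2786360633098))) (.node (.node (.leaf 15569553165) (.leaf 3281355564803)) (.node (.leaf 523449706503) (.leaf 3869765937677)))) (.node (.node (.node (.leaf 10737529351) (.leaf 3097209029787)) (.node (.leaf 1625108638094) (.leaf 3656091570445))) (.node (.node (.leaf 2079301538051) (.leaf 3106872766475)) (.node (.leaf 2639258032659) (.leaf 3334506203403))))) (.node (.node (.node (.node (.node (.leaf 13958647042) (.leaf 4385699520661)) (.leaf 2994666661145)) (.node (.leaf 1688996200222) (.leaf 2560874977694))) (.node (.node (.leaf 1695438744349) (.leaf 3422016008986)) (.node (.leaf 2524904501139) (.leaf 3976066901382)))) (.node (.node (.node (.leaf 823560175389) (.leaf 3188476972547)) (.node (.leaf 1772211431425) (.leaf 3747896730254))) (.node (.node (.leaf 2255932110728) (.leaf 2858838293389)) (.node (.leaf 2743947872405) (.leaf 4155918370827)))))) (.node (.node (.node (.node (.node (.node (.leaf 103616150025)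 (.leaf 4341139180803)) (.leaf 2945811396508)) (.node (.leaf 169651691532) (.leaf 2705830051998))) (.node (.node (.leaf 1432908805892) (.leaf 3338800909314)) (.node (.leaf 2452963781789) (.leaf 3922379818265)))) (.node (.node (.node (.leaf 638339663255) (.leaf 756451864844)) (.node (.leaf 1325534611742) (.leaf 3713536983812))) (.node (.node (.leaf 899258990856) (.leaf 2742874181150)) (.node (.leaf 2683281401365) (.leaf 2495376977928))))) (.node (.node (.node (.node (.node (.leaf 9126926218) (.leaf 4419522401421)) (.leaf 3050501249409)) (.node (.leaf 163208796187) (.leaf 2695629632260))) (.node (.node (.leaf 1870458703492) (.leaf 2739116218499)) (.node (.leaf 2588792154890) (.leaf 1319629599239)))) (.node (.node (.node (.leaf 1048509140885) (.leaf 3243774823698)) (.node (.leaf 2343978960655) (.leaf 3813394997139))) (.node (.node (.leaf 413927514142) (.leaf 2478733590550)) (.node (.leaf 2620467589122) (.leaf 4207994802955))))))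
def dF_1569 : BT := .node (.node (.node (.node (.node (.node (.node (.leaf 100394884497) (.leaf 4265977283859)) (.leaf 2870649450897)) (.node (.leaf 49928997397) (.leaf 2320356869406))) (.node (.node (.leaf 1196148675337) (.leaf 3284040151809)) (.node (.leaf 2373506483330) (.leaf 3854734067224)))) (.node (.node (.node (.node (.leaf 427886197014) (.leaf 4418448665741)) (.leaf 3083250382737)) (.node (.leaf 2029909402255) (.leaf 3639448780179))) (.node (.node (.leaf 2019171984772) (.leaf 3068754751646)) (.node (.leaf 2632815580175) (.leaf 4056060677780))))) (.node (.node (.node (.node (.node (.leaf 388157674645) (.leaf 4377646092811)) (.leaf 2988224169494)) (.node (.leaf 1266478783375) (.leaf 2833068417542))) (.node (.node (.leaf 1650341577092) (.leaf 3400004148870)) (.node (.leaf 1954210718988) (.leaf 3963718888335)))) (.node (.node (.node (.leaf 785979202693) (.leaf 3191698332829)) (.node (.leaf 2021856294277) (.leaf 3755949795869))) (.node (.node (.leaf 954556924308) (.leaf 2546916317068)) (.node (.leaf 2751464080026) (.leaf 4159676817947)))))) (.node (.node (.node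 (.node (.node (.node (.leaf 29527956238) (.leaf 3878893371905)) (.leaf 2934537104667)) (.node (.leaf 432718055454) (.leaf 3409667983873))) (.node (.node (.leaf 1378684832260) (.leaf 2523830952070)) (.node (.leaf 2436857650574) (.leaf 3907884300189)))) (.node (.node (.node (.leaf 627602220929) (.leaf 2867428289940)) (.node (.leaf 642097807894) (.leaf 3700115207809))) (.node (.node (.leaf 2020245273499) (.leaf 3567508060827)) (.node (.leaf 2694018878748) (.leaf 4112432166415))))) (.node (.node (.node (.node (.node (.leaf 485331420292) (.leaf 2454037991178)) (.leaf 2598455937159)) (.node (.leaf 1826972149146) (.leaf 2407330006785))) (.node (.node (.leaf 1775432545924) (.leaf 3464965692187)) (.node (.leaf 2583423444620) (.leaf 4006131503625)))) (.node (.node (.node (.leaf 1013075652608) (.leaf 3234111066882)) (.node (.leaf 2330557186571) (.leaf 3801583834254))) (.node (.node (.leaf 790274150937) (.leaf 2493765981076)) (.node (.leaf 2547990012694) (.leaf 4216048277149))))))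
def dF_1576 : BT := .node (.node (.node (.node (.node (.node (.node (.leaf 109521692189) (.leaf 4273493478528)) (.leaf 2865280740494)) (.node (.leaf 536871055) (.leaf 2401424278272))) (.node (.node (.leaf 1228897810577) (.leaf 2525441553685)) (.node (.leaf 1123671385862) (.leaf 3854197199624)))) (.node (.node (.node (.leaf 468151438356) (.leaf 3093987803649)) (.node (.leaf 1394254280333) (.leaf 3642133135374))) (.node (.node (.leaf 2065879761936) (.leaf 2385854486402)) (.node (.leaf 2642479258906) (.leaf 4029754034198))))) (.node (.node (.node (.node (.node (.leaf 136365296898) (.leaf 2776160531720)) (.leaf 2996277274266)) (.node (.leaf 539018807198) (.leaf 2833605353605))) (.node (.node (.leaf 1693291259910) (.leaf 3415573556613)) (.node (.leaf 2525978243227) (.leaf 3978751277466)))) (.node (.node (.node (.leaf 820875819523) (.leaf 2482491858580)) (.node (.leaf 2309082343057) (.leaf 3749507343377))) (.node (.node (.leaf 78920561434) (.leaf 2443837190277)) (.node (.leaf 2744484756495) (.leaf 4158603063573)))))) (.node (.node (.node (.node (.node (.node (.leaf 107374245379)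 (.leaf 4311611329429)) (.leaf 2940979557261)) (.node (.leaf 49929006745) (.leaf 3220689369097))) (.node (.node (.leaf 1422708256128) (.leaf 2775086541831)) (.node (.leaf 2449742555661) (.leaf 3924527302427)))) (.node (.node (.node (.leaf 376883532168) (.leaf 2714956884614)) (.node (.leaf 1268626267284) (.leaf 3704410176025))) (.node (.node (.leaf 1050119753352) (.leaf 2463164355587)) (.node (.leaf 2688113297295) (.leaf 4109747789574))))) (.node (.node (.node (.node (.node (.leaf 494994991255) (.leaf 4417374917147)) (.leaf 2400350491143)) (.node (.leaf 627065374747) (.leaf 3049427511424))) (.node (.node (.leaf 1858110259352) (.leaf 3467113141140)) (.node (.leaf 2408403527701) (.leaf 3556233810317)))) (.node (.node (.node (.leaf 1045824786058) (.leaf 3245922307865)) (.node (.leaf 2341294605716) (.leaf 3641596303253))) (.node (.node (.leaf 836445080326) (.leaf 2808372563230)) (.node (.leaf 2799245602588) (.leaf 4211216425877))))))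
def dF_1584 : BT := .node (.node (.node (.node (.node (.node (.node (.leaf 106300465949) (.leaf 3932580448542)) (.leaf 2863133256345)) (.node (.leaf 420906797335) (.leaf 2332704844930))) (.node (.node (.leaf 1217623518853) (.leaf 3288871991055)) (.node (.leaf 2375117480986) (.leaf 3867082101249)))) (.node (.node (.node (.node (.leaf 110058615942) (.leaf 4432944180749)) (.leaf 3084324071700)) (.node (.leaf 828392014734) (.leaf 3018826006406))) (.node (.node (.leaf 1789391239810) (.leaf 3510599678750)) (.node (.leaf 2627446820756) (.leaf 4060892546579))))) (.node (.node (.node (.node (.node (.leaf 10737508116) (.leaf 4048007720862)) (.leaf 2816425521929)) (.node (.leaf 1559073514398) (.leaf 2567317270916))) (.node (.node (.leaf 1680406355328) (.leaf 3409131104018)) (.node (.leaf 2518998919696) (.leaf 3964792629398)))) (.node (.node (.node (.leaf 12348225152) (.leaf 3192235203858)) (.node (.leaf 2025614418309) (.leaf 3752728569625))) (.node (.node (.leaf 1138703733015) (.leaf 3410204614019)) (.node (.leaf 2750927116695) (.leaf 2330020751006)))))) (.node (.node (.node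 (.node (.node (.node (.leaf 248034371727) (.leaf 4335770519069)) (.leaf 2932389620494)) (.node (.leaf 435402347393) (.leaf 2538863177991))) (.node (.node (.leaf 1398549059341) (.leaf 3349538290946)) (.node (.leaf 2443836974104) (.leaf 3913253010701)))) (.node (.node (.node (.leaf 633507826953) (.leaf 3133716248340)) (.node (.leaf 1275605438213) (.leaf 3701188949775))) (.node (.node (.leaf 898722156803) (.leaf 2700461526925)) (.node (.leaf 2684355200024) (.leaf 3910031833601))))) (.node (.node (.node (.node (.node (.leaf 37044209814) (.leaf 2459406700810)) (.leaf 2401961186311)) (.node (.leaf 1962263651227) (.leaf 2974265662089))) (.node (.node (.leaf 1855426314369) (.leaf 3466576305297)) (.node (.leaf 2587181541777) (.leaf 4020627218588)))) (.node (.node (.node (.leaf 1040456063360) (.leaf 3245922307968)) (.node (.leaf 2333241541524) (.leaf 3778498385409))) (.node (.node (.leaf 358629893647) (.leaf 2435783908490)) (.node (.leaf 2363306421387) (.leaf 4209605824665))))))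
def dF_1591 : BT := .node (.node (.node (.node (.node (.node (.node (.leaf 114353507993) (.leaf 4273493478416)) (.leaf 2876555032344)) (.node (.leaf 359166721054) (.leaf 2506650991646))) (.node (.node (.leaf 1246077684617) (.leaf 3299072540933)) (.node (.leaf 2385318030852) (.leaf 3592741065985)))) (.node (.node (.node (.leaf 377957233415) (.leaf 3096135287696)) (.node (.leaf 533649818125) (.leaf 3648038716815))) (.node (.node (.leaf 2034204383234) (.leaf 3026878858122)) (.node (.leaf 2432025860246) (.leaf 3249680599436))))) (.node (.node (.node (.node (.node (.leaf 396210827652) (.leaf 4387847009822)) (.leaf 3002182855698)) (.node (.leaf 33286178443) (.leaf 2501819070605))) (.node (.node (.leaf 1691680648597) (.leaf 3418794782737)) (.node (.leaf 2523830759055) (.leaf 3979288084609)))) (.node (.node (.node (.leaf 825170774276) (.leaf 2473365050903)) (.node (.leaf 129386440842) (.leaf 3747896476553))) (.node (.node (.leaf 2261300395786) (.leaf 2736968534656)) (.node (.leaf 2740189718551) (.leaf 3969624518912)))))) (.node (.node (.node (.node (.node (.node (.leaf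 275414841355) (.leaf 4342212971535)) (.leaf 2940979557147)) (.node (.leaf 88583721625) (.leaf 2406256151582))) (.node (.node (.leaf 1374389877892) (.leaf 3352222773788)) (.node (.leaf 2448131942426) (.leaf 3920769205138)))) (.node (.node (.node (.leaf 641560892937) (.leaf 3150359262739)) (.node (.leaf 1314260306455) (.leaf 3715684467869))) (.node (.node (.leaf 1054951591446) (.leaf 2587718552964)) (.node (.leaf 2700461331329) (.leaf 1118839959181))))) (.node (.node (.node (.node (.node (.leaf 508953745937) (.leaf 2494303311112)) (.leaf 3051574838534)) (.node (.leaf 643708376987) (.leaf 3067144172809))) (.node (.node (.leaf 1874216601499) (.leaf 3227131881478)) (.node (.leaf 2601677059972) (.leaf 3897146849670)))) (.node (.node (.node (.leaf 993748309013) (.leaf 3245922307854)) (.node (.leaf 372052101258) (.leaf 3805341931535))) (.node (.node (.leaf 1777579739012) (.leaf 3190087679234)) (.node (.leaf 2808372410381) (.leaf 4207458316308))))))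
def dF_1601 : BT := .node (.node (.node (.node (.node (.node (.node (.leaf 97710528917) (.leaf 4262755999638)) (.leaf 2863133256448)) (.node (.leaf 329101992331) (.leaf 2836826464652))) (.node (.node (.leaf 1188095612547) (.leaf 3275987073429)) (.node (.leaf 2373506865033) (.leaf 3856881551384)))) (.node (.node (.node (.node (.leaf 45634146050) (.leaf 4445292205453)) (.leaf 3091840319377)) (.node (.leaf 1898912868494) (.leaf 3638911909139))) (.node (.node (.leaf 2030983144348) (.leaf 2384244329985)) (.node (.leaf 2627446869777) (.leaf 4056060707216))))) (.node (.node (.node (.node (.node (.leaf 387084019857) (.leaf 4378183331217)) (.leaf 2649458663939)) (.node (.leaf 6442638878) (.leaf 2838437166471))) (.node (.node (.leaf 19864616204) (.leaf 2984466210819)) (.node (.leaf 2506114014734) (.leaf 3960497662097)))) (.node (.node (.node (.leaf 777389266053) (.leaf 3197067043219)) (.node (.leaf 1771137289623) (.leaf 3760244759685))) (.node (.node (.leaf 2017561318171) (.leaf 2533494470924)) (.node (.leaf 2747169111708) (.leaf 4168266754587)))))) (.node (.node (.node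 (.node (.node (.node (.leaf 39191634958) (.leaf 4332012421662)) (.leaf 2935610846749)) (.node (.leaf 759672521615) (.leaf 3156264683777))) (.node (.node (.leaf 1381906057088) (.leaf 3333432287375)) (.node (.leaf 2433636424338) (.leaf 2313377691523)))) (.node (.node (.node (.leaf 625991607937) (.leaf 3133716260494)) (.node (.leaf 632434131734) (.leaf 1961190323591))) (.node (.node (.leaf 422517660190) (.leaf 3570729287069)) (.node (.leaf 2693482007820) (.leaf 4105452842896))))) (.node (.node (.node (.node (.node (.leaf 465467083159) (.leaf 4412543077526)) (.leaf 3027415748501)) (.node (.leaf 617938508429) (.leaf 3233037216268))) (.node (.node (.leaf 1843078280348) (.leaf 3462281336988)) (.node (.leaf 2574833465620) (.leaf 4005057928962)))) (.node (.node (.node (.leaf 1004485715968) (.leaf 3228205233159)) (.node (.leaf 2331630928260) (.leaf 3701188973589))) (.node (.node (.leaf 431107847044) (.leaf 2971044290819)) (.node (.leaf 2786897485446) (.leaf 4119948385173))))))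
def dF_1608 : BT := .node (.node (.node (.node (.node (.node (.node (.leaf 118111628829) (.leaf 4225175096064)) (.leaf 2862596385297)) (.node (.leaf 220117340062) (.leaf 1196685834754))) (.node (.node (.leaf 1229434681628) (.leaf 3235721770775)) (.node (.leaf 2376728094229) (.leaf 3860102757270)))) (.node (.node (.node (.node (.leaf 137975931654) (.leaf 4449050308508)) (.leaf 2806761705223)) (.node (.leaf 1178968803855) (.leaf 3642670006419))) (.node (.node (.leaf 2075006569619) (.leaf 2687039476363)) (.node (.leaf 2437394570645) (.leaf 4062503159704))))) (.node (.node (.node (.node (.node (.leaf 17179873282) (.leaf 3801047102477)) (.leaf 3004867210906)) (.node (.leaf 111132283651) (.leaf 2501282304148))) (.node (.node (.leaf 1692217490689) (.leaf 3405372995223)) (.node (.leaf 2526515114268) (.leaf 3979825019538)))) (.node (.node (.node (.leaf 819265207178) (.leaf 3186866493454)) (.node (.leaf 2308545472015) (.leaf 3758097280017))) (.node (.node (.leaf 2091649598238) (.leaf 2637110697346)) (.node (.leaf 2742337272337) (.leaf 4103842243329)))))) (.node (.node (.node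 (.node (.node (.node (.leaf 262529895823) (.leaf 4338454874368)) (.leaf 2930241635468)) (.node (.leaf 97173850398) (.leaf 3396782811148))) (.node (.node (.leaf 1414118319489) (.leaf 3196530208642)) (.node (.leaf 2441689489934) (.leaf 3918084849949)))) (.node (.node (.node (.leaf 625991635211) (.leaf 2658048545923)) (.node (.leaf 824634159746) (.leaf 2637110802826))) (.node (.node (.leaf 890669054210) (.leaf 3074123008908)) (.node (.leaf 2684892071057) (.leaf 4109210914846))))) (.node (.node (.node (.node (.node (.leaf 500363809298) (.leaf 4417911788179)) (.leaf 2738042375942)) (.node (.leaf 825707659546) (.leaf 2407329813260))) (.node (.node (.leaf 1864015856283) (.leaf 3321621159701)) (.node (.leaf 2405182301462) (.leaf 3562139449996)))) (.node (.node (.node (.leaf 1044751043073) (.leaf 3243774823707)) (.node (.leaf 643171910786) (.leaf 3804268189469))) (.node (.node (.leaf 837519118977) (.leaf 2492692363777)) (.node (.leaf 1316945014279) (.leaf 2331094504606))))))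
def dF_1616 : BT := .node (.node (.node (.node (.node (.node (.node (.leaf 105763569941) (.leaf 4197794679430)) (.leaf 2859912030107)) (.node (.leaf 159450785054) (.leaf 1845762809485))) (.node (.node (.leaf 1209033582213) (.leaf 3288871991064)) (.node (.leaf 2325188486279) (.leaf 3856344680328)))) (.node (.node (.node (.node (.leaf 423054357653) (.leaf 4446902824453)) (.leaf 3082176587543)) (.node (.leaf 767725587215) (.leaf 3641596264347))) (.node (.node (.leaf 2048163017732) (.leaf 699543539614)) (.node (.leaf 2621541239454) (.leaf 4061429417615))))) (.node (.node (.node (.node (.node (.leaf 355408634267) (.leaf 2879776617353)) (.leaf 3003256597892)) (.node (.leaf 1524713394718) (.leaf 3106335713795))) (.node (.node (.leaf 1671816418689) (.leaf 3409131104025)) (.node (.leaf 2515777693464) (.leaf 3882114511390)))) (.node (.node (.node (.leaf 809064657408) (.leaf 3187403364505)) (.node (.leaf 1840393939979) (.leaf 3745749246106))) (.node (.node (.leaf 1228360970135) (.leaf 3610457744014)) (.node (.leaf 2751463985054) (.leaf 4169877355526)))))) (.node (.node (.node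 (.node (.node (.node (.leaf 48855313422) (.leaf 4336844226317)) (.leaf 2934000233617)) (.node (.leaf 617938712854) (.leaf 2919504598018))) (.node (.node (.leaf 1392106605974) (.leaf 3349538418586)) (.node (.leaf 2444910716186) (.leaf 3908421171586)))) (.node (.node (.node (.leaf 631897214097) (.leaf 2862059579540)) (.node (.leaf 701690549524) (.leaf 3613142120330))) (.node (.node (.leaf 904090828038) (.leaf 3586298547332)) (.node (.leaf 2692945136664) (.leaf 3713000209158))))) (.node (.node (.node (.node (.node (.leaf 479962709778) (.leaf 4415764303873)) (.leaf 3044058796826)) (.node (.leaf 1895154771227) (.leaf 3446711925000))) (.node (.node (.leaf 229781191562) (.leaf 3464428821139)) (.node (.leaf 2586644670745) (.leaf 4021700960769)))) (.node (.node (.node (.leaf 133681104522) (.leaf 3237332371328)) (.node (.leaf 1829119755030) (.leaf 3802120701451))) (.node (.node (.leaf 49929441164) (.leaf 2473901935518)) (.node (.leaf 2354179615752) (.leaf 4218195761305))))))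
def dF_1623 : BT := .node (.node (.node (.node (.node (.node (.node (.leaf 110595434256) (.leaf 4271882865950)) (.leaf 2873333806108)) (.node (.leaf 82141278746) (.leaf 2743410527244))) (.node (.node (.leaf 1247151425937) (.leaf 3290482604293)) (.node (.leaf 2379949320346) (.leaf 3802120721541)))) (.node (.node (.node (.leaf 119185445525) (.leaf 2876018214294)) (.node (.leaf 565862066957) (.leaf 1765232429854))) (.node (.node (.leaf 2086280861458) (.leaf 2502355999488)) (.node (.leaf 2641405516815) (.leaf 4064650643841))))) (.node (.node (.node (.node (.node (.leaf 117037939459) (.leaf 4377646462599)) (.leaf 2978560536855)) (.node (.leaf 33822924574) (.leaf 2586644666398))) (.node (.node (.leaf 1696512486428) (.leaf 3422016008975)) (.node (.leaf 2524367630096) (.leaf 3975530051216)))) (.node (.node (.node (.leaf 824633902855) (.leaf 2475512535063)) (.node (.leaf 2310692956187) (.leaf 2785824055304))) (.node (.node (.leaf 2259153336585) (.leaf 2682744654878)) (.node (.leaf 2684355213076) (.leaf 4157529333777)))))) (.node (.node (.node (.node (.node (.node (.leaf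 272193615751) (.leaf 4337381132186)) (.leaf 2937221459868)) (.node (.leaf 24696065415) (.leaf 2512556594828))) (.node (.node (.leaf 1435056289948) (.leaf 3355444000132)) (.node (.leaf 2456721879066) (.leaf 3913789881625)))) (.node (.node (.node (.leaf 639413408278) (.leaf 3150896133779)) (.node (.leaf 1248225213068) (.leaf 2974265739658))) (.node (.node (.leaf 900332730629) (.leaf 2609730269568)) (.node (.leaf 2691871338005) (.leaf 4104915882886))))) (.node (.node (.node (.node (.node (.leaf 506806261789) (.leaf 4415227434134)) (.leaf 3047816894108)) (.node (.leaf 633507827227) (.leaf 3522410698885))) (.node (.node (.leaf 1879048640133) (.leaf 3478387468289)) (.node (.leaf 2593087123332) (.leaf 3964792643459)))) (.node (.node (.node (.leaf 1046361657876) (.leaf 3244848565776)) (.node (.leaf 2344515829508) (.leaf 2662880631454))) (.node (.node (.leaf 463319621790) (.leaf 2659659107075)) (.node (.leaf 2800319344534) (.leaf 3955129011972))))))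
def dF_1632 : BT := .node (.node (.node (.node (.node (.node (.node (.leaf 100931737750) (.leaf 3870840292739)) (.leaf 2865280740509)) (.node (.leaf 490700126366) (.leaf 2400887362309))) (.node (.node (.leaf 223875456002) (.leaf 2528125908886)) (.node (.leaf 2374580609935) (.leaf 3855807809537)))) (.node (.node (.node (.node (.leaf 112742971143) (.leaf 4446365953295)) (.leaf 3085397866895)) (.node (.leaf 1059783663381) (.leaf 3639985651229))) (.node (.node (.leaf 2035278093327) (.leaf 2886755461250)) (.node (.leaf 2624225643535) (.leaf 3953518364039))))) (.node (.node (.node (.node (.node (.leaf 229243934086) (.leaf 4377109523200)) (.leaf 2993592919058)) (.node (.leaf 32749133465) (.leaf 2592013378050))) (.node (.node (.leaf 1658931513732) (.leaf 3407520491013)) (.node (.leaf 2519535790739) (.leaf 3973382567172)))) (.node (.node (.node (.leaf 755914433025) (.leaf 3193845816987)) (.node (.leaf 1196685429783) (.leaf 3747359859229))) (.node (.node (.leaf 950798471579) (.leaf 3612068357149)) (.node (.leaf 2742874143386) (.leaf 4166656141464)))))) (.node (.node (.node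 (.node (.node (.node (.leaf 249108162695) (.leaf 4328254313364)) (.leaf 2933463362585)) (.node (.leaf 293131966110) (.leaf 3419868380062))) (.node (.node (.leaf 384399903873) (.leaf 3341485353101)) (.node (.leaf 2440078876929) (.leaf 3908958042268)))) (.node (.node (.node (.leaf 377420401029) (.leaf 2866354547860)) (.node (.leaf 641024050436) (.leaf 3700652078737))) (.node (.node (.leaf 90194760345) (.leaf 3569655544979)) (.node (.leaf 2685428942108) (.leaf 4119411489930))))) (.node (.node (.node (.node (.node (.leaf 493921356933) (.leaf 4414153690909)) (.leaf 3039763828612)) (.node (.leaf 1833414601626) (.leaf 2524904533384))) (.node (.node (.leaf 1833414604804) (.leaf 3467650047384)) (.node (.leaf 2587718412825) (.leaf 3924527322005)))) (.node (.node (.node (.leaf 1021128718208) (.leaf 2470680643202)) (.node (.leaf 1842004656790) (.leaf 3802120705412))) (.node (.node (.leaf 2000918337051) (.leaf 2640868653321)) (.node (.leaf 2346663422743) (.leaf 4207458340509))))))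
def dF_1639 : BT := .node (.node (.node (.node (.node (.node (.node (.leaf 114890402578) (.leaf 4276714704665)) (.leaf 2633352494083)) (.node (.leaf 187367973275) (.leaf 2954401361559))) (.node (.node (.leaf 1242319586692) (.leaf 3231963673492)) (.node (.leaf 2378875578259) (.leaf 2518462370563)))) (.node (.node (.node (.leaf 138512781079) (.leaf 2877091956374)) (.node (.leaf 1398012188174) (.leaf 3358665295237))) (.node (.node (.leaf 2075543426971) (.leaf 2403571857804)) (.node (.leaf 2639794903705) (.leaf 4063576901777))))) (.node (.node (.node (.node (.node (.leaf 336081271046) (.leaf 4385699525784)) (.leaf 3003256597785)) (.node (.leaf 523449144075) (.leaf 3055869381516))) (.node (.node (.leaf 1694365002376) (.leaf 3008088535938)) (.node (.leaf 2525441372184) (.leaf 3976603793309)))) (.node (.node (.node (.leaf 822486432515) (.leaf 3191698149767)) (.node (.leaf 1277216450308) (.leaf 3756486666894))) (.node (.node (.leaf 2256468536321) (.leaf 2623151858694)) (.node (.leaf 2748242840725) (.leaf 4158066204815)))))) (.node (.node (.node (.node (.node (.node (.leaf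 107374245896) (.leaf 4341676100509)) (.leaf 2949569351565)) (.node (.leaf 338765548437) (.leaf 2987150344329))) (.node (.node (.leaf 1426466353308) (.leaf 2771865315591)) (.node (.leaf 2458332469645) (.leaf 3915937365787)))) (.node (.node (.node (.leaf 638339666695) (.leaf 3088082194822)) (.node (.leaf 1378147944990) (.leaf 3702799563524))) (.node (.node (.leaf 1055488462341) (.leaf 2472828255878)) (.node (.leaf 2690797595926) (.leaf 4107063445387))))) (.node (.node (.node (.node (.node (.leaf 75698918550) (.leaf 4418448659227)) (.leaf 3044058643459)) (.node (.leaf 826244530587) (.leaf 2949569590664))) (.node (.node (.leaf 1794222623512) (.leaf 2505040501638)) (.node (.leaf 2556579900054) (.leaf 3939022196355)))) (.node (.node (.node (.leaf 380641726475) (.leaf 2485176226197)) (.node (.leaf 1844152141333) (.leaf 3808563157892))) (.node (.node (.leaf 1812476631198) (.leaf 2626909998724)) (.node (.leaf 2799782473617) (.leaf 3679714234762))))))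
def dF_1647 : BT := .node (.node (.node (.node (.node (.node (.node (.leaf 109521692289) (.leaf 4268124357641)) (.leaf 2868501966738)) (.node (.leaf 39192030984) (.leaf 2450815982732))) (.node (.node (.leaf 1225139713413) (.leaf 3284577022739)) (.node (.leaf 2376191223059) (.leaf 3799436366486)))) (.node (.node (.node (.node (.leaf 468688396679) (.leaf 4447976566409)) (.leaf 2976413073031)) (.node (.leaf 166430147341) (.leaf 3259344176393))) (.node (.node (.leaf 2058900438533) (.leaf 2385318029320)) (.node (.leaf 2416456551048) (.leaf 4027606550277))))) (.node (.node (.node (.node (.node (.leaf 386010190471) (.leaf 4378720140032)) (.leaf 3006477824029)) (.node (.leaf 1559073504926) (.leaf 2389076143125))) (.node (.node (.leaf 1686848410395) (.leaf 3406983619854)) (.node (.leaf 2516314564495) (.leaf 2972655186185)))) (.node (.node (.node (.leaf 816043980819) (.leaf 3193845816977)) (.node (.leaf 162135037826) (.leaf 3759707893138))) (.node (.node (.leaf 1137629991444) (.leaf 2992519127685)) (.node (.leaf 2748779724819) (.leaf 4169340404617)))))) (.node (.node (.node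 (.node (.node (.node (.leaf 67645796504) (.leaf 4334696776985)) (.leaf 2498597890310)) (.node (.leaf 761819836299) (.leaf 2976413073292))) (.node (.node (.leaf 1407138995981) (.leaf 3342559095058)) (.node (.leaf 2442763232018) (.leaf 3921842947340)))) (.node (.node (.node (.leaf 466004102923) (.leaf 2711198738694)) (.node (.leaf 1966558619546) (.leaf 3702799562908))) (.node (.node (.leaf 892279666819) (.leaf 2517925409438)) (.node (.leaf 2690260781459) (.leaf 4111895284609))))) (.node (.node (.node (.node (.node (.leaf 481573214871) (.leaf 4416838046086)) (.leaf 3042985054736)) (.node (.leaf 695784867867) (.leaf 3073586807181))) (.node (.node (.leaf 1864016251009) (.leaf 3468723789455)) (.node (.leaf 2586107799697) (.leaf 4021164017155)))) (.node (.node (.node (.leaf 1042066688657) (.leaf 3249143534105)) (.node (.leaf 1844689011734) (.leaf 3803194447496))) (.node (.node (.leaf 305480041374) (.leaf 2478196848769)) (.node (.leaf 1841467895050) (.leaf 4219806362517))))))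
def dF_1654 : BT := .node (.node (.node (.node (.node (.node (.node (.leaf 25232962186) (.leaf 4152697523209)) (.leaf 2873870677139)) (.node (.leaf 922881586462) (.leaf 2574833623710))) (.node (.node (.leaf 1190779981184) (.leaf 3301756896029)) (.node (.leaf 2393907967492) (.leaf 3871377069454)))) (.node (.node (.node (.leaf 361314231555) (.leaf 3013457167367)) (.node (.leaf 535260426895) (.leaf 3656091674635))) (.node (.node (.leaf 2089501599128) (.leaf 2687576492161)) (.node (.leaf 2643553001091) (.leaf 4065724385939))))) (.node (.node (.node (.node (.node (.leaf 404800764293) (.leaf 4387310136599)) (.leaf 3006477824016)) (.node (.leaf 19327355397) (.leaf 2528125853190))) (.node (.node (.leaf 1699733711115) (.leaf 3091840397831)) (.node (.leaf 1831804154636) (.leaf 3893388739973)))) (.node (.node (.node (.leaf 759672537472) (.leaf 2920041574406)) (.node (.leaf 2311229457541) (.leaf 2335389362334))) (.node (.node (.leaf 89657982092) (.leaf 2554969246486)) (.node (.leaf 2452963851414) (.leaf 4175246078108)))))) (.node (.node (.node (.node (.node (.node (.leaf 278099198853)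 (.leaf 4343286713728)) (.leaf 2944737654424)) (.node (.leaf 417685669134) (.leaf 2457795636885))) (.node (.node (.leaf 1441498723865) (.leaf 3355443938823)) (.node (.leaf 2451890039705) (.leaf 3912179268498)))) (.node (.node (.node (.leaf 632434087681) (.leaf 3148211766295)) (.node (.leaf 1378684816030) (.leaf 3707094531229))) (.node (.node (.leaf 1181653156623) (.leaf 2902324804096)) (.node (.leaf 2698850718108) (.leaf 3891778224385))))) (.node (.node (.node (.node (.node (.leaf 510564358785) (.leaf 4421133014402)) (.leaf 3049964378256)) (.node (.leaf 1502702040986) (.leaf 3238406014088))) (.node (.node (.leaf 1883880479495) (.leaf 3329674225301)) (.node (.leaf 2604898286105) (.leaf 3892315056148)))) (.node (.node (.node (.leaf 1053877851776) (.leaf 2720862556295)) (.node (.leaf 2345589483668) (.leaf 2825015647872))) (.node (.node (.leaf 510564775582) (.leaf 2627983785860)) (.node (.leaf 2371896360711) (.leaf 4221953858588))))))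
def dF_1665 : BT := .node (.node (.node (.node (.node (.node (.node (.leaf 98247398663) (.leaf 4262756000006)) (.leaf 2858838288128)) (.node (.leaf 1287953823774) (.leaf 2029909699719))) (.node (.node (.leaf 470836073866) (.leaf 3277060815509)) (.node (.leaf 1847910244884) (.leaf 2389613348870)))) (.node (.node (.node (.node (.leaf 408558883202) (.leaf 4445292190601)) (.leaf 3085397866899)) (.node (.leaf 1904281578894) (.leaf 2905546243333))) (.node (.node (.leaf 2030983144457) (.leaf 2561411526790)) (.node (.leaf 2631741838097) (.leaf 4057671320335))))) (.node (.node (.node (.node (.node (.leaf 381178438418) (.leaf 4376035772695)) (.leaf 2991445434894)) (.node (.leaf 47245065886) (.leaf 2397129313026))) (.node (.node (.leaf 1644435993481) (.leaf 3401078038414)) (.node (.leaf 2510408983054) (.leaf 3961571404179)))) (.node (.node (.node (.leaf 774168039699) (.leaf 3195456430212)) (.node (.leaf 1765231711636) (.leaf 3755949795973))) (.node (.node (.leaf 1496796458267) (.leaf 2784213346688)) (.node (.leaf 2751464080028) (.leaf 4156992462748)))))) (.node (.node (.node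 (.node (.node (.node (.leaf 246423758351) (.leaf 4328254324506)) (.leaf 2352032165645)) (.node (.leaf 111132322462) (.leaf 3247532630924))) (.node (.node (.leaf 18253940235) (.leaf 3333432287377)) (.node (.leaf 2432025811225) (.leaf 3906810558230)))) (.node (.node (.node (.leaf 624917890589) (.leaf 3138011228814)) (.node (.leaf 1276142355077) (.leaf 3699041465625))) (.node (.node (.leaf 196494785428) (.leaf 3572876771217)) (.node (.leaf 2689187039501) (.leaf 4109747811216))))) (.node (.node (.node (.node (.node (.leaf 450434806427) (.leaf 4412543077778)) (.leaf 2560874971906)) (.node (.leaf 711891019294) (.leaf 2856153932811))) (.node (.node (.leaf 1843078280457) (.leaf 3466576305308)) (.node (.leaf 2398202977942) (.leaf 4009352900870)))) (.node (.node (.node (.leaf 1000727617035) (.leaf 3228742237703)) (.node (.leaf 2337536508189) (.leaf 2314451407874))) (.node (.node (.leaf 117038337438) (.leaf 3343095882270)) (.node (.leaf 2792803136533) (.leaf 3049427786632))))))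
def dF_1672 : BT := .node (.node (.node (.node (.node (.node (.node (.leaf 121332855042) (.leaf 4267051025948)) (.leaf 2866891353617)) (.node (.leaf 253940211742) (.leaf 2836289750549))) (.node (.node (.leaf 1235877134108) (.leaf 3284577022735)) (.node (.leaf 93416105475) (.leaf 3860639648542)))) (.node (.node (.node (.node (.leaf 358629801990) (.leaf 4449050308490)) (.leaf 2998961504898)) (.node (.leaf 1259499459854) (.leaf 3642669863434))) (.node (.node (.leaf 2071785343492) (.leaf 2687039068035)) (.node (.leaf 2641405516932) (.leaf 4062503159694))))) (.node (.node (.node (.node (.node (.leaf 17716744327) (.leaf 3925064283139)) (.leaf 3009162179226)) (.node (.leaf 144418388638) (.leaf 2942590054916))) (.node (.node (.leaf 1691143761924) (.leaf 3153043678342)) (.node (.leaf 2528125727375) (.leaf 3977677535489)))) (.node (.node (.node (.leaf 818728336019) (.leaf 3191161461774)) (.node (.leaf 2308545225481) (.leaf 3746822988178))) (.node (.node (.leaf 1144072441492) (.leaf 2623151928350)) (.node (.leaf 2746632240657) (.leaf 4160750513671)))))) (.node (.node (.node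 (.node (.node (.node (.leaf 261456196483) (.leaf 4333086155924)) (.leaf 2788508215555)) (.node (.leaf 48855298974) (.leaf 2632815699584))) (.node (.node (.leaf 1312649716097) (.leaf 3339874739857)) (.node (.leaf 2444373845137) (.leaf 3922379818269)))) (.node (.node (.node (.leaf 635118440084) (.leaf 2474438636550)) (.node (.leaf 1896765263495) (.leaf 3703336173833))) (.node (.node (.leaf 881005376918) (.leaf 3073586712734)) (.node (.leaf 2689187039377) (.leaf 3708168369037))))) (.node (.node (.node (.node (.node (.leaf 501974422532) (.leaf 4417374917255)) (.leaf 3040837524502)) (.node (.leaf 693637383707) (.leaf 3541738133278))) (.node (.node (.leaf 133144429849) (.leaf 3322694901782)) (.node (.leaf 2580202218254) (.leaf 3562139430046)))) (.node (.node (.node (.leaf 1019518110851) (.leaf 3248069792027)) (.node (.leaf 2341831476505) (.leaf 2547990255369))) (.node (.node (.leaf 185220684033) (.leaf 2638721136670)) (.node (.leaf 617402215946) (.leaf 4155381864606))))))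
def dF_1680 : BT := .node (.node (.node (.node (.node (.node (.node (.leaf 1073766805) (.leaf 4268661639172)) (.leaf 2864206998427)) (.node (.leaf 341986857246) (.leaf 2700461274630))) (.node (.node (.leaf 1204738613893) (.leaf 3285650764826)) (.node (.leaf 2375654038281) (.leaf 3854197196175)))) (.node (.node (.node (.node (.leaf 111132379925) (.leaf 4446902824347)) (.leaf 3086471555863)) (.node (.leaf 1707249907214) (.leaf 2913599307661))) (.node (.node (.leaf 2043868049412) (.leaf 2027225292830)) (.node (.leaf 2624762465559) (.leaf 2483565807234))))) (.node (.node (.node (.node (.node (.leaf 382252169240) (.leaf 4383015170700)) (.leaf 2998961629572)) (.node (.leaf 17179896077) (.leaf 2743411088644))) (.node (.node (.leaf 1667521450370) (.leaf 3409667975066)) (.node (.leaf 2514167080347) (.leaf 3971771953947)))) (.node (.node (.node (.leaf 804769689088) (.leaf 3191698332825)) (.node (.leaf 1903207850390) (.leaf 3750044214426))) (.node (.node (.leaf 446676891038) (.leaf 3609920872977)) (.node (.leaf 2742874143384) (.leaf 4006131739532)))))) (.node (.node (.node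 (.node (.node (.node (.leaf 250181904657) (.leaf 4241281237900)) (.leaf 2499671666310)) (.node (.leaf 293131963166) (.leaf 3005404049310))) (.node (.node (.leaf 1391569716887) (.leaf 3350075289629)) (.node (.leaf 2441689489948) (.leaf 3708705192199)))) (.node (.node (.node (.leaf 631360342789) (.leaf 3136937421462)) (.node (.leaf 1128502822421) (.leaf 3701188619143))) (.node (.node (.leaf 1051193461022) (.leaf 3567508060815)) (.node (.leaf 2684892071067) (.leaf 3682398567307))))) (.node (.node (.node (.node (.node (.leaf 484257678098) (.leaf 2539937337355)) (.leaf 3044058796828)) (.node (.leaf 1903744707866) (.leaf 2854006477322))) (.node (.node (.leaf 1848983534607) (.leaf 3468723789459)) (.node (.leaf 2583423444507) (.leaf 4013647881219)))) (.node (.node (.node (.leaf 1034013623169) (.leaf 2359548429973)) (.node (.leaf 2339683992335) (.leaf 3802120705295))) (.node (.node (.leaf 1805497108890) (.leaf 2532957566855)) (.node (.leaf 2795487505309) (.leaf 4208532082587))))))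
def dF_1687 : BT := .node (.node (.node (.node (.node (.node (.node (.leaf 114890402576) (.leaf 4276177551243)) (.leaf 2877091903387)) (.node (.leaf 93952473630) (.leaf 3074660369665))) (.node (.node (.leaf 1246614542218) (.leaf 3281355571079)) (.node (.leaf 2377801836673) (.leaf 3703336473622)))) (.node (.node (.node (.leaf 431644294294) (.leaf 3097745900824)) (.node (.leaf 525596748175) (.leaf 3635690687751))) (.node (.node (.leaf 2083596506368) (.leaf 2560874818570)) (.node (.leaf 2640331774737) (.leaf 4064113772827))))) (.node (.node (.node (.node (.node (.leaf 337691884163) (.leaf 4387846954509)) (.leaf 3008088437139)) (.node (.leaf 336081376030) (.leaf 2560338103692))) (.node (.node (.leaf 1696512486531) (.leaf 3421479137945)) (.node (.leaf 2520609532819) (.leaf 2646237673225)))) (.node (.node (.node (.leaf 765041246084) (.leaf 2477123148180)) (.node (.leaf 2310692956175) (.leaf 3744675197065))) (.node (.node (.leaf 101469141123) (.leaf 2431488956290)) (.node (.leaf 2686502697236) (.leaf 4155918708116)))))) (.node (.node (.node (.node (.node (.node (.leaf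 270046132359) (.leaf 4337381020547)) (.leaf 2941516428188)) (.node (.leaf 161061296771) (.leaf 2705830017030))) (.node (.node (.leaf 1437203774212) (.leaf 3351149031812)) (.node (.leaf 2448668813469) (.leaf 3918084849945)))) (.node (.node (.node (.leaf 639950279697) (.leaf 3148748649741)) (.node (.leaf 1272384213790) (.leaf 3717831952132))) (.node (.node (.leaf 879394764552) (.leaf 3132105689118)) (.node (.leaf 2687576369685) (.leaf 4105452556041))))) (.node (.node (.node (.node (.node (.leaf 506269390749) (.leaf 4415227434114)) (.leaf 3051574991387)) (.node (.leaf 828928885787) (.leaf 2668785939849))) (.node (.node (.leaf 1874753671813) (.leaf 3474092499969)) (.node (.leaf 2588255284100) (.leaf 3764539773832)))) (.node (.node (.node (.leaf 469762298251) (.leaf 3239479855378)) (.node (.leaf 2344515831695) (.leaf 3633543241246))) (.node (.node (.leaf 1812476631297) (.leaf 2972654871428)) (.node (.leaf 2800319344659) (.leaf 4207995211538))))))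
def dF_1696 : BT := .node (.node (.node (.node (.node (.node (.node (.leaf 101468624267) (.leaf 3955665896726)) (.leaf 2869575708829)) (.node (.leaf 145492443422) (.leaf 2398739800585))) (.node (.node (.leaf 1185948129925) (.leaf 3288335120129)) (.node (.leaf 1899986723723) (.leaf 3856344680331)))) (.node (.node (.node (.node (.leaf 382252201730) (.leaf 4445829082265)) (.leaf 3089692835215)) (.node (.leaf 691489984012) (.leaf 1909113830919))) (.node (.node (.leaf 231391847936) (.leaf 2887292246151)) (.node (.leaf 2628520611855) (.leaf 3680251068803))))) (.node (.node (.node (.node (.node (.leaf 387620803586) (.leaf 4365835299990)) (.leaf 2733747279107)) (.node (.leaf 1072668342814) (.leaf 3486440409222))) (.node (.node (.leaf 1654636545412) (.leaf 3398930458244)) (.node (.leaf 2517388306701) (.leaf 3969087598852)))) (.node (.node (.node (.leaf 790274171013) (.leaf 3187403364509)) (.node (.leaf 1122060476052) (.leaf 3751654827549))) (.node (.node (.leaf 375272994462) (.leaf 3149285360662)) (.node (.leaf 2747169111706) (.leaf 4170951109784)))))) (.node (.node (.node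 (.node (.node (.node (.leaf 178778070938) (.leaf 4328791195422)) (.leaf 2930242136347)) (.node (.leaf 35970774024) (.leaf 2483565466629))) (.node (.node (.leaf 1365263059840) (.leaf 3337727067787)) (.node (.leaf 2432562682254) (.leaf 3908958042256)))) (.node (.node (.node (.leaf 625454762241) (.leaf 3141232389782)) (.node (.leaf 641024052373) (.leaf 3700114896778))) (.node (.node (.leaf 1872068978456) (.leaf 3568581802905)) (.node (.leaf 2689723910428) (.leaf 4108137198095))))) (.node (.node (.node (.node (.node (.leaf 489626388613) (.leaf 4414153690895)) (.leaf 2594160922759)) (.node (.leaf 1829119633307) (.leaf 3003256550920))) (.node (.node (.leaf 1845762635537) (.leaf 3471945015704)) (.node (.leaf 2587718408973) (.leaf 4006131703447)))) (.node (.node (.node (.leaf 1017370620928) (.leaf 2527052007047)) (.node (.leaf 2332704670341) (.leaf 3801583834264))) (.node (.node (.leaf 2010582011931) (.leaf 2533494440709)) (.node (.leaf 2352032131844) (.leaf 4211753308829))))))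
def dF_1703 : BT := .node (.node (.node (.node (.node (.node (.node (.leaf 119185370898) (.leaf 4276714704655)) (.leaf 2860985772174)) (.node (.leaf 433791743390) (.leaf 2320356862982))) (.node (.node (.leaf 1238024618372) (.leaf 3285650570114)) (.node (.leaf 2377801832327) (.leaf 3853660328727)))) (.node (.node (.node (.leaf 430570499476) (.leaf 3098282771969)) (.node (.leaf 1402307156494) (.leaf 3642133135386))) (.node (.node (.leaf 2061584793616) (.leaf 3293166881160)) (.node (.leaf 2638184290586) (.leaf 4051765741701))))) (.node (.node (.node (.node (.node (.leaf 15569260167) (.leaf 4375498978581)) (.leaf 3007551566105)) (.node (.leaf 539555671445) (.leaf 3026341938827))) (.node (.node (.leaf 20938369544) (.leaf 3419868524933)) (.node (.leaf 2521683274907) (.leaf 3976603437832)))) (.node (.node (.node (.leaf 467614760203) (.leaf 2480344374420)) (.node (.leaf 2309082343069) (.leaf 3745212375057))) (.node (.node (.leaf 2254857849369) (.leaf 2681670955266)) (.node (.leaf 2740189788175) (.leaf 4158066156549)))))) (.node (.node (.node (.node (.node (.node (.leaf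 264677419021) (.leaf 4223027628190)) (.leaf 2945274525580)) (.node (.leaf 22548583706) (.leaf 2418604035208))) (.node (.node (.leaf 1427003224448) (.leaf 3344169659138)) (.node (.leaf 2454037523980) (.leaf 3920232334107)))) (.node (.node (.node (.leaf 637802793991) (.leaf 3001109133959)) (.node (.leaf 18253747102) (.leaf 3704947047057))) (.node (.node (.leaf 958314826761) (.leaf 2610804052382)) (.node (.leaf 2683818328975) (.leaf 4108136789514))))) (.node (.node (.node (.node (.node (.leaf 499826830615) (.leaf 4003984315147)) (.leaf 2400887375751)) (.node (.leaf 627602245786) (.leaf 3180960877825))) (.node (.node (.leaf 1855962778904) (.leaf 3318936804502)) (.node (.leaf 2588255283855) (.leaf 3890704347276)))) (.node (.node (.node (.leaf 1046898526857) (.leaf 3241627339545)) (.node (.leaf 2342905218057) (.leaf 3635153852293))) (.node (.node (.leaf 653909202971) (.leaf 2497524148228)) (.node (.leaf 2412698545795) (.leaf 4210679492999))))))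
def dF_1711 : BT := .node (.node (.node (.node (.node (.node (.node (.leaf 106837336988) (.leaf 4271882848268)) (.leaf 2858838288025)) (.node (.leaf 878321021214) (.leaf 3073586588161))) (.node (.node (.leaf 1220844745093) (.leaf 3288335120016)) (.node (.leaf 2375117476757) (.leaf 3325916222083)))) (.node (.node (.node (.node (.leaf 330712507907) (.leaf 4447976566425)) (.leaf 3088619040020)) (.node (.leaf 827855143695) (.leaf 3645354361733))) (.node (.node (.leaf 1789928110853) (.leaf 2887292453013)) (.node (.leaf 2631741789076) (.leaf 3190087927565))))) (.node (.node (.node (.node (.node (.leaf 376346511765) (.leaf 4158603129728)) (.leaf 3009699050265)) (.node (.leaf 384399682060) (.leaf 2507724641684))) (.node (.node (.leaf 1684701323648) (.leaf 3408057361936)) (.node (.leaf 2514703951376) (.leaf 3969624469775)))) (.node (.node (.node (.leaf 815507109777) (.leaf 3187940235538)) (.node (.leaf 1835025182467) (.leaf 3748433601305))) (.node (.node (.leaf 1142998699415) (.leaf 3021510100101)) (.node (.leaf 2750390337938) (.leaf 4119411501826)))))) (.node (.node (.node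 (.node (.node (.node (.leaf 213137813260) (.leaf 4335233648026)) (.leaf 2882460626439)) (.node (.leaf 435402413467) (.leaf 2538326277255))) (.node (.node (.leaf 1402844027660) (.leaf 3346854063378)) (.node (.leaf 2439542005784) (.leaf 3917547979021)))) (.node (.node (.node (.leaf 634044698257) (.leaf 3132642506260)) (.node (.leaf 1903744451206) (.leaf 3702798830860))) (.node (.node (.leaf 933618764446) (.leaf 2836289863297)) (.node (.leaf 2694555749779) (.leaf 2375117895838))))) (.node (.node (.node (.node (.node (.leaf 485868183191) (.leaf 4416301175057)) (.leaf 3044058796818)) (.node (.leaf 2022930078746) (.leaf 3076271093765))) (.node (.node (.leaf 1859721282689) (.leaf 3462281336977)) (.node (.leaf 2583423444498) (.leaf 4022237831705)))) (.node (.node (.node (.leaf 1041529807368) (.leaf 3249143534097)) (.node (.leaf 2340757734153) (.leaf 3778498385428))) (.node (.node (.leaf 306016955294) (.leaf 2914135906059)) (.node (.leaf 2361158937751) (.leaf 4018479782558))))))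
def dF_1718 : BT := .node (.node (.node (.node (.node (.node (.node (.leaf 108447950087) (.leaf 3731790728064)) (.leaf 2872260064024)) (.node (.leaf 23085550110) (.leaf 2451353235723))) (.node (.node (.leaf 1247151426693) (.leaf 3037616407298)) (.node (.leaf 2389612999172) (.leaf 3870840064137)))) (.node (.node (.node (.leaf 9663766039) (.leaf 3096135287694)) (.node (.leaf 548682202895) (.leaf 3648038647685))) (.node (.node (.leaf 436476549401) (.leaf 2965138735498)) (.node (.leaf 2639257983636) (.leaf 3635153914506))))) (.node (.node (.node (.node (.node (.leaf 400505795973) (.leaf 4387309657612)) (.leaf 2997887887378)) (.node (.leaf 33286004495) (.leaf 2938832156446))) (.node (.node (.leaf 1699196828297) (.leaf 3418794782735)) (.node (.leaf 2521683274627) (.leaf 3979824999692)))) (.node (.node (.node (.leaf 825707659549) (.leaf 2862596397443)) (.node (.leaf 1281511418004) (.leaf 2335389361310))) (.node (.node (.leaf 2262374562576) (.leaf 2416993485190)) (.node (.leaf 2450816367254) (.leaf 3882651431178)))))) (.node (.node (.node (.node (.node (.node (.leaf 217432785302)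 (.leaf 4342212971547)) (.leaf 2949032622744)) (.node (.leaf 418222650526) (.leaf 3309273057182))) (.node (.node (.leaf 1440425000326) (.leaf 3355444000024)) (.node (.leaf 2456185008025) (.leaf 3916474236818)))) (.node (.node (.node (.leaf 641560892828) (.leaf 3149285442438)) (.node (.leaf 1323923982596) (.leaf 3711389499549))) (.node (.node (.leaf 1058172825221) (.leaf 2766496591748)) (.node (.leaf 2464775001111) (.leaf 4121558974212))))) (.node (.node (.node (.node (.node (.leaf 509490616989) (.leaf 4420596143379)) (.leaf 3050501249299)) (.node (.leaf 1280437430427) (.leaf 767189160972))) (.node (.node (.leaf 1880659239707) (.leaf 3477850597137)) (.node (.leaf 828929309187) (.leaf 3716758209815)))) (.node (.node (.node (.leaf 1053340980499) (.leaf 3241627339534)) (.node (.leaf 2345589573777) (.leaf 3805341626635))) (.node (.node (.leaf 222801692958) (.leaf 2422899200642)) (.node (.leaf 2812667378700) (.leaf 4221953858578))))))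
def dF_1728 : BT := .node (.node (.node (.node (.node (.node (.node (.leaf 7516216453) (.leaf 4264903541789)) (.leaf 2867428224768)) (.node (.leaf 49392213918) (.leaf 2518462070430))) (.node (.node (.leaf 1194001191817) (.leaf 3275450121860)) (.node (.leaf 2373506867859) (.leaf 3856344680347)))) (.node (.node (.node (.node (.leaf 387084041111) (.leaf 4445829082113)) (.leaf 3087545351057)) (.node (.leaf 1839857054094) (.leaf 3639448093959))) (.node (.node (.leaf 2024003822849) (.leaf 3364033332099)) (.node (.leaf 2623151901457) (.leaf 3978214425118))))) (.node (.node (.node (.node (.node (.leaf 382789051537) (.leaf 4366372171158)) (.leaf 2988224169493)) (.node (.leaf 334470582151) (.leaf 2453500772493))) (.node (.node (.leaf 1646046609152) (.leaf 3401077834118)) (.node (.leaf 2501819046414) (.leaf 3964792630417)))) (.node (.node (.node (.leaf 781684234373) (.leaf 3195993301149)) (.node (.leaf 694174393605) (.leaf 3760244764189))) (.node (.node (.leaf 955630331032) (.leaf 2785286955530)) (.node (.leaf 2742874143388) (.leaf 4163971786267)))))) (.node (.node (.node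 (.node (.node (.node (.leaf 33822924558) (.leaf 4331475155979)) (.leaf 2931315878429)) (.node (.leaf 1802812947870) (.leaf 3521873995658))) (.node (.node (.leaf 1324997740672) (.leaf 3335042839299)) (.node (.leaf 2435247037457) (.leaf 3907884300177)))) (.node (.node (.node (.leaf 523449288714) (.leaf 3142306131862)) (.node (.leaf 769873041172) (.leaf 3698504594839))) (.node (.node (.leaf 330712738456) (.leaf 3571803029147)) (.node (.leaf 2695629491859) (.leaf 4116727134735))))) (.node (.node (.node (.node (.node (.leaf 481036451972) (.leaf 4413616819859)) (.leaf 2837900363540)) (.node (.leaf 497142547852) (.leaf 3286187696899))) (.node (.node (.leaf 1833951475201) (.leaf 3469260660507)) (.node (.leaf 2579128433940) (.leaf 4005594829449)))) (.node (.node (.node (.leaf 1008780684288) (.leaf 3180960755587)) (.node (.leaf 2332704670102) (.leaf 3801046784907))) (.node (.node (.leaf 339302920588) (.leaf 2821257393541)) (.node (.leaf 2786897555093) (.leaf 4220343245469))))))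
def dF_1735 : BT := .node (.node (.node (.node (.node (.node (.node (.leaf 113816660509) (.leaf 3768297949956)) (.leaf 2869575708814)) (.node (.leaf 689342363166) (.leaf 2518462062868))) (.node (.node (.leaf 1235340263057) (.leaf 3287261218183)) (.node (.leaf 2377264964996) (.leaf 2465312148233)))) (.node (.node (.node (.leaf 379030975511) (.leaf 3081639660290)) (.node (.leaf 1174136964495) (.leaf 3642132449926))) (.node (.node (.leaf 2072322214416) (.leaf 2563022302340)) (.node (.leaf 2640868645789) (.leaf 4063040030735))))) (.node (.node (.node (.node (.node (.leaf 382789051523) (.leaf 4385162654749)) (.leaf 3000572242586)) (.node (.leaf 387084028830) (.leaf 2944200758166))) (.node (.node (.leaf 1692754389137) (.leaf 3411278588293)) (.node (.leaf 2522220145948) (.leaf 3733401270150)))) (.node (.node (.node (.leaf 820338936969) (.leaf 3194919376007)) (.node (.leaf 2308545472027) (.leaf 3753802311697))) (.node (.node (.leaf 2253247647747) (.leaf 2445447672606)) (.node (.leaf 2748779724815) (.leaf 4158603063684)))))) (.node (.node (.node (.node (.node (.node (.leaf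 263603680133) (.leaf 4341676100495)) (.leaf 763968008076)) (.node (.leaf 128849068446) (.leaf 3220152543113))) (.node (.node (.leaf 1418413287809) (.leaf 3347390852866)) (.node (.leaf 759136052748) (.leaf 3913789881629)))) (.node (.node (.node (.leaf 636192153357) (.leaf 2806224939395)) (.node (.leaf 368293748766) (.leaf 3704410176015))) (.node (.node (.leaf 1042603560200) (.leaf 2609730269470)) (.node (.leaf 2692408265615) (.leaf 4108673840520))))) (.node (.node (.node (.node (.node (.leaf 496068840978) (.leaf 4417374917135)) (.leaf 2576981069058)) (.node (.leaf 824633917466) (.leaf 1130113962508))) (.node (.node (.leaf 134218171417) (.leaf 3320547417622)) (.node (.leaf 2580739047060) (.leaf 3556233849758)))) (.node (.node (.node (.leaf 1045287914899) (.leaf 3239479855387)) (.node (.leaf 2031520089477) (.leaf 2647848245127))) (.node (.node (.leaf 649613847706) (.leaf 2422362265732)) (.node (.leaf 2799244972428) (.leaf 4219268812685))))))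
def dF_1743 : BT := .node (.node (.node (.node (.node (.node (.node (.leaf 105763594631) (.leaf 4271882865299)) (.leaf 2867428224665)) (.node (.leaf 26306680975) (.leaf 2848637499142))) (.node (.node (.leaf 1213328550533) (.leaf 3284577022744)) (.node (.leaf 2029909484693) (.leaf 3862787132929)))) (.node (.node (.node (.node (.leaf 331786324611) (.leaf 4447439695379)) (.leaf 2860985825301)) (.node (.leaf 824097046415) (.leaf 3641059393297))) (.node (.node (.leaf 2052457986052) (.leaf 2594697727365)) (.node (.leaf 2623151852436) (.leaf 4060892459911))))) (.node (.node (.node (.node (.node (.leaf 378493995925) (.leaf 4373351494549)) (.leaf 3007551566212)) (.node (.leaf 1317481548574) (.leaf 2937757813900))) (.node (.node (.leaf 1676111387009) (.leaf 3178276600587)) (.node (.leaf 2517388306579) (.leaf 3900368123422)))) (.node (.node (.node (.leaf 118111794330) (.leaf 3196530172178)) (.node (.leaf 1903744707222) (.leaf 3757023537945))) (.node (.node (.leaf 1357209958549) (.leaf 2876555201932)) (.node (.leaf 2750926701955) (.leaf 4120485243649)))))) (.node (.node (.node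 (.node (.node (.node (.leaf 250181904646) (.leaf 4303558264597)) (.leaf 2929705265297)) (.node (.leaf 1954210585625) (.leaf 3395709328158))) (.node (.node (.leaf 1394254091020) (.leaf 3349001547545)) (.node (.leaf 2440615747866) (.leaf 3910031784347)))) (.node (.node (.node (.leaf 632434085149) (.leaf 3134789937302)) (.node (.leaf 766651946629) (.leaf 3701725820825))) (.node (.node (.leaf 903016985993) (.leaf 3586835418266)) (.node (.leaf 2688650168344) (.leaf 3713000209155))))) (.node (.node (.node (.node (.node (.leaf 489089409431) (.leaf 4415764304019)) (.leaf 3044058796824)) (.node (.leaf 1961189909147) (.leaf 2580739065481))) (.node (.node (.leaf 1282585050390) (.leaf 3470871273617)) (.node (.leaf 2582349702425) (.leaf 4007205445901)))) (.node (.node (.node (.leaf 1039382324494) (.leaf 3241627339648)) (.node (.leaf 1828582884228) (.leaf 3802657532041))) (.node (.node (.leaf 410169707524) (.leaf 2823404812311)) (.node (.leaf 2349884648471) (.leaf 4213900792985))))))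
def dF_1750 : BT := .node (.node (.node (.node (.node (.node (.node (.leaf 118648474265) (.leaf 4276177833618)) (.leaf 2874944419227)) (.node (.leaf 923418442398) (.leaf 2575370494494))) (.node (.node (.leaf 471909829253) (.leaf 3294777572613)) (.node (.leaf 2381023062532) (.leaf 3870303327379)))) (.node (.node (.node (.leaf 11274400387) (.leaf 3096135287698)) (.node (.leaf 530428587534) (.leaf 2668786173726))) (.node (.node (.leaf 2081985893138) (.leaf 2684892199040)) (.node (.leaf 2637110548495) (.leaf 3249680599434))))) (.node (.node (.node (.node (.node (.leaf 391915859332) (.leaf 4387847009947)) (.leaf 3006477824018)) (.node (.leaf 32749205790) (.leaf 2410014302238))) (.node (.node (.leaf 1697586214403) (.leaf 3418794782739)) (.node (.leaf 2520072661776) (.leaf 3975530051968)))) (.node (.node (.node (.leaf 824097046550) (.leaf 3186329452821)) (.node (.leaf 2310156085135) (.leaf 3746285883530))) (.node (.node (.leaf 2258079594903) (.leaf 2650532300172)) (.node (.leaf 2738042234391) (.leaf 4172561723009)))))) (.node (.node (.node (.node (.node (.node (.leaf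 273267357835) (.leaf 4337380787850)) (.leaf 2945274525467)) (.node (.leaf 1050119754266) (.leaf 2615098835848))) (.node (.node (.leaf 226022996888) (.leaf 3355980871067)) (.node (.leaf 2452426910746) (.leaf 3925064173458)))) (.node (.node (.node (.leaf 640487150749) (.leaf 3150359262748)) (.node (.leaf 1330903305246) (.leaf 3719979436189))) (.node (.node (.leaf 885837254151) (.leaf 2401960763788)) (.node (.leaf 2696166363009) (.leaf 3730180075287))))) (.node (.node (.node (.node (.node (.leaf 505732520195) (.leaf 4420059271047)) (.leaf 3051038120344)) (.node (.leaf 638339666587) (.leaf 2793876904200))) (.node (.node (.leaf 1876901132059) (.leaf 2902861850759)) (.node (.leaf 2597382091652) (.leaf 3897146895262)))) (.node (.node (.node (.leaf 991063954183) (.leaf 3240553597456)) (.node (.leaf 2345052702737) (.leaf 3813394997149))) (.node (.node (.leaf 653372332059) (.leaf 2534031333900)) (.node (.leaf 2804077442061) (.leaf 4207458340496))))))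
def dF_1759 : BT := .node (.node (.node (.node (.node (.node (.node (.leaf 67108888460) (.leaf 4266514154895)) (.leaf 2860985772189)) (.node (.leaf 339302589598) (.leaf 3030100221569))) (.node (.node (.leaf 1199906579341) (.leaf 3286724506908)) (.node (.leaf 2374580609947) (.leaf 3855270869790)))) (.node (.node (.node (.node (.leaf 472983365013) (.leaf 4446365953309)) (.leaf 2869575761941)) (.node (.leaf 636192182415) (.leaf 3640522522257))) (.node (.node (.leaf 2037425203853) (.leaf 2557116842242)) (.node (.leaf 2633352402199) (.leaf 3943854687636))))) (.node (.node (.node (.node (.node (.leaf 386010190485) (.leaf 4377109013260)) (.leaf 2993592919066)) (.node (.leaf 32749133455) (.leaf 2383170712990))) (.node (.node (.leaf 1663226482052) (.leaf 3410204846097)) (.node (.leaf 2516851435548) (.leaf 3974456309148)))) (.node (.node (.node (.leaf 796179752449) (.leaf 3189550848667)) (.node (.leaf 1119376118676) (.leaf 3758634151066))) (.node (.node (.leaf 491237110668) (.leaf 3611531486096)) (.node (.leaf 2751464080024) (.leaf 4162361173144)))))) (.node (.node (.node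 (.node (.node (.node (.leaf 253403131020) (.leaf 4332549292815)) (.leaf 2929168394265)) (.node (.leaf 21474841615) (.leaf 3246459010206))) (.node (.node (.leaf 1329292709252) (.leaf 3345780321420)) (.node (.leaf 2444373845249) (.leaf 3908957830025)))) (.node (.node (.node (.leaf 629749729937) (.leaf 3139084905622)) (.node (.leaf 627602365572) (.leaf 3700115207706))) (.node (.node (.leaf 840740272532) (.leaf 3570729287057)) (.node (.leaf 2693482007707) (.leaf 2960307190795))))) (.node (.node (.node (.node (.node (.leaf 493384377751) (.leaf 4414690561937)) (.leaf 3044058796932)) (.node (.leaf 1832877730587) (.leaf 2473365086473))) (.node (.node (.leaf 1847373248779) (.leaf 3463355079064)) (.node (.leaf 2584497186589) (.leaf 3979825005698)))) (.node (.node (.node (.leaf 1025423686528) (.leaf 3129421272966)) (.node (.leaf 2338610132247) (.leaf 3153580643715))) (.node (.node (.leaf 1998233618944) (.leaf 2421288406915)) (.node (.leaf 2794950526219) (.leaf 4217122019227))))))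
def dF_1766 : BT := .node (.node (.node (.node (.node (.node (.node (.leaf 110595434258) (.leaf 4273493478429)) (.leaf 2871723193089)) (.node (.leaf 478888934413) (.leaf 3223910434059))) (.node (.node (.leaf 1240708917390) (.leaf 2466922623390)) (.node (.leaf 2378875578269) (.leaf 3742528050069)))) (.node (.node (.node (.leaf 466540912533) (.leaf 3096672158748)) (.node (.leaf 1394254090895) (.leaf 3651796814220))) (.node (.node (.leaf 2076617182748) (.leaf 3462818005132)) (.node (.leaf 2642479258895) (.leaf 4063576901785))))) (.node (.node (.node (.node (.node (.leaf 133680941702) (.leaf 4385699525766)) (.leaf 2998961629465)) (.node (.leaf 627065230090) (.leaf 3314641733120))) (.node (.node (.leaf 1694901873309) (.leaf 3422552880029)) (.node (.leaf 2521146403864) (.leaf 3197067229066)))) (.node (.node (.node (.leaf 821949562506) (.leaf 3190087550102)) (.node (.leaf 2309619214107) (.leaf 3752191698574))) (.node (.node (.leaf 26844083851) (.leaf 3020436485639)) (.node (.leaf 2746095356565) (.leaf 4086125502604)))))) (.node (.node (.node (.node (.node (.node (.leaf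 103079278858) (.leaf 4341139229454)) (.leaf 2949569493787)) (.node (.leaf 2175400956830) (.leaf 2523830812958))) (.node (.node (.leaf 1312649720588) (.leaf 3340948354306)) (.node (.leaf 2457258750109) (.leaf 3911642397467)))) (.node (.node (.node (.leaf 638339666588) (.leaf 2973191745026)) (.node (.leaf 1274531919902) (.leaf 3709242015492))) (.node (.node (.leaf 1053340951938) (.leaf 3045132605837)) (.node (.leaf 2686502627606) (.leaf 4106526488711))))) (.node (.node (.node (.node (.node (.leaf 504658767884) (.leaf 4418985530255)) (.leaf 3046206281089)) (.node (.leaf 510564359067) (.leaf 3504693999496))) (.node (.node (.leaf 1867773995289) (.leaf 3316252449302)) (.node (.leaf 2588255104774) (.leaf 4007204802695)))) (.node (.node (.node (.leaf 1049046012179) (.leaf 3248069792018)) (.node (.leaf 2343442089615) (.leaf 3812858126212))) (.node (.node (.leaf 297426957086) (.leaf 2478733719680)) (.node (.leaf 2798708731799) (.leaf 4210142682654))))))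
def dF_1774 : BT := .node (.node (.node (.node (.node (.node (.node (.leaf 113816660609) (.leaf 4268124647447)) (.leaf 2864206998418)) (.node (.leaf 2018635114526) (.leaf 2356327226125))) (.node (.node (.leaf 1229434681733) (.leaf 3286724506897)) (.node (.leaf 2376728094090) (.leaf 699543719838)))) (.node (.node (.node (.node (.leaf 379030866966) (.leaf 4448513437450)) (.leaf 3004867129479)) (.node (.leaf 161598183054) (.leaf 2931852919966))) (.node (.node (.leaf 2063195406853) (.leaf 2385318071703)) (.node (.leaf 2340220930310) (.leaf 4023311582999))))) (.node (.node (.node (.node (.node (.leaf 19327444742) (.leaf 4378719898632)) (.leaf 3002182855709)) (.node (.leaf 9126810380) (.leaf 3313031199902))) (.node (.node (.leaf 1687385678850) (.leaf 3359738979861)) (.node (.leaf 2520609532931) (.leaf 3969624408599)))) (.node (.node (.node (.leaf 817117618305) (.leaf 3189550848657)) (.node (.leaf 1129040078213) (.leaf 3755412924818))) (.node (.node (.leaf 1139240346886) (.leaf 2541547637633)) (.node (.leaf 2744484756499) (.leaf 4161287433089)))))) (.node (.node (.node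 (.node (.node (.node (.leaf 215822168460) (.leaf 4090957383070)) (.leaf 2648384860935)) (.node (.leaf 26306765086) (.leaf 2868501953303))) (.node (.node (.leaf 1408212737949) (.leaf 3348464676497)) (.node (.leaf 2438468263698) (.leaf 3925601044488)))) (.node (.node (.node (.leaf 635118440451) (.leaf 2711735609734)) (.node (.leaf 1967632361614) (.leaf 3702262691857))) (.node (.node (.leaf 884763478046) (.leaf 2610267140254)) (.node (.leaf 2685965813139) (.leaf 4102768489758))))) (.node (.node (.node (.node (.node (.leaf 420906909455) (.leaf 4415764304277)) (.leaf 3041911312654)) (.node (.leaf 1123671086747) (.leaf 2469607045534))) (.node (.node (.leaf 1282585053976) (.leaf 3464428821135)) (.node (.leaf 2581812831377) (.leaf 3896610037888)))) (.node (.node (.node (.leaf 1043140294017) (.leaf 3245922307869)) (.node (.leaf 2341294605577) (.leaf 3803731318417))) (.node (.node (.leaf 307090372634) (.leaf 2991445385473)) (.node (.leaf 1844689120644) (.leaf 4006668622215))))))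
def dF_1781 : BT := .node (.node (.node (.node (.node (.node (.node (.leaf 125090952448) (.leaf 4280472802052)) (.leaf 2875481290256)) (.node (.leaf 926639713674) (.leaf 2398203040257))) (.node (.node (.leaf 1188095626901) (.leaf 3297461927709)) (.node (.leaf 2396055451535) (.leaf 3871377069467)))) (.node (.node (.node (.leaf 513248713239) (.leaf 3098282745094)) (.node (.leaf 1752883658892) (.leaf 3536369569160))) (.node (.node (.leaf 2091112700928) (.leaf 3213173215617)) (.node (.leaf 2647847969408) (.leaf 3641059494533))))) (.node (.node (.node (.node (.node (.leaf 404263893148) (.leaf 4386772793736)) (.leaf 3002182855696)) (.node (.leaf 629749961118) (.leaf 3298535673118))) (.node (.node (.leaf 1700807454859) (.leaf 3419868458502)) (.node (.leaf 2532420695821) (.leaf 3713537027201)))) (.node (.node (.node (.leaf 826781401617) (.leaf 2918431039111)) (.node (.leaf 2311766698255) (.leaf 1127429811358))) (.node (.node (.leaf 2265058917889) (.leaf 2554432424724)) (.node (.leaf 2455111335574) (.leaf 4174709207067)))))) (.node (.node (.node (.node (.node (.node (.leaf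 282394167173) (.leaf 4346507939855)) (.leaf 2940442686104)) (.node (.leaf 90731190025) (.leaf 2695092579988))) (.node (.node (.leaf 1443645886724) (.leaf 3353833386899)) (.node (.leaf 2447595071385) (.leaf 3923453560337)))) (.node (.node (.node (.leaf 578210125700) (.leaf 3147674895252)) (.node (.leaf 1316407789847) (.leaf 3718368823066))) (.node (.node (.leaf 959388398750) (.leaf 2902324856982)) (.node (.leaf 2699924460186) (.leaf 4124243329307))))) (.node (.node (.node (.node (.node (.leaf 168040717321) (.leaf 4421133014429)) (.leaf 3048353765135)) (.node (.leaf 1326071468827) (.leaf 2405719130249))) (.node (.node (.leaf 1888175447820) (.leaf 3328600483222)) (.node (.leaf 2601677059869) (.leaf 3558381334028)))) (.node (.node (.node (.leaf 1055488464659) (.leaf 2483565613078)) (.node (.leaf 2311229835526) (.leaf 3812321103243))) (.node (.node (.leaf 231928239630) (.leaf 2808372515459)) (.node (.leaf 2816425475869) (.leaf 3869766540420))))))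
def dF_1793 : BT := .node (.node (.node (.node (.node (.node (.node (.leaf 97173658269) (.leaf 3736085693214)) (.leaf 2467996262786)) (.node (.leaf 410169529225) (.leaf 2356327226270))) (.node (.node (.leaf 381715502218) (.leaf 3223910607895)) (.node (.leaf 2372969996815) (.leaf 3856881551254)))) (.node (.node (.node (.node (.leaf 409632517635) (.leaf 4444755340162)) (.leaf 3087545351059)) (.node (.leaf 1845225764494) (.leaf 2465312095243))) (.node (.node (.leaf 2030446273297) (.leaf 2561411688960)) (.node (.leaf 2633889322257) (.leaf 4057671283588))))) (.node (.node (.node (.node (.node (.leaf 383325922578) (.leaf 3704410336129)) (.leaf 2990371692816)) (.node (.leaf 156229472665) (.leaf 2397666280322))) (.node (.node (.leaf 1643362253459) (.leaf 3403225522574)) (.node (.leaf 2512556467214) (.leaf 3959423920019)))) (.node (.node (.node (.leaf 706522304778) (.leaf 3193308946053)) (.node (.leaf 1692754389396) (.leaf 3753802311812))) (.node (.node (.leaf 1264867901211) (.leaf 3149822267011)) (.node (.leaf 2350421508886) (.leaf 4159139946908)))))) (.node (.node (.node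 (.node (.node (.node (.leaf 41339119118) (.leaf 4330401808666)) (.leaf 2935073975812)) (.node (.leaf 1409823355550) (.leaf 2428267808524))) (.node (.node (.leaf 1378147960193) (.leaf 3335579771537)) (.node (.leaf 2434173295385) (.leaf 3907347429137)))) (.node (.node (.node (.leaf 624381019656) (.leaf 3140158712974)) (.node (.leaf 643708527381) (.leaf 3699041465617))) (.node (.node (.leaf 196494838147) (.leaf 3582540449936)) (.node (.leaf 2687039555341) (.leaf 4111895295376))))) (.node (.node (.node (.node (.node (.leaf 467614567319) (.leaf 4413079948829)) (.leaf 2447058185094)) (.node (.leaf 711891019030) (.leaf 2961380656650))) (.node (.node (.leaf 1842541409297) (.leaf 3468723789468)) (.node (.leaf 2400350462102) (.leaf 3999689250309)))) (.node (.node (.node (.leaf 999117005579) (.leaf 2958159494914)) (.node (.leaf 2332704669972) (.leaf 3613142143883))) (.node (.node (.leaf 1076426657797) (.leaf 2439005134996)) (.node (.leaf 2734821091351) (.leaf 4220880116608))))))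
def dF_1800 : BT := .node (.node (.node (.node (.node (.node (.node (.leaf 120259113088) (.leaf 4267050974869)) (.leaf 2869038837777)) (.node (.leaf 2077154048926) (.leaf 2386928643734))) (.node (.node (.leaf 1235877134213) (.leaf 3286724506895)) (.node (.leaf 2376728093975) (.leaf 3868155843229)))) (.node (.node (.node (.node (.leaf 134754705429) (.leaf 4449050308482)) (.leaf 2986613513479)) (.node (.leaf 1122060473615) (.leaf 3647501845788))) (.node (.node (.leaf 2069637859333) (.leaf 699543539725)) (.node (.leaf 2639258032773) (.leaf 3812321314697))))) (.node (.node (.node (.node (.node (.leaf 243202581126) (.leaf 4384625729664)) (.leaf 2995740403229)) (.node (.leaf 11274652574) (.leaf 2382633676693))) (.node (.node (.leaf 1690069639320) (.leaf 3408594221463)) (.node (.leaf 2527051985409) (.leaf 3975530051331)))) (.node (.node (.node (.leaf 818191465098) (.leaf 3193308945934)) (.node (.leaf 2308008600987) (.leaf 3748970472338))) (.node (.node (.leaf 1141924957204) (.leaf 2736431663774)) (.node (.leaf 2748779724817) (.leaf 2473902154632)))))) (.node (.node (.node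 (.node (.node (.node (.leaf 260919314829) (.leaf 4333086163851)) (.leaf 2622078232449)) (.node (.leaf 166430483102) (.leaf 3347390820226))) (.node (.node (.leaf 1401770285469) (.leaf 3342022224017)) (.node (.leaf 2442226360977) (.leaf 3924527302429)))) (.node (.node (.node (.leaf 635655284628) (.leaf 2712272424198)) (.node (.leaf 1190780118663) (.leaf 2763275467019))) (.node (.node (.leaf 903017142285) (.leaf 3074660549790)) (.node (.leaf 2691334523537) (.leaf 4110284658324))))) (.node (.node (.node (.node (.node (.leaf 499826938373) (.leaf 4416301175299)) (.leaf 2398739960071)) (.node (.leaf 699542965147) (.leaf 3482145397386))) (.node (.node (.leaf 1108638876952) (.leaf 2841658564738)) (.node (.leaf 2582349702414) (.leaf 4019553476494)))) (.node (.node (.node (.leaf 1043677301766) (.leaf 3239479855389)) (.node (.leaf 1842541528341) (.leaf 2375117821698))) (.node (.node (.leaf 837519147038) (.leaf 2658585390084)) (.node (.leaf 2797634989465) (.leaf 4117800901014))))))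
def dF_1808 : BT := .node (.node (.node (.node (.node (.node (.node (.leaf 104689852800) (.leaf 1325535299085)) (.leaf 2866354482587)) (.node (.leaf 418222658462) (.leaf 2463164366614))) (.node (.node (.leaf 1202591129732) (.leaf 3287798248986)) (.node (.leaf 2374043626901) (.leaf 3854196858634)))) (.node (.node (.node (.node (.leaf 111669250946) (.leaf 4446365953428)) (.leaf 3088619040023)) (.node (.leaf 523449621638) (.leaf 3633543200643))) (.node (.node (.leaf 2041720565253) (.leaf 2829847379205)) (.node (.leaf 2626909949719) (.leaf 2931853018637))))) (.node (.node (.node (.node (.node (.leaf 381178432538) (.leaf 4380867686535)) (.leaf 2996814145413)) (.node (.leaf 1266478783387) (.leaf 2688650180227))) (.node (.node (.leaf 1667521165977) (.leaf 3408057361949)) (.node (.leaf 2516314564507) (.leaf 3973919438107)))) (.node (.node (.node (.leaf 802622204928) (.leaf 3193845816985)) (.node (.leaf 1123671104136) (.leaf 3752191698586))) (.node (.node (.leaf 447213761438) (.leaf 3609384001938)) (.node (.leaf 2745021627544) (.leaf 4155918720664)))))) (.node (.node (.node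 (.node (.node (.node (.leaf 252329388817) (.leaf 4332549292829)) (.leaf 2930242136339)) (.node (.leaf 1894081037214) (.leaf 2663954057495))) (.node (.node (.leaf 473520476033) (.leaf 2870649565190)) (.node (.leaf 2443836974108) (.leaf 3909494913295)))) (.node (.node (.node (.leaf 630823472017) (.leaf 3086471621141)) (.node (.leaf 1129576581387) (.leaf 3701725820293))) (.node (.node (.leaf 940061188766) (.leaf 3569655544975)) (.node (.leaf 2687039555227) (.leaf 4118874618882))))) (.node (.node (.node (.node (.node (.leaf 486405162258) (.leaf 4414690562050)) (.leaf 3045669409947)) (.node (.leaf 1847373248667) (.leaf 2872260125067))) (.node (.node (.leaf 229781191040) (.leaf 3470871273619)) (.node (.leaf 2585570928667) (.leaf 4003447345431)))) (.node (.node (.node (.leaf 1031866139008) (.leaf 2359548429954)) (.node (.leaf 1775432663810) (.leaf 2554969576716))) (.node (.node (.leaf 1994475980164) (.leaf 2436320862470)) (.node (.leaf 1835025443735) (.leaf 4210679566747))))))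
def dF_1815 : BT := .node (.node (.node (.node (.node (.node (.node (.leaf 117037886736) (.leaf 4274567220505)) (.leaf 2877091903375)) (.node (.leaf 944893287307) (.leaf 3276523783563))) (.node (.node (.leaf 1245540798212) (.leaf 3281892654870)) (.node (.leaf 2379412449309) (.leaf 3869766456339)))) (.node (.node (.node (.leaf 118648574471) (.leaf 3095061545627)) (.node (.leaf 1622961153934) (.leaf 3656091782417))) (.node (.node (.leaf 2081449022209) (.leaf 2502355922188)) (.node (.leaf 2637110548499) (.leaf 4064113772819))))) (.node (.node (.node (.node (.node (.leaf 115964144643) (.leaf 1318019134605)) (.leaf 2980171149854)) (.node (.leaf 6442638750) (.leaf 2560337952002))) (.node (.node (.leaf 475668032395) (.leaf 3419868524826)) (.node (.leaf 2522757016979) (.leaf 3976066687371)))) (.node (.node (.node (.leaf 819802078997) (.leaf 2805688146178)) (.node (.leaf 2310155686025) (.leaf 3745749246094))) (.node (.node (.leaf 479963133962) (.leaf 2816962476421)) (.node (.leaf 2688113310359) (.leaf 4155917996812)))))) (.node (.node (.node (.node (.node (.node (.leaf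 262529940105) (.leaf 4337381010445)) (.leaf 2943663912348)) (.node (.leaf 515933022978) (.leaf 2904472337054))) (.node (.node (.leaf 1435056290053) (.leaf 2529199662343)) (.node (.leaf 2450816297629) (.leaf 3920232334105)))) (.node (.node (.node (.leaf 630286603143) (.leaf 3146601165580)) (.node (.leaf 17179873694) (.leaf 3715684467973))) (.node (.node (.leaf 899258990871) (.leaf 2964064920067)) (.node (.leaf 2685428885525) (.leaf 4105452818562))))) (.node (.node (.node (.node (.node (.leaf 506269308805) (.leaf 4417911788672)) (.leaf 2858301463060)) (.node (.leaf 826781401626) (.leaf 2903935402504))) (.node (.node (.leaf 1872606187653) (.leaf 3315178707221)) (.node (.leaf 2588792154907) (.leaf 3763465990400)))) (.node (.node (.node (.leaf 1050119753091) (.leaf 3241627339538)) (.node (.leaf 2343978960667) (.leaf 2550137741195))) (.node (.node (.leaf 76235719962) (.leaf 3020436357889)) (.node (.leaf 2798708731913) (.leaf 4207994870921))))))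
def dF_1824 : BT := .node (.node (.node (.node (.node (.node (.node (.leaf 98784271638) (.leaf 3955129025812)) (.leaf 2870649450905)) (.node (.leaf 339839623041) (.leaf 2398739641860))) (.node (.node (.leaf 1122597362308) (.leaf 3286187635968)) (.node (.leaf 2026688258825) (.leaf 2838437431170)))) (.node (.node (.node (.node (.leaf 357019263255) (.leaf 4445292211349)) (.leaf 3091840319375)) (.node (.leaf 1050119668877) (.leaf 3639448780187))) (.node (.node (.leaf 1901597255045) (.leaf 643709002270)) (.node (.leaf 2630668096015) (.leaf 4056060677783))))) (.node (.node (.node (.node (.node (.leaf 22548670982) (.leaf 4377646460176)) (.leaf 2934000186114)) (.node (.leaf 2195802558494) (.leaf 3026342056990))) (.node (.node (.leaf 1652489061253) (.leaf 2487323745794)) (.node (.leaf 2515240822540) (.leaf 3964792571140)))) (.node (.node (.node (.leaf 788126686852) (.leaf 3189550848669)) (.node (.leaf 1123134215429) (.leaf 3753802311709))) (.node (.node (.leaf 449898051609) (.leaf 2478196815244)) (.node (.leaf 2749316595866) (.leaf 4157529333787)))))) (.node (.node (.node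 (.node (.node (.node (.leaf 243739403151) (.leaf 3770982317953)) (.leaf 2932389620507)) (.node (.leaf 227633655582) (.leaf 3419868318720))) (.node (.node (.leaf 1365263059596) (.leaf 3332895348099)) (.node (.leaf 2434710166414) (.leaf 3908421171340)))) (.node (.node (.node (.leaf 627602245779) (.leaf 3090766589461)) (.node (.leaf 641024052374) (.leaf 1693291738755))) (.node (.node (.leaf 89121015067) (.leaf 3570729287065)) (.node (.leaf 2691871394588) (.leaf 4110284682255))))) (.node (.node (.node (.node (.node (.leaf 487478904453) (.leaf 4409858723584)) (.leaf 3027952527491)) (.node (.leaf 1837709569946) (.leaf 3000035365385))) (.node (.node (.leaf 1845225764509) (.leaf 3462818208027)) (.node (.leaf 2585570928780) (.leaf 4006131483144)))) (.node (.node (.node (.leaf 1015223136769) (.leaf 2586644825350)) (.node (.leaf 1837172818568) (.leaf 3785477706901))) (.node (.node (.leaf 724239048332) (.leaf 2926484035973)) (.node (.leaf 2794950531079) (.leaf 4213900792989))))))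
def dF_1831 : BT := .node (.node (.node (.node (.node (.node (.node (.leaf 120795984017) (.leaf 4275640962689)) (.leaf 2863133256334)) (.node (.leaf 2270964423582) (.leaf 2401424189703))) (.node (.node (.leaf 135828635656) (.leaf 2524904682646)) (.node (.leaf 2377801836189) (.leaf 3868692714256)))) (.node (.node (.node (.leaf 378494104468) (.leaf 3096135287808)) (.node (.leaf 1404454640654) (.leaf 3425237286933))) (.node (.node (.leaf 2063732277776) (.leaf 2385854951562)) (.node (.leaf 2640331774746) (.leaf 4063040030724))))) (.node (.node (.node (.node (.node (.leaf 135828373127) (.leaf 4267051054346)) (.leaf 2994129790106)) (.node (.leaf 539555670280) (.leaf 3026341971840))) (.node (.node (.leaf 1692754389382) (.leaf 3417721040772)) (.node (.leaf 2523830759067) (.leaf 3978214406425)))) (.node (.node (.node (.leaf 820875818900) (.leaf 2425583541762)) (.node (.leaf 632971355799) (.leaf 3747359859217))) (.node (.node (.leaf 25770341261) (.leaf 2622614987910)) (.node (.leaf 2742337272335) (.leaf 4158603006857)))))) (.node (.node (.node (.node (.node (.node (.leaf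 264140551814) (.leaf 4300337040279)) (.leaf 2943127041421)) (.node (.leaf 151397774878) (.leaf 3473555628808))) (.node (.node (.leaf 1424855740289) (.leaf 3345243322626)) (.node (.leaf 2451890039821) (.leaf 3922379818267)))) (.node (.node (.node (.leaf 637265924509) (.leaf 3137474243842)) (.node (.leaf 367756581662) (.leaf 3704947046421))) (.node (.node (.leaf 1053340978839) (.leaf 2579128483594)) (.node (.leaf 2685965813135) (.leaf 4117264003588))))) (.node (.node (.node (.node (.node (.leaf 46707888150) (.leaf 4417374915853)) (.leaf 2577517835655)) (.node (.leaf 823560175386) (.leaf 2408403473037))) (.node (.node (.leaf 688268951962) (.leaf 3466576201347)) (.node (.leaf 2403034817302) (.leaf 3561065646221)))) (.node (.node (.node (.leaf 1046361656977) (.leaf 3243774823705)) (.node (.leaf 2342368347547) (.leaf 3804805060505))) (.node (.node (.leaf 836445352474) (.leaf 3087008428830)) (.node (.leaf 2798708731547) (.leaf 4211216413591))))))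
def dF_1839 : BT := .node (.node (.node (.node (.node (.node (.node (.leaf 106837336960) (.leaf 3890704516870)) (.leaf 2860985772185)) (.node (.leaf 44560605982) (.leaf 2850785163788))) (.node (.node (.leaf 1111323078532) (.leaf 3288334938516)) (.node (.leaf 2313914196994) (.leaf 3868155843215)))) (.node (.node (.node (.node (.leaf 423054304898) (.leaf 4447976565132)) (.leaf 3086471555860)) (.node (.leaf 769336200335) (.leaf 3643206877572))) (.node (.node (.leaf 1789391239831) (.leaf 2829847265557)) (.node (.leaf 2629594304916) (.leaf 3940633462294))))) (.node (.node (.node (.node (.node (.leaf 10737508102) (.leaf 4378720203137)) (.leaf 2816425521930)) (.node (.leaf 1173063285516) (.leaf 3508989123457))) (.node (.node (.leaf 1682553839489) (.leaf 3406983619858)) (.node (.leaf 2516851435536) (.leaf 3960497663124)))) (.node (.node (.node (.leaf 815507098377) (.leaf 3190087719698)) (.node (.leaf 829466026370) (.leaf 3750581085465))) (.node (.node (.leaf 1140851215639) (.leaf 2927020899722)) (.node (.leaf 2750390302850) (.leaf 3999689286814)))))) (.node (.node (.node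 (.node (.node (.node (.leaf 256087441423) (.leaf 4333623034909)) (.leaf 2930242136334)) (.node (.leaf 435402413454) (.leaf 2427194055301))) (.node (.node (.leaf 1400696543501) (.leaf 3349001547538)) (.node (.leaf 2441689489944) (.leaf 3915400494861)))) (.node (.node (.node (.leaf 633507827219) (.leaf 2655364277763)) (.node (.leaf 644782269462) (.leaf 3686156564225))) (.node (.node (.leaf 889595350402) (.leaf 3379066160926)) (.node (.leaf 2457258806679) (.leaf 4116726893450))))) (.node (.node (.node (.node (.node (.leaf 490700130567) (.leaf 2510409437449)) (.leaf 3044058750741)) (.node (.leaf 2022393207706) (.leaf 3300146283016))) (.node (.node (.leaf 1857573798528) (.leaf 3464428821137)) (.node (.leaf 2585570928658) (.leaf 4021700960666)))) (.node (.node (.node (.leaf 1040992946577) (.leaf 3248069792129)) (.node (.leaf 2340220863387) (.leaf 3803194447379))) (.node (.node (.leaf 137438965506) (.leaf 2914135997825)) (.node (.leaf 2373506968712) (.leaf 4207458340505))))))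
def dF_1846 : BT := .node (.node (.node (.node (.node (.node (.node (.leaf 107374188687) (.leaf 4272956607377)) (.leaf 2874407548184)) (.node (.leaf 49929156766) (.leaf 2506114108291))) (.node (.node (.leaf 1249835780869) (.leaf 3301220025092)) (.node (.leaf 2387465515013) (.leaf 2568391365899)))) (.node (.node (.node (.leaf 118111703427) (.leaf 3098282771854)) (.node (.leaf 550829687055) (.leaf 3648038711426))) (.node (.node (.leaf 2014340159620) (.leaf 2787434451338)) (.node (.leaf 2641405467796) (.leaf 3635153914497))))) (.node (.node (.node (.node (.node (.leaf 398358311813) (.leaf 4387310136582)) (.leaf 3000035371538)) (.node (.leaf 486942022558) (.leaf 2501819066903))) (.node (.node (.leaf 1698659970566) (.leaf 3420942266895)) (.node (.leaf 2521683274895) (.leaf 3978751259412)))) (.node (.node (.node (.leaf 825707659537) (.leaf 2913062328711)) (.node (.leaf 1281511417985) (.leaf 3748433273502))) (.node (.node (.leaf 92342336130) (.leaf 2736968607756)) (.node (.leaf 2741800331668) (.leaf 4175782949139)))))) (.node (.node (.node (.node (.node (.node (.leaf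 217432785158) (.leaf 4243428723732)) (.leaf 2938832072987)) (.node (.leaf 321586195870) (.leaf 3231426852894))) (.node (.node (.leaf 1439888111126) (.leaf 3353833386907)) (.node (.leaf 2445984458266) (.leaf 3918621720978)))) (.node (.node (.node (.leaf 631897216512) (.leaf 2821794264455)) (.node (.leaf 1322313414430) (.leaf 3713536983709))) (.node (.node (.leaf 1079647652254) (.leaf 2710125133056)) (.node (.leaf 2701535073295) (.leaf 3716758302733))))) (.node (.node (.node (.node (.node (.leaf 509490616321) (.leaf 4420595809035)) (.leaf 2857227720980)) (.node (.leaf 701690449306) (.leaf 2777233999872))) (.node (.node (.leaf 1880122047515) (.leaf 3478924339219)) (.node (.leaf 2603824544133) (.leaf 3897146894229)))) (.node (.node (.node (.leaf 1052804109568) (.leaf 3243774823694)) (.node (.leaf 1967632451714) (.leaf 3805341886722))) (.node (.node (.leaf 233538898974) (.leaf 3190087398668)) (.node (.leaf 2810519894540) (.leaf 4221953736972))))))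
def dF_1856 : BT := .node (.node (.node (.node (.node (.node (.node (.leaf 98784271389) (.leaf 4264903483779)) (.leaf 2865280740609)) (.node (.leaf 329101950360) (.leaf 700080325901))) (.node (.node (.leaf 1192390578327) (.leaf 3275450033556)) (.node (.leaf 2315524809350) (.leaf 3855807809308)))) (.node (.node (.node (.node (.leaf 476741462274) (.leaf 4445292211227)) (.leaf 3089692835217)) (.node (.leaf 1900523481615) (.leaf 3638911909147))) (.node (.node (.leaf 2032056886537) (.leaf 2384244284167)) (.node (.leaf 2625299385617) (.leaf 2442226745992))))) (.node (.node (.node (.node (.node (.leaf 384936535697) (.leaf 4366372171143)) (.leaf 2990371653653)) (.node (.leaf 1074815837214) (.leaf 2745558429062))) (.node (.node (.leaf 1628329868805) (.leaf 3352759656342)) (.node (.leaf 2503966530574) (.leaf 3962645146257)))) (.node (.node (.node (.leaf 779536750212) (.leaf 3197067043225)) (.node (.leaf 1835025081095) (.leaf 3760244764177))) (.node (.node (.leaf 1806034018432) (.leaf 2533494463511)) (.node (.leaf 2745021627548) (.leaf 4166119270427)))))) (.node (.node (.node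 (.node (.node (.node (.leaf 34896666638) (.leaf 4331475509507)) (.leaf 2933463362589)) (.node (.leaf 847182359070) (.leaf 3528853198219))) (.node (.node (.leaf 1382979799177) (.leaf 3336653363970)) (.node (.leaf 2431488940178) (.leaf 2994130007947)))) (.node (.node (.node (.leaf 376883529601) (.leaf 3143379873941)) (.node (.leaf 638339711370) (.leaf 3699578336657))) (.node (.node (.leaf 330175829278) (.leaf 3568581802909)) (.node (.leaf 2695629408781) (.leaf 4118874618895))))) (.node (.node (.node (.node (.node (.leaf 464930320647) (.leaf 2509335694986)) (.leaf 2835752879380)) (.node (.leaf 617401637645) (.leaf 2954401423757))) (.node (.node (.leaf 1844152022537) (.leaf 3471408144667)) (.node (.leaf 2576980949780) (.leaf 4005057716747)))) (.node (.node (.node (.leaf 1006633200129) (.leaf 2905546146566)) (.node (.leaf 2338073379219) (.leaf 3801046963225))) (.node (.node (.leaf 431107827854) (.leaf 2786897722497)) (.node (.leaf 2787434382871) (.leaf 4221416987545))))))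
def dF_1863 : BT := .node (.node (.node (.node (.node (.node (.node (.leaf 115964144669) (.leaf 3995394345738)) (.leaf 2860448901137)) (.node (.leaf 377957305886) (.leaf 2518462214528))) (.node (.node (.leaf 1231045294748) (.leaf 3287798067479)) (.node (.leaf 2377264965147) (.leaf 2408403831555)))) (.node (.node (.node (.leaf 358629876375) (.leaf 2477659892739)) (.node (.leaf 1176821319695) (.leaf 3642669835158))) (.node (.node (.leaf 2074469698576) (.leaf 2687039474967)) (.node (.leaf 2643016129949) (.leaf 4062503159708))))) (.node (.node (.node (.node (.node (.leaf 181462411523) (.leaf 4374425236501)) (.leaf 3002719726746)) (.node (.leaf 635655550750) (.leaf 2944200722948))) (.node (.node (.leaf 1692217518216) (.leaf 3203509543682)) (.node (.leaf 2524367630108) (.leaf 3882651384471)))) (.node (.node (.node (.leaf 819802078097) (.leaf 2484639342740)) (.node (.leaf 1276679579156) (.leaf 3755949795857))) (.node (.node (.leaf 2203318696581) (.leaf 2768644112542)) (.node (.leaf 2740189788177) (.leaf 3915937424130)))))) (.node (.node (.node (.node (.node (.node (.leaf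 263066771333) (.leaf 4340602358529)) (.leaf 2930242123799)) (.node (.leaf 408559289348) (.leaf 2528125934474))) (.node (.node (.leaf 1416265803648) (.leaf 3348464562178)) (.node (.leaf 2443836974094) (.leaf 3915937365789)))) (.node (.node (.node (.leaf 636729053459) (.leaf 2713883037314)) (.node (.leaf 1282048109982) (.leaf 3703873304989))) (.node (.node (.leaf 1049045974273) (.leaf 3059091250817)) (.node (.leaf 2694555749775) (.leaf 4108674043905))))) (.node (.node (.node (.node (.node (.leaf 498216325138) (.leaf 4417911787783)) (.leaf 3042448030342)) (.node (.leaf 763430618907) (.leaf 2688113445645))) (.node (.node (.leaf 207232616858) (.leaf 3469260619526)) (.node (.leaf 2581275749132) (.leaf 3561602585607)))) (.node (.node (.node (.leaf 1044751043978) (.leaf 3241627339547)) (.node (.leaf 2341294604053) (.leaf 3804804928001))) (.node (.node (.leaf 649614033920) (.leaf 2422362380160)) (.node (.leaf 2798171860507) (.leaf 4019016651422))))))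
def dF_1871 : BT := .node (.node (.node (.node (.node (.node (.node (.leaf 67108889229) (.leaf 4057671371395)) (.leaf 2869575708825)) (.node (.leaf 9126834330) (.leaf 2848637672577))) (.node (.node (.leaf 1211181066372) (.leaf 3286724506904)) (.node (.leaf 2368675030017) (.leaf 3860639648768)))) (.node (.node (.node (.node (.leaf 332860044807) (.leaf 4446902824448)) (.leaf 2859912083221)) (.node (.leaf 824633917454) (.leaf 3641059393304))) (.node (.node (.leaf 2050310501893) (.leaf 2594697842049)) (.node (.leaf 2622078110356) (.leaf 4060892327426))))) (.node (.node (.node (.node (.node (.leaf 337691894169) (.leaf 2440616211338)) (.leaf 3005404082053)) (.node (.leaf 18253698828) (.leaf 3106335864845))) (.node (.node (.leaf 1673963902848) (.leaf 3406983619865)) (.node (.leaf 2513630209304) (.leaf 3590593606686)))) (.node (.node (.node (.leaf 810675257499) (.leaf 2484639342743)) (.node (.leaf 2026688146437) (.leaf 3759171022105))) (.node (.node (.leaf 1355599345301) (.leaf 2926483918723)) (.node (.leaf 2750927112966) (.leaf 4169877355414)))))) (.node (.node (.node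 (.node (.node (.node (.leaf 46707829262) (.leaf 3900905080577)) (.leaf 2931852749457)) (.node (.leaf 435402558986) (.leaf 2919504768534))) (.node (.node (.leaf 1392643476487) (.leaf 3347390934426)) (.node (.leaf 2442763232026) (.leaf 3910031784339)))) (.node (.node (.node (.leaf 632434083465) (.leaf 3084324136981)) (.node (.leaf 645855976343) (.leaf 3701725820817))) (.node (.node (.leaf 379031076382) (.leaf 3586835418256)) (.node (.leaf 2690797652504) (.leaf 3149822622217))))) (.node (.node (.node (.node (.node (.leaf 492847601435) (.leaf 4103305433224)) (.leaf 3041911312666)) (.node (.leaf 1956358069786) (.leaf 2809983061768))) (.node (.node (.leaf 1851668198541) (.leaf 3462281336979)) (.node (.leaf 2584497186585) (.leaf 4022774702734)))) (.node (.node (.node (.leaf 115964364698) (.leaf 3239479855489)) (.node (.leaf 2337536508810) (.leaf 3802120705307))) (.node (.node (.leaf 501974388254) (.leaf 2823404790662)) (.node (.leaf 2796024376337) (.leaf 4216048277145))))))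
def dF_1878 : BT := .node (.node (.node (.node (.node (.node (.node (.leaf 108447950096) (.leaf 4276177411594)) (.leaf 2871186321948)) (.node (.leaf 12884904975) (.leaf 2607045802755))) (.node (.node (.leaf 1247688090629) (.leaf 3292630088452)) (.node (.leaf 2379949320084) (.leaf 3406446859395)))) (.node (.node (.node (.leaf 10737508119) (.leaf 3098282771858)) (.node (.leaf 528817974415) (.leaf 2781529065758))) (.node (.node (.leaf 2084133377298) (.leaf 3069291782145)) (.node (.leaf 2639258032655) (.leaf 2529736706441))))) (.node (.node (.node (.node (.node (.leaf 353797962627) (.leaf 2787434821259)) (.leaf 3006477817109)) (.node (.leaf 370441017624) (.leaf 2587181543047))) (.node (.node (.leaf 1639604169749) (.leaf 3420942266899)) (.node (.leaf 2522220145936) (.leaf 3733401269910)))) (.node (.node (.node (.leaf 824633917459) (.leaf 2655901161350)) (.node (.leaf 2310156085144) (.leaf 3745749047049))) (.node (.node (.leaf 418222979331) (.leaf 2682207740812)) (.node (.leaf 2738042290966) (.leaf 3726421991430)))))) (.node (.node (.node (.node (.node (.node (.leaf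 272730486539) (.leaf 4337381124999)) (.leaf 2947422009627)) (.node (.leaf 24696067867) (.leaf 2406256214662))) (.node (.node (.leaf 1432908805788) (.leaf 3355980871057)) (.node (.leaf 2454574394906) (.leaf 3911642397465)))) (.node (.node (.node (.leaf 624381023360) (.leaf 3099356526230)) (.node (.leaf 1249835633310) (.leaf 3721053178265))) (.node (.node (.leaf 885837219477) (.leaf 2401961187843)) (.node (.leaf 2694018822165) (.leaf 4104915544844))))) (.node (.node (.node (.node (.node (.leaf 505732520085) (.leaf 4419522401308)) (.leaf 3049427507227)) (.node (.leaf 637265924506) (.leaf 2844342797825))) (.node (.node (.leaf 1879048497947) (.leaf 3479461210255)) (.node (.leaf 2595234607493) (.leaf 3964792575892)))) (.node (.node (.node (.leaf 380641727113) (.leaf 3242701081616)) (.node (.leaf 1281511426054) (.leaf 2981245081758))) (.node (.node (.leaf 171798710022) (.leaf 2659659310605)) (.node (.leaf 2801929957900) (.leaf 4207458114057))))))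
def dF_1887 : BT := .node (.node (.node (.node (.node (.node (.node (.leaf 102005492623) (.leaf 3731253855621)) (.leaf 2863133256349)) (.node (.leaf 754303634074) (.leaf 2742874222465))) (.node (.node (.leaf 1198833013519) (.leaf 3288871991068)) (.node (.leaf 1847373374356) (.leaf 3855807613062)))) (.node (.node (.node (.node (.leaf 383325943828) (.leaf 4446365953286)) (.leaf 3083250382735)) (.node (.leaf 2026150973702) (.leaf 3639985651333))) (.node (.node (.leaf 2036351691151) (.leaf 2886755607560)) (.node (.leaf 2622078159375) (.leaf 2947422274946))))) (.node (.node (.node (.node (.node (.leaf 35970359687) (.leaf 4377109472390)) (.leaf 2964601889815)) (.node (.leaf 33286399245) (.leaf 2592013490699))) (.node (.node (.leaf 1661078997893) (.leaf 3409667975172)) (.node (.leaf 2518998919708) (.leaf 3963182020109)))) (.node (.node (.node (.leaf 794032268288) (.leaf 3191698332827)) (.node (.leaf 700079954581) (.leaf 3745212375069))) (.node (.node (.leaf 950261740807) (.leaf 3610457744028)) (.node (.leaf 2740726659226) (.leaf 4164508657304)))))) (.node (.node (.node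 (.node (.node (.node (.leaf 251255646860) (.leaf 4331475539593)) (.leaf 2931315878425)) (.node (.leaf 1824287800094) (.leaf 2483028595716))) (.node (.node (.leaf 383326162181) (.leaf 3343632837261)) (.node (.leaf 2442226361088) (.leaf 3908957718154)))) (.node (.node (.node (.leaf 629212819973) (.leaf 3088619105301)) (.node (.leaf 1699196632086) (.leaf 3700652078745))) (.node (.node (.leaf 184683850391) (.leaf 3567508060819)) (.node (.leaf 2683281457948) (.leaf 4119411213705))))) (.node (.node (.node (.node (.node (.leaf 494458227846) (.leaf 2599530008458)) (.leaf 3041911312773)) (.node (.leaf 1847910119706) (.leaf 3190087789321))) (.node (.node (.leaf 1846299506588) (.leaf 3465502563224)) (.node (.leaf 2586644670749) (.leaf 3894999405703)))) (.node (.node (.node (.leaf 1023276202369) (.leaf 2764349072130)) (.node (.leaf 2338610250268) (.leaf 2814815098240))) (.node (.node (.leaf 1286880052126) (.leaf 3146064227230)) (.node (.leaf 2794950634269) (.leaf 4219269503387))))))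
def dF_1894 : BT := .node (.node (.node (.node (.node (.node (.node (.leaf 112742918418) (.leaf 4275640962589)) (.leaf 2417530398339)) (.node (.leaf 90194316313) (.leaf 3223910266627))) (.node (.node (.leaf 1238561433230) (.leaf 2523294069525)) (.node (.leaf 2377801836427) (.leaf 3592741065600)))) (.node (.node (.node (.leaf 359703618452) (.leaf 3098819642908)) (.node (.leaf 1395864704014) (.leaf 3649649330055))) (.node (.node (.leaf 2004676480388) (.leaf 2958159425805)) (.node (.leaf 2637647419545) (.leaf 4043175807127))))) (.node (.node (.node (.node (.node (.leaf 14495605382) (.leaf 4385699513218)) (.leaf 3001109113625)) (.node (.leaf 627065630724) (.leaf 3462281341060))) (.node (.node (.leaf 1692754389639) (.leaf 2921652319125)) (.node (.leaf 2523293888024) (.leaf 3975530051227)))) (.node (.node (.node (.leaf 820875820438) (.leaf 2479270632340)) (.node (.leaf 2309619214099) (.leaf 3754339182734))) (.node (.node (.leaf 2257005413761) (.leaf 3020436558464)) (.node (.leaf 2692408278679) (.leaf 4158066192534)))))) (.node (.node (.node (.node (.node (.node (.leaf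 266824906629) (.leaf 4341138767883)) (.leaf 2844342795011)) (.node (.leaf 321585886622) (.leaf 2582886573449))) (.node (.node (.leaf 1426466353298) (.leaf 2532420888583)) (.node (.leaf 2458332492185) (.leaf 3913789881627)))) (.node (.node (.node (.leaf 628675990280) (.leaf 2424509787139)) (.node (.leaf 1277216275102) (.leaf 3707094531333))) (.node (.node (.leaf 903017124994) (.leaf 3226595025549)) (.node (.leaf 2688650111766) (.leaf 4107063051530))))) (.node (.node (.node (.node (.node (.leaf 76235789579) (.leaf 3380140315531)) (.leaf 3044058762758)) (.node (.leaf 159987569946) (.leaf 3308736062600))) (.node (.node (.leaf 1796370291608) (.leaf 3464428785940)) (.node (.leaf 2588255233792) (.leaf 1322850866310)))) (.node (.node (.node (.leaf 1045824786563) (.leaf 2721399427335)) (.node (.leaf 2342905218589) (.leaf 3810710642053))) (.node (.node (.leaf 835908500360) (.leaf 2473901935621)) (.node (.leaf 823560646534) (.leaf 4160750571924))))))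
def dF_1902 : BT := .node (.node (.node (.node (.node (.node (.node (.leaf 111669176448) (.leaf 4268124685709)) (.leaf 2866354482578)) (.node (.leaf 22011716766) (.leaf 769336616710))) (.node (.node (.leaf 1227287197572) (.leaf 3282429538579)) (.node (.leaf 2376191223048) (.leaf 2512019919492)))) (.node (.node (.node (.node (.leaf 379567846551) (.leaf 4448513437442)) (.leaf 2663417278083)) (.node (.leaf 1049046012174) (.leaf 3647501845776))) (.node (.node (.leaf 2061047922692) (.leaf 2385317500813)) (.node (.leaf 2415919729172) (.leaf 1843615680268))))) (.node (.node (.node (.node (.node (.leaf 179314927363) (.leaf 4378720140042)) (.leaf 3004330339869)) (.node (.leaf 1692217518107) (.leaf 2908230561666))) (.node (.node (.leaf 1687385389723) (.leaf 3409131056003)) (.node (.leaf 2514167080335) (.leaf 3717295122698)))) (.node (.node (.node (.leaf 816580851857) (.leaf 3191698332817)) (.node (.leaf 163208779395) (.leaf 3757560408978))) (.node (.node (.leaf 2216740267285) (.leaf 2555506304773)) (.node (.leaf 2746632240659) (.leaf 3735011928966)))))) (.node (.node (.node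 (.node (.node (.node (.leaf 68182667674) (.leaf 4336844212484)) (.leaf 2649458559751)) (.node (.leaf 762893815436) (.leaf 2868501966599))) (.node (.node (.leaf 1409286465549) (.leaf 3340411610898)) (.node (.leaf 2440615747858) (.leaf 3923990431501)))) (.node (.node (.node (.leaf 634581569309) (.leaf 2860448913287)) (.node (.leaf 1968169232665) (.leaf 3702799420682))) (.node (.node (.leaf 881542149130) (.leaf 2578591780363)) (.node (.leaf 2688113297299) (.leaf 4111894998923))))) (.node (.node (.node (.node (.node (.leaf 479962709918) (.leaf 4416838046095)) (.leaf 3044058796814)) (.node (.leaf 1130113539226) (.leaf 2706903906305))) (.node (.node (.leaf 1866163735168) (.leaf 3466576305295)) (.node (.leaf 2583960315537) (.leaf 3736085612167)))) (.node (.node (.node (.leaf 1042603401857) (.leaf 3248069792029)) (.node (.leaf 2340757371906) (.leaf 3590593566341))) (.node (.node (.leaf 354871814799) (.leaf 2478196976395)) (.node (.leaf 2353642745226) (.leaf 4219806350231))))))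
def dF_1909 : BT := .node (.node (.node (.node (.node (.node (.node (.leaf 81067537153) (.leaf 4278325317891)) (.leaf 2871723192979)) (.node (.leaf 836444886558) (.leaf 3041374458142))) (.node (.node (.leaf 471372959242) (.leaf 3299609411869)) (.node (.leaf 2396055447173) (.leaf 3674882315671)))) (.node (.node (.node (.leaf 507880003735) (.leaf 3097745847828)) (.node (.leaf 536871040014) (.leaf 1275069287811))) (.node (.node (.leaf 2090575812357) (.leaf 3313568047754)) (.node (.leaf 2645700485249) (.leaf 4065724385945))))) (.node (.node (.node (.node (.node (.leaf 41339156884) (.leaf 4386773088778)) (.leaf 3004330339856)) (.node (.leaf 1559610149662) (.leaf 2528125865239))) (.node (.node (.leaf 1699733712772) (.leaf 2920041706006)) (.node (.leaf 2530273211661) (.leaf 3717831994245)))) (.node (.node (.node (.leaf 826244530589) (.leaf 3091303407367)) (.node (.leaf 628139518212) (.leaf 3741991152286))) (.node (.node (.leaf 2263984867737) (.leaf 2417530312455)) (.node (.leaf 2746095299988) (.leaf 4173098593948)))))) (.node (.node (.node (.node (.node (.node (.leaf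 280246683012) (.leaf 4345434197889)) (.leaf 2942590170264)) (.node (.leaf 321049287436) (.leaf 2695092761349))) (.node (.node (.leaf 17717084057) (.leaf 3355444000016)) (.node (.leaf 2449742555545) (.leaf 3925064173456)))) (.node (.node (.node (.leaf 643171505949) (.leaf 2873870742420)) (.node (.leaf 1323923985310) (.leaf 3720516307226))) (.node (.node (.leaf 2021319262619) (.leaf 2902324734475)) (.node (.leaf 2696703233948) (.leaf 4124243329286))))) (.node (.node (.node (.node (.node (.leaf 510564359059) (.leaf 4421133014417)) (.leaf 3047816894096)) (.node (.leaf 1382442928026) (.leaf 2623688772489))) (.node (.node (.leaf 1886027963660) (.leaf 2462090831363)) (.node (.leaf 2603824544029) (.leaf 3892851912203)))) (.node (.node (.node (.leaf 1053340981003) (.leaf 3195456442519)) (.node (.leaf 2344515832065) (.leaf 3813394682891))) (.node (.node (.leaf 647466375710) (.leaf 2432562679942)) (.node (.leaf 2816425475857) (.leaf 4221953735176))))))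
def dF_1920 : BT := .node (.node (.node (.node (.node (.node (.node (.leaf 81604401929) (.leaf 4262756057617)) (.leaf 2860985772289)) (.node (.leaf 329101890433) (.leaf 2836826728449))) (.node (.node (.leaf 1191316836372) (.leaf 3276523747715)) (.node (.leaf 2372969996827) (.leaf 3856881551375)))) (.node (.node (.node (.node (.leaf 406411399063) (.leaf 4445292211215)) (.leaf 3083250382739)) (.node (.leaf 1824824664975) (.leaf 2466385837312))) (.node (.node (.leaf 1960653054976) (.leaf 2561411739402)) (.node (.leaf 2629594353937) (.leaf 4056597578259))))) (.node (.node (.node (.node (.node (.leaf 379030954258) (.leaf 4378183266957)) (.leaf 2989297950734)) (.node (.leaf 128312244749) (.leaf 2397129193750))) (.node (.node (.leaf 1644972866697) (.leaf 3403225383938)) (.node (.leaf 2508261498894) (.leaf 3963718888339)))) (.node (.node (.node (.leaf 775241781892) (.leaf 3197067043215)) (.node (.leaf 641561160726) (.leaf 3758097280132))) (.node (.node (.leaf 1758252639003) (.leaf 2545842580098)) (.node (.leaf 2749316595868) (.leaf 4170414238747)))))) (.node (.node (.node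 (.node (.node (.node (.leaf 245886919451) (.leaf 4329864937625)) (.leaf 2936684588825)) (.node (.leaf 405874459021) (.leaf 2624225758082))) (.node (.node (.leaf 1321239643780) (.leaf 3335579771535)) (.node (.leaf 2435783908498) (.leaf 3907347420310)))) (.node (.node (.node (.leaf 625454761619) (.leaf 3135863744654)) (.node (.leaf 827318226452) (.leaf 3071439369483))) (.node (.node (.leaf 197031730432) (.leaf 3572876771229)) (.node (.leaf 2691334523660) (.leaf 4107600327056))))) (.node (.node (.node (.node (.node (.leaf 431644324505) (.leaf 4413079948424)) (.leaf 2593624029319)) (.node (.leaf 618475437844) (.leaf 3128884421131))) (.node (.node (.leaf 1833414604032) (.leaf 3464428821148)) (.node (.leaf 2458869390598) (.leaf 3910568677637)))) (.node (.node (.node (.leaf 1002338231809) (.leaf 2520072830615)) (.node (.leaf 1835025334656) (.leaf 3023657882633))) (.node (.node (.leaf 431107664286) (.leaf 2784212970508)) (.node (.leaf 2736968575511) (.leaf 4221416987531))))))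
def dF_1927 : BT := .node (.node (.node (.node (.node (.node (.node (.leaf 120259112989) (.leaf 4268124768011)) (.leaf 2864743869457)) (.node (.leaf 49392390154) (.leaf 1962263915655))) (.node (.node (.leaf 1233729649948) (.leaf 3282429538575)) (.node (.leaf 2377264965129) (.leaf 3860102584323)))) (.node (.node (.node (.node (.leaf 449360986119) (.leaf 4449050308499)) (.leaf 2420214779398)) (.node (.leaf 1275068720015) (.leaf 3642670006415))) (.node (.node (.leaf 2073932827653) (.leaf 2687039081351)) (.node (.leaf 2630668098957) (.leaf 3633006430101))))) (.node (.node (.node (.node (.node (.leaf 383325922567) (.leaf 3925064283143)) (.leaf 3007014695066)) (.node (.leaf 624381243678) (.leaf 2501282176515))) (.node (.node (.leaf 20401498120) (.leaf 3405372995220)) (.node (.leaf 2528125727387) (.leaf 3979824955904)))) (.node (.node (.node (.leaf 815507110657) (.leaf 3189013977614)) (.node (.leaf 1275605837323) (.leaf 3744675504018))) (.node (.node (.leaf 926102755586) (.leaf 3081639774733)) (.node (.leaf 2744484756497) (.leaf 4160750560018)))))) (.node (.node (.node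 (.node (.node (.node (.leaf 103079277576) (.leaf 4080756835201)) (.leaf 2930242102150)) (.node (.leaf 426812481950) (.leaf 631897885453))) (.node (.node (.leaf 1411970835328) (.leaf 3347390934415)) (.node (.leaf 2439542005774) (.leaf 3920232334109)))) (.node (.node (.node (.leaf 636192182531) (.leaf 2861522564615)) (.node (.leaf 1900523210883) (.leaf 3703873304975))) (.node (.node (.leaf 882615993605) (.leaf 2687576465287)) (.node (.leaf 2687039555217) (.leaf 3150896362378))))) (.node (.node (.node (.node (.node (.leaf 49929114390) (.leaf 2721936577035)) (.leaf 3040300561027)) (.node (.leaf 766651845146) (.leaf 3048353667082))) (.node (.node (.leaf 1862405225112) (.leaf 3470334378886)) (.node (.leaf 2407329785622) (.leaf 3557307621517)))) (.node (.node (.node (.leaf 1043677301908) (.leaf 3245922307867)) (.node (.leaf 2341294605466) (.leaf 3640522561301))) (.node (.node (.leaf 652835158042) (.leaf 2821794264452)) (.node (.leaf 2359548325376) (.leaf 1967632897694))))))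
def dF_1935 : BT := .node (.node (.node (.node (.node (.node (.node (.leaf 73014469132) (.leaf 4270809123333)) (.leaf 2862059514267)) (.node (.leaf 974420805662) (.leaf 2517925221142))) (.node (.node (.leaf 1206886098052) (.leaf 3283503280666)) (.node (.leaf 1909113529349) (.leaf 3854197196179)))) (.node (.node (.node (.node (.leaf 109521744919) (.leaf 4446365953413)) (.leaf 3084324071703)) (.node (.leaf 696858642567) (.leaf 3634080071573))) (.node (.node (.leaf 2046015533573) (.leaf 2795487664926)) (.node (.leaf 2622614981399) (.leaf 3697430939270))))) (.node (.node (.node (.node (.node (.leaf 380641480085) (.leaf 4030290981765)) (.leaf 3001109113733)) (.node (.leaf 28454162974) (.leaf 2607045720068))) (.node (.node (.leaf 1669668934528) (.leaf 3407520490906)) (.node (.leaf 2517925177624) (.leaf 3969624469787)))) (.node (.node (.node (.leaf 806917173249) (.leaf 3189550848665)) (.node (.leaf 1960116140054) (.leaf 3747896730266))) (.node (.node (.leaf 1226213486359) (.leaf 3609384002581)) (.node (.leaf 2740726659224) (.leaf 4169877356289)))))) (.node (.node (.node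 (.node (.node (.node (.leaf 248034420497) (.leaf 4334696777101)) (.leaf 2936147717777)) (.node (.leaf 22011712664) (.leaf 2812667457030))) (.node (.node (.leaf 1392106588951) (.leaf 3347927805469)) (.node (.leaf 2439542005788) (.leaf 3909494913307)))) (.node (.node (.node (.leaf 631360343059) (.leaf 3136400603543)) (.node (.leaf 1122597259797) (.leaf 3701188764937))) (.node (.node (.leaf 897111504286) (.leaf 3584151063171)) (.node (.leaf 2695092620824) (.leaf 4118337527432))))) (.node (.node (.node (.node (.node (.leaf 482110193938) (.leaf 4415227432989)) (.leaf 3041911312668)) (.node (.leaf 1895691642266) (.leaf 2904472225290))) (.node (.node (.leaf 229781191299) (.leaf 3466576305299)) (.node (.leaf 2581275960347) (.leaf 4019553476611)))) (.node (.node (.node (.leaf 1036161107328) (.leaf 3236795500185)) (.node (.leaf 2339683992339) (.leaf 3802120674694))) (.node (.node (.leaf 145492339355) (.leaf 2877628752773)) (.node (.leaf 2355253357579) (.leaf 4220343245465))))))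
def dF_1942 : BT := .node (.node (.node (.node (.node (.node (.node (.leaf 112742918416) (.leaf 4276177771393)) (.leaf 2875481290268)) (.node (.leaf 94489344670) (.leaf 3466576078494))) (.node (.node (.leaf 1246614554909) (.leaf 2520072843286)) (.node (.leaf 2379949320337) (.leaf 3869766203528)))) (.node (.node (.node (.leaf 432181165333) (.leaf 3095598416664)) (.node (.leaf 1752883945614) (.leaf 2989298109598))) (.node (.node (.leaf 2085743990529) (.leaf 3462817975050)) (.node (.leaf 2638184290577) (.leaf 2530273577349))))) (.node (.node (.node (.node (.node (.leaf 134754683779) (.leaf 4104379168386)) (.leaf 3008088391050)) (.node (.leaf 2195802301826) (.leaf 2383170725123))) (.node (.node (.leaf 1639604169856) (.leaf 3419331653785)) (.node (.leaf 2526515114256) (.leaf 3975529738888)))) (.node (.node (.node (.leaf 759672536981) (.leaf 3187403230471)) (.node (.leaf 631897614356) (.leaf 3745212068107))) (.node (.node (.leaf 2259690206984) (.leaf 3238406118942)) (.node (.leaf 2740189775126) (.leaf 4104379113094)))))) (.node (.node (.node (.node (.node (.node (.leaf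 271119874055) (.leaf 4337380677259)) (.leaf 2939368944028)) (.node (.leaf 143344567704) (.leaf 2512556560641))) (.node (.node (.leaf 1437203774108) (.leaf 3353296515973)) (.node (.leaf 2446521329309) (.leaf 3915937365785)))) (.node (.node (.node (.leaf 639413408658) (.leaf 3150896131341)) (.node (.leaf 1246077668126) (.leaf 3719979436293))) (.node (.node (.leaf 900869600515) (.leaf 2450279546758)) (.node (.leaf 2689723853845) (.leaf 4001836756758))))) (.node (.node (.node (.node (.node (.leaf 506806179589) (.leaf 4415227434133)) (.leaf 3049964378268)) (.node (.leaf 631360343067) (.leaf 2571612510750))) (.node (.node (.leaf 1876901155972) (.leaf 3476239984128)) (.node (.leaf 2590939639173) (.leaf 3892314960268)))) (.node (.node (.node (.leaf 1049582881428) (.leaf 3246996049936)) (.node (.leaf 2344515831705) (.leaf 826245242014))) (.node (.node (.leaf 835371176716) (.leaf 3001646067870)) (.node (.leaf 2800319344668) (.leaf 4207995187351))))))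
def dF_1951 : BT := .node (.node (.node (.node (.node (.node (.node (.leaf 83215015429) (.leaf 4265977245828)) (.leaf 2867428224669)) (.node (.leaf 1292248292126) (.leaf 3023657701636))) (.node (.node (.leaf 15569541900) (.leaf 2410551179138)) (.node (.leaf 2371896255360) (.leaf 3856344680338)))) (.node (.node (.node (.node (.leaf 426275583879) (.leaf 4445292211333)) (.leaf 3087545351055)) (.node (.leaf 1123670984832) (.leaf 3639985651217))) (.node (.node (.leaf 231391848196) (.leaf 2887292331405)) (.node (.leaf 2626373127695) (.leaf 3759707893250))))) (.node (.node (.node (.node (.node (.leaf 387084019847) (.leaf 4377109589149)) (.leaf 2993592243980)) (.node (.leaf 386010280862) (.leaf 3462281340958))) (.node (.node (.leaf 1656784029573) (.leaf 3405373006852)) (.node (.leaf 2519535788301) (.leaf 3971235083013)))) (.node (.node (.node (.leaf 118111789320) (.leaf 3195993301147)) (.node (.leaf 1130650407958) (.leaf 3749507343389))) (.node (.node (.leaf 89657669403) (.leaf 3610457744027)) (.node (.leaf 2745021627546) (.leaf 4168803625624)))))) (.node (.node (.node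 (.node (.node (.node (.leaf 180925555482) (.leaf 4328254313355)) (.leaf 2935610846745)) (.node (.leaf 20938396830) (.leaf 3246995910942))) (.node (.node (.leaf 1365263059988) (.leaf 3339337868941)) (.node (.leaf 2437931392771) (.leaf 3026342262922)))) (.node (.node (.node (.leaf 628139116819) (.leaf 3140695571863)) (.node (.leaf 642634678411) (.leaf 3564823737992))) (.node (.node (.leaf 1873679992065) (.leaf 3571803029139)) (.node (.leaf 2687576426268) (.leaf 4105989713935))))) (.node (.node (.node (.node (.node (.leaf 491773872772) (.leaf 4410932465428)) (.leaf 2836289597062)) (.node (.leaf 1833951472667) (.leaf 3582540379141))) (.node (.node (.leaf 1846299506699) (.leaf 3469797531544)) (.node (.leaf 2472828037634) (.leaf 4006668374665)))) (.node (.node (.node (.leaf 14495757697) (.leaf 3235184822146)) (.node (.leaf 2339147121299) (.leaf 3801583508876))) (.node (.node (.leaf 2012729496603) (.leaf 2640868169859)) (.node (.leaf 2794950634257) (.leaf 4209605824669))))))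
def dF_1958 : BT := .node (.node (.node (.node (.node (.node (.node (.leaf 117037886738) (.leaf 4107063496451)) (.leaf 2858838288014)) (.node (.leaf 155692601615) (.leaf 2954401282694))) (.node (.node (.leaf 1240172102533) (.leaf 2523830940566)) (.node (.leaf 2377801836416) (.leaf 3868692714266)))) (.node (.node (.node (.leaf 11811250199) (.leaf 3099356513935)) (.node (.leaf 1400159672334) (.leaf 3647501583745))) (.node (.node (.leaf 2059437309456) (.leaf 2372433282445)) (.node (.leaf 2641942387865) (.leaf 3925601077378))))) (.node (.node (.node (.node (.node (.leaf 114353531526) (.leaf 4386236396827)) (.leaf 3005404081945)) (.node (.leaf 523449544452) (.leaf 3055869885185))) (.node (.node (.leaf 1692217518598) (.leaf 3422016009092)) (.node (.leaf 2527588856344) (.leaf 3976603793299)))) (.node (.node (.node (.leaf 821412689940) (.leaf 2480344374423)) (.node (.leaf 1122597627648) (.leaf 3758634151054))) (.node (.node (.leaf 2255395239170) (.leaf 2649995515266)) (.node (.leaf 2694555762839) (.leaf 4158065809802)))))) (.node (.node (.node (.node (.node (.node (.leaf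 265214293896) (.leaf 4006131780126)) (.leaf 2947422009740)) (.node (.leaf 338765742088) (.leaf 2643016129929))) (.node (.node (.leaf 1365263069722) (.leaf 3343095877634)) (.node (.leaf 2456185008140) (.leaf 3918084849947)))) (.node (.node (.node (.leaf 637802795549) (.leaf 2422899095427)) (.node (.leaf 1324460898590) (.leaf 3704947047066))) (.node (.node (.leaf 958314806558) (.leaf 2610266678028)) (.node (.leaf 2692945080086) (.leaf 4108137101570))))) (.node (.node (.node (.node (.node (.leaf 503048062489) (.leaf 4418448659215)) (.leaf 2757369729922)) (.node (.leaf 642634634907) (.leaf 2470143218957))) (.node (.node (.leaf 1792612417166) (.leaf 3317863062422)) (.node (.leaf 2556579900053) (.leaf 3762928537862)))) (.node (.node (.node (.leaf 1047435397653) (.leaf 3239479855385)) (.node (.leaf 1840930915841) (.leaf 3806415673731))) (.node (.node (.leaf 209379817869) (.leaf 2497524059020)) (.node (.leaf 2798708731530) (.leaf 4211216024713))))))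
def dF_1966 : BT := .node (.node (.node (.node (.node (.node (.node (.leaf 107374208128) (.leaf 4267587807134)) (.leaf 2870112579857)) (.node (.leaf 1821066188301) (.leaf 2450816393217))) (.node (.node (.leaf 1222992229252) (.leaf 3286724506899)) (.node (.leaf 2376190906887) (.leaf 3799436366485)))) (.node (.node (.node (.node (.leaf 115964219271) (.leaf 4447976566403)) (.leaf 3090766524180)) (.node (.leaf 2022929634701) (.leaf 3647501740420))) (.node (.node (.leaf 2057289816089) (.leaf 2385318150274)) (.node (.leaf 2633889273236) (.leaf 3804805121792))))) (.node (.node (.node (.node (.node (.leaf 9663766019) (.leaf 4117264068096)) (.leaf 3008625308189)) (.node (.leaf 33822872077) (.leaf 2389076213120))) (.node (.node (.leaf 1542430532228) (.leaf 3409131104014)) (.node (.leaf 2518462048655) (.leaf 3969624413974)))) (.node (.node (.node (.leaf 816043789194) (.leaf 3195993301137)) (.node (.leaf 1967632347671) (.leaf 3746286117145))) (.node (.node (.leaf 1137629991431) (.leaf 2492155439620)) (.node (.leaf 2749853466895) (.leaf 4119411501831)))))) (.node (.node (.node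 (.node (.node (.node (.leaf 73551376270) (.leaf 4333086163866)) (.leaf 2827162922374)) (.node (.leaf 755914327838) (.leaf 2538326250646))) (.node (.node (.leaf 1404991511820) (.leaf 3344706579218)) (.node (.leaf 2444910716178) (.leaf 3919695463180)))) (.node (.node (.node (.leaf 634044684948) (.leaf 3081639781782)) (.node (.leaf 1966558522630) (.leaf 3702799562898))) (.node (.node (.leaf 893890278558) (.leaf 3059091250718)) (.node (.leaf 2692408265619) (.leaf 2331094480542))))) (.node (.node (.node (.node (.node (.leaf 483720699031) (.leaf 4416301175069)) (.leaf 3041911312658)) (.node (.leaf 2026688176026) (.leaf 2525441436685))) (.node (.node (.leaf 1861868766848) (.leaf 3470871273615)) (.node (.leaf 2581275960338) (.leaf 4020090347545)))) (.node (.node (.node (.leaf 1041529817619) (.leaf 2485713097237)) (.node (.leaf 2340757734419) (.leaf 3803194447387))) (.node (.node (.leaf 354871828254) (.leaf 2437931562881)) (.node (.leaf 2797098017289) (.leaf 4219806374417))))))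
def dF_1973 : BT := .node (.node (.node (.node (.node (.node (.node (.leaf 73551344012) (.leaf 4272956241675)) (.leaf 2876018161299)) (.node (.leaf 23622349598) (.leaf 2688649812620))) (.node (.node (.leaf 1194538077451) (.leaf 2896419357460)) (.node (.leaf 2391760483333) (.leaf 3833259234692)))) (.node (.node (.node (.leaf 360240415126) (.leaf 3097745847831)) (.node (.leaf 546534718735) (.leaf 2526515381641))) (.node (.node (.leaf 493384866200) (.leaf 2386391815050)) (.node (.leaf 2637110499476) (.leaf 4065724385935))))) (.node (.node (.node (.node (.node (.leaf 402653280132) (.leaf 4387310138898)) (.leaf 2995740403218)) (.node (.leaf 1314260305945) (.leaf 2938295074055))) (.node (.node (.leaf 1699196841617) (.leaf 2920578577045)) (.node (.leaf 2520072613507) (.leaf 3896609970059)))) (.node (.node (.node (.leaf 825170788499) (.leaf 2539936980995)) (.node (.leaf 2311229827229) (.leaf 3747896731294))) (.node (.node (.leaf 274341575556) (.leaf 2554969279370)) (.node (.leaf 2743947815828) (.leaf 4175782949145)))))) (.node (.node (.node (.node (.node (.node (.leaf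 102542410262) (.leaf 4342212563722)) (.leaf 2946885138584)) (.node (.leaf 92342007326) (.leaf 2457795805573))) (.node (.node (.leaf 1375463620100) (.leaf 3353296515864)) (.node (.leaf 2454037523865) (.leaf 3914326752658)))) (.node (.node (.node (.leaf 642634635017) (.leaf 3148748584342)) (.node (.leaf 18253702558) (.leaf 3709242015389))) (.node (.node (.leaf 1076963323916) (.leaf 2742874181004)) (.node (.leaf 2700998202268) (.leaf 4123706458373))))) (.node (.node (.node (.node (.node (.leaf 510027488017) (.leaf 2494840182152)) (.leaf 3048353765139)) (.node (.leaf 1500554556826) (.leaf 2318209233421))) (.node (.node (.leaf 1881732995333) (.leaf 3330747967381)) (.node (.leaf 2573222902293) (.leaf 3737696218645)))) (.node (.node (.node (.leaf 1054414720393) (.leaf 3239479855374)) (.node (.leaf 1967632451734) (.leaf 3805341931547))) (.node (.node (.leaf 505732405406) (.leaf 2627983915776)) (.node (.leaf 2814814862861) (.leaf 2822868261898))))))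
def dF_1983 : BT := .node (.node (.node (.node (.node (.node (.node (.leaf 100394882315) (.leaf 4133370168576)) (.leaf 2869575708929)) (.node (.leaf 49929146250) (.leaf 2563559223710))) (.node (.node (.leaf 1193464322314) (.leaf 3281892667651)) (.node (.leaf 2031520096918) (.leaf 3854197196187)))) (.node (.node (.node (.node (.leaf 381715330708) (.leaf 4445829082246)) (.leaf 3085397866897)) (.node (.leaf 1842004538254) (.leaf 3224447565189))) (.node (.node (.leaf 2032593757469) (.leaf 2369748881566)) (.node (.leaf 2621004417297) (.leaf 3289945916041))))) (.node (.node (.node (.node (.node (.leaf 380641567377) (.leaf 4377646407299)) (.leaf 2991445395734)) (.node (.leaf 334470582165) (.leaf 2833068386944))) (.node (.node (.leaf 1646046609418) (.leaf 3351685914261)) (.node (.leaf 2500745276035) (.leaf 3961571404175)))) (.node (.node (.node (.leaf 783831718532) (.leaf 3193845816989)) (.node (.leaf 1699733459329) (.leaf 3758097280029))) (.node (.node (.leaf 955093460120) (.leaf 2546916346883)) (.node (.leaf 2740726659228) (.leaf 4161824302107)))))) (.node (.node (.node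 (.node (.node (.node (.leaf 31675440398) (.leaf 4331475550736)) (.leaf 2929168394269)) (.node (.leaf 144418427785) (.leaf 2474975678337))) (.node (.node (.leaf 1380295444745) (.leaf 3286187647366)) (.node (.leaf 2433099553297) (.leaf 3696894031767)))) (.node (.node (.node (.leaf 627065374737) (.leaf 3141769313943)) (.node (.leaf 642097807893) (.leaf 3699578336669))) (.node (.node (.leaf 330175829376) (.leaf 3569655544987)) (.node (.leaf 2695629491867) (.leaf 4114579650575))))) (.node (.node (.node (.node (.node (.leaf 483183936133) (.leaf 4413616819867)) (.leaf 2840047847700)) (.node (.leaf 497142583066) (.leaf 3286187493005))) (.node (.node (.leaf 1844688893469) (.leaf 3467113176347)) (.node (.leaf 2581275960455) (.leaf 4005594830725)))) (.node (.node (.node (.leaf 1010928168449) (.leaf 2525978257415)) (.node (.leaf 2338073107078) (.leaf 2485713228935))) (.node (.node (.leaf 813359858179) (.leaf 2821256946700)) (.node (.leaf 2786360661893) (.leaf 4218195761309))))))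
def dF_1990 : BT := .node (.node (.node (.node (.node (.node (.node (.leaf 111669176349) (.leaf 4272419616137)) (.leaf 2867428224654)) (.node (.leaf 6442466974) (.leaf 2563559223808))) (.node (.node (.leaf 1233192778897) (.leaf 3233037415572)) (.node (.leaf 2378338707215) (.leaf 3854197199620)))) (.node (.node (.node (.leaf 430033681154) (.leaf 2665027799430)) (.node (.leaf 1437740555148) (.leaf 1843078709250))) (.node (.node (.leaf 2068027246096) (.leaf 2563022302729)) (.node (.leaf 2638721161629) (.leaf 4063040030739))))) (.node (.node (.node (.node (.node (.leaf 382252093191) (.leaf 4386236330885)) (.leaf 2998424758426)) (.node (.leaf 24696469406) (.leaf 2691334466823))) (.node (.node (.leaf 1693291259909) (.leaf 3413426072452)) (.node (.leaf 2520072661788) (.leaf 3979288148509)))) (.node (.node (.node (.leaf 820338949137) (.leaf 2482491858583)) (.node (.leaf 1693828277889) (.leaf 3751654827537))) (.node (.node (.leaf 2253247647767) (.leaf 2682207784094)) (.node (.leaf 2746632240655) (.leaf 4158602680842)))))) (.node (.node (.node (.node (.node (.node (.leaf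 263066809748) (.leaf 4136591412098)) (.leaf 2938832073101)) (.node (.leaf 49929029254) (.leaf 2513093338120))) (.node (.node (.leaf 1420560771968) (.leaf 2537789598983)) (.node (.leaf 2447595071501) (.leaf 3911642397469)))) (.node (.node (.node (.leaf 636192182417) (.leaf 3136400528647)) (.node (.leaf 1268626233860) (.leaf 3704410176019))) (.node (.node (.leaf 1052804107906) (.leaf 3279208321694)) (.node (.leaf 2690260781455) (.leaf 4108673654029))))) (.node (.node (.node (.node (.node (.leaf 496605711765) (.leaf 4416301175316)) (.leaf 2576980964615)) (.node (.leaf 636729053466) (.leaf 2905546060299))) (.node (.node (.leaf 1859184189209) (.leaf 3061775638018)) (.node (.leaf 2406256043541) (.leaf 3559455072268)))) (.node (.node (.node (.leaf 1041529818625) (.leaf 3248069792025)) (.node (.leaf 2342368347535) (.leaf 2821794420621))) (.node (.node (.leaf 836981951262) (.leaf 2627983786270)) (.node (.leaf 2799245602578) (.leaf 4211216437777))))))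
def dF_1998 : BT := .node (.node (.node (.node (.node (.node (.node (.leaf 106300465920) (.leaf 4057134500502)) (.leaf 2865280740505)) (.node (.leaf 420906918410) (.leaf 641024548099))) (.node (.node (.leaf 1215476034692) (.leaf 3282429538584)) (.node (.leaf 2375654352025) (.leaf 3864934617088)))) (.node (.node (.node (.node (.leaf 111132305287) (.leaf 4446365953558)) (.leaf 2657511749763)) (.node (.leaf 766114974094) (.leaf 3641059392022))) (.node (.node (.leaf 2054605406725) (.leaf 2594697796234)) (.node (.leaf 2625299336596) (.leaf 4060892545419))))) (.node (.node (.node (.node (.node (.leaf 359703601051) (.leaf 3871914062733)) (.leaf 3009699000325)) (.node (.leaf 18253615386) (.leaf 2898566754325))) (.node (.node (.leaf 1678258871168) (.leaf 2555506354055)) (.node (.leaf 2515240822419) (.leaf 3963718887318)))) (.node (.node (.node (.leaf 11811354009) (.leaf 3194382688018)) (.node (.leaf 1895691642516) (.leaf 3754876053785))) (.node (.node (.leaf 2218887750422) (.leaf 3531537544971)) (.node (.leaf 2750927208977) (.leaf 2797635315870)))))) (.node (.node (.node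 (.node (.node (.node (.leaf 249108113807) (.leaf 4336844261145)) (.leaf 2934537104654)) (.node (.leaf 898721928478) (.leaf 2777233819797))) (.node (.node (.leaf 1396401575181) (.leaf 3346854063385)) (.node (.leaf 2438468263706) (.leaf 3911105526540)))) (.node (.node (.node (.leaf 632970956177) (.leaf 3134253119383)) (.node (.leaf 764504447873) (.leaf 3701188949786))) (.node (.node (.leaf 1041529681288) (.leaf 2699924505246)) (.node (.leaf 2686502684184) (.leaf 1317482199692))))) (.node (.node (.node (.node (.node (.leaf 34359854614) (.leaf 4415764304027)) (.leaf 3041911312664)) (.node (.leaf 1959579296027) (.leaf 2854006448520))) (.node (.node (.leaf 1853278830208) (.leaf 3468723789457)) (.node (.leaf 2580202218265) (.leaf 4022774702748)))) (.node (.node (.node (.leaf 1039382333443) (.leaf 3243774823809)) (.node (.leaf 2340220863375) (.leaf 2556580189699))) (.node (.node (.leaf 358629781251) (.leaf 2772402026270)) (.node (.leaf 2796024376349) (.leaf 4211753308825))))))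
def dF_2005 : BT := .node (.node (.node (.node (.node (.node (.node (.leaf 116500991129) (.leaf 4273493042955)) (.leaf 2872796935067)) (.node (.leaf 922881148045) (.leaf 3223373746974))) (.node (.node (.leaf 1248762039059) (.leaf 3296925056772)) (.node (.leaf 2383170546693) (.leaf 2934000456970)))) (.node (.node (.node (.leaf 11811271427) (.leaf 3098282771856)) (.node (.leaf 532039200655) (.leaf 3656091782425))) (.node (.node (.leaf 2079838408978) (.leaf 2383707467008)) (.node (.leaf 2434173344406) (.leaf 3630322076053))))) (.node (.node (.node (.node (.node (.leaf 394063343493) (.leaf 4387310138906)) (.leaf 3004330339858)) (.node (.leaf 1508607274782) (.leaf 2501819154304))) (.node (.node (.leaf 1635846073623) (.leaf 3420942266897)) (.node (.leaf 2525978243215) (.leaf 3978751220870)))) (.node (.node (.node (.leaf 825707643143) (.leaf 2996277319298)) (.node (.leaf 1843078391811) (.leaf 2683281711624))) (.node (.node (.leaf 2261300820617) (.leaf 2681134157061)) (.node (.leaf 2447058269973) (.leaf 4174709207168)))))) (.node (.node (.node (.node (.node (.node (.leaf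 274341099403) (.leaf 4056060775431)) (.leaf 2943127041307)) (.node (.leaf 5905609118) (.leaf 2762201428126))) (.node (.node (.leaf 1438814369295) (.leaf 3354370257948)) (.node (.leaf 2450279426586) (.leaf 3922916689298)))) (.node (.node (.node (.leaf 641024021777) (.leaf 3150359262744)) (.node (.leaf 1320702788766) (.leaf 3717831952029))) (.node (.node (.leaf 1045824788245) (.leaf 2610803847814)) (.node (.leaf 2698313847168) (.leaf 4103305358982))))) (.node (.node (.node (.node (.node (.leaf 375809759619) (.leaf 4419522401294)) (.leaf 3048890636184)) (.node (.leaf 1560147242267) (.leaf 2622615151112))) (.node (.node (.leaf 1872606165275) (.leaf 3479461210267)) (.node (.leaf 2599529575813) (.leaf 3716758214814)))) (.node (.node (.node (.leaf 1051193496584) (.leaf 3238406113296)) (.node (.leaf 2345052702749) (.leaf 3812321255067))) (.node (.node (.leaf 26843612173) (.leaf 2534031284759)) (.node (.leaf 2806224926221) (.leaf 4157529345665))))))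
def dF_2014 : BT := .node (.node (.node (.node (.node (.node (.node (.leaf 2147508362) (.leaf 3976603862420)) (.leaf 2858838288029)) (.node (.leaf 338765626254) (.leaf 3030099992588))) (.node (.node (.leaf 1200443626262) (.leaf 3284577022748)) (.node (.leaf 2374043738904) (.leaf 3855807809557)))) (.node (.node (.node (.node (.leaf 333933808775) (.leaf 4446902819469)) (.leaf 2484639216263)) (.node (.leaf 820876028929) (.leaf 3640522522269))) (.node (.node (.leaf 1350230829706) (.leaf 2309619416588)) (.node (.leaf 2631204918039) (.leaf 3315178849665))))) (.node (.node (.node (.node (.node (.leaf 383862706325) (.leaf 4377109589139)) (.leaf 689879835655)) (.node (.leaf 18253966878) (.leaf 2410551173022))) (.node (.node (.leaf 1665373966213) (.leaf 3361886464021)) (.node (.leaf 2514703951388) (.leaf 3972308824988)))) (.node (.node (.node (.leaf 798327236608) (.leaf 3187403364507)) (.node (.leaf 1131724065303) (.leaf 3756486666906))) (.node (.node (.leaf 1220307939358) (.leaf 3610994615065)) (.node (.leaf 2749316595864) (.leaf 4160213688984)))))) (.node (.node (.node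 (.node (.node (.node (.leaf 255550612749) (.leaf 4332549292819)) (.leaf 2934537104659)) (.node (.leaf 346818691867) (.leaf 2664490941470))) (.node (.node (.leaf 1389422248853) (.leaf 3347927805580)) (.node (.leaf 2445447587215) (.leaf 3473555732490)))) (.node (.node (.node (.leaf 630286599685) (.leaf 3138548087703)) (.node (.leaf 1127429069334) (.leaf 3700115207694))) (.node (.node (.leaf 464393370776) (.leaf 3568581802897)) (.node (.leaf 2691334523547) (.leaf 3924527348887))))) (.node (.node (.node (.node (.node (.leaf 492847614738) (.leaf 4414690561947)) (.leaf 3033321378957)) (.node (.leaf 1841467667226) (.leaf 3325916089088))) (.node (.node (.leaf 1834488346885) (.leaf 3274376520326)) (.node (.leaf 2582349702429) (.leaf 3770982213891)))) (.node (.node (.node (.leaf 1027571170689) (.leaf 2908767372806)) (.node (.leaf 2338610250257) (.leaf 3786551448981))) (.node (.node (.leaf 1115617894426) (.leaf 2491081661444)) (.node (.leaf 1902671178629) (.leaf 4214974535067))))))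
def dF_2021 : BT := .node (.node (.node (.node (.node (.node (.node (.leaf 108447950098) (.leaf 4275104091546)) (.leaf 2873870677248)) (.node (.leaf 2097018282255) (.leaf 2532957550985))) (.node (.node (.leaf 1182190044677) (.leaf 2522757198486)) (.node (.leaf 2379412449295) (.leaf 3869229585307)))) (.node (.node (.node (.leaf 359703544067) (.leaf 3094524674588)) (.node (.leaf 1627256122254) (.leaf 3653944298380))) (.node (.node (.leaf 2077690910747) (.leaf 2466922424205)) (.node (.leaf 2641405516819) (.leaf 4064113737859))))) (.node (.node (.node (.node (.node (.leaf 134217812742) (.leaf 4385699525774)) (.leaf 2996814145305)) (.node (.leaf 627065421591) (.leaf 3314641670279))) (.node (.node (.leaf 1643899136779) (.leaf 3420405395869)) (.node (.leaf 2527051985299) (.leaf 3976066866944)))) (.node (.node (.node (.leaf 817654595339) (.leaf 3189013808022)) (.node (.leaf 1128503207812) (.leaf 3750044214414))) (.node (.node (.leaf 2258079594378) (.leaf 2767570271495)) (.node (.leaf 2690260794519) (.leaf 4003447382028)))))) (.node (.node (.node (.node (.node (.node (.leaf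 267898647689) (.leaf 4341139222292)) (.leaf 2947958880668)) (.node (.leaf 845034827166) (.leaf 3047279895582))) (.node (.node (.leaf 1430761321731) (.leaf 3339874625538)) (.node (.leaf 2455111265949) (.leaf 3924527302425)))) (.node (.node (.node (.leaf 638876535446) (.leaf 2480344240391)) (.node (.leaf 1247688128030) (.leaf 3711389499653))) (.node (.node (.leaf 1050119718279) (.leaf 3074660546957)) (.node (.leaf 2684355143446) (.leaf 4105989692166))))) (.node (.node (.node (.node (.node (.leaf 505195547159) (.leaf 4418985530265)) (.leaf 3048353765248)) (.node (.leaf 515933069467) (.leaf 2535641944074))) (.node (.node (.leaf 1868848067993) (.leaf 3462818160642)) (.node (.leaf 2379412499201) (.leaf 3937948987783)))) (.node (.node (.node (.leaf 1048509141136) (.leaf 3245922307858)) (.node (.leaf 2343442089627) (.leaf 2493766295424))) (.node (.node (.leaf 154081952286) (.leaf 2479270687774)) (.node (.leaf 2799782473353) (.leaf 4107600351134))))))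
def dF_2029 : BT := .node (.node (.node (.node (.node (.node (.node (.leaf 115964144768) (.leaf 4268124768029)) (.leaf 2862059514258)) (.node (.leaf 1807644787614) (.leaf 2688113208588))) (.node (.node (.leaf 1231582165893) (.leaf 3284577022737)) (.node (.leaf 2376728094095) (.leaf 3637838220702)))) (.node (.node (.node (.node (.leaf 134217834375) (.leaf 4448513437459)) (.leaf 3016141364743)) (.node (.leaf 1127966055054) (.leaf 3629785105182))) (.node (.node (.leaf 2065342891012) (.leaf 2372433282334)) (.node (.leaf 2621004368279) (.leaf 4061966288669))))) (.node (.node (.node (.node (.node (.leaf 18253615367) (.leaf 4378720196373)) (.leaf 3000035371549)) (.node (.leaf 617401696026) (.leaf 2382633718657))) (.node (.node (.leaf 1688459420941) (.leaf 3358665237781)) (.node (.leaf 2522757017089) (.leaf 3969087297673)))) (.node (.node (.node (.leaf 814970239362) (.leaf 3187403364497)) (.node (.leaf 2308008600975) (.leaf 3753265440658))) (.node (.node (.leaf 2216203396482) (.leaf 2767033499678)) (.node (.leaf 2742337272339) (.leaf 4161287418886)))))) (.node (.node (.node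 (.node (.node (.node (.leaf 259845539983) (.leaf 4311611327364)) (.leaf 2680060201479)) (.node (.leaf 48855331968) (.leaf 2918967858444))) (.node (.node (.leaf 1406065253789) (.leaf 3346317192337)) (.node (.leaf 2438468263696) (.leaf 3925601044497)))) (.node (.node (.node (.leaf 522375548938) (.leaf 3083250307842)) (.node (.leaf 1258962728711) (.leaf 2528126007433))) (.node (.node (.leaf 890132237581) (.leaf 3279745192478)) (.node (.leaf 2683818328979) (.leaf 4110284636036))))) (.node (.node (.node (.node (.node (.leaf 495531970051) (.leaf 4416838046107)) (.leaf 2849174655380)) (.node (.leaf 693100512666) (.leaf 2604898495244))) (.node (.node (.leaf 1776506292504) (.leaf 3462281336975)) (.node (.leaf 2586644670734) (.leaf 4020627218577)))) (.node (.node (.node (.leaf 1043140430739) (.leaf 3243774823709)) (.node (.leaf 2319819769094) (.leaf 3639985690262))) (.node (.node (.leaf 652298390790) (.leaf 2545842468615)) (.node (.leaf 2367601388929) (.leaf 3549791476104))))))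
def dF_2036 : BT := .node (.node (.node (.node (.node (.node (.node (.leaf 127238436609) (.leaf 4282620286213)) (.leaf 2873333806096)) (.node (.leaf 89120674974) (.leaf 2514704194700))) (.node (.node (.leaf 1253057007379) (.leaf 3295314443549)) (.node (.leaf 2396055451547) (.leaf 2341294970374)))) (.node (.node (.node (.leaf 151397707285) (.leaf 2876554927490)) (.node (.leaf 548682489630) (.leaf 3656628653457))) (.node (.node (.leaf 2092185949828) (.leaf 2450279601546)) (.node (.leaf 2649995453569) (.leaf 4066261256976))))) (.node (.node (.node (.node (.node (.leaf 345744963738) (.leaf 4386773257229)) (.leaf 3000035371536)) (.node (.leaf 368293792030) (.leaf 3313031037066))) (.node (.node (.leaf 1642825396356) (.leaf 3419331534356)) (.node (.leaf 2534568179981) (.leaf 3897146878356)))) (.node (.node (.node (.leaf 827318272777) (.leaf 2987150452482)) (.node (.leaf 700617091351) (.leaf 2550674599179))) (.node (.node (.leaf 2267206402048) (.leaf 2827163018624)) (.node (.leaf 2748242784148) (.leaf 4172561722907)))))) (.node (.node (.node (.node (.node (.node (.leaf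 284541651332) (.leaf 4107063513090)) (.leaf 2938295201944)) (.node (.leaf 132607194241) (.leaf 2570538539678))) (.node (.node (.leaf 1444183069184) (.leaf 3354907128977)) (.node (.leaf 2457795621138) (.leaf 3921306076177)))) (.node (.node (.node (.leaf 643708376989) (.leaf 3147674842262)) (.node (.leaf 1315334047767) (.leaf 3716221338906))) (.node (.node (.leaf 423054527501) (.leaf 3132105592597)) (.node (.leaf 2697776976026) (.leaf 4123169587229))))) (.node (.node (.node (.node (.node (.leaf 511101230099) (.leaf 4421133014535)) (.leaf 3049427354371)) (.node (.leaf 1313723434907) (.leaf 2768643953161))) (.node (.node (.leaf 1890322928781) (.leaf 3476239846534)) (.node (.leaf 2599529575709) (.leaf 3736622433536)))) (.node (.node (.node (.leaf 1054951593616) (.leaf 3194919571476)) (.node (.leaf 2346126444819) (.leaf 3812321083533))) (.node (.node (.leaf 26306676865) (.leaf 2724083780610)) (.node (.leaf 2814277991709) (.leaf 4000226172035))))))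
def dP_4 : BT := .node (.node (.node (.node (.node (.node (.leaf 12173) (.leaf 536453)) (.node (.leaf 274308) (.leaf 798596))) (.node (.node (.leaf 143232) (.leaf 38668)) (.node (.leaf 390020) (.leaf 929671)))) (.node (.node (.node (.leaf 76420) (.leaf 601984)) (.node (.leaf 339844) (.leaf 864129))) (.node (.node (.leaf 208769) (.leaf 733060)) (.node (.leaf 470912) (.leaf 995205))))) (.node (.node (.node (.node (.leaf 2956) (.leaf 569221)) (.node (.leaf 307076) (.leaf 831373))) (.node (.node (.leaf 176000) (.leaf 700293)) (.node (.leaf 438147) (.leaf 962445)))) (.node (.node (.node (.leaf 1817) (.leaf 634764)) (.node (.leaf 371592) (.leaf 896901))) (.node (.node (.leaf 241536) (.leaf 765828)) (.node (.leaf 503691) (.leaf 932229)))))) (.node (.node (.node (.node (.node (.leaf 28549) (.leaf 181892)) (.node (.leaf 290700) (.leaf 814988))) (.node (.node (.leaf 159621) (.leaf 683916)) (.node (.leaf 421760) (.leaf 946053)))) (.node (.node (.node (.leaf 94080) (.leaf 618369)) (.node (.leaf 112922) (.leaf 880515))) (.node (.node (.leaf 225156) (.leaf 749441)) (.node (.leaf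 487300) (.leaf 896642))))) (.node (.node (.node (.node (.leaf 16026) (.leaf 585612)) (.node (.leaf 323461) (.leaf 846730))) (.node (.node (.leaf 192385) (.leaf 716684)) (.node (.leaf 54924) (.leaf 978828)))) (.node (.node (.node (.leaf 126852) (.leaf 651143)) (.node (.leaf 4635) (.leaf 913283))) (.node (.node (.leaf 257932) (.leaf 567173)) (.node (.leaf 55560) (.leaf 1044355))))))
def dP_11 : BT := .node (.node (.node (.node (.node (.node (.leaf 14221) (.leaf 21891)) (.node (.leaf 276364) (.leaf 800645))) (.node (.node (.leaf 145281) (.leaf 669581)) (.node (.leaf 407428) (.leaf 154124)))) (.node (.node (.node (.leaf 79748) (.leaf 604032)) (.node (.leaf 341893) (.leaf 866180))) (.node (.node (.leaf 210818) (.leaf 735108)) (.node (.leaf 472960) (.leaf 968716))))) (.node (.node (.node (.node (.leaf 46605) (.leaf 438668)) (.node (.leaf 309121) (.leaf 833420))) (.node (.node (.leaf 178055) (.leaf 702341)) (.node (.leaf 440203) (.leaf 964493)))) (.node (.node (.node (.leaf 112525) (.leaf 636805)) (.node (.leaf 371712) (.leaf 898956))) (.node (.node (.leaf 243589) (.leaf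 767876)) (.node (.leaf 505729) (.leaf 1030021)))))) (.node (.node (.node (.node (.node (.leaf 30604) (.leaf 10378)) (.node (.leaf 292749) (.leaf 817028))) (.node (.node (.leaf 161669) (.leaf 607623)) (.node (.leaf 423813) (.leaf 948103)))) (.node (.node (.node (.leaf 96129) (.leaf 620417)) (.node (.leaf 358281) (.leaf 150796))) (.node (.node (.leaf 227204) (.leaf 751492)) (.node (.leaf 489348) (.leaf 1013633))))) (.node (.node (.node (.node (.leaf 25608) (.leaf 183309)) (.node (.leaf 325509) (.leaf 849802))) (.node (.node (.leaf 194442) (.leaf 718724)) (.node (.leaf 456580) (.leaf 980876)))) (.node (.node (.node (.leaf 28804) (.leaf 653197)) (.node (.leaf 391043) (.leaf 915329))) (.node (.node (.leaf 259597) (.leaf 599301)) (.node (.leaf 522117) (.leaf 988544))))))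
def dP_19 : BT := .node (.node (.node (.node (.node (.node (.leaf 13196) (.leaf 6171)) (.node (.leaf 275340) (.leaf 799629))) (.node (.node (.leaf 144256) (.leaf 668557)) (.node (.leaf 392960) (.leaf 844544)))) (.node (.node (.node (.leaf 78724) (.leaf 603008)) (.node (.leaf 340877) (.leaf 865152))) (.node (.node (.leaf 3204) (.leaf 734092)) (.node (.leaf 471936) (.leaf 996228))))) (.node (.node (.node (.node (.leaf 45965) (.leaf 570245)) (.node (.leaf 308096) (.leaf 832397))) (.node (.node (.leaf 177024) (.leaf 701317)) (.node (.leaf 439168) (.leaf 963468)))) (.node (.node (.node (.leaf 111501) (.leaf 635789)) (.node (.leaf 359046) (.leaf 897925))) (.node (.node (.leaf 242560) (.leaf 766852)) (.node (.leaf 504705) (.leaf 1028997)))))) (.node (.node (.node (.node (.node (.leaf 29580) (.leaf 552714)) (.node (.leaf 291724) (.leaf 759300))) (.node (.node (.leaf 160645) (.leaf 684940)) (.node (.leaf 54664) (.leaf 947077)))) (.node (.node (.node (.leaf 95104) (.leaf 619393)) (.node (.leaf 357002) (.leaf 821770))) (.node (.node (.leaf 226180) (.leaf 750464)) (.node (.leaf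 488324) (.leaf 1012613))))) (.node (.node (.node (.node (.leaf 24584) (.leaf 586636)) (.node (.leaf 324485) (.leaf 848640))) (.node (.node (.leaf 180236) (.leaf 717700)) (.node (.leaf 455556) (.leaf 979853)))) (.node (.node (.node (.leaf 127876) (.leaf 652172)) (.node (.leaf 389258) (.leaf 914305))) (.node (.node (.leaf 258957) (.leaf 783244)) (.node (.leaf 521093) (.leaf 981892))))))
def dP_26 : BT := .node (.node (.node (.node (.node (.node (.leaf 15245) (.leaf 539394)) (.node (.leaf 277389) (.leaf 801664))) (.node (.node (.leaf 146307) (.leaf 670604)) (.node (.leaf 408452) (.leaf 932736)))) (.node (.node (.node (.leaf 80772) (.leaf 605056)) (.node (.leaf 53914) (.leaf 804097))) (.node (.node (.leaf 211848) (.leaf 736132)) (.node (.leaf 473984) (.leaf 998285))))) (.node (.node (.node (.node (.leaf 33672) (.leaf 572301)) (.node (.leaf 310157) (.leaf 834437))) (.node (.node (.leaf 179084) (.leaf 703361)) (.node (.leaf 54796) (.leaf 965505)))) (.node (.node (.node (.leaf 113548) (.leaf 637827)) (.node (.leaf 371972) (.leaf 899973))) (.node (.node (.leaf 244613)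 (.leaf 768901)) (.node (.leaf 506753) (.leaf 1031040)))))) (.node (.node (.node (.node (.node (.leaf 31629) (.leaf 555914)) (.node (.leaf 293260) (.leaf 818052))) (.node (.node (.leaf 162692) (.leaf 686988)) (.node (.leaf 424837) (.leaf 849546)))) (.node (.node (.node (.leaf 97157) (.leaf 621444)) (.node (.leaf 359309) (.leaf 883588))) (.node (.node (.leaf 27784) (.leaf 752516)) (.node (.leaf 426634) (.leaf 1014660))))) (.node (.node (.node (.node (.leaf 62344) (.leaf 588677)) (.node (.leaf 326540) (.leaf 850828))) (.node (.node (.leaf 183050) (.leaf 719744)) (.node (.leaf 457604) (.leaf 981901)))) (.node (.node (.node (.leaf 129925) (.leaf 654221)) (.node (.leaf 391936) (.leaf 916353))) (.node (.node (.leaf 261005) (.leaf 785285)) (.node (.leaf 523141) (.leaf 1046532))))))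
def dP_35 : BT := .node (.node (.node (.node (.node (.node (.leaf 12685) (.leaf 518413)) (.node (.leaf 27400) (.leaf 799116))) (.node (.node (.leaf 143745) (.leaf 668044)) (.node (.leaf 392972) (.leaf 930188)))) (.node (.node (.node (.leaf 19466) (.leaf 602497)) (.node (.leaf 340357) (.leaf 864641))) (.node (.node (.leaf 2969) (.leaf 733580)) (.node (.leaf 471425) (.leaf 995725))))) (.node (.node (.node (.node (.leaf 45452) (.leaf 569732)) (.node (.leaf 307585) (.leaf 831885))) (.node (.node (.leaf 176513) (.leaf 700804)) (.node (.leaf 438663) (.leaf 962957)))) (.node (.node (.node (.leaf 110988) (.leaf 635276)) (.node (.leaf 371722) (.leaf 897412))) (.node (.node (.leaf 242049) (.leaf 766341)) (.node (.leaf 55306) (.leaf 1028484)))))) (.node (.node (.node (.node (.node (.leaf 6024) (.leaf 305546)) (.node (.leaf 291212) (.leaf 815500))) (.node (.node (.leaf 160132) (.leaf 182028)) (.node (.leaf 422281) (.leaf 946564)))) (.node (.node (.node (.leaf 94593) (.leaf 618880)) (.node (.leaf 4379) (.leaf 881028))) (.node (.node (.leaf 225669) (.leaf 749953)) (.node (.leaf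 487813) (.leaf 1012100))))) (.node (.node (.node (.node (.leaf 405) (.leaf 452876)) (.node (.leaf 323972) (.leaf 846720))) (.node (.node (.leaf 192896) (.leaf 717197)) (.node (.leaf 448650) (.leaf 979341)))) (.node (.node (.node (.leaf 127365) (.leaf 651660)) (.node (.leaf 389250) (.leaf 913796))) (.node (.node (.leaf 258444) (.leaf 782727)) (.node (.leaf 520580) (.leaf 1044868))))))
def dP_42 : BT := .node (.node (.node (.node (.node (.node (.leaf 14733) (.leaf 22016)) (.node (.leaf 276877) (.leaf 801156))) (.node (.node (.leaf 145792) (.leaf 670092)) (.node (.leaf 407941) (.leaf 892033)))) (.node (.node (.node (.leaf 80261) (.leaf 604545)) (.node (.leaf 342404) (.leaf 866692))) (.node (.node (.leaf 211338) (.leaf 735621)) (.node (.leaf 5505) (.leaf 997772))))) (.node (.node (.node (.node (.leaf 46988) (.leaf 571788)) (.node (.leaf 309632) (.leaf 721284))) (.node (.node (.leaf 178572) (.leaf 702852)) (.node (.leaf 54786) (.leaf 964992)))) (.node (.node (.node (.leaf 113036) (.leaf 637316)) (.node (.leaf 375040) (.leaf 867333))) (.node (.node (.leaf 244100) (.leaf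 768388)) (.node (.leaf 506240) (.leaf 1030529)))))) (.node (.node (.node (.node (.node (.leaf 31117) (.leaf 555400)) (.node (.leaf 292877) (.leaf 817549))) (.node (.node (.leaf 162181) (.leaf 686476)) (.node (.leaf 424324) (.leaf 948620)))) (.node (.node (.node (.leaf 10372) (.leaf 620928)) (.node (.leaf 54148) (.leaf 882694))) (.node (.node (.leaf 227717) (.leaf 752005)) (.node (.leaf 426624) (.leaf 1014149))))) (.node (.node (.node (.node (.leaf 62474) (.leaf 588164)) (.node (.leaf 326023) (.leaf 599178))) (.node (.node (.leaf 194186) (.leaf 719233)) (.node (.leaf 457093) (.leaf 981388)))) (.node (.node (.node (.leaf 129412) (.leaf 653709)) (.node (.leaf 372992) (.leaf 915840))) (.node (.node (.leaf 259980) (.leaf 784772)) (.node (.leaf 522628) (.leaf 998273))))))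
def dP_50 : BT := .node (.node (.node (.node (.node (.node (.leaf 13708) (.leaf 6410)) (.node (.leaf 275852) (.leaf 776196))) (.node (.node (.leaf 144768) (.leaf 669069)) (.node (.leaf 392970) (.leaf 695309)))) (.node (.node (.node (.leaf 79237) (.leaf 603521)) (.node (.leaf 341380) (.leaf 865669))) (.node (.node (.leaf 210314) (.leaf 605957)) (.node (.leaf 472449) (.leaf 996741))))) (.node (.node (.node (.node (.leaf 46477) (.leaf 570756)) (.node (.leaf 308608) (.leaf 832908))) (.node (.node (.leaf 137349) (.leaf 701828)) (.node (.leaf 439689) (.leaf 963980)))) (.node (.node (.node (.leaf 112013) (.leaf 636292)) (.node (.leaf 113160) (.leaf 898439))) (.node (.node (.leaf 243076) (.leaf 767365)) (.node (.leaf 505216) (.leaf 1029508)))))) (.node (.node (.node (.node (.node (.leaf 30092) (.leaf 554377)) (.node (.leaf 292237) (.leaf 816517))) (.node (.node (.leaf 161156) (.leaf 685453)) (.node (.leaf 113544) (.leaf 947588)))) (.node (.node (.node (.leaf 95616) (.leaf 619904)) (.node (.leaf 345354) (.leaf 556806))) (.node (.node (.leaf 226693) (.leaf 750977)) (.node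 (.leaf 488837) (.leaf 1013120))))) (.node (.node (.node (.node (.leaf 25606) (.leaf 587149)) (.node (.leaf 324996) (.leaf 557314))) (.node (.node (.leaf 2843) (.leaf 718213)) (.node (.leaf 456069) (.leaf 980365)))) (.node (.node (.node (.leaf 128389) (.leaf 196876)) (.node (.leaf 390538) (.leaf 914816))) (.node (.node (.leaf 259469) (.leaf 783756)) (.node (.leaf 521604) (.leaf 1045889))))))
def dP_57 : BT := .node (.node (.node (.node (.node (.node (.leaf 402) (.leaf 540033)) (.node (.leaf 277517) (.leaf 802177))) (.node (.node (.leaf 146820) (.leaf 671117)) (.node (.leaf 408965) (.leaf 933249)))) (.node (.node (.node (.leaf 81285) (.leaf 605569)) (.node (.leaf 112794) (.leaf 867720))) (.node (.node (.leaf 212362) (.leaf 736645)) (.node (.leaf 474497) (.leaf 998797))))) (.node (.node (.node (.node (.leaf 48525) (.leaf 556941)) (.node (.leaf 310660) (.leaf 834948))) (.node (.node (.leaf 52374) (.leaf 703872)) (.node (.leaf 376581) (.leaf 966016)))) (.node (.node (.node (.leaf 114061) (.leaf 638337)) (.node (.leaf 54278) (.leaf 900487))) (.node (.node (.leaf 245124)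 (.leaf 769412)) (.node (.leaf 507264) (.leaf 1031553)))))) (.node (.node (.node (.node (.node (.leaf 31757) (.leaf 554752)) (.node (.leaf 294285) (.leaf 818565))) (.node (.node (.leaf 163205) (.leaf 453004)) (.node (.leaf 425348) (.leaf 949637)))) (.node (.node (.node (.leaf 97668) (.leaf 621957)) (.node (.leaf 359812) (.leaf 884101))) (.node (.node (.leaf 228741) (.leaf 753029)) (.node (.leaf 490885) (.leaf 1015173))))) (.node (.node (.node (.node (.leaf 24708) (.leaf 589188)) (.node (.leaf 53780) (.leaf 851341))) (.node (.node (.leaf 195971) (.leaf 720257)) (.node (.leaf 458117) (.leaf 982404)))) (.node (.node (.node (.leaf 130436) (.leaf 654732)) (.node (.leaf 54402) (.leaf 916864))) (.node (.node (.leaf 31748) (.leaf 785796)) (.node (.leaf 523652) (.leaf 1046540))))))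
def dP_67 : BT := .node (.node (.node (.node (.node (.node (.leaf 12416) (.leaf 536708)) (.node (.leaf 274565) (.leaf 798849))) (.node (.node (.leaf 143501) (.leaf 667777)) (.node (.leaf 405508) (.leaf 929921)))) (.node (.node (.node (.leaf 77828) (.leaf 602252)) (.node (.leaf 340101) (.leaf 182029))) (.node (.node (.leaf 28058) (.leaf 733313)) (.node (.leaf 471181) (.leaf 995461))))) (.node (.node (.node (.node (.leaf 45185) (.leaf 569476)) (.node (.leaf 203021) (.leaf 831617))) (.node (.node (.leaf 175756) (.leaf 700549)) (.node (.leaf 438408) (.leaf 962688)))) (.node (.node (.node (.leaf 40065) (.leaf 635008)) (.node (.leaf 4744) (.leaf 897156))) (.node (.node (.leaf 241804) (.leaf 766085)) (.node (.leaf 55298) (.leaf 1028228)))))) (.node (.node (.node (.node (.node (.leaf 28805) (.leaf 552964)) (.node (.leaf 290944) (.leaf 815232))) (.node (.node (.leaf 159877) (.leaf 684161)) (.node (.leaf 422025) (.leaf 946308)))) (.node (.node (.node (.leaf 94349) (.leaf 618637)) (.node (.leaf 4365) (.leaf 880772))) (.node (.node (.leaf 225412) (.leaf 180364)) (.node (.leaf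 487557) (.leaf 1011845))))) (.node (.node (.node (.node (.leaf 16154) (.leaf 585857)) (.node (.leaf 323717) (.leaf 846858))) (.node (.node (.leaf 192653) (.leaf 716929)) (.node (.leaf 92554) (.leaf 979072)))) (.node (.node (.node (.leaf 127108) (.leaf 651393)) (.node (.leaf 4746) (.leaf 913540))) (.node (.node (.leaf 258177) (.leaf 782467)) (.node (.leaf 485636) (.leaf 1044612))))))
def dP_74 : BT := .node (.node (.node (.node (.node (.node (.leaf 14464) (.leaf 21888)) (.node (.leaf 276608) (.leaf 800901))) (.node (.node (.leaf 145549) (.leaf 669825)) (.node (.leaf 407685) (.leaf 931840)))) (.node (.node (.node (.leaf 80004) (.leaf 604301)) (.node (.leaf 342149) (.leaf 866436))) (.node (.node (.leaf 211082) (.leaf 735364)) (.node (.leaf 426758) (.leaf 997505))))) (.node (.node (.node (.node (.leaf 47232) (.leaf 571521)) (.node (.leaf 309389) (.leaf 833665))) (.node (.node (.leaf 178305) (.leaf 702597)) (.node (.leaf 440459) (.leaf 964736)))) (.node (.node (.node (.leaf 112769) (.leaf 637061)) (.node (.leaf 371840) (.leaf 899200))) (.node (.node (.leaf 243844) (.leaf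 768132)) (.node (.leaf 505997) (.leaf 1030284)))))) (.node (.node (.node (.node (.node (.leaf 30848) (.leaf 155274)) (.node (.leaf 292992) (.leaf 817284))) (.node (.node (.leaf 161925) (.leaf 686209)) (.node (.leaf 424068) (.leaf 948353)))) (.node (.node (.node (.leaf 96397) (.leaf 620685)) (.node (.leaf 358537) (.leaf 882688))) (.node (.node (.leaf 227460) (.leaf 751749)) (.node (.leaf 489605) (.leaf 934789))))) (.node (.node (.node (.node (.leaf 24586) (.leaf 587907)) (.node (.leaf 325763) (.leaf 850053))) (.node (.node (.leaf 194690) (.leaf 718980)) (.node (.leaf 456837) (.leaf 981120)))) (.node (.node (.node (.leaf 28810) (.leaf 653441)) (.node (.leaf 391304) (.leaf 915597))) (.node (.node (.leaf 260224) (.leaf 784517)) (.node (.leaf 522372) (.leaf 1040512))))))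
def dP_82 : BT := .node (.node (.node (.node (.node (.node (.leaf 13440) (.leaf 537730)) (.node (.leaf 275584) (.leaf 799873))) (.node (.node (.leaf 144141) (.leaf 668801)) (.node (.leaf 392966) (.leaf 930944)))) (.node (.node (.node (.leaf 78980) (.leaf 603277)) (.node (.leaf 341123) (.leaf 646533))) (.node (.node (.leaf 210056) (.leaf 734337)) (.node (.leaf 472204) (.leaf 996484))))) (.node (.node (.node (.node (.leaf 46209) (.leaf 570500)) (.node (.leaf 307981) (.leaf 832641))) (.node (.node (.leaf 33032) (.leaf 701573)) (.node (.leaf 439433) (.leaf 963712)))) (.node (.node (.node (.leaf 111745) (.leaf 636032)) (.node (.leaf 91912) (.leaf 898179))) (.node (.node (.leaf 27656) (.leaf 767109)) (.node (.leaf 504972) (.leaf 1029252)))))) (.node (.node (.node (.node (.node (.leaf 29824) (.leaf 182400)) (.node (.leaf 291968) (.leaf 816260))) (.node (.node (.leaf 160901) (.leaf 685184)) (.node (.leaf 92296) (.leaf 947332)))) (.node (.node (.node (.leaf 94989) (.leaf 619660)) (.node (.leaf 351242) (.leaf 150790))) (.node (.node (.leaf 226436) (.leaf 750733)) (.node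 (.leaf 488581) (.leaf 1012876))))) (.node (.node (.node (.node (.leaf 24326) (.leaf 586880)) (.node (.leaf 324741) (.leaf 849028))) (.node (.node (.leaf 2829) (.leaf 717956)) (.node (.leaf 455813) (.leaf 980096)))) (.node (.node (.node (.leaf 128132) (.leaf 652417)) (.node (.leaf 375690) (.leaf 914572))) (.node (.node (.leaf 259201) (.leaf 783488)) (.node (.leaf 521348) (.leaf 1045632))))))
def dP_89 : BT := .node (.node (.node (.node (.node (.node (.leaf 15488) (.leaf 539402)) (.node (.leaf 277632) (.leaf 801933))) (.node (.node (.leaf 146564) (.leaf 670849)) (.node (.leaf 408709) (.leaf 933005)))) (.node (.node (.node (.leaf 81028) (.leaf 605324)) (.node (.leaf 91546) (.leaf 692741))) (.node (.node (.leaf 212104) (.leaf 736388)) (.node (.leaf 474252) (.leaf 998529))))) (.node (.node (.node (.node (.leaf 2188) (.leaf 572545)) (.node (.leaf 310403) (.leaf 834693))) (.node (.node (.leaf 179329) (.leaf 703628)) (.node (.leaf 305794) (.leaf 965772)))) (.node (.node (.node (.leaf 113793) (.leaf 638087)) (.node (.leaf 375812) (.leaf 900227))) (.node (.node (.leaf 244868)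 (.leaf 769156)) (.node (.leaf 507020) (.leaf 1031309)))))) (.node (.node (.node (.node (.node (.leaf 31872) (.leaf 556170)) (.node (.leaf 294017) (.leaf 818308))) (.node (.node (.leaf 162948) (.leaf 687233)) (.node (.leaf 425092) (.leaf 949380)))) (.node (.node (.node (.leaf 97413) (.leaf 621701)) (.node (.leaf 358788) (.leaf 883845))) (.node (.node (.leaf 228484) (.leaf 752773)) (.node (.leaf 490628) (.leaf 1014917))))) (.node (.node (.node (.node (.leaf 64520) (.leaf 588933)) (.node (.leaf 326784) (.leaf 851072))) (.node (.node (.leaf 195722) (.leaf 720012)) (.node (.leaf 457861) (.leaf 982144)))) (.node (.node (.node (.leaf 130180) (.leaf 654465)) (.node (.leaf 4748) (.leaf 916620))) (.node (.node (.leaf 261248) (.leaf 785541)) (.node (.leaf 523396) (.leaf 1010444))))))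
def dP_98 : BT := .node (.node (.node (.node (.node (.node (.leaf 12929) (.leaf 18842)) (.node (.leaf 265089) (.leaf 799360))) (.node (.node (.leaf 144013) (.leaf 668288)) (.node (.leaf 54536) (.leaf 930432)))) (.node (.node (.node (.leaf 78469) (.leaf 436748)) (.node (.leaf 312972) (.leaf 864909))) (.node (.node (.leaf 3072) (.leaf 733824)) (.node (.leaf 471692) (.leaf 995971))))) (.node (.node (.node (.node (.leaf 45696) (.leaf 569989)) (.node (.leaf 307853) (.leaf 832128))) (.node (.node (.leaf 176781) (.leaf 701060)) (.node (.leaf 438919) (.leaf 963201)))) (.node (.node (.node (.leaf 111232) (.leaf 635521)) (.node (.leaf 371850) (.leaf 897669))) (.node (.node (.leaf 242317) (.leaf 766596)) (.node (.leaf 114184) (.leaf 1028741)))))) (.node (.node (.node (.node (.node (.leaf 19329) (.leaf 553610)) (.node (.leaf 291457) (.leaf 815745))) (.node (.node (.leaf 160388) (.leaf 684673)) (.node (.leaf 54656) (.leaf 946821)))) (.node (.node (.node (.leaf 94861) (.leaf 619149)) (.node (.leaf 4490) (.leaf 713864))) (.node (.node (.leaf 225925) (.leaf 750220)) (.node (.leaf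 488068) (.leaf 1012356))))) (.node (.node (.node (.node (.leaf 409) (.leaf 586369)) (.node (.leaf 324228) (.leaf 846848))) (.node (.node (.leaf 32904) (.leaf 717440)) (.node (.leaf 454148) (.leaf 979585)))) (.node (.node (.node (.leaf 127621) (.leaf 651904)) (.node (.leaf 4874) (.leaf 484355))) (.node (.node (.leaf 258688) (.leaf 782977)) (.node (.leaf 520837) (.leaf 1045125))))))
def dP_105 : BT := .node (.node (.node (.node (.node (.node (.leaf 14977) (.leaf 6284)) (.node (.leaf 277121) (.leaf 801412))) (.node (.node (.leaf 2701) (.leaf 670336)) (.node (.leaf 408196) (.leaf 932492)))) (.node (.node (.node (.leaf 80517) (.leaf 604812)) (.node (.leaf 342660) (.leaf 866952))) (.node (.node (.leaf 211590) (.leaf 735877)) (.node (.leaf 473740) (.leaf 998016))))) (.node (.node (.node (.node (.leaf 47745) (.leaf 572032)) (.node (.leaf 32650) (.leaf 834180))) (.node (.node (.leaf 178816) (.leaf 703108)) (.node (.leaf 54792) (.leaf 965260)))) (.node (.node (.node (.leaf 113280) (.leaf 637572)) (.node (.leaf 359300) (.leaf 850560))) (.node (.node (.leaf 244357) (.leaf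 768645)) (.node (.leaf 506509) (.leaf 1030796)))))) (.node (.node (.node (.node (.node (.leaf 31361) (.leaf 555656)) (.node (.leaf 293504) (.leaf 817795))) (.node (.node (.leaf 162437) (.leaf 686720)) (.node (.leaf 424581) (.leaf 818317)))) (.node (.node (.node (.leaf 96900) (.leaf 621188)) (.node (.leaf 91786) (.leaf 882820))) (.node (.node (.leaf 227973) (.leaf 752260)) (.node (.leaf 426628) (.leaf 1014404))))) (.node (.node (.node (.node (.leaf 24456) (.leaf 588420)) (.node (.leaf 326273) (.leaf 850561))) (.node (.node (.leaf 194314) (.leaf 719500)) (.node (.leaf 457348) (.leaf 981633)))) (.node (.node (.node (.leaf 129669) (.leaf 653952)) (.node (.leaf 373120) (.leaf 916109))) (.node (.node (.leaf 260737) (.leaf 785028)) (.node (.leaf 522885) (.leaf 1043980))))))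
def dP_113 : BT := .node (.node (.node (.node (.node (.node (.leaf 13953) (.leaf 537738)) (.node (.leaf 276097) (.leaf 800388))) (.node (.node (.leaf 144524) (.leaf 669312)) (.node (.leaf 406020) (.leaf 902788)))) (.node (.node (.node (.leaf 79493) (.leaf 603789)) (.node (.leaf 341636) (.leaf 865924))) (.node (.node (.leaf 210562) (.leaf 734853)) (.node (.leaf 472717) (.leaf 996997))))) (.node (.node (.node (.node (.leaf 46720) (.leaf 571013)) (.node (.leaf 308364) (.leaf 833152))) (.node (.node (.leaf 177795) (.leaf 702084)) (.node (.leaf 439940) (.leaf 964225)))) (.node (.node (.node (.leaf 112256) (.leaf 636548)) (.node (.leaf 374280) (.leaf 898689))) (.node (.node (.leaf 243333) (.leaf 767620)) (.node (.leaf 505485) (.leaf 1029765)))))) (.node (.node (.node (.node (.node (.leaf 30337) (.leaf 10376)) (.node (.leaf 292481) (.leaf 816773))) (.node (.node (.leaf 161412) (.leaf 685697)) (.node (.leaf 423557) (.leaf 947843)))) (.node (.node (.node (.leaf 95372) (.leaf 620172)) (.node (.leaf 358016) (.leaf 165378))) (.node (.node (.leaf 226949) (.leaf 594308)) (.node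 (.leaf 489092) (.leaf 1013389))))) (.node (.node (.node (.node (.leaf 24328) (.leaf 587393)) (.node (.leaf 325002) (.leaf 152838))) (.node (.node (.leaf 194176) (.leaf 718469)) (.node (.leaf 456324) (.leaf 980609)))) (.node (.node (.node (.leaf 128645) (.leaf 652928)) (.node (.leaf 390787) (.leaf 915085))) (.node (.node (.leaf 259712) (.leaf 784001)) (.node (.leaf 521861) (.leaf 986892))))))
def dP_120 : BT := .node (.node (.node (.node (.node (.node (.leaf 406) (.leaf 540300)) (.node (.leaf 278144) (.leaf 802445))) (.node (.node (.leaf 147077) (.leaf 671360)) (.node (.leaf 409220) (.leaf 933517)))) (.node (.node (.node (.leaf 29060) (.leaf 439052)) (.node (.leaf 4237) (.leaf 437005))) (.node (.node (.leaf 212618) (.leaf 736901)) (.node (.leaf 474764) (.leaf 999040))))) (.node (.node (.node (.node (.leaf 48771) (.leaf 573059)) (.node (.leaf 310916) (.leaf 835204))) (.node (.node (.leaf 2713) (.leaf 704141)) (.node (.leaf 441989) (.leaf 966275)))) (.node (.node (.node (.leaf 23680) (.leaf 638604)) (.node (.leaf 54284) (.leaf 900737))) (.node (.node (.leaf 245381)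 (.leaf 769677)) (.node (.leaf 507532) (.leaf 982284)))))) (.node (.node (.node (.node (.node (.leaf 32384) (.leaf 554880)) (.node (.leaf 294528) (.leaf 818821))) (.node (.node (.leaf 33160) (.leaf 687744)) (.node (.leaf 425605) (.leaf 949893)))) (.node (.node (.node (.leaf 97924) (.leaf 622212)) (.node (.leaf 360069) (.leaf 884356))) (.node (.node (.leaf 228997) (.leaf 753284)) (.node (.leaf 491141) (.leaf 1015428))))) (.node (.node (.node (.node (.leaf 62596) (.leaf 589444)) (.node (.leaf 53784) (.leaf 851585))) (.node (.node (.leaf 196227) (.leaf 617228)) (.node (.leaf 458372) (.leaf 982660)))) (.node (.node (.node (.leaf 130693) (.leaf 654976)) (.node (.leaf 392448) (.leaf 917132))) (.node (.node (.leaf 31754) (.leaf 786052)) (.node (.leaf 523909) (.leaf 865548))))))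
def dP_131 : BT := .node (.node (.node (.node (.node (.node (.leaf 12293) (.leaf 536589)) (.node (.leaf 274445) (.leaf 668164))) (.node (.node (.leaf 143365) (.leaf 667396)) (.node (.leaf 405515) (.leaf 929796)))) (.node (.node (.node (.leaf 77835) (.leaf 602117)) (.node (.leaf 339981) (.leaf 864260))) (.node (.node (.leaf 208900) (.leaf 657924)) (.node (.leaf 471045) (.leaf 995328))))) (.node (.node (.node (.node (.leaf 45060) (.leaf 569357)) (.node (.leaf 27018) (.leaf 831492))) (.node (.node (.leaf 176133) (.leaf 700416)) (.node (.leaf 92424) (.leaf 962565)))) (.node (.node (.node (.leaf 1819) (.leaf 634885)) (.node (.leaf 372744) (.leaf 897036))) (.node (.node (.leaf 241669) (.leaf 765965)) (.node (.leaf 55296) (.leaf 1028109)))))) (.node (.node (.node (.node (.node (.leaf 28672) (.leaf 552971)) (.node (.leaf 290821) (.leaf 815109))) (.node (.node (.leaf 159744) (.leaf 684036)) (.node (.leaf 404096) (.leaf 887308)))) (.node (.node (.node (.leaf 94213) (.leaf 618500)) (.node (.leaf 351002) (.leaf 880647))) (.node (.node (.leaf 225281) (.leaf 749572)) (.node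 (.leaf 487437) (.leaf 969472))))) (.node (.node (.node (.node (.leaf 16152) (.leaf 585732)) (.node (.leaf 323584) (.leaf 847882))) (.node (.node (.leaf 192516) (.leaf 716804)) (.node (.leaf 448646) (.leaf 978949)))) (.node (.node (.node (.leaf 126977) (.leaf 651268)) (.node (.leaf 4864) (.leaf 913415))) (.node (.node (.leaf 258052) (.leaf 782349)) (.node (.leaf 55562) (.leaf 1044487))))))
def dP_138 : BT := .node (.node (.node (.node (.node (.node (.leaf 14341) (.leaf 24195)) (.node (.leaf 276485) (.leaf 800768))) (.node (.node (.leaf 145412) (.leaf 669700)) (.node (.leaf 407564) (.leaf 931852)))) (.node (.node (.node (.leaf 79873) (.leaf 604165)) (.node (.leaf 342016) (.leaf 468108))) (.node (.node (.leaf 209674) (.leaf 735233)) (.node (.leaf 473093) (.leaf 997380))))) (.node (.node (.node (.node (.leaf 47109) (.leaf 571396)) (.node (.leaf 309252) (.leaf 833540))) (.node (.node (.leaf 178180) (.leaf 702464)) (.node (.leaf 440196) (.leaf 964613)))) (.node (.node (.node (.leaf 112644) (.leaf 636928)) (.node (.leaf 374784) (.leaf 899077))) (.node (.node (.leaf 243724)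 (.leaf 436876)) (.node (.leaf 505860) (.leaf 923525)))))) (.node (.node (.node (.node (.node (.leaf 30725) (.leaf 555018)) (.node (.leaf 292869) (.leaf 817153))) (.node (.node (.leaf 161792) (.leaf 686084)) (.node (.leaf 423949) (.leaf 948228)))) (.node (.node (.node (.leaf 96260) (.leaf 620548)) (.node (.leaf 358272) (.leaf 882700))) (.node (.node (.leaf 227329) (.leaf 751628)) (.node (.leaf 489485) (.leaf 1013764))))) (.node (.node (.node (.node (.leaf 63496) (.leaf 587779)) (.node (.leaf 325645) (.leaf 561154))) (.node (.node (.leaf 194178) (.leaf 718849)) (.node (.leaf 456717) (.leaf 980997)))) (.node (.node (.node (.leaf 28808) (.leaf 653316)) (.node (.leaf 113288) (.leaf 915460))) (.node (.node (.leaf 260101) (.leaf 784384)) (.node (.leaf 522253) (.leaf 1006084))))))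
def dP_146 : BT := .node (.node (.node (.node (.node (.node (.leaf 13317) (.leaf 6400)) (.node (.leaf 275461) (.leaf 799748))) (.node (.node (.leaf 144389) (.leaf 668676)) (.node (.leaf 392962) (.leaf 844677)))) (.node (.node (.node (.leaf 78849) (.leaf 603141)) (.node (.leaf 340995) (.leaf 865285))) (.node (.node (.leaf 3080) (.leaf 734212)) (.node (.leaf 472069) (.leaf 996353))))) (.node (.node (.node (.node (.leaf 46084) (.leaf 570380)) (.node (.leaf 308229) (.leaf 832516))) (.node (.node (.leaf 177157) (.leaf 701440)) (.node (.leaf 435072) (.leaf 963589)))) (.node (.node (.node (.leaf 111620) (.leaf 635909)) (.node (.leaf 373766) (.leaf 181389))) (.node (.node (.leaf 242693) (.leaf 766988)) (.node (.leaf 504836) (.leaf 1029133)))))) (.node (.node (.node (.node (.node (.leaf 29701) (.leaf 552456)) (.node (.leaf 291845) (.leaf 816129))) (.node (.node (.leaf 160768) (.leaf 685061)) (.node (.leaf 5120) (.leaf 947213)))) (.node (.node (.node (.leaf 95237) (.leaf 619524)) (.node (.leaf 357386) (.leaf 467586))) (.node (.node (.leaf 226305) (.leaf 750597)) (.node (.leaf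 488460) (.leaf 956932))))) (.node (.node (.node (.node (.leaf 24714) (.leaf 586757)) (.node (.leaf 324608) (.leaf 848905))) (.node (.node (.leaf 28186) (.leaf 717825)) (.node (.leaf 455692) (.leaf 979973)))) (.node (.node (.node (.leaf 128001) (.leaf 652292)) (.node (.leaf 390154) (.leaf 914436))) (.node (.node (.leaf 259076) (.leaf 783365)) (.node (.leaf 521229) (.leaf 998277))))))
def dP_153 : BT := .node (.node (.node (.node (.node (.node (.leaf 15365) (.leaf 21388)) (.node (.leaf 277509) (.leaf 801797))) (.node (.node (.leaf 146439) (.leaf 670724)) (.node (.leaf 408589) (.leaf 932869)))) (.node (.node (.node (.leaf 80897) (.leaf 605189)) (.node (.leaf 91544) (.leaf 867332))) (.node (.node (.leaf 209928) (.leaf 736257)) (.node (.leaf 474117) (.leaf 998404))))) (.node (.node (.node (.node (.leaf 33674) (.leaf 572420)) (.node (.leaf 310275) (.leaf 834560))) (.node (.node (.leaf 179204) (.leaf 703492)) (.node (.leaf 305792) (.leaf 965636)))) (.node (.node (.node (.leaf 113668) (.leaf 637955)) (.node (.leaf 375819) (.leaf 900109))) (.node (.node (.leaf 244749) (.leaf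 769037)) (.node (.leaf 506884) (.leaf 1031173)))))) (.node (.node (.node (.node (.node (.leaf 31749) (.leaf 554890)) (.node (.leaf 293892) (.leaf 818177))) (.node (.node (.leaf 162817) (.leaf 687108)) (.node (.leaf 424973) (.leaf 939777)))) (.node (.node (.node (.leaf 97280) (.leaf 621580)) (.node (.leaf 113024) (.leaf 883724))) (.node (.node (.leaf 209921) (.leaf 180492)) (.node (.leaf 465281) (.leaf 1014797))))) (.node (.node (.node (.node (.leaf 64519) (.leaf 588800)) (.node (.leaf 326661) (.leaf 850949))) (.node (.node (.leaf 111498) (.leaf 719877)) (.node (.leaf 457740) (.leaf 982021)))) (.node (.node (.node (.leaf 130060) (.leaf 654340)) (.node (.leaf 392201) (.leaf 916484))) (.node (.node (.leaf 261125) (.leaf 785408)) (.node (.leaf 523276) (.leaf 1007489))))))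
def dP_162 : BT := .node (.node (.node (.node (.node (.node (.leaf 12804) (.leaf 537091)) (.node (.leaf 27402) (.leaf 799237))) (.node (.node (.leaf 143876) (.leaf 668165)) (.node (.leaf 54530) (.leaf 930309)))) (.node (.node (.node (.leaf 62976) (.leaf 602628)) (.node (.leaf 325128) (.leaf 864772))) (.node (.node (.leaf 2971) (.leaf 733701)) (.node (.leaf 471556) (.leaf 995843))))) (.node (.node (.node (.node (.leaf 45573) (.leaf 569868)) (.node (.leaf 307716) (.leaf 832005))) (.node (.node (.leaf 176644) (.leaf 700929)) (.node (.leaf 438664) (.leaf 963076)))) (.node (.node (.node (.leaf 111109) (.leaf 635396)) (.node (.leaf 373258) (.leaf 897548))) (.node (.node (.leaf 242180) (.leaf 766477)) (.node (.leaf 92936) (.leaf 1028621)))))) (.node (.node (.node (.node (.node (.leaf 6026) (.leaf 83594)) (.node (.leaf 291332) (.leaf 815620))) (.node (.node (.leaf 160257) (.leaf 684548)) (.node (.leaf 391940) (.leaf 946700)))) (.node (.node (.node (.leaf 94724) (.leaf 619013)) (.node (.leaf 4480) (.leaf 697354))) (.node (.node (.leaf 225792) (.leaf 750084)) (.node (.leaf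 487949) (.leaf 1012225))))) (.node (.node (.node (.node (.leaf 407) (.leaf 586244)) (.node (.leaf 324097) (.leaf 848384))) (.node (.node (.leaf 193029) (.leaf 717317)) (.node (.leaf 455181) (.leaf 979460)))) (.node (.node (.node (.leaf 127488) (.leaf 651781)) (.node (.leaf 389634) (.leaf 675082))) (.node (.node (.leaf 258565) (.leaf 782852)) (.node (.leaf 520716) (.leaf 1045004))))))
def dP_169 : BT := .node (.node (.node (.node (.node (.node (.leaf 14852) (.leaf 539145)) (.node (.leaf 276996) (.leaf 801281))) (.node (.node (.leaf 33290) (.leaf 670213)) (.node (.leaf 408077) (.leaf 932356)))) (.node (.node (.node (.leaf 80384) (.leaf 604676)) (.node (.leaf 342529) (.leaf 567176))) (.node (.node (.leaf 209926) (.leaf 735744)) (.node (.leaf 473604) (.leaf 997893))))) (.node (.node (.node (.node (.leaf 47620) (.leaf 571909)) (.node (.leaf 309765) (.leaf 834049))) (.node (.node (.leaf 178693) (.leaf 702977)) (.node (.leaf 54790) (.leaf 965125)))) (.node (.node (.node (.leaf 113157) (.leaf 637441)) (.node (.leaf 375305) (.leaf 899584))) (.node (.node (.leaf 244236)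 (.leaf 768524)) (.node (.leaf 506373) (.leaf 1030660)))))) (.node (.node (.node (.node (.node (.leaf 31236) (.leaf 10504)) (.node (.leaf 293381) (.leaf 817667))) (.node (.node (.leaf 162304) (.leaf 686597)) (.node (.leaf 424461) (.leaf 948741)))) (.node (.node (.node (.leaf 96769) (.leaf 434956)) (.node (.leaf 4608) (.leaf 550796))) (.node (.node (.leaf 227840) (.leaf 752140)) (.node (.leaf 426626) (.leaf 1014285))))) (.node (.node (.node (.node (.leaf 64010) (.leaf 588289)) (.node (.leaf 326148) (.leaf 602756))) (.node (.node (.leaf 195082) (.leaf 719364)) (.node (.leaf 457229) (.leaf 981508)))) (.node (.node (.node (.leaf 129548) (.leaf 653829)) (.node (.leaf 391680) (.leaf 915973))) (.node (.node (.leaf 260612) (.leaf 784897)) (.node (.leaf 522764) (.leaf 1020293))))))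
def dP_177 : BT := .node (.node (.node (.node (.node (.node (.leaf 13828) (.leaf 538122)) (.node (.leaf 275972) (.leaf 800257))) (.node (.node (.leaf 144901) (.leaf 669189)) (.node (.leaf 113416) (.leaf 798604)))) (.node (.node (.node (.leaf 79360) (.leaf 603652)) (.node (.leaf 341505) (.leaf 865805))) (.node (.node (.leaf 209666) (.leaf 734720)) (.node (.leaf 472580) (.leaf 996864))))) (.node (.node (.node (.node (.leaf 46597) (.leaf 570893)) (.node (.leaf 308741) (.leaf 833029))) (.node (.node (.leaf 177677) (.leaf 701953)) (.node (.leaf 423300) (.leaf 964100)))) (.node (.node (.node (.leaf 112133) (.leaf 636417)) (.node (.leaf 374279) (.leaf 898564))) (.node (.node (.leaf 243212) (.leaf 767500)) (.node (.leaf 505349) (.leaf 1029644)))))) (.node (.node (.node (.node (.node (.leaf 30212) (.leaf 553476)) (.node (.leaf 292356) (.leaf 816640))) (.node (.node (.leaf 161281) (.leaf 685572)) (.node (.leaf 306188) (.leaf 884877)))) (.node (.node (.node (.leaf 95749) (.leaf 620037)) (.node (.leaf 344576) (.leaf 882177))) (.node (.node (.leaf 226816) (.leaf 751108)) (.node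 (.leaf 488972) (.leaf 1013253))))) (.node (.node (.node (.node (.leaf 62982) (.leaf 587268)) (.node (.leaf 325000) (.leaf 613382))) (.node (.node (.leaf 2944) (.leaf 718336)) (.node (.leaf 456205) (.leaf 980484)))) (.node (.node (.node (.leaf 128512) (.leaf 652805)) (.node (.leaf 92042) (.leaf 914949))) (.node (.node (.leaf 259589) (.leaf 783876)) (.node (.leaf 521741) (.leaf 1046020))))))
def dP_184 : BT := .node (.node (.node (.node (.node (.node (.leaf 404) (.leaf 540164)) (.node (.leaf 278021) (.leaf 802308))) (.node (.node (.leaf 146956) (.leaf 671237)) (.node (.leaf 409101) (.leaf 933380)))) (.node (.node (.node (.leaf 81408) (.leaf 605700)) (.node (.leaf 321562) (.leaf 566279))) (.node (.node (.leaf 210186) (.leaf 736768)) (.node (.leaf 474628) (.leaf 998917))))) (.node (.node (.node (.node (.leaf 48643) (.leaf 572931)) (.node (.leaf 310785) (.leaf 835073))) (.node (.node (.leaf 28314) (.leaf 704005)) (.node (.leaf 441856) (.leaf 315661)))) (.node (.node (.node (.leaf 114181) (.leaf 638468)) (.node (.leaf 54280) (.leaf 900612))) (.node (.node (.leaf 245261)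 (.leaf 567429)) (.node (.leaf 507397) (.leaf 1031684)))))) (.node (.node (.node (.node (.node (.leaf 32261) (.leaf 556544)) (.node (.leaf 294405) (.leaf 818688))) (.node (.node (.leaf 163328) (.leaf 687621)) (.node (.leaf 425484) (.leaf 949760)))) (.node (.node (.node (.leaf 97793) (.leaf 622093)) (.node (.leaf 359948) (.leaf 884237))) (.node (.node (.leaf 228864) (.leaf 753165)) (.node (.leaf 491008) (.leaf 1015309))))) (.node (.node (.node (.node (.leaf 65028) (.leaf 589313)) (.node (.leaf 53782) (.leaf 851460))) (.node (.node (.leaf 195978) (.leaf 720388)) (.node (.leaf 458252) (.leaf 982529)))) (.node (.node (.node (.leaf 130572) (.leaf 654853)) (.node (.leaf 54406) (.leaf 916997))) (.node (.node (.leaf 31752) (.leaf 785921)) (.node (.leaf 523789) (.leaf 440204))))))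
def dP_194 : BT := .node (.node (.node (.node (.node (.node (.leaf 12549) (.leaf 536833)) (.node (.leaf 27392) (.leaf 798980))) (.node (.node (.leaf 143620) (.leaf 667908)) (.node (.leaf 405771) (.leaf 930052)))) (.node (.node (.node (.leaf 78091) (.leaf 602372)) (.node (.leaf 340224) (.leaf 864516))) (.node (.node (.leaf 2959) (.leaf 733444)) (.node (.leaf 471300) (.leaf 954245))))) (.node (.node (.node (.node (.leaf 45316) (.leaf 569601)) (.node (.leaf 307460) (.leaf 831748))) (.node (.node (.leaf 176388) (.leaf 700685)) (.node (.leaf 113672) (.leaf 962821)))) (.node (.node (.node (.leaf 110852) (.leaf 635141)) (.node (.leaf 373000) (.leaf 897281))) (.node (.node (.leaf 241924) (.leaf 766208)) (.node (.leaf 55304) (.leaf 1028353)))))) (.node (.node (.node (.node (.node (.leaf 6022) (.leaf 553227)) (.node (.leaf 291077) (.leaf 815365))) (.node (.node (.leaf 160012) (.leaf 684292)) (.node (.leaf 422016) (.leaf 946433)))) (.node (.node (.node (.leaf 94468) (.leaf 618757)) (.node (.leaf 4377) (.leaf 880897))) (.node (.node (.leaf 225549) (.leaf 749828)) (.node (.leaf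 487680) (.leaf 1011980))))) (.node (.node (.node (.node (.leaf 16282) (.leaf 585988)) (.node (.leaf 323340) (.leaf 848138))) (.node (.node (.leaf 192773) (.leaf 717060)) (.node (.leaf 92556) (.leaf 979205)))) (.node (.node (.node (.leaf 127244) (.leaf 651524)) (.node (.leaf 389386) (.leaf 913665))) (.node (.node (.leaf 258308) (.leaf 782595)) (.node (.leaf 520449) (.leaf 1044737))))))
def dP_201 : BT := .node (.node (.node (.node (.node (.node (.leaf 14597) (.leaf 538880)) (.node (.leaf 276741) (.leaf 801036))) (.node (.node (.leaf 145669) (.leaf 669956)) (.node (.leaf 407808) (.leaf 931842)))) (.node (.node (.node (.leaf 80140) (.leaf 604420)) (.node (.leaf 342284) (.leaf 866561))) (.node (.node (.leaf 209802) (.leaf 735501)) (.node (.leaf 426762) (.leaf 997636))))) (.node (.node (.node (.node (.leaf 47365) (.leaf 571652)) (.node (.leaf 309509) (.leaf 833796))) (.node (.node (.leaf 178436) (.leaf 702732)) (.node (.leaf 54784) (.leaf 923269)))) (.node (.node (.node (.leaf 112900) (.leaf 637197)) (.node (.leaf 375049) (.leaf 899333))) (.node (.node (.leaf 243969)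 (.leaf 768257)) (.node (.leaf 506117) (.leaf 1030404)))))) (.node (.node (.node (.node (.node (.leaf 30981) (.leaf 10632)) (.node (.leaf 293125) (.leaf 667653))) (.node (.node (.leaf 161677) (.leaf 686340)) (.node (.leaf 424193) (.leaf 948484)))) (.node (.node (.node (.leaf 96517) (.leaf 620805)) (.node (.leaf 4620) (.leaf 882690))) (.node (.node (.leaf 227597) (.leaf 751872)) (.node (.leaf 489728) (.leaf 1014016))))) (.node (.node (.node (.node (.leaf 63754) (.leaf 588039)) (.node (.leaf 325891) (.leaf 599168))) (.node (.node (.leaf 194306) (.leaf 607620)) (.node (.leaf 456960) (.leaf 981253)))) (.node (.node (.node (.leaf 37121) (.leaf 653572)) (.node (.leaf 391431) (.leaf 915717))) (.node (.node (.leaf 260357) (.leaf 784653)) (.node (.leaf 522497) (.leaf 1040385))))))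
def dP_209 : BT := .node (.node (.node (.node (.node (.node (.leaf 13573) (.leaf 537858)) (.node (.leaf 275717) (.leaf 800004))) (.node (.node (.leaf 144645) (.leaf 668932)) (.node (.leaf 92168) (.leaf 623620)))) (.node (.node (.node (.leaf 79117) (.leaf 603396)) (.node (.leaf 341255) (.leaf 865536))) (.node (.node (.leaf 3082) (.leaf 734468)) (.node (.leaf 472324) (.leaf 996620))))) (.node (.node (.node (.node (.leaf 46340) (.leaf 570625)) (.node (.leaf 308485) (.leaf 832772))) (.node (.node (.leaf 33034) (.leaf 701709)) (.node (.leaf 439424) (.leaf 963845)))) (.node (.node (.node (.leaf 111876) (.leaf 438924)) (.node (.leaf 374024) (.leaf 898307))) (.node (.node (.leaf 3457) (.leaf 767232)) (.node (.leaf 505093) (.leaf 1029377)))))) (.node (.node (.node (.node (.node (.leaf 29957) (.leaf 196864)) (.node (.leaf 292101) (.leaf 816396))) (.node (.node (.leaf 161037) (.leaf 685317)) (.node (.leaf 5130) (.leaf 947457)))) (.node (.node (.node (.leaf 95493) (.leaf 619781)) (.node (.leaf 357642) (.leaf 197382))) (.node (.node (.leaf 226572) (.leaf 750852)) (.node (.leaf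 488704) (.leaf 1012997))))) (.node (.node (.node (.node (.leaf 62726) (.leaf 587013)) (.node (.leaf 324877) (.leaf 846980))) (.node (.node (.leaf 2841) (.leaf 718092)) (.node (.leaf 455936) (.leaf 980229)))) (.node (.node (.node (.leaf 128269) (.leaf 652548)) (.node (.leaf 113290) (.leaf 914693))) (.node (.node (.leaf 259332) (.leaf 783621)) (.node (.leaf 521473) (.leaf 988932))))))
def dP_216 : BT := .node (.node (.node (.node (.node (.node (.leaf 15621) (.leaf 59140)) (.node (.leaf 277765) (.leaf 802052))) (.node (.node (.leaf 146689) (.leaf 670980)) (.node (.leaf 408832) (.leaf 933124)))) (.node (.node (.node (.leaf 81165) (.leaf 605444)) (.node (.leaf 112792) (.leaf 575496))) (.node (.node (.leaf 210058) (.leaf 736524)) (.node (.leaf 474372) (.leaf 998660))))) (.node (.node (.node (.node (.leaf 48389) (.leaf 572676)) (.node (.leaf 310535) (.leaf 834829))) (.node (.node (.leaf 179460) (.leaf 703749)) (.node (.leaf 305802) (.leaf 965893)))) (.node (.node (.node (.leaf 113924) (.leaf 638212)) (.node (.leaf 376075) (.leaf 900355))) (.node (.node (.leaf 244993)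 (.leaf 769281)) (.node (.leaf 507141) (.leaf 1031428)))))) (.node (.node (.node (.node (.node (.leaf 32005) (.leaf 438026)) (.node (.leaf 294148) (.leaf 818444))) (.node (.node (.leaf 163085) (.leaf 687364)) (.node (.leaf 425217) (.leaf 949517)))) (.node (.node (.node (.leaf 97548) (.leaf 621824)) (.node (.leaf 359681) (.leaf 883968))) (.node (.node (.leaf 228620) (.leaf 752896)) (.node (.leaf 490764) (.leaf 1015040))))) (.node (.node (.node (.node (.leaf 64775) (.leaf 589068)) (.node (.leaf 326917) (.leaf 851205))) (.node (.node (.leaf 90250) (.leaf 720132)) (.node (.leaf 457984) (.leaf 314380)))) (.node (.node (.node (.leaf 130305) (.leaf 654596)) (.node (.leaf 392460) (.leaf 916741))) (.node (.node (.leaf 31744) (.leaf 785677)) (.node (.leaf 523521) (.leaf 315149))))))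
def dP_225 : BT := .node (.node (.node (.node (.node (.node (.leaf 13060) (.leaf 6157)) (.node (.leaf 275204) (.leaf 799493))) (.node (.node (.leaf 144133) (.leaf 668421)) (.node (.leaf 54538) (.leaf 930565)))) (.node (.node (.node (.leaf 78605) (.leaf 602885)) (.node (.leaf 340741) (.leaf 865029))) (.node (.node (.leaf 209664) (.leaf 733957)) (.node (.leaf 471813) (.leaf 996103))))) (.node (.node (.node (.node (.leaf 45829) (.leaf 570112)) (.node (.leaf 307973) (.leaf 832261))) (.node (.node (.leaf 176901) (.leaf 701197)) (.node (.leaf 434944) (.leaf 963332)))) (.node (.node (.node (.leaf 111365) (.leaf 635652)) (.node (.leaf 373514) (.leaf 897792))) (.node (.node (.leaf 242437) (.leaf 766721)) (.node (.leaf 321924) (.leaf 1028864)))))) (.node (.node (.node (.node (.node (.leaf 29444) (.leaf 551050)) (.node (.leaf 291588) (.leaf 815876))) (.node (.node (.leaf 160524) (.leaf 684804)) (.node (.leaf 54658) (.leaf 946944)))) (.node (.node (.node (.leaf 94981) (.leaf 619268)) (.node (.leaf 357130) (.leaf 821766))) (.node (.node (.leaf 226061) (.leaf 750341)) (.node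 (.leaf 488193) (.leaf 1012493))))) (.node (.node (.node (.node (.leaf 24454) (.leaf 586500)) (.node (.leaf 324365) (.leaf 848649))) (.node (.node (.leaf 32906) (.leaf 196620)) (.node (.leaf 455425) (.leaf 979716)))) (.node (.node (.node (.leaf 127756) (.leaf 652037)) (.node (.leaf 389898) (.leaf 825220))) (.node (.node (.leaf 258821) (.leaf 783108)) (.node (.leaf 520960) (.leaf 1045248))))))
def dP_232 : BT := .node (.node (.node (.node (.node (.node (.leaf 15108) (.leaf 25610)) (.node (.leaf 277252) (.leaf 768133))) (.node (.node (.leaf 146179) (.leaf 670469)) (.node (.leaf 408321) (.leaf 932613)))) (.node (.node (.node (.leaf 80652) (.leaf 604933)) (.node (.leaf 53912) (.leaf 436877))) (.node (.node (.leaf 3208) (.leaf 736013)) (.node (.leaf 473861) (.leaf 998149))))) (.node (.node (.node (.node (.leaf 33670) (.leaf 572165)) (.node (.leaf 285957) (.leaf 834316))) (.node (.node (.leaf 178949) (.leaf 639748)) (.node (.leaf 54794) (.leaf 965380)))) (.node (.node (.node (.leaf 113413) (.leaf 439693)) (.node (.leaf 375556) (.leaf 167564))) (.node (.node (.leaf 244480)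 (.leaf 768768)) (.node (.leaf 506628) (.leaf 1030917)))))) (.node (.node (.node (.node (.node (.leaf 31492) (.leaf 554762)) (.node (.leaf 293637) (.leaf 817927))) (.node (.node (.leaf 162060) (.leaf 686853)) (.node (.leaf 424704) (.leaf 948996)))) (.node (.node (.node (.leaf 97036) (.leaf 621313)) (.node (.leaf 4618) (.leaf 883457))) (.node (.node (.leaf 27776) (.leaf 752385)) (.node (.leaf 426632) (.leaf 1014529))))) (.node (.node (.node (.node (.leaf 64264) (.leaf 588556)) (.node (.leaf 326404) (.leaf 850692))) (.node (.node (.leaf 195338) (.leaf 719621)) (.node (.leaf 457473) (.leaf 981764)))) (.node (.node (.node (.leaf 129792) (.leaf 654085)) (.node (.leaf 391945) (.leaf 916228))) (.node (.node (.leaf 260868) (.leaf 785165)) (.node (.leaf 523008) (.leaf 883205))))))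
def dP_240 : BT := .node (.node (.node (.node (.node (.node (.leaf 14084) (.leaf 538378)) (.node (.leaf 276228) (.leaf 800524))) (.node (.node (.leaf 145156) (.leaf 669445)) (.node (.leaf 407297) (.leaf 467718)))) (.node (.node (.node (.leaf 79629) (.leaf 603909)) (.node (.leaf 341772) (.leaf 866049))) (.node (.node (.leaf 209794) (.leaf 734989)) (.node (.leaf 472837) (.leaf 997132))))) (.node (.node (.node (.node (.leaf 46853) (.leaf 571136)) (.node (.leaf 308996) (.leaf 833285))) (.node (.node (.leaf 177923) (.leaf 702220)) (.node (.leaf 435204) (.leaf 964356)))) (.node (.node (.node (.leaf 112389) (.leaf 636684)) (.node (.leaf 374535) (.leaf 898820))) (.node (.node (.leaf 243456) (.leaf 767745)) (.node (.leaf 505604) (.leaf 1029888)))))) (.node (.node (.node (.node (.node (.leaf 30468) (.leaf 554760)) (.node (.leaf 292612) (.leaf 816909))) (.node (.node (.leaf 161549) (.leaf 685828)) (.node (.leaf 423680) (.leaf 947971)))) (.node (.node (.node (.leaf 96004) (.leaf 620292)) (.node (.leaf 344704) (.leaf 882437))) (.node (.node (.leaf 227084) (.leaf 751361)) (.node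 (.leaf 489217) (.leaf 1013508))))) (.node (.node (.node (.node (.leaf 63240) (.leaf 587524)) (.node (.leaf 4236) (.leaf 613386))) (.node (.node (.leaf 2954) (.leaf 718605)) (.node (.leaf 456449) (.leaf 980740)))) (.node (.node (.node (.leaf 28800) (.leaf 653061)) (.node (.leaf 390794) (.leaf 915204))) (.node (.node (.leaf 259845) (.leaf 784132)) (.node (.leaf 521984) (.leaf 1046276))))))
def dP_247 : BT := .node (.node (.node (.node (.node (.node (.leaf 408) (.leaf 540421)) (.node (.leaf 278277) (.leaf 802565))) (.node (.node (.leaf 147200) (.leaf 196492)) (.node (.leaf 409345) (.leaf 933637)))) (.node (.node (.node (.leaf 29062) (.leaf 605956)) (.node (.leaf 4249) (.leaf 868100))) (.node (.node (.leaf 111626) (.leaf 737036)) (.node (.leaf 474885) (.leaf 999173))))) (.node (.node (.node (.node (.leaf 48903) (.leaf 573191)) (.node (.leaf 311052) (.leaf 572932))) (.node (.node (.leaf 2715) (.leaf 704260)) (.node (.leaf 442125) (.leaf 966403)))) (.node (.node (.node (.leaf 114437) (.leaf 638725)) (.node (.leaf 358790) (.leaf 721165))) (.node (.node (.leaf 245504)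 (.leaf 769795)) (.node (.leaf 507652) (.leaf 1031941)))))) (.node (.node (.node (.node (.node (.leaf 32517) (.leaf 556809)) (.node (.leaf 294661) (.leaf 818956))) (.node (.node (.leaf 33162) (.leaf 687877)) (.node (.leaf 425728) (.leaf 950029)))) (.node (.node (.node (.leaf 18582) (.leaf 622337)) (.node (.leaf 360192) (.leaf 884481))) (.node (.node (.leaf 229132) (.leaf 753409)) (.node (.leaf 491276) (.leaf 1015553))))) (.node (.node (.node (.node (.leaf 65291) (.leaf 180876)) (.node (.leaf 53786) (.leaf 851716))) (.node (.node (.leaf 111496) (.leaf 617218)) (.node (.leaf 458497) (.leaf 982796)))) (.node (.node (.node (.leaf 130816) (.leaf 655109)) (.node (.leaf 392450) (.leaf 917252))) (.node (.node (.leaf 236172) (.leaf 786188)) (.node (.leaf 524032) (.leaf 1048324))))))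
def dJ2 : List (List ℕ) := [[93, 2, 95, 34, 798], [266, 2, 800, 96, 645, 646], [316, 1, 800, 129, 34], [395, 2, 129, 46, 804], [0, 0], [95, 3, 777, 95, 34, 798, 808], [316, 1, 810, 780, 801], [395, 2, 780, 807, 812], [0, 0], [97, 3, 800, 95, 34, 724, 816], [38, 2, 818, 800], [268, 1, 818, 806, 801], [268, 1, 820, 823, 819], [0, 0], [99, 4, 810, 777, 95, 34, 724, 816, 826], [38, 2, 828, 810], [268, 1, 828, 814, 811], [268, 1, 830, 833, 829], [0, 0], [113, 2, 63, 48, 836], [282, 2, 838, 64, 657, 658], [302, 1, 838, 93, 48], [403, 2, 93, 60, 842], [0, 0], [115, 3, 753, 63, 48, 836, 846], [114, 2, 848, 754, 48], [302, 1, 848, 756, 839], [403, 2, 756, 845, 852], [0, 0], [117, 3, 838, 63, 48, 734, 856], [46, 2, 858, 838], [286, 1, 858, 844, 839], [286, 1, 860, 863, 859], [0, 0], [119, 4, 848, 753, 63, 48, 734, 856, 866], [46, 2, 868, 848], [114, 2, 868, 851, 734], [286, 1, 868, 854, 849], [286, 1, 870, 875, 869], [0, 0], [125, 2, 63, 744, 878], [304, 1, 880, 93, 744], [367, 2, 880, 442, 881], [0, 0], [127, 3, 753, 63, 744, 878, 886], [126, 2, 888, 754, 744], [304, 1,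 888, 756, 881], [0, 0], [129, 3, 880, 63, 744, 746, 894], [54, 2, 896, 880], [304, 1, 896, 883, 746], [367, 2, 896, 885, 897], [0, 0], [131, 4, 888, 753, 63, 744, 746, 894, 904], [54, 2, 906, 888], [126, 2, 906, 891, 746], [304, 1, 906, 893, 897], [0, 0], [133, 2, 767, 744, 914], [367, 2, 916, 769, 917], [0, 0], [135, 3, 771, 767, 744, 914, 920], [134, 2, 922, 772, 744], [367, 2, 922, 775, 923], [0, 0], [137, 3, 916, 767, 744, 746, 928], [54, 2, 930, 916], [367, 2, 930, 919, 931], [0, 0], [139, 4, 922, 771, 767, 744, 746, 928, 936], [54, 2, 938, 922], [134, 2, 938, 925, 746], [367, 2, 938, 927, 939], [0, 0], [173, 2, 95, 766, 946], [324, 1, 948, 129, 766], [371, 2, 948, 444, 949], [0, 0], [175, 3, 777, 95, 766, 946, 954], [174, 2, 956, 778, 766], [323, 2, 956, 782, 766], [324, 1, 956, 780, 949], [371, 2, 956, 785, 957], [0, 0], [177, 3, 948, 95, 766, 770, 966], [70, 2, 968, 948], [324, 1, 968, 951, 770], [371, 2, 968, 953, 969], [0, 0], [179, 4, 956, 777, 95, 766, 770, 966, 976], [70, 2, 978, 956], [174, 2, 978, 959, 770], [323, 2, 978, 961, 770], [324, 1, 978,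 963, 969], [371, 2, 978, 965, 979], [0, 0], [201, 2, 837, 49, 34, 990], [300, 1, 992, 843, 793], [393, 2, 843, 797, 994], [273, 1, 990, 996, 837, 797], [3, 0, 793, 998, 35], [6, 0, 735, 1001, 48, 1001], [10, 0, 837, 1001, 62], [15, 0, 51, 1001, 13], [5, 0, 737, 1003], [10, 0, 857, 1003, 62], [9, 0, 873, 1003, 755], [15, 0, 742, 1003, 13], [21, 0, 741, 1003], [3, 0, 992, 1005], [15, 0, 840, 1005, 64], [19, 0, 996, 1005], [18, 0, 598, 1007, 19], [26, 0, 661, 1007, 127], [28, 0, 665, 1007, 195], [30, 0, 669, 1007, 271], [5, 0, 860, 1011], [21, 0, 865, 1011], [5, 0, 870, 1013], [21, 0, 877, 1013], [21, 0, 708, 1015], [22, 0, 657, 1021], [22, 0, 596, 1025], [22, 0, 663, 1027], [22, 0, 667, 1029], [22, 0, 671, 1031], [279, 1, 1023, 64, 641], [281, 1, 268, 275, 1050, 269], [296, 1, 268, 1050, 269], [287, 2, 266, 1056, 267], [409, 0, 750, 1058, 751], [287, 2, 747, 1060, 746], [289, 2, 879, 1060, 878], [290, 3, 891, 1060, 890], [291, 2, 915, 1060, 914], [292, 3, 925, 1060, 924], [407, 2, 749, 1060, 748], [283, 0, 188, 1072, 189], [287, 0, 191, 1072, 190], [287, 2, 186,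 1074, 187], [296, 1, 184, 1078, 185], [288, 3, 182, 1080, 183], [284, 1, 180, 1082, 181], [288, 3, 178, 1084, 179], [295, 0, 176, 1086, 177], [287, 2, 174, 1088, 175], [283, 0, 172, 1090, 173], [287, 2, 170, 1092, 171], [295, 0, 168, 1094, 169], [288, 3, 166, 1096, 167], [284, 1, 164, 1098, 165], [288, 3, 162, 1100, 163], [296, 1, 160, 1102, 161], [287, 2, 158, 1104, 159], [283, 0, 156, 1106, 157], [287, 2, 154, 1108, 155], [296, 1, 152, 1110, 153], [288, 3, 150, 1112, 151], [284, 1, 148, 1114, 149], [288, 3, 146, 1116, 147], [296, 1, 144, 1118, 145], [287, 2, 142, 1120, 143], [283, 0, 140, 1122, 141], [287, 2, 138, 1124, 139], [295, 0, 136, 1126, 137], [288, 3, 134, 1128, 135], [284, 1, 132, 1130, 133], [288, 3, 130, 1132, 131], [281, 3, 1134, 16, 22, 17], [287, 0, 923, 1070, 922], [288, 1, 938, 1070, 939], [292, 3, 936, 1140, 937], [288, 1, 932, 1142, 933], [293, 2, 947, 1144, 946], [294, 3, 959, 1144, 958], [291, 0, 957, 1148, 956], [292, 1, 978, 1148, 979], [294, 3, 976, 1152, 977], [292, 1, 970, 1154, 971], [283, 2, 800, 1156, 801], [295, 0, 802, 1158, 803],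 [282, 3, 803, 1160, 648, 802], [86, 0, 801, 1162, 800], [209, 2, 1162, 799, 35, 1008, 94], [4, 0, 818, 1167, 801, 1167], [13, 0, 798, 1167, 95], [15, 0, 802, 1167, 96], [3, 0, 820, 1169], [14, 0, 827, 1169, 776], [13, 0, 816, 1169, 95], [19, 0, 825, 1169], [10, 0, 991, 1171, 62], [15, 0, 37, 1171, 13], [20, 0, 645, 1173], [3, 0, 830, 1177], [19, 0, 835, 1177], [3, 0, 727, 1179], [15, 0, 732, 1179, 13], [19, 0, 731, 1179], [4, 0, 1018, 1183]]
def dJ6 : List (List ℕ) := [[369, 2, 2346, 2398, 2347], [366, 1, 2344, 2400, 2345], [365, 2, 2342, 2402, 2343], [376, 1, 2340, 2404, 2341], [367, 2, 2338, 2406, 2339], [287, 0, 2368, 2374, 2369], [283, 2, 2366, 2410, 2367], [287, 0, 2364, 2412, 2365], [296, 3, 2362, 2414, 2363], [288, 1, 2360, 2416, 2361], [284, 3, 2358, 2418, 2359], [288, 1, 2356, 2420, 2357], [296, 3, 2354, 2422, 2355], [287, 0, 2352, 2424, 2353], [283, 2, 2350, 2426, 2351], [287, 0, 2348, 2428, 2349], [289, 2, 2346, 2430, 2347], [286, 1, 2344, 2432, 2345], [285, 2, 2342, 2434, 2343], [296, 1, 2340, 2436, 2341], [287, 2, 2338, 2438, 2339], [271, 0, 2368,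 2372, 2369], [267, 2, 2366, 2442, 2367], [271, 0, 2364, 2444, 2365], [280, 3, 2362, 2446, 2363], [272, 1, 2360, 2448, 2361], [268, 3, 2358, 2450, 2359], [272, 1, 2356, 2452, 2357], [280, 3, 2354, 2454, 2355], [271, 0, 2352, 2456, 2353], [267, 2, 2350, 2458, 2351], [271, 0, 2348, 2460, 2349], [273, 2, 2346, 2462, 2347], [270, 1, 2344, 2464, 2345], [269, 2, 2342, 2466, 2343], [280, 1, 2340, 2468, 2341], [271, 2, 2338, 2470, 2339], [46, 1, 2342, 2344], [0, 0], [385, 2, 205, 33, 2476], [249, 2, 2478, 1811, 1813], [0, 0], [387, 2, 281, 33, 2482], [249, 2, 2484, 2099, 2101], [0, 0], [427, 2, 281, 204, 2488], [343, 1, 2490, 268, 699], [0, 0], [249, 0, 703, 12, 2494], [0, 0], [343, 3, 721, 12, 2498], [0, 0], [359, 3, 723, 12, 2502], [0, 0], [53, 1, 130, 2506], [271, 2, 2507, 1288, 2506], [287, 2, 2507, 1132, 2506], [367, 2, 2507, 586, 2506], [0, 0], [275, 2, 2517, 1291, 2516], [291, 2, 2517, 1135, 2516], [371, 2, 2517, 446, 2516], [0, 0], [69, 1, 2516, 2524], [275, 2, 2525, 2519, 2524], [291, 2, 2525, 2521, 2524], [371, 2, 2525, 2523, 2524], [0, 0], [125, 2, 1675, 130,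 2534], [217, 1, 2536, 1683, 1675, 130], [271, 2, 2536, 1681, 2537], [303, 2, 2536, 1687, 130], [0, 0], [127, 3, 1718, 1675, 130, 2534, 2544], [126, 2, 2546, 1705, 130], [217, 1, 2546, 1709, 1718, 2537], [218, 3, 2546, 1705, 1137, 130], [271, 2, 2546, 1713, 2547], [287, 2, 2546, 1715, 2547], [303, 2, 2546, 1720, 2537], [304, 1, 2546, 1702, 130], [367, 2, 2546, 1716, 2547], [0, 0], [129, 3, 2536, 1675, 130, 2506, 2564], [54, 2, 2566, 2536], [218, 3, 2566, 2544, 2553, 2506], [303, 2, 2566, 2543, 2506], [0, 0], [131, 4, 2546, 1718, 1675, 130, 2506, 2564, 2574], [54, 2, 2576, 2546], [126, 2, 2576, 2549, 2506], [217, 1, 2576, 2551, 2535, 2506], [218, 3, 2576, 2549, 2538, 2567], [271, 2, 2576, 2555, 2577], [287, 2, 2576, 2557, 2577], [304, 1, 2576, 2561, 2506], [367, 2, 2576, 2563, 2577], [0, 0], [133, 2, 2517, 130, 2594], [271, 2, 2596, 2519, 2597], [287, 2, 2596, 2521, 2597], [367, 2, 2596, 2523, 2597], [0, 0], [135, 3, 2525, 2517, 130, 2594, 2604], [134, 2, 2606, 2526, 130], [271, 2, 2606, 2529, 2607], [287, 2, 2606, 2531, 2607], [367, 2, 2606, 2533, 2607], [0, 0],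 [137, 3, 2596, 2517, 130, 2506, 2616], [54, 2, 2618, 2596], [271, 2, 2618, 2599, 2619], [287, 2, 2618, 2601, 2619], [367, 2, 2618, 2603, 2619], [0, 0], [139, 4, 2606, 2525, 2517, 130, 2506, 2616, 2628], [54, 2, 2630, 2606], [134, 2, 2630, 2609, 2506], [271, 2, 2630, 2611, 2631], [287, 2, 2630, 2613, 2631], [367, 2, 2630, 2615, 2631], [0, 0], [173, 2, 1723, 2516, 2642], [233, 1, 2644, 1727, 1723, 2516], [275, 2, 2644, 1729, 2645], [291, 2, 2644, 1731, 2645], [323, 2, 2644, 1733, 2516], [371, 2, 2644, 1735, 2645], [0, 0], [175, 3, 1752, 1723, 2516, 2642, 2656], [174, 2, 2658, 1741, 2516], [233, 1, 2658, 1743, 1752, 2645], [234, 3, 2658, 1741, 1293, 2516], [275, 2, 2658, 1747, 2659], [291, 2, 2658, 1749, 2659], [323, 2, 2658, 1754, 2645], [324, 1, 2658, 1738, 2516], [371, 2, 2658, 1750, 2659], [0, 0], [177, 3, 2644, 1723, 2516, 2524, 2676], [234, 3, 2678, 2656, 2665, 2524], [275, 2, 2678, 2649, 2679], [291, 2, 2678, 2651, 2679], [323, 2, 2678, 2653, 2524], [371, 2, 2678, 2655, 2679], [0, 0], [179, 4, 2658, 1752, 1723, 2516, 2524, 2676, 2690], [70, 2, 2692, 2658],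 [174, 2, 2692, 2661, 2524], [233, 1, 2692, 2663, 2643, 2524], [234, 3, 2692, 2661, 2646, 2679], [275, 2, 2692, 2667, 2693], [291, 2, 2692, 2669, 2693], [323, 2, 2692, 2671, 2679], [324, 1, 2692, 2673, 2524], [371, 2, 2692, 2675, 2693], [0, 0], [225, 2, 2595, 131, 1674, 2712], [308, 1, 2517, 1686, 2712], [0, 0], [227, 3, 2629, 2617, 2507, 131, 1674, 2712, 2718], [226, 3, 2720, 2633, 2526, 1674], [307, 0, 2526, 1686, 2722], [0, 0], [0, 0], [229, 4, 2617, 2507, 131, 1674, 1719, 2726, 2728], [62, 1, 2728, 2730], [126, 1, 2730, 2618, 2715], [225, 1, 2730, 2617, 2507, 2534], [273, 2, 2730, 2623, 2731], [289, 2, 2730, 2625, 2731], [369, 2, 2730, 2627, 2731], [308, 1, 2595, 2542, 2736], [305, 2, 2728, 2744, 2715], [307, 2, 2517, 1703, 2726], [0, 0], [0, 0], [231, 5, 2605, 2595, 131, 1674, 1719, 2726, 2750, 2752], [62, 1, 2752, 2754], [125, 2, 2754, 2631, 2721], [226, 3, 2754, 2631, 2635, 2564], [230, 5, 2752, 2754, 2631, 2633, 2526, 1674, 1719], [273, 2, 2754, 2611, 2755], [289, 2, 2754, 2613, 2755], [369, 2, 2754, 2615, 2755], [307, 0, 2723, 1721, 2762], [308, 3, 2526,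 1703, 2762], [306, 3, 2753, 2770, 2720], [0, 0], [241, 2, 2596, 2517, 1722, 2776], [320, 1, 131, 1732, 2776], [0, 0], [243, 3, 2630, 2606, 2525, 2517, 1722, 2776, 2782], [242, 3, 2784, 2635, 2508, 1722], [319, 0, 2508, 1732, 2786], [0, 0], [0, 0], [245, 4, 2606, 2525, 2517, 1722, 1753, 2790, 2792], [78, 1, 2792, 2794], [174, 1, 2794, 2605, 2779]]
def dJ10 : List (List ℕ) := [[258, 1, 3998, 3947, 1539], [0, 0], [0, 0], [231, 5, 3935, 3929, 1645, 1648, 3858, 3994, 4002, 4004], [226, 3, 4006, 3951, 3955, 3904], [258, 1, 4006, 3941, 1559], [0, 0], [241, 2, 3930, 1659, 1662, 4012], [262, 1, 4014, 3933, 1581], [384, 2, 1646, 1585, 4016], [0, 0], [243, 3, 3950, 3936, 3871, 1659, 1662, 4012, 4020], [242, 3, 4022, 3955, 1757, 1662], [0, 0], [0, 0], [245, 4, 3936, 3871, 1659, 1662, 3876, 4026, 4028], [262, 1, 4030, 3941, 1599], [0, 0], [0, 0], [247, 5, 3944, 3930, 1659, 1662, 3876, 4026, 4034, 4036], [78, 1, 4036, 4038], [246, 5, 4036, 4038, 3948, 3955, 1757, 1662, 3876], [262, 1, 4038, 3947, 1623], [0, 0], [257, 2, 1649, 3313, 4046], [0, 0], [261, 2, 1663, 3313, 4050],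 [383, 1, 4052, 1669, 3313], [0, 0], [309, 2, 1663, 1656, 4056], [311, 1, 4058, 1667, 3797], [413, 1, 4058, 1669, 1656], [322, 2, 1669, 1648, 4062], [0, 0], [0, 0], [0, 0], [0, 0], [0, 0], [0, 0], [0, 0], [0, 0], [0, 0], [0, 0], [0, 0], [0, 0], [0, 0], [0, 0], [0, 0], [0, 0], [0, 0], [0, 0], [0, 0], [0, 0], [0, 0], [0, 0], [0, 0], [0, 0], [0, 0], [0, 0], [329, 32, 3241, 2477, 1670, 2852, 2858, 2857, 2858, 3310, 4066, 4068, 4070, 4072, 4074, 4076, 4078, 4080, 4082, 4084, 4086, 4088, 4090, 4092, 4094, 4096, 4098, 4100, 4102, 4104, 4106, 4108, 4110, 4112, 4114, 4116], [336, 1, 4118, 3237, 2836], [332, 3, 3315, 4120, 4117], [336, 1, 4114, 4122, 3316], [386, 1, 4122, 3514, 1868], [255, 2, 1804, 4126, 4115], [264, 1, 4112, 4128, 1803], [386, 2, 3510, 1972, 4130], [335, 0, 4110, 4132, 3320], [331, 2, 3323, 4134, 4109], [386, 1, 4136, 3506, 1976], [256, 3, 1796, 4138, 4107], [263, 0, 4104, 4140, 1795], [386, 2, 3500, 1980, 4142], [336, 1, 4102, 4144, 3328], [332, 3, 3331, 4146, 4101], [386, 1, 4148, 3496, 1984], [255, 2, 1788, 4150, 4099], [263, 0, 4096, 4152, 1787], [386,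 2, 3492, 1988, 4154], [335, 0, 4094, 4156, 3336], [331, 2, 3339, 4158, 4093], [386, 1, 4160, 3488, 1992], [256, 3, 1780, 4162, 4091], [264, 1, 4088, 4164, 1779], [255, 2, 1776, 4166, 4087], [251, 0, 4084, 4168, 1775], [255, 2, 1772, 4170, 4083], [264, 1, 4080, 4172, 1771], [256, 3, 1768, 4174, 4079], [252, 1, 4076, 4176, 1767], [256, 3, 1764, 4178, 4075], [249, 2, 4180, 1763, 3532], [264, 1, 4072, 4180, 1763], [255, 2, 1760, 4184, 4071], [0, 0], [337, 2, 1649, 2476, 4188], [343, 1, 4190, 1655, 3802], [386, 1, 4190, 1650, 2013], [0, 0], [339, 2, 1659, 2476, 4196], [386, 1, 4198, 1660, 2021], [0, 0], [341, 2, 1663, 2476, 4202], [343, 1, 4204, 1667, 3814], [386, 1, 4204, 1664, 2025], [0, 0], [0, 0], [0, 0], [0, 0], [0, 0], [0, 0], [0, 0], [0, 0], [0, 0], [0, 0], [0, 0], [0, 0], [0, 0], [0, 0], [0, 0], [0, 0], [0, 0], [0, 0], [0, 0], [0, 0], [0, 0], [0, 0], [0, 0], [0, 0], [0, 0], [0, 0], [0, 0], [345, 44, 3222, 2483, 1644, 2876, 2878, 2880, 2882, 2884, 2886, 4210, 4212, 4214, 4216, 4218, 4220, 4222, 4224, 4226, 4228, 4230, 4232, 4234, 4236, 4238, 4240, 4241, 4239,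 4237, 4242, 4244, 4246, 4248, 4249, 4247, 4245, 4243, 4236, 4238, 4240, 4250, 4252, 4254, 4256, 4258, 4260, 4262], [54, 2, 4264, 3221], [352, 1, 4264, 3225, 2836], [348, 3, 3315, 4268, 4263], [352, 1, 4260, 4270, 3316], [388, 1, 4270, 3514, 2152], [255, 2, 2092, 4274, 4261], [249, 2, 4276, 2091, 2371], [264, 1, 4258, 4276, 2091], [388, 2, 3510, 2270, 4280], [351, 0, 4256, 4282, 3320], [347, 2, 3323, 4284, 4255], [388, 1, 4286, 3506, 2274], [256, 3, 2084, 4288, 4253], [263, 0, 4250, 4290, 2083], [255, 2, 2072, 4292, 4241], [388, 2, 3500, 2278, 4292], [352, 1, 4240, 4296, 3328], [348, 3, 3331, 4298, 4239], [352, 1, 4236, 4300, 3332], [388, 1, 4300, 3496, 2282], [255, 2, 2068, 4304, 4237], [249, 1, 4243, 4306, 2067], [263, 0, 4243, 4306, 2074], [264, 1, 4234, 4306, 2067], [256, 3, 2064, 4312, 4233], [252, 1, 4230, 4314, 2063], [256, 3, 2060, 4316, 4229], [264, 1, 4226, 4318, 2059], [255, 2, 2056, 4320, 4225], [251, 0, 4222, 4322, 2055], [256, 3, 2077, 4310, 4244], [388, 2, 3492, 2286, 4310], [351, 0, 4245, 4328, 3336], [347, 2, 3339, 4330, 4246], [388, 1, 4332, 3488,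 2290], [256, 3, 2081, 4334, 4248], [0, 0], [353, 2, 1649, 2482, 4338], [359, 1, 4340, 1655, 3808], [0, 0], [355, 2, 1659, 2482, 4344], [0, 0], [357, 2, 1663, 2482, 4348], [359, 1, 4350, 1667, 3818], [0, 0], [0, 0], [0, 0], [0, 0], [0, 0], [0, 0], [0, 0], [0, 0], [0, 0], [0, 0], [0, 0], [0, 0], [0, 0], [0, 0], [0, 0], [0, 0], [0, 0], [361, 18, 4257, 4255, 4253, 4251, 4241, 4239, 4237, 4235, 4233, 4231, 4229, 4227, 4225, 4223, 4221, 4219, 4217, 4215, 4213, 4211, 2887, 2885, 2883, 2881, 2879, 2877, 1645, 449, 1644, 4354, 4356, 4358, 4360, 4362, 4364, 4366, 4368, 4370, 4372, 4374, 4376, 4378, 4380, 4382, 4384, 4386], [250, 0, 4388, 4258, 4279], [256, 3, 2368, 4390, 4387], [252, 1, 4384, 4392, 2367], [256, 3, 2364, 4394, 4383], [263, 0, 4380, 4396, 2363]]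
def dJ14 : List (List ℕ) := [[267, 0, 5594, 4922, 5595], [331, 0, 5594, 4916, 4942], [335, 2, 4945, 5602, 5593], [333, 1, 5604, 5292, 2309], [337, 1, 5604, 5271, 5605], [344, 1, 5590, 5604, 4946], [397, 2, 5604, 5189, 5605], [416, 1, 5604, 5254, 2309], [298, 3, 184, 5614, 5608, 5591], [311, 2, 184, 5614, 5591], [303, 0, 5588, 5618, 183], [393, 2, 5618, 1236, 5619], [403, 2, 5618, 1080, 5619], [287, 0, 5588, 5624, 5589], [283, 2, 5586, 5626, 5587], [287, 0, 5584, 5628, 5585], [296, 3, 5582, 5630, 5583], [288, 1, 5580, 5632, 5581], [284, 3, 5578, 5634, 5579], [288, 1, 5576, 5636, 5577], [296, 3, 5574, 5638, 5575], [287, 0, 5572, 5640, 5573], [283, 2, 5570, 5642, 5571], [287, 0, 5568, 5644, 5569], [295, 2, 5566, 5646, 5567], [288, 1, 5564, 5648, 5565], [284, 3, 5562, 5650, 5563], [288, 1, 5560, 5652, 5561], [295, 2, 5558, 5654, 5559], [287, 0, 5556, 5656, 5557], [283, 2, 5554, 5658, 5555], [287, 0, 5552, 5660, 5553], [271, 0, 5588, 5622, 5589], [267, 2, 5586, 5664, 5587], [271, 0, 5584, 5666, 5585], [280, 3, 5582, 5668, 5583], [272, 1, 5580, 5670, 5581], [268, 3,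 5578, 5672, 5579], [272, 1, 5576, 5674, 5577], [280, 3, 5574, 5676, 5575], [271, 0, 5572, 5678, 5573], [267, 2, 5570, 5680, 5571], [271, 0, 5568, 5682, 5569], [279, 2, 5566, 5684, 5567], [272, 1, 5564, 5686, 5565], [268, 3, 5562, 5688, 5563], [272, 1, 5560, 5690, 5561], [279, 2, 5558, 5692, 5559], [271, 0, 5556, 5694, 5557], [267, 2, 5554, 5696, 5555], [271, 0, 5552, 5698, 5553], [299, 2, 180, 5620, 5587], [301, 1, 5621, 5306, 5620], [416, 2, 5250, 2313, 5620], [332, 1, 5586, 5706, 4950], [337, 1, 5706, 5291, 2313], [202, 3, 180, 5307, 5710, 5587], [218, 3, 183, 5710, 5704, 5588], [126, 0, 5584, 5712, 179], [218, 1, 178, 5323, 179, 5716], [337, 2, 5325, 2317, 5716], [416, 1, 5720, 5246, 2317], [312, 3, 176, 5722, 5583], [297, 3, 5724, 176, 5716, 5583], [304, 1, 5580, 5724, 175], [305, 3, 5725, 5727, 5724], [125, 1, 174, 5730, 175], [257, 1, 3471, 5730, 3470], [337, 3, 3517, 5734, 3516], [298, 1, 3059, 5736, 3058, 5244], [353, 1, 3664, 5736, 3665], [257, 3, 3626, 5740, 3627], [125, 1, 242, 5742, 243], [126, 2, 4957, 5738, 2044], [306, 2, 5729, 5732, 5728], [300,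 3, 172, 5728, 5579], [304, 1, 5576, 5750, 171], [312, 3, 168, 5752, 5575], [303, 0, 5572, 5754, 167], [299, 2, 164, 5756, 5571], [303, 0, 5568, 5758, 163], [311, 2, 160, 5760, 5567], [304, 1, 5564, 5762, 159], [416, 2, 5762, 1995, 4852], [418, 2, 5762, 2293, 5222], [352, 1, 4992, 5768, 5565], [348, 3, 5562, 5770, 4991], [352, 1, 4988, 5772, 5561], [418, 3, 2289, 5218, 5772], [304, 1, 5560, 5776, 155], [416, 2, 5776, 1991, 4848], [332, 1, 4644, 5780, 5562], [336, 1, 4647, 5780, 5561], [343, 2, 5558, 5784, 4648], [335, 0, 4651, 5786, 5557], [416, 3, 1987, 4844, 5786], [303, 0, 5556, 5790, 151], [418, 2, 5790, 2285, 5212], [351, 0, 4981, 5794, 5557], [347, 2, 5554, 5796, 4982], [351, 0, 4985, 5798, 5553], [418, 3, 2281, 5208, 5798], [303, 0, 5552, 5802, 147], [416, 2, 5802, 1983, 4840], [335, 0, 4655, 5806, 5553], [343, 2, 5550, 5808, 4656], [336, 1, 4659, 5810, 5549], [416, 3, 1979, 4836, 5810], [304, 1, 5548, 5814, 143], [418, 2, 5814, 2277, 5204], [352, 1, 4997, 5818, 5549], [348, 3, 5546, 5820, 4998], [352, 1, 5001, 5822, 5545], [353, 3, 2273, 5197, 5822], [418,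 3, 2273, 5200, 5822], [304, 1, 5544, 5828, 139], [416, 2, 5828, 1975, 4832], [336, 1, 4663, 5832, 5545], [333, 3, 5834, 4889, 1973], [338, 0, 5834, 4894, 1973], [344, 3, 5542, 5834, 4664], [334, 0, 1971, 4887, 5840], [335, 0, 4667, 5840, 5541], [416, 3, 1971, 4732, 5840], [303, 0, 5540, 5846, 135], [418, 2, 5846, 2269, 5076], [351, 0, 5005, 5850, 5541], [349, 3, 5852, 5258, 2153], [281, 3, 5632, 5582, 5718, 177], [217, 1, 174, 5856, 5726, 5581], [85, 3, 5578, 5858, 173], [201, 3, 5860, 5578, 5749, 5579], [217, 1, 170, 5860, 5862, 171], [281, 3, 1097, 168, 5864, 169], [253, 1, 3479, 5866, 3478], [333, 3, 3525, 5868, 3524], [349, 1, 3672, 5870, 3673], [253, 3, 3636, 5872, 3637], [281, 3, 1453, 3634, 5872, 3635], [125, 1, 5576, 5862, 171], [297, 3, 5754, 168, 5878, 5575], [126, 0, 5572, 5880, 5573], [306, 0, 5755, 5880, 5754], [125, 3, 166, 5884, 167], [258, 2, 3479, 5884, 3478], [338, 0, 3525, 5888, 3524], [354, 2, 3672, 5890, 3673], [258, 0, 3636, 5892, 3637], [125, 3, 247, 5894, 246], [217, 3, 5896, 247, 5875, 246], [202, 3, 249, 5899, 5897, 248], [257, 1, 3661,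 5900, 3660], [353, 3, 3677, 5902, 3676], [126, 0, 2903, 5904, 2902], [337, 1, 3528, 5904, 3529], [257, 3, 3482, 5908, 3483], [126, 0, 162, 5910, 163], [202, 0, 5887, 165, 5910, 164], [305, 1, 5758, 5910, 5759], [125, 3, 5568, 5916, 5569], [201, 4, 5571, 5916, 5570, 5883], [85, 1, 5570, 5920, 5571], [301, 3, 5759, 5922, 5758], [218, 1, 162, 5924, 163, 5912], [253, 1, 3483, 5924, 3482], [333, 3, 3529, 5928, 3528], [218, 1, 2903, 5930, 2902, 5906], [281, 3, 2955, 2905, 5932, 2904], [334, 0, 3044, 5934, 3045], [302, 2, 4854, 5936, 4855], [282, 1, 4641, 5938, 4640, 4762], [333, 3, 5767, 5940, 5766], [302, 0, 5763, 5942, 5762], [349, 1, 5768, 5942, 5769], [297, 1, 5566, 5918, 5761, 161], [126, 2, 158, 5948, 5565], [218, 3, 158, 5948, 5943, 5565], [354, 2, 2292, 5948, 5769], [125, 1, 4992, 5954, 2081], [217, 1, 4992, 5947, 5954, 2081], [85, 3, 2078, 5958, 4991], [201, 3, 5960, 2078, 5956, 4991], [350, 0, 5773, 5960, 2288], [113, 3, 5961, 5963, 5960], [218, 3, 2076, 5967, 5961, 4989], [281, 1, 4986, 5968, 2179, 2075], [350, 0, 5774, 5968, 2287], [217, 4, 155, 5972, 5560,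 5965], [282, 3, 152, 1111, 5972, 5559], [334, 2, 1989, 5972, 5784], [125, 1, 154, 5974, 155], [337, 1, 1990, 5974, 1991], [126, 2, 1785, 5982, 1784], [218, 1, 4646, 5978, 1785, 5982], [306, 2, 4849, 5982, 4848], [125, 1, 4647, 5988, 4646], [201, 1, 4644, 5988, 5987, 1783], [298, 3, 1787, 4847, 5990, 4648], [337, 3, 5784, 5990, 5785], [297, 1, 5558, 5996, 5779, 153]]
def dJ18 : List (List ℕ) := [[321, 1, 7196, 6002, 7197], [125, 3, 6977, 7200, 6976], [315, 2, 2079, 7198, 6978], [319, 0, 6981, 7204, 2080], [319, 0, 6964, 7194, 2065], [315, 2, 2062, 7208, 6963], [319, 0, 6960, 7210, 2061], [327, 2, 2058, 7212, 6959], [320, 1, 6956, 7214, 2057], [316, 3, 2054, 7216, 6955], [320, 1, 6952, 7218, 2053], [328, 3, 2050, 7220, 6951], [319, 0, 6948, 7222, 2049], [315, 2, 2046, 7224, 6947], [319, 0, 6944, 7226, 2045], [328, 3, 2042, 7228, 6943], [320, 1, 6940, 7230, 2041], [316, 3, 2038, 7232, 6939], [317, 1, 7233, 5302, 7232], [85, 3, 6938, 7236, 6939], [320, 1, 6936, 7234, 2037], [328, 3, 2034, 7240, 6935], [319, 0, 6932, 7242, 2033], [321, 1, 7242, 5274, 7243], [125, 3,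 6932, 7246, 6933], [0, 0], [351, 2, 1579, 2331, 7250], [424, 1, 7252, 1584, 750], [0, 0], [0, 0], [0, 0], [0, 0], [0, 0], [0, 0], [0, 0], [0, 0], [0, 0], [0, 0], [0, 0], [0, 0], [0, 0], [0, 0], [0, 0], [0, 0], [0, 0], [361, 18, 6989, 6987, 6985, 6983, 6973, 6971, 6969, 6967, 6965, 6963, 6961, 6959, 6957, 6955, 6953, 6951, 6949, 6947, 6945, 6943, 6941, 6939, 6937, 6935, 6933, 6931, 1579, 445, 1578, 7256, 7258, 7260, 7262, 7264, 7266, 7268, 7270, 7272, 7274, 7276, 7278, 7280, 7282, 7284, 7286, 7288], [328, 1, 7290, 7178, 2371], [320, 3, 2368, 7292, 7289], [316, 1, 7286, 7294, 2367], [317, 1, 7294, 5490, 7295], [395, 2, 7294, 2442, 7295], [405, 2, 7294, 2410, 7295], [284, 1, 7286, 7302, 7287], [288, 3, 7284, 7304, 7285], [295, 0, 7282, 7306, 7283], [287, 2, 7280, 7308, 7281], [283, 0, 7278, 7310, 7279], [287, 2, 7276, 7312, 7277], [295, 0, 7274, 7314, 7275], [288, 3, 7272, 7316, 7273], [284, 1, 7270, 7318, 7271], [288, 3, 7268, 7320, 7269], [290, 1, 7266, 7322, 7267], [285, 2, 7264, 7324, 7265], [286, 1, 7262, 7326, 7263], [320, 3, 2364, 7296, 7285], [327, 0, 7282,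 7330, 2363], [319, 2, 2360, 7332, 7281], [315, 0, 7278, 7334, 2359], [319, 2, 2356, 7336, 7277], [327, 0, 7274, 7338, 2355], [320, 3, 2352, 7340, 7273], [316, 1, 7270, 7342, 2351], [320, 3, 2348, 7344, 7269], [322, 1, 7266, 7346, 2347], [317, 2, 2344, 7348, 7265], [318, 1, 7262, 7350, 2343], [317, 1, 7349, 2474, 7352], [327, 2, 2340, 7352, 7261], [320, 1, 7258, 7356, 2339], [0, 0], [427, 2, 2330, 2025, 7360], [0, 0], [0, 0], [331, 3, 7367, 1174, 7366], [341, 3, 2499, 94, 7366], [0, 0], [347, 3, 7373, 1174, 7372], [357, 3, 2503, 94, 7372], [424, 3, 2503, 128, 7372], [0, 0], [0, 0], [0, 0], [0, 0], [0, 0], [0, 0], [0, 0], [0, 0], [0, 0], [0, 0], [0, 0], [0, 0], [0, 0], [0, 0], [0, 0], [0, 0], [0, 0], [0, 0], [0, 0], [0, 0], [0, 0], [0, 0], [0, 0], [0, 0], [0, 0], [0, 0], [0, 0], [0, 0], [329, 31, 6917, 2027, 685, 97, 1736, 2790, 7380, 7382, 7384, 7386, 7388, 7390, 7392, 7394, 7396, 7398, 7400, 7402, 7404, 7406, 7408, 7410, 7412, 7414, 7416, 7418, 7420, 7422, 7424, 7426, 7428, 7430, 7432, 7434], [315, 0, 7436, 6921, 189], [331, 0, 7436, 6918, 6930], [363, 0, 7436,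 6923, 7437], [367, 2, 7434, 7442, 7435], [376, 1, 7432, 7444, 7433], [368, 3, 7430, 7446, 7431], [364, 1, 7428, 7448, 7429], [368, 3, 7426, 7450, 7427], [375, 0, 7424, 7452, 7425], [367, 2, 7422, 7454, 7423], [363, 0, 7420, 7456, 7421], [367, 2, 7418, 7458, 7419], [375, 0, 7416, 7460, 7417], [368, 3, 7414, 7462, 7415], [364, 1, 7412, 7464, 7413], [368, 3, 7410, 7466, 7411], [376, 1, 7408, 7468, 7409], [335, 2, 6933, 7440, 7435], [337, 1, 7441, 7248, 7440], [126, 2, 7434, 7474, 7435], [344, 1, 7432, 7472, 6934], [397, 2, 7472, 7175, 7473], [422, 1, 7472, 7242, 2309], [327, 2, 184, 7482, 7433], [319, 0, 7430, 7484, 183], [395, 2, 7484, 1236, 7485], [405, 2, 7484, 1080, 7485], [287, 0, 7430, 7490, 7431], [283, 2, 7428, 7492, 7429], [287, 0, 7426, 7494, 7427], [296, 3, 7424, 7496, 7425], [288, 1, 7422, 7498, 7423], [284, 3, 7420, 7500, 7421], [288, 1, 7418, 7502, 7419], [296, 3, 7416, 7504, 7417], [287, 0, 7414, 7506, 7415], [283, 2, 7412, 7508, 7413], [287, 0, 7410, 7510, 7411], [295, 2, 7408, 7512, 7409], [288, 1, 7406, 7514, 7407], [284, 3, 7404, 7516, 7405], [288,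 1, 7402, 7518, 7403], [295, 2, 7400, 7520, 7401], [287, 0, 7398, 7522, 7399], [283, 2, 7396, 7524, 7397], [287, 0, 7394, 7526, 7395], [295, 2, 7392, 7528, 7393], [288, 1, 7390, 7530, 7391], [284, 3, 7388, 7532, 7389], [288, 1, 7386, 7534, 7387], [296, 3, 7384, 7536, 7385], [271, 0, 7430, 7488, 7431], [267, 2, 7428, 7540, 7429], [271, 0, 7426, 7542, 7427], [280, 3, 7424, 7544, 7425], [272, 1, 7422, 7546, 7423], [268, 3, 7420, 7548, 7421], [272, 1, 7418, 7550, 7419], [280, 3, 7416, 7552, 7417], [271, 0, 7414, 7554, 7415], [267, 2, 7412, 7556, 7413], [271, 0, 7410, 7558, 7411], [279, 2, 7408, 7560, 7409], [272, 1, 7406, 7562, 7407], [268, 3, 7404, 7564, 7405], [272, 1, 7402, 7566, 7403], [279, 2, 7400, 7568, 7401], [271, 0, 7398, 7570, 7399], [267, 2, 7396, 7572, 7397], [271, 0, 7394, 7574, 7395], [279, 2, 7392, 7576, 7393], [272, 1, 7390, 7578, 7391], [268, 3, 7388, 7580, 7389], [272, 1, 7386, 7582, 7387], [280, 3, 7384, 7584, 7385], [271, 0, 7382, 7586, 7383], [315, 2, 180, 7486, 7429], [317, 1, 7487, 5306, 7486], [422, 2, 7234, 2313, 7486], [332, 1, 7428, 7594,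 6938], [333, 1, 7597, 7237, 7596]]
def dJ22 : List (List ℕ) := [[24, 0, 4576, 8701], [26, 0, 4579, 8701], [10, 0, 6544, 8705], [14, 0, 4591, 8705], [24, 0, 4598, 8705], [26, 0, 4601, 8705], [24, 0, 6460, 8717], [26, 0, 6459, 8717], [24, 0, 6466, 8719], [26, 0, 6465, 8719], [26, 0, 8004, 8721], [320, 1, 6357, 8820, 8792], [383, 1, 3782, 8820, 3776], [315, 2, 6912, 8824, 6914], [317, 2, 3682, 8824, 3785], [318, 3, 3685, 8824, 3682], [316, 2, 8828, 6914, 6852], [85, 1, 8832, 3784, 6914], [86, 2, 8832, 3685, 6913], [201, 1, 8832, 3773, 3784, 6914], [299, 2, 8832, 3786, 6914], [315, 2, 8832, 8831, 6913], [320, 1, 4627, 8842, 6606], [327, 0, 6296, 8842, 7915], [328, 1, 6888, 8842, 6873], [323, 1, 6857, 6863, 8848], [383, 3, 7927, 8848, 6313], [324, 2, 8852, 7928, 7925], [70, 1, 7929, 8854], [308, 1, 8854, 6301, 8857], [308, 1, 7929, 8859, 8855], [302, 0, 8860, 6314, 6301], [382, 2, 7926, 8860, 2000], [302, 0, 8858, 8863, 8861], [254, 2, 7926, 8866, 6312], [282, 3, 7923, 7846, 8866, 6910], [317, 2, 8870, 8846, 6317], [320, 1, 215, 8872, 6070], [316, 3, 6073, 8874, 216],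 [322, 2, 7910, 6308, 8874], [413, 2, 7910, 6293, 8874], [299, 0, 217, 8880, 7736], [303, 2, 7739, 8882, 218], [305, 3, 8882, 6327, 6291], [62, 1, 6326, 8886], [125, 1, 219, 8886, 7738], [217, 1, 219, 6320, 8886, 7738], [219, 1, 8892, 219, 6320, 6320, 8886, 8888, 6074], [321, 0, 8889, 7909, 8886], [319, 2, 7739, 8896, 6074], [317, 0, 6330, 8898, 8895], [328, 1, 6077, 8898, 7740], [413, 2, 8898, 8885, 7907], [297, 1, 221, 8891, 8904, 6076], [312, 1, 7741, 8904, 6076], [302, 2, 6287, 6333, 8908], [305, 1, 6287, 8907, 8908], [414, 3, 8902, 8908, 7905], [302, 2, 8909, 8911, 8915], [305, 1, 8909, 8913, 8915], [125, 3, 223, 8918, 7742], [127, 4, 8920, 223, 8918, 8912, 6078], [127, 5, 6079, 8906, 8918, 7742, 8920], [217, 3, 8924, 6079, 8911, 7742], [219, 4, 8926, 8924, 8922, 7743, 8917, 6333, 6078], [202, 3, 7745, 8929, 8925, 224], [204, 5, 6349, 225, 8927, 8929, 8925, 8921, 7744], [126, 0, 7747, 8932, 6082], [128, 1, 227, 8930, 8932, 6082, 8934], [322, 3, 8931, 7900, 8932], [322, 3, 8933, 8939, 6349], [319, 0, 227, 8940, 6082], [321, 2, 8935, 8942, 6347], [328, 3, 6085,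 8942, 228], [318, 0, 8945, 6354, 8943], [218, 3, 226, 6347, 8948, 7747], [220, 6, 6082, 8934, 8936, 6355, 8948, 7747, 8950], [281, 3, 6177, 6085, 8948, 7748], [46, 2, 8954, 6353], [217, 1, 7751, 8954, 6345, 6086], [219, 2, 231, 8956, 8954, 6345, 6345, 6086, 8958], [302, 1, 8954, 6279, 6352], [317, 2, 8954, 8947, 6352], [302, 1, 8956, 8963, 8955], [303, 2, 7751, 8966, 230], [299, 0, 233, 8968, 7752], [301, 0, 8960, 8968, 8959], [414, 0, 8972, 7894, 8968], [316, 3, 7753, 8974, 6088], [320, 1, 6091, 8976, 7754], [413, 2, 8976, 8970, 7892], [414, 0, 6274, 8976, 8980], [318, 0, 8977, 6337, 8983], [321, 3, 8977, 6334, 8983], [322, 0, 8977, 8986, 7893], [113, 0, 8988, 8985, 8986], [126, 2, 235, 8988, 7754], [128, 3, 8992, 235, 8988, 8987, 6090], [306, 3, 6271, 6249, 8994], [321, 2, 8994, 8978, 6271], [306, 3, 8995, 8997, 8992], [327, 0, 237, 8998, 6092], [320, 3, 6095, 9002, 238], [322, 2, 7871, 6257, 9002], [328, 3, 6101, 9002, 244], [414, 1, 9008, 6250, 7875], [304, 3, 7767, 9010, 246], [300, 1, 249, 9012, 7768], [414, 2, 6268, 7889, 9014], [62, 1, 6256, 9006], [321,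 0, 9019, 7871, 9006], [320, 3, 7759, 9020, 6094], [328, 3, 7765, 9020, 6100], [413, 2, 9024, 9010, 7875], [303, 0, 7767, 9026, 6102], [299, 2, 6105, 9028, 7768], [316, 1, 6097, 9022, 7760], [414, 3, 9005, 6243, 9022], [414, 3, 9023, 9035, 7868], [300, 1, 241, 9036, 7760], [302, 0, 9038, 6262, 6241], [413, 2, 9033, 9038, 7864], [302, 0, 9043, 9041, 9039], [217, 3, 7867, 7763, 9044, 6098], [219, 5, 5742, 5742, 243, 9040, 9044, 6098, 9046], [281, 1, 7773, 9048, 1445, 252], [318, 3, 6264, 7863, 9048], [328, 1, 253, 9052, 6108], [413, 2, 7861, 6234, 9054], [424, 3, 6233, 9054, 2306], [328, 1, 2043, 9058, 4954], [422, 1, 2316, 9058, 5721], [317, 1, 7603, 5719, 9062], [319, 2, 5585, 9062, 178], [322, 2, 7603, 5716, 9062], [328, 3, 5582, 9062, 177], [413, 2, 7603, 5722, 9062], [304, 1, 179, 9072, 7426], [311, 0, 176, 9072, 7425], [302, 0, 9076, 5856, 5724], [303, 2, 7422, 9076, 175], [299, 0, 172, 9080, 7421], [301, 3, 5728, 5858, 9080], [413, 1, 9080, 7607, 5728], [316, 3, 5578, 9086, 173], [318, 2, 9088, 5861, 7609], [320, 1, 170, 9088, 5577], [321, 1, 9088, 5862, 7609],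 [61, 2, 9094, 5863], [114, 3, 9094, 9091, 9097], [126, 2, 7418, 9094, 171], [128, 4, 5576, 9096, 9094, 171, 9100], [305, 0, 9094, 9083, 9097], [322, 3, 9094, 7609, 9097], [320, 1, 5576, 9106, 7419], [328, 3, 7416, 9108, 5575], [413, 0, 9108, 5753, 9093], [414, 3, 9108, 9112, 7611], [311, 0, 168, 9114, 7417], [414, 2, 5754, 7615, 9116], [319, 0, 166, 9118, 5573], [315, 2, 5570, 9120, 165], [319, 0, 162, 9122, 5569], [414, 1, 9122, 5758, 7637], [304, 3, 7410, 9126, 163], [297, 1, 160, 5913, 9128, 7409], [312, 1, 160, 9128, 7409], [303, 2, 7406, 9132, 159], [414, 2, 5762, 7641, 9132], [417, 2, 7646, 9132, 2293], [413, 1, 9138, 7207, 5222], [319, 2, 4992, 9140, 2081], [315, 0, 2078, 9142, 4991], [317, 1, 9142, 5959, 7205], [321, 1, 9142, 5957, 7205], [423, 0, 2290, 9142, 5771], [318, 2, 7643, 5953, 9150], [322, 2, 7643, 5951, 9150], [421, 2, 5783, 9150, 1992], [319, 0, 1780, 9156, 4643], [321, 1, 9156, 5993, 6833], [414, 1, 9156, 4850, 6833], [300, 3, 6625, 9162, 1782], [304, 1, 1785, 9164, 6626], [415, 0, 1991, 9164, 7658], [301, 3, 9168, 5964, 5776], [417, 2, 7650,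 9168, 2289], [304, 1, 2076, 9172, 6977], [298, 3, 6974, 9174, 6003, 2075], [301, 3, 9174, 5969, 5216], [311, 2, 6974, 9174, 2075], [414, 2, 5216, 7197, 9174], [328, 1, 2074, 9182, 4987], [423, 0, 2286, 9182, 5775], [318, 2, 7657, 5972, 9186], [327, 2, 5558, 9186, 153], [421, 2, 5785, 9186, 1988], [317, 1, 9192, 5978, 6827], [328, 1, 1787, 9192, 4648], [322, 2, 6825, 5995, 9196]]
def dJ26 : List (List ℕ) := [[315, 0, 5373, 10398, 7270], [413, 0, 10400, 5472, 10315], [303, 2, 5375, 10402, 7272], [312, 1, 7275, 10404, 5376], [217, 3, 10352, 7259, 10345, 2338], [219, 4, 10408, 10352, 10339, 2339, 5507, 10351, 7258], [219, 4, 10410, 5510, 10352, 7259, 10345, 5507, 5360], [282, 2, 5363, 10412, 7260, 7328, 10383], [6, 0, 5485, 10415, 10380], [5, 0, 5365, 10415, 10382], [10, 0, 10419, 10368, 10415, 2347], [9, 0, 10370, 10415, 10391], [15, 0, 5362, 10415], [5, 0, 10380, 10416, 10422, 2342], [26, 0, 7351, 10416, 10422], [15, 0, 7260, 10418, 10421], [7, 0, 10389, 10422], [10, 0, 10376, 10422], [24, 0, 5478, 10422], [25, 0, 10328, 10422], [7, 0, 2349, 10427], [9, 0, 2346,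 10427], [15, 0, 10425, 10427], [18, 0, 4412, 10427, 4417], [7, 0, 4367, 10447], [9, 0, 4364, 10447], [218, 3, 10449, 10450, 4363, 10448], [254, 0, 4410, 10452, 4411], [114, 3, 10393, 10454, 10392], [86, 0, 7271, 10456, 7270], [202, 1, 2351, 10392, 7270, 10458], [204, 3, 5373, 10394, 10392, 7270, 10458, 10458, 10460], [301, 3, 10402, 10458, 10403], [201, 3, 10464, 5373, 10397, 7270], [217, 1, 5375, 10464, 10463, 2352], [219, 1, 10468, 5375, 10464, 10464, 10463, 10461, 7272], [282, 3, 7275, 7316, 10470, 2354], [301, 1, 5468, 10472, 10307], [302, 0, 10307, 10472, 10407], [125, 1, 7273, 10466, 5374], [127, 2, 2353, 10461, 10466, 5374, 10478], [298, 3, 5377, 10405, 10480, 2354], [113, 1, 10475, 10482, 10476], [114, 0, 10473, 10482, 10475], [126, 0, 2357, 10482, 5378], [128, 0, 10488, 2357, 10482, 10485, 7276], [128, 1, 7277, 10487, 10482, 5378, 10488], [202, 0, 10492, 7278, 10276, 5381], [204, 0, 10494, 10492, 10490, 5380, 10287, 10289, 7279], [204, 0, 10496, 10488, 10492, 7278, 10276, 10287, 2359], [318, 2, 10200, 4886, 6708], [413, 0, 10140, 4733, 10200], [304, 3,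 4667, 10502, 6646], [302, 2, 10504, 4880, 4731], [413, 0, 6707, 10504, 10224], [302, 2, 10509, 10507, 10505], [85, 1, 6649, 10510, 1806], [297, 1, 3073, 10012, 5814, 3072], [299, 0, 2070, 9984, 6971], [305, 3, 10516, 6006, 5210], [46, 1, 4909, 8868], [301, 2, 8868, 8865, 10521], [383, 1, 630, 8818, 3812], [422, 1, 698, 8818, 6471], [413, 2, 8039, 6472, 10526], [297, 1, 2493, 701, 10528, 8037], [413, 2, 3820, 3811, 10524], [297, 1, 2487, 637, 10532, 4352], [383, 1, 620, 8814, 3806], [327, 2, 4193, 10536, 2480], [413, 2, 3816, 3805, 10536], [297, 1, 2481, 627, 10540, 4206], [61, 2, 10542, 4188], [319, 0, 939, 8810, 4462], [323, 0, 936, 8810, 4484], [325, 0, 8807, 8810, 8788], [413, 0, 10550, 4491, 10549], [414, 3, 10550, 10552, 6563], [413, 2, 6541, 4472, 10546], [305, 0, 8805, 8808, 8746], [413, 1, 4473, 10547, 10558], [383, 1, 3933, 8802, 4000], [325, 3, 10562, 8733, 8734], [383, 3, 8049, 8764, 6482], [422, 3, 8053, 8764, 6492], [424, 3, 8059, 8764, 6500], [313, 1, 6505, 6502, 10570, 8060], [328, 1, 6505, 10570, 8060], [77, 1, 7377, 10572], [309, 0, 10572, 5536,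 10577], [326, 1, 10577, 10575, 10572], [321, 3, 10580, 5535, 10575], [322, 2, 7378, 5535, 10580], [328, 3, 6504, 10580, 2504], [414, 1, 10586, 6506, 8063], [313, 1, 6497, 6494, 10568, 8054], [328, 1, 6497, 10568, 8054], [77, 1, 7371, 10590], [309, 0, 10590, 5528, 10595], [310, 3, 10590, 10596, 7370], [326, 1, 10595, 10593, 10590], [321, 3, 10600, 5527, 10593], [328, 3, 6496, 10600, 2500], [414, 1, 10604, 6498, 8057], [313, 1, 6485, 6486, 10566, 8050], [328, 1, 6485, 10566, 8050], [314, 1, 2496, 8046, 8042, 10610], [325, 2, 10609, 10610, 10612], [321, 3, 10615, 5521, 10611], [297, 1, 8042, 10616, 5522, 2496], [383, 1, 3312, 8710, 4049], [322, 2, 4055, 4046, 10620], [246, 7, 8283, 2761, 2569, 8444, 8502, 2578, 8474], [78, 1, 8474, 10624], [173, 1, 2634, 10624, 8283], [309, 2, 10624, 8289, 2817], [326, 3, 2817, 2835, 10624], [324, 1, 8282, 10632, 2628], [322, 0, 10634, 2754, 8085], [61, 2, 10636, 8431], [126, 2, 8077, 10636, 2633], [128, 4, 8185, 10638, 10636, 2633, 10640], [305, 2, 10642, 8376, 2755], [322, 1, 10642, 8195, 2755], [233, 0, 8317, 2737, 8457, 8464],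 [326, 3, 8171, 7720, 8464], [174, 1, 8170, 10649, 8465], [225, 4, 7383, 7727, 10652, 4900, 10653], [6, 0, 10168, 10655, 8460], [5, 0, 10193, 10655, 8462], [8, 0, 7382, 10655], [15, 0, 7385, 10655], [28, 0, 7714, 10655, 7716], [30, 0, 7722, 10655, 7724], [8, 0, 5540, 10657], [15, 0, 5543, 10657], [28, 0, 5840, 10657, 5844], [30, 0, 5850, 10657, 5852], [8, 0, 134, 10659], [15, 0, 137, 10659], [18, 0, 3513, 10659, 3515], [28, 0, 1970, 10659, 1868], [30, 0, 2268, 10659, 2152], [3, 0, 6649, 10664], [7, 0, 6646, 10664], [28, 0, 7716, 10664], [3, 0, 6995, 10666], [7, 0, 6992, 10666], [30, 0, 7724, 10666], [28, 0, 5844, 10672], [30, 0, 5852, 10674], [8, 0, 3316, 10681], [15, 0, 3319, 10681], [28, 0, 4125, 10681, 4123], [30, 0, 4273, 10681, 4271], [3, 0, 1807, 10682], [7, 0, 1804, 10682], [28, 0, 1868, 10682], [3, 0, 2095, 10684], [7, 0, 2092, 10684], [30, 0, 2152, 10684], [3, 0, 4117, 10706], [7, 0, 4114, 10706], [28, 0, 4123, 10706], [3, 0, 4263, 10708], [7, 0, 4260, 10708], [30, 0, 4271, 10708], [240, 4, 8116, 8114, 8398, 8072, 8385, 8109, 8459, 10652], [234, 4, 8145,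 8066, 10734, 8116], [237, 4, 8421, 8424, 8384, 8073, 8399, 8115, 10736], [265, 1, 3189, 132, 1286, 10678], [242, 1, 8465, 10660, 8464, 10648], [0, 0], [233, 2, 8132, 8071, 2594, 10744], [291, 2, 10746, 8137, 10747], [308, 1, 10746, 8229, 10739], [323, 2, 10746, 10231, 10739], [317, 3, 2808, 8332, 10752], [318, 0, 10651, 8236, 10752], [0, 0], [235, 3, 8166, 8315, 8326, 8071, 2594, 10744, 10758], [70, 2, 10760, 10649], [133, 2, 10760, 10742, 10648], [134, 1, 10760, 10764, 10763], [174, 2, 10760, 8171, 10734], [234, 3, 10760, 8171, 133, 2594], [275, 2, 10760, 8173, 10761], [291, 2, 10760, 8175, 10761], [308, 1, 10760, 8256, 10648], [323, 2, 10760, 10651, 10648], [324, 1, 10760, 10778, 10763], [371, 2, 10760, 8177, 10761], [308, 1, 10762, 10777, 10761], [301, 3, 10784, 8335, 2745], [0, 0], [0, 0], [239, 5, 8154, 8132, 8071, 2594, 2604, 8420, 10788, 10790], [70, 1, 10790, 10792], [173, 1, 10792, 8153, 10734], [174, 2, 10792, 8164, 10761]]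
def dJ30 : List (List ℕ) := [[327, 2, 11444, 10835, 11992], [0, 0], [211, 3, 11859, 11845, 10875, 10741, 10154, 11986, 12002], [210, 3, 12004, 11863, 11802, 10154], [269, 2, 12004, 11869, 12005], [282, 2, 12004, 11867, 10749, 10756], [285, 2, 12004, 11871, 12005], [365, 2, 12004, 11873, 12005], [312, 1, 11808, 10777, 12010], [327, 2, 11808, 10779, 12010], [0, 0], [0, 0], [213, 4, 11845, 10875, 10741, 10154, 10162, 12020, 12022], [46, 1, 12022, 12024], [86, 1, 12024, 11846, 11989], [209, 1, 12024, 11845, 10875, 10880], [269, 2, 12024, 11853, 12025], [282, 2, 12024, 11851, 8227, 8407], [285, 2, 12024, 11855, 12025], [365, 2, 12024, 11857, 12025], [366, 1, 12022, 12038, 12023], [286, 1, 12022, 12036, 12023], [281, 2, 8405, 8190, 12034, 12023], [312, 1, 10898, 8377, 12034], [327, 2, 10898, 8194, 12034], [318, 1, 12022, 12048, 11989], [395, 2, 12051, 11991, 12050], [414, 1, 12000, 11999, 12050], [312, 1, 12044, 10830, 11445], [327, 2, 12044, 10836, 11445], [0, 0], [0, 0], [215, 5, 11831, 10897, 10741, 10154, 10162, 12020, 12060, 12062], [46, 1, 12062, 12064], [85, 2,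 12064, 11861, 12005], [210, 3, 12064, 11861, 11865, 11812], [214, 5, 12062, 12064, 11861, 11863, 11802, 10154, 10162], [269, 2, 12064, 11839, 12065], [282, 2, 12064, 11837, 2601, 8332], [285, 2, 12064, 11841, 12065], [365, 2, 12064, 11843, 12065], [366, 1, 12062, 12080, 12063], [286, 1, 12062, 12078, 12063], [281, 2, 8236, 8148, 12076, 12063], [312, 1, 11867, 10751, 12076], [327, 2, 11867, 10753, 12076], [318, 1, 12062, 12090, 12005], [395, 2, 12093, 12009, 12092], [414, 1, 12018, 12017, 12092], [312, 1, 12086, 10785, 11809], [327, 2, 12086, 10780, 11809], [0, 0], [225, 2, 11891, 11775, 5838, 12102], [273, 2, 12104, 11895, 12105], [289, 2, 12104, 11897, 12105], [369, 2, 12104, 11899, 12105], [307, 2, 11783, 5830, 12102], [324, 1, 11783, 10158, 12102], [0, 0], [227, 3, 11925, 11913, 11777, 11775, 5838, 12102, 12116], [226, 3, 12118, 11929, 11792, 5838], [273, 2, 12118, 11933, 12119], [289, 2, 12118, 11935, 12119], [369, 2, 12118, 11937, 12119], [308, 3, 11792, 5830, 12120], [323, 0, 11792, 10158, 12120], [0, 0], [0, 0], [229, 4, 11913, 11777, 11775, 5838, 10121,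 12132, 12134], [62, 1, 12134, 12136], [126, 1, 12136, 11914, 12105], [225, 1, 12136, 11913, 11777, 11874], [273, 2, 12136, 11919, 12137], [289, 2, 12136, 11921, 12137], [369, 2, 12136, 11923, 12137], [370, 1, 12134, 12148, 12135], [290, 1, 12134, 12146, 12135], [274, 1, 12134, 12144, 12135], [307, 2, 11891, 11880, 12142], [324, 1, 11891, 11882, 12142], [321, 2, 12134, 12158, 12105], [414, 3, 12114, 12113, 12160], [308, 1, 11783, 10153, 12132], [323, 2, 11783, 7708, 12132], [0, 0], [0, 0], [231, 5, 11901, 11891, 11775, 5838, 10121, 12132, 12168, 12170], [62, 1, 12170, 12172], [125, 2, 12172, 11927, 12119], [226, 3, 12172, 11927, 11931, 5827], [230, 5, 12170, 12172, 11927, 11929, 11792, 5838, 10121], [273, 2, 12172, 11907, 12173], [289, 2, 12172, 11909, 12173], [369, 2, 12172, 11911, 12173], [370, 1, 12170, 12186, 12171], [290, 1, 12170, 12184, 12171], [274, 1, 12170, 12182, 12171], [307, 0, 11792, 10153, 12180], [308, 3, 12121, 10157, 12180], [323, 0, 12121, 10145, 12180], [324, 3, 11792, 7708, 12180], [322, 3, 12171, 12198, 12118], [305, 0, 12171, 12196, 12118],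 [0, 0], [233, 2, 11446, 11443, 11782, 12206], [275, 2, 12208, 10901, 12209], [291, 2, 12208, 10903, 12209], [371, 2, 12208, 10905, 12209], [0, 0], [235, 3, 11860, 11832, 11801, 11443, 11782, 12206, 12216], [234, 3, 12218, 11865, 10879, 11782], [275, 2, 12218, 11869, 12219], [291, 2, 12218, 11871, 12219], [371, 2, 12218, 11873, 12219], [0, 0], [0, 0], [237, 4, 11832, 11801, 11443, 11782, 11790, 12228, 12230], [70, 1, 12230, 12232], [173, 1, 12232, 11831, 12209], [233, 1, 12232, 11832, 11801, 11941], [275, 2, 12232, 11839, 12233], [291, 2, 12232, 11841, 12233], [371, 2, 12232, 11843, 12233], [372, 1, 12230, 12244, 12231], [292, 1, 12230, 12242, 12231], [276, 1, 12230, 12240, 12231], [0, 0], [0, 0], [239, 5, 11846, 11446, 11443, 11782, 11790, 12228, 12252, 12254], [70, 1, 12254, 12256], [174, 2, 12256, 11858, 12219], [234, 3, 12256, 11858, 11863, 11951], [238, 5, 12254, 12256, 11858, 11865, 10879, 11782, 11790], [275, 2, 12256, 11853, 12257], [291, 2, 12256, 11855, 12257], [371, 2, 12256, 11857, 12257], [372, 1, 12254, 12270, 12255], [292, 1, 12254, 12268, 12255],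 [276, 1, 12254, 12266, 12255], [0, 0], [241, 2, 11892, 11783, 11442, 12278], [277, 2, 12280, 11895, 12281], [293, 2, 12280, 11897, 12281], [373, 2, 12280, 11899, 12281], [0, 0], [243, 3, 11926, 11902, 11791, 11783, 11442, 12278, 12288], [242, 3, 12290, 11931, 139, 11442], [277, 2, 12290, 11933, 12291], [293, 2, 12290, 11935, 12291], [373, 2, 12290, 11937, 12291], [0, 0], [0, 0], [245, 4, 11902, 11791, 11783, 11442, 11800, 12300, 12302], [78, 1, 12302, 12304], [174, 1, 12304, 11901, 12281], [241, 1, 12304, 11902, 11791, 11938], [277, 2, 12304, 11907, 12305], [293, 2, 12304, 11909, 12305], [373, 2, 12304, 11911, 12305], [374, 1, 12302, 12316, 12303], [294, 1, 12302, 12314, 12303], [278, 1, 12302, 12312, 12303], [0, 0], [0, 0], [247, 5, 11914, 11892, 11783, 11442, 11800, 12300, 12324, 12326], [78, 1, 12326, 12328], [173, 2, 12328, 11924, 12291], [242, 3, 12328, 11924, 11929, 11960], [246, 5, 12326, 12328, 11924, 11931, 139, 11442, 11800], [277, 2, 12328, 11919, 12329], [293, 2, 12328, 11921, 12329], [373, 2, 12328, 11923, 12329], [374, 1, 12326, 12342, 12327], [294,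 1, 12326, 12340, 12327], [278, 1, 12326, 12338, 12327], [0, 0], [253, 2, 10155, 3511, 12350], [263, 1, 12352, 10663, 11423], [0, 0], [0, 0], [257, 2, 5839, 3511, 12358], [253, 1, 12360, 10163, 12353], [254, 2, 12360, 5837, 3511], [263, 1, 12360, 10671, 11429], [0, 0], [259, 2, 11783, 3511, 12368], [0, 0], [261, 2, 11443, 3511, 12372], [0, 0], [263, 2, 11411, 3511, 12376], [388, 2, 12378, 11417, 4390], [0, 0], [281, 2, 10155, 1126, 11410, 12382], [311, 2, 12384, 10152, 11410], [328, 1, 12384, 7709, 11410], [359, 2, 12384, 7704, 7291], [0, 0], [311, 2, 11411, 5830, 12392], [302, 2, 12394, 12382, 12387], [312, 2, 12394, 11412, 11436]]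
def dJ34 : List (List ℕ) := [[301, 2, 13588, 12865, 12843], [302, 1, 13588, 12796, 13527], [317, 2, 13588, 12798, 13527], [318, 1, 13588, 12867, 12843], [365, 2, 13588, 12795, 13589], [0, 0], [225, 2, 13461, 13409, 10181, 13610], [273, 2, 13612, 13465, 13613], [289, 2, 13612, 13467, 13613], [369, 2, 13612, 13469, 13613], [308, 1, 13415, 10065, 13610], [323, 2, 13415, 7696, 13610], [0, 0], [227, 3, 13495, 13483, 13411, 13409, 10181, 13610, 13624], [226, 3, 13626, 13499, 13432, 10181], [273, 2, 13626, 13503, 13627], [289, 2, 13626, 13505, 13627], [369, 2, 13626, 13507, 13627], [307, 0, 13432, 10065, 13628], [324, 3, 13432, 7696, 13628], [0, 0], [0, 0], [229, 4, 13483, 13411, 13409, 10181, 10183, 13640, 13642], [62, 1, 13642, 13644], [126, 1, 13644, 13484, 13613], [225, 1, 13644, 13483, 13411, 13444], [273, 2, 13644, 13489, 13645], [289, 2, 13644, 13491, 13645], [369, 2, 13644, 13493, 13645], [370, 1, 13642, 13656, 13643], [290, 1, 13642, 13654, 13643], [274, 1, 13642, 13652, 13643], [308, 1, 13461, 13448, 13650], [323, 2, 13461, 13450, 13650], [322, 1, 13642, 13666,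 13613], [414, 1, 13622, 13621, 13668], [307, 2, 13415, 5816, 13640], [324, 1, 13415, 10078, 13640], [0, 0], [0, 0], [231, 5, 13471, 13461, 13409, 10181, 10183, 13640, 13676, 13678], [62, 1, 13678, 13680], [125, 2, 13680, 13497, 13627], [226, 3, 13680, 13497, 13501, 10067], [230, 5, 13678, 13680, 13497, 13499, 13432, 10181, 10183], [273, 2, 13680, 13477, 13681], [289, 2, 13680, 13479, 13681], [369, 2, 13680, 13481, 13681], [370, 1, 13678, 13694, 13679], [290, 1, 13678, 13692, 13679], [274, 1, 13678, 13690, 13679], [307, 0, 13629, 10083, 13688], [308, 3, 13432, 5816, 13688], [323, 0, 13432, 10078, 13688], [324, 3, 13629, 10037, 13688], [321, 0, 13679, 13708, 13626], [306, 3, 13679, 13702, 13626], [0, 0], [237, 3, 12972, 12742, 12717, 12707, 13414, 13430, 13714], [70, 2, 13716, 12972], [173, 1, 13716, 13014, 13009], [238, 5, 13716, 12972, 12747, 12728, 12733, 12674, 12333], [275, 2, 13716, 12977, 13717], [291, 2, 13716, 12979, 13717], [371, 2, 13716, 12981, 13717], [0, 0], [241, 2, 13462, 13415, 12706, 13730], [277, 2, 13732, 13465, 13733], [293, 2, 13732, 13467,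 13733], [373, 2, 13732, 13469, 13733], [0, 0], [243, 3, 13496, 13472, 13431, 13415, 12706, 13730, 13740], [242, 3, 13742, 13501, 143, 12706], [277, 2, 13742, 13503, 13743], [293, 2, 13742, 13505, 13743], [373, 2, 13742, 13507, 13743], [0, 0], [0, 0], [245, 4, 13472, 13431, 13415, 12706, 12716, 13752, 13754], [78, 1, 13754, 13756], [174, 1, 13756, 13471, 13733], [241, 1, 13756, 13472, 13431, 13416], [277, 2, 13756, 13477, 13757], [293, 2, 13756, 13479, 13757], [373, 2, 13756, 13481, 13757], [374, 1, 13754, 13768, 13755], [294, 1, 13754, 13766, 13755], [278, 1, 13754, 13764, 13755], [0, 0], [0, 0], [247, 5, 13484, 13462, 13415, 12706, 12716, 13752, 13776, 13778], [78, 1, 13778, 13780], [173, 2, 13780, 13494, 13743], [242, 3, 13780, 13494, 13499, 13508], [246, 5, 13778, 13780, 13494, 13501, 143, 12706, 12716], [277, 2, 13780, 13489, 13781], [293, 2, 13780, 13491, 13781], [373, 2, 13780, 13493, 13781], [374, 1, 13778, 13794, 13779], [294, 1, 13778, 13792, 13779], [278, 1, 13778, 13790, 13779], [0, 0], [249, 2, 3506, 13077, 13802], [0, 0], [253, 2, 10176, 3507, 13806],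 [251, 1, 13808, 5547, 13059], [0, 0], [257, 2, 10180, 3507, 13812], [251, 1, 13814, 7389, 13389], [254, 2, 13814, 10175, 3507], [0, 0], [259, 2, 13415, 3507, 13820], [0, 0], [261, 2, 12707, 3507, 13824], [0, 0], [263, 2, 13076, 3507, 13828], [0, 0], [265, 2, 12665, 1278, 13077, 13832], [266, 3, 13834, 12669, 12666, 13048], [0, 0], [313, 2, 13545, 7697, 13077, 13838], [265, 1, 13840, 13556, 12823, 13089], [279, 2, 13840, 13576, 13841], [295, 2, 13840, 13578, 13841], [375, 2, 13840, 13572, 13841], [0, 0], [0, 0], [0, 0], [0, 0], [0, 0], [0, 0], [0, 0], [0, 0], [0, 0], [0, 0], [0, 0], [0, 0], [0, 0], [0, 0], [0, 0], [0, 0], [0, 0], [0, 0], [0, 0], [0, 0], [0, 0], [0, 0], [0, 0], [0, 0], [0, 0], [0, 0], [0, 0], [0, 0], [0, 0], [0, 0], [0, 0], [329, 33, 1977, 13077, 13802, 13850, 13852, 13854, 13856, 13858, 13860, 13862, 13864, 13866, 13868, 13870, 13872, 13874, 13876, 13878, 13880, 13882, 13884, 13886, 13888, 13890, 13892, 13894, 13896, 13898, 13900, 13902, 13904, 13906, 13908, 13910], [265, 1, 13912, 1798, 1928, 13153], [344, 1, 13912, 1977, 13077], [0, 0], [339,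 2, 13415, 1976, 13918], [0, 0], [341, 2, 12707, 1976, 13922], [0, 0], [0, 0], [0, 0], [0, 0], [0, 0], [0, 0], [0, 0], [0, 0], [0, 0], [0, 0], [0, 0], [0, 0], [0, 0], [0, 0], [0, 0], [0, 0], [0, 0], [0, 0], [0, 0], [0, 0], [0, 0], [0, 0], [0, 0], [0, 0], [0, 0], [0, 0], [0, 0], [0, 0], [0, 0], [0, 0], [0, 0], [0, 0], [0, 0], [0, 0], [345, 45, 2275, 13408, 13926, 13928, 13930, 13932, 13934, 13936, 13938, 13940, 13942, 13944, 13946, 13948, 13950, 13952, 13954, 13956, 13958, 13960, 13962, 13964, 13966, 13968, 13969, 13967, 13965, 13970, 13972, 13974, 13976, 13977, 13975, 13973, 13971, 13964, 13966, 13968, 13978, 13980, 13982, 13984, 13986, 13988, 13990, 13992], [0, 0], [355, 2, 13415, 2274, 13996]]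
def dJ38 : List (List ℕ) := [[0, 0], [0, 0], [0, 0], [0, 0], [0, 0], [0, 0], [0, 0], [345, 19, 2356, 2358, 2360, 2361, 2359, 2357, 2355, 2353, 2351, 10441, 10440, 2350, 2352, 2354, 2356, 2358, 2360, 2362, 2364, 2366, 2368, 2370, 2089, 2087, 2085, 2083, 2279, 146, 148, 150, 15182, 15184, 15186, 15188, 15190, 15192, 15194, 15196, 15198, 15200, 15202, 15204, 15206, 15208, 15210, 15212], [297, 1, 15214, 10482, 5468, 15215], [125, 3, 15212, 15216, 15213], [249, 1, 3335, 3495, 15182], [360, 1, 2066, 2284, 15182], [352, 3, 15185, 15222, 2065], [387, 0, 14573, 4314, 15224], [251, 2, 15187, 15226, 14444], [255, 0, 14447, 15228, 15188], [250, 2, 15191, 15230, 14448], [387, 3, 15230, 14577, 4318], [360, 1, 2058, 15234, 15190], [351, 2, 15193, 15236, 2057], [347, 0, 2054, 15238, 15194], [351, 2, 15197, 15240, 2053], [344, 3, 3214, 14568, 15232], [336, 1, 15193, 15244, 3213], [332, 3, 3210, 15246, 15194], [336, 1, 15197, 15248, 3209], [0, 0], [347, 2, 14775, 2278, 15252], [360, 2, 15254, 14776, 14715], [0, 0], [355, 2, 14787, 2278, 15258], [0, 0], [357, 2, 14797, 2278, 15262],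 [0, 0], [0, 0], [361, 3, 9744, 9747, 9722, 306, 308, 310, 3608, 3582, 3584, 3586, 3223, 4265, 10729, 10730, 4279, 2369, 2367, 2365, 2363, 2361, 2359, 2357, 15215, 15213, 15211, 15209, 15207, 15205, 15203, 15201, 15199, 15197, 15195, 15193, 15191, 15189, 15187, 15185, 15183, 151, 149, 147, 572, 146, 15266, 15268], [250, 1, 15270, 305, 3750], [0, 0], [427, 2, 2279, 1980, 15274], [344, 2, 15276, 2082, 14761], [0, 0], [250, 3, 14765, 144, 15280], [250, 0, 3073, 144, 15280], [257, 3, 15284, 10514, 15285], [0, 0], [249, 0, 15283, 15281, 15288], [0, 0], [344, 0, 14767, 144, 15292], [0, 0], [360, 0, 14771, 144, 15296], [0, 0], [37, 1, 149, 15300], [0, 0], [173, 2, 15082, 14895, 15304], [241, 1, 15088, 14900, 14887, 15304], [242, 3, 14923, 14792, 146, 15304], [0, 0], [173, 2, 15080, 15307, 15312], [242, 3, 14917, 14925, 15311, 15312], [0, 0], [93, 2, 15305, 15300, 15318], [0, 0], [97, 3, 15320, 15305, 15300, 15302, 15322], [0, 0], [0, 0], [227, 3, 14791, 14787, 14785, 14783, 6019, 15022, 15328], [126, 1, 15330, 14908, 15007], [226, 3, 15330, 14893, 14895, 6019], [0, 0],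 [0, 0], [229, 4, 14787, 14785, 14783, 6019, 9959, 15336, 15338], [125, 2, 15340, 14889, 14999], [126, 1, 15340, 14902, 15019], [225, 1, 15340, 14787, 14785, 14874], [306, 1, 15340, 15031, 15021], [0, 0], [231, 4, 15006, 14905, 14899, 14783, 6019, 9959, 15336, 15350], [62, 2, 15352, 15006], [226, 3, 15352, 15332, 15335, 9959], [0, 0], [0, 0], [0, 0], [239, 5, 15324, 15320, 15305, 14886, 14890, 15358, 15360, 15362], [70, 1, 15362, 15364], [0, 0], [249, 2, 3499, 15266, 15368], [0, 0], [255, 2, 14783, 3498, 15372], [0, 0], [257, 2, 6018, 3498, 15376], [0, 0], [261, 2, 15305, 3498, 15380], [0, 0], [297, 2, 9958, 5802, 15266, 15384], [311, 2, 15386, 9970, 15266], [328, 1, 15386, 7682, 15266], [0, 0], [311, 2, 15267, 5803, 15392], [306, 2, 15394, 15384, 15389], [414, 2, 15394, 15390, 15389], [298, 3, 15369, 15395, 15397, 15368], [0, 0], [0, 0], [313, 3, 7682, 15266, 15402, 15404], [309, 2, 15406, 9970, 15304], [0, 0], [0, 0], [0, 0], [0, 0], [0, 0], [0, 0], [0, 0], [0, 0], [0, 0], [0, 0], [0, 0], [0, 0], [0, 0], [0, 0], [0, 0], [0, 0], [0, 0], [0, 0], [0, 0], [0, 0],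 [0, 0], [0, 0], [0, 0], [0, 0], [0, 0], [0, 0], [0, 0], [0, 0], [0, 0], [0, 0], [0, 0], [329, 33, 1982, 15266, 15368, 15410, 15412, 15414, 15416, 15418, 15420, 15422, 15424, 15426, 15428, 15430, 15432, 15434, 15436, 15438, 15440, 15442, 15444, 15446, 15448, 15450, 15452, 15454, 15456, 15458, 15460, 15462, 15464, 15466, 15468, 15470], [279, 2, 15472, 1937, 15473], [295, 2, 15472, 1889, 15473], [288, 1, 15470, 15476, 15471], [284, 3, 15468, 15478, 15469], [288, 1, 15466, 15480, 15467], [295, 2, 15464, 15482, 15465], [287, 0, 15462, 15484, 15463], [283, 2, 15460, 15486, 15461], [287, 0, 15458, 15488, 15459], [296, 3, 15456, 15490, 15457], [288, 1, 15454, 15492, 15455], [284, 3, 15452, 15494, 15453], [288, 1, 15450, 15496, 15451], [296, 3, 15448, 15498, 15449], [272, 1, 15470, 15474, 15471], [268, 3, 15468, 15502, 15469], [272, 1, 15466, 15504, 15467], [0, 0], [331, 2, 15301, 1983, 15508], [332, 2, 15510, 15302, 1984], [0, 0], [339, 2, 14887, 1983, 15514], [0, 0], [0, 0], [0, 0], [0, 0], [0, 0], [0, 0], [0, 0], [0, 0], [0, 0], [0, 0], [0, 0], [0, 0], [0, 0], [0, 0],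 [0, 0], [0, 0], [0, 0], [0, 0], [0, 0], [0, 0], [0, 0], [0, 0], [0, 0], [0, 0], [0, 0], [0, 0], [0, 0], [0, 0], [0, 0], [0, 0], [0, 0], [0, 0], [0, 0], [0, 0], [345, 45, 2280, 14782, 15518, 15520, 15522, 15524, 15526, 15528, 15530, 15532, 15534, 15536, 15538, 15540, 15542, 15544, 15546, 15548, 15550, 15552, 15554, 15556, 15558, 15560, 15561, 15559, 15557, 15562, 15564, 15566, 15568, 15569, 15567, 15565, 15563, 15556, 15558, 15560, 15570, 15572, 15574, 15576, 15578, 15580, 15582, 15584], [279, 2, 15586, 2229, 15587], [295, 2, 15586, 2173, 15587], [360, 1, 15586, 2280, 15266], [288, 1, 15584, 15590, 15585], [284, 3, 15582, 15594, 15583], [288, 1, 15580, 15596, 15581]]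
def dJ42 : List (List ℕ) := [[268, 1, 16594, 16798, 16595], [272, 3, 16592, 16800, 16593], [279, 0, 16590, 16802, 16591], [271, 2, 16588, 16804, 16589], [267, 0, 16586, 16806, 16587], [271, 2, 16584, 16808, 16585], [279, 0, 16582, 16810, 16583], [85, 3, 16642, 16648, 16643], [0, 0], [347, 2, 16073, 2285, 16816], [0, 0], [351, 2, 15795, 2285, 16820], [352, 2, 16822, 15796, 2282], [431, 1, 16822, 15798, 16823], [0, 0], [355, 2, 15823, 2285, 16828], [0, 0], [357, 2, 16083, 2285, 16832], [0, 0], [0, 0], [0, 0], [0, 0], [0, 0], [0, 0], [0, 0], [0, 0], [0, 0], [0, 0], [0, 0], [0, 0], [0, 0], [0, 0], [0, 0], [0, 0], [0, 0], [361, 18, 16637, 16635, 16633, 16631, 16621, 16619, 16617, 16615, 16613, 16611, 16609, 16607, 16605, 16603, 16601, 16599, 16597, 16595, 16593, 16591, 16589, 16587, 16585, 16583, 16581, 16579, 15795, 567, 15794, 16836, 16838, 16840, 16842, 16844, 16846, 16848, 16850, 16852, 16854, 16856, 16858, 16860, 16862, 16864, 16866, 16868], [279, 2, 16870, 16764, 16871], [295, 2, 16870, 16710, 16871], [375, 2, 16870, 16660, 16871], [367, 0, 16868, 16876, 16869],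 [363, 2, 16866, 16878, 16867], [367, 0, 16864, 16880, 16865], [376, 3, 16862, 16882, 16863], [287, 0, 16868, 16874, 16869], [283, 2, 16866, 16886, 16867], [287, 0, 16864, 16888, 16865], [296, 3, 16862, 16890, 16863], [288, 1, 16860, 16892, 16861], [284, 3, 16858, 16894, 16859], [288, 1, 16856, 16896, 16857], [296, 3, 16854, 16898, 16855], [287, 0, 16852, 16900, 16853], [283, 2, 16850, 16902, 16851], [287, 0, 16848, 16904, 16849], [289, 2, 16846, 16906, 16847], [286, 1, 16844, 16908, 16845], [271, 0, 16868, 16872, 16869], [267, 2, 16866, 16912, 16867], [271, 0, 16864, 16914, 16865], [280, 3, 16862, 16916, 16863], [272, 1, 16860, 16918, 16861], [268, 3, 16858, 16920, 16859], [46, 1, 16842, 16844], [0, 0], [383, 2, 7670, 3494, 16926], [255, 1, 16928, 7399, 16045], [0, 0], [427, 2, 2284, 1987, 16932], [335, 1, 16934, 2068, 16049], [0, 0], [255, 3, 16067, 150, 16938], [0, 0], [335, 3, 16069, 150, 16942], [0, 0], [0, 0], [266, 2, 16073, 152, 1267, 16948], [267, 2, 16949, 1267, 16948], [0, 0], [37, 1, 16948, 16954], [266, 2, 16075, 16951, 16953, 16954], [0, 0], [53, 1,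 155, 16960], [125, 1, 16961, 5981, 16960], [256, 1, 16429, 3492, 16960], [0, 0], [275, 2, 16969, 1267, 16968], [291, 2, 16969, 1111, 16968], [371, 2, 16969, 565, 16968], [0, 0], [69, 1, 16968, 16976], [275, 2, 16977, 16971, 16976], [291, 2, 16977, 16973, 16976], [371, 2, 16977, 16975, 16976], [0, 0], [277, 2, 16987, 1267, 16986], [293, 2, 16987, 1111, 16986], [314, 2, 16219, 5558, 9186, 16986], [373, 2, 16987, 565, 16986], [0, 0], [77, 1, 16986, 16996], [277, 2, 16997, 16989, 16996], [293, 2, 16997, 16991, 16996], [373, 2, 16997, 16995, 16996], [0, 0], [85, 2, 5973, 16948, 17006], [265, 2, 17008, 5693, 5559, 16111], [267, 2, 17008, 5692, 17009], [300, 1, 17008, 5779, 16948], [315, 2, 17008, 9186, 16948], [0, 0], [87, 3, 9789, 5973, 16948, 17006, 17018], [265, 2, 17020, 7569, 7401, 16119], [300, 1, 17020, 9786, 17009], [0, 0], [89, 3, 17008, 5973, 16948, 16954, 17026], [38, 2, 17028, 17008], [265, 2, 17028, 17012, 17011, 16139], [300, 1, 17028, 17015, 16954], [0, 0], [91, 4, 17020, 9789, 5973, 16948, 16954, 17026, 17036], [300, 1, 17038, 17025, 17029], [0, 0], [93,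 2, 16987, 16948, 17042], [265, 2, 17044, 16988, 16992, 16240], [267, 2, 17044, 16989, 17045], [283, 2, 17044, 16991, 17045], [363, 2, 17044, 16995, 17045], [0, 0], [95, 3, 16997, 16987, 16948, 17042, 17054], [94, 2, 17056, 16998, 16948], [267, 2, 17056, 17001, 17057], [283, 2, 17056, 17003, 17057], [363, 2, 17056, 17005, 17057], [0, 0], [97, 3, 17044, 16987, 16948, 16954, 17066], [267, 2, 17068, 17049, 17069], [283, 2, 17068, 17051, 17069], [363, 2, 17068, 17053, 17069], [0, 0], [99, 4, 17056, 16997, 16987, 16948, 16954, 17066, 17076], [38, 2, 17078, 17056], [94, 2, 17078, 17059, 16954], [267, 2, 17078, 17061, 17079], [283, 2, 17078, 17063, 17079], [363, 2, 17078, 17065, 17079], [0, 0], [133, 2, 16969, 16960, 17090], [271, 2, 17092, 16971, 17093], [287, 2, 17092, 16973, 17093], [367, 2, 17092, 16975, 17093], [226, 2, 16969, 5981, 16960, 17090], [0, 0], [135, 3, 16977, 16969, 16960, 17090, 17102], [134, 2, 17104, 16978, 16960], [225, 0, 17107, 16965, 17106, 17104], [271, 2, 17104, 16981, 17105], [287, 2, 17104, 16983, 17105], [367, 2, 17104, 16985, 17105], [0, 0],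 [137, 3, 17092, 16969, 16960, 16962, 17116], [54, 2, 17118, 17092], [126, 2, 17118, 17100, 17093], [128, 1, 17121, 17101, 17122, 17118, 17100], [271, 2, 17118, 17095, 17119], [287, 2, 17118, 17097, 17119], [367, 2, 17118, 17099, 17119], [0, 0], [139, 4, 17104, 16977, 16969, 16960, 16962, 17116, 17132], [54, 2, 17134, 17104], [125, 1, 17134, 17109, 17105], [126, 2, 17134, 17138, 17137], [134, 2, 17134, 17107, 16962], [271, 2, 17134, 17111, 17135], [287, 2, 17134, 17113, 17135], [367, 2, 17134, 17115, 17135], [0, 0], [173, 2, 16987, 16968, 17150], [275, 2, 17152, 16989, 17153], [291, 2, 17152, 16991, 17153], [371, 2, 17152, 16995, 17153], [0, 0], [175, 3, 16997, 16987, 16968, 17150, 17160], [174, 2, 17162, 16998, 16968], [275, 2, 17162, 17001, 17163], [291, 2, 17162, 17003, 17163], [371, 2, 17162, 17005, 17163], [0, 0], [177, 3, 17152, 16987, 16968, 16976, 17172], [70, 2, 17174, 17152], [275, 2, 17174, 17155, 17175], [291, 2, 17174, 17157, 17175], [371, 2, 17174, 17159, 17175], [0, 0], [179, 4, 17162, 16997, 16987, 16968, 16976, 17172, 17184], [70, 2, 17186, 17162],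 [174, 2, 17186, 17165, 16976], [275, 2, 17186, 17167, 17187], [291, 2, 17186, 17169, 17187], [371, 2, 17186, 17171, 17187], [0, 0]]
def dJ46 : List (List ℕ) := [[233, 1, 18396, 17969, 17420, 17929], [0, 0], [211, 3, 17887, 17879, 17877, 17875, 5953, 17948, 18402], [86, 1, 18404, 17922, 17939], [210, 3, 18404, 17909, 17911, 5953], [302, 1, 18404, 17963, 17959], [317, 2, 18404, 17967, 17959], [0, 0], [0, 0], [215, 4, 17938, 17919, 17913, 17875, 5953, 9814, 18414, 18416], [210, 3, 18418, 18406, 18409, 9814], [301, 2, 18418, 17965, 17959], [0, 0], [225, 2, 18361, 18321, 5951, 18424], [273, 2, 18426, 18365, 18427], [289, 2, 18426, 18367, 18427], [369, 2, 18426, 18369, 18427], [307, 2, 18325, 5764, 18424], [0, 0], [227, 3, 18387, 18381, 18323, 18321, 5951, 18424, 18436], [226, 3, 18438, 18391, 18338, 5951], [0, 0], [0, 0], [229, 4, 18381, 18323, 18321, 5951, 9813, 18442, 18444], [62, 1, 18444, 18446], [126, 1, 18446, 18382, 18427], [308, 1, 18325, 9134, 18442], [323, 2, 18325, 7642, 18442], [0, 0], [0, 0], [231, 5, 18371, 18361, 18321, 5951, 9813, 18442, 18456, 18458],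 [62, 1, 18458, 18460], [226, 3, 18460, 18389, 18393, 5948], [230, 5, 18458, 18460, 18389, 18391, 18338, 5951, 9813], [273, 2, 18460, 18377, 18461], [289, 2, 18460, 18379, 18461], [308, 3, 18441, 9818, 18466], [324, 3, 18338, 7642, 18466], [305, 0, 18459, 18472, 18438], [0, 0], [237, 3, 17974, 17920, 17907, 17903, 18324, 18336, 18478], [173, 1, 18480, 17994, 17989], [238, 5, 18480, 17974, 17925, 17912, 17917, 17880, 17423], [0, 0], [241, 2, 18362, 18325, 17902, 18486], [0, 0], [243, 3, 18388, 18372, 18337, 18325, 17902, 18486, 18490], [0, 0], [0, 0], [245, 4, 18372, 18337, 18325, 17902, 17906, 18494, 18496], [174, 1, 18498, 18371, 18489], [241, 1, 18498, 18372, 18337, 18326], [0, 0], [0, 0], [247, 5, 18382, 18362, 18325, 17902, 17906, 18494, 18504, 18506], [78, 1, 18506, 18508], [173, 2, 18508, 18386, 18493], [242, 3, 18508, 18386, 18391, 18394], [246, 5, 18506, 18508, 18386, 18393, 159, 17902, 17906], [0, 0], [249, 2, 3488, 18035, 18518], [266, 1, 18520, 3339, 18019, 18020], [0, 0], [253, 2, 5952, 3489, 18524], [251, 1, 18526, 5563, 18025], [0, 0], [281, 2, 5952,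 1106, 18035, 18530], [265, 1, 18532, 5563, 5690, 18039], [0, 0], [297, 2, 9812, 5765, 18035, 18536], [265, 1, 18538, 7405, 7566, 18056], [0, 0], [0, 0], [383, 2, 7643, 3489, 18544], [251, 1, 18546, 7405, 18301], [0, 0], [427, 2, 2291, 1992, 18550], [331, 1, 18552, 2079, 18307], [0, 0], [0, 0], [331, 3, 18313, 156, 18558], [0, 0], [347, 3, 18317, 156, 18562], [0, 0], [85, 1, 18567, 5945, 18566], [0, 0], [37, 1, 18566, 18570], [0, 0], [173, 2, 18492, 18393, 18574], [174, 1, 18508, 18381, 18574], [241, 1, 18327, 18384, 18381, 18574], [242, 3, 18498, 18375, 18322, 18574], [277, 2, 18575, 1260, 18574], [293, 2, 18575, 1104, 18574], [373, 2, 18575, 558, 18574], [0, 0], [77, 1, 18574, 18590], [174, 1, 18506, 18579, 18590], [241, 1, 18398, 18514, 18579, 18590], [277, 2, 18591, 18585, 18590], [293, 2, 18591, 18587, 18590], [373, 2, 18591, 18589, 18590], [0, 0], [93, 2, 18575, 18566, 18604], [267, 2, 18606, 18585, 18607], [283, 2, 18606, 18587, 18607], [363, 2, 18606, 18589, 18607], [210, 2, 18575, 5945, 18566, 18604], [0, 0], [95, 3, 18591, 18575, 18566, 18604, 18616],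 [94, 2, 18618, 18592, 18566], [209, 0, 18621, 18569, 18620, 18618], [267, 2, 18618, 18599, 18619], [283, 2, 18618, 18601, 18619], [363, 2, 18618, 18603, 18619], [0, 0], [97, 3, 18606, 18575, 18566, 18570, 18630], [38, 2, 18632, 18606], [86, 2, 18632, 18614, 18607], [88, 1, 18635, 18615, 18636, 18632, 18614], [267, 2, 18632, 18609, 18633], [283, 2, 18632, 18611, 18633], [363, 2, 18632, 18613, 18633], [0, 0], [99, 4, 18618, 18591, 18575, 18566, 18570, 18630, 18646], [38, 2, 18648, 18618], [85, 1, 18648, 18623, 18619], [86, 2, 18648, 18652, 18651], [94, 2, 18648, 18621, 18570], [267, 2, 18648, 18625, 18649], [283, 2, 18648, 18627, 18649], [363, 2, 18648, 18629, 18649], [0, 0], [179, 4, 18595, 18591, 18575, 18380, 18386, 18493, 18664], [70, 2, 18666, 18595], [133, 2, 18666, 18517, 17981], [174, 2, 18666, 18511, 18386], [0, 0], [0, 0], [203, 3, 9817, 5949, 5945, 5945, 18566, 18674, 18676], [85, 1, 18678, 7635, 18679], [202, 3, 18678, 7634, 9130, 18566], [0, 0], [0, 0], [207, 4, 18678, 9817, 5949, 5945, 18566, 18570, 18684, 18686], [38, 2, 18688, 18678], [202, 3, 18688,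 18680, 18683, 18570], [0, 0], [225, 2, 18325, 158, 5948, 18694], [226, 3, 18696, 18363, 18370, 18461], [306, 1, 18696, 18453, 18449], [321, 2, 18696, 18455, 18449], [0, 0], [229, 3, 18426, 18361, 18321, 158, 5948, 9816, 18704], [62, 2, 18706, 18426], [125, 2, 18706, 18450, 18445], [273, 2, 18706, 18429, 18707], [289, 2, 18706, 18431, 18707], [306, 1, 18706, 18434, 18697], [369, 2, 18706, 18433, 18707], [0, 0], [0, 0], [231, 5, 18337, 18325, 158, 5948, 9816, 18704, 18720, 18722], [62, 1, 18722, 18724], [125, 2, 18724, 18373, 18461], [127, 0, 18463, 18461, 18728, 18724, 18726], [226, 3, 18724, 18373, 18375, 18348], [230, 5, 18722, 18724, 18373, 18389, 18393, 5948, 9816], [321, 2, 18724, 18475, 18463], [369, 2, 18724, 18347, 18725], [370, 1, 18722, 18738, 18723], [322, 1, 18460, 18736, 18723], [395, 0, 18742, 18468, 18743], [405, 0, 18742, 18470, 18743], [307, 0, 18393, 9133, 18734], [0, 0], [233, 2, 18606, 18575, 18380, 18750], [275, 2, 18752, 18609, 18753], [291, 2, 18752, 18611, 18753], [371, 2, 18752, 18613, 18753], [0, 0], [235, 3, 18648, 18618, 18591, 18575,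 18380, 18750, 18760], [275, 2, 18762, 18659, 18763], [291, 2, 18762, 18661, 18763], [371, 2, 18762, 18663, 18763], [0, 0], [0, 0], [237, 4, 18618, 18591, 18575, 18380, 18386, 18770, 18772], [70, 1, 18772, 18774], [173, 1, 18774, 18617, 18753], [233, 1, 18774, 18618, 18591, 18578], [275, 2, 18774, 18625, 18775], [291, 2, 18774, 18627, 18775], [371, 2, 18774, 18629, 18775], [372, 1, 18772, 18786, 18773], [292, 1, 18772, 18784, 18773], [276, 1, 18772, 18782, 18773], [0, 0], [0, 0], [239, 5, 18632, 18606, 18575, 18380, 18386, 18770, 18794, 18796]]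
def dJ50 : List (List ℕ) := [[174, 2, 19994, 19962, 19250], [0, 0], [233, 2, 19970, 19951, 19250, 20002], [0, 0], [235, 3, 19986, 19974, 19961, 19951, 19250, 20002, 20006], [234, 3, 20008, 19991, 165, 19250], [0, 0], [0, 0], [237, 4, 19974, 19961, 19951, 19250, 19262, 20012, 20014], [70, 1, 20014, 20016], [173, 1, 20016, 19973, 20005], [233, 1, 20016, 19974, 19961, 19954], [0, 0], [0, 0], [239, 5, 19980, 19970, 19951, 19250, 19262, 20012, 20024, 20026], [70, 1, 20026, 20028], [174, 2, 20028, 19984, 20009], [234, 3, 20028, 19984, 19989, 19995], [238, 5, 20026, 20028, 19984, 19991, 165, 19250, 19262], [0, 0], [245, 3, 19436, 19294, 19263, 19251, 19950, 19960, 20038], [78, 2, 20040, 19436], [246, 5, 20040, 19436, 19303, 19276, 19281, 19310, 19320], [0, 0], [249, 2, 3483, 19830, 20046], [0, 0], [259, 2, 19251, 3482, 20050], [0, 0], [265, 2, 19947, 1257, 19830, 20054], [0, 0], [297, 2, 5917, 5758, 19830, 20058], [312, 1, 20060, 5758, 19830], [327, 2, 20060, 9123, 19830], [0, 0], [299, 2, 19947, 5759, 20066], [300, 2, 20068, 19948, 5756], [315, 0, 19948, 9121, 20070],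 [0, 0], [303, 2, 19149, 5759, 20074], [304, 2, 20076, 19150, 5760], [319, 0, 19150, 9125, 20078], [0, 0], [307, 2, 19251, 5759, 20082], [303, 1, 20084, 19252, 19495], [306, 2, 20084, 19260, 19495], [321, 0, 19260, 19497, 20088], [0, 0], [309, 2, 19951, 5759, 20092], [326, 1, 19951, 9122, 20092], [0, 0], [0, 0], [313, 3, 7636, 19830, 20098, 20100], [293, 2, 20102, 7511, 20103], [0, 0], [315, 2, 19947, 7637, 20106], [316, 2, 20108, 19948, 7618], [413, 2, 20108, 20069, 20072], [300, 3, 20071, 9848, 20110], [0, 0], [319, 2, 19149, 7637, 20116], [320, 2, 20118, 19150, 7638], [413, 2, 20118, 20077, 20080], [0, 0], [323, 2, 19251, 7637, 20124], [322, 2, 20126, 19260, 19517], [413, 2, 20126, 20085, 20090], [306, 3, 20089, 19521, 20128], [321, 0, 20089, 19523, 20128], [0, 0], [327, 2, 19831, 7637, 20136], [322, 2, 20138, 20058, 20065], [62, 1, 20059, 20140], [0, 0], [0, 0], [0, 0], [0, 0], [0, 0], [0, 0], [0, 0], [0, 0], [0, 0], [0, 0], [0, 0], [0, 0], [0, 0], [0, 0], [0, 0], [0, 0], [0, 0], [0, 0], [0, 0], [0, 0], [0, 0], [0, 0], [0, 0], [0, 0], [0, 0], [0, 0], [0, 0],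 [0, 0], [0, 0], [0, 0], [0, 0], [329, 33, 19694, 19830, 20046, 20144, 20146, 20148, 20150, 20152, 20154, 20156, 20158, 20160, 20162, 20164, 20166, 20168, 20170, 20172, 20174, 20176, 20178, 20180, 20182, 20184, 20186, 20188, 20190, 20192, 20194, 20196, 20198, 20200, 20202, 20204], [344, 1, 20206, 19694, 19830], [375, 2, 20206, 19698, 20207], [368, 1, 20204, 20210, 20205], [364, 3, 20202, 20212, 20203], [368, 1, 20200, 20214, 20201], [375, 2, 20198, 20216, 20199], [367, 0, 20196, 20218, 20197], [363, 2, 20194, 20220, 20195], [367, 0, 20192, 20222, 20193], [376, 3, 20190, 20224, 20191], [368, 1, 20188, 20226, 20189], [364, 3, 20186, 20228, 20187], [368, 1, 20184, 20230, 20185], [376, 3, 20182, 20232, 20183], [367, 0, 20180, 20234, 20181], [363, 2, 20178, 20236, 20179], [367, 0, 20176, 20238, 20177], [0, 0], [339, 2, 19251, 19695, 20242], [0, 0], [0, 0], [0, 0], [0, 0], [0, 0], [0, 0], [0, 0], [0, 0], [0, 0], [0, 0], [0, 0], [0, 0], [0, 0], [0, 0], [0, 0], [0, 0], [0, 0], [0, 0], [0, 0], [0, 0], [0, 0], [0, 0], [0, 0], [0, 0], [0, 0], [0, 0], [0, 0], [0, 0], [0, 0],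 [0, 0], [0, 0], [0, 0], [0, 0], [0, 0], [345, 45, 19814, 19148, 20246, 20248, 20250, 20252, 20254, 20256, 20258, 20260, 20262, 20264, 20266, 20268, 20270, 20272, 20274, 20276, 20278, 20280, 20282, 20284, 20286, 20288, 20289, 20287, 20285, 20290, 20292, 20294, 20296, 20297, 20295, 20293, 20291, 20284, 20286, 20288, 20298, 20300, 20302, 20304, 20306, 20308, 20310, 20312], [295, 2, 20314, 19819, 20315], [360, 1, 20314, 19814, 19830], [375, 2, 20314, 19820, 20315], [368, 1, 20312, 20320, 20313], [364, 3, 20310, 20322, 20311], [368, 1, 20308, 20324, 20309], [375, 2, 20306, 20326, 20307], [288, 1, 20312, 20316, 20313], [284, 3, 20310, 20330, 20311], [288, 1, 20308, 20332, 20309], [295, 2, 20306, 20334, 20307], [0, 0], [355, 2, 19251, 19815, 20338], [0, 0], [0, 0], [0, 0], [0, 0], [0, 0], [0, 0], [0, 0], [0, 0], [0, 0], [0, 0], [0, 0], [0, 0], [0, 0], [0, 0], [0, 0], [0, 0], [0, 0], [361, 18, 20305, 20303, 20301, 20299, 20289, 20287, 20285, 20283, 20281, 20279, 20277, 20275, 20273, 20271, 20269, 20267, 20265, 20263, 20261, 20259, 20257, 20255, 20253, 20251, 20249, 20247,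 19149, 555, 19148, 20342, 20344, 20346, 20348, 20350, 20352, 20354, 20356, 20358, 20360, 20362, 20364, 20366, 20368, 20370, 20372, 20374], [295, 2, 20376, 20337, 20377], [375, 2, 20376, 20329, 20377], [367, 0, 20374, 20380, 20375], [363, 2, 20372, 20382, 20373], [367, 0, 20370, 20384, 20371], [376, 3, 20368, 20386, 20369], [368, 1, 20366, 20388, 20367], [364, 3, 20364, 20390, 20365], [368, 1, 20362, 20392, 20363], [376, 3, 20360, 20394, 20361], [367, 0, 20358, 20396, 20359]]
def dJ54 : List (List ℕ) := [[0, 0], [0, 0], [0, 0], [0, 0], [0, 0], [0, 0], [0, 0], [0, 0], [0, 0], [0, 0], [0, 0], [0, 0], [0, 0], [0, 0], [0, 0], [0, 0], [0, 0], [0, 0], [0, 0], [0, 0], [0, 0], [0, 0], [0, 0], [0, 0], [0, 0], [0, 0], [329, 33, 21039, 20942, 20944, 20946, 21592, 21594, 21596, 21598, 21600, 21602, 21604, 21606, 21608, 21610, 21612, 21614, 21616, 21618, 21620, 21622, 21624, 21626, 21628, 21630, 21632, 21634, 21636, 21638, 21640, 21642, 21644, 21646, 21648, 21650], [250, 1, 21652, 21034, 21259], [0, 0], [337, 2, 5879, 21038, 21656], [343, 1, 21658, 5575, 21268], [0, 0], [339,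 2, 21319, 21038, 21662], [0, 0], [0, 0], [0, 0], [0, 0], [0, 0], [0, 0], [0, 0], [0, 0], [0, 0], [0, 0], [0, 0], [0, 0], [0, 0], [0, 0], [0, 0], [0, 0], [0, 0], [0, 0], [0, 0], [0, 0], [0, 0], [0, 0], [0, 0], [0, 0], [0, 0], [0, 0], [0, 0], [0, 0], [0, 0], [0, 0], [0, 0], [0, 0], [0, 0], [0, 0], [345, 45, 21165, 21310, 21666, 21668, 21670, 21672, 21674, 21676, 21678, 21680, 21682, 21684, 21686, 21688, 21690, 21692, 21694, 21696, 21698, 21700, 21702, 21704, 21706, 21708, 21709, 21707, 21705, 21710, 21712, 21714, 21716, 21717, 21715, 21713, 21711, 21704, 21706, 21708, 21718, 21720, 21722, 21724, 21726, 21728, 21730, 21732], [250, 1, 21734, 21158, 21265], [344, 1, 21734, 21163, 237], [360, 1, 21734, 21165, 20942], [0, 0], [353, 2, 5879, 21164, 21742], [423, 2, 21744, 9092, 21164], [421, 3, 9002, 21162, 21746], [0, 0], [355, 2, 21319, 21164, 21750], [0, 0], [0, 0], [0, 0], [0, 0], [0, 0], [0, 0], [0, 0], [0, 0], [0, 0], [0, 0], [0, 0], [0, 0], [0, 0], [0, 0], [0, 0], [0, 0], [0, 0], [361, 18, 21725, 21723, 21721, 21719, 21709, 21707, 21705, 21703, 21701, 21699, 21697,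 21695, 21693, 21691, 21689, 21687, 21685, 21683, 21681, 21679, 21677, 21675, 21673, 21671, 21669, 21667, 21311, 548, 21310, 21754, 21756, 21758, 21760, 21762, 21764, 21766, 21768, 21770, 21772, 21774, 21776, 21778, 21780, 21782, 21784, 21786], [46, 1, 21760, 21762], [0, 0], [383, 2, 7611, 3477, 21792], [249, 2, 21794, 21559, 21561], [0, 0], [385, 2, 21039, 3477, 21798], [249, 2, 21800, 21653, 21655], [0, 0], [421, 2, 21039, 7610, 21804], [327, 1, 21806, 21034, 21277], [298, 3, 21661, 21283, 21280, 21808], [0, 0], [423, 2, 21165, 7610, 21812], [327, 1, 21814, 21158, 21287], [421, 1, 21814, 21163, 7870], [338, 2, 21748, 9019, 21818], [0, 0], [427, 2, 21165, 21038, 21822], [343, 1, 21824, 21158, 21293], [344, 1, 244, 21297, 21826], [0, 0], [249, 0, 21299, 168, 21830], [0, 0], [428, 0, 21162, 21165, 21834], [0, 0], [359, 3, 21301, 168, 21838], [0, 0], [37, 1, 172, 21842], [267, 2, 21843, 1247, 21842], [0, 0], [174, 1, 21532, 21377, 21848], [241, 1, 21391, 21380, 21377, 21848], [277, 2, 21849, 1248, 21848], [293, 2, 21849, 1092, 21848], [373, 2, 21849, 546, 21848],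 [0, 0], [77, 1, 21848, 21860], [174, 1, 21530, 21851, 21860], [241, 1, 21407, 21538, 21851, 21860], [277, 2, 21861, 21855, 21860], [293, 2, 21861, 21857, 21860], [373, 2, 21861, 21859, 21860], [0, 0], [0, 0], [91, 4, 5579, 9098, 9090, 172, 21842, 21874, 21876], [0, 0], [93, 2, 21849, 172, 21880], [267, 2, 21882, 21855, 21883], [283, 2, 21882, 21857, 21883], [363, 2, 21882, 21859, 21883], [0, 0], [95, 3, 21861, 21849, 172, 21880, 21890], [94, 2, 21892, 21862, 172], [267, 2, 21892, 21869, 21893], [283, 2, 21892, 21871, 21893], [363, 2, 21892, 21873, 21893], [0, 0], [97, 3, 21882, 21849, 172, 21842, 21902], [38, 2, 21904, 21882], [267, 2, 21904, 21885, 21905], [283, 2, 21904, 21887, 21905], [363, 2, 21904, 21889, 21905], [0, 0], [99, 4, 21892, 21861, 21849, 172, 21842, 21902, 21914], [38, 2, 21916, 21892], [94, 2, 21916, 21895, 21842], [267, 2, 21916, 21897, 21917], [283, 2, 21916, 21899, 21917], [363, 2, 21916, 21901, 21917], [0, 0], [179, 4, 21865, 21861, 21849, 21376, 21382, 21517, 21928], [174, 2, 21930, 21535, 21382], [0, 0], [209, 2, 21881, 173, 9091, 21934],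 [269, 2, 21936, 21885, 21937], [0, 0], [211, 3, 21915, 21903, 21843, 173, 9091, 21934, 21940], [210, 3, 21942, 21919, 21862, 9091], [0, 0], [0, 0], [213, 4, 21903, 21843, 173, 9091, 9099, 21946, 21948], [46, 1, 21948, 21950], [86, 1, 21950, 21904, 21937], [209, 1, 21950, 21903, 21843, 9085], [269, 2, 21950, 21909, 21951], [285, 2, 21950, 21911, 21951], [365, 2, 21950, 21913, 21951], [310, 1, 21881, 9080, 21956], [325, 2, 21881, 7606, 21956], [309, 2, 21849, 5751, 21946], [326, 1, 21849, 9088, 21946], [0, 0], [0, 0], [215, 5, 21891, 21881, 173, 9091, 9099, 21946, 21972, 21974], [46, 1, 21974, 21976], [85, 2, 21976, 21917, 21943], [214, 5, 21974, 21976, 21917, 21919, 21862, 9091, 9099], [309, 0, 21945, 9105, 21982], [310, 3, 21862, 5751, 21982], [325, 0, 21862, 9088, 21982], [326, 3, 21945, 9107, 21982], [0, 0], [229, 3, 21426, 21367, 21311, 170, 5863, 9096, 21992], [125, 2, 21994, 21444, 21441], [0, 0]]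
def dJ58 : List (List ℕ) := [[0, 0], [0, 0], [0, 0], [0, 0], [0, 0], [0, 0], [0, 0], [0, 0], [0, 0], [0, 0], [0, 0], [329, 34, 176, 18913, 18888, 18890, 18892, 23164, 23166, 23168, 23170, 23172, 23174, 23176, 23178, 23180, 23182, 23184, 23186, 23188, 23190, 23192, 23194, 23196, 23198, 23200, 23202, 23204, 23206, 23208, 23210, 23212, 23214, 23216, 23218, 23220], [336, 2, 23222, 175, 22155], [344, 1, 23220, 23222, 176], [397, 2, 23222, 1244, 23223], [407, 2, 23222, 1088, 23223], [296, 1, 23220, 23230, 23221], [287, 2, 23218, 23232, 23219], [283, 0, 23216, 23234, 23217], [287, 2, 23214, 23236, 23215], [280, 1, 23220, 23228, 23221], [271, 2, 23218, 23240, 23219], [267, 0, 23216, 23242, 23217], [335, 2, 179, 23226, 23219], [331, 0, 23216, 23246, 180], [335, 2, 183, 23248, 23215], [344, 1, 23212, 23250, 19708], [336, 3, 19711, 23252, 23211], [332, 1, 23208, 23254, 19712], [336, 3, 19715, 23256, 23207], [343, 0, 23204, 23258, 19716], [335, 2, 19719, 23260, 23203], [331, 0, 23200, 23262, 19720], [335, 2, 19723, 23264, 23199], [343, 0, 23196, 23266, 19724], [336, 3, 19727,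 23268, 23195], [332, 1, 23192, 23270, 19728], [336, 3, 19731, 23272, 23191], [344, 2, 23188, 23274, 19783, 15277], [8, 0, 23186, 23277, 15774], [16, 0, 23189, 23277], [3, 0, 23184, 23279, 16050], [8, 0, 23182, 23283, 16936], [15, 0, 23180, 23285], [427, 1, 23274, 19788, 19613], [351, 2, 19568, 23288, 23190], [347, 0, 23193, 23290, 19567], [343, 2, 2066, 16935, 23286], [359, 2, 16490, 16932, 23286], [335, 0, 23178, 23294, 2065], [331, 2, 2062, 23298, 23177], [335, 0, 23174, 23300, 2061], [343, 2, 2058, 23302, 23173], [336, 1, 23170, 23304, 2057], [332, 3, 2054, 23306, 23169], [336, 1, 23166, 23308, 2053], [0, 0], [339, 2, 22359, 23223, 23312], [0, 0], [0, 0], [0, 0], [0, 0], [0, 0], [0, 0], [0, 0], [0, 0], [0, 0], [0, 0], [0, 0], [0, 0], [0, 0], [0, 0], [0, 0], [0, 0], [0, 0], [0, 0], [0, 0], [0, 0], [0, 0], [0, 0], [0, 0], [0, 0], [0, 0], [0, 0], [0, 0], [0, 0], [0, 0], [0, 0], [0, 0], [345, 46, 175, 173, 171, 20942, 22268, 23316, 23318, 23320, 23322, 23324, 23326, 23328, 23330, 23332, 23334, 23336, 23338, 23340, 23342, 23344, 23346, 23348, 23350, 23351, 23349,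 23347, 23352, 23354, 23356, 23358, 23359, 23357, 23355, 23353, 23346, 23348, 23350, 23360, 23362, 23364, 23366, 23368, 23370, 23372, 23374, 23376], [352, 2, 23378, 175, 22247], [360, 1, 23376, 23378, 176], [399, 2, 23378, 1244, 23379], [409, 2, 23378, 1088, 23379], [296, 1, 23376, 23386, 23377], [287, 2, 23374, 23388, 23375], [283, 0, 23372, 23390, 23373], [287, 2, 23370, 23392, 23371], [296, 1, 23368, 23394, 23369], [280, 1, 23376, 23384, 23377], [271, 2, 23374, 23398, 23375], [267, 0, 23372, 23400, 23373], [271, 2, 23370, 23402, 23371], [280, 1, 23368, 23404, 23369], [351, 2, 179, 23382, 23375], [427, 2, 2306, 2317, 23382], [336, 1, 23374, 23410, 254], [343, 0, 23377, 23410, 253], [332, 3, 257, 23412, 23373], [336, 1, 23370, 23416, 258], [427, 1, 23416, 2302, 2313], [351, 2, 183, 23420, 23371], [360, 1, 23368, 23422, 19708], [352, 3, 19711, 23424, 23367], [348, 1, 23364, 23426, 19712], [352, 3, 19715, 23428, 23363], [359, 0, 23360, 23430, 19716], [351, 2, 19719, 23432, 23351], [347, 0, 23348, 23434, 19720], [351, 2, 19723, 23436, 23347], [359, 0, 23353, 23438,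 19724], [352, 3, 19727, 23440, 23354], [348, 1, 23357, 23442, 19728], [352, 3, 19731, 23444, 23358], [353, 1, 23445, 19792, 23444], [125, 3, 23359, 23448, 23358], [343, 2, 439, 23418, 23369], [335, 0, 23366, 23452, 311], [331, 2, 308, 23454, 23365], [335, 0, 23362, 23456, 307], [344, 3, 304, 23458, 23361], [336, 1, 23350, 23460, 303], [332, 3, 300, 23462, 23349], [336, 1, 23346, 23464, 299], [344, 3, 296, 23466, 23352], [335, 0, 23355, 23468, 295], [331, 2, 292, 23470, 23356], [335, 0, 23359, 23472, 1495], [0, 0], [349, 2, 9079, 23379, 23476], [352, 2, 23478, 7423, 22781], [0, 0], [355, 2, 22359, 23379, 23482], [0, 0], [0, 0], [0, 0], [0, 0], [0, 0], [0, 0], [0, 0], [0, 0], [0, 0], [0, 0], [0, 0], [0, 0], [0, 0], [0, 0], [0, 0], [0, 0], [361, 18, 23367, 23365, 23363, 23361, 23351, 23349, 23347, 23345, 23343, 23341, 23339, 23337, 23335, 23333, 23331, 23329, 23327, 23325, 23323, 23321, 23319, 23317, 22269, 20943, 170, 172, 174, 543, 175, 22073, 23486, 23488, 23490, 23492, 23494, 23496, 23498, 23500, 23502, 23504, 23506, 23508, 23510, 23512, 23514, 23516], [360, 1,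 23518, 23425, 19811], [352, 3, 3369, 23520, 23517], [348, 1, 23514, 23522, 3370], [428, 1, 23522, 3380, 3595], [331, 2, 3585, 23526, 23515], [335, 1, 23512, 23528, 3586, 4433], [7, 0, 23513, 23531], [15, 0, 23510, 23531, 4435], [8, 0, 23508, 23535, 3828], [3, 0, 23506, 23537, 3827], [8, 0, 23504, 23539, 3828], [15, 0, 23502, 23541, 3831], [8, 0, 23500, 23543], [255, 0, 14454, 14558, 23544], [352, 3, 11091, 3292, 23544], [251, 2, 23498, 23546, 14453], [255, 0, 14450, 23550, 23497], [250, 3, 23552, 15232, 15191], [359, 0, 19856, 15234, 23554], [351, 2, 23497, 23556, 19855], [347, 0, 19852, 23558, 23498], [351, 2, 23544, 23560, 19851], [359, 0, 19848, 23562, 3299], [46, 1, 23490, 23492], [0, 0], [381, 2, 5724, 3470, 23568], [256, 2, 23570, 5581, 22863], [0, 0], [385, 2, 23222, 3470, 23574], [256, 2, 23576, 23225, 22869], [0, 0], [387, 2, 23378, 3470, 23580], [256, 2, 23582, 23381, 22875], [0, 0], [427, 2, 23378, 23223, 23586], [336, 2, 23588, 23381, 22879], [335, 0, 243, 22883, 23590], [0, 0], [0, 0], [256, 0, 22887, 174, 23596]]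
def dJ62 : List (List ℕ) := [[62, 2, 24798, 23976], [126, 1, 24798, 24034, 24029], [226, 3, 24798, 24742, 24745, 9465], [273, 2, 24798, 23981, 24799], [289, 2, 24798, 23983, 24799], [305, 2, 24798, 24053, 24033], [306, 1, 24798, 23986, 24739], [321, 2, 24798, 23988, 24739], [322, 1, 24798, 24055, 24033], [369, 2, 24798, 23985, 24799], [0, 0], [233, 2, 24646, 24615, 23756, 24820], [275, 2, 24822, 24649, 24823], [291, 2, 24822, 24651, 24823], [371, 2, 24822, 24653, 24823], [0, 0], [235, 3, 24688, 24658, 24631, 24615, 23756, 24820, 24830], [234, 3, 24832, 24697, 181, 23756], [275, 2, 24832, 24699, 24833], [291, 2, 24832, 24701, 24833], [371, 2, 24832, 24703, 24833], [0, 0], [0, 0], [237, 4, 24658, 24631, 24615, 23756, 23766, 24842, 24844], [70, 1, 24844, 24846], [173, 1, 24846, 24657, 24823], [233, 1, 24846, 24658, 24631, 24618], [275, 2, 24846, 24665, 24847], [291, 2, 24846, 24667, 24847], [371, 2, 24846, 24669, 24847], [372, 1, 24844, 24858, 24845], [292, 1, 24844, 24856, 24845], [276, 1, 24844, 24854, 24845], [0, 0], [0, 0], [239, 5, 24672, 24646, 24615, 23756,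 23766, 24842, 24866, 24868], [70, 1, 24868, 24870], [174, 2, 24870, 24686, 24833], [234, 3, 24870, 24686, 24691, 24707], [238, 5, 24868, 24870, 24686, 24697, 181, 23756, 23766], [275, 2, 24870, 24681, 24871], [291, 2, 24870, 24683, 24871], [371, 2, 24870, 24685, 24871], [372, 1, 24868, 24884, 24869], [292, 1, 24868, 24882, 24869], [276, 1, 24868, 24880, 24869], [0, 0], [245, 3, 24146, 23792, 23767, 23757, 24614, 24630, 24892], [78, 2, 24894, 24146], [174, 1, 24894, 24188, 24183], [246, 5, 24894, 24146, 23797, 23778, 23783, 23804, 23814], [277, 2, 24894, 24151, 24895], [293, 2, 24894, 24153, 24895], [373, 2, 24894, 24155, 24895], [0, 0], [249, 2, 3467, 24540, 24908], [295, 0, 24910, 3396, 24911], [281, 3, 24913, 24910, 5319, 24911], [0, 0], [257, 2, 5712, 3466, 24916], [0, 0], [259, 2, 23757, 3466, 24920], [0, 0], [261, 2, 24615, 3466, 24924], [0, 0], [0, 0], [297, 2, 9464, 5702, 24540, 24930], [311, 2, 24932, 9074, 24540], [0, 0], [309, 2, 24615, 5703, 24936], [326, 1, 24615, 9066, 24936], [0, 0], [311, 2, 24541, 5703, 24942], [306, 2, 24944, 24930, 24935], [298,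 3, 24909, 24945, 24947, 24908], [0, 0], [0, 0], [313, 3, 7590, 24540, 24950, 24952], [277, 2, 24954, 7543, 24955], [293, 2, 24954, 7495, 24955], [309, 2, 24954, 9074, 24614], [310, 1, 24954, 9472, 24936], [325, 2, 24954, 9474, 24936], [326, 1, 24954, 7590, 24614], [373, 2, 24954, 7450, 24955], [376, 1, 24952, 24968, 24953], [296, 1, 24952, 24958, 24953], [280, 1, 24952, 24956, 24953], [0, 0], [0, 0], [0, 0], [0, 0], [0, 0], [0, 0], [0, 0], [0, 0], [0, 0], [0, 0], [0, 0], [0, 0], [0, 0], [0, 0], [0, 0], [0, 0], [0, 0], [0, 0], [0, 0], [0, 0], [0, 0], [0, 0], [0, 0], [0, 0], [0, 0], [0, 0], [0, 0], [0, 0], [0, 0], [0, 0], [0, 0], [329, 33, 23246, 24540, 24908, 24976, 24978, 24980, 24982, 24984, 24986, 24988, 24990, 24992, 24994, 24996, 24998, 25000, 25002, 25004, 25006, 25008, 25010, 25012, 25014, 25016, 25018, 25020, 25022, 25024, 25026, 25028, 25030, 25032, 25034, 25036], [125, 1, 24977, 24948, 24976], [217, 1, 24977, 24914, 24948, 24976], [0, 0], [337, 2, 5712, 23247, 25044], [335, 1, 25046, 5585, 24439], [421, 2, 25046, 9067, 23247], [0, 0], [339, 2, 23757, 23247,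 25052], [0, 0], [341, 2, 24615, 23247, 25056], [0, 0], [0, 0], [0, 0], [0, 0], [0, 0], [0, 0], [0, 0], [0, 0], [0, 0], [0, 0], [0, 0], [0, 0], [0, 0], [0, 0], [0, 0], [0, 0], [0, 0], [0, 0], [0, 0], [0, 0], [0, 0], [0, 0], [0, 0], [0, 0], [0, 0], [0, 0], [0, 0], [0, 0], [0, 0], [0, 0], [0, 0], [0, 0], [0, 0], [0, 0], [345, 45, 23408, 23626, 25060, 25062, 25064, 25066, 25068, 25070, 25072, 25074, 25076, 25078, 25080, 25082, 25084, 25086, 25088, 25090, 25092, 25094, 25096, 25098, 25100, 25102, 25103, 25101, 25099, 25104, 25106, 25108, 25110, 25111, 25109, 25107, 25105, 25098, 25100, 25102, 25112, 25114, 25116, 25118, 25120, 25122, 25124, 25126], [360, 1, 25128, 23408, 24540], [0, 0], [355, 2, 23757, 23409, 25132], [0, 0], [357, 2, 24615, 23409, 25136], [0, 0], [385, 2, 23246, 3466, 25140], [255, 1, 25142, 23218, 24581], [0, 0], [387, 2, 23408, 3466, 25146], [255, 1, 25148, 23374, 24587], [0, 0], [423, 2, 23408, 7591, 25152], [319, 1, 25154, 23374, 24530], [0, 0], [427, 2, 23408, 23247, 25158], [335, 1, 25160, 23374, 24593], [336, 1, 255, 24597, 25162], [0, 0], [250,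 0, 24909, 24541, 25166], [257, 3, 25168, 24949, 25169], [0, 0], [255, 3, 24599, 178, 25172], [0, 0], [351, 3, 24605, 178, 25176], [0, 0], [53, 1, 182, 25180], [367, 2, 25181, 534, 25180], [0, 0], [173, 1, 24870, 24671, 25186], [174, 2, 24832, 24697, 25186], [233, 1, 24619, 24674, 24671, 25186], [234, 3, 24846, 24661, 24610, 25186], [275, 2, 25187, 1239, 25186], [291, 2, 25187, 1083, 25186]]
def dJ66 : List (List ℕ) := [[0, 0], [345, 44, 23368, 23422, 25180, 26336, 26338, 26340, 26342, 26344, 26346, 26348, 26350, 26352, 26354, 26356, 26358, 26360, 26362, 26364, 26366, 26368, 26370, 26372, 26374, 26376, 26378, 26379, 26377, 26375, 26380, 26382, 26384, 26386, 26387, 26385, 26383, 26381, 26374, 26376, 26378, 26388, 26390, 26392, 26394, 26396, 26398, 26400], [271, 2, 26402, 23406, 26403], [287, 2, 26402, 23396, 26403], [283, 0, 26400, 26406, 26401], [287, 2, 26398, 26408, 26399], [296, 1, 26396, 26410, 26397], [267, 0, 26400, 26404, 26401], [271, 2, 26398, 26414, 26399], [280, 1, 26396, 26416, 26397], [272, 3, 26394, 26418, 26395], [268, 1, 26392, 26420, 26393], [272,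 3, 26390, 26422, 26391], [279, 0, 26388, 26424, 26389], [271, 2, 26378, 26426, 26379], [267, 0, 26376, 26428, 26377], [271, 2, 26374, 26430, 26375], [280, 1, 26372, 26432, 26373], [272, 3, 26370, 26434, 26371], [268, 1, 26368, 26436, 26369], [272, 3, 26366, 26438, 26367], [280, 1, 26364, 26440, 26365], [271, 2, 26362, 26442, 26363], [267, 0, 26360, 26444, 26361], [271, 2, 26358, 26446, 26359], [279, 0, 26356, 26448, 26357], [272, 3, 26354, 26450, 26355], [268, 1, 26352, 26452, 26353], [272, 3, 26350, 26454, 26351], [279, 0, 26348, 26456, 26349], [271, 2, 26346, 26458, 26347], [267, 0, 26344, 26460, 26345], [271, 2, 26342, 26462, 26343], [279, 0, 26340, 26464, 26341], [0, 0], [347, 2, 25835, 23423, 26468], [409, 2, 26470, 25839, 26471], [0, 0], [349, 2, 5714, 23423, 26474], [351, 1, 26476, 5589, 25729], [0, 0], [351, 2, 25181, 23423, 26480], [352, 2, 26482, 25182, 23420], [431, 1, 26482, 25184, 26483], [0, 0], [355, 2, 25243, 23423, 26488], [0, 0], [357, 2, 25841, 23423, 26492], [0, 0], [0, 0], [0, 0], [0, 0], [0, 0], [0, 0], [0, 0], [0, 0], [0, 0], [0, 0], [0,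 0], [0, 0], [0, 0], [0, 0], [0, 0], [0, 0], [0, 0], [361, 18, 26395, 26393, 26391, 26389, 26379, 26377, 26375, 26373, 26371, 26369, 26367, 26365, 26363, 26361, 26359, 26357, 26355, 26353, 26351, 26349, 26347, 26345, 26343, 26341, 26339, 26337, 25181, 535, 25180, 26496, 26498, 26500, 26502, 26504, 26506, 26508, 26510, 26512, 26514, 26516, 26518, 26520, 26522, 26524, 26526, 26528], [295, 2, 26530, 26412, 26531], [287, 0, 26528, 26532, 26529], [283, 2, 26526, 26534, 26527], [287, 0, 26524, 26536, 26525], [296, 3, 26522, 26538, 26523], [288, 1, 26520, 26540, 26521], [284, 3, 26518, 26542, 26519], [288, 1, 26516, 26544, 26517], [296, 3, 26514, 26546, 26515], [287, 0, 26512, 26548, 26513], [283, 2, 26510, 26550, 26511], [287, 0, 26508, 26552, 26509], [289, 2, 26506, 26554, 26507], [286, 1, 26504, 26556, 26505], [46, 1, 26502, 26504], [0, 0], [383, 2, 7484, 3454, 26562], [253, 1, 26564, 9530, 26205], [254, 2, 26564, 9532, 3454], [0, 0], [387, 2, 23422, 3454, 26570], [255, 1, 26572, 23370, 25781], [0, 0], [421, 2, 23250, 7485, 26576], [319, 1, 26578, 23214, 25787], [422,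 2, 26578, 23614, 7240], [0, 0], [423, 2, 23422, 7485, 26584], [319, 1, 26586, 23370, 25795], [421, 1, 26586, 23419, 7799], [0, 0], [427, 2, 23422, 23251, 26592], [335, 1, 26594, 23370, 25805], [336, 1, 259, 25809, 26596], [0, 0], [255, 3, 25825, 182, 26600], [0, 0], [351, 3, 25831, 182, 26604], [0, 0], [266, 2, 25835, 184, 1235, 26608], [267, 2, 26609, 1235, 26608], [0, 0], [37, 1, 26608, 26614], [266, 2, 25837, 26611, 26613, 26614], [0, 0], [53, 1, 187, 26620], [256, 1, 26243, 3452, 26620], [0, 0], [0, 0], [69, 1, 26626, 26628], [0, 0], [277, 2, 26633, 1235, 26632], [293, 2, 26633, 1079, 26632], [314, 2, 25965, 5590, 9540, 26632], [0, 0], [77, 1, 26632, 26640], [277, 2, 26641, 26635, 26640], [293, 2, 26641, 26637, 26640], [0, 0], [85, 2, 5607, 26608, 26648], [201, 1, 26650, 5609, 5607, 26608], [265, 2, 26650, 5612, 5591, 25873], [267, 2, 26650, 5613, 26651], [300, 1, 26650, 5615, 26608], [315, 2, 26650, 9540, 26608], [0, 0], [87, 3, 9551, 5607, 26608, 26648, 26662], [86, 2, 26664, 9543, 26608], [265, 2, 26664, 7480, 7433, 25881], [267, 2, 26664, 7481, 26665],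 [0, 0], [89, 3, 26650, 5607, 26608, 26614, 26672], [38, 2, 26674, 26650], [265, 2, 26674, 26656, 26655, 25889], [0, 0], [91, 4, 26664, 9551, 5607, 26608, 26614, 26672, 26680], [38, 2, 26682, 26664], [202, 3, 26682, 26667, 26652, 26675], [265, 2, 26682, 26670, 26669, 25895], [0, 0], [93, 2, 26633, 26608, 26690], [265, 2, 26692, 26634, 26638, 26002], [283, 2, 26692, 26637, 26693], [0, 0], [95, 3, 26641, 26633, 26608, 26690, 26698], [94, 2, 26700, 26642, 26608], [267, 2, 26700, 26645, 26701], [283, 2, 26700, 26647, 26701], [0, 0], [97, 3, 26692, 26633, 26608, 26614, 26708], [38, 2, 26710, 26692], [0, 0], [99, 4, 26700, 26641, 26633, 26608, 26614, 26708, 26714], [38, 2, 26716, 26700], [94, 2, 26716, 26703, 26614], [0, 0], [133, 2, 26627, 26620, 26722], [226, 2, 26627, 5277, 26620, 26722], [0, 0], [135, 3, 26629, 26627, 26620, 26722, 26728], [0, 0], [137, 3, 26724, 26627, 26620, 26622, 26732], [54, 2, 26734, 26724], [126, 2, 26734, 26726, 26725], [128, 1, 26737, 26727, 26738, 26734, 26726], [0, 0], [139, 4, 26730, 26629, 26627, 26620, 26622, 26732, 26742], [0, 0], [173,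 2, 26633, 26626, 26746], [0, 0], [175, 3, 26641, 26633, 26626, 26746, 26750], [174, 2, 26752, 26642, 26626], [0, 0], [177, 3, 26748, 26633, 26626, 26628, 26756], [0, 0], [179, 4, 26752, 26641, 26633, 26626, 26628, 26756, 26760], [174, 2, 26762, 26755, 26628], [0, 0], [209, 2, 26691, 26609, 5606, 26766], [281, 2, 26768, 26696, 26695, 25997], [327, 0, 26638, 26022, 26770], [313, 2, 26641, 26773, 26771, 26030], [0, 0], [211, 3, 26715, 26709, 26615, 26609, 5606, 26766, 26776], [210, 3, 26778, 26719, 26642, 5606], [310, 3, 26642, 5614, 26780], [325, 0, 26642, 9541, 26780], [314, 4, 26784, 26642, 185, 25859], [0, 0], [0, 0], [213, 4, 26709, 26615, 26609, 5606, 9550, 26788, 26790], [46, 1, 26790, 26792], [86, 1, 26792, 26710, 26769], [209, 1, 26792, 26709, 26615, 26648]]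
def dJ70 : List (List ℕ) := [[18, 0, 15374, 27941, 3494], [3, 0, 16579, 27945, 14781], [6, 0, 15821, 27945, 10051], [5, 0, 15815, 27945, 6051], [8, 0, 15794, 27945], [12, 0, 15833, 27945, 14786], [11, 0, 15845, 27945, 14793], [16, 0, 16837, 27945, 145], [18, 0, 16390, 27945, 3501], [11, 0, 15853, 27948, 15334], [27, 0, 5789, 27948], [29, 0, 5797, 27948], [18, 0, 16044, 27954, 15765], [29, 0, 7677, 27954], [8, 0, 15881, 27959, 15308], [11, 0, 15367, 27959, 15306], [16, 0, 15899, 27963, 15368], [10, 0, 16298, 27967, 15037], [7, 0, 18259, 27969], [7, 0, 16940, 27971], [3, 0, 15966, 27988], [4, 0, 16074, 27988], [5, 0, 16137, 27988], [6, 0, 16151, 27988], [9, 0, 27989, 16077, 27988], [13, 0, 16187, 27988], [14, 0, 16205, 27988], [16, 0, 16958, 27988], [24, 0, 16157, 27988], [25, 0, 16163, 27988], [12, 0, 15347, 27991, 15864], [8, 0, 14883, 27993], [3, 0, 16331, 27996], [4, 0, 16339, 27996], [12, 0, 15822, 27996], [13, 0, 16217, 27996, 15090], [17, 0, 16394, 27996], [24, 0, 16317, 27996], [27, 0, 16572, 27996], [29, 0, 16830, 27996], [3, 0, 16347, 27998], [4, 0, 16371,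 27998], [11, 0, 15830, 27998], [14, 0, 15888, 27998, 15077], [24, 0, 16327, 27998], [8, 0, 15372, 28001], [7, 0, 16581, 28003], [27, 0, 17525, 28003], [8, 0, 15819, 28005], [8, 0, 15813, 28007], [14, 0, 15894, 28011, 14912], [10, 0, 16323, 28013], [7, 0, 16839, 28015, 13411], [8, 0, 16388, 28017], [9, 0, 16320, 28019], [7, 0, 16931, 28025], [3, 0, 16357, 28029], [12, 0, 16086, 28029], [7, 0, 16090, 28031], [8, 0, 15901, 28033, 15410], [11, 0, 16302, 28035], [23, 0, 16329, 28035], [12, 0, 15864, 28060], [4, 0, 16369, 28071], [11, 0, 16084, 28087], [8, 0, 16088, 28101], [16, 0, 16841, 28105], [3, 0, 15903, 28119, 15412], [8, 0, 15905, 28135, 15414], [16, 0, 15907, 28137, 15416], [7, 0, 15909, 28139, 15418], [4, 0, 15911, 28141, 15420], [7, 0, 15913, 28143, 15422], [15, 0, 15915, 28145, 15424], [16, 0, 18297, 28147], [281, 0, 28133, 13412, 28132, 16842, 16911], [6, 0, 16842, 28150, 16925], [10, 0, 16847, 28152], [351, 1, 5801, 28098, 5795], [125, 2, 9226, 28156, 9993], [352, 3, 28156, 27867, 27805], [347, 3, 27381, 27567, 28160], [351, 0, 191, 28160, 4980], [360,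 1, 27573, 28160, 4979], [348, 0, 28166, 25835, 26604], [349, 3, 9236, 28166, 27667, 14705], [5, 0, 9244, 28171], [6, 0, 9237, 28171], [7, 0, 6964, 28171, 3102], [10, 0, 9246, 28171], [16, 0, 6967, 28171], [23, 0, 9242, 28171], [25, 0, 9229, 28171], [26, 0, 7195, 28171], [29, 0, 16417, 28171, 3163], [3, 0, 6962, 28177], [5, 0, 9256, 28177], [25, 0, 9259, 28177], [6, 0, 16414, 28189, 9943], [5, 0, 16412, 28189, 9940], [15, 0, 17851, 28189], [3, 0, 16401, 28197], [7, 0, 17465, 28197], [7, 0, 15185, 28197, 4627], [13, 0, 16419, 28197], [15, 0, 15221, 28197], [16, 0, 15182, 28197], [27, 0, 16499, 28197], [29, 0, 15223, 28197], [15, 0, 17439, 28199], [16, 0, 16407, 28199], [3, 0, 15187, 28207], [8, 0, 17602, 28207], [17, 0, 15227, 28207], [29, 0, 15224, 28207], [350, 3, 6063, 28166, 25882], [427, 2, 28230, 23295, 24515], [428, 0, 27753, 28230, 24347], [352, 3, 24285, 28234, 7258], [360, 3, 24282, 28234, 8609], [424, 3, 28234, 10356, 19012], [427, 2, 24514, 24333, 28234], [331, 3, 26583, 27755, 28242], [335, 0, 7259, 28242, 24458], [343, 0, 8608, 28242, 24464], [422,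 3, 27765, 7358, 28242], [327, 0, 24465, 28250, 27092], [316, 2, 27512, 27088, 28252], [422, 2, 6921, 27576, 28252], [334, 2, 28256, 9606, 27576], [336, 2, 28256, 27847, 27874], [335, 2, 28260, 28248, 907], [352, 0, 24523, 28260, 24517], [421, 0, 19685, 28240, 24332], [320, 3, 23178, 28266, 14467], [424, 3, 23297, 28266, 14532], [327, 1, 28270, 16490, 6824], [312, 1, 16490, 9200, 28272], [417, 2, 14532, 28274, 23297], [303, 0, 23178, 28276, 14467], [351, 0, 7373, 8601, 28238, 27899], [7, 0, 27899, 28280], [8, 0, 24276, 28280], [27, 0, 27918, 28280], [337, 2, 10584, 28286, 6006], [338, 3, 10583, 28286, 10518], [341, 2, 28290, 10573, 28286, 27957], [29, 0, 15725, 28292, 28027], [8, 0, 15309, 28295, 28063], [7, 0, 15311, 28295, 7395], [11, 0, 15307, 28295, 15356], [14, 0, 15313, 28295, 15407], [18, 0, 15382, 28295, 15765], [23, 0, 28303, 15409, 28295, 9965], [4, 0, 28113, 28297, 16119], [12, 0, 15092, 28297, 16304], [11, 0, 28115, 28297, 16324], [14, 0, 15086, 28297, 16232], [13, 0, 15089, 28297, 16278], [12, 0, 14926, 28299, 15014], [11, 0, 14925, 28299, 15040], [14,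 0, 14929, 28299, 14934], [13, 0, 14922, 28299, 14946], [9, 0, 15354, 28300], [7, 0, 28111, 28304], [9, 0, 15768, 28304], [10, 0, 15766, 28304], [7, 0, 15317, 28307, 5553], [11, 0, 15315, 28307, 15334], [11, 0, 16348, 28309], [14, 0, 16354, 28309], [12, 0, 16304, 28310], [23, 0, 28074, 28310], [9, 0, 28102, 28312], [10, 0, 28337, 28108, 28312], [11, 0, 16324, 28312], [24, 0, 28088, 28312, 16223], [23, 0, 28122, 28312, 16265, 28314], [5, 0, 16238, 28314, 28354], [6, 0, 16235, 28314, 28354], [15, 0, 16420, 28314, 28354], [16, 0, 17205, 28314, 28354], [23, 0, 16265, 28314, 28354], [5, 0, 16272, 28316], [6, 0, 16269, 28316], [13, 0, 16278, 28316], [16, 0, 17215, 28316], [24, 0, 16287, 28316, 15348], [23, 0, 16289, 28316, 28345], [9, 0, 15020, 28318], [12, 0, 15014, 28318], [24, 0, 15031, 28318, 14974], [23, 0, 15029, 28318, 14939, 28322], [11, 0, 15040, 28320], [23, 0, 15045, 28320], [6, 0, 14937, 28322], [14, 0, 14934, 28322], [15, 0, 14941, 28322], [3, 0, 14987, 28324, 15070], [13, 0, 14946, 28324]]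
def dJ74 : List (List ℕ) := [[16, 0, 27861, 29552], [25, 0, 27854, 29552], [27, 0, 27875, 29552], [28, 0, 27858, 29552], [30, 0, 27862, 29552], [8, 0, 26478, 29555], [30, 0, 26477, 29555], [7, 0, 26588, 29557, 28664], [28, 0, 26590, 29557], [30, 0, 26584, 29557], [7, 0, 26484, 29563], [8, 0, 18263, 29591, 8034], [4, 0, 25796, 29615, 15526], [9, 0, 25798, 29615], [28, 0, 25800, 29615], [30, 0, 25792, 29615], [16, 0, 18265, 29623, 29548], [7, 0, 25156, 29625, 15528], [7, 0, 18267, 29633, 147], [16, 0, 24528, 29635], [30, 0, 24527, 29635], [4, 0, 18269, 29637, 14774], [7, 0, 18271, 29643, 28556], [16, 0, 18273, 29645, 14776], [7, 0, 18275, 29647], [16, 0, 28148, 29647, 14415], [7, 0, 15427, 29651], [361, 1, 6980, 19922, 19919, 19919, 19921, 20446, 20820, 21288, 21816, 22256, 22782, 23480, 29639, 15529, 15527, 28665, 28666, 28512, 28040, 27994, 29549, 8034, 8033, 8034, 29548, 147, 14774, 28556, 14776, 29648, 18276, 18278, 18280, 18183, 18181, 18179, 18177, 18167, 18165, 18163, 18168, 18170, 18172, 18174, 18227, 18175], [266, 4, 18252, 18172, 29654, 6979], [360, 1,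 15531, 29640, 24245], [423, 2, 24493, 24246, 29658], [320, 1, 15533, 29660, 24487], [316, 3, 24484, 29662, 15534], [320, 1, 15537, 29664, 24483], [327, 2, 24480, 29666, 15538], [319, 0, 15541, 29668, 24479], [315, 2, 24476, 29670, 15542], [319, 0, 15545, 29672, 24475], [328, 3, 24472, 29674, 15546], [320, 1, 15549, 29676, 24463], [316, 3, 24460, 29678, 15550], [422, 2, 29680, 28246, 10359], [423, 1, 29680, 24513, 28269], [350, 2, 24513, 28715, 29684], [351, 2, 14467, 29684, 15552], [418, 1, 24513, 28279, 29684], [427, 2, 14706, 14539, 29684], [428, 0, 3031, 28767, 29692], [349, 2, 29353, 29694, 8834], [360, 3, 29338, 29694, 2009], [427, 3, 19014, 29694, 19636], [352, 1, 19536, 29700, 5361], [359, 0, 19539, 29700, 10445], [351, 2, 10441, 29704, 19540], [347, 0, 19543, 29706, 2350], [427, 1, 19640, 29706, 29329], [348, 3, 29265, 29710, 216], [352, 1, 219, 29712, 29266], [359, 2, 29269, 29714, 220], [427, 3, 29319, 29714, 19652], [351, 0, 223, 29716, 29270], [427, 2, 29716, 29366, 29428], [335, 0, 29397, 29722, 222], [343, 0, 29394, 29722, 221], [336, 3, 218, 29726,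 29393], [332, 1, 29390, 29728, 217], [336, 3, 214, 29730, 29389], [343, 0, 29386, 29732, 6897], [344, 2, 29732, 2008, 3031], [250, 0, 2921, 29736, 29387], [343, 0, 19539, 19690, 29736], [335, 2, 29389, 29740, 19540], [331, 0, 19543, 29742, 29390], [252, 1, 29738, 6898, 27809, 29382], [7, 0, 29384, 29747], [15, 0, 29387, 29747], [28, 0, 29734, 29747], [29, 0, 29415, 29747, 29431], [4, 0, 29434, 29754], [29, 0, 29431, 29754], [86, 2, 29756, 6047, 15252], [201, 2, 29756, 6016, 6046, 29757, 19841], [6, 0, 29760, 29763, 19839], [29, 0, 29759, 29763], [5, 0, 19836, 29764], [6, 0, 19839, 29764], [350, 3, 14821, 15255, 29770], [349, 0, 19859, 29772, 14817], [417, 2, 29772, 14827, 29774], [424, 1, 29772, 14829, 29774], [318, 3, 29768, 29778, 19858], [414, 3, 29778, 29777, 29780], [312, 1, 15256, 29782, 19835], [300, 0, 29784, 14713, 10027], [303, 1, 20063, 19832, 29784], [418, 0, 29784, 14714, 14064], [350, 2, 14714, 14058, 29790], [351, 2, 29649, 14715, 29788], [266, 3, 29113, 27811, 29382, 29750], [331, 2, 225, 29724, 29398], [335, 0, 29401, 29798, 226], [427, 3, 29362,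 29424, 29798], [351, 0, 227, 29802, 29274], [344, 3, 229, 29800, 29402], [336, 1, 29405, 29806, 230], [427, 0, 29702, 19689, 28764], [332, 0, 29810, 27762, 26321], [344, 0, 15555, 29810, 5359, 28981], [6, 0, 28972, 29814], [7, 0, 28976, 29814, 15556], [7, 0, 15556, 29818], [416, 3, 29810, 10355, 28242], [422, 3, 29810, 10342, 27764], [418, 2, 29822, 28765, 28274], [359, 0, 16491, 29826, 24464], [360, 1, 16492, 29826, 24457], [428, 0, 28214, 29826, 28232], [347, 2, 25894, 29832, 28202], [359, 0, 16403, 29834, 26688], [358, 3, 27465, 29836, 16178], [348, 1, 16200, 29838, 26887], [350, 1, 16270, 29838, 27799], [355, 0, 28464, 29838, 26880], [418, 0, 28530, 29838, 27801], [347, 2, 27596, 29846, 16334], [350, 3, 26817, 29846, 28527], [356, 1, 28129, 29850, 26869], [348, 3, 26874, 29852, 16190], [351, 2, 29239, 29852, 28131], [352, 3, 28849, 29852, 28117], [353, 2, 28866, 29852, 28346], [354, 3, 28798, 29852, 28348], [417, 3, 27712, 29852, 28365], [347, 0, 28419, 29864, 27557], [352, 1, 28446, 29864, 28779], [353, 0, 15037, 29864, 28884], [358, 1, 28399, 29860, 28861],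 [428, 3, 29872, 7688, 28753], [334, 2, 29874, 27841, 28985], [422, 1, 29874, 29603, 29604], [421, 1, 8759, 28262, 29878], [423, 3, 29878, 28752, 6814], [345, 26, 15131, 15129, 15127, 15125, 15124, 15126, 15128, 15130, 15132, 15134, 15136, 15138, 15140, 15142, 15144, 12474, 1801, 1799, 1797, 1795, 29882, 27881, 7368, 27884, 24465, 24458, 24460, 24462, 24472, 24474, 24476, 24478, 24575, 24573, 24571, 24569, 24567, 24565, 24563, 24561, 24559, 24557, 24555, 24553, 24552, 24554, 24556], [7, 0, 24556, 29884, 15132], [4, 0, 24554, 29887, 15134], [7, 0, 24552, 29889, 15136], [9, 0, 24550, 29891], [349, 0, 6055, 29882, 28986], [352, 1, 27979, 29882, 27881], [353, 2, 6346, 15166, 29892], [349, 1, 24577, 29898, 6354, 15166], [5, 0, 24576, 29901], [16, 0, 24544, 29901, 15138], [8, 0, 24542, 29905, 15140], [3, 0, 25461, 29907, 15142], [10, 0, 24947, 29907], [13, 0, 24951, 29907], [15, 0, 24909, 29907], [16, 0, 24540, 29907], [30, 0, 25131, 29907, 29296], [13, 0, 25491, 29909], [15, 0, 25445, 29909], [16, 0, 25442, 29909], [23, 0, 25484, 29909], [26, 0, 25489, 29909], [27, 0,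 25587, 29909], [30, 0, 25725, 29909, 29295], [8, 0, 29278, 29918], [8, 0, 29283, 29932, 25719], [27, 0, 29355, 29932], [30, 0, 29295, 29932], [27, 0, 29288, 29937], [28, 0, 29290, 29937], [30, 0, 29292, 29937], [427, 1, 29939, 29940, 29930], [351, 2, 25578, 29948, 24264], [360, 2, 25803, 25581, 29948], [428, 3, 29948, 24406, 13379], [336, 1, 13310, 29954, 25579], [343, 1, 13313, 29954, 25580, 23613], [9, 0, 13385, 29959, 9458], [15, 0, 13312, 29959], [8, 0, 13321, 29961, 6937], [4, 0, 13323, 29965], [38, 1, 27754, 29966], [331, 0, 25897, 7479, 29966], [265, 2, 2039, 2265, 29962, 14590], [360, 2, 2302, 29962, 13378], [263, 1, 4392, 29974, 3613], [266, 2, 2366, 29974, 1353, 257], [297, 0, 5489, 29974, 9451, 9442], [298, 2, 10240, 29974, 6150, 9452], [265, 2, 7776, 7849, 29982, 7287], [298, 2, 10247, 29984, 9447, 6225], [264, 2, 3623, 29978, 4394], [343, 3, 25164, 29978, 24408], [344, 0, 29956, 11411, 12656], [343, 2, 12474, 19109, 29992], [54, 1, 25126, 29934], [360, 2, 29854, 27482, 26495]]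
def dJ78 : List (List ℕ) := [[353, 3, 3307, 1674, 31185], [427, 1, 28735, 3062, 31185, 31189], [8, 0, 31187, 31202, 15585], [8, 0, 19052, 31202], [16, 0, 19059, 31205], [27, 0, 19060, 31205], [427, 2, 28737, 31210, 14699], [333, 1, 31212, 10513, 19113], [422, 1, 31212, 6653, 19113], [320, 3, 11397, 31216, 14620], [328, 0, 31216, 14626, 27684], [421, 1, 8386, 11394, 31216], [333, 2, 27742, 31222, 2550], [427, 3, 31222, 8390, 30260], [359, 1, 31226, 14626, 30033], [360, 2, 31226, 14619, 30017], [265, 1, 31230, 30267, 15507, 15465], [344, 2, 3037, 31228, 30261], [360, 1, 3096, 3167, 31228], [352, 3, 15471, 31236, 31191], [428, 2, 30260, 31236, 14523], [349, 1, 31240, 10217, 30183], [359, 1, 31238, 27986, 27934], [360, 2, 27882, 31244, 31199], [297, 1, 31246, 10602, 5528, 3305], [298, 2, 26501, 27741, 31246, 10599, 5527], [9, 0, 27751, 31251, 5526], [15, 0, 26500, 31251], [8, 0, 26509, 31253, 27768], [3, 0, 28969, 31256], [3, 0, 27088, 31256, 26510], [5, 0, 29816, 31256], [6, 0, 28259, 31256], [11, 0, 28993, 31256], [13, 0, 29001, 31256], [15, 0, 27092, 31256], [27,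 0, 27767, 31256], [28, 0, 27576, 31256], [5, 0, 27095, 31261], [6, 0, 27510, 31261], [8, 0, 31260, 27616, 31261, 26512], [9, 0, 31260, 27007, 31261], [13, 0, 27113, 31261], [15, 0, 27012, 31261], [28, 0, 27005, 31261], [29, 0, 27361, 31261], [16, 0, 26515, 31280, 31286], [7, 0, 26517, 31293, 23214], [4, 0, 26519, 31295, 23216], [7, 0, 26521, 31297, 23218], [16, 0, 26523, 31299, 24307], [8, 0, 26525, 31301, 24305], [3, 0, 26527, 31303, 24303], [8, 0, 26529, 31305, 24301], [16, 0, 26531, 31307], [313, 1, 31246, 7370, 10601, 31254], [314, 3, 31246, 10592, 10594, 3305], [78, 2, 31312, 31311], [326, 1, 31312, 31218, 31315], [321, 3, 31316, 31248, 31218], [421, 3, 31316, 3301, 8508], [385, 0, 31082, 8550, 31320], [255, 2, 26498, 31322, 31062], [263, 1, 31324, 26497, 26209], [266, 1, 31326, 31064, 31076, 31000], [251, 0, 31328, 26208, 26336], [385, 2, 27016, 31330, 30998], [249, 0, 10670, 12392, 31332], [254, 0, 11754, 12396, 31332], [384, 0, 11754, 12402, 31332], [315, 2, 27014, 31338, 11759], [319, 1, 31340, 26323, 26579], [320, 2, 31340, 26327, 25787], [328, 0, 8402,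 11386, 31340], [421, 1, 31340, 26324, 25240], [334, 2, 26324, 25232, 31348], [255, 2, 31344, 11388, 10906], [385, 1, 31352, 25785, 25775], [346, 0, 29790, 30144, 24459, 28244, 31342, 11387, 131, 1293, 2509, 31038, 31116, 31048, 31050, 31153, 26315, 25639, 25049, 25048, 25638, 26314, 31152, 31051, 31049, 31117, 31116, 31048, 31050, 31052, 31143, 31140, 31058, 31060, 31062, 31064, 31075, 31076, 30961, 30959, 30957, 30955, 30945, 30943, 30941, 30946, 30948, 30950, 30952], [7, 0, 30952, 31356], [352, 1, 19832, 29791, 31358], [360, 0, 31360, 19831, 20464], [266, 4, 20840, 20838, 31362, 30951], [217, 1, 11396, 3302, 31318, 26499], [329, 34, 19087, 1779, 19880, 20410, 20790, 21260, 21802, 22278, 22870, 23578, 24308, 24305, 24303, 24301, 31308, 26395, 26393, 26391, 26389, 26379, 26377, 26375, 26373, 26371, 26369, 26367, 26365, 26363, 26361, 26359, 26357, 26355, 26353, 26351, 26349], [8, 0, 26346, 31368, 19080], [16, 0, 26349, 31368, 19082], [28, 0, 27027, 31368, 19079], [3, 0, 26344, 31371, 18560], [8, 0, 26351, 31373, 2906], [15, 0, 26986, 31375, 160], [8, 0, 26342, 31377,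 18314], [3, 0, 26353, 31379, 2908], [8, 0, 26984, 31381, 162], [28, 0, 27020, 31383, 17865], [8, 0, 26355, 31385, 2910], [3, 0, 26982, 31387, 164], [15, 0, 26995, 31389, 17860], [16, 0, 26357, 31391, 2912], [8, 0, 26980, 31393, 166], [8, 0, 26997, 31395], [7, 0, 26359, 31397, 2914], [15, 0, 26978, 31399, 21298], [4, 0, 26361, 31403, 2916], [8, 0, 26976, 31405], [7, 0, 26363, 31407, 2918], [15, 0, 26365, 31411, 29736], [8, 0, 29389, 31412, 26366], [15, 0, 29736, 31412], [16, 0, 29750, 31412], [28, 0, 29733, 31412], [3, 0, 29391, 31415, 26368], [9, 0, 30138, 31415], [16, 0, 30336, 31415], [28, 0, 29730, 31415], [8, 0, 29393, 31423, 26370], [9, 0, 30113, 31423], [16, 0, 30344, 31423], [28, 0, 29729, 31423], [5, 0, 30140, 31431], [28, 0, 29726, 31431], [360, 0, 24366, 31308, 27038], [249, 3, 26946, 31442, 3206], [386, 1, 15251, 31444, 27062], [256, 3, 26299, 31446, 15197], [263, 2, 26296, 31446, 15198], [255, 0, 15201, 31450, 26295], [251, 2, 26292, 31452, 15202], [255, 0, 15205, 31454, 26291], [264, 3, 26288, 31456, 15206], [256, 1, 15209, 31458, 26287], [385, 0,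 24434, 31458, 27072], [255, 2, 26957, 31462, 23335], [251, 0, 23332, 31464, 26958], [385, 2, 27076, 31466, 24430], [256, 1, 15213, 31468, 26283], [257, 3, 31469, 15219, 31468], [250, 3, 31470, 15214, 2355], [264, 3, 26280, 31470, 15214], [385, 0, 24426, 31476, 27080], [387, 2, 27054, 31478, 29428], [255, 0, 29397, 31480, 26382], [251, 2, 26385, 31482, 29398], [387, 0, 29424, 31484, 27058], [256, 3, 26969, 31486, 23323], [385, 2, 27084, 31486, 24422], [255, 0, 2361, 31490, 26275], [263, 2, 26272, 31492, 2362], [256, 1, 2365, 31494, 26271], [252, 3, 26268, 31496, 2366], [256, 1, 2369, 31498, 26267], [250, 3, 26264, 31500, 2370, 2090], [7, 0, 26262, 31503, 10719], [16, 0, 26265, 31503], [4, 0, 26260, 31505, 10716], [7, 0, 26258, 31509, 2096], [16, 0, 26256, 31511, 2101], [15, 0, 27264, 31511, 2098], [8, 0, 26254, 31513, 634], [8, 0, 27131, 31515, 267], [3, 0, 26252, 31517, 633], [3, 0, 27133, 31519, 27657], [8, 0, 26250, 31521, 634], [8, 0, 27135, 31523, 27658], [15, 0, 26248, 31525, 2100], [17, 0, 27256, 31525, 630], [16, 0, 27137, 31527, 261], [7, 0, 26246, 31529,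 11292], [18, 0, 27255, 31529], [16, 0, 27120, 31531], [7, 0, 27139, 31533, 259], [3, 0, 27612, 31535], [4, 0, 27141, 31541, 257], [7, 0, 27143, 31545, 255], [15, 0, 27145, 31547, 253], [8, 0, 27147, 31549, 243], [3, 0, 27149, 31551, 241], [8, 0, 27151, 31553, 239], [15, 0, 27153, 31555, 244], [7, 0, 27155, 31557, 246], [16, 0, 27161, 31557], [4, 0, 27157, 31559, 248], [7, 0, 27159, 31563, 250], [15, 0, 27169, 31565], [388, 0, 31500, 11416, 11755], [330, 29, 3104, 3106, 3108, 3110, 19076, 19930, 19941, 31566, 27170, 27172, 27174, 27327, 27325, 27323, 27321, 27319, 27317, 27315, 27313, 27311, 27309, 27307, 27699, 25811, 182, 25652, 25654, 25656, 25658, 25660, 25662, 25664, 25666, 25668, 25670], [7, 0, 25670, 31570, 3098], [4, 0, 25668, 31573, 3100], [7, 0, 25666, 31575, 3102], [15, 0, 25664, 31577, 15122], [8, 0, 25662, 31579, 15124], [3, 0, 25660, 31581, 15126], [8, 0, 25658, 31583, 15128], [16, 0, 25656, 31585], [330, 34, 30538, 30540, 269, 267, 27657, 27658, 261, 259, 257, 255, 253, 243, 241, 239, 244, 246, 248, 250, 31566, 27170, 27172, 27174, 27327, 27325, 27323,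 27321, 27737, 25534, 25536, 25538, 25540, 25542, 25544, 25546, 25548], [8, 0, 25551, 31588, 4651], [15, 0, 25548, 31588], [3, 0, 25553, 31591, 29542], [3, 0, 29542, 31594], [8, 0, 31595, 27774, 31594, 25554]]
def dJ82 : List (List ℕ) := [[16, 0, 6911, 32739, 10670], [18, 0, 6313, 32739, 11429], [6, 0, 30577, 32741, 8219], [5, 0, 30650, 32741, 8405], [6, 0, 30616, 32743, 8345], [5, 0, 30585, 32743, 10757], [8, 0, 215, 32745, 11774], [16, 0, 2009, 32745, 11410], [28, 0, 32506, 32745, 1972], [27, 0, 19638, 32745, 12656], [29, 0, 29699, 32745, 12660], [3, 0, 3314, 32746], [13, 0, 11439, 32746], [18, 0, 3515, 32746], [28, 0, 10726, 32746, 6903], [30, 0, 32748, 10732, 32746, 6909], [15, 0, 4278, 32749, 32154], [30, 0, 32491, 32749, 11744], [8, 0, 12356, 32750], [4, 0, 32559, 32752, 32714], [5, 0, 32561, 32752, 28719], [8, 0, 32563, 32752, 4074], [16, 0, 12376, 32752], [28, 0, 32565, 32752, 32720, 32832], [30, 0, 32567, 32752, 32722], [16, 0, 15291, 32755, 3327], [7, 0, 12563, 32757, 3365], [16, 0, 32606, 32757, 26220], [6, 0, 30589, 32761], [8, 0, 4266, 32763, 11086],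 [7, 0, 4265, 32763, 1808], [30, 0, 32503, 32763, 11380], [30, 0, 4268, 32763], [16, 0, 11817, 32769, 30693], [3, 0, 8116, 32771], [4, 0, 8115, 32771], [16, 0, 11829, 32771, 30694], [16, 0, 11523, 32773, 14], [18, 0, 32494, 32773, 33], [6, 0, 11405, 32775], [3, 0, 8154, 32777], [4, 0, 8133, 32777], [5, 0, 8422, 32777], [3, 0, 8166, 32779], [4, 0, 8314, 32779], [6, 0, 8332, 32779], [15, 0, 12077, 32779], [14, 0, 30705, 32780, 11844], [15, 0, 30677, 32780], [6, 0, 6046, 32783, 3922], [5, 0, 9990, 32783, 3910], [7, 0, 28156, 32783, 1996], [14, 0, 28686, 32783, 30682], [30, 0, 32785, 27866, 32783, 3120], [30, 0, 5800, 32783], [8, 0, 27807, 32784, 32907, 3118], [7, 0, 27804, 32784, 32907, 3588], [16, 0, 30515, 32784, 32907], [28, 0, 28984, 32784, 32907, 14548], [28, 0, 30976, 32786], [5, 0, 30602, 32789], [4, 0, 30652, 32791], [6, 0, 30673, 32791], [8, 0, 7735, 32793, 11887], [16, 0, 7915, 32793, 12385], [3, 0, 11424, 32794], [15, 0, 31950, 32794], [18, 0, 11423, 32794], [4, 0, 30626, 32797], [5, 0, 30638, 32797], [6, 0, 30670, 32799], [8, 0, 6071, 32801, 11877], [16,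 0, 6297, 32801, 12392], [29, 0, 30018, 32801, 30782], [3, 0, 11430, 32802], [15, 0, 31940, 32802], [18, 0, 11429, 32802], [3, 0, 10789, 32804], [4, 0, 8420, 32804], [6, 0, 8219, 32804], [3, 0, 30644, 32807], [6, 0, 30649, 32807], [3, 0, 30618, 32809], [3, 0, 10759, 32810], [4, 0, 10744, 32810], [5, 0, 10757, 32810], [6, 0, 10755, 32810], [15, 0, 11867, 32810], [3, 0, 12517, 32812, 216], [7, 0, 11777, 32812], [8, 0, 11774, 32812], [11, 0, 11891, 32812], [12, 0, 11905, 32812], [28, 0, 11779, 32812, 31429], [30, 0, 11781, 32812, 15154], [3, 0, 11419, 32814], [8, 0, 11455, 32814, 1764], [8, 0, 13311, 32814], [13, 0, 12407, 32814], [16, 0, 11410, 32814], [28, 0, 12479, 32814, 3031], [27, 0, 29956, 32814, 19636], [30, 0, 11416, 32814, 3161], [7, 0, 4256, 32817, 1801], [18, 0, 4280, 32817], [30, 0, 19642, 32819, 24398], [30, 0, 29704, 32819], [28, 0, 29341, 32821], [3, 0, 10723, 32829], [28, 0, 14544, 32830, 19110], [30, 0, 6909, 32830], [7, 0, 12534, 32832, 2369], [15, 0, 32154, 32832], [27, 0, 32720, 32832, 24404], [13, 0, 28563, 32835], [5, 0, 30028, 32839, 32669],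 [8, 0, 24458, 32841, 14443], [16, 0, 32422, 32841], [27, 0, 28247, 32841], [30, 0, 32341, 32841, 14573], [3, 0, 29812, 32843, 4076], [15, 0, 15555, 32843, 28725], [6, 0, 10408, 32847, 10235], [5, 0, 10413, 32847, 5394], [8, 0, 5360, 32847, 12583], [15, 0, 10444, 32847, 2370], [28, 0, 19015, 32847, 29945], [29, 0, 29700, 32847], [30, 0, 19010, 32847], [7, 0, 26267, 32848, 32536], [16, 0, 31506, 32848, 2920], [30, 0, 32722, 32848], [16, 0, 15282, 32851, 14410], [4, 0, 12565, 32853, 3363], [16, 0, 33022, 32187, 32853, 25466], [30, 0, 12608, 32853], [18, 0, 32302, 32854], [28, 0, 11089, 32858], [30, 0, 23548, 32858, 32528], [29, 0, 32542, 32858, 10865], [8, 0, 3220, 32861], [16, 0, 32554, 32861, 1813], [18, 0, 32533, 32861, 3239], [28, 0, 14560, 32861, 19114], [29, 0, 32654, 32861, 32515], [3, 0, 14842, 32863], [5, 0, 14844, 32863], [6, 0, 14838, 32863], [11, 0, 28444, 32863], [16, 0, 30693, 32866], [15, 0, 30700, 32872], [16, 0, 30694, 32872], [28, 0, 30703, 32872], [7, 0, 11525, 32875, 2509], [9, 0, 6006, 32877, 8708], [15, 0, 30548, 32877, 31], [27, 0, 28289, 32877,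 4438], [29, 0, 29462, 32877, 4442], [16, 0, 30707, 32895], [7, 0, 3921, 32898, 27942], [15, 0, 3927, 32898, 19782], [7, 0, 28159, 32901, 3906], [11, 0, 28685, 32901], [15, 0, 30361, 32901, 3916], [29, 0, 27864, 32901], [30, 0, 7680, 32901], [3, 0, 32374, 32903, 2876], [16, 0, 4978, 32903, 4354], [16, 0, 4987, 32903], [8, 0, 30688, 32904, 15720], [7, 0, 30686, 32904, 28731], [14, 0, 30682, 32904], [18, 0, 30685, 32904], [3, 0, 11084, 32907], [10, 0, 4339, 32910, 2010], [9, 0, 10534, 32910, 8728], [12, 0, 4345, 32910, 2018], [15, 0, 2486, 32910, 192], [18, 0, 32592, 32910, 2479], [28, 0, 4432, 32910, 19084], [3, 0, 27690, 32912, 27566], [7, 0, 3588, 32912], [17, 0, 3590, 32912, 32731], [28, 0, 29538, 32912, 31275], [6, 0, 28986, 32917, 29486], [5, 0, 29877, 32917, 29488], [7, 0, 11888, 32926], [8, 0, 11887, 32926], [16, 0, 12385, 32928], [30, 0, 33045, 12390, 32928, 28717], [7, 0, 11878, 32942], [8, 0, 11877, 32942], [11, 0, 12143, 32942], [12, 0, 12933, 32942], [16, 0, 12392, 32944], [27, 0, 30998, 32944, 30845], [30, 0, 12404, 32944, 28228], [8, 0, 30765, 32946],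 [30, 0, 30788, 32946], [8, 0, 12519, 32977, 218]]
def dJ86 : List (List ℕ) := [[3, 0, 11512, 33722, 2350], [10, 0, 33205, 33722, 10395], [15, 0, 33207, 33722, 30104], [15, 0, 20136, 33724, 33726, 30135], [29, 0, 19007, 33726], [18, 0, 4418, 33729], [3, 0, 4369, 33731, 2350], [29, 0, 13404, 33733], [4, 0, 14016, 33735, 14010], [3, 0, 10878, 33736], [4, 0, 10874, 33736], [8, 0, 13165, 33736, 4658], [13, 0, 11845, 33736], [14, 0, 11865, 33736], [15, 0, 32897, 33736], [17, 0, 34154, 32454, 33736], [28, 0, 24400, 33739], [15, 0, 26273, 33743, 4381], [6, 0, 34091, 31683, 33744, 33759, 2538], [16, 0, 31690, 33744, 33759], [3, 0, 33147, 33746], [8, 0, 33162, 33746], [16, 0, 32915, 33746], [14, 0, 28690, 33749, 33761, 6556], [15, 0, 4657, 33749, 33761], [28, 0, 5808, 33749, 33761], [6, 0, 10217, 33751, 10512], [5, 0, 5011, 33751, 4674], [12, 0, 11295, 33751, 11092], [14, 0, 11299, 33751, 11096], [15, 0, 33694, 33753], [29, 0, 33763, 10697, 33753, 28743], [15, 0, 33712, 33755], [30, 0, 11629, 33757], [6, 0, 10853, 33759, 2538], [12, 0, 10867, 33759, 2594], [14, 0, 10871,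 33759, 8070], [15, 0, 10844, 33759, 34438], [18, 0, 2839, 33759], [29, 0, 32864, 33759], [11, 0, 3955, 33761, 942], [14, 0, 33142, 33761, 6556], [15, 0, 3681, 33761, 282], [18, 0, 1999, 33761], [30, 0, 32909, 33761], [6, 0, 8463, 33762], [11, 0, 10653, 33762], [13, 0, 10800, 33762], [14, 0, 8465, 33762], [17, 0, 32934, 33762], [23, 0, 8467, 33762], [26, 0, 7720, 33762], [27, 0, 10690, 33762], [18, 0, 11441, 33765], [15, 0, 14410, 33773, 3073], [28, 0, 33331, 33773, 14500, 33780, 34023], [3, 0, 25528, 33775, 3076], [28, 0, 31829, 33775, 14503], [30, 0, 31820, 33775, 14655, 34515], [27, 0, 24384, 33777, 14766], [29, 0, 34519, 24387, 33777, 14770], [8, 0, 34517, 34514, 14648, 34026, 1494], [16, 0, 14497, 33780, 34023], [16, 0, 24234, 33782], [8, 0, 23599, 33785, 3357], [7, 0, 3360, 33789, 255], [10, 0, 24917, 33789, 6225], [11, 0, 24921, 33789], [13, 0, 24925, 33789], [18, 0, 3466, 33789], [28, 0, 25141, 33789, 23412], [29, 0, 33788, 25146, 34287, 23408], [29, 0, 33339, 33789, 34543, 25176], [5, 0, 26569, 33791, 33949, 9533], [12, 0, 26213, 33791, 33949, 25242], [14,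 0, 26217, 33791, 33949, 25840], [18, 0, 3454, 33791, 33949], [18, 0, 32212, 33792, 34142], [28, 0, 31355, 33795, 29629], [4, 0, 23217, 33799, 34148, 32012], [10, 0, 25635, 33799, 34148, 32018], [14, 0, 25647, 33799, 34148, 32022], [15, 0, 31801, 33799, 34148, 11653], [4, 0, 11481, 33801, 2038], [28, 0, 12504, 33801, 2313], [6, 0, 23492, 33803, 32578, 33984], [5, 0, 23567, 33803, 34237], [12, 0, 32623, 33804, 29566], [14, 0, 32625, 33804, 29568], [3, 0, 28668, 33811], [8, 0, 28631, 33811], [16, 0, 17433, 33811, 3702], [30, 0, 29835, 33811], [4, 0, 16955, 33813, 31952], [4, 0, 16948, 33813], [13, 0, 17043, 33813], [14, 0, 17059, 33813], [27, 0, 17628, 33813], [29, 0, 17742, 33813], [6, 0, 17037, 33819, 13819], [14, 0, 17269, 33819], [17, 0, 33818, 30256, 33936, 33990, 13814], [24, 0, 34598, 17041, 33819, 34603, 10064], [23, 0, 34586, 17034, 33819, 34603, 10083], [28, 0, 32657, 33819, 34603, 7692, 33924, 33951], [2, 0, 34602, 33991, 33937], [30, 0, 33940, 32383, 33819, 34603, 32469], [3, 0, 17021, 33823, 34159, 12667], [16, 0, 17022, 33823, 34159, 13048], [16, 0,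 16, 33831], [18, 0, 19, 33831], [24, 0, 601, 33831, 87], [23, 0, 8579, 33831, 8712], [29, 0, 8058, 33835], [11, 0, 3872, 33837, 773], [18, 0, 33, 33837], [30, 0, 33390, 33837], [6, 0, 31215, 33839, 33092, 34176], [5, 0, 31366, 33839, 33094], [15, 0, 31220, 33839, 30900], [27, 0, 11394, 33839], [7, 0, 15269, 33840, 31178], [16, 0, 31209, 33843, 34469], [28, 0, 31211, 33843, 34469, 8388], [7, 0, 33845, 33847, 2568], [18, 0, 2843, 33847], [4, 0, 33964, 33353, 33849, 33376], [18, 0, 10861, 33849], [18, 0, 8551, 33851], [18, 0, 2847, 33853], [30, 0, 11291, 33857], [30, 0, 3179, 33859], [30, 0, 8561, 33861], [30, 0, 3183, 33863], [7, 0, 31197, 33867, 31178], [28, 0, 1980, 33869], [12, 0, 27984, 33871, 949], [28, 0, 27972, 33871], [27, 0, 29249, 33875], [16, 0, 32310, 33879], [18, 0, 27501, 33879], [3, 0, 27686, 33881, 27620], [30, 0, 5333, 33881], [18, 0, 28905, 33883], [8, 0, 19726, 33887, 3692], [27, 0, 23270, 33887], [15, 0, 15448, 33889, 7400], [15, 0, 28273, 33890], [15, 0, 6628, 33890, 34122], [4, 0, 25834, 33898], [13, 0, 25901, 33898], [14, 0, 25915, 33898],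 [16, 0, 27572, 33898], [27, 0, 8052, 33902], [12, 0, 3960, 33904, 949], [11, 0, 3975, 33904, 970], [18, 0, 1665, 33904], [30, 0, 33383, 33904], [12, 0, 8772, 33909, 8681], [11, 0, 8774, 33909, 8693], [18, 0, 1651, 33909], [29, 0, 33434, 33909], [18, 0, 1661, 33913], [29, 0, 33440, 33913], [7, 0, 18027, 33917, 5560], [16, 0, 28218, 33917], [16, 0, 3502, 33919], [18, 0, 3501, 33919], [16, 0, 28696, 33921], [3, 0, 25652, 33922], [6, 0, 25899, 33922], [8, 0, 25655, 33922, 15212], [8, 0, 30509, 33922], [13, 0, 25923, 33922], [14, 0, 25941, 33922], [16, 0, 32524, 33922], [27, 0, 34107, 31736, 33922, 24431], [29, 0, 32043, 33922], [6, 0, 10190, 33924, 33951, 32483], [5, 0, 10186, 33924, 33951, 32473], [8, 0, 32295, 33924, 33951, 33928], [13, 0, 32297, 33924, 33951], [2, 0, 34612, 34602, 34222], [4, 0, 12557, 33931, 309], [29, 0, 12603, 33931, 32436], [8, 0, 23170, 33934, 33951, 33928], [7, 0, 23366, 34610, 34613, 311], [15, 0, 29570, 34610, 34613, 439, 33949], [2, 0, 34612, 34602, 33991], [4, 0, 34018, 32385, 33941, 34613, 33926, 33962], [7, 0, 34768, 11474, 33941, 34613,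 311], [16, 0, 33954, 33410, 33941, 34613, 33932], [3, 0, 32330, 33945, 26676], [27, 0, 32327, 33945, 27631], [18, 0, 26927, 33947], [3, 0, 32053, 33949, 34739], [15, 0, 439, 33949], [27, 0, 33948, 29577, 34775, 2311], [7, 0, 3708, 33951, 311], [30, 0, 33468, 33955, 34783, 33993]]
def dJ90 : List (List ℕ) := [[16, 0, 34331, 34993, 35117, 35192], [16, 0, 13343, 34993, 35117], [4, 0, 10909, 34995, 34998], [3, 0, 24731, 34998, 36004], [12, 0, 25345, 34998], [16, 0, 34997, 34998], [8, 0, 3539, 35011, 218], [18, 0, 3657, 35011], [18, 0, 13065, 35013], [18, 0, 13069, 35015], [18, 0, 35708, 13073, 35017, 35709], [15, 0, 11630, 35018], [3, 0, 35950, 35879, 14025, 35028, 35402], [13, 0, 14085, 35028, 35402], [14, 0, 14099, 35028, 35402], [15, 0, 14776, 35028, 35402, 34461], [3, 0, 1799, 35031, 141], [12, 0, 13919, 35031, 13414], [14, 0, 13923, 35031, 12706], [28, 0, 1976, 35031], [30, 0, 14719, 35033], [30, 0, 14723, 35035], [3, 0, 30075, 35037], [15, 0, 20583, 35039, 30131], [15, 0, 30132, 35042], [3, 0, 2358, 35048, 225], [6, 0, 10293, 35048, 8951], [5, 0, 10290, 35048,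 8952], [7, 0, 2361, 35048, 226], [28, 0, 29313, 35048, 29799, 35904], [29, 0, 18997, 35048, 29802, 36059], [15, 0, 29277, 35050], [28, 0, 35051, 29304, 36057, 29800], [30, 0, 29805, 35050, 32120, 35976], [8, 0, 24256, 35053, 14596], [18, 0, 24417, 35053], [8, 0, 23323, 35055, 36066, 227], [15, 0, 23320, 35055, 36066, 228], [18, 0, 36067, 35054, 31488, 35976, 36066, 3646], [28, 0, 36056, 24420, 35055, 36066, 29800, 36064], [30, 0, 36079, 36065, 29422, 35055, 36066, 35979], [15, 0, 24594, 35057, 35489, 177], [2, 0, 35488, 35466, 35434], [15, 0, 25166, 35064], [16, 0, 33606, 35064], [8, 0, 4224, 35073, 33928, 35536], [3, 0, 27307, 35075, 25520], [17, 0, 27719, 35075], [27, 0, 35484, 31805, 35075], [29, 0, 32007, 35075], [7, 0, 35106, 26299, 35081, 15197, 35847], [27, 0, 27062, 35081, 15251], [8, 0, 6937, 35083], [16, 0, 3096, 35085, 35912], [15, 0, 3105, 35085, 1770], [4, 0, 24725, 35088], [11, 0, 25307, 35088], [12, 0, 25315, 35088], [13, 0, 25477, 35088], [3, 0, 11164, 35091, 10965], [30, 0, 13305, 35097], [30, 0, 13309, 35099], [30, 0, 35708, 13236, 35101, 35695],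 [18, 0, 35846, 31448, 35107, 36101, 4324], [27, 0, 35650, 27061, 35107, 36101, 24365], [23, 0, 30026, 35109, 35536, 9274], [3, 0, 14010, 35111, 141], [8, 0, 36130, 15544, 35113, 35514], [3, 0, 33633, 35114, 2062], [15, 0, 35668, 34228, 35114, 36002], [15, 0, 6613, 35117, 36002, 36138], [16, 0, 24448, 35119, 18830], [30, 0, 30008, 35119, 2293], [27, 0, 35862, 4161, 35121, 31628], [5, 0, 35608, 31643, 35122, 9170], [6, 0, 10177, 35132], [9, 0, 10178, 35132], [11, 0, 13641, 35132], [12, 0, 13689, 35132], [14, 0, 12811, 35132, 35516], [13, 0, 13533, 35132, 35518], [24, 0, 5816, 35132], [25, 0, 10078, 35132], [27, 0, 5813, 35132], [4, 0, 18560, 35135, 156], [7, 0, 8601, 35136, 27994], [12, 0, 8740, 35136, 28069], [14, 0, 8753, 35136, 16082], [28, 0, 34249, 35136], [6, 0, 31165, 35138, 35141, 9743], [5, 0, 31167, 35138, 35141, 35262], [7, 0, 17298, 35142], [14, 0, 17235, 35142, 35552], [13, 0, 17271, 35142, 35554], [15, 0, 34843, 35142, 35614], [4, 0, 2079, 35145, 156], [12, 0, 18255, 35145, 17116], [16, 0, 18192, 35145, 18014], [30, 0, 2289, 35145], [30, 0, 17749, 35147],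 [30, 0, 17753, 35149], [7, 0, 35153, 35155, 35264], [7, 0, 4249, 35157, 1781], [12, 0, 18123, 35159, 17116], [16, 0, 18120, 35159, 18014], [28, 0, 1991, 35159], [15, 0, 31928, 35161, 4632, 35358], [29, 0, 30031, 35161], [16, 0, 18185, 35167], [4, 0, 34259, 35168, 35583], [15, 0, 31365, 35171, 30824], [29, 0, 20464, 35175], [15, 0, 24588, 35982, 177], [4, 0, 34699, 35179, 35720], [13, 0, 34701, 35179, 35720], [14, 0, 34703, 35179, 35720], [16, 0, 34705, 35179, 35720], [28, 0, 35876, 32102, 35181, 32111, 35231], [3, 0, 33230, 35182, 35356], [6, 0, 9425, 35182], [9, 0, 9262, 35182], [23, 0, 9269, 35182], [26, 0, 7211, 35182], [12, 0, 27681, 35185, 35573], [16, 0, 19875, 35197], [3, 0, 35201, 35202], [7, 0, 15758, 35205, 34861], [8, 0, 13328, 35211, 7738], [4, 0, 17242, 35220], [14, 0, 33824, 35220], [3, 0, 35726, 33973, 35224, 35729, 11100], [8, 0, 33975, 35224, 35729, 2508], [12, 0, 33977, 35224, 35729, 2616], [11, 0, 33979, 35224, 35729, 2634], [13, 0, 33981, 35224, 35729], [16, 0, 26963, 35231, 36234], [18, 0, 33817, 35235], [7, 0, 17692, 35241, 17513], [4, 0,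 17514, 35243, 16586], [4, 0, 20575, 35251], [13, 0, 20591, 35251], [15, 0, 20563, 35251], [15, 0, 20560, 35251, 30124], [17, 0, 20578, 35251], [15, 0, 30127, 35258], [27, 0, 20458, 35258, 20462], [14, 0, 13559, 35261, 16986], [13, 0, 12847, 35261, 16999], [5, 0, 17200, 35270], [11, 0, 17304, 35270], [14, 0, 34590, 35270], [15, 0, 17046, 35270], [11, 0, 17328, 35272], [12, 0, 17331, 35272], [13, 0, 34592, 35272], [15, 0, 36266, 28528, 35272], [15, 0, 14481, 35274, 35738], [8, 0, 11721, 35277, 303], [3, 0, 4660, 35279], [3, 0, 34383, 35279, 34588], [7, 0, 34385, 35279, 35264], [8, 0, 30770, 35287, 35514, 36134], [8, 0, 19719, 35289, 303], [15, 0, 35631, 35292, 11661, 36234, 36270], [18, 0, 32037, 35293, 35630, 3653, 35910], [28, 0, 34939, 35293, 35630], [15, 0, 31474, 35294, 35635], [27, 0, 29319, 35297, 35329, 35298, 35302], [2, 0, 36334, 35328, 35296], [29, 0, 29715, 36336], [2, 0, 36334, 35328, 35301], [6, 0, 30809, 36340, 6330], [16, 0, 18926, 35302, 220], [8, 0, 7766, 35304, 7414], [15, 0, 30129, 35304], [6, 0, 34079, 35309, 36335, 6330], [28, 0, 34081, 35309,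 36335], [8, 0, 36350, 20760, 35311, 5374], [15, 0, 20763, 35311, 30094], [27, 0, 30829, 35311], [8, 0, 21279, 35312, 18131], [3, 0, 20310, 35317, 34588], [7, 0, 19812, 35319, 19693], [12, 0, 20339, 35319, 20242], [16, 0, 19910, 35321, 30341], [16, 0, 30327, 35325, 7409], [27, 0, 35906, 32126, 35335, 35974], [15, 0, 2912, 35341, 1770], [7, 0, 4635, 35358, 3190], [15, 0, 4632, 35358], [30, 0, 35359, 31930, 36213, 35093], [16, 0, 36102, 34989, 35371], [15, 0, 35377, 34445, 35764, 282], [24, 0, 30531, 35376, 36385, 1501], [27, 0, 30532, 35376, 36385, 35378], [18, 0, 14405, 35383], [18, 0, 14409, 35385], [3, 0, 19566, 35389, 292], [28, 0, 31813, 35393, 14507], [30, 0, 31816, 35393, 14683, 36397]]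
def dJ94 : List (List ℕ) := [[29, 0, 34065, 36421], [15, 0, 34461, 36422], [28, 0, 34504, 36422], [30, 0, 35348, 36422], [16, 0, 21833, 36431, 21552], [8, 0, 23130, 36433, 7763], [8, 0, 23572, 36435, 6099], [3, 0, 3354, 36437, 241], [11, 0, 22575, 36437], [13, 0, 22579, 36437], [16, 0, 22566, 36437], [18, 0, 3473, 36437], [28, 0, 22867, 36437, 22251], [29, 0, 36436, 22872, 37359, 22890], [8, 0, 37624, 23578, 36443, 36447, 175], [8, 0, 37627, 23619, 36444, 36469, 175], [12, 0, 23483, 36447, 22358], [30, 0, 23379, 36447], [3, 0, 24237, 36448, 36520], [13, 0, 24249, 36448, 36520], [16, 0, 18913, 36448, 36520], [29, 0, 36521, 36454, 24493, 36448, 36520], [30, 0, 24535, 36451], [30, 0, 24539, 36453], [15, 0, 24210, 36457, 23138], [16, 0, 7772, 36459, 36481], [18, 0, 24229, 36463], [18, 0, 24233, 36465], [15, 0, 23594, 36467, 36520], [6, 0, 9048, 36469, 9078], [12, 0, 36439, 36469, 22358], [18, 0, 36441, 36469], [5, 0, 5719, 36473], [8, 0, 23749, 36473], [10, 0, 5716, 36473], [11, 0, 23961, 36473], [12, 0, 23979, 36473], [13, 0, 23887, 36473], [14, 0, 23931, 36473],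 [24, 0, 5722, 36473], [25, 0, 9063, 36473], [3, 0, 23662, 36481], [4, 0, 23683, 36481], [6, 0, 9064, 36481], [8, 0, 23755, 36481], [9, 0, 9068, 36481], [11, 0, 23991, 36481], [12, 0, 24037, 36481], [13, 0, 23853, 36481], [14, 0, 23873, 36481], [23, 0, 9072, 36481], [26, 0, 7602, 36481], [3, 0, 25453, 36490], [8, 0, 25519, 36490, 11651], [15, 0, 35077, 36490], [16, 0, 35079, 36490], [28, 0, 25055, 36493], [28, 0, 25059, 36495], [7, 0, 25036, 36497], [28, 0, 24443, 36499], [28, 0, 24447, 36501], [29, 0, 24373, 36503, 36520, 37643], [8, 0, 23224, 36505, 175], [12, 0, 23313, 36505, 22358], [28, 0, 23223, 36505], [30, 0, 25135, 36507], [27, 0, 35068, 36509], [29, 0, 14709, 36509], [24, 0, 30391, 36517], [25, 0, 30377, 36517], [3, 0, 22583, 36533], [3, 0, 22070, 36533, 35356], [6, 0, 22589, 36533, 9914], [5, 0, 22597, 36533, 36238], [13, 0, 22605, 36533], [16, 0, 22565, 36533, 34439], [15, 0, 22073, 36533, 36379], [28, 0, 22687, 36533, 35578], [30, 0, 22769, 36533, 36214], [5, 0, 28357, 36542], [6, 0, 28359, 36542], [15, 0, 28361, 36542], [16, 0, 28363, 36542], [15,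 0, 27493, 36545], [29, 0, 29841, 36545], [3, 0, 13927, 36574, 4967], [7, 0, 13411, 36574], [8, 0, 13408, 36574], [11, 0, 13461, 36574], [12, 0, 13475, 36574], [15, 0, 14005, 36574], [16, 0, 28133, 36574], [5, 0, 6051, 36599], [10, 0, 6020, 36599], [24, 0, 5804, 36599], [25, 0, 9975, 36599], [27, 0, 34450, 36599], [29, 0, 34488, 36599], [14, 0, 33029, 36601, 8152], [3, 0, 28443, 36603, 10770], [10, 0, 28603, 36603], [12, 0, 11093, 36604, 2594], [14, 0, 11097, 36604, 8070], [28, 0, 1867, 36604], [30, 0, 34478, 36604], [16, 0, 36217, 36609], [18, 0, 3753, 36609], [10, 0, 8554, 36615, 1719], [28, 0, 3063, 36615], [30, 0, 34663, 36615], [3, 0, 19046, 36617, 308], [12, 0, 3065, 36621, 2516], [28, 0, 1816, 36621], [30, 0, 33865, 36621], [3, 0, 14639, 36629, 301], [29, 0, 14688, 36629, 37463], [28, 0, 23265, 36633, 37461, 23465], [16, 0, 29654, 36639], [4, 0, 28427, 36647], [6, 0, 28429, 36647], [15, 0, 19867, 36653, 5566], [3, 0, 13990, 36661, 36729], [15, 0, 36382, 36663], [15, 0, 3206, 36663, 2051], [15, 0, 30832, 36665, 30088, 37456], [4, 0, 14184, 36667], [28, 0,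 34350, 36673], [30, 0, 34352, 36673], [28, 0, 25649, 36685], [30, 0, 35483, 36685], [7, 0, 32994, 36687], [8, 0, 33214, 36687], [23, 0, 14193, 36707], [24, 0, 14195, 36707], [25, 0, 14197, 36707], [26, 0, 14190, 36707], [6, 0, 14201, 36709], [10, 0, 28699, 36709], [23, 0, 14217, 36709], [26, 0, 14219, 36709], [14, 0, 14796, 36719], [17, 0, 36718, 34886, 36719], [30, 0, 36842, 29857, 36721], [15, 0, 28395, 36723], [11, 0, 14793, 36725], [30, 0, 36812, 29861, 36725], [28, 0, 27842, 36726], [30, 0, 34056, 36726], [3, 0, 13148, 36731, 1707], [16, 0, 32335, 36731, 35561], [16, 0, 36312, 36734], [3, 0, 16200, 36736], [5, 0, 16270, 36736], [12, 0, 28464, 36736], [3, 0, 13843, 36746], [16, 0, 13089, 36746], [27, 0, 33914, 36773], [29, 0, 34632, 36773], [15, 0, 2014, 36799, 64], [28, 0, 2013, 36799], [30, 0, 34722, 36799], [28, 0, 28864, 36813], [28, 0, 28838, 36815], [30, 0, 34904, 36815], [28, 0, 28784, 36817, 36831], [29, 0, 36830, 29869, 36817, 36831], [8, 0, 23191, 36819, 1494], [28, 0, 35737, 36819], [30, 0, 35390, 36819], [28, 0, 28880, 36821], [29, 0, 36908, 29871,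 36821], [12, 0, 14786, 36823], [15, 0, 28437, 36823], [16, 0, 34737, 36823], [27, 0, 35338, 36823], [29, 0, 35366, 36823], [30, 0, 34726, 36825], [13, 0, 14805, 36831], [15, 0, 14952, 36831], [28, 0, 28850, 36833], [29, 0, 36910, 29858, 36833], [28, 0, 29240, 36843], [28, 0, 28796, 36845], [29, 0, 37312, 29862, 36845], [28, 0, 28774, 36851], [30, 0, 34903, 36851], [28, 0, 8684, 36853], [30, 0, 35195, 36853], [3, 0, 17467, 36865, 34923], [14, 0, 11517, 36877, 8152], [28, 0, 10715, 36877], [30, 0, 33770, 36877], [27, 0, 34677, 36887], [3, 0, 17896, 36929], [6, 0, 5953, 36929], [7, 0, 5565, 36929, 4643], [10, 0, 5951, 36929], [11, 0, 18425, 36929], [12, 0, 18441, 36929], [13, 0, 17949, 36929]]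
def dJ98 : List (List ℕ) := [[3, 0, 21479, 38892], [4, 0, 21487, 38892], [12, 0, 21318, 38892], [13, 0, 21399, 38892, 13036], [24, 0, 21454, 38892], [25, 0, 21456, 38892], [27, 0, 38902, 21664, 38892], [3, 0, 21489, 38894], [11, 0, 21323, 38894], [14, 0, 21401, 38894, 12305], [24, 0, 21470, 38894], [25, 0, 21476, 38894], [4, 0, 20107, 38897, 20842], [8, 0, 20117, 38897, 20468], [7, 0, 7410, 38897, 167], [12, 0, 20125, 38897, 20490], [14, 0, 20102, 38897, 20852], [15, 0, 17674, 38901], [4, 0, 21593, 38909, 39226], [18, 0, 38222, 38911], [15, 0, 20830, 38912], [17, 0, 20833, 38912], [7, 0, 21669, 38921, 39117], [14, 0, 21512, 38925, 12329], [13, 0, 21527, 38927, 12762], [7, 0, 21757, 38929, 2576], [7, 0, 5572, 38931, 163], [14, 0, 20959, 38931, 19950], [4, 0, 20971, 38948, 20066], [7, 0, 7414, 38948, 5569], [14, 0, 20964, 38948, 20092], [9, 0, 21460, 38953], [3, 0, 22432, 38955], [8, 0, 21152, 38957, 39117, 39244], [8, 0, 21028, 38979, 39117, 39244, 39266], [7, 0, 21996, 38981], [7, 0, 22009, 38983], [5, 0, 22422, 38985], [11, 0, 22486, 38987], [9, 0, 21440, 38989],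 [3, 0, 22310, 38991], [7, 0, 21540, 38991], [13, 0, 22491, 38993], [23, 0, 21472, 38995], [26, 0, 21474, 38995], [3, 0, 22324, 38997], [4, 0, 22493, 38997], [7, 0, 21518, 38997], [3, 0, 22401, 38999], [3, 0, 21497, 39005], [12, 0, 21393, 39005], [11, 0, 21410, 39009], [3, 0, 22944, 39011], [15, 0, 23665, 39011], [3, 0, 22948, 39036], [4, 0, 22939, 39036], [15, 0, 23677, 39036], [16, 0, 22629, 39045, 34448], [4, 0, 22308, 39047], [16, 0, 22701, 39051, 10961], [16, 0, 22676, 39083, 10912], [16, 0, 22756, 39085, 10912], [4, 0, 13982, 39091, 78], [4, 0, 13140, 39093, 39311], [15, 0, 13896, 39095, 35560], [4, 0, 17475, 39097, 16479], [6, 0, 38480, 39097], [3, 0, 13861, 39099], [15, 0, 17651, 39101], [8, 0, 29050, 39105, 28951], [24, 0, 30474, 39105], [25, 0, 30414, 39105], [3, 0, 16618, 39109, 16471], [8, 0, 21728, 39113, 22477], [3, 0, 35549, 39117], [4, 0, 35551, 39117], [8, 0, 36183, 39117, 39244, 39266, 39268], [7, 0, 6626, 39117, 6087], [13, 0, 35553, 39117], [15, 0, 36594, 39117], [16, 0, 37338, 39117], [5, 0, 8961, 39118], [6, 0, 8958, 39118], [7, 0, 7750, 39118,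 154], [23, 0, 8968, 39118], [24, 0, 8972, 39118], [25, 0, 8975, 39118], [26, 0, 7895, 39118], [4, 0, 4644, 39123, 39334], [8, 0, 36931, 39123], [11, 0, 36933, 39123], [14, 0, 36935, 39123], [16, 0, 36937, 39123, 229], [8, 0, 20977, 39151, 22477, 39346], [4, 0, 19038, 39157, 181], [9, 0, 30059, 39160, 10396], [15, 0, 37458, 39160], [15, 0, 37780, 39168, 38919], [9, 0, 28155, 39170, 39188], [15, 0, 11152, 39173, 10953], [4, 0, 18108, 39175, 36606], [14, 0, 20887, 39185, 39259, 19498], [10, 0, 21412, 39187], [23, 0, 21452, 39191], [26, 0, 21451, 39191], [23, 0, 21585, 39193], [24, 0, 21565, 39193], [25, 0, 21569, 39193], [26, 0, 21589, 39193], [4, 0, 21509, 39207], [11, 0, 21404, 39219], [4, 0, 20842, 39224], [14, 0, 20883, 39224], [15, 0, 20954, 39224], [3, 0, 21091, 39226, 39236], [8, 0, 20468, 39226], [11, 0, 20501, 39226], [12, 0, 20511, 39226], [15, 0, 21185, 39226], [8, 0, 20121, 39229], [12, 0, 19515, 39229, 20472], [14, 0, 19506, 39229, 19978], [16, 0, 38825, 39229, 38574], [15, 0, 38270, 39229, 39241], [13, 0, 20532, 39230], [14, 0, 20909, 39230], [3, 0,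 39402, 20891, 39232, 20596], [7, 0, 20859, 39232], [8, 0, 20861, 39232], [11, 0, 20857, 39232], [12, 0, 20855, 39232], [13, 0, 20865, 39232], [14, 0, 20852, 39232], [8, 0, 21510, 39247], [8, 0, 21520, 39249], [15, 0, 21759, 39251, 37142], [4, 0, 5570, 39253, 19134], [3, 0, 20071, 39253, 19145], [16, 0, 38615, 39253, 161], [24, 0, 5756, 39253], [25, 0, 9121, 39253], [15, 0, 21587, 39255], [16, 0, 21423, 39257, 39475, 19146], [16, 0, 36349, 39259, 38616], [15, 0, 20962, 39261], [2, 0, 39353, 39269, 39267], [8, 0, 39244, 39490], [15, 0, 21671, 39490], [16, 0, 21150, 39268, 39352, 39494], [7, 0, 22631, 39315, 36428], [7, 0, 22703, 39319, 10959], [7, 0, 22674, 39321, 10914], [7, 0, 22754, 39323, 10914], [15, 0, 22826, 39323], [7, 0, 13980, 39325, 83], [7, 0, 13138, 39327, 6618], [8, 0, 13894, 39329, 2547], [6, 0, 38814, 39331], [7, 0, 17477, 39331, 16477], [10, 0, 38818, 39331], [3, 0, 29048, 39339, 28949], [24, 0, 30477, 39339], [25, 0, 30417, 39339], [8, 0, 16616, 39345, 16469], [6, 0, 22474, 39346, 39386], [8, 0, 22477, 39346, 39386], [9, 0, 39387, 39347, 22479,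 39346, 39386], [24, 0, 38740, 39346, 39386], [25, 0, 38746, 39346, 39386], [16, 0, 21026, 39352, 39494, 39496], [3, 0, 6624, 39355], [16, 0, 37263, 39355, 38101], [16, 0, 36641, 39355], [6, 0, 8955, 39367], [16, 0, 38098, 39367, 18014], [24, 0, 8962, 39367], [25, 0, 8964, 39367], [4, 0, 39334, 39376], [7, 0, 13863, 39376, 4643, 39486], [3, 0, 18535, 39385], [16, 0, 21726, 39386, 20978], [7, 0, 19036, 39389, 179], [8, 0, 29125, 39391, 37444], [3, 0, 39447, 20568, 39394, 4967], [8, 0, 20145, 39394, 37772], [15, 0, 38919, 39394], [16, 0, 37454, 39394], [8, 0, 16849, 39397, 38923], [8, 0, 11142, 39399, 10951], [7, 0, 18106, 39401, 36104], [4, 0, 20889, 39403], [11, 0, 20932, 39403], [12, 0, 20935, 39403], [13, 0, 20893, 39403], [3, 0, 39236, 39428], [3, 0, 20479, 39440], [4, 0, 20481, 39440], [12, 0, 20472, 39440], [14, 0, 20477, 39440], [7, 0, 20531, 39442]]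
def dJ102 : List (List ℕ) := [[418, 2, 37865, 40790, 37864], [349, 0, 37566, 40800, 37567], [360, 1, 14432, 40800, 14433], [355, 2, 37569, 40802, 37568], [359, 2, 12408, 40802, 12409], [360, 3, 11992, 40802, 11993], [348, 1, 10804, 40810, 10805], [349, 0, 10826, 40810, 10827], [352, 1, 10808, 40810, 10809], [358, 1, 10798, 40810, 10799], [349, 2, 10786, 40818, 10787], [351, 2, 10764, 40818, 10765], [352, 3, 10766, 40818, 10767], [348, 1, 8342, 40824, 8343], [352, 3, 2800, 40826, 2801], [354, 3, 8351, 40826, 8350], [352, 1, 8358, 40830, 8359], [356, 1, 8282, 40830, 8283], [417, 1, 8288, 40830, 8289], [351, 2, 8428, 40834, 8429], [353, 2, 8494, 40834, 8495], [348, 1, 2680, 40840, 2681], [348, 1, 38681, 40808, 38680], [348, 1, 14321, 40806, 14320], [358, 1, 14341, 40806, 14340], [355, 2, 14334, 40848, 14335], [348, 1, 14357, 40850, 14356], [356, 3, 14359, 40852, 14358], [347, 0, 12252, 40798, 12253], [348, 1, 12264, 40798, 12265], [351, 2, 11902, 40858, 11903], [352, 3, 11929, 40858, 11928], [353, 2, 12920, 40858, 12921], [354, 3, 12923, 40858, 12922], [357, 2, 11961,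 40858, 11960], [358, 3, 11979, 40858, 11978], [417, 3, 12194, 40858, 12195], [418, 2, 12128, 40858, 12129], [351, 0, 12177, 40874, 12176], [355, 0, 12116, 40874, 12117], [351, 2, 12141, 40878, 12140], [352, 3, 12879, 40878, 12878], [353, 2, 12896, 40878, 12897], [418, 2, 12162, 40878, 12163], [348, 1, 39297, 40870, 39296], [352, 1, 13033, 40870, 13032], [355, 0, 11975, 40870, 11974], [351, 2, 39283, 40892, 39282], [358, 3, 11948, 40892, 11949], [348, 1, 12239, 40896, 12238], [352, 1, 12311, 40896, 12310], [356, 3, 12308, 40900, 12309], [357, 2, 12302, 40900, 12303], [352, 1, 12325, 40904, 12324], [348, 3, 13017, 40906, 13016], [356, 1, 13008, 40908, 13009], [348, 1, 39299, 40902, 39298], [358, 3, 21494, 40912, 21495], [355, 0, 21481, 40914, 21480], [347, 2, 39826, 40916, 39827], [417, 1, 18877, 40918, 18876], [359, 2, 18868, 40920, 18869], [360, 3, 19503, 40920, 19502], [358, 1, 39587, 40924, 39586], [355, 2, 20916, 40926, 20917], [347, 0, 20914, 40928, 20915], [357, 2, 20927, 40930, 20926], [356, 1, 20920, 40932, 20921], [348, 3, 20918, 40934, 20919], [358, 1,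 20542, 40936, 20543], [352, 3, 20546, 40938, 20547], [358, 1, 20032, 40940, 20033], [356, 3, 20009, 40942, 20008], [348, 1, 19988, 40944, 19989], [352, 3, 19967, 40946, 19966], [356, 3, 19965, 40946, 19964], [351, 0, 19446, 40950, 19447], [358, 1, 19452, 40950, 19453], [351, 2, 19294, 40954, 19295], [352, 3, 19265, 40954, 19264], [347, 0, 19417, 40958, 19416], [348, 1, 19381, 40958, 19380], [357, 0, 19351, 40958, 19350], [358, 1, 19333, 40958, 19332], [352, 3, 19481, 40966, 19480], [356, 3, 19335, 40966, 19334], [348, 1, 19391, 40970, 19390], [356, 3, 19385, 40972, 19384], [358, 3, 19388, 40972, 19389], [348, 1, 19369, 40976, 19368], [355, 0, 19361, 40976, 19360], [347, 2, 19218, 40980, 19219], [356, 1, 19408, 40982, 19409], [357, 0, 19216, 40982, 19217], [358, 1, 19233, 40982, 19232], [359, 2, 19147, 40986, 19146], [353, 0, 39740, 40990, 39741], [357, 0, 18657, 40990, 18656], [358, 1, 18631, 40990, 18630], [348, 3, 18633, 40996, 18632], [355, 2, 18798, 40996, 18799], [356, 3, 18801, 40996, 18800], [347, 0, 18794, 41002, 18795], [348, 1, 18806, 41002, 18807], [417,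 3, 18748, 41006, 18749], [418, 2, 18477, 41006, 18476], [355, 0, 18699, 41010, 18698], [418, 2, 18717, 41012, 18716], [354, 1, 18708, 41014, 18709], [358, 3, 18825, 41016, 18824], [352, 1, 18828, 41018, 18829], [356, 1, 18826, 41018, 18827], [358, 3, 18497, 41022, 18496], [351, 0, 18502, 41024, 18503], [355, 2, 18396, 41026, 18397], [357, 2, 17983, 41026, 17982], [347, 0, 17984, 41030, 17985], [351, 2, 17424, 41032, 17425], [357, 2, 17416, 41032, 17417], [351, 0, 17414, 41036, 17415], [356, 1, 17928, 41036, 17929], [351, 2, 17930, 41040, 17931], [357, 2, 17932, 41040, 17933], [351, 0, 17135, 41044, 17134], [352, 1, 17136, 41044, 17137], [347, 2, 17325, 41048, 17324], [358, 3, 17191, 41048, 17190], [352, 1, 17999, 41052, 17998], [357, 2, 18002, 41054, 18003], [358, 3, 18001, 41054, 18000], [356, 1, 17399, 41058, 17398], [352, 3, 17400, 41060, 17401], [348, 1, 17335, 41062, 17334], [358, 3, 17332, 41064, 17333], [351, 0, 18515, 41028, 18514], [347, 2, 18781, 41068, 18780], [355, 0, 18775, 41070, 18774], [357, 0, 18778, 41070, 18779], [347, 2, 18761, 41074, 18760],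 [352, 3, 17782, 40992, 17783], [359, 0, 17780, 41078, 17781], [351, 2, 17778, 41080, 17779], [347, 0, 17776, 41082, 17777], [351, 2, 17774, 41084, 17775], [359, 0, 17772, 41086, 17773], [352, 3, 17770, 41088, 17771], [348, 1, 17768, 41090, 17769], [352, 3, 17766, 41092, 17767], [354, 1, 17764, 41094, 17765], [350, 3, 17845, 41096, 17844], [360, 1, 17758, 41098, 17759], [347, 2, 38907, 41100, 38906], [351, 0, 20192, 41102, 20193], [359, 2, 40341, 41104, 40340], [352, 1, 29141, 41106, 29140], [348, 3, 29143, 41108, 29142], [352, 1, 29145, 41110, 29144], [360, 3, 38024, 41112, 38025], [351, 0, 28958, 41114, 28959], [347, 2, 28956, 41116, 28957], [351, 0, 28954, 41118, 28955], [360, 3, 28952, 41120, 28953], [352, 1, 28950, 41122, 28951], [348, 3, 28948, 41124, 28949], [352, 1, 28946, 41126, 28947], [360, 3, 28944, 41128, 28945], [351, 0, 28942, 41130, 28943], [347, 2, 28940, 41132, 28941], [351, 0, 28938, 41134, 28939], [356, 1, 19478, 40968, 19479], [357, 0, 19475, 40968, 19474], [352, 3, 39071, 40898, 39070], [358, 3, 12236, 40898, 12237], [352, 1, 39063, 41144,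 39062], [356, 3, 22524, 41146, 22525], [357, 2, 22518, 41146, 22519], [358, 3, 22521, 41146, 22520], [351, 0, 22347, 41152, 22346], [352, 1, 22376, 41152, 22377], [355, 0, 22344, 41152, 22345], [358, 3, 23111, 41158, 23110], [352, 1, 23114, 41160, 23115], [418, 2, 23056, 41162, 23057], [357, 0, 23046, 41164, 23047], [359, 2, 23859, 41166, 23858], [418, 2, 23043, 41166, 23042], [349, 0, 23007, 41170, 23006], [355, 2, 23064, 41172, 23065], [358, 1, 23081, 41174, 23080], [355, 2, 23074, 41176, 23075], [348, 1, 23083, 41178, 23082], [348, 1, 39265, 40794, 39264], [352, 1, 13741, 40762, 13740], [357, 0, 17216, 40694, 17217], [350, 3, 26033, 40670, 26032], [417, 3, 26059, 40670, 26058], [349, 0, 25981, 41190, 25980], [355, 2, 26160, 40662, 26161], [357, 0, 24092, 40552, 24093], [344, 3, 40095, 40508, 40094]]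
def dJ106 : List (List ℕ) := [[262, 1, 10798, 42390, 10799], [253, 2, 10786, 42400, 10787], [255, 2, 10764, 42400, 10765], [256, 3, 10766, 42400, 10767], [258, 3, 38399, 42400, 38398], [251, 0, 37908, 42408, 37909], [254, 1, 36939, 42408, 36938], [255, 0, 36943, 42408, 36942], [263, 0, 13841, 42408, 13840], [264, 1, 36967, 42408, 36966], [253, 2, 26000, 42418, 26001], [254, 3, 25997, 42418, 25996], [261, 2, 26031, 42418, 26030], [382, 3, 26025, 42418, 26024], [249, 0, 37270, 35840, 42426], [262, 1, 25979, 42426, 25978], [250, 3, 42430, 37767, 36591], [252, 3, 26039, 42430, 26038], [254, 3, 25981, 42430, 25980], [264, 3, 37766, 42430, 37767], [382, 3, 25991, 42430, 25990], [249, 0, 37278, 36970, 42440], [255, 0, 25863, 42440, 25862], [256, 1, 26183, 42440, 26182], [259, 0, 25861, 42440, 25860], [260, 1, 25950, 42440, 25951], [252, 3, 26167, 42450, 26166], [256, 3, 25954, 42450, 25955], [262, 3, 25948, 42450, 25949], [252, 1, 26143, 42456, 26142], [256, 1, 25381, 42456, 25380], [260, 1, 25401, 42456, 25400], [256, 3, 25402, 42462, 25403], [262, 3, 25397, 42462, 25396],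 [251, 0, 26169, 42466, 26168], [252, 1, 26133, 42466, 26132], [382, 1, 26077, 42466, 26076], [260, 3, 26068, 42472, 26069], [257, 0, 25321, 42474, 25320], [261, 2, 25420, 42476, 25421], [262, 3, 25423, 42476, 25422], [256, 1, 25428, 42480, 25429], [251, 2, 24690, 42482, 24691], [252, 3, 24689, 42482, 24688], [259, 0, 24849, 42486, 24848], [260, 1, 24846, 42486, 24847], [261, 0, 24656, 42486, 24657], [259, 2, 24822, 42492, 24823], [260, 3, 25359, 42492, 25358], [251, 0, 25354, 42496, 25355], [255, 2, 24181, 42498, 24180], [260, 3, 24709, 42498, 24708], [261, 2, 24162, 42498, 24163], [262, 3, 24159, 42498, 24158], [255, 0, 24166, 42506, 24167], [259, 0, 24164, 42506, 24165], [255, 2, 24145, 42510, 24144], [259, 0, 24189, 42512, 24188], [261, 0, 24147, 42512, 24146], [262, 1, 24894, 42512, 24895], [255, 2, 24900, 42518, 24901], [251, 0, 24119, 42520, 24118], [260, 1, 23840, 42520, 23841], [261, 2, 23844, 42524, 23845], [262, 3, 23838, 42524, 23839], [251, 0, 24121, 42526, 24120], [252, 1, 24085, 42526, 24084], [258, 1, 24738, 42526, 24739], [381, 0, 24050, 42526,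 24051], [382, 1, 23986, 42526, 23987], [256, 3, 24035, 42538, 24034], [257, 2, 24798, 42538, 24799], [260, 3, 23974, 42538, 23975], [255, 0, 24765, 42544, 24764], [256, 1, 23999, 42544, 23998], [382, 1, 24020, 42544, 24021], [255, 2, 24768, 42550, 24769], [257, 2, 23996, 42550, 23997], [260, 3, 24087, 42532, 24086], [261, 0, 24092, 42556, 24093], [260, 3, 24065, 42558, 24064], [381, 0, 23904, 42560, 23905], [251, 0, 24879, 42504, 24878], [262, 3, 26140, 42458, 26141], [252, 1, 26121, 42566, 26120], [266, 4, 25943, 25939, 42442, 13531], [311, 3, 26056, 42442, 13539], [250, 3, 42325, 42572, 36789], [250, 0, 42574, 42572, 36789], [281, 0, 12843, 42572, 26032, 26046], [313, 0, 12716, 42572, 26031, 26028], [249, 1, 36546, 35458, 42580], [266, 4, 25929, 25927, 42580, 12708], [282, 3, 42353, 16425, 36537, 42580], [86, 3, 13551, 12709, 42586], [98, 2, 12837, 36256, 42588, 13586, 36586], [209, 2, 17217, 42588, 13551, 12686], [266, 1, 42352, 42588, 36584, 26016], [201, 3, 26000, 42594, 37875, 11860], [299, 2, 26003, 26025, 42594], [300, 1, 25902, 26027, 42594], [315, 2,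 25902, 26029, 42594], [316, 1, 26003, 26022, 42594], [321, 1, 12090, 37874, 42604], [327, 1, 37418, 42353, 42604], [114, 2, 25996, 42606, 12063], [305, 3, 26019, 42606, 37022], [257, 2, 42610, 42418, 42611], [306, 0, 12098, 42610, 26024], [113, 2, 42612, 25967, 42616], [85, 0, 12067, 11832, 42618], [209, 4, 39003, 11800, 42618, 14163], [86, 2, 42622, 39003, 11447], [251, 0, 42623, 42374, 42622], [266, 4, 8081, 32883, 37944, 42622], [298, 3, 42628, 8411, 10643, 36742], [113, 1, 26032, 42630, 39003], [114, 0, 26035, 42630, 39275], [201, 1, 26038, 42630, 39275, 37565], [306, 0, 26066, 42630, 38761], [202, 3, 37850, 42625, 42638, 25939], [225, 2, 22525, 38751, 42638, 26123], [298, 3, 39029, 12046, 42638, 42571], [257, 0, 42645, 42318, 42644], [250, 3, 42646, 39029, 12035], [225, 2, 13510, 14035, 42634, 26137], [226, 4, 13740, 14031, 42634, 26138], [298, 3, 14432, 14158, 42634, 42317], [201, 4, 38680, 42645, 12844, 42654], [113, 3, 42657, 42655, 12840], [257, 0, 42653, 42471, 42652], [255, 2, 13741, 42660, 13740], [259, 2, 13761, 42660, 13760], [261, 2, 14384, 42660,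 14385], [262, 3, 13733, 42660, 13732], [257, 0, 14249, 42668, 14248], [258, 1, 13612, 42668, 13613], [260, 1, 13471, 42668, 13470], [381, 0, 13664, 42668, 13665], [255, 2, 14231, 42676, 14230], [257, 2, 13642, 42676, 13643], [259, 2, 14281, 42676, 14280], [255, 0, 14276, 42682, 14277], [256, 1, 14274, 42682, 14275], [258, 1, 14268, 42682, 14269], [255, 2, 14279, 42688, 14278], [382, 3, 14307, 42688, 14306], [251, 0, 14369, 42692, 14368], [252, 1, 14333, 42692, 14332], [261, 0, 14141, 42692, 14140], [255, 2, 14138, 42698, 14139], [260, 3, 14135, 42698, 14134], [251, 0, 14367, 42702, 14366], [255, 0, 13776, 42702, 13777], [261, 0, 13779, 42702, 13778], [251, 2, 14343, 42708, 14342], [255, 2, 13786, 42708, 13787], [259, 0, 13511, 42712, 13510], [261, 2, 14364, 42704, 14365], [298, 4, 37384, 37801, 11836, 42596], [250, 2, 42584, 42421, 42718], [314, 2, 2816, 42720, 12835, 12836], [249, 3, 36742, 42578, 42722], [312, 2, 12863, 42722, 10645], [263, 2, 42726, 42113, 42727], [256, 1, 8428, 42728, 8429], [258, 1, 8494, 42728, 8495], [261, 0, 36976, 42728, 36977], [382,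 1, 2774, 42728, 2775], [255, 2, 2632, 42736, 2633], [256, 3, 38034, 42734, 38035], [255, 0, 2800, 42740, 2801], [251, 2, 2663, 42742, 2662], [252, 3, 12216, 42364, 12217], [259, 2, 36299, 42354, 36298], [252, 1, 17313, 42748, 17312], [262, 1, 17333, 42748, 17332], [252, 3, 17334, 42752, 17335], [259, 2, 17326, 42752, 17327], [251, 0, 17324, 42756, 17325], [252, 1, 17349, 42756, 17348], [260, 3, 17351, 42760, 17350], [255, 2, 17104, 42758, 17105], [261, 2, 17173, 42758, 17172], [259, 0, 17102, 42764, 17103], [262, 1, 17394, 42764, 17395], [262, 3, 18003, 42768, 18002], [255, 0, 18515, 42306, 18514], [251, 2, 18781, 42774, 18780], [259, 0, 18775, 42776, 18774], [261, 0, 18778, 42776, 18779], [251, 2, 18761, 42780, 18760], [252, 3, 18619, 42778, 18618], [256, 3, 17782, 42258, 17783], [263, 0, 17780, 42786, 17781], [255, 2, 17778, 42788, 17779], [251, 0, 17776, 42790, 17777], [255, 2, 17774, 42792, 17775], [263, 0, 17772, 42794, 17773], [256, 3, 17770, 42796, 17771]]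
def dJ110 : List (List ℕ) := [[12, 0, 43173, 43991], [15, 0, 43872, 43991, 38525], [23, 0, 43588, 43991], [4, 0, 11332, 43996, 39423], [4, 0, 38898, 44003], [7, 0, 11111, 44003, 10959], [14, 0, 39425, 44006], [16, 0, 39800, 44006, 43584], [24, 0, 20112, 44006, 43586], [23, 0, 39634, 44006, 44005], [15, 0, 11113, 44011], [8, 0, 20345, 44014], [16, 0, 43584, 44014], [8, 0, 20074, 44016], [3, 0, 39633, 44019, 43992], [13, 0, 19217, 44019], [14, 0, 19243, 44019], [16, 0, 19147, 44019, 42997], [25, 0, 39637, 44019], [3, 0, 43992, 44028], [8, 0, 16436, 44028, 44027], [7, 0, 43673, 44035, 10962], [13, 0, 18631, 44035], [14, 0, 18657, 44035], [4, 0, 19946, 44040], [13, 0, 19969, 44040], [14, 0, 19977, 44040], [16, 0, 38214, 44040, 43202], [26, 0, 44036, 44040], [15, 0, 20158, 44043], [15, 0, 43675, 44043, 43877], [7, 0, 21097, 44054, 17783], [15, 0, 43297, 44054], [16, 0, 43202, 44054], [8, 0, 20355, 44061, 11134], [10, 0, 20352, 44061, 43510], [16, 0, 43868, 44061], [3, 0, 43520, 44063], [4, 0, 20357, 44069], [16, 0, 43728, 44069, 42951], [5, 0, 20405, 44071, 43984],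 [4, 0, 16463, 44079], [7, 0, 16460, 44079, 10943], [6, 0, 43980, 44080], [5, 0, 43740, 44085], [9, 0, 43752, 44085], [15, 0, 43760, 44085], [16, 0, 40377, 44085], [23, 0, 43474, 44085], [26, 0, 43476, 44085], [312, 1, 43970, 43865, 43118], [303, 2, 16860, 44100, 17775], [311, 2, 16863, 44100, 43968], [304, 1, 10939, 44104, 16864], [300, 3, 16867, 44106, 10940], [297, 0, 43778, 43770, 44091, 44108], [302, 0, 44096, 44089, 44108], [413, 3, 44096, 44099, 44108], [320, 1, 16869, 44114, 10942], [328, 1, 44111, 44114, 44092], [318, 3, 11367, 44118, 11308], [316, 0, 11117, 43806, 43763, 44120], [16, 0, 44110, 44122], [25, 0, 44120, 44122], [320, 1, 43765, 44127, 11118], [327, 0, 43771, 44127, 44124], [315, 3, 16866, 44130, 43723, 43441], [7, 0, 16864, 44133, 10914], [15, 0, 43107, 44135], [23, 0, 44104, 44135], [317, 1, 44114, 44113, 44130], [413, 0, 44130, 44097, 44098], [303, 2, 10918, 44142, 16868], [299, 1, 44144, 10917, 44138], [315, 0, 44146, 44117, 44082], [327, 3, 44148, 10937, 43867], [266, 3, 29024, 44150, 16556, 44083, 10944], [7, 0, 29022, 44153, 10946], [16,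 0, 43792, 44155], [281, 3, 11030, 44136, 43861, 44150], [328, 1, 44150, 43453, 44136], [317, 1, 43867, 43860, 44160], [281, 3, 16525, 44151, 44162, 10936], [46, 2, 44164, 44158], [361, 6, 10938, 10940, 10942, 10944, 10946, 43551, 38188, 39133, 43601, 10956, 10958, 10960, 10962, 10964, 38732, 38647, 2506, 37377, 36879, 34448, 36428, 44009, 10959, 44020, 11114, 11116, 11118, 43666, 20359, 44077, 11135, 44072, 20157, 20155, 20153, 43529, 43541, 36998, 37773, 5048, 37772, 37029, 43853, 10936, 44164, 44158], [113, 3, 44165, 44169, 44166], [114, 0, 44165, 44170, 44158], [218, 3, 10914, 44172, 44165, 10938], [220, 6, 16465, 44171, 44169, 44159, 44165, 10938, 44174], [281, 1, 43804, 44176, 16522, 16466], [217, 0, 16469, 44178, 11115, 43814, 43819], [16, 0, 22796, 44180, 43418], [5, 0, 43825, 44183], [8, 0, 22794, 44183, 21212], [16, 0, 38738, 44187], [265, 1, 21215, 44188, 10965, 11034, 44058], [3, 0, 21214, 44191], [8, 0, 21217, 44191, 20157], [26, 0, 43831, 44191], [15, 0, 43331, 44195], [16, 0, 40104, 44195], [298, 3, 43822, 44188, 43199, 43192, 43194], [7, 0, 20981,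 44202, 20371], [16, 0, 43194, 44202], [26, 0, 43904, 44202], [3, 0, 20983, 44205], [26, 0, 43907, 44205], [312, 1, 44188, 43531, 43528], [327, 2, 44188, 43533, 43528], [414, 1, 44216, 44215, 44209], [304, 3, 20370, 44218, 20152], [414, 1, 44212, 44220, 43827], [302, 2, 44223, 44184, 44221], [306, 2, 44223, 43820, 44221], [62, 2, 44226, 43821], [113, 2, 44226, 44225, 44229], [201, 1, 44211, 43821, 44230, 20154], [361, 3, 44230, 44224, 43821, 21212, 44193, 20157, 44198, 40016, 39348, 38922, 38623, 39155, 39034, 43191, 16450, 16452, 16454, 43759, 44093, 10942, 44082, 16464, 16466, 16468, 16470, 16472, 43889, 11318, 43880, 16480, 16482, 16484, 34922, 33670, 36870, 28009, 37075, 2567, 36794, 37445, 37346, 17783, 17801, 17782, 44064, 16433], [329, 7, 16433, 44234, 21212, 44193, 20157, 44200, 16856, 16858, 16860, 43119, 43369, 35997, 35186, 34982, 37862, 37089, 43354, 44095, 10942, 44082, 16464, 43409, 16588, 43398, 35474, 1770, 37514, 1771, 35912, 2567, 36792, 28009, 145, 37773], [361, 1, 43759, 44093, 44113, 44141, 44091, 10942, 44082, 16464, 16466, 16468, 16470, 16472,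 43889, 11318, 43880, 16480, 16482, 16484, 34922, 33670, 36870, 28009, 37075, 2567, 37901, 43709, 43706, 16588, 43393, 16485, 43851, 43852, 37028, 37773, 44236, 16433, 44234, 21212, 44193, 20157, 44200, 16856, 16858, 16860, 16884, 16861], [266, 4, 16923, 16858, 44238, 16455], [327, 2, 43720, 43962, 44238], [413, 0, 44128, 43777, 44242], [312, 3, 43721, 44244, 43666], [414, 2, 44246, 43962, 44103], [327, 0, 43924, 44248, 43676], [320, 3, 11123, 44250, 43941], [315, 3, 11125, 44253, 43948, 44251], [7, 0, 11127, 44255, 11122], [15, 0, 43005, 44257], [16, 0, 11129, 44257], [312, 1, 44260, 43891, 43947], [305, 1, 44263, 43958, 44262], [297, 1, 44259, 44265, 44263, 43957], [298, 0, 44266, 42998, 43901, 44240], [305, 3, 44268, 44266, 43480], [62, 2, 44267, 44270], [322, 1, 44267, 43483, 44273], [319, 2, 16856, 44274, 22820], [414, 3, 43468, 43467, 44276], [414, 3, 44277, 44279, 43967], [312, 1, 43965, 44280, 44201], [298, 1, 44198, 40019, 44199, 44282], [304, 3, 20157, 44282, 20375], [297, 3, 44286, 44073, 43510, 44072], [127, 4, 44288, 20374, 44284, 44232, 20984], [61,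 2, 44289, 44291], [321, 0, 44289, 44196, 44293], [319, 2, 20984, 44294, 20374], [328, 0, 43602, 42815, 44296], [281, 3, 21089, 44298, 43594, 44199], [282, 1, 44298, 43596, 42815, 20379], [45, 2, 44302, 44301], [217, 3, 44288, 20374, 44302, 20984], [219, 5, 44293, 44290, 20157, 44304, 44302, 20984, 44306], [220, 2, 44309, 20157, 44300, 44303, 20375, 44289, 44291], [282, 2, 44086, 43978, 21087, 44310], [249, 2, 42818, 44312, 20347], [328, 1, 44072, 44196, 44312], [327, 2, 20346, 44316, 43876], [316, 0, 43200, 10965, 44318], [37, 1, 4966, 44236], [265, 1, 44156, 40163, 1332, 296], [313, 2, 44051, 44056, 42997, 44044], [325, 0, 44053, 44056, 44032], [326, 1, 44051, 44056, 44030], [323, 2, 19408, 44330, 20005], [324, 3, 19411, 44330, 20524], [315, 0, 20520, 44334, 19405], [316, 1, 20528, 44334, 19417], [319, 2, 19264, 44338, 20497], [320, 3, 19297, 44338, 20508], [325, 2, 19333, 44338, 20486], [326, 3, 19351, 44338, 20518], [320, 1, 20907, 44346, 19998], [323, 0, 20515, 44346, 19346], [324, 1, 20516, 44346, 19349], [315, 2, 19204, 44352, 19989], [319, 2, 19447, 44352,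 20538], [320, 3, 19483, 44352, 20558], [325, 0, 20551, 44358, 19472], [326, 1, 20554, 44358, 19477], [383, 0, 44362, 42210, 44363], [323, 2, 19478, 44360, 20557], [319, 0, 20534, 44366, 19435], [383, 0, 44367, 42215, 44366], [323, 2, 19455, 44368, 20544], [319, 0, 20546, 44372, 19457], [315, 2, 19391, 44374, 20035], [325, 0, 19992, 44376, 19389], [326, 0, 20090, 20000, 44376], [77, 1, 19388, 44380], [100, 2, 19415, 19321, 19311, 19372, 19369, 19388, 44380], [309, 0, 44380, 20084, 20000], [310, 3, 44380, 20133, 39450], [325, 0, 44380, 20135, 39450], [323, 2, 20904, 44390, 19383], [324, 3, 20903, 44390, 19384], [414, 3, 44390, 44389, 44349], [299, 0, 20035, 44396, 20938]]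
def dJ114 : List (List ℕ) := [[13, 0, 39993, 45196, 37019], [16, 0, 37845, 45196, 37029], [15, 0, 40210, 45196, 144], [7, 0, 45134, 45198], [10, 0, 18709, 45215], [3, 0, 39349, 45220], [4, 0, 39351, 45220], [5, 0, 39364, 45220], [14, 0, 39357, 45220, 17878], [16, 0, 39359, 45220, 40303], [15, 0, 39361, 45220, 39873], [23, 0, 39370, 45220], [26, 0, 39372, 45220], [3, 0, 18341, 45229, 13018], [10, 0, 18727, 45229], [5, 0, 17959, 45231, 42592], [10, 0, 44805, 45231], [5, 0, 40288, 45233], [7, 0, 38660, 45233, 2576], [10, 0, 40290, 45233], [23, 0, 40296, 45233], [26, 0, 40298, 45233], [3, 0, 37087, 45234], [5, 0, 9753, 45234], [14, 0, 37091, 45234], [15, 0, 36023, 45234], [16, 0, 37093, 45234], [23, 0, 9650, 45234], [26, 0, 8024, 45234], [7, 0, 43525, 45241], [8, 0, 18711, 45245], [12, 0, 39748, 45245], [10, 0, 44801, 45253], [11, 0, 18668, 45253], [4, 0, 17987, 45254, 13516], [4, 0, 17976, 45254], [8, 0, 18596, 45254], [10, 0, 44797, 45254], [7, 0, 18828, 45256], [10, 0, 44795, 45256], [13, 0, 36116, 45259, 24615], [24, 0, 25505, 45259, 45429], [23, 0, 25479, 45259,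 24960], [4, 0, 39305, 45265, 309], [3, 0, 1774, 45265, 39034], [16, 0, 40100, 45265, 34896], [3, 0, 44385, 45278], [13, 0, 44383, 45278], [24, 0, 20085, 45278], [25, 0, 20091, 45278], [7, 0, 19482, 45301], [8, 0, 19470, 45301], [13, 0, 19476, 45301], [3, 0, 45280, 45305], [23, 0, 44409, 45305], [26, 0, 44557, 45305], [3, 0, 45140, 45313], [4, 0, 20012, 45313], [7, 0, 20044, 45325], [13, 0, 20042, 45325], [14, 0, 20041, 45325], [8, 0, 19998, 45331], [11, 0, 19996, 45331], [13, 0, 20000, 45331], [23, 0, 44387, 45331], [26, 0, 44377, 45331], [3, 0, 44715, 45388], [4, 0, 44673, 45388], [7, 0, 18053, 45388, 17118], [14, 0, 44712, 45388, 17419], [23, 0, 17463, 45388, 18054, 45737], [3, 0, 18400, 45393, 13722], [10, 0, 44802, 45395], [10, 0, 44806, 45399], [4, 0, 24611, 45424, 43401], [10, 0, 45749, 43404, 45424, 40276], [9, 0, 37146, 45424, 37112], [13, 0, 24645, 45424], [14, 0, 24661, 45424], [4, 0, 39742, 45440], [3, 0, 39913, 45442], [5, 0, 39546, 45442], [15, 0, 40396, 45442, 39132], [23, 0, 39550, 45442], [26, 0, 39552, 45442], [14, 0, 39752, 45448], [10, 0, 44812,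 45450], [13, 0, 39754, 45450], [6, 0, 40286, 45452], [7, 0, 38964, 45452, 2507], [9, 0, 40292, 45452], [16, 0, 40285, 45452], [24, 0, 40294, 45452], [25, 0, 40300, 45452], [5, 0, 9756, 45454], [15, 0, 40407, 45454], [23, 0, 9659, 45454], [26, 0, 8023, 45454], [16, 0, 44206, 45461, 45580, 176], [4, 0, 45796, 20372, 45467, 36597], [8, 0, 4965, 45496], [8, 0, 35855, 45532], [12, 0, 35857, 45532], [8, 0, 43601, 45535], [24, 0, 18043, 45537], [25, 0, 18047, 45537], [9, 0, 44815, 45539, 42654], [3, 0, 39942, 45541], [8, 0, 2365, 45543, 33671], [7, 0, 38123, 45543, 2065], [7, 0, 44708, 45551], [7, 0, 17893, 45555], [8, 0, 18007, 45555], [10, 0, 44808, 45555], [13, 0, 17889, 45555], [5, 0, 23892, 45557], [6, 0, 23889, 45557], [13, 0, 23919, 45557], [13, 0, 37674, 45557, 37749], [15, 0, 23911, 45557, 39029], [23, 0, 23913, 45557], [24, 0, 23914, 45557], [25, 0, 23916, 45557], [26, 0, 23908, 45557], [4, 0, 35351, 45565], [8, 0, 2537, 45565], [11, 0, 2737, 45565], [12, 0, 8383, 45565], [14, 0, 8424, 45565, 40186], [14, 0, 8385, 45565], [7, 0, 43709, 45574], [8, 0, 43737,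 45574], [3, 0, 36999, 45580], [8, 0, 1773, 45580], [12, 0, 38701, 45580, 22358], [13, 0, 37003, 45580, 22921], [5, 0, 5856, 45582], [12, 0, 23141, 45582, 22302], [14, 0, 23027, 45582, 38759], [13, 0, 23053, 45582, 38775], [24, 0, 5725, 45582], [25, 0, 9070, 45582], [12, 0, 45585, 22599, 45688, 39016], [24, 0, 22601, 45584], [25, 0, 22603, 45584], [7, 0, 37424, 45589], [8, 0, 17414, 45589], [13, 0, 17420, 45589], [3, 0, 22901, 45595], [14, 0, 22969, 45595, 37571], [13, 0, 22985, 45595, 37583], [16, 0, 23624, 45595, 2341], [6, 0, 23006, 45599, 39274], [12, 0, 23064, 45599, 14032], [11, 0, 23079, 45601, 37016], [8, 0, 43862, 45603, 1494, 45691], [7, 0, 6356, 45603, 43853], [14, 0, 40089, 45603], [4, 0, 224, 45605], [7, 0, 17883, 45616], [8, 0, 17885, 45616], [14, 0, 17878, 45616], [16, 0, 40303, 45618], [4, 0, 1767, 45621], [5, 0, 37065, 45621], [8, 0, 37862, 45621, 299], [8, 0, 1764, 45621], [10, 0, 37067, 45621], [13, 0, 35921, 45621], [16, 0, 37069, 45621], [23, 0, 37071, 45621], [26, 0, 37073, 45621], [7, 0, 37406, 45627], [8, 0, 17384, 45627], [14, 0, 17387,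 45627], [7, 0, 44726, 45631], [6, 0, 40176, 45637], [10, 0, 40182, 45637], [15, 0, 40232, 45637, 37142], [23, 0, 40194, 45637], [26, 0, 40196, 45637], [3, 0, 17996, 45669], [3, 0, 4951, 45681], [8, 0, 35473, 45681, 23626], [10, 0, 9460, 45681, 37113], [12, 0, 36113, 45681, 23756], [11, 0, 36115, 45681, 23770], [15, 0, 40501, 45681, 40473], [15, 0, 25492, 45683], [15, 0, 24952, 45684], [23, 0, 24960, 45684], [24, 0, 45426, 45684], [25, 0, 45432, 45684], [26, 0, 24966, 45684], [16, 0, 23685, 45687, 37141], [3, 0, 39034, 45688], [4, 0, 38950, 45688], [5, 0, 5859, 45688], [12, 0, 45587, 45688], [13, 0, 39040, 45688, 39020]]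
def dJ118 : List (List ℕ) := [[291, 2, 47186, 12820, 47187], [307, 2, 47186, 12832, 12674], [308, 1, 47186, 12830, 36298], [323, 2, 47186, 12829, 36298], [324, 1, 47186, 12834, 12674], [339, 2, 47186, 41363, 47187], [355, 2, 47186, 40675, 47187], [371, 2, 47186, 12818, 47187], [0, 0], [235, 3, 13593, 42591, 17217, 39127, 46019, 47184, 47216], [174, 2, 47218, 38855, 38848], [234, 3, 47218, 38855, 233, 46019], [259, 2, 47218, 42334, 47219], [275, 2, 47218, 13597, 47219], [291, 2, 47218, 13599, 47219], [307, 2, 47218, 13601, 12987], [308, 1, 47218, 13603, 37274], [323, 2, 47218, 13605, 37274], [324, 1, 47218, 13607, 12987], [339, 2, 47218, 41365, 47219], [355, 2, 47218, 40677, 47219], [371, 2, 47218, 13609, 47219], [0, 0], [0, 0], [237, 4, 42591, 17217, 39127, 46019, 17102, 47244, 47246], [70, 1, 47246, 47248], [133, 2, 47248, 44570, 37581], [134, 1, 47248, 44568, 18773], [135, 0, 14335, 37581, 47252, 47248, 47250], [136, 5, 18775, 18773, 47254, 47248, 47250], [173, 1, 47248, 12837, 47187], [174, 2, 47248, 45774, 45663], [178, 0, 45592, 45663, 47262, 47248, 47250],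 [226, 2, 47248, 45772, 46463, 24869], [228, 7, 25380, 25385, 24871, 24869, 47266, 47248, 47250], [233, 1, 47248, 42591, 17217, 46675], [234, 3, 47248, 45774, 45759, 38848], [259, 2, 47248, 42323, 47249], [275, 2, 47248, 12860, 47249], [291, 2, 47248, 12858, 47249], [307, 2, 47248, 12862, 12690], [308, 1, 47248, 12864, 36304], [323, 2, 47248, 12866, 36304], [324, 1, 47248, 12868, 12690], [339, 2, 47248, 41394, 47249], [355, 2, 47248, 40704, 47249], [371, 2, 47248, 12856, 47249], [372, 1, 47246, 47292, 47247], [356, 1, 47246, 47290, 47247], [340, 1, 47246, 47288, 47247], [323, 2, 12756, 47286, 47247], [383, 2, 47300, 42120, 47301], [395, 2, 47300, 12765, 47301], [405, 2, 47300, 12767, 47301], [413, 2, 47300, 44695, 44682], [324, 1, 17326, 47284, 47247], [318, 0, 47310, 46802, 46381], [413, 0, 47310, 44694, 44683], [0, 0], [0, 0], [239, 5, 13556, 36256, 39127, 46019, 17102, 47244, 47316, 47318], [70, 1, 47318, 47320], [173, 1, 47320, 38853, 38848], [174, 2, 47320, 13586, 47219], [177, 5, 38851, 38848, 47324, 47320, 47322], [233, 1, 47320, 13556, 45770, 45663], [234,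 3, 47320, 13586, 36586, 46734], [238, 5, 47318, 47320, 13586, 38855, 233, 46019, 17102], [259, 2, 47320, 42416, 47321], [275, 2, 47320, 13576, 47321], [291, 2, 47320, 13578, 47321], [307, 2, 47320, 13583, 12963], [308, 1, 47320, 13581, 37264], [323, 2, 47320, 13574, 37264], [324, 1, 47320, 13585, 12963], [339, 2, 47320, 41360, 47321], [355, 2, 47320, 40672, 47321], [371, 2, 47320, 13572, 47321], [372, 1, 47318, 47354, 47319], [356, 1, 47318, 47352, 47319], [340, 1, 47318, 47350, 47319], [320, 2, 14160, 14034, 47348], [323, 2, 13510, 47348, 47319], [320, 2, 47364, 47079, 47065], [383, 2, 47364, 42713, 47365], [395, 2, 47364, 13519, 47365], [405, 2, 47364, 13521, 47365], [413, 2, 47364, 44692, 44681], [324, 1, 17350, 47346, 47319], [413, 0, 47376, 44693, 44680], [0, 0], [179, 4, 47218, 13587, 38853, 38848, 13624, 47329, 47380], [70, 2, 47382, 47218], [174, 2, 47382, 47221, 13624], [233, 1, 47382, 47217, 47193, 12916], [234, 3, 47382, 47221, 46729, 17398], [259, 2, 47382, 47225, 47383], [275, 2, 47382, 47227, 47383], [291, 2, 47382, 47229, 47383], [307, 2, 47382,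 47231, 12985], [308, 1, 47382, 47233, 47083], [323, 2, 47382, 47235, 47083], [324, 1, 47382, 47237, 12985], [339, 2, 47382, 47239, 47383], [355, 2, 47382, 47241, 47383], [371, 2, 47382, 47243, 47383], [320, 2, 37025, 37010, 47404], [0, 0], [229, 4, 35677, 39154, 235, 39145, 36152, 13414, 47414], [113, 2, 47416, 44835, 24739], [125, 2, 47416, 14229, 14247], [126, 1, 47416, 14231, 13643], [225, 1, 47416, 35677, 39154, 45501], [257, 2, 47416, 42679, 47417], [273, 2, 47416, 14235, 47417], [289, 2, 47416, 14237, 47417], [305, 2, 47416, 14239, 13645], [306, 1, 47416, 14256, 14249], [321, 2, 47416, 14262, 14249], [322, 1, 47416, 14241, 13645], [337, 2, 47416, 41442, 47417], [353, 2, 47416, 40752, 47417], [369, 2, 47416, 14243, 47417], [85, 0, 46552, 46757, 47418], [0, 0], [239, 4, 47186, 36256, 42588, 38853, 38848, 13624, 46692, 47448], [70, 2, 47450, 47186], [133, 2, 47450, 47189, 46151], [134, 1, 47450, 47191, 18753], [173, 1, 47450, 47193, 12916], [174, 2, 47450, 47260, 47247], [225, 2, 47450, 47191, 44916, 24707], [234, 3, 47450, 47260, 47273, 13624], [259, 2, 47450,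 47197, 47451], [275, 2, 47450, 47199, 47451], [291, 2, 47450, 47201, 47451], [307, 2, 47450, 47203, 12333], [308, 1, 47450, 47205, 46948], [323, 2, 47450, 47207, 46948], [324, 1, 47450, 47209, 12333], [339, 2, 47450, 47211, 47451], [355, 2, 47450, 47213, 47451], [371, 2, 47450, 47215, 47451], [0, 0], [241, 2, 13649, 38849, 38852, 47486], [94, 1, 47488, 46796, 14387], [174, 1, 47488, 38867, 45268], [209, 2, 47488, 46796, 46798, 25361], [261, 2, 47488, 42676, 47489], [277, 2, 47488, 13653, 47489], [293, 2, 47488, 13655, 47489], [309, 2, 47488, 13664, 13733], [326, 1, 47488, 13666, 13733], [341, 2, 47488, 41444, 47489], [357, 2, 47488, 40754, 47489], [373, 2, 47488, 13657, 47489], [0, 0], [243, 3, 14274, 14277, 13625, 38849, 38852, 47486, 47512], [93, 2, 47514, 47147, 47117], [94, 1, 47514, 46570, 22519], [173, 2, 47514, 35679, 35680], [242, 3, 47514, 35679, 39152, 38852], [261, 2, 47514, 42686, 47515], [277, 2, 47514, 13691, 47515], [293, 2, 47514, 13693, 47515], [309, 2, 47514, 13713, 13743], [310, 1, 47514, 14304, 44639], [325, 2, 47514, 14299, 44639], [326, 1,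 47514, 13711, 13743], [341, 2, 47514, 41439, 47515], [357, 2, 47514, 40749, 47515], [373, 2, 47514, 13695, 47515], [0, 0], [0, 0], [245, 4, 14277, 13625, 38849, 38852, 13586, 47544, 47546], [78, 1, 47546, 47548], [94, 1, 47548, 46481, 13755], [96, 5, 13757, 13755, 47552, 47548, 47550], [173, 2, 47548, 38869, 45268], [174, 1, 47548, 14281, 47489], [210, 2, 47548, 46478, 46240, 24704], [212, 7, 24830, 24835, 24137, 24704, 47560, 47548, 47550], [241, 1, 47548, 14277, 13625, 47324], [242, 3, 47548, 38869, 39155, 35680], [261, 2, 47548, 42683, 47549], [277, 2, 47548, 14287, 47549], [293, 2, 47548, 14289, 47549], [309, 2, 47548, 14291, 13757], [326, 1, 47548, 14293, 13757], [341, 2, 47548, 41432, 47549], [357, 2, 47548, 40742, 47549], [373, 2, 47548, 14295, 47549], [374, 1, 47546, 47582, 47547], [358, 1, 47546, 47580, 47547], [342, 1, 47546, 47578, 47547], [325, 2, 13754, 47576, 47547], [383, 2, 47590, 42706, 47591], [395, 2, 47590, 13774, 47591], [405, 2, 47590, 13772, 47591], [310, 1, 13754, 47574, 47547]]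
def dJ122 : List (List ℕ) := [[299, 2, 48778, 46081, 46070], [300, 1, 48778, 48075, 48062], [315, 2, 48778, 48081, 48062], [316, 1, 48778, 46083, 46070], [331, 2, 48778, 41222, 48779], [347, 2, 48778, 40536, 48779], [363, 2, 48778, 23903, 48779], [0, 0], [179, 4, 48720, 48415, 46009, 48232, 48266, 48639, 48814], [70, 2, 48816, 48720], [133, 2, 48816, 48729, 48333], [134, 1, 48816, 48705, 24091], [174, 2, 48816, 48711, 48266], [226, 2, 48816, 48763, 46671, 46675], [233, 1, 48816, 48714, 46317, 24026], [259, 2, 48816, 48765, 48817], [275, 2, 48816, 48767, 48817], [291, 2, 48816, 48769, 48817], [307, 2, 48816, 48771, 24087], [308, 1, 48816, 48772, 48385], [323, 2, 48816, 48774, 48385], [324, 1, 48816, 48758, 24087], [339, 2, 48816, 48754, 48817], [355, 2, 48816, 48752, 48817], [371, 2, 48816, 48750, 48817], [318, 2, 47008, 47039, 48842], [0, 0], [233, 2, 48778, 46009, 48232, 48852], [234, 3, 48854, 48787, 23927, 46430], [259, 2, 48854, 48791, 48855], [275, 2, 48854, 48797, 48855], [291, 2, 48854, 48799, 48855], [307, 2, 48854, 48801, 24113], [308, 1, 48854, 48803,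 48459], [323, 2, 48854, 48805, 48459], [324, 1, 48854, 48807, 24113], [339, 2, 48854, 48809, 48855], [355, 2, 48854, 48811, 48855], [371, 2, 48854, 48813, 48855], [317, 1, 44655, 46494, 48870], [321, 1, 48018, 48191, 48870], [125, 0, 48880, 47765, 47756], [0, 0], [0, 0], [237, 4, 48420, 48415, 46009, 48232, 48266, 48884, 48886], [70, 1, 48886, 48888], [173, 1, 48888, 48786, 48855], [226, 2, 48888, 46506, 47486, 47558], [228, 7, 47627, 47367, 47492, 47558, 48894, 48888, 48890], [233, 1, 48888, 48420, 48415, 48718], [234, 3, 48888, 46231, 46228, 40224], [238, 5, 48886, 48888, 46231, 48776, 48781, 46435, 25425], [259, 2, 48888, 42038, 48889], [275, 2, 48888, 23933, 48889], [291, 2, 48888, 23935, 48889], [307, 2, 48888, 23959, 24075], [308, 1, 48888, 48161, 48521], [323, 2, 48888, 48163, 48521], [324, 1, 48888, 23955, 24075], [339, 2, 48888, 41207, 48889], [355, 2, 48888, 40521, 48889], [371, 2, 48888, 23937, 48889], [372, 1, 48886, 48922, 48887], [356, 1, 48886, 48920, 48887], [340, 1, 48886, 48918, 48887], [317, 1, 44581, 46486, 48916], [324, 1, 48518, 48914, 48887],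 [318, 0, 48932, 48562, 44653], [383, 0, 48932, 48561, 48933], [395, 0, 48932, 48559, 48933], [405, 0, 48932, 48557, 48933], [301, 2, 48562, 44598, 48934], [0, 0], [237, 3, 24074, 23732, 46079, 37027, 48164, 48200, 48944], [70, 2, 48946, 24074], [133, 2, 48946, 46556, 26137], [173, 1, 48946, 24116, 24111], [226, 2, 48946, 46555, 14037, 14032], [238, 5, 48946, 24074, 46159, 46156, 23723, 23807, 23829], [259, 2, 48946, 42036, 48947], [275, 2, 48946, 24079, 48947], [291, 2, 48946, 24081, 48947], [307, 2, 48946, 48538, 48519], [308, 1, 48946, 48910, 48887], [323, 2, 48946, 48916, 48887], [324, 1, 48946, 48540, 48519], [339, 2, 48946, 41219, 48947], [355, 2, 48946, 40533, 48947], [371, 2, 48946, 24083, 48947], [318, 2, 47643, 48563, 48970], [0, 0], [239, 4, 48854, 48778, 23895, 40229, 40224, 24026, 48828, 48980], [70, 2, 48982, 48854], [174, 2, 48982, 48892, 48887], [225, 2, 48982, 48883, 47757, 47925], [234, 3, 48982, 48892, 48901, 24026], [259, 2, 48982, 48859, 48983], [275, 2, 48982, 48861, 48983], [291, 2, 48982, 48863, 48983], [307, 2, 48982, 48865, 24111], [324,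 1, 48982, 48871, 24111], [339, 2, 48982, 48873, 48983], [355, 2, 48982, 48875, 48983], [371, 2, 48982, 48877, 48983], [318, 2, 46624, 46658, 49000], [319, 1, 42602, 46662, 49000], [0, 0], [259, 2, 49013, 38570, 49012], [275, 2, 49013, 1334, 49012], [291, 2, 49013, 1420, 49012], [339, 2, 49013, 38936, 49012], [355, 2, 49013, 38938, 49012], [371, 2, 49013, 478, 49012], [0, 0], [69, 1, 49012, 49026], [259, 2, 49027, 49015, 49026], [275, 2, 49027, 49017, 49026], [291, 2, 49027, 49019, 49026], [339, 2, 49027, 49021, 49026], [355, 2, 49027, 49023, 49026], [371, 2, 49027, 49025, 49026], [0, 0], [77, 1, 46178, 49042], [261, 2, 49043, 44790, 49042], [277, 2, 49043, 25514, 49042], [293, 2, 49043, 25510, 49042], [313, 2, 24631, 45431, 45976, 49042], [341, 2, 49043, 44784, 49042], [357, 2, 49043, 44778, 49042], [373, 2, 49043, 25508, 49042], [297, 1, 49052, 44917, 44871, 47708], [126, 1, 48527, 47728, 49060], [0, 0], [95, 3, 49043, 46179, 46275, 35062, 49064], [94, 2, 49066, 49044, 46275], [201, 1, 49066, 49061, 47703, 47055], [209, 0, 49069, 5501, 49068, 49066], [251, 2,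 49066, 49047, 49067], [266, 2, 49066, 49052, 24639, 24659], [267, 2, 49066, 49049, 49067], [283, 2, 49066, 49051, 49067], [331, 2, 49066, 49055, 49067], [347, 2, 49066, 49057, 49067], [363, 2, 49066, 49059, 49067], [311, 2, 49052, 46787, 49076], [328, 1, 49052, 46749, 49076], [319, 3, 49090, 49062, 48933], [0, 0], [97, 3, 25513, 46179, 46275, 46084, 49094], [38, 2, 49096, 25513], [86, 2, 49096, 25517, 25512], [88, 1, 49099, 25516, 49100, 49096, 25517], [202, 3, 49096, 25517, 47811, 47771], [251, 2, 49096, 44793, 49097], [266, 2, 49096, 45979, 24681, 24675], [267, 2, 49096, 24974, 49097], [283, 2, 49096, 24972, 49097], [300, 1, 49096, 46813, 25512], [315, 2, 49096, 46815, 25512], [316, 1, 49096, 49116, 49099], [331, 2, 49096, 44787, 49097], [347, 2, 49096, 44781, 49097], [363, 2, 49096, 24970, 49097], [300, 1, 49098, 49115, 49097], [303, 3, 49126, 48480, 48467], [0, 0], [99, 4, 49066, 49043, 46179, 46275, 46084, 49094, 49130], [38, 2, 49132, 49066], [85, 1, 49132, 49073, 49067], [86, 2, 49132, 49136, 49135], [94, 2, 49132, 49069, 46084], [201, 1, 49132, 49071, 47700,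 47699], [251, 2, 49132, 49075, 49133], [266, 2, 49132, 49077, 24665, 24689], [267, 2, 49132, 49079, 49133], [283, 2, 49132, 49081, 49133], [300, 1, 49132, 49088, 49067], [315, 2, 49132, 49090, 49067], [316, 1, 49132, 49154, 49135], [331, 2, 49132, 49083, 49133], [347, 2, 49132, 49085, 49133], [363, 2, 49132, 49087, 49133], [300, 1, 49134, 49153, 49133], [303, 3, 49164, 49062, 48964], [54, 1, 48950, 49166], [0, 0], [133, 2, 49013, 46176, 49170], [241, 2, 49172, 49013, 46178, 48480], [255, 2, 49172, 49015, 49173], [271, 2, 49172, 49017, 49173], [287, 2, 49172, 49019, 49173], [335, 2, 49172, 49021, 49173], [351, 2, 49172, 49023, 49173], [367, 2, 49172, 49025, 49173], [78, 1, 48525, 49174], [93, 0, 48579, 48483, 49174], [94, 3, 48337, 48456, 49174], [86, 2, 49192, 48356, 47517], [0, 0], [135, 3, 49027, 49013, 46176, 49170, 49196]]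
def dJ126 : List (List ℕ) := [[320, 1, 50374, 50393, 50373], [0, 0], [139, 4, 50342, 50285, 50261, 45863, 45860, 50370, 50402], [54, 2, 50404, 50342], [125, 1, 50404, 50349, 50343], [126, 2, 50404, 50408, 50407], [134, 2, 50404, 50345, 45860], [217, 1, 50404, 50347, 17125, 17093], [255, 2, 50404, 50353, 50405], [271, 2, 50404, 50355, 50405], [287, 2, 50404, 50357, 50405], [303, 2, 50404, 50367, 50343], [304, 1, 50404, 50422, 50407], [320, 1, 50404, 50369, 50343], [335, 2, 50404, 50359, 50405], [351, 2, 50404, 50361, 50405], [367, 2, 50404, 50363, 50405], [320, 1, 50406, 50427, 50405], [0, 0], [177, 3, 50176, 49925, 50260, 50284, 50436], [70, 2, 50438, 50176], [133, 2, 50438, 50179, 26163], [174, 2, 50438, 50212, 50207], [225, 2, 50438, 50200, 47171, 14323], [233, 1, 50438, 50175, 49810, 49969], [234, 3, 50438, 50212, 50221, 23790], [259, 2, 50438, 50183, 50439], [275, 2, 50438, 50185, 50439], [291, 2, 50438, 50187, 50439], [308, 1, 50438, 50189, 26159], [323, 2, 50438, 50191, 26159], [339, 2, 50438, 50193, 50439], [355, 2, 50438, 50195, 50439], [371, 2, 50438,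 50197, 50439], [317, 3, 44719, 46364, 50460], [0, 0], [211, 3, 49887, 45937, 45926, 45645, 45646, 47150, 50470], [46, 2, 50472, 49896], [85, 2, 50472, 49892, 26033], [86, 1, 50472, 49890, 50003], [113, 1, 50472, 49923, 12025], [210, 3, 50472, 49892, 45649, 45646], [217, 2, 50472, 49923, 44662, 50259], [253, 2, 50472, 49903, 50473], [269, 2, 50472, 49905, 50473], [281, 2, 50472, 49906, 49912, 42593], [282, 2, 50472, 49910, 1069, 36848], [285, 2, 50472, 49907, 50473], [301, 2, 50472, 50026, 50005], [302, 1, 50472, 49908, 26035], [317, 2, 50472, 49914, 26035], [318, 1, 50472, 50028, 50005], [333, 2, 50472, 49917, 50473], [349, 2, 50472, 49919, 50473], [365, 2, 50472, 49921, 50473], [320, 2, 50234, 50225, 50502], [0, 0], [243, 3, 50404, 50342, 50285, 50261, 49924, 49962, 50512], [173, 2, 50514, 50413, 47150], [210, 2, 50514, 50415, 47184, 47260], [233, 3, 50514, 50413, 36606, 46347], [242, 3, 50514, 50413, 303, 49924], [261, 2, 50514, 50417, 50515], [277, 2, 50514, 50419, 50515], [293, 2, 50514, 50421, 50515], [309, 2, 50514, 50423, 50351], [310, 1, 50514, 50425, 50436],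 [325, 2, 50514, 50434, 50436], [326, 1, 50514, 50427, 50351], [341, 2, 50514, 50429, 50515], [357, 2, 50514, 50431, 50515], [373, 2, 50514, 50433, 50515], [321, 1, 46624, 46660, 50536], [0, 0], [245, 3, 50350, 50342, 50285, 50261, 49924, 49935, 50546], [78, 2, 50548, 50350], [93, 2, 50548, 26169, 25397], [94, 1, 50548, 26157, 49534], [173, 2, 50548, 26163, 25934], [174, 1, 50548, 26158, 26165], [210, 2, 50548, 46365, 13423, 13416], [261, 2, 50548, 42468, 50549], [277, 2, 50548, 26180, 50549], [293, 2, 50548, 26178, 50549], [309, 2, 50548, 50458, 50445], [326, 1, 50548, 50460, 50445], [341, 2, 50548, 41331, 50549], [357, 2, 50548, 40645, 50549], [373, 2, 50548, 26176, 50549], [322, 2, 44620, 50217, 50570], [0, 0], [0, 0], [247, 5, 50372, 50310, 50261, 49924, 49935, 50546, 50580, 50582], [78, 1, 50582, 50584], [173, 2, 50584, 50402, 50515], [174, 1, 50584, 50371, 47150], [176, 5, 50483, 47150, 50590, 50584, 50586], [237, 5, 50582, 50584, 50402, 50413, 36606, 46347, 24770], [241, 1, 50584, 50372, 50309, 35966], [242, 3, 50584, 50402, 50407, 50436], [246, 5, 50582,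 50584, 50402, 50413, 303, 49924, 49935], [261, 2, 50584, 50383, 50585], [277, 2, 50584, 50385, 50585], [293, 2, 50584, 50387, 50585], [309, 2, 50584, 50389, 50313], [310, 1, 50584, 50391, 50262], [325, 2, 50584, 50400, 50262], [326, 1, 50584, 50393, 50313], [341, 2, 50584, 50395, 50585], [357, 2, 50584, 50397, 50585], [373, 2, 50584, 50399, 50585], [374, 1, 50582, 50620, 50583], [358, 1, 50582, 50618, 50583], [342, 1, 50582, 50616, 50583], [316, 2, 50099, 50075, 50614], [317, 1, 47102, 47110, 50614], [321, 1, 46584, 49964, 50614], [325, 2, 26164, 50614, 50583], [318, 2, 50634, 46972, 46963], [321, 1, 50634, 42642, 46568], [383, 2, 50634, 42568, 50635], [395, 2, 50634, 26127, 50635], [405, 2, 50634, 26129, 50635], [413, 2, 50634, 50232, 50235], [305, 2, 50215, 44633, 50638], [322, 1, 50215, 44581, 50638], [0, 0], [179, 4, 50592, 50471, 47151, 50370, 50402, 50515, 50652], [70, 2, 50654, 50592], [133, 2, 50654, 50601, 50209], [134, 1, 50654, 50581, 50557], [174, 2, 50654, 50587, 50402], [226, 2, 50654, 50639, 46558, 46560], [237, 2, 50654, 50592, 50479, 50001, 36867,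 50076, 50106], [259, 2, 50654, 50641, 50655], [275, 2, 50654, 50643, 50655], [291, 2, 50654, 50645, 50655], [307, 2, 50654, 50647, 50558], [308, 1, 50654, 50648, 50207], [323, 2, 50654, 50650, 50207], [324, 1, 50654, 50634, 50558], [339, 2, 50654, 50626, 50655], [355, 2, 50654, 50624, 50655], [371, 2, 50654, 50622, 50655], [318, 2, 47349, 50560, 50680], [0, 0], [233, 2, 47160, 47151, 50370, 50690], [133, 2, 50692, 48615, 48567], [134, 1, 50692, 46790, 25359], [173, 1, 50692, 35933, 46353], [225, 2, 50692, 46790, 46793, 17327], [259, 2, 50692, 42418, 50693], [275, 2, 50692, 26016, 50693], [291, 2, 50692, 26014, 50693], [307, 2, 50692, 26026, 25844], [308, 1, 50692, 26024, 46404], [323, 2, 50692, 26023, 46404], [324, 1, 50692, 26028, 25844], [339, 2, 50692, 41355, 50693], [355, 2, 50692, 40669, 50693], [371, 2, 50692, 26012, 50693], [317, 1, 44683, 46802, 50714], [0, 0], [235, 3, 50007, 50476, 50471, 47151, 50370, 50690, 50724], [133, 2, 50726, 50013, 49607], [134, 1, 50726, 50038, 48887], [174, 2, 50726, 50011, 50076], [226, 2, 50726, 50009, 47363, 47319], [234,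 3, 50726, 50011, 36219, 50370], [259, 2, 50726, 50015, 50727], [275, 2, 50726, 50017, 50727], [291, 2, 50726, 50023, 50727], [307, 2, 50726, 50025, 26137], [308, 1, 50726, 50027, 49894], [323, 2, 50726, 50029, 49894], [324, 1, 50726, 50031, 26137], [339, 2, 50726, 50033, 50727], [355, 2, 50726, 50035, 50727], [371, 2, 50726, 50037, 50727], [317, 1, 44680, 46801, 50750], [0, 0], [0, 0], [237, 4, 50476, 50471, 47151, 50370, 50402, 50760, 50762], [70, 1, 50762, 50764], [134, 1, 50764, 46766, 24845], [136, 5, 24847, 24845, 50768, 50764, 50766], [173, 1, 50764, 26031, 50693], [174, 2, 50764, 35935, 46353], [178, 0, 46346, 46353, 50774, 50764, 50766], [226, 2, 50764, 42633, 12278, 12308], [228, 7, 12335, 45396, 45401, 12308, 50778, 50764, 50766], [233, 1, 50764, 50476, 50471, 50590], [234, 3, 50764, 35935, 36863, 50076], [241, 3, 50764, 35935, 4630, 46100], [243, 5, 50762, 50764, 35935, 4630, 46209, 45756, 48486], [259, 2, 50764, 42425, 50765], [275, 2, 50764, 26054, 50765], [291, 2, 50764, 26052, 50765], [307, 2, 50764, 26056, 25951], [308, 1, 50764, 26058, 46399]]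
def dJ130 : List (List ℕ) := [[0, 0], [85, 2, 51977, 1400, 52000], [86, 2, 52002, 51978, 2646], [93, 1, 52002, 51985, 52003], [201, 1, 52002, 51982, 32971, 32966], [202, 3, 52002, 51978, 8271, 37908], [233, 2, 52002, 51985, 51998, 52003], [251, 2, 52002, 51987, 52003], [267, 2, 52002, 51989, 52003], [283, 2, 52002, 51991, 52003], [331, 2, 52002, 51993, 52003], [347, 2, 52002, 51995, 52003], [363, 2, 52002, 51997, 52003], [125, 0, 51980, 36941, 52010], [306, 3, 51980, 36955, 52010], [321, 0, 51980, 36957, 52010], [0, 0], [89, 3, 52002, 51977, 1400, 1395, 52032], [38, 2, 52034, 52002], [86, 2, 52034, 52005, 2662], [93, 1, 52034, 52007, 52035], [201, 1, 52034, 52009, 32940, 32923], [202, 3, 52034, 52005, 8412, 37382], [233, 2, 52034, 52007, 52013, 52035], [251, 2, 52034, 52015, 52035], [267, 2, 52034, 52017, 52035], [283, 2, 52034, 52019, 52035], [300, 1, 52034, 52028, 52003], [315, 2, 52034, 52030, 52003], [316, 1, 52034, 52056, 52037], [331, 2, 52034, 52021, 52035], [347, 2, 52034, 52023, 52035], [363, 2, 52034, 52025, 52035], [300, 1, 52036, 52055, 52035], [304,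 0, 52066, 52027, 52028], [304, 0, 52054, 52069, 52067], [0, 0], [0, 0], [249, 2, 35570, 52072, 52074], [249, 3, 52076, 52072, 52074], [249, 3, 52074, 52076, 52072], [279, 0, 52076, 1295, 52077], [295, 0, 52076, 1139, 52077], [298, 1, 52076, 8745, 46515, 48111], [343, 0, 52076, 37964, 52077], [359, 0, 52076, 37967, 52077], [375, 0, 52076, 774, 52077], [376, 3, 52074, 52092, 52075], [360, 3, 52074, 52090, 52075], [344, 3, 52074, 52088, 52075], [61, 1, 48124, 52086], [297, 3, 37022, 48113, 52086, 52075], [62, 2, 52102, 42607], [273, 2, 52102, 12075, 52103], [289, 2, 52102, 12079, 52103], [0, 0], [265, 2, 1401, 1295, 52072, 52110], [263, 2, 52112, 35625, 52113], [279, 2, 52112, 1306, 52113], [295, 2, 52112, 1152, 52113], [297, 1, 52112, 8690, 8808, 32974], [298, 3, 52112, 8763, 8630, 37762], [312, 1, 52112, 8694, 52072], [313, 1, 52112, 977, 973, 52072], [327, 2, 52112, 985, 52072], [343, 2, 52112, 37959, 52113], [359, 2, 52112, 37960, 52113], [375, 2, 52112, 989, 52113], [0, 0], [281, 2, 51977, 1139, 52072, 52136], [263, 2, 52138, 51987, 52139], [279, 2, 52138, 51989,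 52139], [295, 2, 52138, 51991, 52139], [297, 1, 52138, 51982, 8256, 12087], [298, 3, 52138, 52029, 52011, 36966], [343, 2, 52138, 51993, 52139], [359, 2, 52138, 51995, 52139], [375, 2, 52138, 51997, 52139], [0, 0], [327, 2, 52073, 972, 52156], [316, 2, 52158, 52110, 52129], [321, 1, 52158, 52102, 37024], [322, 2, 52158, 52105, 26020], [326, 2, 52158, 52126, 52129], [383, 2, 52158, 52081, 52159], [395, 2, 52158, 52107, 52159], [405, 2, 52158, 52109, 52159], [413, 2, 52158, 52124, 52129], [421, 1, 52158, 52098, 52159], [423, 1, 52158, 52096, 52159], [425, 1, 52158, 52094, 52159], [314, 3, 52075, 52159, 52167, 52074], [78, 1, 52127, 52166], [94, 3, 52185, 52161, 52166], [310, 3, 52185, 52175, 52166], [325, 0, 52185, 52158, 52166], [0, 0], [0, 0], [0, 0], [0, 0], [0, 0], [0, 0], [0, 0], [0, 0], [0, 0], [0, 0], [0, 0], [0, 0], [0, 0], [0, 0], [0, 0], [0, 0], [0, 0], [0, 0], [0, 0], [0, 0], [0, 0], [0, 0], [0, 0], [0, 0], [0, 0], [0, 0], [0, 0], [0, 0], [0, 0], [0, 0], [329, 32, 52073, 37964, 52072, 52074, 52192, 52194, 52196, 52198, 52200, 52202, 52204, 52206, 52208,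 52210, 52212, 52214, 52216, 52218, 52220, 52222, 52224, 52226, 52228, 52230, 52232, 52234, 52236, 52238, 52240, 52242, 52244, 52246, 52248, 52250], [125, 1, 52252, 52102, 37010], [126, 2, 52252, 52105, 49285], [218, 3, 52252, 52105, 25997, 48615], [255, 2, 52252, 52081, 52253], [271, 2, 52252, 52107, 52253], [287, 2, 52252, 52109, 52253], [335, 2, 52252, 52099, 52253], [351, 2, 52252, 52097, 52253], [367, 2, 52252, 52095, 52253], [363, 0, 52250, 52270, 52251], [367, 2, 52248, 52272, 52249], [376, 1, 52246, 52274, 52247], [368, 3, 52244, 52276, 52245], [364, 1, 52242, 52278, 52243], [368, 3, 52240, 52280, 52241], [375, 0, 52238, 52282, 52239], [367, 2, 52236, 52284, 52237], [363, 0, 52234, 52286, 52235], [367, 2, 52232, 52288, 52233], [375, 0, 52230, 52290, 52231], [368, 3, 52228, 52292, 52229], [364, 1, 52226, 52294, 52227], [368, 3, 52224, 52296, 52225], [376, 1, 52222, 52298, 52223], [367, 2, 52220, 52300, 52221], [363, 0, 52218, 52302, 52219], [367, 2, 52216, 52304, 52217], [376, 1, 52214, 52306, 52215], [368, 3, 52212, 52308, 52213], [364, 1, 52210, 52310,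 52211], [368, 3, 52208, 52312, 52209], [376, 1, 52206, 52314, 52207], [367, 2, 52204, 52316, 52205], [363, 0, 52202, 52318, 52203], [367, 2, 52200, 52320, 52201], [375, 0, 52198, 52322, 52199], [368, 3, 52196, 52324, 52197], [364, 1, 52194, 52326, 52195], [347, 0, 52250, 52268, 52251], [351, 2, 52248, 52330, 52249], [360, 1, 52246, 52332, 52247], [352, 3, 52244, 52334, 52245], [348, 1, 52242, 52336, 52243], [352, 3, 52240, 52338, 52241], [359, 0, 52238, 52340, 52239], [351, 2, 52236, 52342, 52237], [347, 0, 52234, 52344, 52235], [351, 2, 52232, 52346, 52233], [359, 0, 52230, 52348, 52231], [352, 3, 52228, 52350, 52229], [348, 1, 52226, 52352, 52227], [352, 3, 52224, 52354, 52225], [360, 1, 52222, 52356, 52223], [351, 2, 52220, 52358, 52221], [347, 0, 52218, 52360, 52219], [351, 2, 52216, 52362, 52217], [360, 1, 52214, 52364, 52215], [352, 3, 52212, 52366, 52213], [348, 1, 52210, 52368, 52211], [352, 3, 52208, 52370, 52209], [360, 1, 52206, 52372, 52207], [351, 2, 52204, 52374, 52205], [347, 0, 52202, 52376, 52203], [351, 2, 52200, 52378, 52201], [359, 0, 52198,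 52380, 52199], [352, 3, 52196, 52382, 52197], [348, 1, 52194, 52384, 52195], [331, 0, 52250, 52266, 52251], [335, 2, 52248, 52388, 52249], [344, 1, 52246, 52390, 52247], [336, 3, 52244, 52392, 52245], [332, 1, 52242, 52394, 52243], [336, 3, 52240, 52396, 52241]]
def dJ134 : List (List ℕ) := [[359, 2, 53588, 53105, 53589], [375, 2, 53588, 53107, 53589], [367, 0, 53586, 53602, 53587], [363, 2, 53584, 53604, 53585], [367, 0, 53582, 53606, 53583], [376, 3, 53580, 53608, 53581], [368, 1, 53578, 53610, 53579], [364, 3, 53576, 53612, 53577], [368, 1, 53574, 53614, 53575], [376, 3, 53572, 53616, 53573], [367, 0, 53570, 53618, 53571], [363, 2, 53568, 53620, 53569], [367, 0, 53566, 53622, 53567], [369, 2, 53564, 53624, 53565], [366, 1, 53562, 53626, 53563], [365, 2, 53560, 53628, 53561], [351, 0, 53586, 53600, 53587], [347, 2, 53584, 53632, 53585], [351, 0, 53582, 53634, 53583], [360, 3, 53580, 53636, 53581], [352, 1, 53578, 53638, 53579], [348, 3, 53576, 53640, 53577], [352, 1, 53574, 53642, 53575], [360, 3, 53572, 53644, 53573], [351, 0, 53570, 53646, 53571], [347, 2,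 53568, 53648, 53569], [351, 0, 53566, 53650, 53567], [353, 2, 53564, 53652, 53565], [350, 1, 53562, 53654, 53563], [349, 2, 53560, 53656, 53561], [335, 0, 53586, 53598, 53587], [331, 2, 53584, 53660, 53585], [335, 0, 53582, 53662, 53583], [344, 3, 53580, 53664, 53581], [336, 1, 53578, 53666, 53579], [332, 3, 53576, 53668, 53577], [336, 1, 53574, 53670, 53575], [344, 3, 53572, 53672, 53573], [335, 0, 53570, 53674, 53571], [331, 2, 53568, 53676, 53569], [335, 0, 53566, 53678, 53567], [337, 2, 53564, 53680, 53565], [334, 1, 53562, 53682, 53563], [333, 2, 53560, 53684, 53561], [287, 0, 53586, 53596, 53587], [283, 2, 53584, 53688, 53585], [287, 0, 53582, 53690, 53583], [296, 3, 53580, 53692, 53581], [288, 1, 53578, 53694, 53579], [284, 3, 53576, 53696, 53577], [288, 1, 53574, 53698, 53575], [296, 3, 53572, 53700, 53573], [287, 0, 53570, 53702, 53571], [283, 2, 53568, 53704, 53569], [287, 0, 53566, 53706, 53567], [289, 2, 53564, 53708, 53565], [286, 1, 53562, 53710, 53563], [282, 4, 53712, 53561, 53559, 46467], [285, 2, 53560, 53712, 53561], [263, 0, 53715, 42491, 53714],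 [279, 0, 53715, 24854, 53714], [269, 2, 53560, 53720, 53561], [270, 3, 53563, 53720, 53562], [273, 0, 53565, 53724, 53564], [271, 2, 53567, 53726, 53566], [267, 0, 53569, 53728, 53568], [271, 2, 53571, 53730, 53570], [280, 1, 53573, 53732, 53572], [272, 3, 53575, 53734, 53574], [268, 1, 53577, 53736, 53576], [272, 3, 53579, 53738, 53578], [280, 1, 53581, 53740, 53580], [271, 2, 53583, 53742, 53582], [267, 0, 53585, 53744, 53584], [253, 2, 53560, 53718, 53561], [254, 3, 53563, 53718, 53562], [257, 0, 53565, 53750, 53564], [255, 2, 53567, 53752, 53566], [251, 0, 53569, 53754, 53568], [255, 2, 53571, 53756, 53570], [264, 1, 53573, 53758, 53572], [256, 3, 53575, 53760, 53574], [252, 1, 53577, 53762, 53576], [256, 3, 53579, 53764, 53578], [264, 1, 53581, 53766, 53580], [255, 2, 53583, 53768, 53582], [251, 0, 53585, 53770, 53584], [46, 1, 53560, 53562], [0, 0], [0, 0], [0, 0], [0, 0], [0, 0], [0, 0], [0, 0], [0, 0], [0, 0], [0, 0], [0, 0], [0, 0], [0, 0], [0, 0], [0, 0], [0, 0], [0, 0], [0, 0], [0, 0], [0, 0], [0, 0], [0, 0], [0, 0], [0, 0], [329, 29, 49172, 49538, 49564,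 37763, 36898, 37762, 42352, 45820, 13421, 13463, 53776, 53778, 53780, 53782, 53784, 53786, 53788, 53790, 53792, 53794, 53796, 53798, 53800, 53802, 53804, 53806, 53808, 53810, 53812, 53814, 53816, 53818, 53820, 53822], [263, 2, 53824, 49177, 53825], [279, 2, 53824, 49179, 53825], [295, 2, 53824, 49181, 53825], [343, 2, 53824, 49183, 53825], [359, 2, 53824, 49185, 53825], [375, 2, 53824, 49187, 53825], [367, 0, 53822, 53836, 53823], [363, 2, 53820, 53838, 53821], [367, 0, 53818, 53840, 53819], [376, 3, 53816, 53842, 53817], [368, 1, 53814, 53844, 53815], [364, 3, 53812, 53846, 53813], [368, 1, 53810, 53848, 53811], [376, 3, 53808, 53850, 53809], [367, 0, 53806, 53852, 53807], [363, 2, 53804, 53854, 53805], [367, 0, 53802, 53856, 53803], [375, 2, 53800, 53858, 53801], [368, 1, 53798, 53860, 53799], [364, 3, 53796, 53862, 53797], [368, 1, 53794, 53864, 53795], [375, 2, 53792, 53866, 53793], [367, 0, 53790, 53868, 53791], [363, 2, 53788, 53870, 53789], [367, 0, 53786, 53872, 53787], [375, 2, 53784, 53874, 53785], [368, 1, 53782, 53876, 53783], [364, 3, 53780, 53878,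 53781], [368, 1, 53778, 53880, 53779], [351, 0, 53822, 53834, 53823], [347, 2, 53820, 53884, 53821], [351, 0, 53818, 53886, 53819], [360, 3, 53816, 53888, 53817], [352, 1, 53814, 53890, 53815], [348, 3, 53812, 53892, 53813], [352, 1, 53810, 53894, 53811], [360, 3, 53808, 53896, 53809], [351, 0, 53806, 53898, 53807], [347, 2, 53804, 53900, 53805], [351, 0, 53802, 53902, 53803], [359, 2, 53800, 53904, 53801], [352, 1, 53798, 53906, 53799], [348, 3, 53796, 53908, 53797], [352, 1, 53794, 53910, 53795], [359, 2, 53792, 53912, 53793], [351, 0, 53790, 53914, 53791], [347, 2, 53788, 53916, 53789], [351, 0, 53786, 53918, 53787], [359, 2, 53784, 53920, 53785], [352, 1, 53782, 53922, 53783], [348, 3, 53780, 53924, 53781], [352, 1, 53778, 53926, 53779], [335, 0, 53822, 53832, 53823], [331, 2, 53820, 53930, 53821], [335, 0, 53818, 53932, 53819], [344, 3, 53816, 53934, 53817], [336, 1, 53814, 53936, 53815], [332, 3, 53812, 53938, 53813], [336, 1, 53810, 53940, 53811], [344, 3, 53808, 53942, 53809], [335, 0, 53806, 53944, 53807], [331, 2, 53804, 53946, 53805], [335, 0, 53802,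 53948, 53803], [343, 2, 53800, 53950, 53801], [336, 1, 53798, 53952, 53799], [332, 3, 53796, 53954, 53797], [336, 1, 53794, 53956, 53795], [343, 2, 53792, 53958, 53793], [335, 0, 53790, 53960, 53791], [331, 2, 53788, 53962, 53789], [335, 0, 53786, 53964, 53787], [343, 2, 53784, 53966, 53785], [336, 1, 53782, 53968, 53783], [332, 3, 53780, 53970, 53781], [336, 1, 53778, 53972, 53779], [287, 0, 53822, 53830, 53823], [283, 2, 53820, 53976, 53821], [287, 0, 53818, 53978, 53819], [296, 3, 53816, 53980, 53817], [288, 1, 53814, 53982, 53815], [284, 3, 53812, 53984, 53813], [288, 1, 53810, 53986, 53811], [296, 3, 53808, 53988, 53809], [287, 0, 53806, 53990, 53807], [283, 2, 53804, 53992, 53805], [287, 0, 53802, 53994, 53803], [295, 2, 53800, 53996, 53801]]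
def dJ138 : List (List ℕ) := [[280, 3, 55050, 55198, 55051], [272, 1, 55048, 55200, 55049], [268, 3, 55046, 55202, 55047], [272, 1, 55044, 55204, 55045], [280, 3, 55042, 55206, 55043], [271, 0, 55040, 55208, 55041], [267, 2, 55038, 55210, 55039], [271, 0, 55036, 55212, 55037], [273, 2, 55034, 55214, 55035], [270, 1, 55032, 55216, 55033], [269, 2, 55030, 55218, 55031], [280, 1, 55028, 55220, 55029], [255, 0, 55056, 55062, 55057], [251, 2, 55054, 55224, 55055], [255, 0, 55052, 55226, 55053], [264, 3, 55050, 55228, 55051], [256, 1, 55048, 55230, 55049], [252, 3, 55046, 55232, 55047], [256, 1, 55044, 55234, 55045], [264, 3, 55042, 55236, 55043], [255, 0, 55040, 55238, 55041], [251, 2, 55038, 55240, 55039], [255, 0, 55036, 55242, 55037], [257, 2, 55034, 55244, 55035], [254, 1, 55032, 55246, 55033], [253, 2, 55030, 55248, 55031], [264, 1, 55028, 55250, 55029], [46, 1, 55030, 55032], [54, 1, 51182, 55026], [125, 3, 50039, 51031, 55026], [126, 0, 47567, 51032, 55026], [223, 6, 50249, 50215, 46294, 38750, 46807, 51551, 51182, 55026], [46, 2, 55262, 50249], [282, 4, 55188,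 55031, 55029, 55262], [281, 0, 50248, 55266, 55032, 55186], [0, 0], [0, 0], [0, 0], [0, 0], [0, 0], [0, 0], [0, 0], [0, 0], [0, 0], [0, 0], [0, 0], [0, 0], [0, 0], [0, 0], [0, 0], [0, 0], [0, 0], [0, 0], [0, 0], [0, 0], [0, 0], [0, 0], [0, 0], [0, 0], [329, 29, 12929, 47388, 47412, 37957, 37928, 37956, 48113, 48126, 24085, 23769, 55270, 55272, 55274, 55276, 55278, 55280, 55282, 55284, 55286, 55288, 55290, 55292, 55294, 55296, 55298, 55300, 55302, 55304, 55306, 55308, 55310, 55312, 55314, 55316], [263, 2, 55318, 42137, 55319], [279, 2, 55318, 12192, 55319], [295, 2, 55318, 12190, 55319], [343, 2, 55318, 41581, 55319], [359, 2, 55318, 40873, 55319], [375, 2, 55318, 12188, 55319], [367, 0, 55316, 55330, 55317], [363, 2, 55314, 55332, 55315], [367, 0, 55312, 55334, 55313], [376, 3, 55310, 55336, 55311], [368, 1, 55308, 55338, 55309], [364, 3, 55306, 55340, 55307], [368, 1, 55304, 55342, 55305], [376, 3, 55302, 55344, 55303], [367, 0, 55300, 55346, 55301], [363, 2, 55298, 55348, 55299], [367, 0, 55296, 55350, 55297], [375, 2, 55294, 55352, 55295], [368, 1, 55292, 55354,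 55293], [364, 3, 55290, 55356, 55291], [368, 1, 55288, 55358, 55289], [375, 2, 55286, 55360, 55287], [367, 0, 55284, 55362, 55285], [363, 2, 55282, 55364, 55283], [367, 0, 55280, 55366, 55281], [375, 2, 55278, 55368, 55279], [368, 1, 55276, 55370, 55277], [364, 3, 55274, 55372, 55275], [368, 1, 55272, 55374, 55273], [351, 0, 55316, 55328, 55317], [347, 2, 55314, 55378, 55315], [351, 0, 55312, 55380, 55313], [360, 3, 55310, 55382, 55311], [352, 1, 55308, 55384, 55309], [348, 3, 55306, 55386, 55307], [352, 1, 55304, 55388, 55305], [360, 3, 55302, 55390, 55303], [351, 0, 55300, 55392, 55301], [347, 2, 55298, 55394, 55299], [351, 0, 55296, 55396, 55297], [359, 2, 55294, 55398, 55295], [352, 1, 55292, 55400, 55293], [348, 3, 55290, 55402, 55291], [352, 1, 55288, 55404, 55289], [359, 2, 55286, 55406, 55287], [351, 0, 55284, 55408, 55285], [347, 2, 55282, 55410, 55283], [351, 0, 55280, 55412, 55281], [359, 2, 55278, 55414, 55279], [352, 1, 55276, 55416, 55277], [348, 3, 55274, 55418, 55275], [352, 1, 55272, 55420, 55273], [335, 0, 55316, 55326, 55317], [331, 2, 55314,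 55424, 55315], [335, 0, 55312, 55426, 55313], [344, 3, 55310, 55428, 55311], [336, 1, 55308, 55430, 55309], [332, 3, 55306, 55432, 55307], [336, 1, 55304, 55434, 55305], [344, 3, 55302, 55436, 55303], [335, 0, 55300, 55438, 55301], [331, 2, 55298, 55440, 55299], [335, 0, 55296, 55442, 55297], [343, 2, 55294, 55444, 55295], [336, 1, 55292, 55446, 55293], [332, 3, 55290, 55448, 55291], [336, 1, 55288, 55450, 55289], [343, 2, 55286, 55452, 55287], [335, 0, 55284, 55454, 55285], [331, 2, 55282, 55456, 55283], [335, 0, 55280, 55458, 55281], [343, 2, 55278, 55460, 55279], [336, 1, 55276, 55462, 55277], [332, 3, 55274, 55464, 55275], [336, 1, 55272, 55466, 55273], [287, 0, 55316, 55324, 55317], [283, 2, 55314, 55470, 55315], [287, 0, 55312, 55472, 55313], [296, 3, 55310, 55474, 55311], [288, 1, 55308, 55476, 55309], [284, 3, 55306, 55478, 55307], [288, 1, 55304, 55480, 55305], [296, 3, 55302, 55482, 55303], [287, 0, 55300, 55484, 55301], [283, 2, 55298, 55486, 55299], [287, 0, 55296, 55488, 55297], [295, 2, 55294, 55490, 55295], [288, 1, 55292, 55492, 55293], [284, 3,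 55290, 55494, 55291], [288, 1, 55288, 55496, 55289], [295, 2, 55286, 55498, 55287], [287, 0, 55284, 55500, 55285], [283, 2, 55282, 55502, 55283], [287, 0, 55280, 55504, 55281], [295, 2, 55278, 55506, 55279], [288, 1, 55276, 55508, 55277], [284, 3, 55274, 55510, 55275], [288, 1, 55272, 55512, 55273], [271, 0, 55316, 55322, 55317], [267, 2, 55314, 55516, 55315], [271, 0, 55312, 55518, 55313], [280, 3, 55310, 55520, 55311], [272, 1, 55308, 55522, 55309], [268, 3, 55306, 55524, 55307], [272, 1, 55304, 55526, 55305], [280, 3, 55302, 55528, 55303], [271, 0, 55300, 55530, 55301], [267, 2, 55298, 55532, 55299], [271, 0, 55296, 55534, 55297], [279, 2, 55294, 55536, 55295], [272, 1, 55292, 55538, 55293], [268, 3, 55290, 55540, 55291], [272, 1, 55288, 55542, 55289], [279, 2, 55286, 55544, 55287], [271, 0, 55284, 55546, 55285], [267, 2, 55282, 55548, 55283], [271, 0, 55280, 55550, 55281], [279, 2, 55278, 55552, 55279], [272, 1, 55276, 55554, 55277], [268, 3, 55274, 55556, 55275], [272, 1, 55272, 55558, 55273], [255, 0, 55316, 55320, 55317], [251, 2, 55314, 55562, 55315], [255,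 0, 55312, 55564, 55313], [264, 3, 55310, 55566, 55311], [256, 1, 55308, 55568, 55309], [252, 3, 55306, 55570, 55307], [256, 1, 55304, 55572, 55305], [264, 3, 55302, 55574, 55303], [255, 0, 55300, 55576, 55301], [251, 2, 55298, 55578, 55299], [255, 0, 55296, 55580, 55297], [263, 2, 55294, 55582, 55295], [256, 1, 55292, 55584, 55293], [252, 3, 55290, 55586, 55291], [256, 1, 55288, 55588, 55289], [263, 2, 55286, 55590, 55287], [255, 0, 55284, 55592, 55285], [251, 2, 55282, 55594, 55283], [255, 0, 55280, 55596, 55281]]
def dJ142 : List (List ℕ) := [[284, 1, 56668, 56798, 56669], [288, 3, 56666, 56800, 56667], [268, 1, 56684, 56780, 56685], [272, 3, 56682, 56804, 56683], [280, 1, 56680, 56806, 56681], [271, 2, 56678, 56808, 56679], [267, 0, 56676, 56810, 56677], [271, 2, 56674, 56812, 56675], [279, 0, 56672, 56814, 56673], [272, 3, 56670, 56816, 56671], [268, 1, 56668, 56818, 56669], [272, 3, 56666, 56820, 56667], [252, 1, 56684, 56778, 56685], [256, 3, 56682, 56824, 56683], [264, 1, 56680, 56826, 56681], [255, 2, 56678, 56828, 56679], [251, 0, 56676, 56830, 56677],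 [255, 2, 56674, 56832, 56675], [263, 0, 56672, 56834, 56673], [256, 3, 56670, 56836, 56671], [252, 1, 56668, 56838, 56669], [256, 3, 56666, 56840, 56667], [320, 3, 51604, 56776, 56683], [328, 1, 56680, 56844, 51603], [319, 2, 51600, 56846, 56679], [315, 0, 56676, 56848, 51599], [319, 2, 51596, 56850, 56675], [327, 0, 56672, 56852, 51595], [320, 3, 51592, 56854, 56671], [316, 1, 56668, 56856, 51591], [320, 3, 51588, 56858, 56667], [321, 1, 56860, 54849, 54852], [126, 2, 53389, 56862, 56666], [306, 1, 54849, 54850, 56862], [303, 2, 56667, 56866, 51588], [299, 0, 51591, 56868, 56668], [303, 2, 56671, 56870, 51592], [312, 1, 51595, 56872, 56672], [304, 3, 56675, 56874, 51596], [300, 1, 51599, 56876, 56676], [304, 3, 56679, 56878, 51600], [311, 0, 51603, 56880, 56680], [303, 2, 56683, 56882, 51604], [299, 0, 51607, 56884, 56684], [0, 0], [0, 0], [0, 0], [0, 0], [0, 0], [0, 0], [0, 0], [0, 0], [0, 0], [0, 0], [0, 0], [0, 0], [0, 0], [0, 0], [0, 0], [361, 18, 56123, 56121, 56119, 56117, 56115, 56113, 56111, 56689, 56687, 56685, 56683, 56681, 56679, 56677, 56675, 56673,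 56671, 56669, 56667, 56665, 23998, 46762, 46403, 37767, 28522, 37295, 1605, 952, 1604, 36826, 46557, 56888, 56890, 56892, 56894, 56896, 56898, 56900, 56902, 56904, 56906, 56908, 56910, 56912, 56914, 56916], [250, 1, 56918, 56339, 51492], [263, 2, 56918, 56349, 56919], [279, 2, 56918, 56351, 56919], [281, 1, 56918, 56352, 53100, 53589], [295, 2, 56918, 56355, 56919], [311, 2, 56918, 56356, 51789], [328, 1, 56918, 56358, 51789], [343, 2, 56918, 56274, 56919], [359, 2, 56918, 56216, 56919], [375, 2, 56918, 56158, 56919], [367, 0, 56916, 56938, 56917], [363, 2, 56914, 56940, 56915], [367, 0, 56912, 56942, 56913], [376, 3, 56910, 56944, 56911], [368, 1, 56908, 56946, 56909], [364, 3, 56906, 56948, 56907], [368, 1, 56904, 56950, 56905], [376, 3, 56902, 56952, 56903], [367, 0, 56900, 56954, 56901], [363, 2, 56898, 56956, 56899], [367, 0, 56896, 56958, 56897], [369, 2, 56894, 56960, 56895], [366, 1, 56892, 56962, 56893], [365, 2, 56890, 56964, 56891], [351, 0, 56916, 56936, 56917], [347, 2, 56914, 56968, 56915], [351, 0, 56912, 56970, 56913], [360, 3, 56910, 56972, 56911],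 [352, 1, 56908, 56974, 56909], [348, 3, 56906, 56976, 56907], [352, 1, 56904, 56978, 56905], [360, 3, 56902, 56980, 56903], [351, 0, 56900, 56982, 56901], [347, 2, 56898, 56984, 56899], [351, 0, 56896, 56986, 56897], [353, 2, 56894, 56988, 56895], [350, 1, 56892, 56990, 56893], [349, 2, 56890, 56992, 56891], [335, 0, 56916, 56934, 56917], [331, 2, 56914, 56996, 56915], [335, 0, 56912, 56998, 56913], [344, 3, 56910, 57000, 56911], [336, 1, 56908, 57002, 56909], [332, 3, 56906, 57004, 56907], [336, 1, 56904, 57006, 56905], [344, 3, 56902, 57008, 56903], [335, 0, 56900, 57010, 56901], [331, 2, 56898, 57012, 56899], [335, 0, 56896, 57014, 56897], [337, 2, 56894, 57016, 56895], [334, 1, 56892, 57018, 56893], [333, 2, 56890, 57020, 56891], [320, 3, 51786, 56932, 56917], [316, 1, 56914, 57024, 51785], [383, 2, 57024, 51944, 57025], [395, 2, 57024, 51916, 57025], [405, 2, 57024, 51888, 57025], [284, 1, 56914, 57032, 56915], [288, 3, 56912, 57034, 56913], [295, 0, 56910, 57036, 56911], [287, 2, 56908, 57038, 56909], [283, 0, 56906, 57040, 56907], [287, 2, 56904, 57042,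 56905], [295, 0, 56902, 57044, 56903], [288, 3, 56900, 57046, 56901], [284, 1, 56898, 57048, 56899], [288, 3, 56896, 57050, 56897], [290, 1, 56894, 57052, 56895], [285, 2, 56892, 57054, 56893], [286, 1, 56890, 57056, 56891], [268, 1, 56914, 57030, 56915], [272, 3, 56912, 57060, 56913], [279, 0, 56910, 57062, 56911], [271, 2, 56908, 57064, 56909], [267, 0, 56906, 57066, 56907], [271, 2, 56904, 57068, 56905], [279, 0, 56902, 57070, 56903], [272, 3, 56900, 57072, 56901], [268, 1, 56898, 57074, 56899], [272, 3, 56896, 57076, 56897], [274, 1, 56894, 57078, 56895], [269, 2, 56892, 57080, 56893], [270, 1, 56890, 57082, 56891], [252, 1, 56914, 57028, 56915], [256, 3, 56912, 57086, 56913], [263, 0, 56910, 57088, 56911], [255, 2, 56908, 57090, 56909], [251, 0, 56906, 57092, 56907], [255, 2, 56904, 57094, 56905], [263, 0, 56902, 57096, 56903], [256, 3, 56900, 57098, 56901], [252, 1, 56898, 57100, 56899], [256, 3, 56896, 57102, 56897], [258, 1, 56894, 57104, 56895], [253, 2, 56892, 57106, 56893], [254, 1, 56890, 57108, 56891], [320, 3, 51782, 57026, 56913], [327, 0, 56910,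 57112, 51781], [319, 2, 51778, 57114, 56909], [315, 0, 56906, 57116, 51777], [319, 2, 51774, 57118, 56905], [327, 0, 56902, 57120, 51773], [320, 3, 51770, 57122, 56901], [316, 1, 56898, 57124, 51769], [320, 3, 51766, 57126, 56897], [322, 1, 56894, 57128, 51765], [317, 2, 51762, 57130, 56893], [327, 1, 46569, 51974, 57130], [282, 1, 57134, 46486, 56888, 57058], [312, 3, 57134, 46567, 51974], [301, 0, 51973, 57138, 57137], [302, 1, 51762, 57138, 56893], [305, 0, 51765, 57138, 56894], [303, 2, 56897, 57144, 51766], [299, 0, 51769, 57146, 56898], [303, 2, 56901, 57148, 51770], [312, 1, 51773, 57150, 56902], [304, 3, 56905, 57152, 51774], [300, 1, 51777, 57154, 56906], [304, 3, 56909, 57156, 51778], [312, 1, 51781, 57158, 56910], [303, 2, 56913, 57160, 51782], [299, 0, 51785, 57162, 56914], [317, 0, 57136, 57131, 51972], [314, 1, 54321, 49188, 51758, 57166], [0, 0], [249, 2, 35622, 51088, 57170], [249, 3, 57172, 51088, 57170], [266, 1, 57172, 1396, 56013, 56018], [279, 0, 57172, 1304, 57173], [295, 0, 57172, 1148, 57173], [297, 4, 57172, 8698, 37946, 56037], [298, 1,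 57172, 8678, 36890, 37335], [311, 0, 57172, 8682, 51005], [313, 4, 57172, 959, 51005, 51064], [327, 0, 57172, 963, 56013], [343, 0, 57172, 37972, 57173], [359, 0, 57172, 37974, 57173], [375, 0, 57172, 964, 57173], [266, 1, 51004, 1392, 57173, 57178]]
def dJ146 : List (List ℕ) := [[304, 3, 58160, 58398, 56897], [306, 1, 56894, 58400, 58159], [413, 3, 57144, 57129, 58400], [322, 1, 58158, 58404, 56895], [317, 2, 56892, 58406, 58157], [327, 1, 44581, 57135, 58406], [282, 1, 58410, 48931, 58152, 58322], [297, 4, 58403, 58410, 50214, 55269, 55034], [5, 0, 56892, 58415], [6, 0, 57136, 58415], [10, 0, 56895, 58415], [15, 0, 57135, 58415], [23, 0, 57138, 58415], [24, 0, 58402, 58415], [25, 0, 58407, 58415], [26, 0, 57130, 58415], [311, 0, 58410, 46649, 51974], [328, 3, 58410, 46583, 51974], [317, 0, 51973, 58434, 58413], [318, 1, 51762, 58434, 58157], [321, 0, 51765, 58434, 58158], [319, 2, 58161, 58440, 51766], [413, 0, 58440, 57145, 57128], [303, 2, 51767, 58444, 58160], [299, 0, 58163, 58446, 51768], [303, 2, 51771, 58448, 58164], [413, 1, 57149, 57124, 58448], [319,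 2, 58165, 58452, 51770], [328, 1, 51773, 58454, 58166], [320, 3, 58169, 58456, 51774], [413, 0, 58456, 57153, 57120], [304, 3, 51775, 58460, 58168], [300, 1, 58171, 58462, 51776], [304, 3, 51779, 58464, 58172], [413, 1, 57157, 57116, 58464], [320, 3, 58173, 58468, 51778], [328, 1, 51781, 58470, 58174], [413, 0, 58472, 57161, 57112], [303, 2, 51783, 58474, 58176], [299, 0, 58179, 58476, 51784], [413, 1, 57165, 57024, 58478], [413, 0, 58438, 57143, 57132], [414, 3, 58438, 58482, 58408], [302, 1, 56890, 58484, 58155], [298, 1, 55029, 55258, 58152, 58486], [414, 0, 58486, 57167, 57141], [414, 1, 58491, 58487, 58436], [113, 3, 56891, 58488, 55030], [62, 1, 55034, 58420], [125, 1, 55037, 58420, 56896], [0, 0], [249, 2, 35620, 52156, 58500], [249, 3, 58502, 52156, 58500], [279, 0, 58502, 1308, 58503], [295, 0, 58502, 1154, 58503], [297, 4, 58502, 8630, 37764, 52101], [298, 1, 58502, 8632, 48434, 48441], [327, 0, 58502, 973, 52077], [343, 0, 58502, 37938, 58503], [359, 0, 58502, 37941, 58503], [375, 0, 58502, 974, 58503], [266, 1, 52076, 1390, 58503, 58506], [313, 3, 58515,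 52076, 966, 58503], [321, 1, 37418, 52101, 58514], [226, 3, 52087, 48126, 24091, 58512], [0, 0], [281, 2, 52033, 1154, 52156, 58530], [266, 3, 58532, 52051, 52037, 52139], [297, 1, 58532, 52043, 10785, 11809], [298, 3, 58532, 52066, 51980, 35840], [311, 2, 58532, 52066, 52139], [313, 1, 58532, 52041, 52059, 52139], [328, 1, 58532, 52059, 52139], [0, 0], [0, 0], [0, 0], [0, 0], [0, 0], [0, 0], [0, 0], [0, 0], [0, 0], [0, 0], [0, 0], [0, 0], [0, 0], [0, 0], [0, 0], [0, 0], [0, 0], [0, 0], [0, 0], [0, 0], [0, 0], [0, 0], [0, 0], [0, 0], [0, 0], [0, 0], [0, 0], [0, 0], [0, 0], [0, 0], [329, 32, 52157, 37938, 52156, 58500, 58546, 58548, 58550, 58552, 58554, 58556, 58558, 58560, 58562, 58564, 58566, 58568, 58570, 58572, 58574, 58576, 58578, 58580, 58582, 58584, 58586, 58588, 58590, 58592, 58594, 58596, 58598, 58600, 58602, 58604], [125, 1, 58606, 52163, 47413], [126, 2, 58606, 52165, 49719], [218, 3, 58606, 52165, 25967, 46406], [255, 2, 58606, 52169, 58607], [271, 2, 58606, 52171, 58607], [287, 2, 58606, 52173, 58607], [303, 2, 58606, 52175, 52253], [320, 1, 58606,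 52158, 52253], [335, 2, 58606, 52176, 58607], [351, 2, 58606, 52178, 58607], [367, 2, 58606, 52180, 58607], [363, 0, 58604, 58628, 58605], [367, 2, 58602, 58630, 58603], [376, 1, 58600, 58632, 58601], [368, 3, 58598, 58634, 58599], [364, 1, 58596, 58636, 58597], [368, 3, 58594, 58638, 58595], [375, 0, 58592, 58640, 58593], [367, 2, 58590, 58642, 58591], [363, 0, 58588, 58644, 58589], [367, 2, 58586, 58646, 58587], [375, 0, 58584, 58648, 58585], [368, 3, 58582, 58650, 58583], [364, 1, 58580, 58652, 58581], [368, 3, 58578, 58654, 58579], [376, 1, 58576, 58656, 58577], [367, 2, 58574, 58658, 58575], [363, 0, 58572, 58660, 58573], [367, 2, 58570, 58662, 58571], [376, 1, 58568, 58664, 58569], [368, 3, 58566, 58666, 58567], [364, 1, 58564, 58668, 58565], [368, 3, 58562, 58670, 58563], [376, 1, 58560, 58672, 58561], [367, 2, 58558, 58674, 58559], [363, 0, 58556, 58676, 58557], [367, 2, 58554, 58678, 58555], [375, 0, 58552, 58680, 58553], [368, 3, 58550, 58682, 58551], [364, 1, 58548, 58684, 58549], [347, 0, 58604, 58626, 58605], [351, 2, 58602, 58688, 58603], [360, 1,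 58600, 58690, 58601], [352, 3, 58598, 58692, 58599], [348, 1, 58596, 58694, 58597], [352, 3, 58594, 58696, 58595], [359, 0, 58592, 58698, 58593], [351, 2, 58590, 58700, 58591], [347, 0, 58588, 58702, 58589], [351, 2, 58586, 58704, 58587], [359, 0, 58584, 58706, 58585], [352, 3, 58582, 58708, 58583], [348, 1, 58580, 58710, 58581], [352, 3, 58578, 58712, 58579], [360, 1, 58576, 58714, 58577], [351, 2, 58574, 58716, 58575], [347, 0, 58572, 58718, 58573], [351, 2, 58570, 58720, 58571], [360, 1, 58568, 58722, 58569], [352, 3, 58566, 58724, 58567], [348, 1, 58564, 58726, 58565], [352, 3, 58562, 58728, 58563], [360, 1, 58560, 58730, 58561], [351, 2, 58558, 58732, 58559], [347, 0, 58556, 58734, 58557], [351, 2, 58554, 58736, 58555], [359, 0, 58552, 58738, 58553], [352, 3, 58550, 58740, 58551], [348, 1, 58548, 58742, 58549], [331, 0, 58604, 58624, 58605], [335, 2, 58602, 58746, 58603], [344, 1, 58600, 58748, 58601], [336, 3, 58598, 58750, 58599], [332, 1, 58596, 58752, 58597], [336, 3, 58594, 58754, 58595], [343, 0, 58592, 58756, 58593], [335, 2, 58590, 58758, 58591], [331,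 0, 58588, 58760, 58589], [335, 2, 58586, 58762, 58587], [343, 0, 58584, 58764, 58585], [336, 3, 58582, 58766, 58583], [332, 1, 58580, 58768, 58581], [336, 3, 58578, 58770, 58579], [344, 1, 58576, 58772, 58577], [335, 2, 58574, 58774, 58575], [331, 0, 58572, 58776, 58573], [335, 2, 58570, 58778, 58571], [344, 1, 58568, 58780, 58569], [336, 3, 58566, 58782, 58567], [332, 1, 58564, 58784, 58565], [336, 3, 58562, 58786, 58563], [344, 1, 58560, 58788, 58561], [335, 2, 58558, 58790, 58559], [331, 0, 58556, 58792, 58557], [335, 2, 58554, 58794, 58555], [343, 0, 58552, 58796, 58553]]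
def dJ150 : List (List ℕ) := [[296, 3, 59754, 59998, 59755], [287, 0, 59752, 60000, 59753], [283, 2, 59750, 60002, 59751], [287, 0, 59748, 60004, 59749], [295, 2, 59746, 60006, 59747], [288, 1, 59744, 60008, 59745], [284, 3, 59742, 60010, 59743], [288, 1, 59740, 60012, 59741], [295, 2, 59738, 60014, 59739], [287, 0, 59736, 60016, 59737], [283, 2, 59734, 60018, 59735], [287, 0, 59732, 60020, 59733], [295, 2, 59730, 60022, 59731], [271, 0, 59764, 59986, 59765], [280, 3, 59762, 60026, 59763], [272, 1, 59760, 60028, 59761], [268, 3, 59758, 60030, 59759], [272, 1, 59756, 60032, 59757], [280, 3, 59754, 60034, 59755], [271, 0, 59752, 60036, 59753], [267, 2, 59750, 60038, 59751], [271, 0, 59748, 60040, 59749], [279, 2, 59746, 60042, 59747], [272, 1, 59744, 60044, 59745], [268, 3, 59742, 60046, 59743], [272, 1, 59740, 60048, 59741], [279, 2, 59738, 60050, 59739], [271, 0, 59736, 60052, 59737], [267, 2, 59734, 60054, 59735], [271, 0, 59732, 60056, 59733], [279, 2, 59730, 60058, 59731], [255, 0, 59764, 59984, 59765], [264, 3, 59762, 60062, 59763], [256, 1, 59760, 60064, 59761],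 [252, 3, 59758, 60066, 59759], [256, 1, 59756, 60068, 59757], [264, 3, 59754, 60070, 59755], [255, 0, 59752, 60072, 59753], [251, 2, 59750, 60074, 59751], [255, 0, 59748, 60076, 59749], [263, 2, 59746, 60078, 59747], [256, 1, 59744, 60080, 59745], [252, 3, 59742, 60082, 59743], [256, 1, 59740, 60084, 59741], [263, 2, 59738, 60086, 59739], [255, 0, 59736, 60088, 59737], [251, 2, 59734, 60090, 59735], [255, 0, 59732, 60092, 59733], [263, 2, 59730, 60094, 59731], [311, 0, 59762, 59982, 52239], [414, 2, 59982, 58999, 59101], [327, 0, 52238, 60100, 59763], [319, 2, 59760, 60102, 52237], [315, 0, 52234, 60104, 59759], [414, 3, 59003, 59097, 60104], [299, 0, 59758, 60108, 52235], [303, 2, 52232, 60110, 59757], [311, 0, 59754, 60112, 52231], [414, 2, 60112, 59007, 59093], [327, 0, 52230, 60116, 59755], [320, 3, 59752, 60118, 52229], [316, 1, 52226, 60120, 59751], [414, 3, 59011, 59089, 60120], [300, 1, 59750, 60124, 52227], [304, 3, 52224, 60126, 59749], [312, 1, 59746, 60128, 52223], [414, 2, 60128, 59015, 59085], [328, 1, 52222, 60132, 59747], [319, 2, 59744, 60134,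 52221], [315, 0, 52218, 60136, 59743], [414, 3, 59019, 59081, 60136], [299, 0, 59742, 60140, 52219], [303, 2, 52216, 60142, 59741], [312, 1, 59738, 60144, 52215], [414, 2, 60144, 59023, 59077], [328, 1, 52214, 60148, 59739], [320, 3, 59736, 60150, 52213], [316, 1, 52210, 60152, 59735], [414, 3, 59027, 59073, 60152], [300, 1, 59734, 60156, 52211], [304, 3, 52208, 60158, 59733], [312, 1, 59730, 60160, 52207], [414, 2, 60160, 59031, 59069], [328, 1, 52206, 60164, 59731], [319, 2, 59728, 60166, 52205], [315, 0, 52202, 60168, 59727], [414, 3, 59035, 59065, 60168], [299, 0, 59726, 60172, 52203], [303, 2, 52200, 60174, 59725], [301, 1, 60176, 55609, 55614], [309, 1, 60176, 59057, 60177], [311, 1, 59722, 60176, 52199, 52648], [7, 0, 59720, 60183, 59112], [15, 0, 59723, 60183], [3, 0, 59718, 60185], [414, 2, 60176, 59039, 59061], [85, 1, 47887, 59043, 60188], [86, 2, 46255, 59045, 60188], [93, 1, 59049, 59053, 60188], [94, 2, 52194, 59108, 60188], [201, 1, 44691, 13642, 59043, 60188], [233, 2, 59049, 59053, 59115, 60188], [234, 2, 52194, 59116, 59108, 60188], [299, 2, 52194,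 59118, 60188], [316, 1, 52194, 59120, 60188], [322, 0, 60208, 52636, 48404], [312, 1, 58553, 59119, 60186], [327, 2, 58553, 59121, 60186], [319, 0, 59725, 60214, 58554], [315, 2, 58557, 60216, 59726], [413, 0, 60216, 60175, 60171], [299, 2, 59727, 60220, 58556], [303, 0, 58559, 60222, 59728], [312, 3, 59731, 60224, 58560], [413, 1, 60163, 60167, 60224], [328, 3, 58561, 60228, 59730], [320, 1, 59733, 60230, 58562], [413, 0, 60232, 60159, 60155], [300, 3, 59735, 60234, 58564], [304, 1, 58567, 60236, 59736], [312, 3, 59739, 60238, 58568], [413, 1, 60147, 60151, 60238], [328, 3, 58569, 60242, 59738], [319, 0, 59741, 60244, 58570], [315, 2, 58573, 60246, 59742], [413, 0, 60246, 60143, 60139], [299, 2, 59743, 60250, 58572], [303, 0, 58575, 60252, 59744], [312, 3, 59747, 60254, 58576], [413, 1, 60131, 60135, 60254], [328, 3, 58577, 60258, 59746], [320, 1, 59749, 60260, 58578], [316, 3, 58581, 60262, 59750], [413, 0, 60262, 60127, 60123], [300, 3, 59751, 60266, 58580], [304, 1, 58583, 60268, 59752], [311, 2, 59755, 60270, 58584], [413, 1, 60115, 60119, 60270], [327, 2,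 58585, 60274, 59754], [319, 0, 59757, 60276, 58586], [413, 0, 60278, 60111, 60107], [299, 2, 59759, 60280, 58588], [303, 0, 58591, 60282, 59760], [311, 2, 59763, 60284, 58592], [413, 1, 60099, 60103, 60284], [327, 2, 58593, 60288, 59762], [320, 1, 59765, 60290, 58594], [316, 3, 58597, 60292, 59766], [413, 0, 60292, 59981, 59971], [300, 3, 59767, 60296, 58596], [0, 0], [0, 0], [0, 0], [0, 0], [0, 0], [0, 0], [0, 0], [0, 0], [0, 0], [0, 0], [0, 0], [0, 0], [345, 19, 59756, 59758, 59760, 59761, 59759, 59757, 59755, 59753, 59751, 59749, 59748, 59750, 59752, 59754, 59756, 59758, 59760, 59762, 59764, 59766, 59768, 59949, 58813, 59944, 59776, 52112, 37961, 8688, 37308, 36943, 36966, 46790, 46257, 24803, 60300, 60302, 60304, 60306, 60308, 60310, 60312, 60314, 60316, 60318, 60320, 60322], [250, 1, 60324, 59755, 60073], [263, 2, 60324, 60070, 60325], [279, 2, 60324, 60034, 60325], [295, 2, 60324, 59998, 60325], [311, 2, 60324, 60273, 59165], [312, 1, 60324, 60112, 52681], [327, 2, 60324, 60117, 52681], [328, 1, 60324, 60276, 59165], [343, 2, 60324, 59915, 60325], [359, 2,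 60324, 59869, 60325], [375, 2, 60324, 59823, 60325], [367, 0, 60322, 60346, 60323], [363, 2, 60320, 60348, 60321], [367, 0, 60318, 60350, 60319], [375, 2, 60316, 60352, 60317], [368, 1, 60314, 60354, 60315], [364, 3, 60312, 60356, 60313], [368, 1, 60310, 60358, 60311], [376, 3, 60308, 60360, 60309], [367, 0, 60306, 60362, 60307], [363, 2, 60304, 60364, 60305], [367, 0, 60302, 60366, 60303], [351, 0, 60322, 60344, 60323], [347, 2, 60320, 60370, 60321], [351, 0, 60318, 60372, 60319], [359, 2, 60316, 60374, 60317], [352, 1, 60314, 60376, 60315], [348, 3, 60312, 60378, 60313], [352, 1, 60310, 60380, 60311], [360, 3, 60308, 60382, 60309], [351, 0, 60306, 60384, 60307], [347, 2, 60304, 60386, 60305], [351, 0, 60302, 60388, 60303], [335, 0, 60322, 60342, 60323], [331, 2, 60320, 60392, 60321], [335, 0, 60318, 60394, 60319], [343, 2, 60316, 60396, 60317]]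
def dJ154 : List (List ℕ) := [[0, 0], [361, 18, 60973, 60971, 60969, 60967, 60965, 60963, 60961, 61387, 61385, 61383, 61381, 61379, 61377, 61375, 61373, 61371, 61369, 61367, 61365, 54507, 23781, 50220, 50225, 36761, 2630, 32957, 4478, 1550, 4479, 33117, 61570, 61572, 61574, 61576, 61578, 61580, 61582, 61584, 61586, 61588, 61590, 61592, 61594, 61596, 61598, 61600], [250, 1, 61602, 60974, 49203], [263, 2, 61602, 60977, 61603], [279, 2, 61602, 60979, 61603], [282, 3, 61602, 60983, 60981, 51789], [295, 2, 61602, 60983, 61603], [312, 1, 61602, 60985, 53589], [327, 2, 61602, 60987, 53589], [343, 2, 61602, 60989, 61603], [359, 2, 61602, 60991, 61603], [375, 2, 61602, 60993, 61603], [367, 0, 61600, 61622, 61601], [363, 2, 61598, 61624, 61599], [367, 0, 61596, 61626, 61597], [376, 3, 61594, 61628, 61595], [368, 1, 61592, 61630, 61593], [364, 3, 61590, 61632, 61591], [368, 1, 61588, 61634, 61589], [376, 3, 61586, 61636, 61587], [367, 0, 61584, 61638, 61585], [363, 2, 61582, 61640, 61583], [367, 0, 61580, 61642, 61581], [369, 2, 61578, 61644, 61579], [366, 1, 61576, 61646,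 61577], [365, 2, 61574, 61648, 61575], [376, 1, 61572, 61650, 61573], [351, 0, 61600, 61620, 61601], [347, 2, 61598, 61654, 61599], [351, 0, 61596, 61656, 61597], [360, 3, 61594, 61658, 61595], [352, 1, 61592, 61660, 61593], [348, 3, 61590, 61662, 61591], [352, 1, 61588, 61664, 61589], [360, 3, 61586, 61666, 61587], [351, 0, 61584, 61668, 61585], [347, 2, 61582, 61670, 61583], [351, 0, 61580, 61672, 61581], [353, 2, 61578, 61674, 61579], [350, 1, 61576, 61676, 61577], [349, 2, 61574, 61678, 61575], [360, 1, 61572, 61680, 61573], [335, 0, 61600, 61618, 61601], [331, 2, 61598, 61684, 61599], [335, 0, 61596, 61686, 61597], [344, 3, 61594, 61688, 61595], [336, 1, 61592, 61690, 61593], [332, 3, 61590, 61692, 61591], [336, 1, 61588, 61694, 61589], [344, 3, 61586, 61696, 61587], [335, 0, 61584, 61698, 61585], [331, 2, 61582, 61700, 61583], [335, 0, 61580, 61702, 61581], [337, 2, 61578, 61704, 61579], [334, 1, 61576, 61706, 61577], [333, 2, 61574, 61708, 61575], [344, 1, 61572, 61710, 61573], [313, 3, 61616, 61605, 49767, 59364], [319, 0, 53586, 61616, 61601], [326, 0,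 59547, 61714, 61616], [315, 2, 61598, 61716, 53585], [383, 0, 61716, 53773, 61717], [395, 0, 61716, 53747, 61717], [405, 0, 61716, 53689, 61717], [283, 2, 61598, 61726, 61599], [287, 0, 61596, 61728, 61597], [296, 3, 61594, 61730, 61595], [288, 1, 61592, 61732, 61593], [284, 3, 61590, 61734, 61591], [288, 1, 61588, 61736, 61589], [296, 3, 61586, 61738, 61587], [287, 0, 61584, 61740, 61585], [283, 2, 61582, 61742, 61583], [287, 0, 61580, 61744, 61581], [289, 2, 61578, 61746, 61579], [286, 1, 61576, 61748, 61577], [285, 2, 61574, 61750, 61575], [296, 1, 61572, 61752, 61573], [267, 2, 61598, 61724, 61599], [271, 0, 61596, 61756, 61597], [280, 3, 61594, 61758, 61595], [272, 1, 61592, 61760, 61593], [268, 3, 61590, 61762, 61591], [272, 1, 61588, 61764, 61589], [280, 3, 61586, 61766, 61587], [271, 0, 61584, 61768, 61585], [267, 2, 61582, 61770, 61583], [271, 0, 61580, 61772, 61581], [273, 2, 61578, 61774, 61579], [270, 1, 61576, 61776, 61577], [269, 2, 61574, 61778, 61575], [280, 1, 61572, 61780, 61573], [251, 2, 61598, 61722, 61599], [255, 0, 61596, 61784, 61597], [264,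 3, 61594, 61786, 61595], [256, 1, 61592, 61788, 61593], [252, 3, 61590, 61790, 61591], [256, 1, 61588, 61792, 61589], [264, 3, 61586, 61794, 61587], [255, 0, 61584, 61796, 61585], [251, 2, 61582, 61798, 61583], [255, 0, 61580, 61800, 61581], [257, 2, 61578, 61802, 61579], [254, 1, 61576, 61804, 61577], [253, 2, 61574, 61806, 61575], [264, 1, 61572, 61808, 61573], [319, 0, 53582, 61720, 61597], [328, 3, 61594, 61812, 53581], [320, 1, 53578, 61814, 61593], [316, 3, 61590, 61816, 53577], [320, 1, 53574, 61818, 61589], [328, 3, 61586, 61820, 53573], [319, 0, 53570, 61822, 61585], [315, 2, 61582, 61824, 53569], [319, 0, 53566, 61826, 61581], [321, 2, 61578, 61828, 53565], [318, 1, 53562, 61830, 61577], [317, 2, 61574, 61832, 53561], [327, 3, 61832, 53715, 46776], [282, 3, 61836, 61750, 61575, 61573], [312, 3, 53715, 46781, 61836], [301, 0, 61577, 61840, 53562], [302, 1, 61574, 61840, 53561], [298, 1, 56889, 46555, 53558, 61844], [301, 1, 61843, 53774, 61844], [305, 3, 61844, 61846, 58487], [311, 2, 53558, 61844, 61573], [299, 1, 61852, 47946, 47987], [300, 2, 61852,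 46480, 14291], [303, 1, 61852, 13763, 44697], [306, 2, 61852, 46554, 48538], [307, 1, 61852, 13761, 47906], [308, 2, 61852, 47073, 47716], [309, 1, 61852, 13756, 47870], [310, 2, 61852, 13755, 47989], [414, 2, 61852, 47576, 47575], [309, 0, 47547, 47986, 61868], [326, 3, 47547, 47977, 61868], [113, 1, 58159, 58413, 61850, 53775], [7, 0, 58161, 61877], [24, 0, 58400, 61877, 61842], [24, 0, 58444, 61877], [25, 0, 58441, 61877], [5, 0, 61576, 61880], [6, 0, 61848, 61880], [9, 0, 61579, 61880, 58496], [24, 0, 61842, 61880], [25, 0, 61830, 61880], [7, 0, 61581, 61891], [25, 0, 61829, 61891], [114, 0, 58155, 61850, 53560], [306, 2, 61840, 61900, 58485], [62, 1, 58494, 61902], [115, 1, 61846, 56890, 61902, 61904, 55031], [322, 2, 58429, 55035, 61898], [327, 1, 50234, 55269, 61898], [312, 3, 61910, 50232, 55269], [304, 1, 61897, 61912, 53566], [300, 3, 53569, 61914, 61582], [304, 1, 61585, 61916, 53570], [311, 2, 53573, 61918, 61586], [303, 0, 61589, 61920, 53574], [299, 2, 53577, 61922, 61590], [303, 0, 61593, 61924, 53578], [311, 2, 53581, 61926, 61594], [304, 1, 61597,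 61928, 53582], [300, 3, 53585, 61930, 61598], [125, 1, 56897, 58496, 61896], [126, 2, 55037, 55035, 61896], [305, 3, 61914, 61934, 58399], [0, 0], [0, 0], [0, 0], [0, 0], [0, 0], [0, 0], [0, 0], [0, 0], [0, 0], [0, 0], [0, 0], [0, 0], [0, 0], [0, 0], [0, 0], [0, 0], [0, 0], [0, 0], [0, 0], [0, 0], [0, 0], [0, 0], [0, 0], [329, 29, 11928, 12982, 37011, 32893, 37962, 32892, 48436, 48429, 48395, 24742, 54116, 61940, 61942, 61944, 61946, 61948, 61950, 61952, 61954, 61956, 61958, 61960, 61962, 61964, 61966, 61968, 61970, 61972, 61974, 61976, 61978, 61980, 61982, 61984], [263, 2, 61986, 42090, 61987], [279, 2, 61986, 11795, 61987], [282, 3, 61986, 11797, 52627, 52247], [295, 2, 61986, 11797, 61987], [312, 1, 61986, 12195, 55319], [327, 2, 61986, 12201, 55319]]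
def dJ158 : List (List ℕ) := [[393, 2, 63195, 61138, 63194], [403, 2, 63195, 61140, 63194], [284, 1, 62956, 63202, 62957], [288, 3, 62954, 63204, 62955], [295, 0, 62952, 63206, 62953], [287, 2, 62950, 63208, 62951], [283, 0, 62948, 63210, 62949], [287, 2, 62946, 63212, 62947], [295, 0, 62944, 63214, 62945], [288, 3, 62942, 63216, 62943], [284, 1, 62940, 63218, 62941], [288, 3, 62938, 63220, 62939], [296, 1, 62936, 63222, 62937], [287, 2, 62934, 63224, 62935], [283, 0, 62932, 63226, 62933], [287, 2, 62930, 63228, 62931], [296, 1, 62928, 63230, 62929], [288, 3, 62926, 63232, 62927], [284, 1, 62924, 63234, 62925], [288, 3, 62922, 63236, 62923], [296, 1, 62920, 63238, 62921], [287, 2, 62918, 63240, 62919], [268, 1, 62956, 63200, 62957], [272, 3, 62954, 63244, 62955], [279, 0, 62952, 63246, 62953], [271, 2, 62950, 63248, 62951], [267, 0, 62948, 63250, 62949], [271, 2, 62946, 63252, 62947], [279, 0, 62944, 63254, 62945], [272, 3, 62942, 63256, 62943], [268, 1, 62940, 63258, 62941], [272, 3, 62938, 63260, 62939], [280, 1, 62936, 63262, 62937], [271, 2, 62934, 63264, 62935],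 [267, 0, 62932, 63266, 62933], [271, 2, 62930, 63268, 62931], [280, 1, 62928, 63270, 62929], [272, 3, 62926, 63272, 62927], [268, 1, 62924, 63274, 62925], [272, 3, 62922, 63276, 62923], [280, 1, 62920, 63278, 62921], [271, 2, 62918, 63280, 62919], [252, 1, 62956, 63198, 62957], [256, 3, 62954, 63284, 62955], [263, 0, 62952, 63286, 62953], [255, 2, 62950, 63288, 62951], [251, 0, 62948, 63290, 62949], [255, 2, 62946, 63292, 62947], [263, 0, 62944, 63294, 62945], [256, 3, 62942, 63296, 62943], [252, 1, 62940, 63298, 62941], [256, 3, 62938, 63300, 62939], [264, 1, 62936, 63302, 62937], [255, 2, 62934, 63304, 62935], [251, 0, 62932, 63306, 62933], [255, 2, 62930, 63308, 62931], [264, 1, 62928, 63310, 62929], [256, 3, 62926, 63312, 62927], [252, 1, 62924, 63314, 62925], [256, 3, 62922, 63316, 62923], [264, 1, 62920, 63318, 62921], [255, 2, 62918, 63320, 62919], [303, 0, 62954, 63196, 60969], [414, 2, 63196, 61135, 61360], [319, 0, 60968, 63326, 62955], [328, 3, 62952, 63328, 60967], [320, 1, 60964, 63330, 62951], [414, 3, 61277, 61356, 63330], [304, 1, 62950, 63334,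 60965], [300, 3, 60962, 63336, 62949], [304, 1, 62946, 63338, 60961], [414, 2, 63338, 61281, 61352], [320, 1, 60960, 63342, 62947], [328, 3, 62944, 63344, 60959], [319, 0, 60956, 63346, 62943], [414, 3, 61285, 61348, 63346], [303, 0, 62942, 63350, 60957], [299, 2, 60954, 63352, 62941], [303, 0, 62938, 63354, 60953], [414, 2, 63354, 61289, 61344], [319, 0, 60952, 63358, 62939], [327, 2, 62936, 63360, 60951], [320, 1, 60948, 63362, 62935], [414, 3, 61293, 61340, 63362], [304, 1, 62934, 63366, 60949], [300, 3, 60946, 63368, 62933], [304, 1, 62930, 63370, 60945], [414, 2, 63370, 61297, 61336], [320, 1, 60944, 63374, 62931], [327, 2, 62928, 63376, 60943], [414, 3, 61301, 61332, 63378], [303, 0, 62926, 63380, 60941], [299, 2, 60938, 63382, 62925], [303, 0, 62922, 63384, 60937], [414, 2, 63384, 61305, 61328], [319, 0, 60936, 63388, 62923], [327, 2, 62920, 63390, 60935], [320, 1, 60932, 63392, 62919], [414, 3, 61309, 61324, 63392], [304, 1, 62918, 63396, 60933], [300, 3, 60930, 63398, 62917], [304, 1, 62914, 63400, 60929], [414, 2, 63400, 61313, 61320], [320, 1, 60928,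 63404, 62915], [317, 3, 63406, 61317, 57802], [46, 1, 56563, 63408], [301, 0, 53384, 56571, 63408], [318, 3, 53384, 56560, 63408], [319, 0, 62915, 63414, 53048], [315, 2, 53051, 63416, 62916], [413, 0, 63416, 63400, 63404], [299, 2, 62917, 63420, 53050], [303, 0, 53053, 63422, 62918], [312, 3, 62921, 63424, 53054], [413, 1, 63396, 63392, 63424], [328, 3, 53055, 63428, 62920], [320, 1, 62923, 63430, 53056], [413, 0, 63432, 63384, 63388], [300, 3, 62925, 63434, 53058], [304, 1, 53061, 63436, 62926], [312, 3, 62929, 63438, 53062], [413, 1, 63380, 63378, 63438], [328, 3, 53063, 63442, 62928], [319, 0, 62931, 63444, 53064], [315, 2, 53067, 63446, 62932], [413, 0, 63446, 63370, 63374], [299, 2, 62933, 63450, 53066], [303, 0, 53069, 63452, 62934], [312, 3, 62937, 63454, 53070], [413, 1, 63366, 63362, 63454], [328, 3, 53071, 63458, 62936], [320, 1, 62939, 63460, 53072], [316, 3, 53075, 63462, 62940], [413, 0, 63462, 63354, 63358], [300, 3, 62941, 63466, 53074], [304, 1, 53077, 63468, 62942], [311, 2, 62945, 63470, 53078], [413, 1, 63350, 63346, 63470], [327, 2, 53079,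 63474, 62944], [319, 0, 62947, 63476, 53080], [315, 2, 53083, 63478, 62948], [413, 0, 63478, 63338, 63342], [299, 2, 62949, 63482, 53082], [303, 0, 53085, 63484, 62950], [311, 2, 62953, 63486, 53086], [413, 1, 63334, 63330, 63486], [327, 2, 53087, 63490, 62952], [320, 1, 62955, 63492, 53088], [413, 0, 63494, 63196, 63326], [300, 3, 62957, 63496, 53090], [304, 1, 53093, 63498, 62958], [413, 1, 63192, 63180, 63500], [45, 2, 63182, 57510], [37, 1, 48640, 63178], [37, 1, 49521, 63144], [0, 0], [0, 0], [0, 0], [0, 0], [0, 0], [0, 0], [0, 0], [0, 0], [0, 0], [0, 0], [0, 0], [0, 0], [345, 19, 62946, 62948, 62950, 62951, 62949, 62947, 62945, 62943, 62941, 62939, 62938, 62940, 62942, 62944, 62946, 62948, 62950, 62952, 62954, 62956, 62958, 62960, 63147, 63144, 62966, 36827, 37305, 6549, 32882, 8076, 36742, 50600, 50595, 24767, 63510, 63512, 63514, 63516, 63518, 63520, 63522, 63524, 63526, 63528, 63530, 63532], [250, 1, 63534, 62945, 63296], [263, 2, 63534, 63295, 63535], [279, 2, 63534, 63255, 63535], [295, 2, 63534, 63215, 63535], [311, 2, 63534, 63473, 53411], [312, 1,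 63534, 63341, 61387], [327, 2, 63534, 63344, 61387], [328, 1, 63534, 63476, 53411], [343, 2, 63534, 63113, 63535], [359, 2, 63534, 63065, 63535], [375, 2, 63534, 63017, 63535], [320, 3, 53408, 63550, 63533], [316, 1, 63530, 63558, 53407], [413, 2, 63558, 61567, 61466], [300, 1, 53406, 63562, 63531], [304, 3, 63528, 63564, 53405], [312, 1, 53402, 63566, 63527], [413, 3, 61563, 61530, 63566], [328, 1, 63526, 63570, 53403], [319, 2, 53400, 63572, 63525], [315, 0, 63522, 63574, 53399], [413, 2, 63574, 61559, 61534], [299, 0, 53398, 63578, 63523], [303, 2, 63520, 63580, 53397], [311, 0, 53394, 63582, 63519], [413, 3, 61555, 61538, 63582], [327, 0, 63518, 63586, 53395], [320, 3, 53392, 63588, 63517], [413, 2, 63590, 61551, 61542], [300, 1, 53390, 63592, 63515], [304, 3, 63512, 63594, 53389], [305, 3, 63594, 56865, 58101]]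
def dJ162 : List (List ℕ) := [[363, 2, 64742, 64798, 64743], [367, 0, 64740, 64800, 64741], [369, 2, 64738, 64802, 64739], [366, 1, 64736, 64804, 64737], [365, 2, 64734, 64806, 64735], [376, 1, 64732, 64808, 64733], [351, 0, 64760, 64778, 64761], [347, 2, 64758, 64812, 64759], [351, 0, 64756, 64814, 64757], [360, 3, 64754, 64816, 64755], [352, 1, 64752, 64818, 64753], [348, 3, 64750, 64820, 64751], [352, 1, 64748, 64822, 64749], [360, 3, 64746, 64824, 64747], [351, 0, 64744, 64826, 64745], [347, 2, 64742, 64828, 64743], [351, 0, 64740, 64830, 64741], [353, 2, 64738, 64832, 64739], [350, 1, 64736, 64834, 64737], [349, 2, 64734, 64836, 64735], [360, 1, 64732, 64838, 64733], [335, 0, 64760, 64776, 64761], [331, 2, 64758, 64842, 64759], [335, 0, 64756, 64844, 64757], [344, 3, 64754, 64846, 64755], [336, 1, 64752, 64848, 64753], [332, 3, 64750, 64850, 64751], [336, 1, 64748, 64852, 64749], [344, 3, 64746, 64854, 64747], [335, 0, 64744, 64856, 64745], [331, 2, 64742, 64858, 64743], [335, 0, 64740, 64860, 64741], [337, 2, 64738, 64862, 64739], [334, 1, 64736, 64864, 64737],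 [333, 2, 64734, 64866, 64735], [344, 1, 64732, 64868, 64733], [320, 3, 55796, 64774, 64761], [383, 2, 64872, 55964, 64873], [395, 2, 64872, 55934, 64873], [405, 2, 64872, 55904, 64873], [413, 2, 64872, 62911, 62694], [300, 1, 55794, 64880, 64759], [304, 3, 64756, 64882, 55793], [381, 0, 64882, 55966, 64883], [393, 0, 64882, 55936, 64883], [403, 0, 64882, 55906, 64883], [288, 3, 64756, 64890, 64757], [295, 0, 64754, 64892, 64755], [287, 2, 64752, 64894, 64753], [283, 0, 64750, 64896, 64751], [287, 2, 64748, 64898, 64749], [295, 0, 64746, 64900, 64747], [288, 3, 64744, 64902, 64745], [284, 1, 64742, 64904, 64743], [288, 3, 64740, 64906, 64741], [290, 1, 64738, 64908, 64739], [285, 2, 64736, 64910, 64737], [286, 1, 64734, 64912, 64735], [295, 2, 64732, 64914, 64733], [272, 3, 64756, 64888, 64757], [279, 0, 64754, 64918, 64755], [271, 2, 64752, 64920, 64753], [267, 0, 64750, 64922, 64751], [271, 2, 64748, 64924, 64749], [279, 0, 64746, 64926, 64747], [272, 3, 64744, 64928, 64745], [268, 1, 64742, 64930, 64743], [272, 3, 64740, 64932, 64741], [274, 1, 64738, 64934,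 64739], [269, 2, 64736, 64936, 64737], [270, 1, 64734, 64938, 64735], [279, 2, 64732, 64940, 64733], [256, 3, 64756, 64886, 64757], [263, 0, 64754, 64944, 64755], [255, 2, 64752, 64946, 64753], [251, 0, 64750, 64948, 64751], [255, 2, 64748, 64950, 64749], [263, 0, 64746, 64952, 64747], [256, 3, 64744, 64954, 64745], [252, 1, 64742, 64956, 64743], [256, 3, 64740, 64958, 64741], [258, 1, 64738, 64960, 64739], [253, 2, 64736, 64962, 64737], [254, 1, 64734, 64964, 64735], [263, 2, 64732, 64966, 64733], [311, 0, 55790, 64884, 64755], [413, 3, 62907, 62788, 64884], [327, 0, 64754, 64972, 55791], [319, 2, 55788, 64974, 64753], [315, 0, 64750, 64976, 55787], [413, 2, 64976, 62903, 62792], [299, 0, 55786, 64980, 64751], [303, 2, 64748, 64982, 55785], [311, 0, 55782, 64984, 64747], [413, 3, 62899, 62796, 64984], [327, 0, 64746, 64988, 55783], [320, 3, 55780, 64990, 64745], [413, 2, 64992, 62895, 62800], [300, 1, 55778, 64994, 64743], [304, 3, 64740, 64996, 55777], [305, 3, 64996, 62889, 60820], [126, 1, 52836, 65000, 64741, 64739], [5, 0, 64736, 65002], [10, 0, 64739, 65002],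 [306, 3, 62890, 59624, 65000], [321, 0, 62890, 59602, 65000], [316, 3, 64743, 65010, 62562], [320, 3, 64740, 65010, 62827], [321, 3, 60913, 54295, 65014], [328, 0, 46750, 54504, 65014], [414, 3, 62832, 62831, 65014], [414, 2, 64998, 65015, 65021], [320, 1, 62565, 65012, 64744], [413, 2, 65012, 64995, 64993], [304, 1, 64745, 65026, 62564], [311, 2, 62567, 65028, 64746], [303, 0, 64749, 65030, 62568], [413, 3, 64985, 64989, 65030], [319, 0, 62569, 65034, 64748], [315, 2, 64751, 65036, 62570], [319, 0, 62573, 65038, 64752], [413, 2, 65038, 64981, 64977], [303, 0, 64753, 65042, 62572], [311, 2, 62575, 65044, 64754], [304, 1, 64757, 65046, 62576], [413, 3, 64885, 64973, 65046], [320, 1, 62577, 65050, 64756], [316, 3, 64759, 65052, 62578], [413, 2, 65054, 64881, 64873], [45, 2, 65004, 64735], [113, 1, 52832, 52834, 65004], [117, 2, 52830, 52832, 52834, 65004, 64735], [282, 2, 46365, 62853, 52978, 65004], [301, 2, 62835, 59623, 65004], [302, 1, 55772, 62846, 65004], [317, 2, 55772, 62848, 65004], [318, 1, 62835, 59553, 65004], [317, 2, 64734, 65072, 62555], [328, 1, 62552,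 65074, 64733], [414, 3, 62875, 62872, 65074], [312, 1, 64732, 65078, 62553], [301, 1, 47280, 62870, 65080], [302, 2, 50530, 62878, 65080], [304, 2, 59790, 62880, 65080], [305, 1, 48998, 62882, 65080], [306, 2, 47954, 62884, 65080], [305, 2, 65090, 47835, 55999], [322, 1, 65090, 47837, 55999], [328, 3, 55769, 65094, 64732], [413, 2, 65096, 62872, 62875], [0, 0], [229, 3, 50042, 49013, 298, 45932, 37591, 33518, 65100], [62, 2, 65102, 50042], [113, 2, 65102, 50045, 12171], [125, 2, 65102, 50047, 50079], [126, 1, 65102, 50049, 49419], [202, 2, 65102, 50051, 46669, 48762], [226, 3, 65102, 50047, 49390, 63153], [257, 2, 65102, 50055, 65103], [273, 2, 65102, 50057, 65103], [289, 2, 65102, 50059, 65103], [305, 2, 65102, 50061, 49421], [306, 1, 65102, 50092, 50081], [321, 2, 65102, 50098, 50081], [322, 1, 65102, 50063, 49421], [337, 2, 65102, 50065, 65103], [353, 2, 65102, 50067, 65103], [369, 2, 65102, 50069, 65103], [315, 1, 46443, 49463, 65128], [318, 2, 58824, 52632, 65128], [325, 1, 48871, 49459, 65128], [326, 2, 48917, 49461, 65128], [0, 0], [237, 3, 48484, 48132,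 48129, 32997, 49170, 49196, 65144], [70, 2, 65146, 48484], [133, 2, 65146, 48487, 24847], [134, 1, 65146, 50788, 50767], [173, 1, 65146, 48578, 48567], [174, 2, 65146, 48489, 23974], [226, 2, 65146, 48491, 45396, 45401], [234, 3, 65146, 48489, 48306, 48361], [291, 2, 65146, 48499, 65147], [307, 2, 65146, 48501, 26188], [323, 2, 65146, 48505, 23841], [324, 1, 65146, 48507, 26188], [339, 2, 65146, 48509, 65147], [355, 2, 65146, 48511, 65147], [371, 2, 65146, 48513, 65147], [318, 2, 44620, 46808, 65168], [0, 0], [243, 3, 50123, 63149, 65114, 65101, 48776, 50842, 65178], [78, 2, 65180, 49617], [93, 2, 65180, 63144, 62981], [94, 1, 65180, 49520, 49338], [173, 2, 65180, 49495, 35062], [174, 1, 65180, 49479, 49544], [210, 2, 65180, 49488, 45178, 13035], [242, 3, 65180, 49495, 46089, 48776], [261, 2, 65180, 49518, 65181], [277, 2, 65180, 49516, 65181]]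
def dJ166 : List (List ℕ) := [[363, 0, 66378, 66398, 66379], [367, 2, 66376, 66400, 66377], [376, 1, 66374, 66402, 66375], [368, 3, 66372, 66404, 66373], [364, 1, 66370, 66406, 66371], [368, 3, 66368, 66408, 66369], [375, 0, 66366, 66410, 66367], [367, 2, 66364, 66412, 66365], [363, 0, 66362, 66414, 66363], [367, 2, 66360, 66416, 66361], [375, 0, 66358, 66418, 66359], [368, 3, 66356, 66420, 66357], [364, 1, 66354, 66422, 66355], [368, 3, 66352, 66424, 66353], [376, 1, 66350, 66426, 66351], [367, 2, 66348, 66428, 66349], [363, 0, 66346, 66430, 66347], [367, 2, 66344, 66432, 66345], [376, 1, 66342, 66434, 66343], [368, 3, 66340, 66436, 66341], [364, 1, 66338, 66438, 66339], [368, 3, 66336, 66440, 66337], [376, 1, 66334, 66442, 66335], [367, 2, 66332, 66444, 66333], [363, 0, 66330, 66446, 66331], [367, 2, 66328, 66448, 66329], [375, 0, 66326, 66450, 66327], [368, 3, 66324, 66452, 66325], [364, 1, 66322, 66454, 66323], [347, 0, 66378, 66396, 66379], [351, 2, 66376, 66458, 66377], [360, 1, 66374, 66460, 66375], [352, 3, 66372, 66462, 66373], [348, 1, 66370, 66464, 66371],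 [352, 3, 66368, 66466, 66369], [359, 0, 66366, 66468, 66367], [351, 2, 66364, 66470, 66365], [347, 0, 66362, 66472, 66363], [351, 2, 66360, 66474, 66361], [359, 0, 66358, 66476, 66359], [352, 3, 66356, 66478, 66357], [348, 1, 66354, 66480, 66355], [352, 3, 66352, 66482, 66353], [360, 1, 66350, 66484, 66351], [351, 2, 66348, 66486, 66349], [347, 0, 66346, 66488, 66347], [351, 2, 66344, 66490, 66345], [360, 1, 66342, 66492, 66343], [352, 3, 66340, 66494, 66341], [348, 1, 66338, 66496, 66339], [352, 3, 66336, 66498, 66337], [360, 1, 66334, 66500, 66335], [351, 2, 66332, 66502, 66333], [347, 0, 66330, 66504, 66331], [351, 2, 66328, 66506, 66329], [359, 0, 66326, 66508, 66327], [352, 3, 66324, 66510, 66325], [348, 1, 66322, 66512, 66323], [331, 0, 66378, 66394, 66379], [335, 2, 66376, 66516, 66377], [344, 1, 66374, 66518, 66375], [336, 3, 66372, 66520, 66373], [332, 1, 66370, 66522, 66371], [336, 3, 66368, 66524, 66369], [343, 0, 66366, 66526, 66367], [335, 2, 66364, 66528, 66365], [331, 0, 66362, 66530, 66363], [335, 2, 66360, 66532, 66361], [343, 0, 66358, 66534,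 66359], [336, 3, 66356, 66536, 66357], [332, 1, 66354, 66538, 66355], [336, 3, 66352, 66540, 66353], [344, 1, 66350, 66542, 66351], [335, 2, 66348, 66544, 66349], [331, 0, 66346, 66546, 66347], [335, 2, 66344, 66548, 66345], [344, 1, 66342, 66550, 66343], [336, 3, 66340, 66552, 66341], [332, 1, 66338, 66554, 66339], [336, 3, 66336, 66556, 66337], [344, 1, 66334, 66558, 66335], [335, 2, 66332, 66560, 66333], [331, 0, 66330, 66562, 66331], [335, 2, 66328, 66564, 66329], [343, 0, 66326, 66566, 66327], [336, 3, 66324, 66568, 66325], [332, 1, 66322, 66570, 66323], [283, 0, 66378, 66392, 66379], [287, 2, 66376, 66574, 66377], [296, 1, 66374, 66576, 66375], [288, 3, 66372, 66578, 66373], [284, 1, 66370, 66580, 66371], [288, 3, 66368, 66582, 66369], [295, 0, 66366, 66584, 66367], [287, 2, 66364, 66586, 66365], [283, 0, 66362, 66588, 66363], [287, 2, 66360, 66590, 66361], [295, 0, 66358, 66592, 66359], [288, 3, 66356, 66594, 66357], [284, 1, 66354, 66596, 66355], [288, 3, 66352, 66598, 66353], [296, 1, 66350, 66600, 66351], [287, 2, 66348, 66602, 66349], [283, 0, 66346,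 66604, 66347], [287, 2, 66344, 66606, 66345], [296, 1, 66342, 66608, 66343], [288, 3, 66340, 66610, 66341], [284, 1, 66338, 66612, 66339], [288, 3, 66336, 66614, 66337], [296, 1, 66334, 66616, 66335], [287, 2, 66332, 66618, 66333], [283, 0, 66330, 66620, 66331], [287, 2, 66328, 66622, 66329], [295, 0, 66326, 66624, 66327], [288, 3, 66324, 66626, 66325], [284, 1, 66322, 66628, 66323], [267, 0, 66378, 66390, 66379], [271, 2, 66376, 66632, 66377], [280, 1, 66374, 66634, 66375], [272, 3, 66372, 66636, 66373], [268, 1, 66370, 66638, 66371], [272, 3, 66368, 66640, 66369], [279, 0, 66366, 66642, 66367], [271, 2, 66364, 66644, 66365], [267, 0, 66362, 66646, 66363], [271, 2, 66360, 66648, 66361], [279, 0, 66358, 66650, 66359], [272, 3, 66356, 66652, 66357], [268, 1, 66354, 66654, 66355], [272, 3, 66352, 66656, 66353], [280, 1, 66350, 66658, 66351], [271, 2, 66348, 66660, 66349], [267, 0, 66346, 66662, 66347], [271, 2, 66344, 66664, 66345], [280, 1, 66342, 66666, 66343], [272, 3, 66340, 66668, 66341], [268, 1, 66338, 66670, 66339], [272, 3, 66336, 66672, 66337], [280, 1,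 66334, 66674, 66335], [271, 2, 66332, 66676, 66333], [267, 0, 66330, 66678, 66331], [271, 2, 66328, 66680, 66329], [279, 0, 66326, 66682, 66327], [272, 3, 66324, 66684, 66325], [268, 1, 66322, 66686, 66323], [251, 0, 66378, 66388, 66379], [255, 2, 66376, 66690, 66377], [264, 1, 66374, 66692, 66375], [256, 3, 66372, 66694, 66373], [252, 1, 66370, 66696, 66371], [256, 3, 66368, 66698, 66369], [263, 0, 66366, 66700, 66367], [255, 2, 66364, 66702, 66365], [251, 0, 66362, 66704, 66363], [255, 2, 66360, 66706, 66361], [263, 0, 66358, 66708, 66359], [256, 3, 66356, 66710, 66357], [252, 1, 66354, 66712, 66355], [256, 3, 66352, 66714, 66353], [264, 1, 66350, 66716, 66351], [255, 2, 66348, 66718, 66349], [251, 0, 66346, 66720, 66347], [255, 2, 66344, 66722, 66345], [264, 1, 66342, 66724, 66343], [256, 3, 66340, 66726, 66341], [252, 1, 66338, 66728, 66339], [256, 3, 66336, 66730, 66337], [264, 1, 66334, 66732, 66335], [255, 2, 66332, 66734, 66333], [251, 0, 66330, 66736, 66331], [255, 2, 66328, 66738, 66329], [263, 0, 66326, 66740, 66327], [256, 3, 66324, 66742, 66325], [252,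 1, 66322, 66744, 66323], [86, 0, 45242, 66386, 66379], [88, 0, 66748, 45242, 66386, 66385, 49601], [113, 1, 51555, 50110, 66750], [218, 3, 50123, 50113, 66750, 66377], [302, 1, 66754, 49524, 66750], [317, 2, 66754, 49526, 66750], [210, 3, 66751, 49600, 49616, 66755], [313, 1, 66374, 66760, 66758, 66375], [318, 0, 12158, 66749, 66758], [322, 0, 51561, 66753, 66758], [125, 1, 24135, 66295, 66320], [126, 2, 12693, 66286, 66320], [217, 1, 50843, 48783, 66295, 66320], [218, 3, 45951, 51014, 66282, 66320], [86, 0, 66323, 66774, 13715], [88, 1, 50858, 66773, 66774, 13715, 66776], [113, 3, 66778, 24759, 51572], [125, 1, 51127, 66780, 66324], [217, 1, 46245, 51572, 66780, 66324], [225, 3, 66325, 66781, 56637, 66780], [305, 0, 66782, 51578, 66780], [322, 3, 66782, 51580, 66780], [317, 3, 13706, 66776, 66790], [282, 3, 66327, 66626, 66784, 54854], [114, 0, 63615, 63605, 66794], [125, 3, 66329, 66796, 57246]]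
def dJ170 : List (List ℕ) := [[348, 3, 67850, 67998, 67851], [352, 1, 67848, 68000, 67849], [335, 0, 67892, 67906, 67893], [331, 2, 67890, 68004, 67891], [335, 0, 67888, 68006, 67889], [344, 3, 67886, 68008, 67887], [336, 1, 67884, 68010, 67885], [332, 3, 67882, 68012, 67883], [336, 1, 67880, 68014, 67881], [344, 3, 67878, 68016, 67879], [335, 0, 67876, 68018, 67877], [331, 2, 67874, 68020, 67875], [335, 0, 67872, 68022, 67873], [343, 2, 67870, 68024, 67871], [336, 1, 67868, 68026, 67869], [332, 3, 67866, 68028, 67867], [336, 1, 67864, 68030, 67865], [343, 2, 67862, 68032, 67863], [335, 0, 67860, 68034, 67861], [331, 2, 67858, 68036, 67859], [335, 0, 67856, 68038, 67857], [343, 2, 67854, 68040, 67855], [336, 1, 67852, 68042, 67853], [332, 3, 67850, 68044, 67851], [336, 1, 67848, 68046, 67849], [114, 0, 57510, 67904, 67901], [126, 0, 54552, 67904, 67893], [257, 0, 68052, 54799, 68053], [273, 0, 68052, 54753, 68053], [289, 0, 68052, 54707, 68053], [283, 2, 67890, 68058, 67891], [287, 0, 67888, 68060, 67889], [296, 3, 67886, 68062, 67887], [288, 1, 67884, 68064, 67885],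 [284, 3, 67882, 68066, 67883], [288, 1, 67880, 68068, 67881], [296, 3, 67878, 68070, 67879], [287, 0, 67876, 68072, 67877], [283, 2, 67874, 68074, 67875], [287, 0, 67872, 68076, 67873], [295, 2, 67870, 68078, 67871], [288, 1, 67868, 68080, 67869], [284, 3, 67866, 68082, 67867], [288, 1, 67864, 68084, 67865], [295, 2, 67862, 68086, 67863], [287, 0, 67860, 68088, 67861], [283, 2, 67858, 68090, 67859], [287, 0, 67856, 68092, 67857], [295, 2, 67854, 68094, 67855], [288, 1, 67852, 68096, 67853], [284, 3, 67850, 68098, 67851], [288, 1, 67848, 68100, 67849], [267, 2, 67890, 68056, 67891], [271, 0, 67888, 68104, 67889], [280, 3, 67886, 68106, 67887], [272, 1, 67884, 68108, 67885], [268, 3, 67882, 68110, 67883], [272, 1, 67880, 68112, 67881], [280, 3, 67878, 68114, 67879], [271, 0, 67876, 68116, 67877], [267, 2, 67874, 68118, 67875], [271, 0, 67872, 68120, 67873], [279, 2, 67870, 68122, 67871], [272, 1, 67868, 68124, 67869], [268, 3, 67866, 68126, 67867], [272, 1, 67864, 68128, 67865], [279, 2, 67862, 68130, 67863], [271, 0, 67860, 68132, 67861], [267, 2, 67858, 68134,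 67859], [271, 0, 67856, 68136, 67857], [279, 2, 67854, 68138, 67855], [272, 1, 67852, 68140, 67853], [268, 3, 67850, 68142, 67851], [272, 1, 67848, 68144, 67849], [251, 2, 67890, 68054, 67891], [255, 0, 67888, 68148, 67889], [264, 3, 67886, 68150, 67887], [256, 1, 67884, 68152, 67885], [252, 3, 67882, 68154, 67883], [256, 1, 67880, 68156, 67881], [264, 3, 67878, 68158, 67879], [255, 0, 67876, 68160, 67877], [251, 2, 67874, 68162, 67875], [255, 0, 67872, 68164, 67873], [263, 2, 67870, 68166, 67871], [256, 1, 67868, 68168, 67869], [252, 3, 67866, 68170, 67867], [256, 1, 67864, 68172, 67865], [263, 2, 67862, 68174, 67863], [255, 0, 67860, 68176, 67861], [251, 2, 67858, 68178, 67859], [255, 0, 67856, 68180, 67857], [263, 2, 67854, 68182, 67855], [256, 1, 67852, 68184, 67853], [252, 3, 67850, 68186, 67851], [256, 1, 67848, 68188, 67849], [125, 3, 66372, 68050, 57291], [217, 3, 68192, 66372, 67900, 67893], [85, 1, 67890, 68194, 57289], [201, 1, 54550, 68053, 68194, 57289], [125, 3, 57286, 68198, 54549], [217, 3, 68200, 57286, 68196, 67889], [298, 1, 54546, 68200, 57285,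 57872], [126, 2, 56114, 68204, 54545], [282, 1, 67886, 68202, 54547, 54713], [218, 3, 56114, 68204, 68208, 67885], [86, 0, 67882, 68210, 56113], [202, 1, 54542, 68206, 56113, 68212], [126, 2, 67880, 68214, 54541], [297, 1, 54507, 46220, 46355, 67846], [298, 3, 51587, 24022, 24761, 67846], [312, 1, 54855, 46355, 67846], [327, 2, 54855, 46357, 67846], [125, 3, 67849, 68218, 54508], [0, 0], [0, 0], [0, 0], [0, 0], [0, 0], [0, 0], [0, 0], [0, 0], [0, 0], [0, 0], [0, 0], [0, 0], [345, 19, 67880, 67882, 67884, 67885, 67883, 67881, 67879, 67877, 67875, 67873, 67872, 67874, 67876, 67878, 67880, 67882, 67884, 67886, 67888, 67890, 67892, 67894, 12141, 46655, 38751, 10898, 40815, 2631, 36756, 6549, 37944, 47566, 47883, 47859, 68228, 68230, 68232, 68234, 68236, 68238, 68240, 68242, 68244, 68246, 68248, 68250], [250, 1, 68252, 67879, 68161], [263, 2, 68252, 68158, 68253], [279, 2, 68252, 68114, 68253], [295, 2, 68252, 68070, 68253], [343, 2, 68252, 68016, 68253], [359, 2, 68252, 67970, 68253], [375, 2, 68252, 67924, 68253], [367, 0, 68250, 68266, 68251], [363, 2, 68248, 68268,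 68249], [367, 0, 68246, 68270, 68247], [375, 2, 68244, 68272, 68245], [368, 1, 68242, 68274, 68243], [364, 3, 68240, 68276, 68241], [368, 1, 68238, 68278, 68239], [376, 3, 68236, 68280, 68237], [367, 0, 68234, 68282, 68235], [363, 2, 68232, 68284, 68233], [351, 0, 68250, 68264, 68251], [347, 2, 68248, 68288, 68249], [351, 0, 68246, 68290, 68247], [359, 2, 68244, 68292, 68245], [352, 1, 68242, 68294, 68243], [348, 3, 68240, 68296, 68241], [352, 1, 68238, 68298, 68239], [360, 3, 68236, 68300, 68237], [351, 0, 68234, 68302, 68235], [347, 2, 68232, 68304, 68233], [335, 0, 68250, 68262, 68251], [331, 2, 68248, 68308, 68249], [335, 0, 68246, 68310, 68247], [343, 2, 68244, 68312, 68245], [336, 1, 68242, 68314, 68243], [332, 3, 68240, 68316, 68241], [336, 1, 68238, 68318, 68239], [344, 3, 68236, 68320, 68237], [335, 0, 68234, 68322, 68235], [331, 2, 68232, 68324, 68233], [287, 0, 68250, 68260, 68251], [283, 2, 68248, 68328, 68249], [287, 0, 68246, 68330, 68247], [295, 2, 68244, 68332, 68245], [288, 1, 68242, 68334, 68243], [284, 3, 68240, 68336, 68241], [288, 1, 68238,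 68338, 68239], [296, 3, 68236, 68340, 68237], [287, 0, 68234, 68342, 68235], [283, 2, 68232, 68344, 68233], [271, 0, 68250, 68258, 68251], [267, 2, 68248, 68348, 68249], [271, 0, 68246, 68350, 68247], [279, 2, 68244, 68352, 68245], [272, 1, 68242, 68354, 68243], [268, 3, 68240, 68356, 68241], [272, 1, 68238, 68358, 68239], [280, 3, 68236, 68360, 68237], [271, 0, 68234, 68362, 68235], [267, 2, 68232, 68364, 68233], [255, 0, 68250, 68256, 68251], [251, 2, 68248, 68368, 68249], [255, 0, 68246, 68370, 68247], [263, 2, 68244, 68372, 68245], [256, 1, 68242, 68374, 68243], [252, 3, 68240, 68376, 68241], [256, 1, 68238, 68378, 68239], [264, 3, 68236, 68380, 68237], [255, 0, 68234, 68382, 68235], [251, 2, 68232, 68384, 68233], [281, 1, 66327, 66792, 13699, 68228], [282, 3, 54855, 25249, 46473, 68228], [297, 1, 60927, 47850, 13703, 68228], [298, 3, 66801, 14305, 13679, 68228], [125, 1, 68231, 68394, 66802], [113, 2, 63598, 66930, 68396]]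
def dJ174 : List (List ℕ) := [[332, 3, 69466, 69598, 69467], [336, 1, 69464, 69600, 69465], [344, 3, 69462, 69602, 69463], [335, 0, 69460, 69604, 69461], [331, 2, 69458, 69606, 69459], [335, 0, 69456, 69608, 69457], [343, 2, 69454, 69610, 69455], [336, 1, 69452, 69612, 69453], [332, 3, 69450, 69614, 69451], [336, 1, 69448, 69616, 69449], [343, 2, 69446, 69618, 69447], [335, 0, 69444, 69620, 69445], [331, 2, 69442, 69622, 69443], [335, 0, 69440, 69624, 69441], [343, 2, 69438, 69626, 69439], [336, 1, 69436, 69628, 69437], [332, 3, 69434, 69630, 69435], [336, 1, 69432, 69632, 69433], [126, 0, 62958, 69490, 69477], [218, 1, 66372, 69486, 69477, 69636], [257, 0, 69636, 63198, 69637], [273, 0, 69636, 63200, 69637], [289, 0, 69636, 63202, 69637], [283, 2, 69474, 69644, 69475], [287, 0, 69472, 69646, 69473], [296, 3, 69470, 69648, 69471], [288, 1, 69468, 69650, 69469], [284, 3, 69466, 69652, 69467], [288, 1, 69464, 69654, 69465], [296, 3, 69462, 69656, 69463], [287, 0, 69460, 69658, 69461], [283, 2, 69458, 69660, 69459], [287, 0, 69456, 69662, 69457], [295, 2, 69454, 69664,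 69455], [288, 1, 69452, 69666, 69453], [284, 3, 69450, 69668, 69451], [288, 1, 69448, 69670, 69449], [295, 2, 69446, 69672, 69447], [287, 0, 69444, 69674, 69445], [283, 2, 69442, 69676, 69443], [287, 0, 69440, 69678, 69441], [295, 2, 69438, 69680, 69439], [288, 1, 69436, 69682, 69437], [284, 3, 69434, 69684, 69435], [288, 1, 69432, 69686, 69433], [267, 2, 69474, 69642, 69475], [271, 0, 69472, 69690, 69473], [280, 3, 69470, 69692, 69471], [272, 1, 69468, 69694, 69469], [268, 3, 69466, 69696, 69467], [272, 1, 69464, 69698, 69465], [280, 3, 69462, 69700, 69463], [271, 0, 69460, 69702, 69461], [267, 2, 69458, 69704, 69459], [271, 0, 69456, 69706, 69457], [279, 2, 69454, 69708, 69455], [272, 1, 69452, 69710, 69453], [268, 3, 69450, 69712, 69451], [272, 1, 69448, 69714, 69449], [279, 2, 69446, 69716, 69447], [271, 0, 69444, 69718, 69445], [267, 2, 69442, 69720, 69443], [271, 0, 69440, 69722, 69441], [279, 2, 69438, 69724, 69439], [272, 1, 69436, 69726, 69437], [268, 3, 69434, 69728, 69435], [272, 1, 69432, 69730, 69433], [251, 2, 69474, 69640, 69475], [255, 0, 69472,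 69734, 69473], [264, 3, 69470, 69736, 69471], [256, 1, 69468, 69738, 69469], [252, 3, 69466, 69740, 69467], [256, 1, 69464, 69742, 69465], [264, 3, 69462, 69744, 69463], [255, 0, 69460, 69746, 69461], [251, 2, 69458, 69748, 69459], [255, 0, 69456, 69750, 69457], [263, 2, 69454, 69752, 69455], [256, 1, 69452, 69754, 69453], [252, 3, 69450, 69756, 69451], [256, 1, 69448, 69758, 69449], [263, 2, 69446, 69760, 69447], [255, 0, 69444, 69762, 69445], [251, 2, 69442, 69764, 69443], [255, 0, 69440, 69766, 69441], [263, 2, 69438, 69768, 69439], [256, 1, 69436, 69770, 69437], [252, 3, 69434, 69772, 69435], [256, 1, 69432, 69774, 69433], [86, 2, 62956, 69638, 66371], [202, 3, 62956, 69638, 68193, 57289], [62, 1, 68199, 69780], [113, 1, 68197, 69780, 69779], [126, 0, 57286, 69780, 62955], [128, 0, 69786, 57286, 69780, 69782, 54549], [305, 1, 57883, 69780, 63496], [306, 0, 57528, 69780, 63196], [125, 3, 60968, 69792, 51171], [298, 1, 51168, 69794, 60967, 63335], [306, 0, 56610, 69794, 61358], [297, 3, 61357, 53086, 69798, 56117], [62, 1, 68205, 69800], [125, 1, 56114, 69800,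 60965], [127, 1, 69804, 56114, 69800, 69802, 54545], [306, 0, 57872, 69800, 61357], [126, 2, 53084, 69808, 57283], [306, 0, 57693, 69810, 63484], [218, 1, 66368, 69778, 62955, 69786], [113, 1, 68202, 68200, 69814], [281, 3, 57540, 57284, 69814, 66367], [217, 1, 66364, 69818, 69809, 53085], [85, 3, 53082, 69820, 66363], [201, 3, 69822, 53082, 69811, 57281], [125, 1, 57278, 69824, 66361], [202, 0, 69636, 62957, 69782, 54550], [86, 2, 54550, 69828, 69475], [113, 1, 69830, 68199, 68196], [114, 2, 69830, 69783, 69779], [218, 1, 69472, 69830, 54549, 69788], [113, 1, 69815, 69787, 69836], [114, 2, 68202, 69788, 69836], [281, 3, 63209, 62952, 69836, 69471], [297, 1, 62913, 14270, 13637, 69430], [311, 2, 68229, 13702, 69430], [328, 1, 68229, 13708, 69430], [125, 3, 69433, 69844, 62914], [0, 0], [0, 0], [0, 0], [0, 0], [0, 0], [0, 0], [0, 0], [0, 0], [0, 0], [0, 0], [0, 0], [345, 19, 69464, 69466, 69468, 69469, 69467, 69465, 69463, 69461, 69459, 69457, 69456, 69458, 69460, 69462, 69464, 69466, 69468, 69470, 69472, 69474, 69476, 69478, 50123, 50666, 50661, 36761, 36763, 2633,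 2680, 8079, 42629, 46559, 44635, 47856, 60926, 69852, 69854, 69856, 69858, 69860, 69862, 69864, 69866, 69868, 69870, 69872], [250, 1, 69874, 69463, 69747], [263, 2, 69874, 69744, 69875], [279, 2, 69874, 69700, 69875], [295, 2, 69874, 69656, 69875], [343, 2, 69874, 69602, 69875], [359, 2, 69874, 69556, 69875], [375, 2, 69874, 69510, 69875], [367, 0, 69872, 69888, 69873], [363, 2, 69870, 69890, 69871], [351, 0, 69872, 69886, 69873], [347, 2, 69870, 69894, 69871], [335, 0, 69872, 69884, 69873], [331, 2, 69870, 69898, 69871], [287, 0, 69872, 69882, 69873], [283, 2, 69870, 69902, 69871], [271, 0, 69872, 69880, 69873], [267, 2, 69870, 69906, 69871], [255, 0, 69872, 69878, 69873], [251, 2, 69870, 69910, 69871], [53, 1, 60929, 69852], [125, 1, 66803, 66928, 69852], [126, 2, 68231, 68392, 69852], [218, 3, 54857, 63604, 63616, 69852], [86, 0, 69855, 69920, 54858], [202, 1, 63515, 63600, 54858, 69922], [218, 3, 68235, 68402, 69922, 69856], [46, 2, 69926, 68404], [281, 1, 69859, 69926, 68342, 68236], [45, 1, 68406, 69930], [126, 2, 69857, 69924, 63516], [113, 2, 69934, 69929,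 66936], [114, 1, 69934, 69926, 68409], [282, 3, 54863, 54975, 69938, 63518], [46, 2, 69940, 68412], [301, 1, 58086, 69942, 63583], [302, 0, 58128, 69942, 63628], [0, 0], [0, 0], [0, 0], [0, 0], [0, 0], [0, 0], [0, 0], [0, 0], [0, 0], [0, 0], [0, 0], [0, 0], [0, 0], [0, 0], [0, 0], [0, 0], [361, 18, 69477, 69475, 69473, 69471, 69469, 69467, 69465, 69875, 69873, 69871, 69869, 69867, 69865, 69863, 69861, 69859, 69857, 69855, 69853, 60927, 47857, 44634, 46558, 42628, 8078, 2681, 2632, 2640, 2633, 51069, 69948, 69950, 69952, 69954, 69956, 69958, 69960, 69962, 69964, 69966, 69968, 69970, 69972, 69974, 69976, 69978], [250, 1, 69980, 69478, 49518], [263, 2, 69980, 69481, 69981], [279, 2, 69980, 69483, 69981], [281, 1, 69980, 69485, 67902, 68437], [282, 3, 69980, 69489, 69487, 66961], [295, 2, 69980, 69489, 69981], [343, 2, 69980, 69493, 69981], [359, 2, 69980, 69495, 69981], [375, 2, 69980, 69497, 69981]]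
def dJ178 : List (List ℕ) := [[305, 2, 66204, 60715, 71154], [300, 1, 71084, 71200, 66129], [304, 3, 66126, 71202, 71083], [302, 2, 71204, 67823, 60719], [311, 0, 71080, 71204, 66125], [298, 1, 69132, 69343, 66125, 71208], [301, 1, 60863, 67825, 71208], [303, 2, 66122, 71208, 71079], [299, 0, 71076, 71214, 66121], [303, 2, 66118, 71216, 71075], [311, 0, 71072, 71218, 66117], [304, 3, 66114, 71220, 71071], [300, 1, 71068, 71222, 66113], [318, 3, 71212, 60858, 67825], [320, 1, 66122, 71226, 71079], [328, 1, 66125, 71226, 71080], [316, 3, 71076, 71228, 66121], [320, 1, 66118, 71232, 71075], [328, 3, 71072, 71234, 66117], [319, 0, 66114, 71236, 71071], [126, 2, 71078, 71210, 69131], [218, 3, 71078, 71210, 69347, 54309], [86, 0, 54306, 71242, 71077], [114, 1, 69368, 71242, 71241], [85, 3, 69128, 71246, 62571], [202, 1, 69128, 71240, 71077, 71244], [126, 2, 54304, 71250, 69127], [218, 3, 54304, 71250, 71249, 62569], [282, 1, 62566, 71254, 54303, 54433], [125, 1, 69403, 65063, 71066], [0, 0], [249, 2, 42744, 65408, 71260], [249, 3, 71262, 65408, 71260], [266, 1, 71262,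 2663, 70167, 70172], [279, 0, 71262, 2666, 71263], [295, 0, 71262, 2668, 71263], [297, 4, 71262, 46819, 36303, 65354], [298, 1, 71262, 8360, 46518, 23947], [311, 0, 71262, 8368, 70167], [313, 4, 71262, 2661, 65335, 70195], [314, 1, 71262, 2657, 70167, 70181], [327, 0, 71262, 2673, 65335], [343, 0, 71262, 41546, 71263], [359, 0, 71262, 40833, 71263], [375, 0, 71262, 2674, 71263], [266, 1, 65334, 2664, 71263, 71268], [282, 1, 58502, 46823, 71263, 71270], [113, 3, 71292, 58526, 13548], [93, 3, 71290, 71280, 71267], [0, 0], [0, 0], [0, 0], [0, 0], [0, 0], [0, 0], [0, 0], [0, 0], [0, 0], [0, 0], [0, 0], [0, 0], [0, 0], [0, 0], [0, 0], [0, 0], [0, 0], [0, 0], [0, 0], [0, 0], [0, 0], [0, 0], [0, 0], [0, 0], [0, 0], [0, 0], [0, 0], [0, 0], [0, 0], [0, 0], [329, 32, 65409, 41546, 65408, 71260, 71298, 71300, 71302, 71304, 71306, 71308, 71310, 71312, 71314, 71316, 71318, 71320, 71322, 71324, 71326, 71328, 71330, 71332, 71334, 71336, 71338, 71340, 71342, 71344, 71346, 71348, 71350, 71352, 71354, 71356], [125, 1, 71358, 65419, 46124], [126, 2, 71358, 65421, 50201], [133, 1,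 71358, 65443, 70257], [134, 2, 71358, 65423, 65509], [217, 1, 71358, 65415, 58537, 12300], [218, 3, 71358, 65421, 47167, 49719], [241, 2, 71358, 65443, 65396, 70257], [242, 2, 71358, 65425, 65423, 65509], [303, 2, 71358, 65433, 65509], [304, 1, 71358, 65444, 70257], [320, 1, 71358, 65410, 65509], [335, 2, 71358, 65434, 71359], [351, 2, 71358, 65436, 71359], [367, 2, 71358, 65438, 71359], [363, 0, 71356, 71386, 71357], [367, 2, 71354, 71388, 71355], [376, 1, 71352, 71390, 71353], [368, 3, 71350, 71392, 71351], [364, 1, 71348, 71394, 71349], [368, 3, 71346, 71396, 71347], [375, 0, 71344, 71398, 71345], [367, 2, 71342, 71400, 71343], [363, 0, 71340, 71402, 71341], [367, 2, 71338, 71404, 71339], [375, 0, 71336, 71406, 71337], [368, 3, 71334, 71408, 71335], [364, 1, 71332, 71410, 71333], [368, 3, 71330, 71412, 71331], [376, 1, 71328, 71414, 71329], [367, 2, 71326, 71416, 71327], [363, 0, 71324, 71418, 71325], [367, 2, 71322, 71420, 71323], [376, 1, 71320, 71422, 71321], [368, 3, 71318, 71424, 71319], [364, 1, 71316, 71426, 71317], [368, 3, 71314, 71428, 71315], [376,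 1, 71312, 71430, 71313], [367, 2, 71310, 71432, 71311], [363, 0, 71308, 71434, 71309], [367, 2, 71306, 71436, 71307], [375, 0, 71304, 71438, 71305], [368, 3, 71302, 71440, 71303], [364, 1, 71300, 71442, 71301], [347, 0, 71356, 71384, 71357], [351, 2, 71354, 71446, 71355], [360, 1, 71352, 71448, 71353], [352, 3, 71350, 71450, 71351], [348, 1, 71348, 71452, 71349], [352, 3, 71346, 71454, 71347], [359, 0, 71344, 71456, 71345], [351, 2, 71342, 71458, 71343], [347, 0, 71340, 71460, 71341], [351, 2, 71338, 71462, 71339], [359, 0, 71336, 71464, 71337], [352, 3, 71334, 71466, 71335], [348, 1, 71332, 71468, 71333], [352, 3, 71330, 71470, 71331], [360, 1, 71328, 71472, 71329], [351, 2, 71326, 71474, 71327], [347, 0, 71324, 71476, 71325], [351, 2, 71322, 71478, 71323], [360, 1, 71320, 71480, 71321], [352, 3, 71318, 71482, 71319], [348, 1, 71316, 71484, 71317], [352, 3, 71314, 71486, 71315], [360, 1, 71312, 71488, 71313], [351, 2, 71310, 71490, 71311], [347, 0, 71308, 71492, 71309], [351, 2, 71306, 71494, 71307], [359, 0, 71304, 71496, 71305], [352, 3, 71302, 71498, 71303],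 [348, 1, 71300, 71500, 71301], [331, 0, 71356, 71382, 71357], [335, 2, 71354, 71504, 71355], [344, 1, 71352, 71506, 71353], [336, 3, 71350, 71508, 71351], [332, 1, 71348, 71510, 71349], [336, 3, 71346, 71512, 71347], [343, 0, 71344, 71514, 71345], [335, 2, 71342, 71516, 71343], [331, 0, 71340, 71518, 71341], [335, 2, 71338, 71520, 71339], [343, 0, 71336, 71522, 71337], [336, 3, 71334, 71524, 71335], [332, 1, 71332, 71526, 71333], [336, 3, 71330, 71528, 71331], [344, 1, 71328, 71530, 71329], [335, 2, 71326, 71532, 71327], [331, 0, 71324, 71534, 71325], [335, 2, 71322, 71536, 71323], [344, 1, 71320, 71538, 71321], [336, 3, 71318, 71540, 71319], [332, 1, 71316, 71542, 71317], [336, 3, 71314, 71544, 71315], [344, 1, 71312, 71546, 71313], [335, 2, 71310, 71548, 71311], [331, 0, 71308, 71550, 71309], [335, 2, 71306, 71552, 71307], [343, 0, 71304, 71554, 71305], [336, 3, 71302, 71556, 71303], [332, 1, 71300, 71558, 71301], [316, 3, 65887, 65506, 71380, 71357], [3, 0, 71357, 71562], [8, 0, 71354, 71562, 70481], [15, 0, 71352, 71567], [263, 2, 71569, 70468, 71568], [279,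 2, 71569, 70470, 71568], [295, 2, 71569, 70472, 71568], [298, 3, 59949, 58828, 70464, 71568], [311, 2, 70463, 70474, 71568], [312, 1, 65502, 70487, 71568], [313, 1, 65502, 65888, 70453, 71568], [314, 3, 70463, 65886, 70477, 71568], [327, 2, 65502, 70489, 71568], [328, 1, 70463, 70453, 71568], [320, 3, 71350, 71588, 70249], [321, 3, 59969, 70671, 71590], [414, 3, 70667, 70672, 71590], [300, 1, 71348, 71594, 70247], [304, 3, 70244, 71596, 71347]]
def dJ182 : List (List ℕ) := [[336, 3, 72556, 72798, 72557], [332, 1, 72554, 72800, 72555], [315, 0, 66759, 66378, 72622, 72611], [3, 0, 72611, 72804], [7, 0, 72608, 72804], [53, 1, 66377, 72808], [125, 1, 56658, 66767, 72808], [217, 1, 45470, 51563, 66767, 72808], [218, 3, 49490, 49481, 66755, 72808], [255, 2, 72809, 66693, 72808], [271, 2, 72809, 66635, 72808], [287, 2, 72809, 66577, 72808], [303, 2, 66376, 66756, 72808], [304, 1, 72811, 72824, 72808], [320, 1, 66376, 66758, 72808], [320, 1, 72809, 72829, 72810], [325, 1, 66758, 66760, 72830], [326, 2, 72829, 72832, 72830], [241, 4, 66761, 72808, 72834, 66376], [242, 0,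 72808, 72832, 72811, 72834], [247, 8, 72832, 66761, 72808, 72810, 72833, 72834, 66376, 72811], [313, 1, 72606, 72834, 72829, 72607], [225, 1, 72813, 72840, 72809, 66766], [227, 1, 72844, 72813, 72840, 72840, 72809, 66376, 66752], [69, 2, 72846, 72844], [327, 2, 72606, 72828, 66375], [319, 0, 66372, 72850, 72605], [322, 0, 57519, 68051, 72850], [383, 0, 72851, 66695, 72850], [395, 0, 72851, 66637, 72850], [405, 0, 72851, 66579, 72850], [288, 3, 72604, 72860, 72605], [284, 1, 72602, 72862, 72603], [288, 3, 72600, 72864, 72601], [295, 0, 72598, 72866, 72599], [287, 2, 72596, 72868, 72597], [283, 0, 72594, 72870, 72595], [287, 2, 72592, 72872, 72593], [295, 0, 72590, 72874, 72591], [288, 3, 72588, 72876, 72589], [284, 1, 72586, 72878, 72587], [288, 3, 72584, 72880, 72585], [296, 1, 72582, 72882, 72583], [287, 2, 72580, 72884, 72581], [283, 0, 72578, 72886, 72579], [287, 2, 72576, 72888, 72577], [296, 1, 72574, 72890, 72575], [288, 3, 72572, 72892, 72573], [284, 1, 72570, 72894, 72571], [288, 3, 72568, 72896, 72569], [296, 1, 72566, 72898, 72567], [287, 2, 72564, 72900,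 72565], [283, 0, 72562, 72902, 72563], [287, 2, 72560, 72904, 72561], [295, 0, 72558, 72906, 72559], [288, 3, 72556, 72908, 72557], [284, 1, 72554, 72910, 72555], [272, 3, 72604, 72858, 72605], [268, 1, 72602, 72914, 72603], [272, 3, 72600, 72916, 72601], [279, 0, 72598, 72918, 72599], [271, 2, 72596, 72920, 72597], [267, 0, 72594, 72922, 72595], [271, 2, 72592, 72924, 72593], [279, 0, 72590, 72926, 72591], [272, 3, 72588, 72928, 72589], [268, 1, 72586, 72930, 72587], [272, 3, 72584, 72932, 72585], [280, 1, 72582, 72934, 72583], [271, 2, 72580, 72936, 72581], [267, 0, 72578, 72938, 72579], [271, 2, 72576, 72940, 72577], [280, 1, 72574, 72942, 72575], [272, 3, 72572, 72944, 72573], [268, 1, 72570, 72946, 72571], [272, 3, 72568, 72948, 72569], [280, 1, 72566, 72950, 72567], [271, 2, 72564, 72952, 72565], [267, 0, 72562, 72954, 72563], [271, 2, 72560, 72956, 72561], [279, 0, 72558, 72958, 72559], [272, 3, 72556, 72960, 72557], [268, 1, 72554, 72962, 72555], [256, 3, 72604, 72856, 72605], [252, 1, 72602, 72966, 72603], [256, 3, 72600, 72968, 72601], [263, 0, 72598,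 72970, 72599], [255, 2, 72596, 72972, 72597], [251, 0, 72594, 72974, 72595], [255, 2, 72592, 72976, 72593], [263, 0, 72590, 72978, 72591], [256, 3, 72588, 72980, 72589], [252, 1, 72586, 72982, 72587], [256, 3, 72584, 72984, 72585], [264, 1, 72582, 72986, 72583], [255, 2, 72580, 72988, 72581], [251, 0, 72578, 72990, 72579], [255, 2, 72576, 72992, 72577], [264, 1, 72574, 72994, 72575], [256, 3, 72572, 72996, 72573], [252, 1, 72570, 72998, 72571], [256, 3, 72568, 73000, 72569], [264, 1, 72566, 73002, 72567], [255, 2, 72564, 73004, 72565], [251, 0, 72562, 73006, 72563], [255, 2, 72560, 73008, 72561], [263, 0, 72558, 73010, 72559], [256, 3, 72556, 73012, 72557], [252, 1, 72554, 73014, 72555], [125, 3, 72604, 72854, 56123], [305, 0, 72854, 57517, 68051], [297, 1, 56918, 72855, 73021, 66961], [113, 3, 69991, 73022, 56927], [125, 3, 66958, 73022, 56917], [217, 3, 73026, 66958, 68444, 68435], [85, 1, 68432, 73028, 56915], [126, 0, 53586, 73024, 69979], [218, 1, 66958, 69990, 69979, 73032], [86, 2, 53584, 73034, 66957], [202, 3, 53584, 73034, 73027, 56915], [113, 1, 73031,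 73038, 73037], [126, 0, 56912, 73038, 53583], [305, 1, 57162, 73038, 61930], [306, 0, 58290, 73038, 63811], [125, 3, 63678, 73046, 58177], [298, 1, 58174, 73048, 63677, 63934], [306, 0, 58474, 73048, 63967], [297, 3, 63964, 61594, 73052, 51781], [125, 1, 51778, 73054, 63675], [306, 0, 57159, 73054, 63964], [126, 2, 61592, 73058, 56909], [306, 0, 58383, 73060, 61924], [218, 1, 66954, 73036, 53583, 73042], [281, 3, 57039, 56910, 73064, 66953], [217, 1, 66950, 73066, 73059, 61593], [85, 3, 61590, 73068, 66949], [201, 3, 73070, 61590, 73061, 56907], [125, 1, 56904, 73072, 66947], [125, 3, 66954, 73040, 68431], [304, 3, 66372, 73020, 72605], [300, 1, 72602, 73078, 66371], [301, 1, 73078, 69639, 63499], [86, 2, 53090, 73082, 72603], [218, 1, 72600, 73084, 53089, 69798], [317, 2, 73084, 63494, 69779], [319, 0, 66368, 73088, 72601], [328, 3, 72598, 73090, 66367], [317, 3, 57876, 69819, 73092], [320, 1, 66364, 73092, 72597], [318, 0, 73096, 69821, 61279], [85, 3, 60962, 73098, 72595], [113, 1, 68210, 69805, 73098], [301, 2, 69821, 61355, 73098], [299, 0, 72594, 73104, 66363],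 [303, 0, 72597, 73104, 66364], [298, 1, 67886, 69817, 66367, 73108], [311, 2, 66367, 73108, 72598], [303, 2, 66360, 73106, 72593], [305, 1, 57869, 69824, 73106], [126, 2, 72592, 73116, 56111], [218, 3, 72592, 73116, 68212, 67881], [114, 1, 68216, 73120, 73119], [282, 1, 67878, 73120, 72591, 72876], [281, 3, 56383, 56108, 73122, 54539], [282, 3, 56688, 56381, 73122, 54879], [297, 1, 56688, 73118, 73114, 66825], [321, 0, 69826, 57862, 73118], [328, 3, 72590, 73132, 66359], [319, 0, 66356, 73134, 72589], [315, 2, 72586, 73136, 66355], [319, 0, 66352, 73138, 72585], [327, 2, 72582, 73140, 66351], [320, 1, 66348, 73142, 72581], [316, 3, 72578, 73144, 66347], [320, 1, 66344, 73146, 72577], [327, 2, 72574, 73148, 66343], [319, 0, 66340, 73150, 72573], [315, 2, 72570, 73152, 66339], [319, 0, 66336, 73154, 72569], [327, 2, 72566, 73156, 66335], [320, 1, 66332, 73158, 72565], [316, 3, 72562, 73160, 66331], [320, 1, 66328, 73162, 72561], [322, 0, 57804, 66798, 73162], [305, 0, 73166, 57809, 66798], [299, 2, 66331, 73168, 72562], [303, 2, 66328, 73168, 72561], [301, 1, 73172,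 68389, 69847], [311, 0, 72558, 73172, 66327], [298, 1, 57768, 66797, 66327, 73176], [301, 1, 46328, 66785, 73176], [302, 2, 13703, 66793, 73176], [304, 3, 66789, 66324, 73176, 72557], [3, 0, 72554, 73184], [7, 0, 72557, 73184], [307, 1, 66789, 66786, 73176], [413, 1, 66789, 66790, 73176], [69, 2, 73190, 66787], [134, 3, 73190, 73188, 73195], [308, 3, 73190, 73176, 73195]]
def dJ186 : List (List ℕ) := [[306, 2, 74396, 73308, 57838], [414, 2, 74396, 73147, 73266], [414, 2, 74390, 74403, 74397], [320, 1, 73878, 74404, 66345], [327, 2, 66342, 74406, 73877], [414, 1, 73149, 73264, 74406], [414, 0, 74398, 74407, 74411], [327, 2, 73876, 74412, 72575], [319, 0, 72572, 74414, 73875], [322, 0, 56547, 73300, 74414], [414, 3, 73151, 73262, 74414], [414, 3, 74415, 74421, 74408], [303, 0, 66340, 74422, 73875], [299, 2, 73872, 74424, 66339], [305, 3, 74424, 73303, 57740], [414, 0, 74424, 73153, 73260], [414, 1, 74431, 74425, 74416], [299, 2, 72570, 74432, 73873], [303, 0, 73870, 74434, 72569], [414, 2, 74434, 73155, 73258], [414, 2, 74426, 74439, 74435], [319, 0, 73870, 74440,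 66337], [318, 2, 57748, 73257, 74442], [327, 2, 66334, 74442, 73869], [414, 1, 73157, 73254, 74442], [414, 0, 74436, 74443, 74449], [327, 2, 73868, 74450, 72567], [317, 3, 56555, 73238, 74452], [320, 1, 72564, 74452, 73867], [414, 3, 73159, 73252, 74452], [414, 3, 74453, 74459, 74446], [304, 1, 66332, 74460, 73867], [300, 3, 73864, 74462, 66331], [302, 0, 74462, 73224, 61322], [414, 0, 74462, 73161, 73170], [414, 1, 74469, 74463, 74456], [300, 3, 72562, 74470, 73865], [301, 1, 74472, 73216, 63420], [304, 1, 73862, 74472, 72561], [306, 2, 74472, 73166, 56573], [414, 2, 74472, 73163, 73168], [414, 2, 74464, 74481, 74473], [320, 1, 73862, 74482, 66329], [317, 1, 68224, 66794, 74484], [321, 1, 57772, 66797, 74484], [328, 3, 66790, 66326, 74484, 73861], [7, 0, 73858, 74490, 73196], [15, 0, 73861, 74490], [3, 0, 73856, 74493], [414, 1, 73165, 73172, 74484], [414, 0, 74476, 74485, 74499], [37, 1, 73214, 74496], [85, 1, 49813, 73181, 74496], [86, 2, 46693, 73183, 74496], [201, 1, 46458, 23994, 73181, 74496], [208, 5, 44759, 46458, 46762, 47560, 48894, 55259, 73214, 74496],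 [299, 2, 73187, 73176, 74496], [300, 1, 66322, 73198, 74496], [315, 2, 66322, 73200, 74496], [316, 1, 73187, 73193, 74496], [217, 3, 74478, 73863, 74486, 67848], [85, 1, 67851, 74520, 51132], [201, 1, 54511, 68226, 74520, 51132], [61, 1, 73230, 74524], [125, 3, 51135, 74524, 54512], [127, 4, 74528, 51135, 74524, 74526, 53052], [217, 3, 74528, 51135, 74522, 67852], [298, 1, 54515, 74528, 51136, 57745], [114, 2, 74454, 74529, 74533], [298, 1, 67855, 74536, 73868, 74448], [113, 2, 74535, 73257, 74538], [126, 2, 66337, 74538, 67856], [114, 1, 74542, 73293, 73247], [85, 3, 57257, 74544, 67858], [217, 1, 67861, 74546, 73302, 66340], [281, 3, 66608, 66343, 74548, 67862], [218, 1, 67865, 74550, 66344, 73313], [86, 2, 51149, 74552, 67866], [61, 1, 73244, 74534], [126, 2, 57255, 74534, 54516], [128, 3, 74558, 57255, 74534, 74556, 62922], [202, 1, 54519, 74558, 57256, 74547], [126, 2, 67861, 74562, 54520], [114, 1, 74564, 74549, 73304], [281, 3, 57563, 57261, 74566, 54522], [319, 0, 73899, 74336, 66364], [413, 2, 74336, 73105, 73096], [303, 0, 66365, 74572, 73898], [311,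 2, 73901, 74574, 66366], [304, 1, 66369, 74576, 73902], [413, 3, 73113, 73090, 74576], [320, 1, 73903, 74580, 66368], [316, 3, 66371, 74582, 73904], [413, 2, 74584, 73079, 72852], [114, 2, 69842, 69796, 74314], [125, 1, 73898, 74588, 69469], [0, 0], [0, 0], [0, 0], [0, 0], [0, 0], [0, 0], [0, 0], [0, 0], [0, 0], [0, 0], [0, 0], [0, 0], [345, 19, 73894, 73896, 73898, 73899, 73897, 73895, 73893, 73891, 73889, 73887, 73886, 73888, 73890, 73892, 73894, 73896, 73898, 73900, 73902, 73904, 73906, 74123, 72811, 74118, 73914, 56042, 40838, 8184, 10804, 10809, 11445, 12292, 13437, 13498, 74592, 74594, 74596, 74598, 74600, 74602, 74604, 74606, 74608, 74610, 74612, 74614], [250, 1, 74616, 73893, 74269], [263, 2, 74616, 74266, 74617], [279, 2, 74616, 74218, 74617], [295, 2, 74616, 74170, 74617], [298, 3, 74616, 74343, 69826, 57909], [311, 2, 74616, 74343, 66825], [312, 1, 74616, 74326, 73341], [327, 2, 74616, 74344, 73341], [328, 1, 74616, 74338, 66825], [343, 2, 74616, 74077, 74617], [359, 2, 74616, 74019, 74617], [375, 2, 74616, 73961, 74617], [367, 0, 74614, 74640, 74615],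 [363, 2, 74612, 74642, 74613], [367, 0, 74610, 74644, 74611], [375, 2, 74608, 74646, 74609], [368, 1, 74606, 74648, 74607], [364, 3, 74604, 74650, 74605], [368, 1, 74602, 74652, 74603], [351, 0, 74614, 74638, 74615], [347, 2, 74612, 74656, 74613], [351, 0, 74610, 74658, 74611], [359, 2, 74608, 74660, 74609], [352, 1, 74606, 74662, 74607], [348, 3, 74604, 74664, 74605], [352, 1, 74602, 74666, 74603], [335, 0, 74614, 74636, 74615], [331, 2, 74612, 74670, 74613], [335, 0, 74610, 74672, 74611], [343, 2, 74608, 74674, 74609], [336, 1, 74606, 74676, 74607], [332, 3, 74604, 74678, 74605], [336, 1, 74602, 74680, 74603], [320, 3, 66822, 74634, 74615], [316, 1, 74612, 74684, 66821], [317, 1, 74684, 73569, 61466], [322, 2, 74684, 73315, 57999], [413, 2, 74684, 73419, 73410], [300, 1, 66820, 74692, 74613], [302, 0, 74694, 73570, 61565], [304, 3, 74610, 74694, 66819], [381, 0, 74694, 66914, 74695], [393, 0, 74694, 66900, 74695], [403, 0, 74694, 66884, 74695], [288, 3, 74610, 74704, 74611], [296, 1, 74608, 74706, 74609], [287, 2, 74606, 74708, 74607], [283, 0, 74604, 74710,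 74605], [287, 2, 74602, 74712, 74603], [272, 3, 74610, 74702, 74611], [280, 1, 74608, 74716, 74609], [271, 2, 74606, 74718, 74607], [267, 0, 74604, 74720, 74605], [271, 2, 74602, 74722, 74603], [256, 3, 74610, 74700, 74611], [264, 1, 74608, 74726, 74609], [255, 2, 74606, 74728, 74607], [251, 0, 74604, 74730, 74605], [255, 2, 74602, 74732, 74603], [301, 3, 58013, 73572, 74698], [413, 3, 73423, 73522, 74698], [328, 1, 74608, 74738, 66817], [319, 2, 66814, 74740, 74607], [413, 2, 74742, 73469, 73516], [299, 0, 66812, 74744, 74605], [302, 0, 74746, 73531, 63581], [303, 2, 74602, 74746, 66811], [305, 3, 74746, 73485, 58085], [125, 1, 57894, 74752, 74603], [321, 0, 73518, 58122, 74752], [315, 2, 74605, 74756, 73328], [319, 2, 74602, 74756, 73327], [327, 0, 73324, 74760, 74601], [414, 3, 73488, 73473, 74760], [414, 2, 74750, 74761, 74765], [327, 0, 74600, 74766, 66809], [320, 3, 66806, 74768, 74599], [321, 1, 58134, 66937, 74768], [414, 1, 73492, 73475, 74768], [414, 1, 74769, 74775, 74762], [304, 3, 73322, 74776, 74599], [300, 1, 74596, 74778, 73321], [414, 2, 74778,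 73494, 73477], [414, 3, 74783, 74779, 74770], [300, 1, 66804, 74784, 74597], [302, 0, 74786, 66931, 63606], [304, 3, 74594, 74786, 66803], [414, 0, 74786, 73496, 73507], [414, 0, 74780, 74793, 74787], [320, 3, 74594, 74794, 73319], [317, 3, 56861, 73504, 74796]]
def dJ190 : List (List ℕ) := [[306, 1, 67744, 65056, 75956], [299, 2, 75882, 76000, 67655], [302, 0, 60853, 67815, 76002], [303, 0, 67652, 76002, 75881], [306, 0, 72332, 67817, 76002], [125, 3, 75880, 76008, 72251], [113, 0, 69357, 72373, 76010], [298, 0, 72404, 72248, 76010, 75879], [322, 3, 67821, 72377, 76010], [327, 0, 75878, 76016, 67651], [317, 1, 65041, 69378, 76018], [319, 2, 67648, 76018, 75877], [321, 1, 72410, 72405, 76018], [61, 2, 76024, 71210], [126, 2, 75876, 76024, 71079], [128, 4, 69130, 76026, 76024, 71079, 76028], [218, 3, 75876, 76024, 71212, 59385], [86, 0, 59382, 76032, 75875], [301, 0, 72407, 59634, 76032], [300, 3, 75874, 76036, 67647], [304, 1, 67644, 76038, 75873], [305, 3, 65032, 72501, 76038], [125, 1, 75872, 76042, 62569], [322, 1, 76042, 65037, 72501], [319, 2, 67644, 76046,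 75873], [318, 2, 76048, 72498, 72434], [327, 0, 75870, 76048, 67643], [317, 1, 72436, 72494, 76052], [320, 3, 67640, 76052, 75869], [322, 2, 64991, 72493, 76052], [126, 0, 75868, 76058, 64745], [305, 2, 76058, 64986, 72493], [303, 0, 67640, 76062, 75869], [301, 3, 76064, 67835, 60831], [85, 1, 52838, 76066, 75867], [201, 1, 71068, 72462, 76066, 75867], [61, 2, 76070, 71258], [45, 2, 76054, 72481], [282, 3, 69125, 69255, 76074, 75870], [0, 0], [0, 0], [0, 0], [0, 0], [0, 0], [0, 0], [0, 0], [0, 0], [0, 0], [0, 0], [0, 0], [0, 0], [0, 0], [0, 0], [0, 0], [0, 0], [0, 0], [0, 0], [0, 0], [0, 0], [0, 0], [0, 0], [0, 0], [329, 29, 49248, 50204, 50484, 50493, 41538, 50492, 50491, 12692, 44578, 14278, 68228, 76078, 76080, 76082, 76084, 76086, 76088, 76090, 76092, 76094, 76096, 76098, 76100, 76102, 76104, 76106, 76108, 76110, 76112, 76114, 76116, 76118, 76120, 76122], [263, 2, 76124, 49031, 76125], [279, 2, 76124, 49033, 76125], [282, 3, 76124, 49035, 66750, 74122], [295, 2, 76124, 49035, 76125], [298, 3, 76124, 49525, 49485, 60975], [311, 2, 76124, 49525, 69479], [328,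 1, 76124, 49527, 69479], [343, 2, 76124, 49037, 76125], [359, 2, 76124, 49039, 76125], [375, 2, 76124, 49041, 76125], [367, 0, 76122, 76144, 76123], [363, 2, 76120, 76146, 76121], [367, 0, 76118, 76148, 76119], [376, 3, 76116, 76150, 76117], [368, 1, 76114, 76152, 76115], [364, 3, 76112, 76154, 76113], [368, 1, 76110, 76156, 76111], [376, 3, 76108, 76158, 76109], [367, 0, 76106, 76160, 76107], [363, 2, 76104, 76162, 76105], [367, 0, 76102, 76164, 76103], [375, 2, 76100, 76166, 76101], [368, 1, 76098, 76168, 76099], [364, 3, 76096, 76170, 76097], [368, 1, 76094, 76172, 76095], [375, 2, 76092, 76174, 76093], [367, 0, 76090, 76176, 76091], [363, 2, 76088, 76178, 76089], [367, 0, 76086, 76180, 76087], [375, 2, 76084, 76182, 76085], [368, 1, 76082, 76184, 76083], [351, 0, 76122, 76142, 76123], [347, 2, 76120, 76188, 76121], [351, 0, 76118, 76190, 76119], [360, 3, 76116, 76192, 76117], [352, 1, 76114, 76194, 76115], [348, 3, 76112, 76196, 76113], [352, 1, 76110, 76198, 76111], [360, 3, 76108, 76200, 76109], [351, 0, 76106, 76202, 76107], [347, 2, 76104, 76204, 76105],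 [351, 0, 76102, 76206, 76103], [359, 2, 76100, 76208, 76101], [352, 1, 76098, 76210, 76099], [348, 3, 76096, 76212, 76097], [352, 1, 76094, 76214, 76095], [359, 2, 76092, 76216, 76093], [351, 0, 76090, 76218, 76091], [347, 2, 76088, 76220, 76089], [351, 0, 76086, 76222, 76087], [359, 2, 76084, 76224, 76085], [352, 1, 76082, 76226, 76083], [335, 0, 76122, 76140, 76123], [331, 2, 76120, 76230, 76121], [335, 0, 76118, 76232, 76119], [344, 3, 76116, 76234, 76117], [336, 1, 76114, 76236, 76115], [332, 3, 76112, 76238, 76113], [336, 1, 76110, 76240, 76111], [344, 3, 76108, 76242, 76109], [335, 0, 76106, 76244, 76107], [331, 2, 76104, 76246, 76105], [335, 0, 76102, 76248, 76103], [343, 2, 76100, 76250, 76101], [336, 1, 76098, 76252, 76099], [332, 3, 76096, 76254, 76097], [336, 1, 76094, 76256, 76095], [343, 2, 76092, 76258, 76093], [335, 0, 76090, 76260, 76091], [331, 2, 76088, 76262, 76089], [335, 0, 76086, 76264, 76087], [343, 2, 76084, 76266, 76085], [336, 1, 76082, 76268, 76083], [320, 3, 69476, 76138, 76123], [322, 2, 76272, 69636, 63184], [383, 2, 76272, 69640,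 76273], [395, 2, 76272, 69642, 76273], [405, 2, 76272, 69644, 76273], [284, 1, 76120, 76280, 76121], [288, 3, 76118, 76282, 76119], [295, 0, 76116, 76284, 76117], [287, 2, 76114, 76286, 76115], [283, 0, 76112, 76288, 76113], [287, 2, 76110, 76290, 76111], [295, 0, 76108, 76292, 76109], [288, 3, 76106, 76294, 76107], [284, 1, 76104, 76296, 76105], [288, 3, 76102, 76298, 76103], [296, 1, 76100, 76300, 76101], [287, 2, 76098, 76302, 76099], [283, 0, 76096, 76304, 76097], [287, 2, 76094, 76306, 76095], [296, 1, 76092, 76308, 76093], [288, 3, 76090, 76310, 76091], [284, 1, 76088, 76312, 76089], [288, 3, 76086, 76314, 76087], [296, 1, 76084, 76316, 76085], [287, 2, 76082, 76318, 76083], [268, 1, 76120, 76278, 76121], [272, 3, 76118, 76322, 76119], [279, 0, 76116, 76324, 76117], [271, 2, 76114, 76326, 76115], [267, 0, 76112, 76328, 76113], [271, 2, 76110, 76330, 76111], [279, 0, 76108, 76332, 76109], [272, 3, 76106, 76334, 76107], [268, 1, 76104, 76336, 76105], [272, 3, 76102, 76338, 76103], [280, 1, 76100, 76340, 76101], [271, 2, 76098, 76342, 76099], [267, 0, 76096,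 76344, 76097], [271, 2, 76094, 76346, 76095], [280, 1, 76092, 76348, 76093], [272, 3, 76090, 76350, 76091], [268, 1, 76088, 76352, 76089], [272, 3, 76086, 76354, 76087], [280, 1, 76084, 76356, 76085], [271, 2, 76082, 76358, 76083], [252, 1, 76120, 76276, 76121], [256, 3, 76118, 76362, 76119], [263, 0, 76116, 76364, 76117], [255, 2, 76114, 76366, 76115], [251, 0, 76112, 76368, 76113], [255, 2, 76110, 76370, 76111], [263, 0, 76108, 76372, 76109], [256, 3, 76106, 76374, 76107], [252, 1, 76104, 76376, 76105], [256, 3, 76102, 76378, 76103], [264, 1, 76100, 76380, 76101], [255, 2, 76098, 76382, 76099], [251, 0, 76096, 76384, 76097], [255, 2, 76094, 76386, 76095], [264, 1, 76092, 76388, 76093], [256, 3, 76090, 76390, 76091], [252, 1, 76088, 76392, 76089], [256, 3, 76086, 76394, 76087], [264, 1, 76084, 76396, 76085]]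
def dJ194 : List (List ℕ) := [[125, 1, 67105, 77598, 55284], [306, 0, 75462, 77598, 64386], [126, 2, 63995, 77602, 75066], [218, 3, 63995, 77602, 75455, 59736], [46, 1, 75549, 77606], [114, 1, 75547, 77606, 77605], [282, 1, 59739, 77606, 63996, 64237], [302, 0, 60146, 77606, 64443], [281, 3, 62169, 61955, 77614, 52214], [302, 0, 59077, 77616, 62330], [45, 2, 77612, 75567], [302, 2, 75464, 77610, 71892], [282, 1, 65471, 77622, 67106, 67325], [114, 0, 77624, 75558, 77616], [302, 2, 77468, 77624, 70704], [113, 3, 77612, 75554, 77628], [126, 0, 77027, 77630, 63998], [305, 1, 77458, 77630, 64377], [125, 3, 55289, 77634, 75070], [305, 1, 75468, 77636, 62328], [218, 1, 52217, 77616, 61956, 77638], [86, 2, 67111, 77640, 52218], [302, 2, 77451, 77640, 60142], [85, 1, 59743, 77644, 77028], [201, 1, 70223, 75565, 77644, 77028], [114, 2, 77647, 77648, 75571], [125, 3, 77031, 77648, 70224], [306, 2, 77454, 77648, 71793], [126, 0, 71327, 77654, 75074], [297, 3, 75475, 75077, 77656, 71328], [306, 2, 75472, 77656, 71908], [217, 3, 77660, 67113, 77643, 52220], [298, 1, 65479, 77660,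 67114, 77437], [126, 2, 77035, 77664, 65480], [306, 2, 77426, 77664, 70696], [125, 1, 70229, 77668, 75078], [306, 2, 75476, 77670, 71778], [202, 0, 75541, 71333, 77672, 67118], [86, 2, 67118, 77674, 58581], [302, 2, 77416, 77674, 59089], [85, 1, 52226, 77678, 77037], [217, 3, 77665, 77034, 77680, 52225], [302, 2, 77425, 77680, 60126], [218, 1, 59748, 77684, 75079, 77669], [282, 3, 70226, 70518, 77686, 59747], [302, 2, 71780, 77686, 60257], [281, 1, 58576, 77690, 71623, 71329], [114, 2, 77676, 77673, 75853], [126, 0, 53802, 77694, 58579], [298, 3, 59746, 60257, 77696, 53801], [413, 2, 77362, 77221, 77215], [0, 0], [0, 0], [0, 0], [0, 0], [0, 0], [0, 0], [0, 0], [0, 0], [0, 0], [0, 0], [0, 0], [0, 0], [345, 19, 77042, 77044, 77046, 77047, 77045, 77043, 77041, 77039, 77037, 77035, 77034, 77036, 77038, 77040, 77042, 77044, 77046, 77048, 77050, 77052, 77054, 77056, 45484, 46618, 46586, 38037, 40827, 38034, 36903, 6531, 32974, 47928, 47945, 13462, 77702, 77704, 77706, 77708, 77710, 77712, 77714, 77716, 77718, 77720, 77722, 77724], [250, 1, 77726, 77041, 77326], [263,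 2, 77726, 77325, 77727], [279, 2, 77726, 77285, 77727], [295, 2, 77726, 77245, 77727], [311, 2, 77726, 77395, 75611], [312, 1, 77726, 77404, 67467], [327, 2, 77726, 77401, 67467], [328, 1, 77726, 77406, 75611], [343, 2, 77726, 77182, 77727], [359, 2, 77726, 77138, 77727], [375, 2, 77726, 77094, 77727], [367, 0, 77724, 77748, 77725], [363, 2, 77722, 77750, 77723], [351, 0, 77724, 77746, 77725], [347, 2, 77722, 77754, 77723], [335, 0, 77724, 77744, 77725], [331, 2, 77722, 77758, 77723], [320, 3, 75608, 77742, 77725], [318, 2, 77762, 75771, 60415], [405, 2, 77762, 75693, 77763], [413, 2, 77762, 75778, 75685], [300, 1, 75606, 77768, 77723], [304, 3, 77720, 77770, 75605], [305, 3, 77770, 75766, 71063], [381, 0, 77770, 75727, 77771], [393, 0, 77770, 75711, 77771], [403, 0, 77770, 75695, 77771], [126, 0, 65954, 77774, 77721], [321, 0, 75777, 72071, 77774], [316, 3, 77723, 77784, 67462], [320, 3, 77720, 77784, 67461], [328, 1, 67458, 77788, 77719], [414, 3, 75743, 75758, 77788], [414, 2, 77772, 77789, 77793], [328, 1, 77718, 77794, 75603], [319, 2, 75600, 77796, 77717],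 [414, 1, 75745, 75754, 77796], [414, 1, 77797, 77801, 77790], [303, 2, 67456, 77802, 77717], [299, 0, 77714, 77804, 67455], [302, 2, 77804, 69099, 60493], [414, 2, 77804, 75747, 75756], [414, 3, 77811, 77805, 77798], [299, 0, 75598, 77812, 77715], [301, 3, 77814, 75782, 59348], [303, 2, 77712, 77814, 75597], [414, 0, 77814, 75789, 75780], [414, 0, 77806, 77821, 77815], [319, 2, 77712, 77822, 67453], [327, 0, 67450, 77824, 77711], [414, 3, 75791, 75784, 77824], [414, 2, 77818, 77825, 77829], [327, 0, 77710, 77830, 75595], [317, 1, 72175, 75795, 77832], [320, 3, 75592, 77832, 77709], [414, 1, 75793, 75802, 77832], [414, 1, 77833, 77839, 77826], [304, 3, 67448, 77840, 77709], [300, 1, 77706, 77842, 67447], [302, 2, 77842, 67624, 59354], [305, 1, 77842, 69075, 62529], [414, 2, 77842, 75797, 75804], [414, 3, 77851, 77843, 77836], [300, 1, 75590, 77852, 77707], [301, 3, 77854, 75810, 60554], [304, 3, 77704, 77854, 75589], [305, 3, 77854, 75812, 72193], [414, 0, 77854, 75817, 75806], [414, 0, 77844, 77863, 77855], [320, 3, 77704, 77864, 67445], [317, 3, 70733, 67617,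 77866], [321, 3, 69065, 69058, 77866], [322, 0, 71048, 67619, 77866], [414, 3, 68917, 68914, 77866], [414, 2, 77858, 77867, 77875], [413, 2, 77786, 77769, 77763], [0, 0], [0, 0], [0, 0], [0, 0], [0, 0], [0, 0], [0, 0], [0, 0], [0, 0], [0, 0], [0, 0], [361, 18, 77055, 77053, 77051, 77049, 77047, 77045, 77043, 77727, 77725, 77723, 77721, 77719, 77717, 77715, 77713, 77711, 77709, 77707, 77705, 77703, 13463, 47944, 47929, 32975, 6530, 36902, 38035, 2806, 38034, 49942, 50522, 62812, 62835, 62869, 62866, 77880, 77882, 77884, 77886, 77888, 77890, 77892, 77894, 77896, 77898, 77900], [250, 1, 77902, 77056, 42275], [263, 2, 77902, 77059, 77903], [279, 2, 77902, 77061, 77903], [282, 3, 77902, 77065, 77063, 71089], [295, 2, 77902, 77065, 77903], [297, 1, 77902, 77067, 61997, 55799], [311, 2, 77902, 77069, 75887], [312, 1, 77902, 77071, 67659], [327, 2, 77902, 77073, 67659], [328, 1, 77902, 77075, 75887], [343, 2, 77902, 77077, 77903], [359, 2, 77902, 77079, 77903], [375, 2, 77902, 77081, 77903], [367, 0, 77900, 77928, 77901], [363, 2, 77898, 77930, 77899], [367, 0, 77896,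 77932, 77897], [376, 3, 77894, 77934, 77895], [368, 1, 77892, 77936, 77893], [364, 3, 77890, 77938, 77891], [368, 1, 77888, 77940, 77889], [351, 0, 77900, 77926, 77901], [347, 2, 77898, 77944, 77899], [351, 0, 77896, 77946, 77897], [360, 3, 77894, 77948, 77895], [352, 1, 77892, 77950, 77893], [348, 3, 77890, 77952, 77891], [352, 1, 77888, 77954, 77889], [335, 0, 77900, 77924, 77901], [331, 2, 77898, 77958, 77899], [335, 0, 77896, 77960, 77897], [344, 3, 77894, 77962, 77895], [336, 1, 77892, 77964, 77893], [332, 3, 77890, 77966, 77891], [336, 1, 77888, 77968, 77889], [320, 3, 75884, 77922, 77901], [318, 2, 77972, 75955, 59501], [321, 1, 77972, 75957, 62694], [383, 2, 77972, 75959, 77973], [395, 2, 77972, 75961, 77973], [405, 2, 77972, 75963, 77973], [413, 2, 77972, 76000, 75953], [300, 1, 75882, 77984, 77899], [304, 3, 77896, 77986, 75881], [305, 3, 77986, 76008, 72418], [381, 0, 77986, 75989, 77987], [393, 0, 77986, 75977, 77987], [403, 0, 77986, 75965, 77987], [288, 3, 77896, 77996, 77897]]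
def dJ198 : List (List ℕ) := [[252, 1, 79020, 79198, 79021], [256, 3, 79018, 79200, 79019], [311, 0, 76764, 79142, 79033], [413, 3, 76892, 76941, 79142], [327, 0, 79032, 79206, 76765], [319, 2, 76762, 79208, 79031], [315, 0, 79028, 79210, 76761], [413, 2, 79210, 76896, 76937], [299, 0, 76760, 79214, 79029], [303, 2, 79026, 79216, 76759], [305, 3, 79216, 76954, 63960], [125, 1, 61588, 79220, 79027], [217, 1, 66946, 73070, 79220, 79027], [306, 3, 76959, 61922, 79220], [321, 0, 76959, 61818, 79220], [315, 2, 79029, 79228, 69968], [319, 2, 79026, 79228, 69967], [327, 0, 69964, 79232, 79025], [414, 3, 76933, 76900, 79232], [414, 2, 79218, 79233, 79237], [327, 0, 79024, 79238, 76757], [317, 1, 73772, 76949, 79240], [320, 3, 76754, 79240, 79023], [321, 1, 61822, 76969, 79240], [414, 1, 76931, 76902, 79240], [414, 1, 79241, 79249, 79234], [304, 3, 69962, 79250, 79023], [300, 1, 79020, 79252, 69961], [306, 2, 79252, 76962, 63897], [414, 2, 79252, 76929, 76904], [414, 3, 79259, 79253, 79244], [300, 1, 76752, 79260, 79021], [304, 3, 79018, 79262, 76911], [414, 0, 79262, 76927,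 76906], [414, 0, 79254, 79267, 79263], [320, 3, 79018, 79268, 69959], [317, 3, 63889, 70157, 79270], [321, 3, 58438, 70155, 79270], [322, 1, 63850, 70152, 79270, 79017], [6, 0, 79014, 79276, 53561], [10, 0, 79017, 79276], [6, 0, 79012, 79279, 53775], [15, 0, 79010, 79283], [328, 0, 46963, 70162, 79270], [414, 3, 70160, 70159, 79270], [414, 2, 79264, 79271, 79289], [281, 1, 53714, 53562, 53710, 79284], [282, 3, 53558, 53717, 53775, 79284], [297, 1, 58423, 58420, 61892, 79284], [298, 3, 63892, 63882, 53565, 79284], [311, 2, 70151, 61883, 79284], [312, 1, 76919, 61892, 79284], [313, 1, 70151, 77008, 61885, 79284], [314, 3, 76919, 61894, 77007, 79284], [327, 2, 76919, 61894, 79284], [328, 1, 70151, 61885, 79284], [315, 3, 79310, 70143, 56624], [316, 0, 79310, 70145, 56655], [320, 0, 79310, 70134, 72622], [323, 3, 79310, 77001, 76992], [324, 0, 79310, 79318, 79308], [319, 0, 69971, 79230, 79030], [413, 2, 79230, 79215, 79211], [303, 0, 79031, 79324, 69970], [311, 2, 69973, 79326, 79032], [304, 1, 79035, 79328, 69974], [413, 3, 79143, 79207, 79328], [320, 1, 69975, 79332,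 79034], [316, 3, 79037, 79334, 69976], [413, 2, 79336, 79139, 79129], [0, 0], [0, 0], [0, 0], [0, 0], [0, 0], [0, 0], [0, 0], [0, 0], [0, 0], [0, 0], [0, 0], [0, 0], [0, 0], [0, 0], [0, 0], [0, 0], [0, 0], [0, 0], [0, 0], [0, 0], [0, 0], [0, 0], [0, 0], [0, 0], [329, 29, 65111, 49684, 49718, 36847, 37321, 36846, 42341, 45918, 44691, 47422, 79340, 79342, 79344, 79346, 79348, 79350, 79352, 79354, 79356, 79358, 79360, 79362, 79364, 79366, 79368, 79370, 79372, 79374, 79376, 79378, 79380, 79382, 79384, 79386], [263, 2, 79388, 65117, 79389], [279, 2, 79388, 65119, 79389], [281, 1, 79388, 65138, 58820, 58601], [282, 3, 79388, 65121, 65107, 55319], [295, 2, 79388, 65121, 79389], [298, 3, 79388, 65123, 49419, 68619], [312, 1, 79388, 65125, 53825], [327, 2, 79388, 65127, 53825], [343, 2, 79388, 65131, 79389], [359, 2, 79388, 65133, 79389], [375, 2, 79388, 65135, 79389], [367, 0, 79386, 79410, 79387], [363, 2, 79384, 79412, 79385], [367, 0, 79382, 79414, 79383], [376, 3, 79380, 79416, 79381], [368, 1, 79378, 79418, 79379], [364, 3, 79376, 79420, 79377], [368, 1, 79374, 79422,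 79375], [376, 3, 79372, 79424, 79373], [367, 0, 79370, 79426, 79371], [363, 2, 79368, 79428, 79369], [367, 0, 79366, 79430, 79367], [375, 2, 79364, 79432, 79365], [368, 1, 79362, 79434, 79363], [364, 3, 79360, 79436, 79361], [368, 1, 79358, 79438, 79359], [375, 2, 79356, 79440, 79357], [367, 0, 79354, 79442, 79355], [363, 2, 79352, 79444, 79353], [367, 0, 79350, 79446, 79351], [375, 2, 79348, 79448, 79349], [351, 0, 79386, 79408, 79387], [347, 2, 79384, 79452, 79385], [351, 0, 79382, 79454, 79383], [360, 3, 79380, 79456, 79381], [352, 1, 79378, 79458, 79379], [348, 3, 79376, 79460, 79377], [352, 1, 79374, 79462, 79375], [360, 3, 79372, 79464, 79373], [351, 0, 79370, 79466, 79371], [347, 2, 79368, 79468, 79369], [351, 0, 79366, 79470, 79367], [359, 2, 79364, 79472, 79365], [352, 1, 79362, 79474, 79363], [348, 3, 79360, 79476, 79361], [352, 1, 79358, 79478, 79359], [359, 2, 79356, 79480, 79357], [351, 0, 79354, 79482, 79355], [347, 2, 79352, 79484, 79353], [351, 0, 79350, 79486, 79351], [359, 2, 79348, 79488, 79349], [335, 0, 79386, 79406, 79387], [331, 2, 79384,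 79492, 79385], [335, 0, 79382, 79494, 79383], [344, 3, 79380, 79496, 79381], [336, 1, 79378, 79498, 79379], [332, 3, 79376, 79500, 79377], [336, 1, 79374, 79502, 79375], [344, 3, 79372, 79504, 79373], [335, 0, 79370, 79506, 79371], [331, 2, 79368, 79508, 79369], [335, 0, 79366, 79510, 79367], [343, 2, 79364, 79512, 79365], [336, 1, 79362, 79514, 79363], [332, 3, 79360, 79516, 79361], [336, 1, 79358, 79518, 79359], [343, 2, 79356, 79520, 79357], [335, 0, 79354, 79522, 79355], [331, 2, 79352, 79524, 79353], [335, 0, 79350, 79526, 79351], [343, 2, 79348, 79528, 79349], [319, 0, 53822, 79404, 79387], [315, 2, 79384, 79532, 53821], [318, 0, 79532, 71950, 71946], [383, 0, 79532, 54069, 79533], [395, 0, 79532, 54023, 79533], [405, 0, 79532, 53977, 79533], [283, 2, 79384, 79542, 79385], [287, 0, 79382, 79544, 79383], [296, 3, 79380, 79546, 79381], [288, 1, 79378, 79548, 79379], [284, 3, 79376, 79550, 79377], [288, 1, 79374, 79552, 79375], [296, 3, 79372, 79554, 79373], [287, 0, 79370, 79556, 79371], [283, 2, 79368, 79558, 79369], [287, 0, 79366, 79560, 79367], [295, 2,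 79364, 79562, 79365], [288, 1, 79362, 79564, 79363], [284, 3, 79360, 79566, 79361], [288, 1, 79358, 79568, 79359], [295, 2, 79356, 79570, 79357], [287, 0, 79354, 79572, 79355], [283, 2, 79352, 79574, 79353], [287, 0, 79350, 79576, 79351], [295, 2, 79348, 79578, 79349], [267, 2, 79384, 79540, 79385], [271, 0, 79382, 79582, 79383], [280, 3, 79380, 79584, 79381], [272, 1, 79378, 79586, 79379], [268, 3, 79376, 79588, 79377], [272, 1, 79374, 79590, 79375], [280, 3, 79372, 79592, 79373], [271, 0, 79370, 79594, 79371], [267, 2, 79368, 79596, 79369]]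
def dJ202 : List (List ℕ) := [[202, 3, 80546, 80796, 78741, 53059], [301, 0, 80796, 78616, 78718], [299, 2, 54518, 80802, 80547], [303, 2, 54521, 80802, 80548], [311, 0, 80551, 80806, 54522], [304, 3, 54525, 80808, 80552], [300, 1, 80555, 80810, 54526], [304, 3, 54529, 80812, 80556], [311, 0, 80559, 80814, 54530], [303, 2, 54533, 80816, 80560], [299, 0, 80563, 80818, 54534], [303, 2, 54537, 80820, 80564], [312, 1, 80567, 80822, 54538], [303, 0, 80544, 80804, 54517], [305, 1, 80804, 74558, 57822], [125, 3, 56086, 80828, 80545], [127, 4, 80830, 56086, 80828, 80801, 53057], [321, 0, 74556, 63430, 80832], [327, 2, 80542, 80834, 54515], [320, 1, 54512, 80836, 80541], [321, 3, 57750, 74529, 80836], [322, 0, 61309, 74530, 80836], [126, 2, 80540, 80842, 60933], [128, 4, 57250, 80841, 80842, 60933, 80844], [305, 0, 80842, 61325, 74530], [303, 2, 54512, 80848, 80541], [299, 0, 80538, 80850, 54511], [301, 1, 78657, 78680, 80852], [304, 2, 63606, 61568, 80852], [0, 0], [0, 0], [0, 0], [0, 0], [0, 0], [0, 0], [0, 0], [0, 0], [0, 0], [0, 0], [0, 0], [0, 0], [345, 19, 80568,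 80570, 80572, 80573, 80571, 80569, 80567, 80565, 80563, 80561, 80560, 80562, 80564, 80566, 80568, 80570, 80572, 80574, 80576, 80578, 80580, 80582, 12878, 44678, 44663, 33116, 37926, 8677, 1396, 1604, 36826, 46557, 24077, 23782, 80858, 80860, 80862, 80864, 80866, 80868, 80870, 80872, 80874, 80876, 80878, 80880], [250, 1, 80882, 80567, 80721], [263, 2, 80882, 80718, 80883], [279, 2, 80882, 80706, 80883], [281, 1, 80882, 80764, 51394, 51611], [282, 3, 80882, 80668, 80766, 63535], [295, 2, 80882, 80668, 80883], [312, 1, 80882, 80825, 54879], [327, 2, 80882, 80763, 54879], [343, 2, 80882, 80644, 80883], [359, 2, 80882, 80630, 80883], [375, 2, 80882, 80616, 80883], [367, 0, 80880, 80904, 80881], [363, 2, 80878, 80906, 80879], [367, 0, 80876, 80908, 80877], [375, 2, 80874, 80910, 80875], [368, 1, 80872, 80912, 80873], [364, 3, 80870, 80914, 80871], [368, 1, 80868, 80916, 80869], [351, 0, 80880, 80902, 80881], [347, 2, 80878, 80920, 80879], [351, 0, 80876, 80922, 80877], [359, 2, 80874, 80924, 80875], [352, 1, 80872, 80926, 80873], [348, 3, 80870, 80928, 80871], [352,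 1, 80868, 80930, 80869], [335, 0, 80880, 80900, 80881], [331, 2, 80878, 80934, 80879], [335, 0, 80876, 80936, 80877], [343, 2, 80874, 80938, 80875], [336, 1, 80872, 80940, 80873], [332, 3, 80870, 80942, 80871], [336, 1, 80868, 80944, 80869], [319, 0, 54876, 80898, 80881], [315, 2, 80878, 80948, 54875], [383, 0, 80948, 55005, 80949], [395, 0, 80948, 54983, 80949], [405, 0, 80948, 54961, 80949], [283, 2, 80878, 80956, 80879], [287, 0, 80876, 80958, 80877], [295, 2, 80874, 80960, 80875], [288, 1, 80872, 80962, 80873], [284, 3, 80870, 80964, 80871], [288, 1, 80868, 80966, 80869], [267, 2, 80878, 80954, 80879], [271, 0, 80876, 80970, 80877], [279, 2, 80874, 80972, 80875], [272, 1, 80872, 80974, 80873], [268, 3, 80870, 80976, 80871], [272, 1, 80868, 80978, 80869], [251, 2, 80878, 80952, 80879], [255, 0, 80876, 80982, 80877], [263, 2, 80874, 80984, 80875], [256, 1, 80872, 80986, 80873], [252, 3, 80870, 80988, 80871], [256, 1, 80868, 80990, 80869], [319, 0, 54872, 80950, 80877], [327, 2, 80874, 80994, 54871], [320, 1, 54868, 80996, 80873], [316, 3, 80870, 80998, 54867],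 [320, 1, 54864, 81000, 80869], [317, 3, 81002, 69941, 63586], [318, 0, 81002, 68412, 58090], [328, 3, 80866, 81002, 54863], [317, 3, 58092, 68410, 81008], [318, 0, 63588, 69939, 81008], [319, 0, 54860, 81008, 80865], [315, 2, 80862, 81014, 54859], [317, 3, 81014, 69922, 78980], [85, 1, 78774, 81018, 80863], [201, 1, 53390, 78978, 81018, 80863], [302, 3, 69922, 78975, 81018], [300, 1, 80862, 81024, 54859], [304, 1, 80865, 81024, 54860], [311, 2, 54863, 81028, 80866], [303, 0, 80869, 81030, 54864], [299, 2, 54867, 81032, 80870], [303, 0, 80873, 81034, 54868], [312, 3, 54871, 81036, 80874], [304, 1, 80877, 81038, 54872], [300, 3, 54875, 81040, 80878], [304, 3, 54856, 81026, 80861], [306, 2, 58101, 58151, 81026], [126, 0, 80860, 81046, 56667], [128, 1, 53388, 81023, 81046, 56667, 81048], [114, 3, 81050, 63411, 69845], [306, 3, 81050, 54851, 68219], [321, 0, 81050, 54853, 68219], [322, 3, 81050, 63621, 63605], [114, 2, 68407, 73480, 81006], [126, 0, 80869, 81060, 68238], [202, 3, 56677, 73525, 81062, 80870], [218, 1, 69861, 69931, 68238, 81062], [86, 2, 80871, 81066,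 69862], [202, 3, 80871, 81066, 73528, 53398], [301, 3, 81032, 81066, 76704], [85, 1, 76643, 81072, 54866], [201, 1, 63523, 76709, 81072, 54866], [61, 2, 81076, 73545], [125, 3, 54869, 81076, 63524], [127, 5, 57899, 81078, 81076, 63524, 81080], [298, 1, 54871, 81082, 57900, 58013], [305, 1, 81037, 81082, 58074], [61, 1, 73551, 81086], [114, 1, 73580, 73552, 81086], [297, 3, 56883, 56681, 81086, 80874], [62, 2, 81092, 73558], [113, 2, 81092, 73575, 73582], [125, 1, 80877, 81092, 51604], [127, 2, 63529, 81094, 81092, 51604, 81098], [201, 4, 80879, 81100, 63530, 76680], [305, 3, 81040, 81100, 63645], [62, 1, 73556, 81104], [126, 0, 61380, 81104, 54873], [202, 0, 78879, 61383, 81104, 54874], [86, 2, 54874, 81110, 78791], [301, 1, 78883, 81112, 81040], [114, 2, 73587, 81098, 81114], [217, 3, 81094, 80876, 81114, 76649], [113, 1, 81118, 81094, 81097], [301, 1, 76699, 81118, 63567], [113, 1, 74736, 73548, 81122], [282, 3, 53402, 53496, 81122, 69867], [113, 1, 81126, 81089, 81090], [114, 2, 81126, 73551, 73553], [301, 1, 78995, 81126, 61560], [113, 1, 73577, 73542, 81132],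 [126, 2, 78784, 81134, 73331], [306, 0, 73469, 81136, 78992], [61, 2, 81138, 73578], [298, 1, 66817, 81130, 69866, 78997], [217, 4, 68250, 76660, 76653, 81102], [125, 1, 80881, 81144, 68250], [0, 0], [0, 0], [0, 0], [0, 0], [0, 0], [0, 0], [0, 0], [0, 0], [0, 0], [0, 0], [0, 0], [0, 0], [0, 0], [0, 0], [0, 0], [0, 0], [361, 18, 80581, 80579, 80577, 80575, 80573, 80571, 80569, 80883, 80881, 80879, 80877, 80875, 80873, 80871, 80869, 80867, 80865, 80863, 80861, 80859, 23783, 24076, 46556, 36827, 1605, 1397, 8676, 4492, 8677, 51088, 81148, 81150, 81152, 81154, 81156, 81158, 81160, 81162, 81164, 81166, 81168, 81170, 81172, 81174, 81176, 81178], [250, 1, 81180, 80582, 42152], [281, 1, 81180, 80589, 56354, 56919], [282, 3, 81180, 80593, 80591, 53589], [312, 1, 81180, 80595, 55059], [327, 2, 81180, 80597, 55059], [343, 2, 81180, 80599, 81181], [359, 2, 81180, 80601, 81181], [375, 2, 81180, 80603, 81181], [367, 0, 81178, 81196, 81179]]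
def dJ206 : List (List ℕ) := [[299, 0, 82210, 82398, 80079], [301, 1, 82398, 80268, 72219], [414, 2, 82398, 80259, 80264], [414, 3, 82405, 82399, 82390], [299, 0, 54128, 82406, 82211], [303, 2, 82208, 82408, 54127], [414, 0, 82408, 80275, 80266], [414, 0, 82400, 82413, 82409], [319, 2, 82208, 82414, 80077], [317, 3, 59329, 80273, 82416], [327, 0, 80074, 82416, 82207], [414, 3, 80277, 80300, 82416], [414, 2, 82410, 82417, 82423], [327, 0, 82206, 82424, 54125], [320, 3, 54122, 82426, 82205], [414, 1, 80279, 80296, 82426], [414, 1, 82427, 82431, 82420], [304, 3, 80072, 82432, 82205], [300, 1, 82202, 82434, 80071], [414, 2, 82434, 80283, 80292], [414, 3, 82439, 82435, 82428], [300, 1, 54120, 82440, 82203], [302, 0, 82442, 75815, 72193], [303, 3, 82442, 62347, 62345], [305, 3, 82442, 64679, 64684], [306, 0, 82442, 60562, 60554], [414, 0, 82442, 80285, 80294], [414, 0, 82436, 82453, 82443], [0, 0], [0, 0], [0, 0], [0, 0], [0, 0], [0, 0], [0, 0], [0, 0], [0, 0], [0, 0], [0, 0], [0, 0], [0, 0], [0, 0], [361, 18, 81617, 81615, 81613, 81611, 81609, 81607, 81605, 82223, 82221,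 82219, 82217, 82215, 82213, 82211, 82209, 82207, 82205, 82203, 82201, 55271, 23793, 50450, 50443, 42718, 2618, 32969, 6530, 6542, 6531, 32974, 47928, 67844, 82456, 82458, 82460, 82462, 82464, 82466, 82468, 82470, 82472, 82474, 82476, 82478, 82480, 82482], [250, 1, 82484, 81618, 49435], [281, 1, 82484, 81625, 52451, 52859], [282, 3, 82484, 81629, 81627, 62583], [311, 2, 82484, 81631, 54319], [328, 1, 82484, 81637, 54319], [343, 2, 82484, 81639, 82485], [359, 2, 82484, 81641, 82485], [375, 2, 82484, 81643, 82485], [367, 0, 82482, 82500, 82483], [363, 2, 82480, 82502, 82481], [367, 0, 82478, 82504, 82479], [376, 3, 82476, 82506, 82477], [368, 1, 82474, 82508, 82475], [364, 3, 82472, 82510, 82473], [368, 1, 82470, 82512, 82471], [376, 3, 82468, 82514, 82469], [367, 0, 82466, 82516, 82467], [363, 2, 82464, 82518, 82465], [367, 0, 82462, 82520, 82463], [369, 2, 82460, 82522, 82461], [366, 1, 82458, 82524, 82459], [351, 0, 82482, 82498, 82483], [347, 2, 82480, 82528, 82481], [351, 0, 82478, 82530, 82479], [360, 3, 82476, 82532, 82477], [352, 1, 82474, 82534, 82475], [348,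 3, 82472, 82536, 82473], [352, 1, 82470, 82538, 82471], [360, 3, 82468, 82540, 82469], [351, 0, 82466, 82542, 82467], [347, 2, 82464, 82544, 82465], [351, 0, 82462, 82546, 82463], [353, 2, 82460, 82548, 82461], [350, 1, 82458, 82550, 82459], [335, 0, 82482, 82496, 82483], [331, 2, 82480, 82554, 82481], [335, 0, 82478, 82556, 82479], [344, 3, 82476, 82558, 82477], [336, 1, 82474, 82560, 82475], [332, 3, 82472, 82562, 82473], [336, 1, 82470, 82564, 82471], [344, 3, 82468, 82566, 82469], [335, 0, 82466, 82568, 82467], [331, 2, 82464, 82570, 82465], [335, 0, 82462, 82572, 82463], [337, 2, 82460, 82574, 82461], [334, 1, 82458, 82576, 82459], [320, 3, 54316, 82494, 82483], [326, 2, 58491, 57168, 82494], [317, 1, 82580, 66206, 72321], [413, 2, 82580, 80467, 80402], [300, 1, 54314, 82586, 82481], [302, 0, 82588, 66269, 72333], [304, 3, 82478, 82588, 54313], [305, 3, 82588, 69338, 65049], [306, 0, 82588, 67818, 60852], [381, 0, 82588, 54476, 82589], [393, 0, 82588, 54448, 82589], [403, 0, 82588, 54420, 82589], [288, 3, 82478, 82602, 82479], [295, 0, 82476, 82604, 82477],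 [287, 2, 82474, 82606, 82475], [283, 0, 82472, 82608, 82473], [287, 2, 82470, 82610, 82471], [295, 0, 82468, 82612, 82469], [288, 3, 82466, 82614, 82467], [284, 1, 82464, 82616, 82465], [288, 3, 82462, 82618, 82463], [290, 1, 82460, 82620, 82461], [285, 2, 82458, 82622, 82459], [272, 3, 82478, 82600, 82479], [279, 0, 82476, 82626, 82477], [271, 2, 82474, 82628, 82475], [267, 0, 82472, 82630, 82473], [271, 2, 82470, 82632, 82471], [279, 0, 82468, 82634, 82469], [272, 3, 82466, 82636, 82467], [268, 1, 82464, 82638, 82465], [272, 3, 82462, 82640, 82463], [274, 1, 82460, 82642, 82461], [269, 2, 82458, 82644, 82459], [256, 3, 82478, 82598, 82479], [263, 0, 82476, 82648, 82477], [255, 2, 82474, 82650, 82475], [251, 0, 82472, 82652, 82473], [255, 2, 82470, 82654, 82471], [263, 0, 82468, 82656, 82469], [256, 3, 82466, 82658, 82467], [252, 1, 82464, 82660, 82465], [256, 3, 82462, 82662, 82463], [258, 1, 82460, 82664, 82461], [253, 2, 82458, 82666, 82459], [125, 3, 52852, 82596, 82479], [127, 4, 82670, 52852, 82596, 82595, 62577], [305, 2, 80474, 59640, 82596], [322, 1,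 80474, 59503, 82596], [316, 3, 82481, 82676, 80326], [320, 3, 82478, 82676, 80325], [327, 0, 80322, 82680, 82477], [414, 3, 80481, 80471, 82680], [414, 2, 82592, 82681, 82685], [327, 0, 82476, 82686, 54311], [319, 2, 54308, 82688, 82475], [321, 1, 62790, 69365, 82688], [322, 2, 60859, 67829, 82688], [414, 1, 80483, 80490, 82688], [414, 1, 82689, 82697, 82682], [303, 2, 80320, 82698, 82475], [299, 0, 82472, 82700, 80319], [414, 2, 82700, 80485, 80492], [414, 3, 82705, 82701, 82690], [299, 0, 54306, 82706, 82473], [302, 0, 82708, 71245, 71217], [303, 2, 82470, 82708, 54305], [414, 0, 82708, 80503, 80494], [414, 0, 82702, 82715, 82709], [319, 2, 82470, 82716, 80317], [317, 3, 60838, 80501, 82718], [318, 0, 64989, 80507, 82718], [327, 0, 80314, 82718, 82469], [414, 3, 80505, 80530, 82718], [414, 2, 82712, 82719, 82727], [327, 0, 82468, 82728, 54303], [317, 1, 62798, 71257, 82730], [318, 2, 60875, 72470, 82730], [320, 3, 54300, 82730, 82467], [414, 1, 80509, 80526, 82730], [414, 1, 82731, 82739, 82724], [304, 3, 80312, 82740, 82467], [300, 1, 82464, 82742, 80311], [301,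 1, 82742, 80518, 72440], [414, 2, 82742, 80515, 80522], [414, 3, 82749, 82743, 82736], [300, 1, 54298, 82750, 82465], [302, 0, 82752, 66271, 72403], [304, 0, 82462, 82752, 54297, 60908], [7, 0, 82463, 82757], [10, 0, 82460, 82757, 62854], [5, 0, 82458, 82761], [305, 3, 82752, 62892, 62823], [414, 0, 82752, 80517, 80524], [113, 1, 55772, 55774, 82762], [114, 2, 60568, 62854, 82762], [301, 2, 69397, 64999, 82762], [302, 1, 54292, 62830, 82762], [317, 2, 54292, 62832, 82762], [318, 1, 69397, 65022, 82762], [413, 2, 82678, 82587, 82581], [0, 0], [0, 0], [0, 0], [0, 0], [0, 0], [0, 0], [0, 0], [0, 0], [0, 0]]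
def dJ210 : List (List ℕ) := [[352, 1, 83906, 83998, 83907], [360, 3, 83904, 84000, 83905], [351, 0, 83902, 84002, 83903], [347, 2, 83900, 84004, 83901], [351, 0, 83898, 84006, 83899], [359, 2, 83896, 84008, 83897], [352, 1, 83894, 84010, 83895], [348, 3, 83892, 84012, 83893], [352, 1, 83890, 84014, 83891], [359, 2, 83888, 84016, 83889], [351, 0, 83886, 84018, 83887], [347, 2, 83884, 84020, 83885], [351, 0, 83882, 84022, 83883], [359, 2, 83880, 84024, 83881], [352, 1, 83878, 84026, 83879], [348, 3, 83876, 84028, 83877], [335, 0, 83918, 83938, 83919], [331, 2, 83916, 84032, 83917], [335, 0, 83914, 84034, 83915], [344, 3, 83912, 84036, 83913], [336, 1, 83910, 84038, 83911], [332, 3, 83908, 84040, 83909], [336, 1, 83906, 84042, 83907], [344, 3, 83904, 84044, 83905], [335, 0, 83902, 84046, 83903], [331, 2, 83900, 84048, 83901], [335, 0, 83898, 84050, 83899], [343, 2, 83896, 84052, 83897], [336, 1, 83894, 84054, 83895], [332, 3, 83892, 84056, 83893], [336, 1, 83890, 84058, 83891], [343, 2, 83888, 84060, 83889], [335, 0, 83886, 84062, 83887], [331, 2, 83884, 84064, 83885],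 [335, 0, 83882, 84066, 83883], [343, 2, 83880, 84068, 83881], [336, 1, 83878, 84070, 83879], [332, 3, 83876, 84072, 83877], [319, 0, 67892, 83936, 83919], [315, 2, 83916, 84076, 67891], [321, 3, 84076, 68052, 80647], [383, 0, 84076, 68055, 84077], [395, 0, 84076, 68057, 84077], [405, 0, 84076, 68059, 84077], [283, 2, 83916, 84086, 83917], [287, 0, 83914, 84088, 83915], [296, 3, 83912, 84090, 83913], [288, 1, 83910, 84092, 83911], [284, 3, 83908, 84094, 83909], [288, 1, 83906, 84096, 83907], [296, 3, 83904, 84098, 83905], [287, 0, 83902, 84100, 83903], [283, 2, 83900, 84102, 83901], [287, 0, 83898, 84104, 83899], [295, 2, 83896, 84106, 83897], [288, 1, 83894, 84108, 83895], [284, 3, 83892, 84110, 83893], [288, 1, 83890, 84112, 83891], [295, 2, 83888, 84114, 83889], [287, 0, 83886, 84116, 83887], [283, 2, 83884, 84118, 83885], [287, 0, 83882, 84120, 83883], [295, 2, 83880, 84122, 83881], [288, 1, 83878, 84124, 83879], [284, 3, 83876, 84126, 83877], [267, 2, 83916, 84084, 83917], [271, 0, 83914, 84130, 83915], [280, 3, 83912, 84132, 83913], [272, 1, 83910, 84134,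 83911], [268, 3, 83908, 84136, 83909], [272, 1, 83906, 84138, 83907], [280, 3, 83904, 84140, 83905], [271, 0, 83902, 84142, 83903], [267, 2, 83900, 84144, 83901], [271, 0, 83898, 84146, 83899], [279, 2, 83896, 84148, 83897], [272, 1, 83894, 84150, 83895], [268, 3, 83892, 84152, 83893], [272, 1, 83890, 84154, 83891], [279, 2, 83888, 84156, 83889], [271, 0, 83886, 84158, 83887], [267, 2, 83884, 84160, 83885], [271, 0, 83882, 84162, 83883], [279, 2, 83880, 84164, 83881], [272, 1, 83878, 84166, 83879], [268, 3, 83876, 84168, 83877], [251, 2, 83916, 84082, 83917], [255, 0, 83914, 84172, 83915], [264, 3, 83912, 84174, 83913], [256, 1, 83910, 84176, 83911], [252, 3, 83908, 84178, 83909], [256, 1, 83906, 84180, 83907], [264, 3, 83904, 84182, 83905], [255, 0, 83902, 84184, 83903], [251, 2, 83900, 84186, 83901], [255, 0, 83898, 84188, 83899], [263, 2, 83896, 84190, 83897], [256, 1, 83894, 84192, 83895], [252, 3, 83892, 84194, 83893], [256, 1, 83890, 84196, 83891], [263, 2, 83888, 84198, 83889], [255, 0, 83886, 84200, 83887], [251, 2, 83884, 84202, 83885], [255, 0, 83882,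 84204, 83883], [263, 2, 83880, 84206, 83881], [256, 1, 83878, 84208, 83879], [252, 3, 83876, 84210, 83877], [306, 3, 68052, 80725, 84080], [300, 1, 83916, 84214, 67891], [302, 2, 57883, 68196, 84216], [304, 3, 67888, 84216, 83915], [305, 1, 78480, 69833, 84216], [306, 2, 73081, 69784, 84216], [126, 0, 83914, 84224, 72601], [128, 1, 78160, 84223, 84224, 72601, 84226], [113, 0, 84228, 78488, 80735], [322, 3, 84228, 78487, 69840], [327, 0, 67886, 84232, 83913], [319, 2, 83910, 84234, 67885], [321, 3, 84234, 76424, 76417], [322, 0, 84234, 73111, 74313], [126, 2, 73898, 84240, 83911], [128, 3, 84242, 73898, 84240, 84239, 69469], [305, 2, 73111, 74308, 84240], [304, 1, 83910, 84246, 67885], [300, 3, 67882, 84248, 83909], [302, 2, 56607, 68211, 84248], [86, 0, 83908, 84252, 51165], [202, 1, 80570, 80746, 51165, 84254], [218, 3, 73894, 74328, 84254, 83907], [318, 1, 68213, 56526, 84254], [319, 2, 83906, 84260, 67881], [318, 0, 76555, 76437, 84262], [322, 0, 80763, 68216, 84262], [327, 0, 67878, 84262, 83905], [317, 3, 84268, 76441, 76557], [318, 0, 84268, 73125, 74346],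 [320, 3, 83902, 84268, 67877], [321, 3, 84268, 83233, 83033], [126, 0, 54536, 84276, 83903], [297, 4, 67878, 68217, 54539, 84276], [303, 0, 83902, 84280, 67877], [312, 1, 83905, 84280, 67878], [299, 2, 67874, 84282, 83901], [302, 2, 57854, 73289, 84282], [85, 1, 83900, 84288, 56105], [113, 1, 83225, 83219, 84290], [114, 2, 76481, 76482, 84290], [217, 3, 83191, 56102, 84290, 83899], [318, 1, 73291, 57851, 84290], [320, 3, 83898, 84298, 67873], [321, 3, 74378, 76535, 84300], [322, 0, 76623, 83265, 84300], [328, 1, 67870, 84300, 83897], [318, 0, 84306, 83197, 83065], [319, 2, 83894, 84306, 67869], [321, 3, 84306, 83252, 78571], [322, 0, 84306, 76533, 73142], [126, 2, 72580, 84314, 83895], [128, 3, 84316, 72580, 84314, 84313, 78141], [305, 2, 76533, 73270, 84314], [304, 1, 83894, 84320, 67869], [311, 0, 83897, 84320, 67870], [300, 3, 67866, 84322, 83893], [302, 2, 57724, 74555, 84322], [86, 0, 83892, 84328, 57265], [318, 1, 74553, 57723, 84330], [319, 2, 83890, 84332, 67865], [322, 0, 83099, 83163, 84334], [328, 1, 67862, 84334, 83889], [318, 0, 84338, 74549, 73150],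 [320, 3, 83886, 84338, 67861], [321, 3, 84338, 74565, 80791], [306, 3, 74565, 80807, 84344], [303, 0, 83886, 84346, 67861], [311, 0, 83889, 84346, 67862], [299, 2, 67858, 84348, 83885], [302, 2, 57824, 74547, 84348], [85, 1, 83884, 84354, 56089], [113, 1, 80798, 80829, 84356], [217, 3, 80830, 56086, 84356, 83883], [318, 1, 74545, 57821, 84356], [320, 3, 83882, 84362, 67857], [321, 3, 73156, 74538, 84364], [322, 0, 78633, 78701, 84364], [328, 1, 67854, 84364, 83881], [318, 0, 84370, 74532, 80836], [319, 2, 83878, 84370, 67853], [321, 3, 84370, 78688, 78641], [322, 0, 84370, 74536, 74446], [305, 2, 74536, 74461, 84378], [304, 1, 83878, 84380, 67853], [311, 0, 83881, 84380, 67854], [300, 3, 67850, 84382, 83877], [302, 2, 57756, 74522, 84382], [86, 0, 83876, 84388, 57249], [202, 1, 80538, 80846, 57249, 84390], [318, 1, 74520, 57755, 84390], [320, 0, 84394, 83511, 83509], [0, 0]]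
def dJ214 : List (List ℕ) := [[0, 0], [0, 0], [0, 0], [0, 0], [0, 0], [0, 0], [0, 0], [0, 0], [0, 0], [0, 0], [0, 0], [0, 0], [0, 0], [0, 0], [0, 0], [0, 0], [0, 0], [0, 0], [0, 0], [329, 29, 11926, 45423, 44742, 12011, 41512, 12010, 46152, 65218, 65227, 24035, 52656, 85592, 85594, 85596, 85598, 85600, 85602, 85604, 85606, 85608, 85610, 85612, 85614, 85616, 85618, 85620, 85622, 85624, 85626, 85628, 85630, 85632, 85634, 85636], [263, 2, 85638, 42133, 85639], [279, 2, 85638, 11933, 85639], [295, 2, 85638, 11935, 85639], [297, 1, 85638, 45628, 45490, 67139], [298, 3, 85638, 12204, 12171, 55319], [343, 2, 85638, 41571, 85639], [359, 2, 85638, 40863, 85639], [375, 2, 85638, 11937, 85639], [367, 0, 85636, 85654, 85637], [363, 2, 85634, 85656, 85635], [367, 0, 85632, 85658, 85633], [376, 3, 85630, 85660, 85631], [368, 1, 85628, 85662, 85629], [364, 3, 85626, 85664, 85627], [368, 1, 85624, 85666, 85625], [351, 0, 85636, 85652, 85637], [347, 2, 85634, 85670, 85635], [351, 0, 85632, 85672, 85633], [360, 3, 85630, 85674, 85631], [352, 1, 85628, 85676, 85629], [348, 3, 85626,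 85678, 85627], [352, 1, 85624, 85680, 85625], [335, 0, 85636, 85650, 85637], [331, 2, 85634, 85684, 85635], [335, 0, 85632, 85686, 85633], [344, 3, 85630, 85688, 85631], [336, 1, 85628, 85690, 85629], [332, 3, 85626, 85692, 85627], [336, 1, 85624, 85694, 85625], [126, 0, 55316, 85648, 85637], [128, 0, 85698, 55316, 85648, 85647, 67137], [114, 1, 65896, 67290, 85700], [257, 2, 85701, 67293, 85700], [273, 2, 85701, 67295, 85700], [289, 2, 85701, 67297, 85700], [284, 1, 85634, 85708, 85635], [288, 3, 85632, 85710, 85633], [295, 0, 85630, 85712, 85631], [287, 2, 85628, 85714, 85629], [283, 0, 85626, 85716, 85627], [287, 2, 85624, 85718, 85625], [295, 0, 85622, 85720, 85623], [288, 3, 85620, 85722, 85621], [284, 1, 85618, 85724, 85619], [288, 3, 85616, 85726, 85617], [296, 1, 85614, 85728, 85615], [287, 2, 85612, 85730, 85613], [283, 0, 85610, 85732, 85611], [287, 2, 85608, 85734, 85609], [296, 1, 85606, 85736, 85607], [288, 3, 85604, 85738, 85605], [284, 1, 85602, 85740, 85603], [288, 3, 85600, 85742, 85601], [296, 1, 85598, 85744, 85599], [268, 1, 85634, 85706, 85635],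 [272, 3, 85632, 85748, 85633], [279, 0, 85630, 85750, 85631], [271, 2, 85628, 85752, 85629], [267, 0, 85626, 85754, 85627], [271, 2, 85624, 85756, 85625], [279, 0, 85622, 85758, 85623], [272, 3, 85620, 85760, 85621], [268, 1, 85618, 85762, 85619], [272, 3, 85616, 85764, 85617], [280, 1, 85614, 85766, 85615], [271, 2, 85612, 85768, 85613], [267, 0, 85610, 85770, 85611], [271, 2, 85608, 85772, 85609], [280, 1, 85606, 85774, 85607], [272, 3, 85604, 85776, 85605], [268, 1, 85602, 85778, 85603], [272, 3, 85600, 85780, 85601], [252, 1, 85634, 85704, 85635], [256, 3, 85632, 85784, 85633], [263, 0, 85630, 85786, 85631], [255, 2, 85628, 85788, 85629], [251, 0, 85626, 85790, 85627], [255, 2, 85624, 85792, 85625], [263, 0, 85622, 85794, 85623], [45, 2, 85702, 79536], [86, 2, 85634, 85702, 65499], [88, 4, 79384, 85798, 85702, 65499, 85800], [218, 1, 85632, 85802, 79383, 80039], [45, 1, 80034, 85804], [281, 3, 55476, 55310, 85804, 85631], [46, 2, 85808, 80030], [217, 1, 85628, 85808, 81915, 81609], [45, 1, 81924, 85812], [85, 3, 81606, 85812, 85627], [87, 4, 85816, 81606, 85812,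 85814, 71341], [113, 3, 75503, 75511, 85818], [62, 2, 85820, 79968], [125, 1, 85624, 85820, 67125], [127, 2, 55304, 85822, 85820, 67125, 85824], [297, 3, 77415, 67122, 85824, 85623], [62, 2, 85828, 79995], [126, 0, 85620, 85828, 77039], [128, 1, 64010, 85830, 85828, 77039, 85832], [202, 0, 85834, 64009, 82190, 79368], [45, 1, 79704, 85836], [86, 2, 79368, 85836, 85619], [88, 3, 85840, 79368, 85836, 85838, 65483], [218, 1, 85616, 85840, 79367, 82194], [45, 1, 82160, 85844], [282, 3, 64004, 64229, 85844, 85615], [46, 2, 85848, 82164], [217, 1, 85612, 85848, 82175, 53799], [45, 1, 75571, 85852], [85, 3, 53796, 85852, 85611], [87, 4, 85856, 53796, 85852, 85854, 70223], [113, 3, 77645, 75564, 85858], [62, 2, 85860, 77633], [125, 1, 85608, 85860, 77027], [127, 2, 63998, 85862, 85860, 77027, 85864], [298, 3, 67106, 77469, 85864, 85607], [62, 2, 85868, 77601], [126, 0, 85604, 85868, 67105], [128, 1, 55284, 85870, 85868, 67105, 85872], [113, 0, 85874, 77574, 79761], [45, 1, 79758, 85876], [86, 2, 79352, 85876, 85603], [88, 3, 85880, 79352, 85876, 85878, 65467], [218, 1,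 85600, 85880, 79351, 79778], [45, 1, 77571, 85884], [282, 3, 55278, 55506, 85884, 85599], [46, 2, 85888, 77560], [217, 1, 85596, 85888, 77586, 53783], [45, 1, 70815, 85892], [85, 3, 53780, 85892, 85595], [87, 4, 85896, 53780, 85892, 85894, 70207], [113, 3, 67439, 70722, 85898], [62, 2, 85900, 67436], [126, 1, 85900, 67434, 62522], [0, 0], [0, 0], [0, 0], [0, 0], [0, 0], [0, 0], [0, 0], [0, 0], [0, 0], [0, 0], [0, 0], [345, 19, 85624, 85626, 85628, 85629, 85627, 85625, 85623, 85621, 85619, 85617, 85616, 85618, 85620, 85622, 85624, 85626, 85628, 85630, 85632, 85634, 85636, 85638, 11926, 45423, 44742, 12011, 40822, 10742, 32922, 941, 52072, 55766, 70761, 70742, 65454, 85906, 85908, 85910, 85912, 85914, 85916, 85918, 85920, 85922, 85924, 85926], [250, 1, 85928, 85623, 85796], [263, 2, 85928, 85795, 85929], [279, 2, 85928, 85759, 85929], [295, 2, 85928, 85721, 85929], [297, 1, 85928, 85825, 75483, 75611], [343, 2, 85928, 85696, 85929], [359, 2, 85928, 85682, 85929], [375, 2, 85928, 85668, 85929], [367, 0, 85926, 85944, 85927], [363, 2, 85924, 85946, 85925], [367, 0,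 85922, 85948, 85923], [375, 2, 85920, 85950, 85921], [368, 1, 85918, 85952, 85919], [364, 3, 85916, 85954, 85917], [368, 1, 85914, 85956, 85915], [351, 0, 85926, 85942, 85927], [347, 2, 85924, 85960, 85925], [351, 0, 85922, 85962, 85923], [359, 2, 85920, 85964, 85921], [352, 1, 85918, 85966, 85919], [348, 3, 85916, 85968, 85917], [352, 1, 85914, 85970, 85915], [335, 0, 85926, 85940, 85927], [331, 2, 85924, 85974, 85925], [335, 0, 85922, 85976, 85923], [343, 2, 85920, 85978, 85921], [336, 1, 85918, 85980, 85919], [332, 3, 85916, 85982, 85917], [336, 1, 85914, 85984, 85915], [61, 1, 79989, 85938], [125, 3, 75608, 85938, 85927], [127, 4, 85990, 75608, 85938, 85988, 62371], [114, 3, 79872, 79941, 85992], [257, 0, 85993, 62451, 85992], [273, 0, 85993, 62453, 85992]]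
def dJ218 : List (List ℕ) := [[352, 1, 87146, 87198, 87147], [348, 3, 87144, 87200, 87145], [352, 1, 87142, 87202, 87143], [335, 0, 87154, 87172, 87155], [331, 2, 87152, 87206, 87153], [335, 0, 87150, 87208, 87151], [344, 3, 87148, 87210, 87149], [336, 1, 87146, 87212, 87147], [332, 3, 87144, 87214, 87145], [336, 1, 87142, 87216, 87143], [320, 3, 85636, 87170, 87155], [316, 1, 87152, 87220, 85635], [317, 1, 87220, 85799, 79532], [321, 1, 87220, 85701, 75249], [322, 2, 87220, 85698, 64193], [383, 2, 87220, 85705, 87221], [395, 2, 87220, 85707, 87221], [405, 2, 87220, 85709, 87221], [284, 1, 87152, 87234, 87153], [288, 3, 87150, 87236, 87151], [295, 0, 87148, 87238, 87149], [287, 2, 87146, 87240, 87147], [283, 0, 87144, 87242, 87145], [287, 2, 87142, 87244, 87143], [268, 1, 87152, 87232, 87153], [272, 3, 87150, 87248, 87151], [279, 0, 87148, 87250, 87149], [271, 2, 87146, 87252, 87147], [267, 0, 87144, 87254, 87145], [271, 2, 87142, 87256, 87143], [252, 1, 87152, 87230, 87153], [256, 3, 87150, 87260, 87151], [263, 0, 87148, 87262, 87149], [255, 2, 87146, 87264, 87147],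 [251, 0, 87144, 87266, 87145], [255, 2, 87142, 87268, 87143], [263, 0, 87140, 87270, 87141], [305, 0, 85698, 64200, 87228], [299, 2, 87152, 87274, 85635], [301, 3, 79662, 85803, 87276], [302, 0, 71940, 85800, 87276], [303, 0, 85632, 87276, 87151], [301, 3, 87282, 85806, 75387], [302, 0, 87282, 85805, 64204], [312, 3, 87148, 87282, 85631], [301, 3, 64338, 85809, 87288], [302, 0, 75489, 85810, 87288], [304, 1, 85628, 87288, 87147], [301, 3, 87294, 85814, 71762], [302, 0, 87294, 85813, 81920], [85, 3, 79376, 87298, 87145], [87, 4, 87300, 79376, 87298, 87297, 70239], [317, 2, 85813, 81931, 87298], [315, 0, 87144, 87304, 85627], [319, 0, 87147, 87304, 85628], [327, 2, 85631, 87308, 87148], [319, 2, 85624, 87306, 87143], [321, 1, 64347, 85822, 87306], [322, 2, 75401, 85821, 87306], [125, 1, 87142, 87316, 75087], [127, 2, 64014, 87315, 87316, 75087, 87318], [297, 4, 87140, 87320, 64013, 85830], [306, 3, 87320, 64353, 85827], [303, 0, 85620, 87322, 87139], [306, 0, 64468, 85830, 87322], [125, 3, 87138, 87328, 61969], [321, 0, 87328, 64473, 85830], [320, 3, 85620, 87332,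 87139], [316, 1, 87136, 87334, 85619], [317, 1, 87334, 85837, 79708], [318, 2, 87334, 85838, 71917], [85, 1, 71332, 87340, 87137], [87, 1, 87342, 71332, 87340, 87339, 53805], [217, 3, 82173, 53802, 87344, 87135], [302, 1, 85840, 79703, 87344], [304, 3, 87134, 87348, 85617], [302, 0, 77437, 85847, 87350], [312, 1, 85614, 87350, 87133], [301, 3, 87354, 85851, 77447], [303, 2, 87130, 87354, 85613], [299, 0, 85610, 87358, 87129], [302, 0, 70700, 85855, 87358], [85, 3, 87128, 87362, 65475], [317, 0, 87362, 70792, 85855], [316, 3, 85610, 87366, 87129], [320, 3, 85613, 87366, 87130], [327, 0, 87133, 87370, 85614], [320, 1, 87126, 87368, 85609], [321, 1, 87368, 85860, 77462], [322, 2, 87368, 85863, 64450], [125, 1, 61956, 87378, 87127], [127, 1, 87380, 61956, 87378, 87377, 67109], [306, 1, 85865, 77468, 87382], [298, 3, 87124, 87384, 85866, 63997], [311, 2, 87124, 87384, 85607], [303, 0, 85604, 87388, 87123], [299, 2, 87120, 87390, 85603], [302, 0, 87390, 85877, 79762], [305, 3, 87390, 85874, 64386], [306, 0, 87390, 85873, 75463], [321, 2, 85873, 75423, 87398], [316, 1,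 87120, 87400, 85603], [320, 1, 87123, 87400, 85604], [317, 1, 71885, 85882, 87402], [320, 3, 85600, 87402, 87119], [318, 2, 87408, 85886, 75427], [328, 1, 87116, 87408, 85599], [317, 1, 75429, 85890, 87412], [318, 2, 64397, 85889, 87412], [319, 2, 85596, 87412, 87115], [317, 1, 87418, 85893, 82087], [318, 2, 87418, 85894, 70731], [86, 0, 65458, 87422, 87113], [88, 0, 87424, 65458, 87422, 87421, 81575], [301, 0, 85894, 70717, 87422], [300, 3, 87112, 87428, 85595], [304, 3, 87115, 87428, 85596], [311, 0, 85599, 87432, 87116], [303, 3, 59357, 85904, 87430], [305, 3, 75573, 85901, 87430], [306, 0, 64404, 85902, 87430], [0, 0], [0, 0], [0, 0], [0, 0], [0, 0], [0, 0], [0, 0], [0, 0], [0, 0], [0, 0], [0, 0], [345, 19, 87142, 87144, 87146, 87147, 87145, 87143, 87141, 87139, 87137, 87135, 87134, 87136, 87138, 87140, 87142, 87144, 87146, 87148, 87150, 87152, 87154, 87156, 45590, 46842, 46866, 12086, 40824, 10766, 32967, 1629, 52156, 64730, 65912, 70738, 71850, 87442, 87444, 87446, 87448, 87450, 87452, 87454, 87456, 87458, 87460, 87462], [250, 1, 87464, 87141, 87272], [263,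 2, 87464, 87271, 87465], [279, 2, 87464, 87259, 87465], [295, 2, 87464, 87247, 87465], [297, 1, 87464, 87319, 77394, 77727], [298, 3, 87464, 87325, 85826, 55643], [311, 2, 87464, 87325, 85929], [328, 1, 87464, 87312, 85929], [343, 2, 87464, 87218, 87465], [359, 2, 87464, 87204, 87465], [375, 2, 87464, 87190, 87465], [367, 0, 87462, 87486, 87463], [363, 2, 87460, 87488, 87461], [367, 0, 87458, 87490, 87459], [375, 2, 87456, 87492, 87457], [368, 1, 87454, 87494, 87455], [364, 3, 87452, 87496, 87453], [368, 1, 87450, 87498, 87451], [351, 0, 87462, 87484, 87463], [347, 2, 87460, 87502, 87461], [351, 0, 87458, 87504, 87459], [359, 2, 87456, 87506, 87457], [352, 1, 87454, 87508, 87455], [348, 3, 87452, 87510, 87453], [352, 1, 87450, 87512, 87451], [335, 0, 87462, 87482, 87463], [331, 2, 87460, 87516, 87461], [335, 0, 87458, 87518, 87459], [343, 2, 87456, 87520, 87457], [336, 1, 87454, 87522, 87455], [332, 3, 87452, 87524, 87453], [336, 1, 87450, 87526, 87451], [320, 3, 85926, 87480, 87463], [321, 1, 87530, 85990, 77763], [322, 2, 87530, 85993, 62446], [383, 2, 87530,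 85996, 87531], [395, 2, 87530, 85998, 87531], [405, 2, 87530, 86000, 87531], [284, 1, 87460, 87540, 87461], [288, 3, 87458, 87542, 87459], [296, 1, 87456, 87544, 87457], [287, 2, 87454, 87546, 87455], [283, 0, 87452, 87548, 87453], [287, 2, 87450, 87550, 87451], [268, 1, 87460, 87538, 87461], [272, 3, 87458, 87554, 87459], [280, 1, 87456, 87556, 87457], [271, 2, 87454, 87558, 87455], [267, 0, 87452, 87560, 87453], [271, 2, 87450, 87562, 87451], [252, 1, 87460, 87536, 87461], [256, 3, 87458, 87566, 87459], [264, 1, 87456, 87568, 87457], [255, 2, 87454, 87570, 87455], [251, 0, 87452, 87572, 87453], [255, 2, 87450, 87574, 87451], [305, 0, 85993, 62546, 87534], [299, 2, 87460, 87578, 85925], [302, 0, 71062, 86043, 87580], [303, 0, 85922, 87580, 87459], [311, 2, 87456, 87584, 85921], [304, 1, 85918, 87586, 87455], [301, 3, 87588, 86053, 72218], [302, 0, 87588, 86050, 82398], [85, 3, 80078, 87592, 87453], [317, 2, 86050, 82405, 87592], [315, 0, 87452, 87596, 85917]]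
def dJ222 : List (List ℕ) := [[403, 0, 88790, 87237, 88791], [288, 3, 88708, 88800, 88709], [295, 0, 88706, 88802, 88707], [287, 2, 88704, 88804, 88705], [283, 0, 88702, 88806, 88703], [287, 2, 88700, 88808, 88701], [295, 0, 88698, 88810, 88699], [288, 3, 88696, 88812, 88697], [284, 1, 88694, 88814, 88695], [288, 3, 88692, 88816, 88693], [296, 1, 88690, 88818, 88691], [287, 2, 88688, 88820, 88689], [283, 0, 88686, 88822, 88687], [287, 2, 88684, 88824, 88685], [296, 1, 88682, 88826, 88683], [288, 3, 88680, 88828, 88681], [284, 1, 88678, 88830, 88679], [288, 3, 88676, 88832, 88677], [296, 1, 88674, 88834, 88675], [272, 3, 88708, 88798, 88709], [279, 0, 88706, 88838, 88707], [271, 2, 88704, 88840, 88705], [267, 0, 88702, 88842, 88703], [271, 2, 88700, 88844, 88701], [279, 0, 88698, 88846, 88699], [272, 3, 88696, 88848, 88697], [256, 3, 88708, 88796, 88709], [263, 0, 88706, 88852, 88707], [255, 2, 88704, 88854, 88705], [251, 0, 88702, 88856, 88703], [255, 2, 88700, 88858, 88701], [263, 0, 88698, 88860, 88699], [301, 3, 64485, 87286, 88794], [302, 0, 77227, 87284, 88794],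 [311, 0, 87148, 88794, 88707], [413, 3, 87282, 87311, 88794], [327, 0, 88706, 88870, 87149], [317, 1, 77373, 87293, 88872], [318, 2, 64487, 87291, 88872], [319, 2, 87146, 88872, 88705], [317, 1, 88878, 87299, 79676], [318, 2, 88878, 87297, 70809], [413, 2, 88878, 87294, 87305], [299, 0, 87144, 88884, 88703], [301, 3, 88886, 87303, 70686], [302, 0, 88886, 87300, 79687], [303, 2, 88700, 88886, 87143], [305, 3, 88886, 87314, 64479], [306, 0, 88886, 87316, 77393], [126, 2, 77042, 88896, 88701], [322, 1, 85820, 77399, 88896], [315, 2, 88703, 88900, 85626], [319, 2, 88700, 88900, 85625], [327, 0, 85622, 88904, 88699], [414, 3, 87313, 87325, 88904], [414, 2, 88892, 88905, 88909], [327, 0, 88698, 88910, 87141], [320, 3, 87138, 88912, 88697], [321, 1, 62272, 87329, 88912], [414, 1, 87333, 87322, 88912], [414, 1, 88913, 88919, 88906], [304, 3, 85620, 88920, 88697], [300, 1, 88694, 88922, 85619], [301, 1, 88922, 85837, 81971], [306, 2, 88922, 85834, 64361], [414, 2, 88922, 87335, 87326], [414, 3, 88931, 88923, 88914], [300, 1, 87136, 88932, 88695], [301, 3, 88934, 87342,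 71779], [302, 0, 88934, 87345, 81981], [304, 3, 88692, 88934, 87135], [414, 0, 88934, 87337, 87349], [414, 0, 88924, 88943, 88935], [320, 3, 88692, 88944, 85617], [318, 0, 77439, 85847, 88946], [328, 1, 85614, 88946, 88691], [414, 3, 87372, 87351, 88946], [414, 2, 88940, 88947, 88953], [328, 1, 88690, 88954, 87133], [317, 1, 75413, 87356, 88956], [319, 2, 87130, 88956, 88689], [414, 1, 87370, 87355, 88956], [414, 1, 88957, 88963, 88950], [303, 2, 85612, 88964, 88689], [299, 0, 88686, 88966, 85611], [414, 2, 88966, 87366, 87359], [414, 3, 88971, 88967, 88960], [299, 0, 87128, 88972, 88687], [301, 3, 88974, 87365, 71897], [303, 2, 88684, 88974, 87127], [414, 0, 88974, 87368, 87361], [414, 0, 88968, 88981, 88975], [319, 2, 88684, 88982, 85609], [321, 3, 77471, 85864, 88984], [328, 1, 85606, 88984, 88683], [414, 3, 87374, 87384, 88984], [414, 2, 88978, 88985, 88991], [328, 1, 88682, 88992, 87125], [320, 3, 87122, 88994, 88681], [414, 1, 87405, 87388, 88994], [414, 1, 88995, 88999, 88988], [304, 3, 85604, 89000, 88681], [300, 1, 88678, 89002, 85603], [414, 2, 89002,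 87401, 87390], [414, 3, 89007, 89003, 88996], [300, 1, 87120, 89008, 88679], [304, 3, 88676, 89010, 87119], [414, 0, 89010, 87403, 87392], [414, 0, 89004, 89015, 89011], [320, 3, 88676, 89016, 85601], [328, 1, 85598, 89018, 88675], [414, 3, 87409, 87434, 89018], [414, 2, 89012, 89019, 89023], [328, 1, 88674, 89024, 87117], [317, 1, 77505, 87415, 89026], [318, 2, 64433, 87417, 89026], [319, 2, 87114, 89026, 88673], [414, 1, 87413, 87432, 89026], [414, 1, 89027, 89035, 89020], [303, 2, 85596, 89036, 88673], [414, 2, 89038, 87419, 87428], [414, 3, 89041, 89039, 89032], [299, 0, 87112, 89042, 88671], [302, 0, 89044, 87427, 82099], [304, 0, 89044, 87436, 60511], [305, 3, 89044, 87440, 64425], [306, 0, 89044, 87438, 77527], [413, 2, 88902, 88885, 88879], [303, 0, 88705, 89054, 85628], [311, 2, 85631, 89056, 88706], [304, 1, 88709, 89058, 85632], [413, 3, 88795, 88871, 89058], [320, 1, 85633, 89062, 88708], [316, 3, 88711, 89064, 85634], [413, 2, 89066, 88789, 88783], [0, 0], [0, 0], [0, 0], [0, 0], [0, 0], [0, 0], [0, 0], [0, 0], [0, 0], [0, 0], [0, 0], [345, 19, 88700,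 88702, 88704, 88705, 88703, 88701, 88699, 88697, 88695, 88693, 88692, 88694, 88696, 88698, 88700, 88702, 88704, 88706, 88708, 88710, 88712, 88714, 12924, 45188, 12301, 11808, 40819, 10765, 32887, 8784, 52113, 62550, 65922, 65453, 70740, 89070, 89072, 89074, 89076, 89078, 89080, 89082, 89084, 89086, 89088, 89090], [250, 1, 89092, 88699, 88862], [263, 2, 89092, 88861, 89093], [279, 2, 89092, 88847, 89093], [295, 2, 89092, 88811, 89093], [297, 1, 89092, 88898, 77404, 67467], [298, 3, 89092, 88893, 87320, 64523], [311, 2, 89092, 88893, 87465], [312, 1, 89092, 88908, 85929], [327, 2, 89092, 88905, 85929], [328, 1, 89092, 88910, 87465], [343, 2, 89092, 88780, 89093], [359, 2, 89092, 88766, 89093], [375, 2, 89092, 88752, 89093], [367, 0, 89090, 89118, 89091], [363, 2, 89088, 89120, 89089], [367, 0, 89086, 89122, 89087], [375, 2, 89084, 89124, 89085], [368, 1, 89082, 89126, 89083], [364, 3, 89080, 89128, 89081], [368, 1, 89078, 89130, 89079], [351, 0, 89090, 89116, 89091], [347, 2, 89088, 89134, 89089], [351, 0, 89086, 89136, 89087], [359, 2, 89084, 89138, 89085], [352,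 1, 89082, 89140, 89083], [348, 3, 89080, 89142, 89081], [352, 1, 89078, 89144, 89079], [335, 0, 89090, 89114, 89091], [331, 2, 89088, 89148, 89089], [335, 0, 89086, 89150, 89087], [343, 2, 89084, 89152, 89085], [336, 1, 89082, 89154, 89083], [332, 3, 89080, 89156, 89081], [336, 1, 89078, 89158, 89079], [320, 3, 87462, 89112, 89091], [321, 1, 89162, 87533, 77787], [413, 2, 89162, 87578, 87531], [300, 1, 87460, 89166, 89089], [301, 3, 89168, 87582, 72081], [304, 3, 89086, 89168, 87459], [381, 0, 89168, 87567, 89169], [393, 0, 89168, 87555, 89169], [403, 0, 89168, 87543, 89169], [288, 3, 89086, 89178, 89087], [296, 1, 89084, 89180, 89085], [287, 2, 89082, 89182, 89083], [283, 0, 89080, 89184, 89081], [287, 2, 89078, 89186, 89079], [272, 3, 89086, 89176, 89087], [280, 1, 89084, 89190, 89085], [271, 2, 89082, 89192, 89083], [267, 0, 89080, 89194, 89081], [271, 2, 89078, 89196, 89079]]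
def dJ226 : List (List ℕ) := [[0, 0], [0, 0], [0, 0], [0, 0], [0, 0], [0, 0], [0, 0], [0, 0], [0, 0], [0, 0], [329, 29, 11914, 45242, 44560, 11993, 41500, 11992, 12409, 49822, 49813, 23783, 57884, 90374, 90376, 90378, 90380, 90382, 90384, 90386, 90388, 90390, 90392, 90394, 90396, 90398, 90400, 90402, 90404, 90406, 90408, 90410, 90412, 90414, 90416, 90418], [263, 2, 90420, 36017, 90421], [279, 2, 90420, 11919, 90421], [295, 2, 90420, 11921, 90421], [297, 1, 90420, 12138, 12162, 80583], [298, 3, 90420, 12888, 45544, 83921], [311, 2, 90420, 12888, 89577], [312, 1, 90420, 12906, 84933], [327, 2, 90420, 12912, 84933], [328, 1, 90420, 12890, 89577], [343, 2, 90420, 38085, 90421], [359, 2, 90420, 38087, 90421], [375, 2, 90420, 11923, 90421], [367, 0, 90418, 90444, 90419], [363, 2, 90416, 90446, 90417], [367, 0, 90414, 90448, 90415], [376, 3, 90412, 90450, 90413], [368, 1, 90410, 90452, 90411], [364, 3, 90408, 90454, 90409], [368, 1, 90406, 90456, 90407], [376, 3, 90404, 90458, 90405], [367, 0, 90402, 90460, 90403], [363, 2, 90400, 90462, 90401], [367, 0, 90398, 90464,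 90399], [375, 2, 90396, 90466, 90397], [368, 1, 90394, 90468, 90395], [364, 3, 90392, 90470, 90393], [368, 1, 90390, 90472, 90391], [375, 2, 90388, 90474, 90389], [367, 0, 90386, 90476, 90387], [363, 2, 90384, 90478, 90385], [367, 0, 90382, 90480, 90383], [375, 2, 90380, 90482, 90381], [368, 1, 90378, 90484, 90379], [351, 0, 90418, 90442, 90419], [347, 2, 90416, 90488, 90417], [351, 0, 90414, 90490, 90415], [360, 3, 90412, 90492, 90413], [352, 1, 90410, 90494, 90411], [348, 3, 90408, 90496, 90409], [352, 1, 90406, 90498, 90407], [360, 3, 90404, 90500, 90405], [351, 0, 90402, 90502, 90403], [347, 2, 90400, 90504, 90401], [351, 0, 90398, 90506, 90399], [359, 2, 90396, 90508, 90397], [352, 1, 90394, 90510, 90395], [348, 3, 90392, 90512, 90393], [352, 1, 90390, 90514, 90391], [359, 2, 90388, 90516, 90389], [351, 0, 90386, 90518, 90387], [347, 2, 90384, 90520, 90385], [351, 0, 90382, 90522, 90383], [359, 2, 90380, 90524, 90381], [352, 1, 90378, 90526, 90379], [335, 0, 90418, 90440, 90419], [331, 2, 90416, 90530, 90417], [335, 0, 90414, 90532, 90415], [344, 3, 90412,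 90534, 90413], [336, 1, 90410, 90536, 90411], [332, 3, 90408, 90538, 90409], [336, 1, 90406, 90540, 90407], [344, 3, 90404, 90542, 90405], [335, 0, 90402, 90544, 90403], [331, 2, 90400, 90546, 90401], [335, 0, 90398, 90548, 90399], [343, 2, 90396, 90550, 90397], [336, 1, 90394, 90552, 90395], [332, 3, 90392, 90554, 90393], [336, 1, 90390, 90556, 90391], [343, 2, 90388, 90558, 90389], [335, 0, 90386, 90560, 90387], [331, 2, 90384, 90562, 90385], [335, 0, 90382, 90564, 90383], [343, 2, 90380, 90566, 90381], [336, 1, 90378, 90568, 90379], [320, 3, 89574, 90438, 90419], [321, 1, 90572, 89727, 82979], [322, 2, 90572, 89729, 86471], [413, 2, 90572, 89856, 89725], [300, 1, 89572, 90578, 90417], [304, 3, 90414, 90580, 89571], [381, 0, 90580, 89817, 90581], [393, 0, 90580, 89777, 90581], [403, 0, 90580, 89737, 90581], [288, 3, 90414, 90588, 90415], [295, 0, 90412, 90590, 90413], [287, 2, 90410, 90592, 90411], [283, 0, 90408, 90594, 90409], [287, 2, 90406, 90596, 90407], [295, 0, 90404, 90598, 90405], [288, 3, 90402, 90600, 90403], [284, 1, 90400, 90602, 90401], [288, 3,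 90398, 90604, 90399], [296, 1, 90396, 90606, 90397], [287, 2, 90394, 90608, 90395], [283, 0, 90392, 90610, 90393], [287, 2, 90390, 90612, 90391], [296, 1, 90388, 90614, 90389], [288, 3, 90386, 90616, 90387], [284, 1, 90384, 90618, 90385], [288, 3, 90382, 90620, 90383], [296, 1, 90380, 90622, 90381], [287, 2, 90378, 90624, 90379], [272, 3, 90414, 90586, 90415], [279, 0, 90412, 90628, 90413], [271, 2, 90410, 90630, 90411], [267, 0, 90408, 90632, 90409], [271, 2, 90406, 90634, 90407], [279, 0, 90404, 90636, 90405], [272, 3, 90402, 90638, 90403], [268, 1, 90400, 90640, 90401], [272, 3, 90398, 90642, 90399], [280, 1, 90396, 90644, 90397], [271, 2, 90394, 90646, 90395], [267, 0, 90392, 90648, 90393], [271, 2, 90390, 90650, 90391], [280, 1, 90388, 90652, 90389], [272, 3, 90386, 90654, 90387], [268, 1, 90384, 90656, 90385], [272, 3, 90382, 90658, 90383], [280, 1, 90380, 90660, 90381], [271, 2, 90378, 90662, 90379], [256, 3, 90414, 90584, 90415], [263, 0, 90412, 90666, 90413], [255, 2, 90410, 90668, 90411], [251, 0, 90408, 90670, 90409], [255, 2, 90406, 90672, 90407], [263,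 0, 90404, 90674, 90405], [256, 3, 90402, 90676, 90403], [252, 1, 90400, 90678, 90401], [256, 3, 90398, 90680, 90399], [264, 1, 90396, 90682, 90397], [255, 2, 90394, 90684, 90395], [251, 0, 90392, 90686, 90393], [255, 2, 90390, 90688, 90391], [264, 1, 90388, 90690, 90389], [256, 3, 90386, 90692, 90387], [252, 1, 90384, 90694, 90385], [256, 3, 90382, 90696, 90383], [264, 1, 90380, 90698, 90381], [255, 2, 90378, 90700, 90379], [301, 3, 86479, 89862, 90582], [413, 3, 89860, 89883, 90582], [327, 0, 90412, 90706, 89569], [319, 2, 89566, 90708, 90411], [317, 1, 90710, 89871, 74337], [318, 2, 90710, 89869, 63481], [413, 2, 90710, 89866, 89877], [299, 0, 89564, 90716, 90409], [302, 0, 90718, 89872, 74332], [303, 2, 90406, 90718, 89563], [305, 3, 90718, 89886, 86495], [306, 0, 90718, 89888, 83001], [126, 2, 80568, 90726, 90407], [322, 1, 85230, 80761, 90726], [315, 2, 90409, 90730, 84920], [319, 2, 90406, 90730, 84919], [327, 0, 84916, 90734, 90405], [414, 3, 89885, 89897, 90734], [414, 2, 90722, 90735, 90739], [327, 0, 90404, 90740, 89561], [320, 3, 89558, 90742, 90403],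 [322, 2, 83033, 89901, 90742], [414, 1, 89907, 89894, 90742], [414, 1, 90743, 90749, 90736], [304, 3, 84914, 90750, 90403], [300, 1, 90400, 90752, 84913], [301, 1, 90752, 85245, 73277], [305, 1, 90752, 85241, 83041], [414, 2, 90752, 89909, 89898], [414, 3, 90761, 90753, 90744], [300, 1, 89556, 90762, 90401], [301, 3, 90764, 89916, 61345], [302, 0, 90764, 89919, 74364], [304, 3, 90398, 90764, 89555], [414, 0, 90764, 89911, 89923], [414, 0, 90754, 90773, 90765], [320, 3, 90398, 90774, 84911], [328, 1, 84908, 90776, 90397], [414, 3, 89948, 89925, 90776], [414, 2, 90770, 90777, 90781], [328, 1, 90396, 90782, 89553], [319, 2, 89550, 90784, 90395], [414, 1, 89946, 89927, 90784], [414, 1, 90785, 90789, 90778], [303, 2, 84906, 90790, 90395], [299, 0, 90392, 90792, 84905], [302, 2, 90792, 85295, 61339], [414, 2, 90792, 89942, 89931]]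
def dJ230 : List (List ℕ) := [[5, 0, 86630, 91905], [9, 0, 74419, 91905], [16, 0, 73877, 91905], [311, 1, 84385, 91454, 57142], [249, 2, 51969, 92006, 83881], [281, 2, 90860, 84124, 92008, 51761], [282, 4, 80695, 84372, 92008, 51762], [297, 2, 86675, 86681, 92008, 70155], [298, 4, 74461, 84378, 92008, 63863], [312, 2, 86681, 92008, 58482], [281, 0, 58157, 92018, 86670, 82949], [282, 2, 58154, 92018, 86438, 89985], [297, 0, 61900, 92018, 86676, 73253], [298, 2, 79274, 92018, 86678, 78688], [265, 3, 78431, 92026, 91425, 91422], [282, 4, 53285, 78687, 92026, 79272], [312, 2, 78645, 92026, 79265], [314, 1, 92026, 87734, 86104, 87170], [309, 3, 88727, 92034, 78647], [310, 2, 87168, 92034, 78644], [281, 0, 55033, 92032, 78693, 61178], [298, 2, 61904, 92032, 76591, 78696], [282, 4, 56406, 73238, 92042, 61887], [298, 2, 58420, 92044, 56577, 74529], [311, 1, 57145, 92044, 56577], [312, 0, 61893, 92044, 57813], [313, 3, 57817, 92045, 77004, 92044], [309, 1, 56576, 92052, 57812], [310, 0, 57812, 92052, 57747], [298, 4, 63424, 73233, 92048, 63858], [282, 4, 85124, 85264, 92046,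 58418], [314, 1, 54319, 57169, 92060, 89980], [309, 3, 90864, 92062, 81630], [310, 2, 89998, 92062, 79402], [85, 0, 68391, 92028, 78686], [201, 0, 68395, 92028, 78689, 74532], [299, 1, 69846, 92028, 78644], [300, 0, 78659, 92028, 78647], [86, 3, 78694, 92074, 78679], [202, 4, 86671, 86674, 92074, 78670], [85, 0, 74799, 92078, 89983], [300, 0, 74803, 92078, 83143], [86, 3, 90858, 92082, 73505], [202, 2, 81049, 92084, 90858, 80842], [204, 4, 81051, 81049, 92084, 90858, 84372, 84377, 78764], [300, 0, 58103, 92084, 90867], [203, 3, 78690, 78689, 74532, 85265, 92090, 58148, 63604], [85, 0, 63615, 92092, 74454], [300, 0, 63619, 92092, 74458], [86, 3, 73238, 92096, 54846], [93, 0, 56657, 92098, 92052], [209, 1, 63614, 57763, 92098, 73238], [309, 3, 73252, 92102, 63618], [310, 2, 74458, 92102, 63597], [313, 3, 65073, 65064, 50549, 92004], [309, 1, 74411, 92108, 65067], [310, 0, 74398, 92108, 62816], [210, 3, 65905, 26156, 50549, 92000], [218, 2, 91541, 46291, 50579, 92000], [309, 1, 86637, 92114, 70775], [307, 3, 84347, 91990, 70774], [308, 2, 86639, 91990, 71867], [313,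 3, 56545, 51145, 91982, 57260], [309, 1, 57828, 92124, 56586], [310, 0, 57729, 92124, 57828], [266, 1, 51145, 91972, 66962, 66967], [85, 2, 68445, 92130, 83091], [86, 3, 69991, 92130, 78751], [93, 2, 74847, 92130, 92126], [94, 3, 73617, 92130, 92129], [210, 3, 68445, 92130, 92126, 80787], [309, 1, 83096, 92140, 84682], [310, 0, 80808, 92140, 86890], [85, 0, 78755, 92138, 79044], [86, 1, 74568, 92138, 84680], [300, 2, 86893, 92148, 80808], [86, 1, 80789, 92150, 86887], [202, 2, 85286, 92150, 86887, 76785], [300, 2, 63698, 92154, 90821], [210, 1, 79045, 74848, 76780, 92152], [309, 3, 63441, 92158, 79051], [310, 2, 61334, 92158, 79049], [265, 3, 91078, 91077, 12960, 91918], [299, 1, 76581, 92164, 91083], [0, 0], [0, 0], [0, 0], [0, 0], [0, 0], [0, 0], [0, 0], [0, 0], [0, 0], [0, 0], [0, 0], [0, 0], [0, 0], [0, 0], [0, 0], [0, 0], [0, 0], [361, 18, 67848, 67850, 67852, 67854, 67856, 67858, 67860, 91451, 91449, 91447, 91459, 76773, 91462, 91439, 91437, 91435, 91433, 91431, 91429, 91427, 67888, 67890, 67892, 67894, 12141, 46655, 38751, 10904, 38750, 92168, 92170, 92172,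 92174, 92176, 92178, 92180, 92182, 92184, 92186, 92188, 92190, 92192, 92194, 92196, 92198, 92200], [250, 1, 92202, 67847, 42546], [263, 2, 92202, 68190, 92203], [265, 1, 92202, 92076, 63281, 92059], [279, 2, 92202, 68146, 92203], [295, 2, 92202, 68102, 92203], [329, 9, 92196, 92198, 92200, 92202, 67848, 67850, 67852, 67854, 67856, 67858, 67860, 91451, 91449, 91447, 91459, 76773, 91462, 91439, 91437, 91435, 91433, 91431, 91429, 91427, 68009, 91426, 91520, 67885, 67883, 67881, 68253, 68251, 68249, 68247], [330, 25, 92194, 92196, 92198, 92200, 92202, 67848, 67850, 67852, 67854, 91454, 57020, 91455, 67856, 67858, 67860, 91451, 91449, 91447, 91459, 76124, 49199, 49216, 48367, 14432, 47566, 47883, 47859, 68228, 68230, 68232, 68234, 68236, 68238, 68240, 68242], [8, 0, 92192, 92217, 68243], [15, 0, 92195, 92217], [3, 0, 92190, 92219, 68241], [8, 0, 92188, 92223, 68239], [15, 0, 92186, 92225, 68237], [7, 0, 92184, 92227, 68235], [4, 0, 92182, 92229, 68233], [7, 0, 92180, 92231, 68231], [10, 0, 92178, 92233, 68392], [6, 0, 92176, 92235, 61317], [6, 0, 92174, 92237, 63615],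 [15, 0, 92172, 92239], [343, 2, 92202, 68048, 92203], [359, 2, 92202, 68002, 92203], [375, 2, 92202, 67956, 92203], [297, 1, 92241, 63605, 68223, 92203], [201, 2, 70152, 70156, 92208, 92248], [257, 2, 92249, 92207, 92248], [273, 2, 92249, 92211, 92248], [289, 2, 92249, 92213, 92248], [337, 2, 92249, 92243, 92248], [353, 2, 92249, 92245, 92248], [369, 2, 92249, 92247, 92248], [249, 0, 63510, 92240, 92252], [314, 1, 92264, 46758, 53714, 63850], [295, 2, 92221, 68335, 92220], [266, 3, 80582, 12107, 46655, 92168], [0, 0], [231, 4, 45061, 45405, 12309, 12279, 42632, 91757, 91758, 92272], [62, 2, 92274, 45061], [201, 2, 92274, 24663, 24659, 92275], [226, 3, 92274, 50771, 50767, 91757], [257, 2, 92274, 42487, 92275], [273, 2, 92274, 24665, 92275], [289, 2, 92274, 24667, 92275], [337, 2, 92274, 41292, 92275], [353, 2, 92274, 40606, 92275], [369, 2, 92274, 24669, 92275], [0, 0], [0, 0], [0, 0], [0, 0], [0, 0], [0, 0], [0, 0], [0, 0], [329, 17, 89551, 89549, 89547, 91913, 65153, 50006, 50038, 91620, 89535, 89533, 89531, 56665, 24764, 50858, 50843, 48795, 38294, 48794, 48793,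 10811, 32881, 6551, 51041, 83514, 83858, 66325, 92294, 92296, 92298, 92300, 92302, 92304, 92306, 92308], [250, 1, 92310, 89552, 89835], [295, 2, 92310, 89756, 92311], [343, 2, 92310, 89705, 92311], [359, 2, 92310, 89663, 92311], [375, 2, 92310, 89621, 92311], [368, 1, 92308, 92320, 92309], [364, 3, 92306, 92322, 92307], [368, 1, 92304, 92324, 92305], [375, 2, 92302, 92326, 92303], [367, 0, 92300, 92328, 92301], [363, 2, 92298, 92330, 92299], [367, 0, 92296, 92332, 92297], [352, 1, 92308, 92318, 92309], [348, 3, 92306, 92336, 92307], [352, 1, 92304, 92338, 92305], [359, 2, 92302, 92340, 92303], [351, 0, 92300, 92342, 92301], [347, 2, 92298, 92344, 92299], [351, 0, 92296, 92346, 92297], [336, 1, 92308, 92316, 92309], [332, 3, 92306, 92350, 92307], [336, 1, 92304, 92352, 92305], [343, 2, 92302, 92354, 92303], [335, 0, 92300, 92356, 92301], [331, 2, 92298, 92358, 92299], [335, 0, 92296, 92360, 92297], [288, 1, 92308, 92314, 92309], [284, 3, 92306, 92364, 92307], [288, 1, 92304, 92366, 92305], [295, 2, 92302, 92368, 92303], [287, 0, 92300, 92370, 92301], [283, 2, 92298,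 92372, 92299], [287, 0, 92296, 92374, 92297], [282, 1, 92205, 66779, 92294, 92376], [85, 0, 92378, 92209, 81427], [253, 0, 92378, 92206, 92379], [269, 0, 92378, 92210, 92379], [281, 0, 92378, 92202, 74487, 74203], [0, 0], [0, 0], [0, 0], [0, 0], [0, 0], [0, 0]]
def dJ234 : List (List ℕ) := [[0, 0], [0, 0], [0, 0], [0, 0], [0, 0], [0, 0], [0, 0], [0, 0], [0, 0], [0, 0], [0, 0], [0, 0], [0, 0], [0, 0], [0, 0], [0, 0], [0, 0], [0, 0], [0, 0], [0, 0], [0, 0], [329, 32, 54554, 38290, 54555, 55059, 93582, 93584, 93586, 93588, 93590, 93592, 93594, 93596, 93598, 93600, 93602, 93604, 93606, 93608, 93610, 93612, 93614, 93616, 93618, 93620, 93622, 93624, 93626, 93628, 93630, 93632, 93634, 93636, 93638, 93640], [54, 2, 93642, 54553], [345, 41, 93636, 93638, 93640, 93642, 54554, 38292, 11893, 45419, 45420, 36310, 2630, 32957, 4478, 50020, 50013, 49601, 49199, 60975, 60973, 60971, 60969, 60967, 60965, 60963, 60961, 60959, 60957, 60955, 60953, 60952, 60954, 60956, 61388, 61385, 61383, 61381, 61380, 61382, 61384, 61389, 60957, 60955, 60953, 60951, 60949, 60947, 60945], [7, 0,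 93634, 93647, 60944], [16, 0, 93637, 93647], [4, 0, 93632, 93649, 60946], [7, 0, 93630, 93653, 60948], [15, 0, 93628, 93655, 60950], [8, 0, 93626, 93657, 60952], [3, 0, 93624, 93659, 60954], [8, 0, 93622, 93661, 60956], [15, 0, 93620, 93663, 61388], [7, 0, 93618, 93665, 61385], [4, 0, 93616, 93667, 61383], [7, 0, 93614, 93669, 61381], [16, 0, 93612, 93671, 61379], [8, 0, 93610, 93673, 61377], [3, 0, 93608, 93675, 61375], [8, 0, 93606, 93677, 61373], [15, 0, 93604, 93679], [346, 5, 93638, 93640, 93642, 54554, 11893, 45419, 45420, 42570, 50224, 50221, 23780, 23781, 50220, 50225, 42571, 45421, 45418, 11892, 11893, 45419, 45420, 36310, 2630, 32957, 4478, 50020, 50013, 49601, 49199, 61604, 61601, 61599, 61597, 61595, 61593, 61591, 61589, 61587, 61585, 61583, 61897, 55127, 55268, 50225, 25936, 91931], [351, 2, 93642, 54565, 93643], [367, 2, 93642, 54567, 93643], [363, 0, 93640, 93686, 93641], [347, 0, 93640, 93684, 93641], [249, 3, 93651, 60943, 93682], [266, 3, 69478, 49516, 91925, 93682], [279, 2, 93683, 61215, 93682], [282, 3, 92557, 12285, 91927, 93682], [295, 2,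 93683, 61171, 93682], [313, 1, 69478, 49617, 91949, 93682], [343, 2, 93683, 61117, 93682], [335, 0, 93639, 93704, 93638], [287, 0, 93639, 93700, 93638], [271, 0, 93639, 93696, 93638], [255, 0, 93639, 93692, 93638], [249, 1, 61370, 61523, 93680], [249, 3, 93714, 61370, 93680], [279, 2, 93681, 61504, 93680], [295, 2, 93681, 61486, 93680], [343, 2, 93681, 61458, 93680], [359, 2, 93681, 61438, 93680], [375, 2, 93681, 61418, 93680], [367, 0, 93602, 93726, 93603], [363, 2, 93600, 93728, 93601], [367, 0, 93598, 93730, 93599], [375, 2, 93596, 93732, 93597], [368, 1, 93594, 93734, 93595], [364, 3, 93592, 93736, 93593], [368, 1, 93590, 93738, 93591], [376, 3, 93588, 93740, 93589], [367, 0, 93586, 93742, 93587], [363, 2, 93584, 93744, 93585], [351, 0, 93602, 93724, 93603], [347, 2, 93600, 93748, 93601], [351, 0, 93598, 93750, 93599], [359, 2, 93596, 93752, 93597], [352, 1, 93594, 93754, 93595], [348, 3, 93592, 93756, 93593], [352, 1, 93590, 93758, 93591], [360, 3, 93588, 93760, 93589], [351, 0, 93586, 93762, 93587], [347, 2, 93584, 93764, 93585], [335, 0, 93602, 93722, 93603],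 [331, 2, 93600, 93768, 93601], [335, 0, 93598, 93770, 93599], [343, 2, 93596, 93772, 93597], [336, 1, 93594, 93774, 93595], [332, 3, 93592, 93776, 93593], [336, 1, 93590, 93778, 93591], [344, 3, 93588, 93780, 93589], [335, 0, 93586, 93782, 93587], [331, 2, 93584, 93784, 93585], [287, 0, 93602, 93720, 93603], [283, 2, 93600, 93788, 93601], [287, 0, 93598, 93790, 93599], [295, 2, 93596, 93792, 93597], [288, 1, 93594, 93794, 93595], [284, 3, 93592, 93796, 93593], [288, 1, 93590, 93798, 93591], [296, 3, 93588, 93800, 93589], [287, 0, 93586, 93802, 93587], [283, 2, 93584, 93804, 93585], [271, 0, 93602, 93718, 93603], [267, 2, 93600, 93808, 93601], [271, 0, 93598, 93810, 93599], [279, 2, 93596, 93812, 93597], [272, 1, 93594, 93814, 93595], [268, 3, 93592, 93816, 93593], [272, 1, 93590, 93818, 93591], [280, 3, 93588, 93820, 93589], [271, 0, 93586, 93822, 93587], [267, 2, 93584, 93824, 93585], [255, 0, 93602, 93716, 93603], [251, 2, 93600, 93828, 93601], [255, 0, 93598, 93830, 93599], [263, 2, 93596, 93832, 93597], [256, 1, 93594, 93834, 93595], [252, 3, 93592, 93836,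 93593], [256, 1, 93590, 93838, 93591], [264, 3, 93588, 93840, 93589], [255, 0, 93586, 93842, 93587], [251, 2, 93584, 93844, 93585], [53, 1, 55056, 93582], [0, 0], [0, 0], [0, 0], [0, 0], [0, 0], [0, 0], [0, 0], [361, 10, 61585, 61583, 61897, 55268, 50225, 25936, 91931, 60942, 60944, 60946, 60948, 60950, 60952, 60954, 60956, 60958, 60960, 60962, 60964, 60966, 60968, 60970, 60972, 60974, 49198, 49600, 50012, 50021, 4479, 32956, 2631, 36311, 45421, 45418, 11892, 11788, 11893, 86309, 86307, 93850, 93852, 93854, 93856, 93858, 93860, 93862], [249, 0, 93864, 61586, 61795], [263, 0, 93864, 61796, 93865], [279, 0, 93864, 61768, 93865], [295, 0, 93864, 61740, 93865], [343, 0, 93864, 61698, 93865], [346, 9, 93858, 93860, 93862, 93867, 61588, 61590, 61592, 61593, 61591, 61589, 93866, 93863, 93861, 93859, 93858, 93860, 93862, 93864, 61585, 61583, 61897, 55268, 50225, 25936, 91931, 60942, 60944, 60946, 60948, 60950, 60952, 60954, 60956, 61388, 61385, 61383, 61381, 61430, 61379, 61377, 61375, 61373, 93680, 93603, 93601, 93599], [359, 0, 93864, 61668, 93865], [361, 1, 67863, 67861,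 91742, 50929, 46830, 8628, 4479, 32956, 2631, 36760, 50224, 50221, 23780, 54506, 61364, 61366, 61368, 93715, 93603, 93601, 93599, 93876, 93858, 93860, 93862, 93864, 61585, 61583, 61897, 55268, 50225, 25936, 91931, 60942, 60944, 60946, 60948, 60950, 60952, 60954, 60956, 61388, 61385, 61383, 61381, 61411, 61380], [6, 0, 78724, 93881, 73571], [5, 0, 74551, 93881, 90966], [7, 0, 67865, 93881, 61381], [10, 0, 83163, 93881, 73557], [9, 0, 90816, 93881, 81104], [15, 0, 67862, 93881], [16, 0, 91453, 93881], [23, 0, 86609, 93881, 61565], [3, 0, 92166, 93883, 66820], [7, 0, 69449, 93883, 66819], [10, 0, 78749, 93883, 86772], [15, 0, 91810, 93883], [24, 0, 78604, 93883, 73420], [23, 0, 76580, 93883, 74695], [4, 0, 90921, 93884], [5, 0, 90966, 93884], [7, 0, 90918, 93884, 66344], [24, 0, 90965, 93884, 73265], [23, 0, 91042, 93884, 74411], [3, 0, 67867, 93887], [6, 0, 74552, 93887], [10, 0, 83164, 93887, 73554], [9, 0, 90809, 93887, 81109], [24, 0, 84326, 93887, 63643], [23, 0, 86604, 93887, 61562], [3, 0, 92133, 93889, 56684], [14, 0, 92142, 93889], [15, 0, 91852, 93889],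 [16, 0, 92765, 93889], [24, 0, 83082, 93889, 56885], [23, 0, 83097, 93889, 58011], [3, 0, 92157, 93891, 54874], [15, 0, 91908, 93891], [24, 0, 90806, 93891, 81040], [23, 0, 90821, 93891, 83377], [15, 0, 86276, 93897], [8, 0, 90166, 93899], [10, 0, 90172, 93899], [14, 0, 90241, 93899], [15, 0, 90170, 93899], [16, 0, 90169, 93899], [24, 0, 90174, 93899, 73419], [23, 0, 91083, 93899, 74692], [3, 0, 69451, 93901], [10, 0, 78729, 93901, 86775], [24, 0, 78587, 93901, 73423], [23, 0, 76579, 93901, 74698], [3, 0, 86725, 93902, 92134], [6, 0, 86766, 93902], [9, 0, 86770, 93902], [10, 0, 86772, 93902], [24, 0, 86765, 93902, 63372], [23, 0, 86777, 93902, 61334], [15, 0, 91914, 93907], [15, 0, 91918, 93909], [15, 0, 90916, 93915], [24, 0, 90968, 93915, 73266], [4, 0, 90023, 93917], [4, 0, 85317, 93919]]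
def dJ238 : List (List ℕ) := [[16, 0, 65471, 95135], [16, 0, 70219, 95137], [5, 0, 79750, 95179], [16, 0, 58569, 95179], [5, 0, 82046, 95181], [16, 0, 52215, 95181], [16, 0, 85607, 95185], [16, 0, 88683, 95187], [282, 3, 94906, 54438, 60900, 59534], [311, 1, 79770, 94906, 60906], [312, 0, 82065, 94906, 60908], [249, 2, 60780, 95220, 81579], [281, 1, 60749, 60568, 60745, 95220], [282, 3, 60564, 60750, 60769, 95220], [218, 2, 95226, 49674, 49720, 95174], [134, 2, 93412, 95149, 95228], [303, 3, 82050, 95228, 82080], [304, 2, 79767, 95228, 82065], [125, 3, 46839, 95034, 95234], [202, 2, 95236, 46843, 65878, 94579], [225, 1, 95236, 46834, 47124, 73212], [305, 1, 82053, 95236, 46853], [61, 1, 44744, 95242], [201, 2, 94575, 70457, 45423, 95242], [226, 3, 74510, 44567, 18773, 95242], [94, 2, 95246, 94595, 73186], [310, 0, 73209, 95250, 82053], [218, 3, 95232, 95244, 46620, 39071], [222, 3, 95173, 65385, 95164, 95232, 95244, 44744, 70264], [125, 1, 50513, 70260, 95256], [126, 2, 39070, 70258, 95256], [133, 1, 88657, 71365, 95256], [134, 2, 69382, 70262, 95256], [241, 2,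 69382, 71366, 71373, 95256], [242, 2, 88657, 71375, 70262, 95256], [94, 3, 95268, 88655, 52652], [313, 0, 95268, 88641, 88667, 82779], [314, 3, 95101, 95104, 95268, 95100], [309, 1, 89035, 95274, 89034], [310, 0, 89036, 95274, 89037], [249, 2, 82668, 95272, 85599], [281, 2, 85890, 85747, 95280, 82457], [282, 4, 55509, 85889, 95280, 82763], [311, 3, 87433, 95280, 82772], [312, 2, 89037, 95280, 82774], [281, 0, 54293, 95288, 89030, 62178], [282, 2, 54290, 95288, 88836, 89028], [297, 2, 75433, 77511, 95292, 62867], [298, 4, 88168, 77544, 95292, 60896], [312, 2, 77511, 95292, 69419], [282, 2, 69398, 95298, 75296, 77563], [298, 2, 69407, 95298, 75439, 70824], [281, 2, 70827, 70536, 95302, 65058], [297, 2, 77547, 71815, 95302, 65062], [312, 2, 71815, 95302, 65099], [282, 2, 55994, 95308, 71641, 71821], [312, 2, 60225, 95310, 62844], [313, 3, 60167, 95310, 94067, 94070], [309, 1, 90435, 95314, 60162], [310, 0, 89589, 95314, 59067], [282, 2, 53044, 95306, 68813, 79793], [313, 3, 60986, 61603, 61718, 95306], [310, 0, 88168, 95322, 63501], [201, 0, 93463, 95270, 95260, 95254],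 [265, 1, 52199, 95270, 85782, 85599], [85, 2, 85890, 95328, 54115], [86, 3, 85889, 95328, 55609], [210, 3, 85890, 95328, 59056, 54115], [299, 3, 87433, 95328, 59060], [300, 2, 89037, 95328, 60177], [85, 0, 60178, 95338, 89030], [86, 1, 79810, 95338, 89028], [202, 2, 71833, 95338, 89028, 77508], [209, 1, 79810, 60181, 95338, 89028], [310, 2, 77511, 95346, 79821], [85, 2, 71820, 95344, 71845], [300, 2, 71879, 95344, 71855], [86, 1, 67616, 95352, 70831], [202, 4, 77563, 77565, 95354, 69059], [300, 2, 59067, 95354, 77875], [86, 1, 69055, 95356, 77563], [210, 1, 87417, 95277, 87416, 95360], [309, 3, 64416, 95362, 64429], [310, 2, 64406, 95362, 64392], [202, 4, 79793, 79789, 95340, 60559], [300, 0, 60556, 95368, 88169], [94, 0, 95326, 93455, 93404], [265, 3, 72260, 72259, 70254, 95214], [313, 3, 88992, 95183, 71373, 95214], [314, 1, 95213, 70268, 95214, 88985], [309, 3, 87384, 95378, 87385], [201, 0, 88987, 95374, 72263, 62590], [299, 1, 88978, 95374, 72265], [300, 0, 88991, 95374, 72267], [202, 4, 59402, 71092, 95386, 85865], [86, 1, 77628, 95388, 59402], [300, 0, 77469,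 95388, 64770], [85, 2, 64768, 95392, 77624], [86, 3, 64766, 95392, 79830], [300, 0, 88119, 95396, 82492], [86, 3, 82488, 95398, 88126], [265, 2, 94635, 61990, 62583, 95382], [313, 1, 95402, 94639, 83127, 92020], [309, 3, 58432, 95404, 77458], [310, 2, 58426, 95404, 75466], [265, 3, 89314, 89311, 47080, 95210], [314, 1, 91307, 47090, 95210, 59023], [93, 0, 95412, 91424, 87734], [299, 3, 87679, 95414, 60240], [314, 1, 61910, 26164, 95194, 62286], [309, 3, 64377, 95418, 63883], [310, 2, 62330, 95418, 61913], [53, 1, 62580, 94656], [0, 0], [0, 0], [0, 0], [0, 0], [0, 0], [0, 0], [0, 0], [361, 10, 54301, 54299, 54297, 94907, 95081, 95078, 53790, 53792, 53794, 53796, 53798, 53800, 53802, 53804, 53806, 53808, 53810, 53812, 53814, 53816, 53818, 53820, 53822, 53824, 49172, 49538, 49564, 37763, 939, 32965, 38034, 36303, 46646, 45249, 11902, 11798, 11903, 75101, 75099, 95426, 95428, 95430, 95432, 95434, 95436, 95438], [249, 0, 95440, 54302, 54487], [263, 0, 95440, 54488, 95441], [279, 0, 95440, 54460, 95441], [295, 0, 95440, 54432, 95441], [343, 0, 95440, 54404, 95441], [346,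 9, 95434, 95436, 95438, 95443, 54304, 54306, 54308, 54309, 54307, 54305, 95442, 95439, 95437, 95435, 95434, 95436, 95438, 95440, 54301, 54299, 54297, 94907, 95081, 95078, 53790, 53792, 53794, 53796, 53798, 53800, 53802, 53804, 53806, 54142, 54139, 54137, 54135, 54182, 54133, 54131, 54129, 54127, 94754, 94677, 94675, 94673], [359, 0, 95440, 54376, 95441], [361, 1, 95197, 38767, 11837, 8334, 32924, 1558, 939, 32965, 38034, 49942, 50522, 50521, 24740, 54116, 54118, 54120, 54122, 94815, 94677, 94675, 94673, 95452, 95434, 95436, 95438, 95440, 54301, 54299, 54297, 94907, 95081, 95078, 53790, 53792, 53794, 53796, 53798, 53800, 53802, 53804, 53806, 54142, 54139, 54137, 54135, 54161, 54134], [3, 0, 95392, 95457, 54136], [6, 0, 77625, 95457, 86040], [5, 0, 79831, 95457, 75841], [7, 0, 67109, 95457, 54135], [10, 0, 87383, 95457, 79939], [9, 0, 77626, 95457, 75838], [14, 0, 95409, 95457], [15, 0, 95196, 95457], [24, 0, 77468, 95457, 80242], [23, 0, 75466, 95457, 82319], [6, 0, 64768, 95459, 85995], [5, 0, 64766, 95459, 75842], [8, 0, 64760, 95459], [10, 0, 67671, 95459, 79872],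 [10, 0, 89321, 95459], [15, 0, 64764, 95459], [16, 0, 64763, 95459], [24, 0, 64770, 95459, 80241], [23, 0, 64772, 95459, 82316], [6, 0, 86040, 95460], [7, 0, 85922, 95460, 65472], [24, 0, 89277, 95460, 70704], [5, 0, 75841, 95462], [7, 0, 70850, 95462, 68588], [9, 0, 79874, 95462], [9, 0, 75766, 95462, 82114], [23, 0, 72225, 95462], [23, 0, 71062, 95462, 88118], [26, 0, 72228, 95462], [3, 0, 67111, 95465], [5, 0, 77641, 95465], [10, 0, 87377, 95465, 79922], [9, 0, 77638, 95465, 75837], [24, 0, 77451, 95465, 80245], [23, 0, 75469, 95465, 82320], [3, 0, 95384, 95467, 62368], [13, 0, 95466, 95380, 95467], [24, 0, 87385, 95467, 64720], [23, 0, 88979, 95467, 62545], [5, 0, 77616, 95469], [13, 0, 95422, 95469], [15, 0, 95194, 95469], [24, 0, 64444, 95469, 59341], [23, 0, 62331, 95469, 60419], [6, 0, 80239, 95474], [23, 0, 82319, 95476], [26, 0, 82312, 95476], [6, 0, 85995, 95478], [7, 0, 85927, 95478], [10, 0, 85991, 95478], [24, 0, 89284, 95478, 60607], [23, 0, 87578, 95478, 60609], [7, 0, 70855, 95480], [24, 0, 72232, 95480, 80338], [23, 0, 71065, 95480, 82492], [3,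 0, 68938, 95484], [7, 0, 68941, 95484], [10, 0, 79872, 95484], [23, 0, 88320, 95484, 75900], [7, 0, 80089, 95492], [24, 0, 80241, 95492], [25, 0, 80175, 95492], [8, 0, 82221, 95494, 94656], [23, 0, 82316, 95494], [26, 0, 82311, 95494], [6, 0, 86046, 95499, 82022], [15, 0, 85920, 95499], [24, 0, 89274, 95499, 70703], [5, 0, 89170, 95501], [9, 0, 79879, 95505], [15, 0, 70848, 95505]]
def dJ242 : List (List ℕ) := [[8, 0, 71961, 96777, 96534], [9, 0, 72194, 96777, 75813], [15, 0, 94927, 96777, 94925], [24, 0, 72198, 96777, 72200], [23, 0, 72191, 96777, 72193], [3, 0, 61943, 96778], [6, 0, 96525, 96778, 75822], [5, 0, 75860, 96778, 75821], [7, 0, 61940, 96778], [8, 0, 62347, 96778], [10, 0, 77533, 96778, 88368], [10, 0, 96272, 96778], [11, 0, 96761, 96778], [12, 0, 96758, 96778], [13, 0, 96752, 96778], [16, 0, 96744, 96778, 54124], [24, 0, 64425, 96778, 80297], [23, 0, 62344, 96778, 82431], [3, 0, 88182, 96781], [16, 0, 94938, 96781], [24, 0, 88374, 96781, 64672], [3, 0, 80070, 96783], [3, 0, 82202, 96785], [9, 0, 87621, 96789, 69358], [15, 0, 87449, 96789], [24, 0,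 87614, 96789, 59639], [23, 0, 89250, 96789, 60718], [3, 0, 68598, 96793], [7, 0, 68601, 96793], [9, 0, 82149, 96793, 82141], [23, 0, 88087, 96793, 88089], [3, 0, 85908, 96795], [9, 0, 86072, 96795], [10, 0, 86071, 96795], [3, 0, 89072, 96797], [10, 0, 89258, 96797], [3, 0, 96631, 96800], [4, 0, 96623, 96800], [7, 0, 96290, 96800], [16, 0, 96737, 96800, 71962], [16, 0, 87656, 96800], [24, 0, 87793, 96800, 72186], [23, 0, 89403, 96800, 72189], [4, 0, 75591, 96802], [5, 0, 75811, 96802], [8, 0, 75588, 96802], [9, 0, 75813, 96802], [10, 0, 88381, 96802], [15, 0, 94917, 96802, 94948], [24, 0, 75806, 96802, 60509], [23, 0, 77854, 96802, 60553], [3, 0, 55298, 96805], [7, 0, 55301, 96805], [10, 0, 80010, 96805, 82150], [9, 0, 88929, 96805, 82152], [24, 0, 62318, 96805, 62320], [23, 0, 64361, 96805, 64363], [3, 0, 65940, 96807], [3, 0, 70836, 96809], [3, 0, 96529, 96813], [7, 0, 80325, 96813], [10, 0, 80476, 96813], [14, 0, 96615, 96813], [16, 0, 96602, 96813, 64506], [16, 0, 80322, 96813], [24, 0, 82684, 96813, 64662], [23, 0, 80471, 96813, 64701], [3, 0, 96414, 96815],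 [4, 0, 96618, 96815], [7, 0, 68572, 96815], [10, 0, 79808, 96815], [13, 0, 96814, 96617, 96815], [23, 0, 88172, 96815, 60542], [6, 0, 88366, 96820], [10, 0, 88368, 96820], [16, 0, 88187, 96820, 96637], [24, 0, 88373, 96820, 77526], [6, 0, 75825, 96830], [7, 0, 54127, 96830, 65234], [9, 0, 79901, 96830], [15, 0, 94755, 96830], [16, 0, 54124, 96830], [24, 0, 80301, 96830, 49633], [23, 0, 82411, 96830, 49635], [6, 0, 80280, 96832], [24, 0, 80297, 96832], [25, 0, 80279, 96832], [23, 0, 82431, 96834], [26, 0, 82426, 96834], [3, 0, 68922, 96841], [5, 0, 69073, 96841], [16, 0, 94937, 96841], [5, 0, 75795, 96847], [8, 0, 75592, 96847], [10, 0, 75799, 96847], [16, 0, 75595, 96847, 96669], [24, 0, 75802, 96847, 96246], [23, 0, 77838, 96847, 96248], [16, 0, 85913, 96851, 96660], [15, 0, 89077, 96853], [3, 0, 81598, 96859], [5, 0, 81974, 96859, 88936], [15, 0, 94957, 96859], [24, 0, 81978, 96859, 71778], [23, 0, 81971, 96859, 70694], [3, 0, 87884, 96861], [7, 0, 87887, 96861], [7, 0, 71965, 96878, 17401], [10, 0, 72165, 96878], [16, 0, 71962, 96878], [24, 0, 72160, 96878,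 46722], [23, 0, 72177, 96878, 46679], [3, 0, 96581, 96883], [4, 0, 96582, 96883], [7, 0, 96142, 96883], [16, 0, 86096, 96883], [3, 0, 96548, 96885], [4, 0, 96563, 96885], [5, 0, 96132, 96885], [7, 0, 96286, 96885], [8, 0, 96542, 96885], [16, 0, 89300, 96885], [3, 0, 85618, 96896], [6, 0, 85839, 96896, 85841], [7, 0, 85621, 96896], [9, 0, 85832, 96896, 79718], [15, 0, 94948, 96896], [23, 0, 87326, 96896, 79703], [4, 0, 67447, 96899], [5, 0, 67622, 96899], [8, 0, 67444, 96899], [4, 0, 77707, 96901], [5, 0, 77856, 96901], [8, 0, 77704, 96901], [3, 0, 75080, 96907], [24, 0, 75479, 96907, 60266], [3, 0, 97003, 88694, 96909], [7, 0, 88697, 96909], [15, 0, 94940, 96909], [3, 0, 61966, 96911], [3, 0, 64008, 96913], [7, 0, 64011, 96913], [5, 0, 69086, 96926], [7, 0, 64509, 96926, 12311], [10, 0, 69092, 96926, 50778], [10, 0, 89233, 96926], [16, 0, 64506, 96926], [24, 0, 64660, 96926, 45091], [23, 0, 64703, 96926, 46892], [3, 0, 96572, 96931], [4, 0, 96575, 96931], [6, 0, 96124, 96931], [7, 0, 82479, 96931], [10, 0, 82671, 96931], [13, 0, 96579, 96931], [14, 0, 96577, 96931],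 [16, 0, 82476, 96931], [8, 0, 62354, 96932], [23, 0, 64701, 96932], [24, 0, 62532, 96932], [25, 0, 62514, 96932], [26, 0, 64696, 96932], [3, 0, 96406, 96945], [4, 0, 96555, 96945], [5, 0, 88174, 96945], [6, 0, 96547, 96945], [7, 0, 87858, 96945], [10, 0, 88178, 96945], [13, 0, 96944, 96564, 96945], [3, 0, 94466, 96950], [4, 0, 95138, 96950], [6, 0, 94473, 96950], [9, 0, 94484, 96950], [11, 0, 94492, 96950], [13, 0, 94479, 96950], [15, 0, 96708, 96950], [16, 0, 96637, 96950], [3, 0, 75057, 96952], [4, 0, 96640, 96952], [7, 0, 75054, 96952], [8, 0, 75577, 96952], [9, 0, 96118, 96952], [10, 0, 75579, 96952], [13, 0, 96650, 96952], [16, 0, 96031, 96952], [23, 0, 75572, 96952], [24, 0, 77526, 96952], [25, 0, 77535, 96952], [26, 0, 75580, 96952], [4, 0, 65224, 96956, 54128], [4, 0, 65226, 96956], [6, 0, 71860, 96956, 89222], [5, 0, 65232, 96956, 75829], [7, 0, 65234, 96956], [8, 0, 65218, 96956], [10, 0, 65241, 96956], [11, 0, 65228, 96956], [12, 0, 65230, 96956], [13, 0, 65222, 96956], [14, 0, 65221, 96956]]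
def dJ246 : List (List ℕ) := [[26, 0, 82691, 98148], [5, 0, 87356, 98153], [15, 0, 64005, 98165, 97053], [4, 0, 96836, 98175], [5, 0, 88378, 98175], [8, 0, 88180, 98175], [9, 0, 96894, 98175], [15, 0, 94922, 98175, 53800], [8, 0, 97300, 98187, 65484], [24, 0, 88952, 98187, 70692], [3, 0, 98194, 96799, 98195], [5, 0, 75815, 98195], [8, 0, 71956, 98195], [10, 0, 96892, 98195], [15, 0, 94924, 98195, 59746], [8, 0, 70229, 98204, 96856], [10, 0, 82134, 98204, 82142], [15, 0, 70226, 98204], [23, 0, 71780, 98204], [26, 0, 71785, 98204], [3, 0, 98206, 96863, 98207], [6, 0, 86078, 98207], [7, 0, 96070, 98207], [8, 0, 96010, 98207], [9, 0, 96865, 98207], [10, 0, 96867, 98207], [3, 0, 59144, 98229], [4, 0, 97057, 98229], [5, 0, 97059, 98229], [6, 0, 67624, 98229], [8, 0, 97061, 98229], [15, 0, 97076, 98229, 55294], [23, 0, 59355, 98229], [24, 0, 60509, 98229], [25, 0, 60504, 98229], [26, 0, 59333, 98229], [7, 0, 79362, 98252], [15, 0, 79365, 98252, 94935], [3, 0, 98266, 97081, 98267], [8, 0, 97083, 98267, 52224], [8, 0, 64006, 98267], [23, 0, 64464, 98267, 59084], [3, 0,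 98268, 96915, 98269], [5, 0, 80289, 98269], [8, 0, 65938, 98269], [8, 0, 98482, 61965, 98291, 97314], [3, 0, 98300, 97011, 98301], [8, 0, 97013, 98301, 65480], [8, 0, 87882, 98301], [10, 0, 88092, 98301, 88098], [23, 0, 88089, 98301], [26, 0, 88101, 98301], [8, 0, 97394, 98311, 71334], [4, 0, 98414, 97318, 98313], [6, 0, 98414, 77676, 98313, 79951], [9, 0, 97260, 98313], [24, 0, 77419, 98313, 79696], [23, 0, 98433, 75477, 98313, 81965], [9, 0, 77665, 98319], [6, 0, 82154, 98321, 98431, 80017], [5, 0, 98418, 88948, 98321, 98431, 80018], [7, 0, 98433, 75079, 98321, 98431], [4, 0, 89296, 98342], [8, 0, 98336, 98342], [24, 0, 89515, 98342], [25, 0, 89480, 98342], [4, 0, 87652, 98344], [8, 0, 87655, 98344], [23, 0, 87805, 98344], [26, 0, 87817, 98344], [3, 0, 96597, 98354], [3, 0, 96700, 98354, 69129], [5, 0, 72381, 98354], [7, 0, 72246, 98354], [10, 0, 72404, 98354], [14, 0, 96678, 98354], [15, 0, 72249, 98354], [16, 0, 96699, 98354], [23, 0, 72375, 98354], [23, 0, 72408, 98354, 88586], [26, 0, 72378, 98354], [3, 0, 96638, 98358, 72245], [5, 0, 78047, 98358], [6, 0,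 87802, 98358], [7, 0, 77892, 98358], [9, 0, 78051, 98358], [9, 0, 88577, 98358, 72444], [15, 0, 96136, 98358], [16, 0, 97150, 98358], [24, 0, 78054, 98358], [25, 0, 78039, 98358], [5, 0, 76021, 98360], [6, 0, 86230, 98360], [7, 0, 75876, 98360], [9, 0, 76026, 98360, 78060], [15, 0, 97168, 98360], [23, 0, 76015, 98360], [26, 0, 76018, 98360], [4, 0, 64750, 98369], [8, 0, 98134, 98369], [7, 0, 59384, 98370], [10, 0, 69362, 98370], [14, 0, 96682, 98370], [15, 0, 59387, 98370], [23, 0, 59637, 98370], [24, 0, 60862, 98370], [25, 0, 60859, 98370], [26, 0, 59615, 98370], [3, 0, 96585, 98385], [9, 0, 82693, 98385], [10, 0, 82695, 98385], [14, 0, 96613, 98385], [15, 0, 97112, 98385], [16, 0, 96592, 98385], [4, 0, 60582, 98386], [8, 0, 60585, 98386], [10, 0, 69375, 98386], [23, 0, 60864, 98386], [24, 0, 60846, 98386], [25, 0, 60843, 98386], [26, 0, 60861, 98386], [3, 0, 97294, 98404], [4, 0, 97266, 98404], [5, 0, 97298, 98404], [6, 0, 79707, 98404], [8, 0, 97049, 98404, 98481], [8, 0, 98405, 79367, 98475, 97308], [15, 0, 97053, 98404], [24, 0, 79702, 98404], [25, 0, 79710,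 98404], [4, 0, 58581, 98415], [5, 0, 97321, 98415], [8, 0, 97323, 98415, 53802], [8, 0, 58578, 98415], [9, 0, 77694, 98415], [23, 0, 60266, 98415, 81984], [8, 0, 65484, 98416], [9, 0, 75524, 98416, 75526], [16, 0, 65487, 98416, 97302], [16, 0, 65963, 98416], [8, 0, 59749, 98428, 96904], [15, 0, 59746, 98428], [24, 0, 60129, 98428], [25, 0, 60132, 98428], [3, 0, 98462, 97001, 98431], [4, 0, 70231, 98431], [9, 0, 82141, 98431], [16, 0, 97005, 98431, 68602], [23, 0, 97262, 98431], [26, 0, 97264, 98431], [4, 0, 98680, 97068, 98432], [10, 0, 82142, 98432], [3, 0, 97073, 98463], [5, 0, 97250, 98463], [8, 0, 97075, 98463, 55296], [8, 0, 98680, 98671, 81596, 98463], [9, 0, 82152, 98463], [23, 0, 81981, 98463], [26, 0, 81986, 98463], [9, 0, 82195, 98475], [10, 0, 79720, 98475], [24, 0, 79725, 98475], [25, 0, 79717, 98475], [16, 0, 64013, 98479, 94934], [16, 0, 64525, 98479], [3, 0, 98482, 97079, 98483], [10, 0, 82188, 98483], [24, 0, 62320, 98483], [25, 0, 62276, 98483], [8, 0, 97314, 98490], [16, 0, 87141, 98490, 58577], [16, 0, 87467, 98490], [16, 0, 87889, 98495, 97270],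 [16, 0, 88205, 98495], [23, 0, 88085, 98495], [26, 0, 88081, 98495], [7, 0, 98496, 98498], [10, 0, 88098, 98498], [15, 0, 98240, 98498], [23, 0, 88111, 98498], [26, 0, 88102, 98498], [8, 0, 71334, 98504], [9, 0, 75517, 98504, 75540], [16, 0, 71337, 98504, 97396], [16, 0, 71981, 98504], [6, 0, 79951, 98508], [16, 0, 61971, 98508, 53801], [16, 0, 62375, 98508], [6, 0, 98674, 79699, 98512], [8, 0, 97268, 98512], [16, 0, 79373, 98512, 98756], [16, 0, 80093, 98512], [24, 0, 79696, 98512], [25, 0, 79712, 98512], [6, 0, 81961, 98514], [9, 0, 81969, 98514], [16, 0, 81603, 98514, 98309], [16, 0, 82225, 98514], [23, 0, 81965, 98514], [26, 0, 81956, 98514]]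
def dJ250 : List (List ℕ) := [[26, 0, 63560, 99752], [5, 0, 81005, 99777, 93446], [16, 0, 53394, 99777], [16, 0, 56672, 99781], [23, 0, 56875, 99781], [26, 0, 56853, 99781], [3, 0, 93404, 99784], [4, 0, 93403, 99784], [6, 0, 93400, 99784], [7, 0, 93411, 99784], [8, 0, 93413, 99784], [9, 0, 93408, 99784], [10, 0, 93406, 99784], [11, 0, 95230, 99784], [13, 0, 97564, 99784], [6, 0, 68406, 99787], [16, 0, 68236, 99787], [5, 0, 78949, 99791], [16, 0, 78778, 99791], [5, 0, 76710, 99793], [16, 0, 76638, 99793], [4, 0, 94210, 99806], [8, 0, 99818, 76648, 99806], [15, 0, 94306, 99806], [3, 0, 56097, 99809], [5, 0, 94022, 99809], [7, 0, 56094, 99809], [4, 0, 94148, 99812], [8, 0, 99816, 78788, 99812], [10, 0, 93980, 99812], [15, 0, 94308, 99812], [4, 0, 66821, 99814], [6, 0, 73571, 99814], [8, 0, 66818, 99814], [9, 0, 93982, 99814], [15, 0, 93905, 99814], [9, 0, 81143, 99817], [10, 0, 94170, 99819], [6, 0, 86823, 99847], [9, 0, 86825, 99847], [16, 0, 86712, 99847], [16, 0, 90010, 99853], [10, 0, 85377, 99855], [16, 0, 85304, 99855], [4, 0, 73337, 99868], [8, 0, 99938, 73334,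 99868], [9, 0, 94106, 99868], [15, 0, 93989, 99868], [4, 0, 92139, 99875], [6, 0, 78755, 99875], [8, 0, 99902, 57263, 99875], [13, 0, 92129, 99875], [14, 0, 92125, 99875], [15, 0, 57260, 99875], [24, 0, 57729, 99875], [25, 0, 57732, 99875], [3, 0, 73881, 99880], [6, 0, 76505, 99880], [23, 0, 74390, 99880], [24, 0, 74397, 99880], [25, 0, 74402, 99880], [26, 0, 74405, 99880], [5, 0, 68412, 99883], [10, 0, 74754, 99883], [16, 0, 57892, 99883], [24, 0, 58128, 99883], [25, 0, 58133, 99883], [5, 0, 69947, 99889], [6, 0, 83474, 99889], [15, 0, 93681, 99889], [16, 0, 61370, 99889], [3, 0, 94119, 99895], [5, 0, 74736, 99895], [7, 0, 57903, 99895], [10, 0, 73549, 99895], [23, 0, 58012, 99895], [24, 0, 58114, 99895], [25, 0, 58117, 99895], [26, 0, 58077, 99895], [3, 0, 57265, 99903], [10, 0, 73308, 99903], [24, 0, 57726, 99903], [25, 0, 57723, 99903], [3, 0, 93921, 99907], [6, 0, 93923, 99907], [7, 0, 61381, 99907], [9, 0, 73555, 99907], [10, 0, 81108, 99907], [24, 0, 61563, 99907], [25, 0, 61531, 99907], [6, 0, 84616, 99911], [9, 0, 84622, 99911], [16, 0, 84404, 99911],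 [3, 0, 94091, 99939], [6, 0, 73575, 99939], [9, 0, 94172, 99939], [23, 0, 74808, 99939], [24, 0, 73423, 99939], [25, 0, 73523, 99939], [26, 0, 74813, 99939], [3, 0, 93442, 100002], [4, 0, 93441, 100002], [5, 0, 93446, 100002], [6, 0, 93444, 100002], [9, 0, 93450, 100002], [10, 0, 93438, 100002], [12, 0, 93453, 100002], [14, 0, 93448, 100002], [308, 2, 58425, 99306, 97922], [133, 1, 97986, 100216, 99507], [134, 0, 97819, 100216, 99386], [308, 2, 99500, 100220, 95687], [134, 0, 55289, 100222, 99496], [241, 0, 80869, 100214, 55996, 94565], [309, 1, 83478, 100214, 62887], [310, 0, 81031, 100214, 65092], [314, 1, 80866, 100214, 55768, 65097], [210, 3, 88625, 97839, 100232, 81012], [309, 3, 65079, 100232, 81029], [310, 2, 65098, 100232, 83492], [209, 1, 83485, 100238, 97718, 69429], [94, 1, 94066, 97518, 100240], [310, 2, 64994, 100240, 63626], [93, 2, 100244, 55779, 97604], [38, 1, 62933, 99950, 100246], [3, 0, 100246, 100248], [6, 0, 69936, 100248, 76514], [5, 0, 69938, 100248, 89937], [7, 0, 63516, 100248, 62934], [9, 0, 69935, 100248, 83183], [14, 0, 100245, 100248],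 [15, 0, 99886, 100248], [24, 0, 63585, 100248, 63453], [23, 0, 63626, 100248, 63369], [4, 0, 72578, 100252], [6, 0, 76514, 100252], [7, 0, 72581, 100252, 57891], [9, 0, 84316, 100252], [9, 0, 83260, 100252, 66937], [24, 0, 74395, 100252, 58088], [23, 0, 73269, 100252, 58130], [4, 0, 99744, 100254], [7, 0, 89551, 100254, 54861], [24, 0, 89930, 100254, 81028], [23, 0, 90801, 100254, 83491], [3, 0, 63514, 100257], [6, 0, 66932, 100257, 83244], [9, 0, 69924, 100257, 83186], [15, 0, 91476, 100257, 62936], [24, 0, 63592, 100257, 63454], [23, 0, 63625, 100257, 63366], [6, 0, 69927, 100259], [15, 0, 99788, 100259], [24, 0, 78973, 100259, 80812], [23, 0, 76727, 100259, 83078], [14, 0, 100235, 100265], [15, 0, 100004, 100265], [3, 0, 100243, 100267], [14, 0, 100240, 100267], [15, 0, 100140, 100267], [16, 0, 93714, 100267], [6, 0, 76517, 100273], [15, 0, 72583, 100273, 91484], [24, 0, 74384, 100273, 58099], [23, 0, 73270, 100273, 58141], [4, 0, 100186, 100277], [6, 0, 83266, 100277], [24, 0, 78590, 100277, 73474], [23, 0, 78585, 100277, 74775], [4, 0, 100112, 100279], [6,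 0, 76519, 100279], [4, 0, 66346, 100281], [6, 0, 76511, 100281], [9, 0, 76530, 100281], [6, 0, 89928, 100285], [15, 0, 92310, 100285], [15, 0, 89553, 100285, 91505], [24, 0, 89927, 100285, 81025], [4, 0, 99988, 100287], [5, 0, 85294, 100287], [4, 0, 94008, 100289], [5, 0, 90796, 100289], [6, 0, 83244, 100292], [10, 0, 84313, 100292], [24, 0, 78581, 100292, 73477], [23, 0, 78582, 100292, 74784], [3, 0, 69854, 100295], [6, 0, 69922, 100295], [15, 0, 91503, 100295, 54530], [24, 0, 78974, 100295, 80815], [3, 0, 83900, 100297], [8, 0, 83903, 100297, 62938], [10, 0, 84279, 100297, 76488], [9, 0, 89905, 100297, 83209], [24, 0, 86540, 100297, 63457], [23, 0, 84282, 100297, 63357], [3, 0, 53390, 100299], [3, 0, 61366, 100301], [4, 0, 100142, 100306], [9, 0, 83174, 100306]]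
def dJ254 : List (List ℕ) := [[300, 0, 60335, 101584, 82236], [37, 1, 95727, 101600], [85, 3, 82232, 101600, 82230, 95726], [3, 0, 95726, 101604], [4, 0, 101602, 101604], [8, 0, 94661, 101604, 95959], [15, 0, 94663, 101611], [97, 5, 101600, 101609, 101473, 101541, 101545], [97, 2, 101545, 101547, 101472, 101606, 101600], [201, 2, 79990, 82232, 101600, 75522], [205, 4, 88217, 82231, 79974, 101606, 101600, 75522, 101618], [206, 3, 101621, 79990, 101608, 101601, 82233, 79975, 75522], [265, 3, 60461, 98900, 101622, 98939], [201, 0, 99082, 101624, 99049, 99044], [299, 1, 75805, 101624, 60510], [300, 0, 98325, 101624, 60554], [202, 4, 79970, 99104, 101630, 98305], [206, 6, 99100, 99007, 79970, 99104, 101630, 98112, 99011], [300, 0, 62529, 101632, 64352], [266, 3, 64522, 64263, 101636, 98966], [38, 1, 101575, 101638], [94, 2, 101638, 101470, 101495], [98, 0, 101529, 101495, 101642, 101638, 101640], [204, 4, 89103, 79985, 101640, 80098, 80101, 79984, 89102], [299, 3, 89108, 101646, 89109], [300, 2, 89106, 101646, 89107], [300, 0, 71989, 101618, 77739], [281, 1, 97980,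 97764, 96340, 72328, 101612], [7, 0, 94665, 101654, 97965], [16, 0, 101612, 101654], [3, 0, 94667, 101657], [282, 4, 86176, 86219, 101659, 60566], [314, 1, 101659, 63797, 63684, 63181], [250, 2, 60564, 60770, 101658], [281, 0, 86219, 101666, 46659, 23118], [298, 3, 101666, 49799, 49794, 94984], [330, 33, 53817, 53937, 53816, 53818, 53820, 53822, 96453, 53782, 96398, 54313, 54311, 54309, 54307, 54305, 54303, 54301, 54299, 54297, 94907, 95081, 95078, 53790, 98841, 98836, 94714, 94716, 62583, 95731, 101607, 95959, 101666, 49674, 49687, 49972], [250, 3, 49983, 101672, 53817], [266, 1, 56007, 50449, 101672, 54026], [281, 0, 97281, 49999, 101672, 88042, 87982], [5, 0, 88042, 101678], [8, 0, 87899, 101678, 64744], [10, 0, 88038, 101678, 76060], [9, 0, 88041, 101678, 87842], [16, 0, 87896, 101678], [24, 0, 88035, 101678, 64995], [4, 0, 87901, 101683], [6, 0, 88033, 101683, 72490], [10, 0, 88037, 101683, 76059], [9, 0, 88027, 101683, 87841], [24, 0, 88030, 101683, 64986], [3, 0, 97978, 101684], [6, 0, 76066, 101684, 80029], [10, 0, 76060, 101684], [14, 0, 101142, 101684],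 [15, 0, 101137, 101684], [24, 0, 76065, 101684, 75386], [23, 0, 78109, 101684, 77226], [3, 0, 97678, 101686], [6, 0, 87850, 101686, 71751], [6, 0, 87848, 101686], [9, 0, 87842, 101686], [15, 0, 97488, 101686], [24, 0, 87839, 101686, 71939], [23, 0, 89509, 101686, 71598], [5, 0, 79851, 101691], [16, 0, 68610, 101691], [4, 0, 64025, 101695], [10, 0, 80048, 101695, 72460], [10, 0, 80051, 101695], [24, 0, 64203, 101695, 60833], [23, 0, 64494, 101695, 59629], [6, 0, 76074, 101696], [10, 0, 76059, 101696], [15, 0, 75871, 101696], [24, 0, 76062, 101696, 75383], [23, 0, 78096, 101696, 77223], [9, 0, 87841, 101698], [15, 0, 87649, 101698], [24, 0, 87834, 101698, 71940], [23, 0, 89496, 101698, 71597], [4, 0, 68615, 101701], [5, 0, 87287, 101704], [6, 0, 80029, 101704], [10, 0, 80046, 101704], [16, 0, 64020, 101704], [24, 0, 64204, 101704, 60830], [23, 0, 64485, 101704, 59626], [3, 0, 98010, 101713], [10, 0, 72488, 101713], [14, 0, 101117, 101713], [15, 0, 101139, 101713], [3, 0, 98014, 101715], [10, 0, 78104, 101715], [14, 0, 101141, 101715], [15, 0, 101134, 101715], [3,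 0, 97948, 101719], [5, 0, 80518, 101719], [10, 0, 72463, 101719], [24, 0, 72441, 101719, 60287], [23, 0, 71223, 101719, 59982], [3, 0, 97952, 101727], [6, 0, 86257, 101727], [9, 0, 86254, 101727], [15, 0, 97548, 101727], [3, 0, 97790, 101729], [6, 0, 89502, 101729], [9, 0, 89504, 101729], [15, 0, 94799, 101729], [5, 0, 72480, 101736], [10, 0, 72460, 101736], [15, 0, 71073, 101736], [24, 0, 72432, 101736, 60296], [23, 0, 71220, 101736, 59981], [5, 0, 82734, 101740], [6, 0, 72487, 101740], [15, 0, 60579, 101740], [24, 0, 60833, 101740], [25, 0, 60828, 101740], [4, 0, 61983, 101743], [10, 0, 81775, 101743], [24, 0, 62304, 101743], [25, 0, 62134, 101743], [10, 0, 72493, 101751], [15, 0, 67643, 101751], [6, 0, 88611, 101753], [10, 0, 78095, 101753], [15, 0, 77887, 101753], [9, 0, 86251, 101759], [15, 0, 86089, 101759], [9, 0, 89495, 101761], [15, 0, 89293, 101761], [3, 0, 97748, 101772], [14, 0, 101114, 101772], [15, 0, 94811, 101772], [24, 0, 60830, 101772], [25, 0, 60827, 101772], [5, 0, 88864, 101775], [6, 0, 80041, 101775], [10, 0, 81895, 101775], [16, 0, 61978,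 101775], [24, 0, 62307, 101775], [25, 0, 62263, 101775], [3, 0, 98086, 101799], [5, 0, 82747, 101799], [3, 0, 66112, 101801], [5, 0, 66272, 101801], [10, 0, 72469, 101801], [15, 0, 72241, 101825], [5, 0, 88609, 101827], [10, 0, 72457, 101827], [15, 0, 66117, 101827], [282, 1, 97391, 70766, 101672, 53980], [297, 0, 49978, 101672, 75583, 59982], [311, 1, 97375, 101672, 79665], [312, 0, 49988, 101672, 81772], [314, 1, 94264, 49976, 101672, 81909], [362, 45, 50513, 26175, 50512, 97346, 97186, 96960, 94677, 94675, 94673, 94671, 94669, 101661, 97964, 60565, 49674, 49687, 49972, 101672, 53818, 53820, 53822, 53824, 49172, 49538, 49564, 42352, 45820, 13421, 13463, 53776, 53778, 53780, 53782, 53784, 95081, 95078, 53790, 53792, 53794, 53796, 53798, 98412, 96888, 98184, 98938, 95962], [250, 3, 75959, 101914, 62812], [281, 1, 101914, 50519, 47278, 95108], [311, 1, 76001, 101914, 50531], [312, 0, 77985, 101914, 50533], [249, 1, 56007, 50452, 101922], [266, 3, 101674, 49985, 50448, 101922], [282, 3, 95037, 17339, 50469, 101922], [297, 2, 50545, 50533, 101922, 87740], [313, 1,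 99709, 50548, 50460, 101922], [209, 3, 95350, 101929, 101932, 92740], [94, 1, 101934, 95350, 95316], [250, 3, 87745, 101930, 52984], [312, 0, 89397, 101930, 44606], [313, 1, 101930, 12237, 46572, 92168], [309, 3, 93575, 101942, 89396], [94, 1, 101944, 93571, 99265], [85, 2, 85815, 101946, 89385], [86, 3, 85812, 101946, 96401], [203, 3, 80060, 81928, 81925, 85815, 101946, 89389, 67745], [205, 4, 81928, 81925, 85815, 101946, 96283, 71053, 95330], [299, 3, 87294, 101946, 89528], [300, 2, 89054, 101946, 89397], [85, 0, 96410, 101958, 88881], [86, 1, 96308, 101958, 88883], [93, 3, 92271, 101942, 101958], [202, 2, 87742, 101958, 88883, 88056], [204, 4, 101927, 77977, 87742, 101958, 88883, 75857, 80058, 80056], [4, 0, 58588, 101968], [5, 0, 77385, 101968, 88050], [8, 0, 58591, 101968], [10, 0, 75587, 101968, 80055], [9, 0, 80056, 101968, 75584], [24, 0, 59096, 101968, 79688], [23, 0, 60283, 101968, 81917], [5, 0, 88050, 101972], [7, 0, 87894, 101972], [10, 0, 88052, 101972, 77387], [9, 0, 88044, 101972, 88055], [15, 0, 101688, 101972], [24, 0, 88059, 101972, 77391], [6,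 0, 88876, 101976, 88880], [7, 0, 101978, 61976, 101976]]
def dJ258 : List (List ℕ) := [[25, 0, 81900, 103130], [4, 0, 79385, 103133], [8, 0, 79382, 103133], [9, 0, 79845, 103133], [10, 0, 79667, 103133], [24, 0, 79662, 103133], [25, 0, 79534, 103133], [4, 0, 103149, 77053, 103139], [5, 0, 77224, 103139], [8, 0, 77050, 103139], [10, 0, 101853, 103139], [15, 0, 101855, 103139], [16, 0, 95852, 103139], [24, 0, 77223, 103139, 59105], [23, 0, 77359, 103139, 60298], [7, 0, 77055, 103148], [9, 0, 103179, 88785, 103148], [10, 0, 77216, 103148], [16, 0, 95898, 103148], [23, 0, 77220, 103148], [24, 0, 77701, 103148], [25, 0, 77362, 103148], [26, 0, 77215, 103148], [4, 0, 94714, 103154], [7, 0, 94718, 103154], [8, 0, 94717, 103154], [3, 0, 103174, 103178], [7, 0, 88713, 103178], [9, 0, 88786, 103178], [24, 0, 89069, 103178], [25, 0, 89066, 103178], [3, 0, 87152, 103180], [6, 0, 87224, 103180], [7, 0, 87155, 103180], [9, 0, 87228, 103180], [10, 0, 87226, 103180], [23, 0, 87275, 103180], [26, 0, 87221, 103180], [4, 0, 103193, 71349, 103191], [5, 0, 71953, 103191], [6, 0, 87280,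 103191], [8, 0, 71346, 103191], [9, 0, 101755, 103191], [15, 0, 101757, 103191], [5, 0, 71950, 103192], [7, 0, 71351, 103192], [23, 0, 71948, 103192], [24, 0, 71595, 103192], [25, 0, 71590, 103192], [26, 0, 71947, 103192], [4, 0, 75097, 103227], [5, 0, 75385, 103227], [6, 0, 101745, 103227], [8, 0, 75094, 103227], [10, 0, 101747, 103227], [15, 0, 101749, 103227], [4, 0, 67135, 103229], [5, 0, 67425, 103229], [8, 0, 67132, 103229], [9, 0, 67427, 103229], [10, 0, 101847, 103229], [15, 0, 101849, 103229], [126, 3, 79401, 103092, 101878], [218, 4, 65894, 68624, 103092, 101876], [220, 7, 85649, 67148, 67145, 68624, 103092, 101876, 88867], [222, 7, 103084, 65894, 68624, 103092, 59376, 72473, 62565], [224, 8, 67148, 67145, 68624, 103092, 59376, 72473, 71257, 54301], [241, 4, 98846, 103092, 101118, 100044], [303, 3, 87919, 103092, 101882], [125, 0, 80039, 103336, 87917], [217, 0, 80034, 103336, 87911, 71576], [219, 0, 85806, 80034, 103336, 87911, 75106, 75111, 87166], [223, 0, 103167, 103162, 101831, 55313, 103336, 87911, 75106, 75111], [224, 1, 75251, 59768, 103340, 85807,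 85805, 103336, 103137, 79842], [242, 0, 100057, 101867, 103336, 103067], [133, 3, 98586, 103348, 62930], [137, 5, 66123, 98586, 103348, 62930, 99954], [138, 5, 103348, 100057, 99955, 103350, 66122], [173, 2, 103067, 103348, 92161], [174, 3, 103061, 103348, 100951], [225, 3, 98547, 76031, 103348, 100093], [226, 3, 98830, 98586, 103348, 100072], [233, 2, 101273, 103067, 103348, 100999], [234, 4, 103062, 75874, 103348, 94183], [307, 3, 98858, 103348, 63373], [133, 1, 99811, 103368, 69131], [226, 1, 100068, 103368, 71211, 98353], [235, 0, 100978, 92135, 103368, 98852, 101262, 98847, 103068], [225, 3, 62568, 76043, 103374, 91018], [242, 1, 100928, 98828, 103068, 103374], [133, 1, 103379, 103375, 75873], [226, 3, 86241, 75873, 103380, 100924], [307, 3, 78071, 103380, 57695], [308, 2, 76041, 103380, 57868], [134, 1, 103386, 67644, 103365], [225, 1, 100889, 103386, 67644, 89470], [134, 2, 89294, 103390, 84398], [242, 2, 68231, 101257, 103390, 84398], [308, 2, 89461, 103390, 78675], [133, 1, 86707, 103396, 87651], [241, 2, 86707, 103396, 101258, 84398], [78, 1, 103395,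 103400], [94, 0, 84401, 103400, 86708], [96, 0, 103404, 84401, 103400, 103402, 68232], [96, 1, 68233, 103395, 103400, 86708, 103404], [174, 0, 103393, 103400, 103399], [309, 3, 89467, 103410, 89486], [310, 2, 87836, 103410, 89467], [313, 3, 70666, 103286, 103410, 103189], [175, 0, 103403, 103401, 103392, 103411, 103414], [226, 3, 86243, 86091, 103418, 100705], [133, 3, 103420, 62569, 103377, 80865], [3, 0, 100734, 103422], [6, 0, 81018, 103422, 86521], [5, 0, 100463, 103422, 100696], [8, 0, 80865, 103422, 100698], [10, 0, 91027, 103422, 69826], [9, 0, 84633, 103422, 100704], [15, 0, 91493, 103422, 66359], [24, 0, 83494, 103422, 73115], [23, 0, 81025, 103422, 74342], [6, 0, 86521, 103426], [8, 0, 86295, 103426], [10, 0, 86525, 103426, 100486], [9, 0, 89892, 103426, 100488], [15, 0, 86728, 103426], [15, 0, 100588, 103426, 100515], [24, 0, 86510, 103426, 78983], [23, 0, 86529, 103426, 100490], [6, 0, 100484, 103429], [8, 0, 86282, 103429, 84396], [10, 0, 100466, 103429, 100729], [9, 0, 100430, 103429, 58150], [15, 0, 100600, 103429, 91481], [24, 0, 86589, 103429,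 100737], [23, 0, 86590, 103429, 100673], [4, 0, 100968, 103431, 60930], [4, 0, 100357, 103431], [6, 0, 100359, 103431, 73222], [5, 0, 81011, 103431, 90882], [9, 0, 84630, 103431, 76597], [12, 0, 103377, 103431], [14, 0, 100232, 103431], [15, 0, 80867, 103431], [24, 0, 83493, 103431, 63401], [23, 0, 81028, 103431, 61321], [3, 0, 100682, 103433], [7, 0, 90907, 103433], [15, 0, 91513, 103433, 57277], [24, 0, 91030, 103433, 57859], [23, 0, 91025, 103433, 57696], [3, 0, 84400, 103435], [5, 0, 100975, 103435], [14, 0, 103409, 103435, 103403], [13, 0, 103404, 103435, 103395], [3, 0, 73888, 103437], [7, 0, 73891, 103437], [10, 0, 74358, 103437, 73283], [24, 0, 74355, 103437, 73278], [23, 0, 74362, 103437, 74352], [3, 0, 100662, 103439], [4, 0, 103455, 100677, 103440], [8, 0, 100778, 103440], [16, 0, 74616, 103440, 100350], [23, 0, 74342, 103440], [24, 0, 74327, 103440], [25, 0, 74345, 103440], [26, 0, 74339, 103440], [4, 0, 103500, 100755, 103447], [6, 0, 83023, 103447], [8, 0, 100820, 103447], [15, 0, 83296, 103447], [15, 0, 100757, 103447, 53070], [24, 0, 83014, 103447,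 61340], [23, 0, 83029, 103447, 63455], [8, 0, 100916, 103449], [15, 0, 90026, 103449], [15, 0, 100584, 103449, 56100], [24, 0, 89896, 103449, 56593], [23, 0, 90723, 103449, 57843], [3, 0, 103517, 100511, 103452], [7, 0, 103554, 80561, 103452], [10, 0, 83209, 103452, 76475], [9, 0, 83206, 103452, 83205], [15, 0, 100515, 103452], [24, 0, 83060, 103452, 61344], [23, 0, 80816, 103452, 63467], [7, 0, 76637, 103454], [24, 0, 78983, 103454], [25, 0, 78968, 103454], [8, 0, 83907, 103457], [15, 0, 84420, 103457], [24, 0, 84284, 103457], [25, 0, 84262, 103457], [4, 0, 100965, 103461, 83876], [4, 0, 94020, 103461], [5, 0, 100958, 103461], [5, 0, 86596, 103461, 84391], [10, 0, 100438, 103461, 84392], [13, 0, 101011, 103461]]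
def dJ262 : List (List ℕ) := [[15, 0, 100320, 104660], [16, 0, 100138, 104660], [16, 0, 79032, 104663], [16, 0, 76764, 104665], [9, 0, 73053, 104688], [16, 0, 61594, 104688], [24, 0, 61929, 104688], [25, 0, 61813, 104688], [9, 0, 73048, 104690], [10, 0, 81496, 104690], [16, 0, 63676, 104690], [23, 0, 63812, 104690], [26, 0, 63939, 104690], [7, 0, 104554, 104724], [16, 0, 84668, 104724], [24, 0, 84765, 104724], [25, 0, 84821, 104724], [6, 0, 87023, 104726], [7, 0, 104556, 104726], [16, 0, 86872, 104726], [23, 0, 86964, 104726], [26, 0, 87029, 104726], [8, 0, 92300, 104733], [8, 0, 91312, 104777], [233, 0, 100695, 103420, 101238, 101379], [307, 1, 73114, 103420, 65032], [308, 0, 103528, 103420, 62901], [134, 2, 55784, 104852, 103731], [234, 4, 101295, 101265, 104852, 103522], [133, 1, 104714, 104856, 103445], [134, 0, 67881, 104856, 104837], [136, 3, 104856, 104837, 104860, 104848, 54529], [140, 1, 103581, 54529, 104862, 104856, 104837, 78777, 104858], [225, 1, 68216, 104856, 104837, 100398], [226, 1, 103836, 104856, 100919, 103551], [243, 7, 101709, 103307, 52244,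 101379, 104434, 104714, 104856], [243, 3, 103580, 104827, 104862, 104856, 101295, 103327, 103219], [308, 0, 103577, 104856, 86495], [135, 5, 54529, 104871, 104857, 67880, 104861], [227, 5, 103842, 51130, 104196, 104871, 104857, 103837, 104869], [228, 6, 100798, 103581, 54529, 104871, 104857, 68217, 104867], [70, 1, 104867, 104880], [133, 1, 103697, 104880, 103823], [134, 0, 53069, 104880, 104087], [135, 1, 104884, 103697, 104880, 104882, 104083], [135, 2, 104082, 104867, 104880, 103823, 104884], [136, 0, 104886, 53069, 104880, 104882, 54540], [136, 1, 54541, 104867, 104880, 104087, 104886], [225, 1, 76503, 104880, 104087, 104199], [227, 1, 104896, 76503, 104880, 104882, 54540, 104081, 76507], [233, 4, 103372, 53066, 104880, 104666], [94, 1, 104900, 98346, 103012], [309, 1, 79138, 104900, 98579], [310, 0, 79339, 104900, 98593], [313, 2, 104900, 98581, 98574, 96635], [250, 2, 99634, 81369, 104908], [282, 1, 99489, 99482, 104908, 79137], [297, 3, 90865, 92011, 81431, 104908], [298, 2, 81429, 104908, 79139, 76841], [311, 1, 83848, 104908, 79139], [312, 0, 81435, 104908,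 79338], [249, 2, 70111, 104920, 55029], [266, 1, 104920, 102970, 102857, 54760], [281, 3, 70067, 104920, 55255, 92041], [297, 2, 79130, 79338, 104920, 61906], [298, 1, 104920, 58489, 92060, 90866], [61, 2, 104930, 73032], [125, 0, 104930, 94283, 90936], [203, 0, 104932, 104930, 104925, 102854, 102913, 85225, 85223], [305, 3, 90866, 104930, 76889], [62, 1, 76840, 104938], [113, 2, 104938, 85264, 74531], [126, 3, 85338, 94222, 104938], [298, 2, 104938, 91561, 48538, 99833], [266, 3, 102816, 72964, 99932, 104946], [297, 2, 55261, 99839, 104946, 76841], [329, 23, 104003, 104010, 12879, 47615, 47629, 42432, 46402, 46763, 23999, 92592, 92608, 92593, 56664, 103953, 103948, 56670, 100007, 24145, 24852, 99723, 56680, 99973, 99968, 56686, 56688, 56110, 102829, 102830, 102906, 100021, 100014, 99936, 104946, 94223], [37, 1, 104628, 104952], [85, 2, 84430, 104952, 86736], [86, 3, 84428, 104952, 78802], [89, 3, 104956, 84430, 104952, 104954, 76663], [89, 4, 76662, 104628, 104952, 86736, 104956], [90, 4, 104958, 84428, 104952, 104954, 76661], [90, 5, 76660, 104628, 104952, 78802,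 104958], [201, 2, 76628, 84430, 104952, 73130], [205, 4, 81147, 73348, 76662, 104628, 104952, 73130, 104968], [38, 1, 104968, 104970], [85, 0, 83307, 104970, 80891], [86, 1, 76467, 104970, 80893], [89, 0, 104974, 83307, 104970, 104972, 76452], [89, 1, 76453, 104968, 104970, 80891, 104974], [90, 1, 104976, 76467, 104970, 104972, 73129], [90, 2, 73128, 104968, 104970, 80893, 104976], [201, 2, 85331, 83305, 104984, 90934], [205, 4, 90037, 80891, 76459, 104976, 104984, 90934, 104986], [329, 19, 99558, 67855, 104454, 104984, 94053, 53591, 50119, 49532, 46379, 46139, 46295, 14369, 13496, 92751, 92707, 92750, 53046, 103525, 103522, 104715, 104722, 48726, 48898, 49611, 91920, 100045, 100042, 94212, 103996, 103660, 102673, 102676, 102932, 54865], [330, 4, 102943, 47545, 36586, 46677, 100313, 103696, 104668, 76770, 76772, 76123, 102633, 66943, 94353, 54865, 104990, 99558, 67855, 104454, 104984, 94053, 53591, 50119, 49532, 46379, 46139, 46295, 14369, 13496, 92751, 92735, 53244, 92734, 92559, 92766], [134, 2, 102503, 102508, 104992], [136, 0, 102508, 104992, 104994, 102509,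 67889], [217, 2, 63505, 67904, 104992, 102347], [303, 3, 86323, 104992, 86392], [304, 2, 83935, 104992, 84221], [329, 16, 53410, 103901, 100436, 99955, 99956, 14035, 37565, 47454, 91778, 76083, 104783, 55052, 104650, 14279, 44579, 12693, 50490, 50504, 50491, 42727, 8429, 2699, 2607, 10899, 46295, 14369, 13496, 92751, 92559, 92766, 104992, 67887, 102754, 102888], [330, 19, 92559, 99979, 99972, 104709, 104714, 68253, 94297, 104903, 102831, 102836, 47113, 13530, 44647, 100032, 104780, 83629, 104781, 104120, 92075, 69437, 104416, 12900, 47330, 47362, 37945, 6551, 1398, 917, 36890, 46677, 44700, 12881, 67895, 104992], [345, 15, 46676, 36587, 47544, 102942, 104993, 92767, 92558, 92559, 92766, 104992, 67887, 102754, 102888, 105004, 105005, 102889, 102755, 67886, 104993, 92767, 92558, 92750, 13497, 14368, 46294, 10898, 2606, 2698, 8428, 42726, 40696, 12692, 44578, 14278, 104651, 55053, 104782, 76082, 92033, 99421, 102517, 54548, 102412, 76758, 76760, 76762], [361, 3, 74506, 49820, 99652, 54865, 104990, 99558, 67855, 104454, 104984, 94053, 53591, 50119, 49532, 46379, 46139,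 46295, 14369, 13496, 92751, 92559, 92766, 104992, 102943, 47545, 36586, 46677, 105009, 76763, 76761, 76759, 102413, 54549, 102516, 99420, 92032, 76083, 104783, 55052, 104650, 14279, 44579, 12693, 12698, 12692, 101367, 102853], [266, 3, 105008, 17167, 44700, 89577], [281, 0, 81518, 105008, 100205, 80969], [297, 0, 81523, 105008, 48665, 48655], [312, 0, 79204, 105008, 44699], [265, 1, 90420, 12974, 12976, 105018], [266, 3, 99703, 12965, 12970, 105018], [282, 4, 54972, 99885, 105018, 81514], [298, 4, 48689, 48365, 105018, 87037], [266, 3, 105026, 48685, 50155, 53095], [281, 0, 87033, 105026, 48677, 47662], [282, 2, 91212, 105026, 48687, 100034], [312, 0, 87042, 105026, 48691], [314, 3, 105026, 48693, 48814, 102178], [210, 0, 101965, 88883, 105036, 87032], [309, 1, 70685, 105036, 87040], [310, 0, 102128, 105036, 87043], [94, 3, 105042, 102120, 96300], [209, 4, 84827, 105042, 102159, 99264], [313, 2, 48383, 48656, 105034, 105042], [282, 2, 80030, 105048, 48401, 101122], [298, 2, 75490, 105048, 48838, 59126], [265, 1, 97475, 97485, 58942, 105052], [266, 3, 52199, 52556,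 59048, 105052], [281, 2, 59131, 58890, 105052, 102099], [297, 1, 103091, 52635, 59133, 105052], [311, 3, 97491, 105052, 102145], [312, 2, 59133, 105052, 71936], [313, 1, 105053, 97423, 97493, 105052], [210, 3, 54114, 105057, 105066, 102099], [309, 3, 102144, 105066, 102145], [310, 2, 71937, 105066, 71936], [314, 3, 65495, 71932, 105066, 71344], [95, 5, 101810, 88666, 88664, 101717, 105074], [95, 4, 105074, 101802, 88664, 88663, 101811], [210, 1, 101721, 105074, 101804, 97857], [248, 0, 65496, 103290, 71582, 70491, 70249, 103282, 105074, 105076], [248, 0, 103283, 70248, 71585, 71582, 65501, 103184, 105078, 105074], [174, 1, 105078, 105085, 105075], [234, 2, 101717, 105085, 105075, 101716], [241, 2, 103282, 105085, 105075, 103283], [94, 0, 103277, 105090, 103276], [209, 1, 103279, 105090, 103276, 103288], [210, 1, 103281, 105090, 103280, 103252], [211, 1, 105094, 103279, 105090, 105090, 103276, 65498, 79536], [212, 2, 105096, 103281, 105090, 105090, 103280, 103252, 85635], [242, 0, 65500, 70491, 70249, 105090], [246, 1, 103290, 71582, 70491, 70249, 105090, 105090,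 105102], [236, 4, 103276, 65498, 105103, 105091, 105091, 103183, 65499], [134, 2, 103291, 105106, 70248], [136, 3, 105108, 103291, 105106, 105102, 65500], [136, 4, 65501, 105104, 105106, 70248, 105108], [225, 3, 59769, 103318, 105106, 70670], [226, 3, 101807, 65496, 105106, 103284], [227, 5, 103326, 58599, 65897, 105104, 105106, 70670, 105114], [70, 1, 105114, 105118], [133, 1, 103341, 105118, 103219], [134, 0, 59768, 105118, 103326], [135, 1, 105122, 103341, 105118, 105120, 52244], [135, 2, 52245, 105114, 105118, 103219, 105122], [136, 0, 105124, 59768, 105118, 105120, 103306], [136, 1, 103307, 105114, 105118, 103326, 105124], [139, 1, 105130, 105124, 103316, 103341, 105118, 105120, 52244], [177, 5, 104858, 104864, 101371, 105118, 105120], [93, 1, 52242, 105136, 100641], [210, 1, 103305, 105136, 103442, 103655], [213, 6, 103521, 73121, 103659, 105140, 101819, 103303, 105136], [233, 2, 52242, 105136, 104858, 104706], [309, 1, 59978, 105136, 103577], [313, 1, 103311, 105136, 103579, 68253], [93, 3, 105143, 105137, 103300], [97, 4, 105139, 103520, 105143, 105137,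 103300], [210, 3, 103669, 105143, 105137, 103302], [213, 7, 100697, 103443, 105137, 103304, 101819, 105154, 103522], [90, 2, 100374, 103522, 105156, 100697, 103655], [94, 0, 103313, 105147, 105156], [98, 1, 103313, 105147, 105156, 54858, 105155], [201, 0, 103836, 105156, 103625, 100428], [205, 0, 105164, 103836, 105156, 54858, 68403, 103959, 103960], [209, 1, 103315, 105147, 105156, 100697], [94, 1, 105141, 103654, 105168], [314, 3, 73340, 73132, 105168, 101896], [210, 1, 72498, 105172, 76662, 104628], [309, 1, 72390, 105172, 74630], [310, 0, 72430, 105172, 73353], [93, 2, 105175, 104952, 105178], [210, 3, 84430, 104952, 105178, 72478], [94, 1, 105182, 104962, 105173], [241, 4, 104368, 69127, 105182, 104387], [310, 0, 88593, 105182, 76668], [93, 2, 105179, 104954, 105188], [94, 1, 105175, 104629, 105188], [210, 3, 86737, 104954, 105188, 88602], [234, 4, 105188, 105192, 103387, 104486], [242, 0, 94212, 105188, 88404, 101286]]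
def dJ266 : List (List ℕ) := [[8, 0, 92296, 106396], [7, 0, 104844, 106399], [133, 1, 99115, 106092, 106394], [221, 4, 76984, 87071, 91236, 106394, 106401, 91225, 106224], [126, 0, 92588, 92603, 106406], [129, 1, 79221, 106224, 106406, 79223, 105990], [329, 25, 99746, 99984, 94160, 103825, 103822, 102901, 102819, 101414, 41285, 101415, 101423, 69962, 101524, 102436, 104111, 76082, 92072, 69432, 105969, 105945, 105942, 81167, 102373, 102366, 99505, 99506, 104371, 56916, 100982, 103898, 100840, 106406, 101559, 56904], [330, 3, 105764, 105786, 54528, 100695, 100809, 60927, 47857, 44634, 46558, 42628, 8078, 2681, 2632, 36760, 50660, 50667, 50122, 69479, 102357, 102303, 102429, 102622, 80869, 100202, 99754, 99588, 99442, 92251, 106406, 61587, 93865, 93874, 93864, 102292], [38, 2, 106414, 69969], [92, 0, 106039, 105823, 106320, 69485, 67901, 106414, 69969], [206, 4, 68051, 106414, 69969, 106418, 106039, 85566, 85406], [234, 2, 106414, 105994, 105066, 105054], [236, 7, 59056, 59056, 105057, 105054, 106422, 106414, 69969], [225, 1, 76958, 106424, 52200, 96236], [307, 1,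 79226, 106424, 96229], [308, 0, 76899, 106424, 59060], [134, 2, 99203, 106430, 76759], [226, 3, 96103, 58555, 106430, 76954], [233, 2, 99199, 59058, 106430, 105875], [234, 4, 96204, 96198, 106430, 106306], [235, 4, 99199, 59058, 59058, 106430, 105875, 106310, 106438], [86, 1, 96201, 106440, 102136], [202, 2, 75957, 106440, 102136, 102096], [205, 0, 99219, 99226, 96199, 106440, 79859, 87296, 102152], [209, 1, 96201, 96205, 106440, 102136], [211, 1, 106448, 96201, 96205, 96205, 106440, 99199, 99200], [313, 2, 47895, 47439, 99071, 106450], [312, 0, 59098, 106452, 47907], [249, 2, 42661, 106454, 58592], [313, 1, 95033, 47813, 47505, 106454], [309, 3, 102106, 106458, 77513], [311, 3, 60287, 106456, 47502], [86, 3, 102114, 106446, 96340], [94, 2, 90157, 106254, 106446], [98, 3, 106304, 90157, 106254, 106446, 99219], [234, 2, 98243, 106094, 106254, 106446], [133, 3, 96343, 106470, 96346], [134, 2, 96346, 106470, 65958], [174, 3, 106467, 106470, 95712], [225, 3, 58558, 82091, 106470, 96427], [308, 2, 82093, 106470, 96455], [308, 0, 96512, 106478, 96513], [134, 2, 52679,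 106482, 52678], [173, 2, 102963, 106482, 102962], [228, 6, 75518, 96523, 96509, 106482, 106482, 75536, 106250], [70, 1, 106250, 106488], [225, 1, 79788, 106488, 71977, 96462], [308, 2, 64426, 106492, 64428], [233, 0, 105667, 106486, 105666, 96725], [133, 3, 96987, 106496, 105991], [225, 3, 99172, 96989, 106496, 92604], [226, 3, 98323, 96987, 106496, 92248], [133, 1, 106224, 106502, 98198], [134, 0, 106407, 106502, 98200], [173, 3, 106163, 92266, 106502], [209, 1, 77688, 106508, 98493, 77683], [309, 1, 71783, 106508, 98500], [310, 0, 70699, 106508, 71910], [93, 0, 106514, 98293, 106515], [210, 3, 77690, 106516, 106514, 77663], [241, 4, 106514, 98296, 96674, 99332], [137, 2, 99408, 99332, 106520, 97259, 53806], [138, 4, 53807, 106167, 99409, 99421, 106520], [174, 3, 106021, 106075, 106518], [176, 4, 106343, 106331, 106021, 106075, 106518], [176, 3, 106518, 106526, 106021, 106042, 106342], [314, 1, 52223, 106518, 98742, 89112], [173, 2, 106329, 106349, 106532], [133, 1, 52225, 106534, 105934], [134, 0, 98481, 106534, 55048], [233, 4, 106538, 98642, 106151, 99177],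 [307, 3, 105961, 106538, 98656], [308, 2, 105970, 106538, 64365], [134, 0, 98711, 106544, 105857], [234, 0, 99074, 106183, 98705, 106544], [93, 3, 63672, 106548, 96138], [94, 3, 106548, 99074, 102186], [97, 0, 63672, 106548, 96138, 101956, 102186], [310, 2, 63932, 106548, 71055], [313, 0, 106548, 65937, 47608, 47656], [266, 4, 14371, 14367, 106558, 63673], [282, 4, 74715, 100077, 106558, 90320], [311, 1, 90317, 106562, 74751], [313, 1, 53784, 101099, 74766, 106564], [94, 2, 106421, 106566, 96398], [97, 0, 85406, 106566, 102083, 102084, 106568], [174, 3, 106566, 106481, 96448], [307, 1, 57141, 106572, 91285], [86, 3, 63182, 106570, 85563], [94, 2, 106576, 96301, 96292], [201, 1, 106576, 69490, 69485, 92767], [204, 5, 74992, 106576, 63182, 57510, 84940, 84943, 92767], [265, 2, 106576, 63189, 63685, 99941], [266, 2, 106576, 62960, 63167, 63506], [299, 1, 74987, 106576, 63500], [93, 1, 95368, 95322, 106588], [266, 2, 94049, 53588, 53099, 106588], [173, 0, 106590, 106390, 106591], [134, 2, 66946, 106594, 66947], [307, 3, 74986, 106594, 74987], [308, 2, 73731, 106594,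 73730], [133, 1, 73596, 106600, 73597], [134, 0, 106267, 106600, 106266], [225, 1, 73749, 106600, 106266, 106285], [227, 7, 73751, 106061, 106606, 73749, 106600, 106600, 106266], [234, 2, 105904, 106600, 106270, 99126], [243, 3, 106608, 73596, 106600, 106600, 106270, 59142, 96117], [93, 1, 101086, 96354, 106612, 92409], [4, 0, 92409, 106614], [8, 0, 92406, 106614], [94, 3, 99392, 98191, 106612], [233, 2, 96354, 106612, 106604, 106617], [314, 4, 56527, 100892, 98552, 106612], [250, 3, 92492, 106624, 100910], [134, 1, 106619, 106622, 62581, 106439], [7, 0, 106618, 106629], [16, 0, 92404, 106629, 104357], [7, 0, 92402, 106633], [225, 1, 102657, 106622, 62581, 75956], [307, 1, 61916, 106622, 95584], [308, 0, 102659, 106622, 62595], [133, 3, 55796, 106640, 106201], [134, 2, 95577, 106640, 53088], [226, 3, 77977, 55796, 106640, 69798], [133, 1, 56119, 106646, 77900], [241, 2, 56119, 106646, 101932, 92584], [308, 0, 57875, 106646, 78116], [133, 3, 95965, 106652, 102977], [308, 0, 57515, 106654, 88218], [93, 3, 106650, 102590, 106651, 92586], [3, 0, 92586, 106658], [7,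 0, 92589, 106658], [9, 0, 105992, 106658], [10, 0, 106408, 106658], [174, 1, 106650, 106649, 96925], [133, 3, 99080, 106668, 92585], [137, 4, 106500, 53811, 99080, 106668, 92585], [242, 4, 106668, 106662, 98031, 98026], [233, 3, 106674, 106668, 106660, 106669], [38, 1, 96919, 106676], [94, 0, 106679, 106674, 106676], [202, 3, 106678, 95793, 79983, 95747], [125, 2, 106682, 98027, 95820], [125, 1, 106672, 92603, 106225], [126, 2, 106672, 92605, 106410], [119, 0, 87054, 87059, 91232, 91227, 73070, 79220, 106688], [281, 2, 99707, 50566, 99708, 106690], [114, 1, 106666, 76984, 91235], [298, 2, 106666, 61587, 102479, 69790], [282, 1, 106696, 106695, 91059, 91174], [45, 2, 106698, 84219], [133, 2, 106423, 95483, 106638], [53, 1, 51135, 106634], [125, 1, 104387, 74525, 106634], [126, 2, 104075, 73230, 106634], [217, 1, 93583, 104420, 74525, 106634], [218, 3, 104315, 104316, 104351, 106634], [241, 2, 106635, 105553, 104353, 106634], [94, 0, 92400, 106714, 92401], [209, 0, 105633, 106711, 106714, 92401], [45, 2, 106718, 105655], [113, 3, 106718, 105650, 76662], [114, 0,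 106718, 105648, 76459], [217, 0, 106718, 105646, 104412, 104380], [281, 0, 106718, 105628, 103621, 56798], [302, 3, 106718, 105631, 106711], [317, 0, 106718, 105635, 106711], [319, 2, 56554, 106705, 106732, 92399], [8, 0, 92399, 106734], [15, 0, 92396, 106734, 56084], [7, 0, 92394, 106739, 91829], [3, 0, 92392, 106741], [328, 0, 106732, 106729, 56856], [249, 1, 100546, 51753, 106744], [266, 4, 92525, 92400, 106746, 103972], [329, 11, 103947, 106748, 106727, 104330, 100100, 106028, 76759, 101490, 106609, 106627, 13496, 47555, 47545, 36590, 28525, 36784, 8429, 73793, 101090, 101095, 51178, 56920, 56934, 56921, 56338, 106402, 103004, 106401, 106215, 100056, 104599, 104606, 56109, 104134], [89, 1, 100579, 51156, 106750, 100618, 103846], [90, 1, 103774, 100518, 106750, 104159, 100659], [233, 2, 106750, 105315, 105621, 106752], [133, 1, 104135, 106756, 51158], [134, 0, 103776, 106756, 104135], [226, 1, 104137, 106756, 73285, 66356], [228, 2, 106762, 104137, 106756, 106759, 73282, 103795, 103783], [228, 2, 106764, 73283, 106761, 106756, 73285, 66356, 103795], [37, 1,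 91823, 106742], [85, 1, 45408, 91825, 106742], [86, 2, 65187, 91827, 106742], [201, 1, 48641, 46641, 91825, 106742], [202, 3, 17358, 50259, 91898, 106742], [265, 2, 51149, 51467, 100106, 106742], [266, 2, 105866, 106210, 57613, 106742], [125, 2, 106776, 46676, 51014], [133, 3, 106704, 105543, 106736], [126, 0, 106630, 79256, 104846], [127, 4, 74131, 106630, 102656, 102747, 104846], [130, 5, 79246, 102402, 106630, 79256, 104846], [133, 1, 106790, 102606, 86102], [362, 16, 86302, 102709, 102710, 86308, 11892, 12206, 46107, 39028, 46764, 24821, 23781, 100859, 103909, 100990, 94128, 104450, 99596, 91749, 99561, 99749, 53405, 103591, 84397, 100729, 76455, 103539, 103542, 94252, 104950, 47565, 47355, 47564, 47553, 13776, 106558, 105857, 106301, 106790, 79024, 105990, 99481, 99387, 51975, 39063, 12216, 47933], [266, 1, 53559, 47946, 106794, 86441], [312, 0, 47989, 106794, 86478]]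
def dJ270 : List (List ℕ) := [[281, 1, 107990, 91955, 56399, 106856], [282, 3, 107990, 18757, 49656, 106024], [295, 2, 107990, 18757, 107991], [297, 1, 107990, 99767, 99772, 106281], [298, 3, 107990, 44559, 99727, 106275], [311, 2, 107990, 44559, 92556], [313, 1, 107990, 45473, 45482, 86309], [328, 1, 107990, 44573, 92556], [343, 2, 107990, 41782, 107991], [359, 2, 107990, 41074, 107991], [375, 2, 107990, 18759, 107991], [367, 0, 107988, 108020, 107989], [351, 0, 107988, 108018, 107989], [335, 0, 107988, 108016, 107989], [320, 3, 92559, 108014, 107989], [323, 1, 108028, 106812, 108014], [174, 2, 106184, 108012, 108030], [225, 2, 106060, 51774, 108006, 108030], [259, 2, 108031, 107995, 108030], [275, 2, 108031, 107999, 108030], [291, 2, 108031, 108005, 108030], [308, 1, 106812, 108010, 108030], [300, 0, 108042, 92771, 61845], [309, 3, 108042, 92772, 61845], [311, 3, 108042, 92750, 14290], [312, 0, 108042, 92735, 104694], [297, 1, 106624, 100906, 104694, 108050], [0, 0], [361, 3, 104561, 104562, 100878, 103661, 103654, 100698, 103486, 80868, 99429, 99559, 106693,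 56905, 101558, 106407, 100841, 103899, 100983, 56917, 104372, 46109, 12029, 44561, 107991, 107989, 107987, 105000, 94147, 57906, 104977, 105385, 91575, 50581, 50553, 25403, 99908, 69962, 101524, 102436, 80582, 12878, 44678, 44663, 11856, 44662, 106294, 108054], [250, 1, 108056, 56569, 51547], [263, 2, 108056, 56513, 108057], [265, 1, 108056, 92101, 57620, 92050], [266, 3, 108056, 56463, 100868, 101400], [279, 2, 108056, 56463, 108057], [281, 1, 108056, 104561, 53690, 108050], [295, 2, 108056, 56413, 108057], [313, 1, 108056, 57801, 57802, 108057], [330, 12, 108056, 104189, 104333, 56082, 99379, 99359, 99354, 56900, 56902, 56904, 56906, 105935, 105936, 104604, 104486, 56916, 56918, 102593, 102590, 56119, 56117, 102906, 66572, 102907, 102831, 102828, 56111, 56689, 56687, 99969, 99972, 106273, 73597, 101492], [343, 2, 108056, 56321, 108057], [359, 2, 108056, 56263, 108057], [375, 2, 108056, 56205, 108057], [133, 1, 55292, 106118, 108074], [0, 0], [225, 2, 47084, 47087, 52120, 108084], [62, 2, 108086, 48788], [113, 2, 108086, 37272, 51014], [114, 1, 108086, 13526,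 66286], [125, 2, 108086, 47935, 99842], [126, 1, 108086, 44647, 100211], [257, 2, 108086, 42321, 108087], [273, 2, 108086, 13535, 108087], [289, 2, 108086, 13537, 108087], [297, 2, 108086, 13539, 42575, 50911], [298, 2, 108086, 42443, 25991, 66310], [337, 2, 108086, 41376, 108087], [353, 2, 108086, 40688, 108087], [369, 2, 108086, 13543, 108087], [0, 0], [227, 3, 47926, 47922, 47931, 47087, 52120, 108084, 108114], [62, 2, 108116, 47756], [201, 2, 108116, 47739, 47735, 108117], [226, 3, 108116, 47764, 39049, 52120], [257, 2, 108116, 47741, 108117], [273, 2, 108116, 47747, 108117], [289, 2, 108116, 47749, 108117], [337, 2, 108116, 47751, 108117], [353, 2, 108116, 47753, 108117], [369, 2, 108116, 47755, 108117], [0, 0], [231, 5, 37275, 47084, 47087, 52120, 52123, 50839, 50837, 108136], [113, 2, 108138, 49746, 49762], [125, 2, 108138, 47762, 108117], [225, 1, 108138, 37275, 44647, 100211], [226, 3, 108138, 47762, 47925, 62884], [257, 2, 108138, 42750, 108139], [273, 2, 108138, 17319, 108139], [289, 2, 108138, 17321, 108139], [337, 2, 108138, 41387, 108139], [353, 2,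 108138, 40699, 108139], [369, 2, 108138, 17323, 108139], [174, 0, 101045, 100229, 108146], [77, 2, 108160, 100230], [209, 0, 108160, 65084, 50350, 65278], [0, 0], [0, 0], [329, 11, 103338, 102019, 52236, 106442, 105685, 99001, 60306, 98162, 52674, 95680, 50200, 47161, 46790, 95018, 63987, 63985, 63983, 63981, 24803, 48828, 48823, 46512, 41468, 46513, 46514, 1629, 1394, 8688, 36846, 46662, 24121, 23794, 108166, 108168], [85, 1, 108170, 59957, 101228], [86, 2, 108170, 64034, 107622], [93, 1, 108170, 92063, 92080], [202, 3, 108170, 64034, 75110, 103048], [251, 2, 108170, 53827, 108171], [265, 2, 108170, 53828, 96453, 96442], [266, 2, 108170, 53824, 49179, 49190], [267, 2, 108170, 53829, 108171], [283, 2, 108170, 53831, 108171], [299, 2, 108170, 79402, 107870], [316, 1, 108170, 79404, 107870], [329, 1, 108168, 108170, 103338, 101908, 97188, 23927, 46396, 96729, 52201, 96377, 95483, 95490, 64027, 101735, 52841, 101770, 102095, 102092, 64015, 64523, 64521, 97985, 97986, 97822, 39071, 12239, 12310, 97092, 99081, 99043, 58586, 99196, 41252, 99197], [331, 2, 108170, 53833,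 108171], [347, 2, 108170, 53835, 108171], [363, 2, 108170, 53837, 108171], [367, 0, 108168, 108200, 108169], [351, 0, 108168, 108198, 108169], [335, 0, 108168, 108196, 108169], [249, 3, 108167, 99197, 108194], [265, 1, 53817, 101970, 58902, 108194], [266, 3, 101925, 77981, 99183, 108194], [279, 2, 108195, 58903, 108194], [295, 2, 108195, 58851, 108194], [298, 3, 107063, 55614, 99193, 108194], [311, 2, 107786, 60280, 108194], [328, 1, 107786, 60279, 108194], [324, 0, 108222, 107889, 58093], [325, 3, 108222, 107891, 56855], [134, 2, 103707, 108224, 108168], [226, 2, 108228, 100835, 53081, 107036], [0, 0], [0, 0], [0, 0], [0, 0], [0, 0], [0, 0], [0, 0], [0, 0], [0, 0], [0, 0], [0, 0], [345, 18, 107131, 50200, 47161, 46790, 46791, 47160, 50201, 95681, 52675, 98163, 60307, 60306, 98162, 52674, 95680, 50200, 47161, 46790, 95018, 63987, 63985, 63983, 63981, 24803, 48828, 48823, 46512, 40778, 47086, 47081, 12177, 64029, 64027, 101735, 52841, 108232, 108234, 108236, 108238, 108240, 108242, 108244, 108246, 108248, 108250, 108252], [53, 2, 108254, 80317], [125, 3, 108254,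 107632, 107615], [126, 0, 108254, 107326, 107309], [133, 3, 108254, 107125, 82470], [134, 0, 108254, 107293, 107282], [218, 1, 108254, 80499, 98836, 108219], [255, 0, 108254, 80456, 108255], [271, 0, 108254, 80440, 108255], [287, 0, 108254, 80422, 108255], [303, 0, 108254, 80494, 107288], [320, 3, 108254, 80502, 107288], [330, 3, 108252, 108254, 101276, 52675, 98163, 60307, 98655, 98481, 98477, 52224, 98728, 64521, 97985, 97986, 97822, 39071, 12239, 12310, 98383, 98601, 101204, 58599, 103222, 107584, 107596, 97600, 95321, 96412, 107494, 107580, 77902, 77056, 41717, 77057, 105255], [4, 0, 108253, 108279], [7, 0, 108250, 108279, 105254], [16, 0, 108248, 108283, 77903], [8, 0, 108246, 108285, 107581], [3, 0, 108244, 108287, 107495], [8, 0, 108242, 108289, 96413], [15, 0, 108240, 108291, 97567], [7, 0, 108238, 108293, 68932], [3, 0, 108236, 108295], [335, 0, 108254, 80394, 108255], [351, 0, 108254, 80376, 108255], [367, 0, 108254, 80358, 108255], [37, 1, 97615, 108296], [85, 1, 26166, 97617, 108296], [86, 2, 47092, 97619, 108296], [93, 1, 99933, 97627, 108296], [201,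 1, 46616, 49964, 97617, 108296], [202, 3, 49569, 49562, 97623, 108296], [234, 2, 99821, 107188, 107204, 108296], [251, 2, 108297, 69045, 108296], [265, 2, 97867, 69027, 68935, 108296], [266, 2, 98346, 101251, 69029, 108296], [267, 2, 108297, 69029, 108296], [283, 2, 108297, 69013, 108296], [299, 2, 101222, 97742, 108296], [300, 1, 97140, 97631, 108296], [315, 2, 97140, 97633, 108296], [316, 1, 101222, 97744, 108296], [330, 17, 102095, 102092, 64015, 64523, 64521, 97985, 97986, 97822, 39071, 12239, 12310, 97092, 99081, 99043, 58586, 99196, 108166, 108206, 108167, 23795, 24120, 46663, 42341, 45920, 46682, 45590, 77904, 107581, 107495, 96413, 97567, 68932, 108296, 108235], [331, 2, 108297, 68997, 108296], [347, 2, 108297, 68981, 108296], [362, 40, 46552, 52640, 105065, 65493, 102179, 48823, 23717, 48822, 48829, 24802, 63980, 63982, 63984, 63986, 97713, 97521, 97518, 64744, 64746, 64748, 98597, 98598, 98144, 46397, 23926, 97189, 101909, 103339, 108171, 108169, 108167, 23795, 24120, 46663, 42341, 45920, 46682, 45590, 77904, 107581, 107495, 96413, 97567, 68932, 108296,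 108235], [363, 2, 108297, 68965, 108296], [367, 0, 108234, 108344, 108235], [61, 2, 108342, 42653], [113, 0, 108342, 52639, 52636], [114, 3, 108342, 46552, 47027], [125, 0, 108342, 13731, 107222], [129, 0, 108354, 108342, 13731, 13744, 108313], [257, 0, 108342, 42661, 108343], [273, 0, 108342, 13734, 108343], [289, 0, 108342, 13736, 108343], [298, 0, 108342, 106454, 102010, 102177], [306, 3, 108342, 47906, 107142], [321, 0, 108342, 47908, 107142], [322, 3, 108342, 47504, 101130], [337, 0, 108342, 41452, 108343], [353, 0, 108342, 40762, 108343], [316, 0, 97577, 68931, 108370], [324, 0, 57315, 107148, 108370], [325, 3, 56146, 101124, 108370], [38, 1, 97718, 108280], [94, 0, 104066, 105252, 108280], [265, 0, 70199, 97390, 108280, 108271], [249, 2, 108269, 108386, 96101], [0, 0], [0, 0], [0, 0], [0, 0], [0, 0]]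
def dJ274 : List (List ℕ) := [[269, 2, 109590, 17145, 109591], [285, 2, 109590, 17147, 109591], [333, 2, 109590, 41753, 109591], [349, 2, 109590, 41045, 109591], [365, 2, 109590, 17149, 109591], [0, 0], [215, 5, 13509, 13434, 12983, 94566, 94587, 50848, 50851, 109610], [85, 2, 109612, 45962, 109591], [114, 2, 109612, 42651, 46800], [209, 1, 109612, 13509, 13436, 99629], [210, 3, 109612, 45962, 45949, 97284], [253, 2, 109612, 42713, 109613], [269, 2, 109612, 13519, 109613], [285, 2, 109612, 13521, 109613], [333, 2, 109612, 41414, 109613], [349, 2, 109612, 40724, 109613], [365, 2, 109612, 13523, 109613], [173, 0, 97148, 107147, 109620], [69, 2, 109634, 99835], [134, 3, 109634, 107926, 107915], [225, 0, 109634, 97209, 49292, 49826], [0, 0], [0, 0], [0, 0], [0, 0], [0, 0], [0, 0], [0, 0], [0, 0], [0, 0], [0, 0], [0, 0], [329, 13, 52666, 52668, 52670, 52672, 52674, 52676, 52678, 98895, 98890, 52227, 52225, 52223, 52221, 98096, 97912, 101244, 108390, 108488, 103328, 85638, 41570, 85639, 86105, 109642, 109644, 109646, 109648, 109650, 109652, 109654, 109656, 109658, 109660,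 109662], [250, 1, 109664, 52665, 52821], [263, 2, 109664, 52818, 109665], [266, 3, 109664, 52796, 101186, 65503], [279, 2, 109664, 52796, 109665], [281, 1, 109664, 97343, 46890, 96606], [282, 3, 109664, 52774, 97207, 96695], [295, 2, 109664, 52774, 109665], [298, 3, 109664, 60540, 97287, 96740], [343, 2, 109664, 52752, 109665], [359, 2, 109664, 52730, 109665], [361, 40, 109660, 109662, 109664, 52666, 52668, 52670, 52702, 52671, 97542, 95729, 98973, 98968, 79971, 99012, 52221, 98096, 97912, 95211, 47087, 11863, 12336, 95112, 52205, 52203, 52201, 52199, 52197, 52195, 52193, 52075, 52253, 52251, 52249, 52247, 52245, 52243, 52241, 101906, 47891, 12253, 39074, 60749, 105472, 108491, 108502, 101859, 103290], [4, 0, 109661, 109687], [7, 0, 109658, 109687, 103291], [16, 0, 109656, 109691, 101858], [8, 0, 109654, 109693, 108503], [3, 0, 109652, 109695, 108490], [8, 0, 109650, 109697, 105473], [15, 0, 109648, 109699, 101662], [8, 0, 109646, 109701], [375, 2, 109664, 52708, 109665], [367, 0, 109662, 109704, 109663], [54, 1, 109643, 86103, 109702], [3, 0, 109644, 109708],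 [7, 0, 109702, 109708], [125, 3, 95962, 86167, 109713], [126, 0, 95728, 86168, 109713], [134, 0, 79022, 102606, 109713], [255, 0, 109712, 86173, 109713], [271, 0, 109712, 86175, 109713], [287, 0, 109712, 86177, 109713], [329, 17, 98444, 96655, 98066, 95133, 58606, 52161, 55766, 96185, 59392, 96193, 59388, 96100, 70742, 71852, 71299, 71261, 65435, 71260, 71262, 8356, 8316, 10742, 12087, 44739, 44735, 14250, 108485, 108391, 101247, 105256, 102157, 102155, 101957, 109713], [330, 17, 97259, 97256, 98763, 97396, 52659, 102123, 102124, 71344, 103283, 103276, 103290, 71569, 70480, 97883, 97888, 65409, 71263, 71284, 71262, 8356, 8316, 10742, 12087, 44739, 44735, 14250, 108485, 108391, 101247, 105256, 102157, 102155, 101957, 109713], [335, 0, 109712, 86151, 109713], [351, 0, 109712, 86137, 109713], [361, 46, 109712, 101663, 105472, 101938, 96411, 79792, 96314, 59392, 96193, 59388, 108388, 108257, 105334, 59380, 103039, 98027, 98022, 71976, 98951, 52659, 102123, 102124, 105053, 97486, 101152, 52671, 97542, 95729, 101600, 96425, 96428, 50085, 49472, 49295, 48145, 44739, 44735,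 14250, 108485, 108391, 101247, 105256, 102157, 102155, 101957, 109713], [281, 3, 109725, 109728, 77691, 98742], [209, 3, 98441, 77692, 106365, 109736], [210, 1, 82146, 106141, 109736, 109710], [38, 1, 107317, 109688], [85, 3, 98616, 75107, 109688], [86, 0, 98842, 87911, 109688], [94, 0, 109671, 71583, 109688], [234, 4, 109748, 109671, 105113, 109688], [251, 0, 109689, 71570, 109688], [266, 4, 59291, 101185, 71568, 109688], [267, 0, 109689, 71572, 109688], [283, 0, 109689, 71574, 109688], [299, 0, 109671, 71581, 109688], [316, 3, 109671, 71587, 109688], [331, 0, 109689, 71509, 109688], [347, 0, 109689, 71451, 109688], [266, 4, 109756, 109689, 95817, 101193], [322, 2, 109762, 109681, 87820], [323, 3, 109763, 109751, 109762], [225, 1, 109680, 109772, 109663, 109771], [133, 3, 98527, 109774, 98534], [134, 2, 98534, 109774, 86095], [0, 0], [0, 0], [0, 0], [0, 0], [0, 0], [0, 0], [0, 0], [361, 10, 52841, 52839, 52837, 62852, 12337, 11862, 47086, 95210, 97913, 98097, 52220, 52222, 52224, 52226, 98891, 99031, 52232, 52234, 52236, 52238, 52240, 52242, 52244, 52246, 52248,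 52250, 52252, 52073, 923, 36894, 36940, 37271, 44644, 12265, 11928, 11936, 11929, 61987, 61985, 109780, 109782, 109784, 109786, 109788, 109790, 109792], [249, 0, 109794, 52842, 53031], [263, 0, 109794, 53028, 109795], [279, 0, 109794, 53002, 109795], [281, 4, 109794, 103153, 109780, 109782], [295, 1, 109794, 52972, 109795, 109803], [8, 0, 109792, 109805], [15, 0, 109795, 109805], [16, 0, 109796, 109805], [17, 0, 109804, 109799, 109805], [19, 0, 109804, 109801, 109805], [21, 0, 109802, 109805], [285, 2, 109782, 109816, 109783], [286, 3, 109785, 109816, 109784], [288, 3, 109807, 109816, 109806], [281, 0, 72490, 109809, 109784, 109820], [249, 0, 109824, 64746, 64952], [263, 0, 109824, 64955, 109825], [279, 0, 109824, 64929, 109825], [282, 1, 109824, 103151, 109780, 109819], [297, 4, 109824, 103309, 109024, 109089], [298, 1, 109787, 109824, 103285, 109191, 109172], [8, 0, 109789, 109837, 109006], [9, 0, 109786, 109837], [4, 0, 109791, 109839], [311, 0, 109824, 65029, 105436], [313, 4, 109824, 105294, 53070, 107073], [327, 0, 109824, 64991, 109009], [329, 4, 109824,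 64745, 97519, 97520, 97712, 63987, 63985, 63983, 63981, 24803, 48828, 48823, 46512, 47086, 47081, 12177, 64029, 64027, 101735, 52841, 108232, 108234, 108297, 68933, 97805, 97601, 107597, 107585, 103223, 58752, 103222, 107096, 109123, 109162], [343, 0, 109824, 64856, 109825], [359, 0, 109824, 64826, 109825], [375, 0, 109824, 64796, 109825], [266, 1, 95440, 105296, 109825, 109830], [85, 2, 109784, 109858, 107069], [93, 3, 109858, 105314, 104159], [210, 3, 109784, 109858, 105314, 76460], [329, 30, 109858, 95439, 107094, 69225, 107095, 103237, 103230, 98373, 98374, 55790, 96986, 96887, 96890, 68571, 47422, 47826, 47821, 37957, 938, 36749, 8277, 46525, 46432, 46757, 24741, 99167, 99160, 97154, 75058, 97971, 97964, 101703, 103307, 109024], [126, 0, 109123, 109000, 109866], [133, 3, 53072, 109150, 109866], [208, 8, 109832, 109868, 109130, 109005, 109163, 109000, 109089, 109842], [201, 1, 107092, 109869, 109833, 109873], [113, 0, 109874, 95430, 95432], [114, 3, 109874, 95429, 107104], [218, 2, 109782, 109806, 109874, 95429], [257, 0, 109874, 95908, 109875], [273, 0, 109874,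 95894, 109875], [297, 0, 109874, 107077, 72448, 59630], [337, 0, 109874, 95874, 109875], [353, 0, 109874, 95841, 109875], [369, 0, 109874, 95856, 109875], [364, 3, 109873, 109892, 109872], [367, 2, 109806, 109892, 109807], [348, 3, 109873, 109890, 109872], [351, 2, 109806, 109890, 109807], [332, 3, 109873, 109888, 109872], [335, 2, 109806, 109888, 109807], [249, 1, 59378, 59591, 109886], [266, 4, 80442, 105334, 109886, 109872], [312, 1, 109810, 59630, 109886], [313, 1, 56690, 105336, 60872, 109886], [327, 2, 109810, 59608, 109886], [318, 1, 109878, 109914, 109783], [316, 0, 109916, 109859, 109849], [323, 3, 109916, 105621, 61284], [325, 3, 109916, 105314, 63475], [383, 0, 109916, 95445, 109917], [395, 0, 109916, 95447, 109917], [310, 3, 105314, 63470, 109922], [133, 0, 109198, 104251, 109920], [174, 3, 109912, 106760, 109864], [0, 0], [213, 3, 48935, 44641, 44616, 12239, 48851, 101129, 109934], [46, 2, 109936, 48935], [86, 1, 109936, 48885, 93479], [113, 1, 109936, 48896, 48979], [201, 3, 109936, 48903, 44761, 14343], [210, 3, 109936, 48903, 26185, 56331], [253,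 2, 109936, 48936, 109937], [269, 2, 109936, 48938, 109937], [285, 2, 109936, 48940, 109937], [333, 2, 109936, 48928, 109937], [349, 2, 109936, 48926, 109937], [365, 2, 109936, 48924, 109937], [174, 3, 101121, 107150, 109946], [233, 0, 108376, 100027, 100014, 109946], [0, 0], [229, 3, 50780, 12675, 12678, 12311, 44841, 71865, 109964], [62, 2, 109966, 50780], [114, 1, 109966, 50821, 47195], [126, 1, 109966, 50770, 92275], [217, 3, 109966, 50789, 48514, 46907], [226, 3, 109966, 50789, 99731, 81086], [257, 2, 109966, 50823, 109967], [273, 2, 109966, 50825, 109967], [289, 2, 109966, 50827, 109967], [337, 2, 109966, 50814, 109967], [353, 2, 109966, 50812, 109967], [369, 2, 109966, 50810, 109967], [173, 3, 92121, 99569, 109976], [234, 0, 70768, 101048, 104990, 109976], [0, 0], [297, 2, 47027, 47007, 102173, 109994], [250, 1, 109996, 97500, 82661]]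
def dJ278 : List (List ℕ) := [[271, 0, 111030, 111198, 111031], [267, 2, 111028, 111200, 111029], [271, 0, 111026, 111202, 111027], [280, 3, 111024, 111204, 111025], [272, 1, 111022, 111206, 111023], [268, 3, 111020, 111208, 111021], [272, 1, 111018, 111210, 111019], [255, 0, 111046, 111052, 111047], [251, 2, 111044, 111214, 111045], [255, 0, 111042, 111216, 111043], [263, 2, 111040, 111218, 111041], [256, 1, 111038, 111220, 111039], [252, 3, 111036, 111222, 111037], [256, 1, 111034, 111224, 111035], [264, 3, 111032, 111226, 111033], [255, 0, 111030, 111228, 111031], [251, 2, 111028, 111230, 111029], [255, 0, 111026, 111232, 111027], [264, 3, 111024, 111234, 111025], [256, 1, 111022, 111236, 111023], [252, 3, 111020, 111238, 111021], [256, 1, 111018, 111240, 111019], [312, 1, 110903, 47315, 111016], [313, 1, 85638, 12762, 44683, 111016], [314, 3, 91779, 47477, 46939, 111016], [327, 2, 110903, 47310, 111016], [319, 0, 111019, 111250, 110889], [323, 1, 111250, 110894, 87170], [324, 2, 111250, 110897, 104540], [134, 0, 105645, 111256, 111018], [136, 0, 111258, 105645,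 111256, 111255, 103267], [173, 1, 110882, 105101, 111260], [233, 2, 111261, 85634, 105101, 111260, 111020], [4, 0, 111020, 111264], [8, 0, 111023, 111264], [308, 1, 110882, 103273, 111260], [134, 0, 111269, 111261, 85633], [136, 1, 105647, 111259, 111261, 85633, 111272], [137, 3, 111018, 111261, 103266, 103342, 111272], [243, 3, 111276, 111018, 111261, 105653, 105633, 93848, 55056], [78, 1, 102191, 111278], [309, 0, 110318, 104425, 111278], [313, 4, 110294, 11953, 55060, 111278], [314, 4, 110437, 110419, 55059, 111278], [250, 3, 111025, 111237, 111286, 110028], [8, 0, 111027, 111289, 44602], [16, 0, 111024, 111289], [3, 0, 111029, 111291, 18618], [8, 0, 111031, 111295, 45673], [15, 0, 111033, 111297], [311, 2, 110903, 47309, 111298], [312, 1, 111017, 44694, 111298], [313, 1, 87156, 47265, 47300, 111298], [314, 3, 104534, 46963, 12754, 111298], [327, 2, 111017, 44682, 111298], [328, 1, 110903, 47300, 111298], [320, 3, 111035, 111310, 110889], [323, 3, 111310, 110897, 104542], [324, 0, 111310, 110894, 88730], [133, 3, 103254, 111316, 111034], [173, 1, 111318, 105097,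 110883], [174, 2, 111318, 106985, 111260], [233, 2, 111318, 103263, 106984, 111319, 111036], [4, 0, 111036, 111324], [8, 0, 111039, 111324], [307, 2, 111318, 87277, 111260], [308, 1, 111318, 103258, 110883], [324, 1, 111318, 87223, 111260], [133, 3, 87150, 111319, 111328], [137, 4, 111317, 105256, 87150, 111319, 111328], [248, 3, 106991, 103328, 85637, 105101, 106984, 111319, 111035, 111339], [77, 2, 111340, 106991], [174, 3, 111340, 105227, 106987], [309, 0, 111340, 76593, 110319], [310, 3, 111340, 104427, 111278], [313, 0, 111041, 111340, 104418, 110324, 110426], [7, 0, 111043, 111351], [15, 0, 111040, 111351], [314, 0, 111340, 104416, 44589, 111292], [326, 3, 111340, 76603, 110319], [313, 0, 46981, 104109, 110319, 111358], [241, 2, 98762, 106864, 110416, 111352], [303, 2, 110996, 110415, 111352], [320, 1, 110996, 110426, 111352], [316, 3, 111045, 111366, 110992], [317, 3, 111366, 110994, 111367], [324, 0, 111366, 111000, 110426], [325, 3, 111366, 111002, 102454], [94, 0, 102303, 111374, 111044], [96, 0, 111376, 102303, 111374, 111362, 97311], [209, 0, 111376,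 102354, 111374, 111044], [173, 2, 106556, 106543, 111378], [309, 2, 110926, 98714, 111378], [304, 1, 111047, 111384, 110920], [307, 1, 83775, 110878, 111386], [308, 2, 59083, 110877, 111386], [311, 2, 110492, 111386, 111051], [303, 0, 110474, 111392, 110491], [299, 2, 110488, 111394, 110473], [303, 0, 110470, 111396, 110487], [136, 1, 106041, 111389, 111390, 98264, 111383], [323, 2, 111390, 59016, 110877], [328, 1, 110492, 111402, 111051], [320, 3, 110474, 111404, 110491], [316, 1, 110488, 111406, 110473], [320, 3, 110470, 111408, 110487], [0, 0], [0, 0], [0, 0], [0, 0], [0, 0], [0, 0], [0, 0], [0, 0], [0, 0], [0, 0], [0, 0], [0, 0], [0, 0], [0, 0], [0, 0], [361, 18, 110491, 110489, 110487, 110485, 110483, 110481, 110479, 111049, 111047, 111045, 111353, 111354, 111329, 111326, 111035, 111299, 45672, 18619, 44603, 111292, 111269, 111266, 111019, 111017, 46805, 18651, 45677, 11958, 45676, 47744, 47763, 111412, 111414, 111416, 111418, 111420, 111422, 111424, 111426, 111428, 111430, 111432, 111434, 111436, 111438, 111440], [250, 1, 111442, 110492, 110809], [263, 2,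 111442, 110810, 111443], [279, 2, 111442, 110752, 111443], [295, 2, 111442, 110694, 111443], [311, 2, 111442, 111393, 110476], [328, 1, 111442, 111405, 110476], [343, 2, 111442, 110636, 111443], [359, 2, 111442, 110578, 111443], [375, 2, 111442, 110520, 111443], [367, 0, 111440, 111460, 111441], [363, 2, 111438, 111462, 111439], [367, 0, 111436, 111464, 111437], [376, 3, 111434, 111466, 111435], [368, 1, 111432, 111468, 111433], [364, 3, 111430, 111470, 111431], [368, 1, 111428, 111472, 111429], [376, 3, 111426, 111474, 111427], [367, 0, 111424, 111476, 111425], [363, 2, 111422, 111478, 111423], [367, 0, 111420, 111480, 111421], [369, 2, 111418, 111482, 111419], [366, 1, 111416, 111484, 111417], [365, 2, 111414, 111486, 111415], [351, 0, 111440, 111458, 111441], [347, 2, 111438, 111490, 111439], [351, 0, 111436, 111492, 111437], [360, 3, 111434, 111494, 111435], [352, 1, 111432, 111496, 111433], [348, 3, 111430, 111498, 111431], [352, 1, 111428, 111500, 111429], [360, 3, 111426, 111502, 111427], [351, 0, 111424, 111504, 111425], [347, 2, 111422, 111506, 111423],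 [351, 0, 111420, 111508, 111421], [353, 2, 111418, 111510, 111419], [350, 1, 111416, 111512, 111417], [349, 2, 111414, 111514, 111415], [335, 0, 111440, 111456, 111441], [331, 2, 111438, 111518, 111439], [335, 0, 111436, 111520, 111437], [344, 3, 111434, 111522, 111435], [336, 1, 111432, 111524, 111433], [332, 3, 111430, 111526, 111431], [336, 1, 111428, 111528, 111429], [344, 3, 111426, 111530, 111427], [335, 0, 111424, 111532, 111425], [331, 2, 111422, 111534, 111423], [335, 0, 111420, 111536, 111421], [337, 2, 111418, 111538, 111419], [334, 1, 111416, 111540, 111417], [333, 2, 111414, 111542, 111415], [320, 3, 110479, 111454, 111441], [316, 1, 111438, 111546, 110480], [383, 2, 111546, 110822, 111547], [395, 2, 111546, 110764, 111547], [405, 2, 111546, 110706, 111547], [284, 1, 111438, 111554, 111439], [288, 3, 111436, 111556, 111437], [295, 0, 111434, 111558, 111435], [287, 2, 111432, 111560, 111433], [283, 0, 111430, 111562, 111431], [287, 2, 111428, 111564, 111429], [295, 0, 111426, 111566, 111427], [288, 3, 111424, 111568, 111425], [284, 1, 111422, 111570,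 111423], [288, 3, 111420, 111572, 111421], [290, 1, 111418, 111574, 111419], [285, 2, 111416, 111576, 111417], [286, 1, 111414, 111578, 111415], [268, 1, 111438, 111552, 111439], [272, 3, 111436, 111582, 111437], [279, 0, 111434, 111584, 111435], [271, 2, 111432, 111586, 111433], [267, 0, 111430, 111588, 111431], [271, 2, 111428, 111590, 111429], [279, 0, 111426, 111592, 111427], [272, 3, 111424, 111594, 111425], [268, 1, 111422, 111596, 111423]]
def dJ282 : List (List ℕ) := [[97, 1, 112794, 101589, 101587, 112786, 112658], [173, 0, 112787, 102238, 112786], [209, 0, 112794, 75845, 112786, 112780], [210, 4, 112658, 112792, 79946, 112786], [211, 0, 112792, 101461, 73778, 101590, 112786, 112780, 112801], [233, 2, 101587, 112786, 112802, 112658], [235, 3, 101548, 101551, 101590, 112786, 112802, 112658, 112800], [237, 3, 112810, 101587, 112786, 112776, 102272, 102272, 101550], [241, 4, 112785, 96502, 112786, 112782], [261, 0, 112787, 59168, 112786], [277, 0, 112787, 59170, 112786], [293, 0, 112787, 59172, 112786], [283, 2, 112659, 112822, 112658], [284, 3, 112781, 112822,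 112780], [288, 1, 112672, 112826, 112673], [296, 3, 112670, 112828, 112671], [287, 0, 112668, 112830, 112669], [283, 2, 112666, 112832, 112667], [287, 0, 112664, 112834, 112665], [296, 3, 112662, 112836, 112663], [267, 2, 112659, 112820, 112658], [268, 3, 112781, 112820, 112780], [272, 1, 112672, 112842, 112673], [280, 3, 112670, 112844, 112671], [271, 0, 112668, 112846, 112669], [267, 2, 112666, 112848, 112667], [271, 0, 112664, 112850, 112665], [280, 3, 112662, 112852, 112663], [251, 2, 112659, 112818, 112658], [252, 3, 112781, 112818, 112780], [256, 1, 112672, 112858, 112673], [264, 3, 112670, 112860, 112671], [255, 0, 112668, 112862, 112669], [251, 2, 112666, 112864, 112667], [255, 0, 112664, 112866, 112665], [264, 3, 112662, 112868, 112663], [134, 0, 55040, 112814, 112660], [136, 0, 112872, 55040, 112814, 112810, 62371], [238, 3, 102333, 101548, 112814, 112810, 101461, 112796, 112800], [307, 0, 112549, 102374, 112814], [324, 3, 112549, 102376, 112814], [316, 1, 112801, 112880, 112109], [299, 2, 112801, 112878, 112109], [134, 2, 112672, 112876, 95966], [136,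 4, 102293, 112813, 112876, 95966, 112886], [173, 1, 112888, 66763, 112889], [173, 1, 112875, 95655, 112874], [0, 0], [0, 0], [0, 0], [0, 0], [0, 0], [0, 0], [0, 0], [0, 0], [0, 0], [0, 0], [0, 0], [361, 14, 112661, 112659, 112657, 112655, 44863, 18635, 45397, 111961, 112106, 112108, 112110, 112112, 112114, 112116, 112118, 112679, 112783, 112780, 112673, 112671, 112669, 112667, 112665, 112663, 112661, 112659, 112657, 112655, 44863, 18635, 45397, 11970, 45396, 47049, 47078, 112894, 112896, 112898, 112900, 112902, 112904, 112906, 112908, 112910, 112912, 112914], [249, 0, 112916, 112662, 112869], [263, 0, 112916, 112870, 112917], [279, 0, 112916, 112854, 112917], [295, 0, 112916, 112838, 112917], [329, 34, 112916, 112662, 112664, 112666, 112668, 112670, 112672, 112781, 112782, 112678, 112119, 112117, 112115, 112113, 112111, 112109, 112107, 111959, 112167, 112165, 112163, 112633, 44863, 18635, 45397, 111956, 112167, 112165, 112163, 112735, 112656, 112658, 112660, 112917], [329, 29, 112910, 112912, 112914, 112919, 112759, 112918, 112916, 112661, 112659, 112657, 112734,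 112162, 112164, 112166, 111957, 45396, 18634, 44862, 112632, 112162, 112164, 112166, 111957, 45396, 18634, 44862, 112654, 112656, 112658, 112660, 112662, 112664, 112666, 112668], [329, 21, 112908, 112910, 112912, 112914, 112916, 112661, 112659, 112657, 112655, 44863, 18635, 45397, 111961, 111973, 111960, 111956, 112167, 112165, 112163, 112633, 44863, 18635, 45397, 111961, 112106, 112108, 112110, 112561, 49063, 49067, 50728, 112680, 112783, 112780, 112673], [7, 0, 112906, 112931, 112672], [15, 0, 112909, 112931], [4, 0, 112904, 112933, 112781], [7, 0, 112902, 112937, 112782], [9, 0, 112900, 112939], [346, 0, 112916, 112661, 112659, 112657, 112734, 112162, 112164, 112166, 111957, 45396, 18634, 44862, 112632, 112162, 112164, 112166, 112167, 112165, 112163, 112633, 44863, 18635, 45397, 45396, 18634, 44862, 112654, 112656, 112658, 112660, 112662, 112664, 112666, 112668, 112928, 112910, 112912, 112914, 112919, 112664, 112666, 112668, 112928, 112910, 112912, 112914], [375, 0, 112916, 112710, 112917], [367, 2, 112914, 112944, 112915], [363, 0, 112912, 112946, 112913],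 [367, 2, 112910, 112948, 112911], [351, 2, 112914, 112942, 112915], [347, 0, 112912, 112952, 112913], [351, 2, 112910, 112954, 112911], [218, 2, 112783, 112806, 112782, 112940, 112899], [5, 0, 112896, 112958], [6, 0, 112899, 112958], [257, 2, 112941, 112683, 112940], [273, 2, 112941, 112685, 112940], [289, 2, 112941, 112687, 112940], [337, 2, 112941, 112691, 112940], [353, 2, 112941, 112693, 112940], [369, 2, 112941, 112695, 112940], [113, 1, 112962, 112941, 112960], [61, 2, 112976, 112940], [114, 3, 112976, 112960, 112979], [257, 0, 112976, 112682, 112977], [273, 0, 112976, 112684, 112977], [289, 0, 112976, 112686, 112977], [337, 0, 112976, 112690, 112977], [353, 0, 112976, 112692, 112977], [369, 0, 112976, 112694, 112977], [282, 2, 109612, 112894, 112986, 112981], [314, 1, 112994, 109619, 99634, 81436], [77, 1, 96648, 112996], [249, 3, 112929, 112670, 112934], [279, 2, 112935, 112844, 112934], [295, 2, 112935, 112828, 112934], [343, 2, 112935, 112766, 112934], [335, 0, 112911, 113006, 112910], [287, 0, 112911, 113004, 112910], [271, 0, 112911, 113002, 112910],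 [255, 0, 112911, 113000, 112910], [0, 0], [0, 0], [329, 24, 107993, 99904, 104067, 104068, 100711, 61365, 102723, 102635, 101366, 41578, 101367, 101319, 61584, 101548, 102284, 63685, 63683, 104699, 60928, 105859, 105856, 63673, 63671, 102477, 53089, 102644, 99386, 99488, 62919, 104673, 53582, 108050, 113016, 113018], [54, 0, 113020, 107989, 113016], [4, 0, 113018, 113023], [8, 0, 113021, 113023], [125, 1, 113026, 108007, 51775], [126, 2, 113026, 108009, 73597], [134, 2, 113026, 108030, 107988], [136, 1, 113017, 108031, 113032, 113026, 108030], [218, 3, 113026, 108009, 90325, 90155], [242, 2, 113026, 108013, 106185, 86302], [255, 2, 113026, 107995, 113027], [271, 2, 113026, 107999, 113027], [287, 2, 113026, 108005, 113027], [335, 2, 113026, 108017, 113027], [351, 2, 113026, 108019, 113027], [367, 2, 113026, 108021, 113027], [281, 0, 94417, 106902, 113036, 113044], [249, 2, 113040, 113052, 102719], [0, 0], [345, 6, 104108, 12140, 45180, 44569, 42722, 8077, 32883, 6548, 37300, 37422, 46693, 14276, 108048, 113016, 113025, 113026, 113027, 113024, 113017, 108051, 53583,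 104672, 62918, 62919, 104673, 53582, 108050, 113016, 113025, 113026, 107993, 99904, 104067, 104068, 100711, 61365, 102723, 102635, 101366, 40870, 13032, 45408, 46950, 104535, 93849, 113056], [54, 2, 113058, 76082], [125, 1, 113058, 104106, 56686], [126, 2, 113058, 78767, 104002], [133, 1, 113058, 111344, 111329], [134, 2, 113058, 105271, 87150], [218, 3, 113058, 78767, 90872, 104020], [241, 2, 113058, 111344, 111340, 105647], [242, 2, 113058, 110319, 110335, 93582], [255, 2, 113058, 76401, 113059], [271, 2, 113058, 76361, 113059], [287, 2, 113058, 76321, 113059], [303, 2, 113058, 76592, 105647], [304, 1, 113058, 104425, 93582], [319, 2, 113058, 104431, 93582], [320, 1, 113058, 76602, 105647], [335, 2, 113058, 76270, 113059], [351, 2, 113058, 76228, 113059], [367, 2, 113058, 76186, 113059], [315, 1, 105635, 93584, 113088], [328, 2, 103766, 105629, 113088], [0, 0], [0, 0], [0, 0], [0, 0], [0, 0], [0, 0], [0, 0], [0, 0], [361, 9, 101309, 67884, 105368, 94278, 100607, 103848, 103870, 62942, 63536, 104069, 104066, 99905, 107992, 113027, 113024, 113017, 108049, 14277,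 46692, 37423, 37301, 6549, 32882, 8076, 42723, 44568, 45181, 12141, 104109, 113059, 113057, 93848, 104534, 46951, 45409, 13033, 11984, 13032, 113100, 113102, 113104, 113106, 113108, 113110, 113112, 113114], [53, 2, 113116, 83283], [125, 3, 113116, 99863, 46665], [126, 0, 113116, 99913, 47545], [134, 0, 113116, 101047, 58606], [218, 1, 113116, 101077, 47113, 72514], [241, 0, 113116, 110973, 110957, 108115], [255, 0, 113116, 83419, 113117], [271, 0, 113116, 83407, 113117], [287, 0, 113116, 83397, 113117], [303, 0, 113116, 83449, 108094], [320, 3, 113116, 83468, 108094], [329, 3, 113114, 113116, 101309, 67884, 105368, 94278, 103825, 62935, 62933, 62931, 106032, 106089, 105656, 106198, 80582, 12140, 45180, 44569, 42722, 8077, 32883, 6548, 36826, 91931, 91924, 63146, 63686, 63683, 104699, 60928, 105859, 51869, 105858, 103486, 108096], [4, 0, 113115, 113141], [7, 0, 113112, 113141, 108097], [10, 0, 113110, 113145, 100208], [6, 0, 113108, 113147, 106773], [6, 0, 113106, 113149, 106770], [16, 0, 113104, 113151, 113100], [7, 0, 113102, 113153], [335, 0, 113116, 83362, 113117],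 [351, 0, 113116, 83348, 113117], [367, 0, 113116, 83334, 113117], [86, 0, 57198, 108090, 113142], [265, 0, 50965, 108104, 113142, 113133], [266, 4, 68137, 91748, 108106, 113142], [249, 1, 101023, 42110, 113100], [249, 3, 113168, 101023, 113100], [265, 1, 83920, 45407, 13042, 113100], [279, 2, 113101, 13043, 113100], [281, 1, 106206, 65193, 13044, 113100], [282, 3, 106781, 92515, 106770, 113100], [295, 2, 113101, 13045, 113100], [297, 1, 105980, 101038, 45415, 113100], [298, 3, 109344, 46372, 45411, 113100], [313, 1, 83920, 45474, 44493, 113100], [343, 2, 113101, 41598, 113100], [359, 2, 113101, 40890, 113100], [375, 2, 113101, 13047, 113100], [174, 3, 113186, 106192, 106805], [0, 0], [329, 10, 106571, 102976, 102857, 54544, 102720, 104470, 73340, 104681, 104674, 54872, 93946, 46401, 49891, 49900, 91618, 90379, 103703, 103706, 57885, 23782, 49812, 49823, 12408, 41493, 12409, 42383, 10809, 32955, 8677, 51088, 99631, 99624, 73196, 113196]]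
def dJ286 : List (List ℕ) := [[369, 2, 114362, 12727, 114363], [314, 1, 108105, 50913, 108104, 114394], [326, 2, 114392, 114402, 114394], [0, 0], [227, 3, 47805, 14388, 14383, 37011, 52103, 114360, 114406], [62, 2, 114408, 47810], [114, 1, 114408, 47773, 108117], [125, 2, 114408, 47808, 94546], [201, 2, 114408, 47773, 47769, 114409], [226, 3, 114408, 47808, 37017, 52103], [257, 2, 114408, 47779, 114409], [273, 2, 114408, 47785, 114409], [289, 2, 114408, 47787, 114409], [298, 2, 114408, 47783, 45261, 107157], [305, 2, 114408, 47789, 108117], [322, 1, 114408, 47793, 108117], [337, 2, 114408, 47795, 114409], [353, 2, 114408, 47797, 114409], [369, 2, 114408, 47799, 114409], [313, 1, 114172, 114188, 110261, 114426], [0, 0], [231, 5, 12986, 12988, 37011, 52103, 52105, 49818, 49817, 114440], [113, 2, 114442, 65301, 65275], [114, 1, 114442, 108140, 108137], [125, 2, 114442, 47802, 114409], [126, 1, 114442, 14138, 94546], [225, 1, 114442, 12986, 13788, 100078], [226, 3, 114442, 47802, 47806, 55999], [257, 2, 114442, 42701, 114443], [273, 2, 114442, 12995, 114443], [289,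 2, 114442, 12997, 114443], [305, 2, 114442, 44666, 108139], [322, 1, 114442, 44668, 108139], [337, 2, 114442, 41402, 114443], [353, 2, 114442, 40712, 114443], [369, 2, 114442, 12999, 114443], [314, 1, 96061, 110946, 110953, 114464], [326, 2, 83480, 108162, 114464], [0, 0], [329, 11, 105266, 53817, 101974, 102166, 105683, 99005, 52662, 98154, 97665, 97672, 49963, 49929, 46451, 95098, 61945, 96811, 96816, 54117, 24743, 48394, 48428, 48437, 41457, 48436, 48435, 8784, 1401, 923, 37762, 49011, 48991, 46320, 107788, 114476], [85, 1, 114478, 81625, 101239], [86, 2, 114478, 81627, 98817], [93, 1, 114478, 92064, 92085], [202, 3, 114478, 81627, 77066, 103054], [203, 2, 114478, 107242, 107699, 107694, 77062, 103054, 72451], [209, 3, 114478, 81627, 94640, 112060], [251, 2, 114478, 81621, 114479], [265, 2, 114478, 81622, 95717, 65957], [266, 2, 114478, 81618, 49437, 49462], [267, 2, 114478, 81623, 114479], [283, 2, 114478, 81629, 114479], [299, 2, 114478, 81631, 108171], [300, 1, 114478, 81633, 107870], [315, 2, 114478, 81635, 107870], [316, 1, 114478, 81637, 108171], [331,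 2, 114478, 81639, 114479], [347, 2, 114478, 81641, 114479], [363, 2, 114478, 81643, 114479], [324, 2, 58147, 108229, 114508], [133, 2, 114516, 51588, 107887], [0, 0], [0, 0], [0, 0], [0, 0], [0, 0], [0, 0], [0, 0], [0, 0], [0, 0], [0, 0], [0, 0], [0, 0], [0, 0], [0, 0], [0, 0], [0, 0], [361, 18, 96817, 96810, 61944, 95099, 46450, 49928, 49962, 101248, 107288, 107294, 105241, 67659, 95570, 101599, 96405, 53784, 95234, 101223, 68928, 94808, 59376, 101838, 61984, 61986, 11928, 12982, 37011, 12080, 37010, 101252, 114520, 114522, 114524, 114526, 114528, 114530, 114532, 114534, 114536, 114538, 114540, 114542, 114544, 114546, 114548, 114550], [250, 1, 114552, 54117, 42534], [263, 2, 114552, 54286, 114553], [265, 1, 114552, 95341, 62218, 95290], [266, 3, 114552, 54264, 110002, 109999], [279, 2, 114552, 54264, 114553], [282, 3, 114552, 54242, 96221, 114318], [295, 2, 114552, 54242, 114553], [297, 1, 114552, 60559, 60557, 107432], [311, 2, 114552, 64416, 108423], [312, 1, 114552, 55615, 107062], [314, 3, 114552, 55617, 95367, 95285], [327, 2, 114552, 55617, 107062], [328,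 1, 114552, 64418, 108423], [329, 8, 114552, 54118, 96773, 96819, 103075, 98587, 103078, 105435, 105436, 95434, 95436, 95438, 95440, 54301, 54299, 54297, 94907, 95081, 95078, 53790, 53792, 53794, 53796, 53798, 53800, 53951, 53801, 98956, 95970, 102121, 67129, 105712, 103330, 103080], [329, 10, 114546, 114548, 114550, 114552, 96817, 96810, 61944, 95099, 46450, 49928, 49962, 101248, 107288, 107294, 105241, 67659, 95570, 101599, 96405, 53784, 95234, 101223, 68928, 94808, 59489, 94809, 102176, 101998, 102008, 99114, 98956, 62371, 97929, 97919, 107618], [7, 0, 114547, 114583], [15, 0, 114544, 114583, 107616], [8, 0, 114542, 114587, 46307], [3, 0, 114540, 114589, 14321], [8, 0, 114538, 114591, 46874], [15, 0, 114536, 114593, 96570], [7, 0, 114534, 114595, 97114], [4, 0, 114532, 114597, 99101], [7, 0, 114530, 114599, 59756], [10, 0, 114528, 114601, 99248], [6, 0, 114526, 114603, 96150], [6, 0, 114524, 114605, 96285], [15, 0, 114522, 114607], [343, 2, 114552, 54220, 114553], [359, 2, 114552, 54198, 114553], [375, 2, 114552, 54176, 114553], [367, 0, 114550, 114614, 114551],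 [363, 2, 114548, 114616, 114549], [351, 0, 114550, 114612, 114551], [347, 2, 114548, 114620, 114549], [335, 0, 114550, 114610, 114551], [331, 2, 114548, 114624, 114549], [249, 1, 70832, 71011, 114608], [249, 3, 114628, 70832, 114608], [265, 1, 102165, 99262, 70991, 114608], [266, 3, 106994, 89393, 96283, 114608], [279, 2, 114609, 70990, 114608], [281, 1, 107433, 71050, 70971, 114608], [295, 2, 114609, 70970, 114608], [298, 3, 107600, 99149, 99142, 114608], [312, 1, 108477, 72212, 114608], [314, 3, 55051, 105962, 106557, 114608], [327, 2, 108477, 72209, 114608], [329, 6, 105598, 89294, 101231, 47818, 47825, 13740, 96691, 96270, 101625, 99259, 96224, 52196, 97457, 97460, 70164, 97237, 97228, 52248, 59948, 103340, 107447, 107355, 103035, 12301, 11833, 46305, 59535, 59497, 59534, 101940, 89306, 98095, 98102, 114608], [343, 2, 114609, 70940, 114608], [359, 2, 114609, 70918, 114608], [375, 2, 114609, 70896, 114608], [134, 2, 114650, 103761, 68234], [222, 3, 114550, 114581, 87814, 114520, 114650, 87832, 78083, 78080], [3, 0, 114548, 114661], [7, 0, 114551, 114661], [133,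 1, 112645, 112081, 114664], [134, 2, 104215, 107031, 114664], [241, 2, 103332, 105214, 105176, 114664], [37, 1, 105593, 114662], [85, 1, 105193, 88604, 114662], [86, 2, 105591, 78080, 114662], [94, 2, 104958, 105176, 114662], [202, 3, 105327, 72484, 72454, 114662], [234, 2, 101284, 105214, 105176, 114662], [251, 2, 114663, 66261, 114662], [265, 2, 105152, 52513, 101902, 114662], [267, 2, 114663, 66243, 114662], [283, 2, 114663, 66225, 114662], [299, 2, 105185, 72391, 114662], [300, 1, 105190, 71218, 114662], [315, 2, 105190, 71234, 114662], [316, 1, 105185, 72392, 114662], [327, 3, 114698, 107095, 95905], [329, 10, 107730, 97758, 95291, 107602, 107753, 107754, 107682, 107727, 107724, 107614, 107619, 54135, 97899, 98117, 107489, 107569, 101926, 53815, 102177, 113487, 113457, 108357, 108320, 67286, 108321, 108322, 67649, 67647, 67645, 107071, 109127, 109918, 109881, 114700], [0, 0], [213, 3, 44834, 47608, 47616, 46654, 50114, 51554, 114704], [46, 2, 114706, 44834], [85, 2, 114706, 24084, 108350], [86, 1, 114706, 24120, 95227], [113, 1, 114706, 46286, 65911], [114,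 2, 114706, 24739, 52645], [210, 3, 114706, 24084, 48221, 110156], [217, 2, 114706, 46286, 46321, 93457], [253, 2, 114706, 42527, 114707], [269, 2, 114706, 23643, 114707], [281, 2, 114706, 23644, 59140, 99223], [282, 2, 114706, 113608, 113621, 113619], [285, 2, 114706, 23645, 114707], [302, 1, 114706, 24051, 93457], [317, 2, 114706, 24057, 93457], [333, 2, 114706, 41246, 114707], [349, 2, 114706, 40560, 114707], [365, 2, 114706, 23647, 114707], [225, 3, 114720, 114717, 59117, 114716], [0, 0], [329, 8, 102373, 53092, 105893, 105797, 105019, 45892, 47448, 47457, 94047, 99904, 104067, 104068, 63537, 62943, 103871, 103849, 103850, 62935, 62933, 62931, 106032, 106089, 105656, 106198, 80582, 41587, 80583, 104111, 113059, 113057, 93848, 104532, 99538, 114744], [54, 2, 114746, 81166], [125, 1, 114746, 81452, 108074], [126, 2, 114746, 90342, 113690], [133, 1, 114746, 110944, 110451], [134, 2, 114746, 106065, 98278], [217, 1, 114746, 81383, 73750, 106609], [218, 3, 114746, 90342, 113881, 113872], [241, 2, 114746, 110944, 110947, 52856], [255, 2, 114746, 81354, 114747], [271,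 2, 114746, 81328, 114747], [287, 2, 114746, 81302, 114747], [303, 2, 114746, 83803, 106079], [304, 1, 114746, 81400, 105818], [319, 2, 114746, 81378, 105818], [320, 1, 114746, 83794, 106079], [335, 2, 114746, 81266, 114747], [351, 2, 114746, 81238, 114747], [367, 2, 114746, 81210, 114747], [315, 1, 102808, 102426, 114776], [328, 2, 86517, 106877, 114776], [0, 0], [0, 0], [0, 0], [0, 0], [0, 0], [0, 0]]
def dJ290 : List (List ℕ) := [[299, 1, 115998, 114288, 114303], [302, 2, 115998, 109677, 98858], [0, 0], [0, 0], [0, 0], [0, 0], [0, 0], [0, 0], [361, 10, 55313, 101864, 97752, 56008, 44738, 42621, 47413, 95176, 98063, 98211, 59744, 98683, 96904, 98902, 98985, 98986, 59756, 59758, 102101, 102104, 59764, 59766, 59768, 59949, 58813, 59944, 59776, 52112, 8688, 37308, 36943, 13840, 47522, 47517, 12176, 12186, 12177, 64029, 64027, 115581, 116004, 116006, 116008, 116010, 116012, 116014], [249, 0, 116016, 101832, 60811], [263, 0, 116016, 55564, 116017], [266, 1, 116016, 103107, 95441, 95446], [279, 0, 116016, 55518, 116017], [281, 4, 116016, 103165, 115581, 116004], [282,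 1, 116016, 101830, 109009, 109016], [295, 1, 116016, 55472, 116017, 116027], [4, 0, 116022, 116031], [5, 0, 116028, 116031, 116006], [8, 0, 116014, 116031], [15, 0, 116017, 116031], [16, 0, 116018, 116031], [17, 0, 116030, 116021, 116031], [19, 0, 116030, 116025, 116031], [21, 0, 116026, 116031], [5, 0, 116006, 116034], [9, 0, 116009, 116034, 109091], [8, 0, 116011, 116051, 109117], [3, 0, 116013, 116053, 109860], [7, 0, 116036, 116055], [53, 1, 109807, 116056], [125, 1, 115635, 115055, 116056], [134, 2, 109806, 109933, 116056], [136, 0, 109933, 116056, 116062, 109932, 116059], [242, 2, 104135, 109913, 109933, 116056], [303, 2, 109806, 109910, 116056], [304, 1, 116059, 116068, 116056], [320, 1, 109806, 109914, 116056], [335, 2, 116057, 109905, 116056], [351, 2, 116057, 109901, 116056], [367, 2, 116057, 109897, 116056], [320, 1, 116057, 116073, 116058], [315, 1, 109849, 109842, 116080], [202, 1, 116082, 109841, 109141, 108999], [0, 0], [249, 2, 42746, 106237, 116086], [249, 3, 116088, 106237, 116086], [266, 1, 116088, 12207, 55060, 55065], [279, 0, 116088, 12210,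 116089], [282, 1, 116088, 56136, 94305, 69905], [295, 0, 116088, 12212, 116089], [298, 1, 116088, 91833, 100107, 100163], [343, 0, 116088, 41966, 116089], [359, 0, 116088, 41144, 116089], [375, 0, 116088, 12214, 116089], [266, 1, 100033, 12217, 116089, 116094], [282, 1, 99948, 46809, 116089, 116098], [113, 3, 116110, 99944, 99961], [93, 3, 116108, 115883, 115874], [0, 0], [0, 0], [0, 0], [0, 0], [0, 0], [0, 0], [0, 0], [0, 0], [0, 0], [0, 0], [0, 0], [329, 13, 37423, 12845, 45421, 103923, 67849, 92076, 62919, 104070, 93502, 93421, 67861, 114386, 114371, 115378, 115389, 106880, 106078, 101499, 53574, 106236, 41966, 106237, 116086, 116116, 116118, 116120, 116122, 116124, 116126, 116128, 116130, 116132, 116134, 116136], [250, 1, 116138, 99674, 68560], [263, 2, 116138, 42312, 116139], [265, 1, 116138, 46693, 13630, 69430], [266, 3, 116138, 17412, 47448, 91778], [279, 2, 116138, 17412, 116139], [281, 1, 116138, 49820, 49832, 102685], [282, 3, 116138, 17410, 74507, 105011], [295, 2, 116138, 17410, 116139], [298, 3, 116138, 46721, 51567, 101403], [313, 1, 116138, 17392,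 46716, 96740], [343, 2, 116138, 41746, 116139], [359, 2, 116138, 41038, 116139], [362, 43, 116136, 116138, 37423, 12855, 37422, 46693, 14276, 104575, 53583, 104672, 62918, 99489, 99387, 102645, 53088, 102476, 63670, 63672, 105857, 105860, 108096, 113142, 113116, 94338, 106198, 106223, 106224, 92264, 24766, 50594, 50601, 42578, 44568, 45181, 12141, 104109, 113059, 113057, 93848, 104534, 46951, 45409, 13033, 66771, 66772, 50890], [375, 2, 116138, 17408, 116139], [312, 1, 116165, 46720, 116139], [327, 2, 116165, 46719, 116139], [315, 3, 78667, 116144, 116170], [316, 1, 76604, 116146, 116170, 116135], [4, 0, 116135, 116174], [7, 0, 116132, 116174, 105644], [15, 0, 116130, 116179], [317, 3, 102886, 116150, 116170], [318, 0, 102910, 116152, 116170], [322, 0, 102775, 116156, 116170], [325, 3, 98539, 116158, 116170], [328, 0, 84866, 116140, 116170], [383, 0, 116171, 116142, 116170], [395, 0, 116171, 116148, 116170], [405, 0, 116171, 116154, 116170], [421, 3, 116171, 116161, 116170], [423, 3, 116171, 116163, 116170], [425, 3, 116171, 116167, 116170], [174, 1, 116188, 109778,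 116158], [249, 1, 105629, 93845, 116180], [249, 3, 116206, 105629, 116180], [279, 2, 116181, 93824, 116180], [281, 1, 103832, 105654, 93805, 116180], [282, 3, 106748, 92507, 106718, 116180], [295, 2, 116181, 93804, 116180], [297, 1, 103803, 94277, 105630, 116180], [298, 3, 56690, 56699, 105649, 116180], [313, 1, 116181, 113072, 113089, 116180], [343, 2, 116181, 93784, 116180], [359, 2, 116181, 93764, 116180], [362, 45, 113058, 76186, 113059, 113057, 93848, 104532, 99538, 114744, 114746, 108699, 108690, 114822, 114800, 108775, 53089, 102644, 99386, 99488, 62919, 104673, 53582, 104574, 14277, 46692, 37423, 37301, 6549, 32882, 8076, 36742, 50600, 50595, 24767, 92265, 106225, 106222, 106199, 101306, 67884, 105368, 94278, 90036, 106720, 106718, 116180, 116129], [375, 2, 116181, 93744, 116180], [265, 1, 116181, 113097, 113078, 116229], [312, 1, 116181, 113082, 116229], [327, 2, 116181, 113088, 116229], [315, 0, 116126, 116236, 116233], [317, 1, 116236, 116214, 104249], [318, 2, 116236, 116212, 104157], [320, 2, 116236, 116129, 116238], [321, 1, 116236, 116220, 104140],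 [322, 2, 116236, 116218, 73136], [325, 1, 116236, 116223, 116237], [328, 2, 116236, 116206, 103767], [383, 2, 116236, 116209, 116237], [395, 2, 116236, 116211, 116237], [405, 2, 116236, 116217, 116237], [414, 1, 116236, 116235, 116238], [421, 1, 116236, 116224, 116237], [423, 1, 116236, 116226, 116237], [425, 1, 116236, 116230, 116237], [364, 3, 116126, 116266, 116127], [368, 1, 116124, 116268, 116125], [376, 3, 116122, 116270, 116123], [367, 0, 116120, 116272, 116121], [363, 2, 116118, 116274, 116119], [348, 3, 116126, 116264, 116127], [352, 1, 116124, 116278, 116125], [360, 3, 116122, 116280, 116123], [351, 0, 116120, 116282, 116121], [347, 2, 116118, 116284, 116119], [332, 3, 116126, 116262, 116127], [336, 1, 116124, 116288, 116125], [344, 3, 116122, 116290, 116123], [335, 0, 116120, 116292, 116121], [331, 2, 116118, 116294, 116119], [298, 4, 116260, 116249, 103784, 100648], [301, 3, 116260, 116243, 104152], [302, 0, 116260, 116241, 104244], [303, 2, 116124, 116260, 116245], [305, 3, 116260, 116249, 103788], [306, 0, 116260, 116247, 103779], [309, 3, 116260,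 116250, 116261], [312, 0, 116260, 116228, 113085], [381, 0, 116260, 116254, 116261], [393, 0, 116260, 116256, 116261], [403, 0, 116260, 116258, 116261], [413, 3, 116260, 116238, 116304], [299, 3, 116305, 116126, 116261], [38, 1, 116233, 116127, 116322], [4, 0, 116232, 116325], [5, 0, 116213, 116325], [6, 0, 116215, 116325], [7, 0, 116128, 116325], [9, 0, 116219, 116325], [10, 0, 116221, 116325], [13, 0, 116324, 116223, 116325], [15, 0, 116207, 116325], [15, 0, 116180, 116325, 116123], [17, 0, 116324, 116208, 116325], [19, 0, 116324, 116210, 116325], [21, 0, 116324, 116216, 116325], [24, 0, 116234, 116325], [25, 0, 116236, 116325], [7, 0, 116120, 116342, 105646], [15, 0, 116123, 116342], [3, 0, 116118, 116355], [37, 1, 69434, 116358], [85, 1, 99984, 104411, 116358], [86, 2, 100042, 104413, 116358], [93, 1, 102171, 106990, 116358], [201, 1, 104299, 104306, 104411, 116358], [202, 3, 104331, 104334, 104415, 116358], [233, 2, 116093, 111278, 111274, 116358], [251, 2, 116359, 69772, 116358], [265, 2, 106555, 82832, 104419, 116358], [266, 2, 44595, 104417, 69728, 116358],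 [267, 2, 116359, 69728, 116358], [283, 2, 116359, 69684, 116358], [300, 1, 116093, 104426, 116358], [315, 2, 116093, 104428, 116358], [241, 4, 116338, 116332, 116251, 116333], [242, 0, 116125, 116338, 116124, 116310], [248, 0, 116245, 116125, 116338, 116338, 116124, 116244, 116251, 116251], [0, 0], [0, 0], [0, 0]]
def dJ294 : List (List ℕ) := [[347, 2, 117520, 117598, 117521], [351, 0, 117518, 117600, 117519], [360, 3, 117516, 117602, 117517], [352, 1, 117514, 117604, 117515], [335, 0, 117538, 117550, 117539], [331, 2, 117536, 117608, 117537], [335, 0, 117534, 117610, 117535], [343, 2, 117532, 117612, 117533], [336, 1, 117530, 117614, 117531], [332, 3, 117528, 117616, 117529], [336, 1, 117526, 117618, 117527], [344, 3, 117524, 117620, 117525], [335, 0, 117522, 117622, 117523], [331, 2, 117520, 117624, 117521], [335, 0, 117518, 117626, 117519], [344, 3, 117516, 117628, 117517], [336, 1, 117514, 117630, 117515], [287, 0, 117538, 117548, 117539], [283, 2, 117536, 117634, 117537], [287, 0, 117534, 117636, 117535], [295, 2, 117532, 117638, 117533], [288, 1, 117530,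 117640, 117531], [284, 3, 117528, 117642, 117529], [288, 1, 117526, 117644, 117527], [296, 3, 117524, 117646, 117525], [287, 0, 117522, 117648, 117523], [283, 2, 117520, 117650, 117521], [287, 0, 117518, 117652, 117519], [296, 3, 117516, 117654, 117517], [288, 1, 117514, 117656, 117515], [271, 0, 117538, 117546, 117539], [267, 2, 117536, 117660, 117537], [271, 0, 117534, 117662, 117535], [279, 2, 117532, 117664, 117533], [272, 1, 117530, 117666, 117531], [268, 3, 117528, 117668, 117529], [272, 1, 117526, 117670, 117527], [280, 3, 117524, 117672, 117525], [271, 0, 117522, 117674, 117523], [267, 2, 117520, 117676, 117521], [271, 0, 117518, 117678, 117519], [280, 3, 117516, 117680, 117517], [272, 1, 117514, 117682, 117515], [255, 0, 117538, 117544, 117539], [251, 2, 117536, 117686, 117537], [255, 0, 117534, 117688, 117535], [263, 2, 117532, 117690, 117533], [256, 1, 117530, 117692, 117531], [252, 3, 117528, 117694, 117529], [256, 1, 117526, 117696, 117527], [264, 3, 117524, 117698, 117525], [255, 0, 117522, 117700, 117523], [251, 2, 117520, 117702, 117521], [255,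 0, 117518, 117704, 117519], [264, 3, 117516, 117706, 117517], [256, 1, 117514, 117708, 117515], [93, 1, 102613, 111707, 117512], [94, 2, 96646, 111704, 117512], [233, 2, 54550, 111374, 111709, 117512], [234, 2, 101947, 106866, 111704, 117512], [266, 2, 115424, 115462, 111593, 117512], [300, 1, 116953, 117480, 117512], [315, 2, 116953, 117482, 117512], [319, 0, 117515, 117724, 116954], [324, 2, 102743, 117508, 117726], [70, 2, 117728, 115963], [173, 1, 117728, 114134, 114148], [225, 2, 117728, 116456, 116445, 112889], [234, 3, 117728, 102522, 114116, 114148], [307, 2, 117728, 102741, 117508], [265, 1, 111435, 117736, 117682, 117516], [0, 0], [0, 0], [0, 0], [0, 0], [0, 0], [0, 0], [0, 0], [0, 0], [0, 0], [0, 0], [361, 14, 111891, 111821, 110958, 111685, 117362, 117377, 117378, 116973, 116971, 116969, 116967, 117541, 117539, 117537, 117535, 117533, 117531, 117529, 117527, 117525, 117523, 117521, 117519, 117517, 117515, 117513, 111712, 110413, 46975, 17348, 44684, 12270, 44685, 117474, 116943, 117432, 117742, 117744, 117746, 117748, 117750, 117752, 117754, 117756,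 117758, 117760], [263, 0, 117762, 111944, 117763], [279, 0, 117762, 111946, 117763], [295, 0, 117762, 111948, 117763], [312, 3, 117762, 111950, 117398], [314, 1, 117762, 111916, 99749, 100001], [327, 0, 117762, 111942, 117398], [343, 0, 117762, 111939, 117763], [359, 0, 117762, 111937, 117763], [375, 0, 117762, 111935, 117763], [266, 1, 111684, 111952, 117763, 117766], [93, 3, 117782, 111680, 97718], [233, 0, 117782, 111670, 104972, 105336], [69, 1, 107041, 117786], [134, 2, 107450, 117786, 117761], [136, 3, 117790, 107450, 117786, 117788, 103661], [226, 2, 112648, 72452, 60581, 117786], [242, 2, 94288, 105336, 117786, 117761], [77, 2, 117796, 104176], [93, 0, 117758, 117796, 104172, 111700], [3, 0, 117759, 117801], [7, 0, 117756, 117801], [209, 0, 117796, 73028, 116600, 116591], [261, 0, 117796, 68545, 117797], [277, 0, 117796, 68527, 117797], [293, 0, 117796, 68509, 117797], [310, 3, 117796, 84761, 112040], [313, 0, 117796, 104180, 111826, 111841], [314, 0, 117796, 104178, 117503, 117497], [341, 0, 117796, 68491, 117797], [357, 0, 117796, 68473, 117797], [373,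 0, 117796, 68455, 117797], [321, 1, 112104, 112036, 117818], [327, 1, 117724, 117497, 117818], [281, 1, 112054, 111783, 111798, 117816], [53, 1, 111424, 117804], [133, 1, 114237, 111696, 117804], [134, 2, 94053, 111699, 117804], [241, 2, 100699, 103420, 111703, 117804], [242, 2, 97840, 61714, 111699, 117804], [255, 2, 117805, 111620, 117804], [271, 2, 117805, 111594, 117804], [287, 2, 117805, 111568, 117804], [304, 1, 117362, 117381, 117804], [319, 2, 117362, 117385, 117804], [335, 2, 117805, 111533, 117804], [351, 2, 117805, 111505, 117804], [367, 2, 117805, 111477, 117804], [375, 0, 117754, 117856, 117755], [368, 3, 117752, 117858, 117753], [364, 1, 117750, 117860, 117751], [368, 3, 117748, 117862, 117749], [370, 1, 117746, 117864, 117747], [365, 2, 117744, 117866, 117745], [359, 0, 117754, 117854, 117755], [352, 3, 117752, 117870, 117753], [348, 1, 117750, 117872, 117751], [352, 3, 117748, 117874, 117749], [354, 1, 117746, 117876, 117747], [349, 2, 117744, 117878, 117745], [343, 0, 117754, 117852, 117755], [336, 3, 117752, 117882, 117753], [332, 1, 117750, 117884,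 117751], [336, 3, 117748, 117886, 117749], [338, 1, 117746, 117888, 117747], [333, 2, 117744, 117890, 117745], [327, 0, 117754, 117850, 111682], [328, 2, 117850, 111684, 114464], [250, 3, 114457, 117896, 117755], [250, 0, 117898, 117896, 117755], [314, 0, 111662, 62553, 114473, 117896], [413, 0, 117902, 111676, 111679], [256, 3, 117752, 117900, 117753], [252, 1, 117750, 117906, 117751], [256, 3, 117748, 117908, 117749], [258, 1, 117746, 117910, 117747], [253, 2, 117744, 117912, 117745], [279, 2, 117898, 114459, 117899], [295, 2, 117898, 114461, 117899], [311, 2, 117898, 114463, 110952], [313, 1, 117898, 114474, 83480, 105851], [77, 1, 106347, 117922], [174, 1, 101481, 106537, 117922], [69, 2, 117926, 106083], [133, 3, 117752, 117926, 55044], [135, 5, 59745, 117928, 117926, 55044, 117930], [234, 2, 117750, 117932, 106354, 101646], [237, 1, 106209, 117930, 117932, 98421, 106511, 106533, 117934], [275, 2, 117932, 60045, 117933], [291, 2, 117932, 60009, 117933], [307, 2, 117932, 60254, 110877], [308, 1, 117932, 60131, 111391], [323, 2, 117932, 60134, 111391], [324,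 1, 117932, 60259, 110877], [173, 1, 117935, 106355, 117933], [277, 2, 117951, 117939, 117950], [293, 2, 117951, 117941, 117950], [310, 1, 116993, 117942, 117950], [325, 2, 116993, 117948, 117950], [319, 1, 117748, 117958, 116986, 116891], [7, 0, 117749, 117961], [10, 0, 117746, 117961, 116901], [5, 0, 117744, 117965], [114, 2, 116898, 116901, 117966], [116, 0, 116901, 117966, 117968, 116900, 117742], [210, 3, 75856, 101962, 112552, 117966], [213, 2, 91227, 73070, 116628, 116619, 116896, 116899, 117966], [269, 2, 117967, 112468, 117966], [281, 2, 116736, 48557, 112560, 117966], [285, 2, 117967, 112410, 117966], [174, 3, 117974, 106090, 105670], [70, 1, 106359, 117982], [226, 2, 117836, 86742, 94282, 111659], [0, 0], [265, 2, 45434, 12282, 92556, 117988], [250, 1, 117990, 103603, 84213], [263, 2, 117990, 42777, 117991], [266, 3, 117990, 18783, 45181, 67895], [279, 2, 117990, 18783, 117991]]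
def dJ298 : List (List ℕ) := [[282, 3, 119190, 26147, 46800, 117474], [295, 2, 119190, 26147, 119191], [297, 1, 119190, 42650, 47374, 117430], [312, 1, 119190, 50744, 112594], [327, 2, 119190, 50750, 112594], [323, 3, 104825, 112583, 119208], [134, 0, 119068, 119210, 104680], [136, 1, 64749, 119180, 119210, 104680, 119212], [173, 3, 119214, 117371, 117366], [174, 0, 119214, 102929, 105444], [225, 0, 119214, 89468, 117407, 116927], [259, 0, 119214, 64951, 119215], [275, 0, 119214, 64925, 119215], [291, 0, 119214, 64899, 119215], [308, 3, 119214, 64982, 112569], [323, 0, 119214, 64979, 112569], [327, 2, 48971, 112563, 119230, 119067], [8, 0, 119064, 119232, 48951], [16, 0, 119067, 119232], [3, 0, 119062, 119235, 26143], [8, 0, 119060, 119239, 25380], [15, 0, 119058, 119241, 119076], [6, 0, 119082, 119242], [7, 0, 119072, 119242, 119057], [9, 0, 119194, 119242], [11, 0, 119165, 119242], [12, 0, 119163, 119242], [13, 0, 119161, 119242], [14, 0, 119086, 119242], [15, 0, 119076, 119242], [16, 0, 119075, 119242], [17, 0, 119243, 119078, 119242], [19, 0, 119243, 119080,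 119242], [21, 0, 119243, 119084, 119242], [4, 0, 119070, 119247, 119055], [5, 0, 119178, 119247], [9, 0, 119193, 119247], [11, 0, 119174, 119247], [12, 0, 119176, 119247], [13, 0, 119168, 119247], [14, 0, 119167, 119247], [16, 0, 119188, 119247], [17, 0, 119246, 119182, 119247], [19, 0, 119246, 119184, 119247], [21, 0, 119246, 119186, 119247], [5, 0, 119200, 119269], [7, 0, 119068, 119269, 119053], [10, 0, 119204, 119269], [11, 0, 119180, 119269], [12, 0, 119211, 119269], [13, 0, 119173, 119269], [14, 0, 119170, 119269], [16, 0, 119191, 119269], [17, 0, 119268, 119196, 119269], [19, 0, 119268, 119198, 119269], [21, 0, 119268, 119202, 119269], [24, 0, 119206, 119269], [25, 0, 119208, 119269], [10, 0, 119220, 119293], [11, 0, 119215, 119293], [12, 0, 119212, 119293], [13, 0, 119216, 119293], [14, 0, 119218, 119293], [15, 0, 119236, 119293], [17, 0, 119292, 119223, 119293], [19, 0, 119292, 119225, 119293], [21, 0, 119292, 119227, 119293], [23, 0, 119228, 119293], [26, 0, 119230, 119293], [0, 0], [0, 0], [0, 0], [0, 0], [0, 0], [0, 0], [0, 0], [0, 0], [0, 0], [0, 0],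 [0, 0], [0, 0], [0, 0], [0, 0], [361, 18, 118509, 118507, 118505, 118503, 118501, 118499, 118993, 119261, 119057, 119055, 119053, 119326, 48951, 26143, 25380, 119259, 119057, 119055, 119053, 119051, 118963, 118960, 118481, 118936, 44658, 39293, 12334, 12342, 12335, 111956, 118385, 118351, 119338, 119340, 119342, 119344, 119346, 119348, 119350, 119352, 119354, 119356, 119358, 119360, 119362, 119364], [250, 1, 119366, 118510, 118829], [263, 2, 119366, 118830, 119367], [279, 2, 119366, 118772, 119367], [295, 2, 119366, 118714, 119367], [329, 9, 119360, 119362, 119364, 119366, 118509, 118507, 118505, 118503, 118501, 118499, 118993, 119261, 119057, 119055, 119053, 119326, 48951, 26143, 25380, 119259, 119057, 119055, 119053, 119051, 118681, 119050, 119326, 48951, 26143, 25380, 110365, 118992, 118498, 118500], [330, 17, 119358, 119360, 119362, 119364, 119369, 118512, 118514, 118516, 118350, 118384, 118458, 118917, 118934, 118480, 118961, 118962, 118985, 119327, 119158, 119326, 48951, 26143, 25380, 110365, 118992, 118498, 118500, 119376, 119360, 119362, 119364, 119366,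 118509, 118507, 118505], [8, 0, 119356, 119379, 118504], [15, 0, 119359, 119379], [3, 0, 119354, 119381, 118506], [8, 0, 119352, 119385, 118508], [15, 0, 119350, 119387, 118510], [7, 0, 119348, 119389, 118512], [4, 0, 119346, 119391, 118514], [7, 0, 119344, 119393, 118516], [10, 0, 119342, 119395, 118448], [5, 0, 119340, 119397], [330, 0, 119377, 118501, 118499, 118993, 119261, 119057, 119055, 119053, 119051, 118963, 118960, 118481, 118936, 44658, 39293, 12334, 118348, 118517, 118515, 118513, 118511, 118509, 118507, 118505, 119382, 119360, 119362, 119364, 119366, 118509, 118507, 118505, 118503, 119376], [343, 2, 119366, 118656, 119367], [359, 2, 119366, 118600, 119367], [375, 2, 119366, 118544, 119367], [266, 3, 119383, 118779, 119046, 119367], [251, 0, 119409, 119370, 119408], [265, 4, 119377, 119035, 119368, 119408], [283, 0, 119409, 119374, 119408], [347, 0, 119409, 119404, 119408], [363, 0, 119409, 119406, 119408], [367, 2, 119361, 119418, 119360], [363, 0, 119363, 119420, 119362], [351, 2, 119361, 119416, 119360], [347, 0, 119363, 119424, 119362], [287, 2,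 119361, 119414, 119360], [283, 0, 119363, 119428, 119362], [272, 1, 119361, 119412, 119360], [268, 3, 119363, 119432, 119362], [255, 2, 119361, 119410, 119360], [251, 0, 119363, 119436, 119362], [335, 0, 119364, 119402, 119365], [331, 2, 119362, 119440, 119363], [114, 2, 118439, 118448, 119398], [116, 0, 118448, 119398, 119444, 118449, 119338], [214, 5, 113904, 113903, 68424, 105798, 118398, 118438, 119398], [253, 2, 119399, 118443, 119398], [269, 2, 119399, 118445, 119398], [281, 2, 111885, 25413, 118441, 119398], [285, 2, 119399, 118447, 119398], [333, 2, 119399, 118453, 119398], [349, 2, 119399, 118455, 119398], [365, 2, 119399, 118457, 119398], [281, 0, 118360, 118351, 119338, 119456], [265, 3, 119452, 119464, 117782, 111682], [297, 4, 119464, 117794, 112735, 118179], [327, 0, 119464, 117775, 116973], [312, 1, 112928, 119045, 119382], [327, 2, 112928, 119043, 119382], [313, 3, 119474, 112670, 112890, 112671], [0, 0], [231, 4, 49143, 47072, 13761, 13731, 46511, 107206, 107230, 119478], [62, 2, 119480, 49143], [113, 2, 119480, 49139, 107895], [125, 2, 119480,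 49167, 109942], [201, 2, 119480, 49137, 49133, 119481], [226, 3, 119480, 49167, 48949, 107206], [257, 2, 119480, 49145, 119481], [273, 2, 119480, 49149, 119481], [289, 2, 119480, 49151, 119481], [298, 2, 119480, 49147, 46785, 111892], [305, 2, 119480, 49164, 107895], [322, 1, 119480, 49157, 107895], [337, 2, 119480, 49159, 119481], [353, 2, 119480, 49161, 119481], [369, 2, 119480, 49163, 119481], [313, 1, 107907, 113684, 113675, 119498], [0, 0], [0, 0], [329, 11, 98447, 71328, 106524, 101576, 98942, 98944, 102244, 105714, 105997, 71344, 107052, 113544, 113537, 113587, 59113, 97689, 97694, 65409, 8358, 37908, 36942, 42583, 37168, 42582, 36546, 25846, 65137, 65109, 113518, 113497, 105153, 108836, 119512, 119514], [38, 2, 119516, 52854], [85, 1, 119516, 99157, 52234], [86, 2, 119516, 96006, 102053], [94, 2, 119516, 106831, 106055], [99, 3, 119516, 52854, 110946, 110939, 106301, 106055, 119449], [202, 3, 119516, 96006, 67618, 99074], [234, 2, 119516, 110936, 110906, 95414], [235, 3, 119516, 52854, 110946, 110939, 106546, 98701, 101500], [251, 2, 119516, 53041, 119517],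 [265, 3, 119516, 53014, 108986, 108832, 119512], [3, 0, 119518, 119537], [4, 0, 119517, 119537], [5, 0, 119522, 119537], [6, 0, 119520, 119537], [8, 0, 119514, 119537], [9, 0, 119528, 119537], [11, 0, 119532, 119537], [12, 0, 119530, 119537], [13, 0, 119524, 119537], [14, 0, 119526, 119537], [17, 0, 119536, 119534, 119537], [250, 1, 108991, 119512, 119558], [279, 2, 119560, 71701, 119561], [295, 2, 119560, 71653, 119561], [343, 2, 119560, 71560, 119561], [359, 2, 119560, 71502, 119561], [375, 2, 119560, 71444, 119561], [0, 0], [0, 0], [0, 0], [0, 0], [0, 0], [0, 0], [0, 0], [0, 0], [0, 0], [0, 0], [0, 0], [0, 0], [0, 0], [0, 0]]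
def dJ302 : List (List ℕ) := [[327, 2, 117517, 120620, 120790], [320, 1, 117535, 120800, 117518], [316, 3, 117521, 120802, 117536], [319, 3, 111548, 118173, 120804], [320, 1, 111635, 118162, 120804, 117522], [8, 0, 117522, 120808], [16, 0, 117525, 120808, 110484], [8, 0, 117527, 120813], [319, 0, 116962, 118170, 120814], [315, 2, 117529, 120816, 116961], [319, 0, 116958, 120818, 117530], [315, 3, 120820, 120560, 111410], [326, 0, 120820, 120564, 118170], [309, 2, 120564, 118168, 120824], [304, 3, 118163, 111640, 120810], [300, 1, 117520, 120828, 117537], [263, 0, 120788, 118324, 120789], [265, 4, 120788, 118313, 117896, 120626], [295, 0, 120788, 118328, 120789], [297, 4, 120788, 118315, 112632, 117795], [311, 0, 120788, 118333, 117398], [313, 4, 120788, 118319, 108991, 117392], [314, 1, 120788, 118317, 54870, 99998], [327, 0, 120788, 118337, 117763], [314, 1, 97483, 111914, 117763, 120846], [321, 1, 118369, 117795, 120846], [323, 1, 100865, 117789, 120846], [324, 2, 60839, 117786, 120846], [314, 3, 120603, 120786, 112041, 104448], [327, 2, 120603, 120786, 117496],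 [317, 3, 119027, 117498, 120858], [322, 0, 119027, 117510, 120858], [323, 3, 79234, 117507, 120858], [324, 0, 87733, 117505, 120858], [325, 3, 59616, 117500, 120858], [383, 0, 120859, 117326, 120858], [395, 0, 120859, 117268, 120858], [405, 0, 120859, 117210, 120858], [414, 3, 117725, 117722, 120858], [309, 2, 120868, 60850, 117715], [326, 1, 120868, 60855, 117715], [133, 3, 120605, 120866, 109713], [135, 5, 79022, 120865, 120866, 109713, 120882], [226, 4, 120605, 120866, 86169, 119031], [229, 1, 120770, 103625, 103626, 118389, 118386, 112166, 112052], [0, 0], [0, 0], [329, 11, 98299, 65478, 98753, 101573, 98890, 98894, 96523, 102169, 102045, 65494, 107055, 107316, 107309, 107345, 59050, 97529, 97534, 65331, 2620, 37382, 28516, 37271, 41366, 37270, 35840, 46406, 49463, 50048, 107305, 107241, 105162, 103142, 120890, 120892], [38, 2, 120894, 60590], [85, 1, 120894, 99245, 59758], [86, 2, 120894, 99137, 67126], [94, 2, 120894, 116450, 116435], [99, 3, 120894, 60590, 120117, 120114, 116432, 116435, 117400], [202, 3, 120894, 99137, 99142, 99263], [234, 2, 120894, 118142,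 118140, 95411], [235, 3, 120894, 60590, 120117, 120114, 106885, 98507, 101576], [251, 2, 120894, 60720, 120895], [265, 3, 120894, 60723, 107252, 107294, 120890], [3, 0, 120896, 120915], [4, 0, 120895, 120915], [5, 0, 120900, 120915], [6, 0, 120898, 120915], [8, 0, 120892, 120915], [9, 0, 120906, 120915], [11, 0, 120910, 120915], [12, 0, 120908, 120915], [13, 0, 120902, 120915], [14, 0, 120904, 120915], [17, 0, 120914, 120912, 120915], [250, 1, 97482, 120890, 120936], [279, 2, 120938, 65816, 120939], [295, 2, 120938, 65758, 120939], [312, 1, 120938, 71869, 119561], [327, 2, 120938, 71871, 119561], [343, 2, 120938, 65700, 120939], [359, 2, 120938, 65642, 120939], [375, 2, 120938, 65584, 120939], [0, 0], [213, 3, 50307, 17164, 17358, 44679, 49252, 93417, 120954], [46, 2, 120956, 50307], [85, 2, 120956, 50290, 109970], [86, 1, 120956, 50292, 120259], [114, 2, 120956, 50348, 109251], [210, 3, 120956, 50290, 24897, 70751], [217, 2, 120956, 50410, 50407, 120957], [253, 2, 120956, 50295, 120957], [269, 2, 120956, 50297, 120957], [285, 2, 120956, 50299, 120957], [302, 1,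 120956, 50366, 109251], [317, 2, 120956, 50368, 109251], [333, 2, 120956, 50301, 120957], [349, 2, 120956, 50303, 120957], [365, 2, 120956, 50305, 120957], [173, 0, 109257, 70747, 120966], [0, 0], [0, 0], [0, 0], [0, 0], [0, 0], [0, 0], [0, 0], [0, 0], [0, 0], [0, 0], [0, 0], [0, 0], [0, 0], [0, 0], [0, 0], [0, 0], [0, 0], [0, 0], [0, 0], [0, 0], [329, 31, 102997, 89576, 41590, 89577, 104013, 104002, 104953, 94222, 104918, 106824, 113723, 113691, 90153, 119696, 120988, 120990, 120992, 120994, 120996, 120998, 121000, 121002, 121004, 121006, 121008, 121010, 121012, 121014, 121016, 121018, 121020, 121022, 121024, 121026], [37, 2, 121028, 99495], [85, 3, 121028, 87096, 106283], [86, 0, 121028, 102694, 113714], [93, 3, 121028, 118522, 118515], [94, 0, 121028, 102965, 58557], [202, 1, 121028, 67089, 114785, 114761], [233, 0, 121028, 106186, 121029, 121039], [251, 0, 121028, 58360, 121029], [265, 0, 121028, 102893, 102890, 55003], [267, 0, 121028, 58336, 121029], [283, 0, 121028, 58312, 121029], [299, 0, 121028, 58449, 105666], [300, 3, 121028, 58397, 107976], [315, 0,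 121028, 58394, 107976], [316, 3, 121028, 58452, 105666], [329, 6, 121026, 121028, 102997, 89576, 12879, 47615, 47629, 42432, 46402, 46763, 23999, 92592, 106673, 109280, 109293, 99797, 48326, 48779, 65194, 106207, 105934, 56907, 56905, 56903, 56901, 99355, 99358, 99378, 56315, 99379, 99376, 91771, 56047, 91961, 106856], [8, 0, 121027, 121061], [16, 0, 121024, 121061, 106029], [7, 0, 121022, 121065, 100053], [4, 0, 121020, 121067, 100048], [7, 0, 121018, 121069, 56098], [15, 0, 121016, 121071, 56100], [8, 0, 121014, 121073, 103807], [3, 0, 121012, 121075, 103775], [8, 0, 121010, 121077, 103776], [15, 0, 121008, 121079, 56690], [7, 0, 121006, 121081, 56687], [4, 0, 121004, 121083, 99969], [7, 0, 121002, 121085, 99972], [16, 0, 121000, 121087, 56681], [8, 0, 120998, 121089, 99722], [3, 0, 120996, 121091, 24853], [8, 0, 120994, 121093, 24144], [15, 0, 120992, 121095], [331, 0, 121028, 58275, 121029], [346, 27, 56671, 103949, 103952, 92591, 106673, 109280, 109293, 119738, 119583, 119700, 105383, 103553, 56099, 100049, 100052, 106028, 121062, 121028, 102997, 89595, 104013,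 104002, 104953, 94222, 104918, 106824, 113723, 113691, 90153, 119696, 120988, 120990, 121097, 24145, 24852, 99723, 99722, 24853, 24144, 121096, 120991, 120989, 119697, 119696, 120988, 120990], [347, 0, 121028, 58247, 121029], [363, 0, 121028, 58219, 121029], [265, 0, 26110, 99864, 121029, 121049], [329, 4, 121106, 46245, 46240, 24135, 46165, 46160, 44595, 45471, 94135, 94128, 104553, 104827, 105787, 105778, 105734, 84663, 106939, 93859, 106898, 93863, 106940, 114026, 114100, 105846, 105031, 47603, 61854, 61859, 100071, 53226, 100070, 106294, 68423, 101503], [139, 2, 118885, 97220, 99203, 118887, 118889, 76759, 121108], [249, 3, 121100, 100007, 121096], [265, 4, 121100, 103702, 119779, 120988], [266, 1, 121100, 100338, 113824, 113910], [279, 1, 121100, 56817, 121101, 121115], [4, 0, 121116, 121119], [8, 0, 120990, 121119], [15, 0, 121101, 121119], [16, 0, 121096, 121119], [17, 0, 121118, 121112, 121119], [19, 0, 121114, 121119], [281, 1, 121126, 44816, 17168, 105809], [282, 3, 121126, 24153, 100207, 105861], [295, 2, 121126, 24153, 121127], [297, 1, 121126, 100023,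 74750, 106563], [298, 3, 121126, 100008, 99922, 116394], [311, 2, 121126, 100008, 119805], [312, 1, 121126, 46373, 109345], [313, 1, 121126, 24146, 24058, 99167], [314, 3, 121126, 46375, 25395, 118441], [327, 2, 121126, 46375, 109345], [328, 1, 121126, 100010, 119805], [343, 2, 121126, 41291, 121127], [359, 2, 121126, 40605, 121127], [375, 2, 121126, 24155, 121127], [323, 1, 83852, 119833, 121152], [69, 2, 121160, 109580], [0, 0], [0, 0], [0, 0], [0, 0], [0, 0], [0, 0], [0, 0], [361, 10, 56901, 99355, 99358, 99376, 91771, 56047, 91961, 56092, 100053, 100048, 56098, 56100, 103807, 103775, 103776, 56108, 56110, 102829, 102830, 56116, 56118, 102591, 102592, 56339, 56336, 56128, 56130, 51040, 1604, 37294, 28523, 36591, 47628, 47614, 12878, 12892, 12879, 80583, 102437, 121164, 121166, 121168, 121170, 121172, 121174, 121176], [249, 0, 121178, 56902, 57096], [263, 0, 121178, 57099, 121179], [266, 1, 121178, 101553, 93865, 93870], [279, 0, 121178, 57073, 121179], [282, 1, 121178, 76973, 93865, 93872], [295, 0, 121178, 57047, 121179], [297, 4, 121178, 102507, 114788, 114850],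 [311, 0, 121178, 58389, 109437], [314, 1, 121178, 101590, 59164, 60277], [327, 0, 121178, 57123, 108598]]
def dJ306 : List (List ℕ) := [[15, 0, 121817, 122396], [249, 1, 118907, 118880, 122400], [265, 1, 111959, 118458, 118822, 122400], [281, 1, 117492, 118899, 118764, 122400], [297, 1, 117492, 120711, 120712, 122400], [312, 1, 120699, 120712, 122400], [313, 1, 113265, 116686, 118911, 122400], [314, 3, 71081, 71227, 118901, 122400], [327, 2, 120699, 120722, 122400], [320, 2, 122416, 118993, 122351], [323, 1, 122416, 119002, 122417], [133, 3, 121819, 122420, 121818], [241, 0, 122361, 113246, 122413, 121818, 122422], [4, 0, 121836, 122425], [5, 0, 122424, 122357, 122425], [8, 0, 121839, 122425], [13, 0, 122360, 122425], [14, 0, 122358, 122425], [16, 0, 122353, 122425], [233, 2, 101565, 122433, 122423, 121820], [235, 2, 122372, 96886, 101624, 106157, 122433, 122423, 121820], [236, 1, 122440, 122427, 122423, 122426, 122441, 122438, 106853], [77, 1, 106853, 122442], [173, 0, 122442, 122438, 122445], [209, 2, 122443, 101624, 98184, 122442], [310, 1, 122244, 75805, 122442],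 [313, 2, 111730, 97275, 97270, 122442], [325, 2, 122244, 75797, 122442], [319, 0, 121823, 122454, 122254], [321, 1, 120566, 118895, 122456], [323, 1, 96232, 118887, 122456], [324, 2, 79213, 118888, 122456], [325, 1, 122457, 118890, 122456], [328, 3, 119369, 122456, 121824], [313, 3, 122466, 119369, 118891, 119368], [307, 2, 122462, 79216, 118888], [311, 0, 119369, 122470, 121824], [298, 1, 120556, 122459, 121824, 122472], [305, 3, 122472, 122474, 118169], [125, 3, 119364, 122474, 120814], [218, 1, 121823, 122448, 121822, 122458], [281, 3, 110700, 120556, 122480, 121824], [302, 2, 120563, 122480, 122471], [86, 0, 119035, 122484, 120607], [282, 1, 119369, 122484, 110468, 110717], [85, 3, 120823, 122488, 119408], [282, 1, 119382, 122490, 117532, 117638], [210, 4, 117740, 120799, 122492, 119040], [282, 1, 112934, 122494, 117517, 117657], [54, 1, 118916, 122398], [126, 0, 111424, 119049, 122398], [133, 3, 94096, 118905, 122398], [134, 0, 103337, 118912, 122398], [234, 2, 121812, 122502, 104753, 104738], [308, 1, 122502, 76786, 122506], [323, 2, 122502, 76788, 122506],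 [320, 2, 122510, 122399, 118910], [324, 2, 122510, 122504, 107711], [217, 1, 122498, 111414, 121741, 121810], [282, 3, 119984, 114213, 114197, 122328], [114, 3, 122300, 120017, 122293], [126, 0, 110447, 118892, 122258], [0, 0], [0, 0], [0, 0], [0, 0], [0, 0], [0, 0], [0, 0], [361, 10, 121834, 122427, 122430, 122336, 121855, 121853, 121851, 122329, 24621, 24647, 48575, 122268, 121855, 121853, 121851, 122320, 122258, 121868, 121870, 121710, 121810, 121812, 122399, 118906, 47765, 47769, 47803, 121713, 121810, 121812, 122399, 118906, 47765, 47769, 47803, 12998, 47802, 47781, 45701, 122524, 122526, 122528, 122530, 122532, 122534, 122536], [249, 0, 122538, 121833, 122223], [263, 0, 122538, 122220, 122539], [279, 0, 122538, 122162, 122539], [295, 0, 122538, 122104, 122539], [329, 1, 122532, 122534, 122536, 122538, 121834, 122427, 122430, 122335, 48574, 24646, 24620, 118768, 122258, 121868, 121870, 118412, 47802, 47768, 47764, 118907, 122398, 121813, 121811, 121712, 47802, 47768, 47764, 122403, 121818, 121820, 121822, 121824, 122054, 121825], [330, 33, 122549, 122056,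 122548, 122532, 122534, 122536, 122538, 121834, 122427, 122430, 122335, 48574, 24646, 24620, 118768, 122258, 121868, 121870, 121710, 121810, 121812, 122399, 122400, 121818, 121820, 121822, 122548, 122532, 122534, 122536, 122541, 121831, 121829, 121827], [343, 0, 122538, 122046, 122539], [345, 46, 122532, 122534, 122536, 122538, 121834, 122427, 122430, 122336, 121855, 121853, 121851, 122320, 122258, 121868, 121870, 118412, 47802, 47768, 47764, 122403, 121818, 121820, 121822, 121823, 121821, 121819, 122401, 122398, 121813, 121811, 121810, 121812, 122399, 122400, 121818, 121820, 121822, 122548, 122532, 122534, 122536, 122541, 121831, 121829, 121827, 122550], [359, 0, 122538, 121988, 122539], [375, 0, 122538, 121930, 122539], [368, 3, 122536, 122558, 122537], [364, 1, 122534, 122560, 122535], [368, 3, 122532, 122562, 122533], [370, 1, 122530, 122564, 122531], [365, 2, 122528, 122566, 122529], [366, 1, 122526, 122568, 122527], [352, 3, 122536, 122556, 122537], [348, 1, 122534, 122572, 122535], [354, 1, 122530, 122554, 122531], [349, 2, 122528, 122576, 122529], [350,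 1, 122526, 122578, 122527], [336, 3, 122536, 122552, 122537], [332, 1, 122534, 122582, 122535], [336, 3, 122532, 122584, 122533], [338, 1, 122530, 122586, 122531], [333, 2, 122528, 122588, 122529], [334, 1, 122526, 122590, 122527], [250, 0, 122549, 121824, 122550], [279, 0, 122551, 122170, 122550], [281, 3, 110703, 110484, 122483, 122550], [295, 0, 122551, 122112, 122550], [311, 0, 119367, 122473, 122550], [328, 3, 119367, 122467, 122550], [297, 3, 122603, 122551, 122477, 118165], [126, 0, 118163, 122606, 118509], [306, 1, 122606, 122603, 122531], [321, 2, 122606, 122605, 122531], [315, 1, 122612, 117741, 120801], [327, 1, 122612, 111435, 111741], [328, 2, 122612, 118164, 118176], [383, 2, 122612, 111611, 122613], [395, 2, 122612, 111585, 122613], [405, 2, 122612, 111559, 122613], [281, 3, 122528, 122624, 122619, 122488, 119366], [5, 0, 122526, 122627], [6, 0, 122529, 122627], [46, 1, 122629, 122630], [302, 3, 122599, 122602, 122630], [113, 3, 122599, 122531, 122632], [253, 0, 122633, 122620, 122632], [269, 0, 122633, 122622, 122632], [285, 0, 122633, 122624, 122632],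 [282, 3, 93084, 122524, 122642, 122633, 122619], [3, 0, 120823, 122644, 93366], [5, 0, 122489, 122644], [8, 0, 110471, 122644, 93071], [15, 0, 110468, 122644], [16, 0, 122619, 122644], [24, 0, 118174, 122644, 93346], [23, 0, 111398, 122644, 93319], [5, 0, 122490, 122647], [15, 0, 120793, 122647], [16, 0, 117533, 122647], [23, 0, 120827, 122647, 93387], [3, 0, 110473, 122651, 81545], [10, 0, 122477, 122657], [15, 0, 118160, 122657], [16, 0, 118164, 122657], [5, 0, 122482, 122659], [7, 0, 120815, 122659, 93260], [10, 0, 122474, 122659], [15, 0, 120557, 122659], [16, 0, 110484, 122659], [15, 0, 116956, 122667], [8, 0, 110475, 122669, 93023], [10, 0, 122479, 122679], [15, 0, 110477, 122689], [16, 0, 111051, 122689], [23, 0, 111393, 122689, 93286], [14, 0, 120516, 122697, 93267], [15, 0, 111442, 122697], [16, 0, 110493, 122697], [15, 0, 120049, 122699], [16, 0, 120504, 122699], [265, 0, 93150, 122706, 117750, 117938], [311, 1, 93170, 122706, 117956], [312, 0, 93217, 122706, 120321], [249, 1, 120033, 120312, 122712], [297, 1, 112663, 120305, 120318, 122710], [61, 1,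 93040, 122716], [114, 1, 93203, 93059, 122716], [126, 2, 93044, 122716, 112664], [128, 3, 122722, 93044, 122716, 122718, 45014], [203, 6, 93307, 93277, 122716, 122718, 19405, 93024, 122690], [46, 2, 122726, 93307], [85, 1, 119362, 122726, 45712], [87, 2, 93276, 122728, 122726, 45712, 122730], [113, 1, 122726, 93149, 93144], [126, 2, 45717, 122734, 119364], [202, 3, 93151, 93144, 122734, 119363], [220, 5, 122677, 93260, 93025, 122734, 122729, 93306, 45723], [113, 3, 93085, 93067, 122740], [117, 0, 93085, 93067, 122740, 122677, 122680], [85, 3, 119409, 122744, 19391], [114, 0, 93240, 93204, 122746], [217, 4, 93154, 93180, 45382, 122746], [219, 1, 122720, 93376, 93375, 122746, 122750, 93101, 45370], [301, 1, 45307, 122746, 119472], [118, 5, 122751, 122747, 93374, 93398, 122755], [118, 3, 122756, 93116, 93399, 122660, 122747], [62, 1, 93204, 122758], [125, 0, 122718, 45382, 122758], [126, 0, 122725, 45048, 122758, 112669], [3, 0, 112666, 122764], [7, 0, 112669, 122764], [230, 4, 19334, 122758, 122760, 93192, 93045, 93153, 122739], [225, 3, 122763, 122759, 19335, 122771],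 [134, 0, 119360, 122772, 122763], [306, 3, 122770, 45314, 122719], [321, 0, 122770, 45316, 122719], [297, 0, 117735, 112671, 122760, 93248], [249, 2, 93104, 122780, 117516], [362, 4, 122655, 93124, 93150, 93155, 122780, 117515, 117513, 111712, 111354, 111338, 119920, 120104, 120081, 120272, 120326, 120248, 120124, 120265, 115425, 111786, 117405, 118137, 118134, 118157, 111434, 118162, 117537, 117535, 120791, 120605, 120774, 111011, 110291, 12760, 13516, 13786, 48954, 110161, 110162, 116860, 120272, 120032, 120034, 120157, 120035, 120329, 120252], [3, 0, 122614, 122785, 120053], [5, 0, 122630, 122785], [6, 0, 122633, 122785], [10, 0, 122531, 122785], [15, 0, 122654, 122785], [16, 0, 122616, 122785], [23, 0, 122611, 122785]]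
def dJ310 : List (List ℕ) := [[135, 4, 123013, 123978, 123998, 123009, 123964], [138, 0, 123978, 123996, 123011, 117519, 123964], [241, 2, 111437, 122995, 120396, 123978], [133, 1, 123979, 124003, 123965], [137, 0, 123965, 124006, 123979, 120034, 123011], [218, 3, 123979, 122945, 122923, 124008], [304, 1, 123979, 122869, 124008], [319, 2, 123979, 122860, 124008], [325, 1, 124014, 124004, 122883], [93, 2, 124004, 122878, 124016], [94, 2, 110481, 124016, 123452], [97, 5, 124020, 122834, 122878, 124016, 124018, 123469], [3, 0, 123469, 124022], [7, 0, 123466, 124022], [210, 2, 124020, 122954, 122878, 124016], [213, 4, 124020, 110481, 122879, 122955, 122957, 124016, 124010], [234, 2, 122841, 123006, 124016, 123452], [309, 2, 124020, 122836, 124016], [326, 1, 124020, 122838, 124016], [315, 2, 123453, 124036, 124024], [319, 2, 120800, 123964, 124036, 124026], [8, 0, 124026, 124040], [16, 0, 123464, 124040, 122665], [7, 0, 123462, 124045, 93361], [4, 0, 123460, 124047, 92831], [7, 0, 123458, 124049, 93162], [16, 0, 123456, 124051, 122829], [7, 0, 123454, 124053], [324,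 2, 122811, 124001, 124036], [413, 2, 124038, 124035, 124036], [125, 1, 122952, 122823, 124054], [0, 0], [0, 0], [0, 0], [0, 0], [0, 0], [0, 0], [0, 0], [0, 0], [0, 0], [0, 0], [345, 14, 122865, 124008, 124018, 123996, 122850, 123966, 123484, 123486, 123487, 123485, 123967, 122687, 93195, 92863, 93190, 93191, 92862, 93194, 122686, 123966, 123484, 123486, 123897, 47730, 47696, 47624, 120101, 123886, 123875, 123878, 119922, 40725, 47079, 47698, 47729, 116776, 124062, 124064, 124066, 124068, 124070, 124072, 124074, 124076, 124078, 124080], [54, 0, 124082, 116986, 124062], [4, 0, 124080, 124085], [8, 0, 124083, 124085], [133, 1, 124088, 116989, 95960], [134, 2, 124088, 116991, 102783], [241, 2, 124088, 116989, 106140, 96904], [242, 2, 124088, 116993, 110879, 81167], [255, 2, 124088, 116995, 124089], [271, 2, 124088, 116997, 124089], [287, 2, 124088, 116999, 124089], [335, 2, 124088, 117001, 124089], [351, 2, 124088, 117003, 124089], [367, 2, 124088, 117005, 124089], [363, 0, 124087, 124108, 124086], [364, 1, 124065, 124108, 124064], [347, 0, 124087, 124106, 124086],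 [348, 1, 124065, 124106, 124064], [331, 0, 124087, 124104, 124086], [332, 1, 124065, 124104, 124064], [283, 0, 124087, 124102, 124086], [284, 1, 124065, 124102, 124064], [267, 0, 124087, 124100, 124086], [268, 1, 124065, 124100, 124064], [251, 0, 124087, 124098, 124086], [252, 1, 124065, 124098, 124064], [93, 3, 101487, 124096, 124086], [94, 2, 101483, 124096, 124064], [95, 4, 124134, 101487, 124096, 124095, 98902], [96, 3, 124136, 101483, 124096, 124095, 98701], [97, 4, 124136, 101485, 101487, 124096, 124086], [209, 2, 124097, 101486, 81382, 124096], [234, 2, 98271, 106064, 124096, 124064], [313, 2, 112797, 102377, 102372, 124096], [265, 0, 124087, 124148, 112659, 112821], [266, 2, 124065, 124148, 112841, 112800], [281, 1, 124153, 112805, 112826, 124152], [312, 1, 123994, 112884, 124152], [327, 2, 123994, 112882, 124152], [316, 1, 124142, 124158, 123445], [319, 1, 124067, 124158, 123993, 120880], [7, 0, 124066, 124163], [16, 0, 124069, 124163, 120755], [8, 0, 124071, 124167, 111889], [3, 0, 124073, 124169, 111941], [8, 0, 124075, 124171, 111887], [16, 0, 124077,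 124173, 119455], [8, 0, 124079, 124175], [320, 2, 124158, 123959, 120620], [323, 1, 124158, 123981, 116453], [236, 7, 119557, 119554, 51776, 106301, 124180, 124065, 124086], [307, 2, 123986, 114045, 124180], [324, 1, 123986, 114047, 124180], [315, 2, 124142, 124186, 123484], [317, 3, 124189, 123952, 124188], [414, 3, 123909, 123930, 124188], [414, 3, 124189, 124193, 124161], [0, 0], [0, 0], [0, 0], [0, 0], [0, 0], [0, 0], [0, 0], [0, 0], [0, 0], [0, 0], [0, 0], [0, 0], [0, 0], [0, 0], [361, 17, 116861, 47625, 47697, 47731, 123896, 123487, 123485, 123967, 122851, 123997, 124019, 124009, 122864, 124089, 124086, 124177, 119454, 111886, 111940, 111888, 120754, 124164, 124065, 124063, 116777, 47728, 47699, 47078, 13522, 47079, 47051, 45015, 124196, 124198, 124200, 124202, 124204, 124206, 124208, 124210, 124212, 124214, 124216, 124218, 124220, 124222], [53, 2, 124224, 120272], [125, 3, 124224, 118999, 118964], [133, 3, 124224, 116869, 68419], [134, 0, 124224, 116867, 60593], [241, 0, 124224, 116871, 98103, 106073], [255, 0, 124224, 116874, 124225], [271, 0, 124224, 116876,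 124225], [287, 0, 124224, 116878, 124225], [303, 0, 124224, 116862, 124062], [320, 3, 124224, 116886, 124062], [330, 18, 124204, 124206, 124208, 124210, 124212, 124214, 124216, 124218, 124220, 124222, 124224, 116861, 47625, 47697, 47731, 123896, 123898, 117162, 123899, 123487, 123485, 123967, 122851, 123997, 124019, 124009, 122866, 93045, 92860, 93118, 122783, 123964, 123452, 124055, 122826], [7, 0, 124205, 124247], [9, 0, 124202, 124247], [335, 0, 124224, 116881, 124225], [351, 0, 124224, 116883, 124225], [367, 0, 124224, 116885, 124225], [363, 2, 124222, 124256, 124223], [367, 0, 124220, 124258, 124221], [376, 3, 124218, 124260, 124219], [368, 1, 124216, 124262, 124217], [364, 3, 124214, 124264, 124215], [368, 1, 124212, 124266, 124213], [376, 3, 124210, 124268, 124211], [367, 0, 124208, 124270, 124209], [363, 2, 124206, 124272, 124207], [347, 2, 124222, 124254, 124223], [351, 0, 124220, 124276, 124221], [360, 3, 124218, 124278, 124219], [352, 1, 124216, 124280, 124217], [348, 3, 124214, 124282, 124215], [352, 1, 124212, 124284, 124213], [360, 3, 124210, 124286,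 124211], [351, 0, 124208, 124288, 124209], [347, 2, 124206, 124290, 124207], [331, 2, 124222, 124252, 124223], [335, 0, 124220, 124294, 124221], [344, 3, 124218, 124296, 124219], [336, 1, 124216, 124298, 124217], [332, 3, 124214, 124300, 124215], [336, 1, 124212, 124302, 124213], [344, 3, 124210, 124304, 124211], [335, 0, 124208, 124306, 124209], [331, 2, 124206, 124308, 124207], [125, 2, 116900, 117962, 124250], [226, 3, 95796, 95690, 117934, 124250], [257, 2, 124251, 117908, 124250], [273, 2, 124251, 117953, 124250], [289, 2, 124251, 117955, 124250], [305, 2, 120305, 120320, 124250], [322, 1, 120305, 120322, 124250], [337, 2, 124251, 117886, 124250], [353, 2, 124251, 117874, 124250], [369, 2, 124251, 117862, 124250], [366, 1, 124200, 124330, 124201], [365, 2, 124198, 124332, 124199], [350, 1, 124200, 124328, 124201], [349, 2, 124198, 124336, 124199], [334, 1, 124200, 124326, 124201], [333, 2, 124198, 124340, 124199], [316, 0, 124324, 118960, 122395], [317, 3, 124200, 124324, 122932, 120322], [5, 0, 124198, 124347], [6, 0, 124201, 124347], [319, 3, 124324, 112661,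 112880], [323, 3, 124324, 112872, 81389], [325, 3, 124324, 112892, 124325], [226, 1, 84871, 124354, 124251, 124248], [228, 2, 124358, 84871, 124354, 124314, 95796, 95690, 95976], [228, 1, 116905, 106352, 95797, 101469, 124354, 124251, 124248], [125, 3, 124362, 116901, 112111], [223, 3, 124312, 112111, 112544, 112544, 124364, 124362, 117962, 124348], [224, 0, 124366, 124351, 124248, 124362, 117742, 117967, 112111, 124352], [230, 5, 124369, 124251, 124248, 124362, 116905, 78333, 102368], [241, 0, 124362, 116907, 98217, 106082], [255, 0, 124362, 116908, 124363], [271, 0, 124362, 116910, 124363], [287, 0, 124362, 116912, 124363], [303, 0, 124362, 116922, 124225], [304, 3, 124362, 116915, 124062], [319, 0, 124362, 116890, 124062], [320, 3, 124362, 116924, 124225], [131, 6, 124369, 124353, 112110, 117969, 117970, 124363, 124249], [126, 3, 117970, 117962, 124388], [225, 3, 105683, 89102, 117934, 124388], [257, 0, 124389, 117909, 124388], [273, 0, 124389, 117952, 124388], [289, 0, 124389, 117954, 124388]]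
def dJ314 : List (List ℕ) := [[263, 2, 125596, 42488, 125597], [265, 1, 125596, 24843, 23772, 55270], [266, 3, 125596, 24864, 24866, 95094], [279, 2, 125596, 24864, 125597], [281, 1, 125596, 47494, 47500, 105059], [282, 3, 125596, 24862, 59129, 105052], [295, 2, 125596, 24862, 125597], [298, 3, 125596, 46455, 65901, 120939], [311, 2, 125596, 46455, 109997], [313, 1, 125596, 25360, 46743, 95094], [314, 3, 125596, 46741, 24163, 55270], [328, 1, 125596, 46447, 109997], [343, 2, 125596, 41294, 125597], [359, 2, 125596, 40608, 125597], [361, 2, 125596, 47494, 59131, 59127, 48821, 48582, 48573, 95018, 125546, 125555, 125556, 96330, 49173, 49192, 48335, 46512, 47928, 47945, 13462, 108947, 108924, 107687, 107727, 108232, 108355, 107928, 107927, 98577, 98855, 98852, 77889, 103223, 103218, 101784, 98016, 95293, 96489, 96486, 99189, 99196, 23792, 24842, 46744, 23939, 46745, 125597], [375, 2, 125596, 24860, 125597], [0, 0], [313, 2, 23110, 46589, 101940, 125632], [263, 2, 125634, 42084, 125635], [265, 1, 125634, 46985, 47032, 110412], [266, 3, 125634, 22337, 47612, 116860],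 [279, 2, 125634, 22337, 125635], [295, 2, 125634, 22339, 125635], [297, 1, 125634, 22364, 46145, 125635], [311, 2, 125634, 46144, 116615], [312, 1, 125634, 45886, 110339], [314, 3, 125634, 45888, 39069, 106237], [327, 2, 125634, 45888, 110339], [328, 1, 125634, 46146, 116615], [343, 2, 125634, 41980, 125635], [359, 2, 125634, 41158, 125635], [375, 2, 125634, 22341, 125635], [323, 1, 97275, 116639, 125656], [324, 2, 57132, 116641, 125656], [0, 0], [297, 2, 110077, 44596, 110029, 125668], [263, 2, 125670, 110093, 125671], [265, 1, 125670, 116740, 116754, 117979], [279, 2, 125670, 110095, 125671], [281, 1, 125670, 110080, 48628, 122334], [282, 3, 125670, 110097, 110082, 110029], [295, 2, 125670, 110097, 125671], [298, 3, 125670, 110098, 110052, 122334], [311, 2, 125670, 110098, 110389], [313, 1, 125670, 110109, 97575, 97566], [314, 3, 125670, 110136, 110123, 105981], [328, 1, 125670, 110100, 110389], [343, 2, 125670, 110103, 125671], [359, 2, 125670, 110105, 125671], [375, 2, 125670, 110107, 125671], [0, 0], [0, 0], [0, 0], [0, 0], [0, 0], [0, 0], [0, 0], [0, 0],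 [0, 0], [0, 0], [0, 0], [0, 0], [0, 0], [0, 0], [0, 0], [0, 0], [0, 0], [0, 0], [0, 0], [0, 0], [0, 0], [0, 0], [0, 0], [0, 0], [0, 0], [0, 0], [329, 32, 110028, 41557, 110029, 111287, 111269, 111266, 111019, 120404, 125700, 125702, 125704, 125706, 125708, 125710, 125712, 125714, 125716, 125718, 125720, 125722, 125724, 125726, 125728, 125730, 125732, 125734, 125736, 125738, 125740, 125742, 125744, 125746, 125748, 125750], [54, 2, 125752, 117470], [125, 1, 125752, 122343, 122431], [133, 1, 125752, 117488, 117471], [134, 2, 125752, 125758, 125755], [241, 2, 125752, 117488, 117487, 74820], [242, 2, 125752, 110027, 106150, 98673], [255, 2, 125752, 110031, 125753], [271, 2, 125752, 110033, 125753], [287, 2, 125752, 110035, 125753], [303, 2, 125752, 110330, 110997], [304, 1, 125752, 110435, 111352], [319, 2, 125752, 110437, 111352], [320, 1, 125752, 110332, 110997], [329, 6, 125748, 125750, 125752, 110028, 44602, 18618, 45673, 118153, 118145, 111724, 120244, 120124, 121669, 121701, 121667, 115460, 111425, 111423, 111421, 111684, 108143, 108120, 110956, 110460, 110462,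 111007, 111008, 122653, 93078, 122652, 122797, 120398, 122879, 118173, 122872], [8, 0, 125749, 125781], [16, 0, 125746, 125781, 122708], [7, 0, 125744, 125785, 93146], [4, 0, 125742, 125787, 81547], [7, 0, 125740, 125789, 93336], [15, 0, 125738, 125791, 122674], [8, 0, 125736, 125793, 111436], [3, 0, 125734, 125795, 122835], [8, 0, 125732, 125797, 122845], [15, 0, 125730, 125799, 122701], [7, 0, 125728, 125801, 93259], [4, 0, 125726, 125803, 65310], [7, 0, 125724, 125805, 93262], [16, 0, 125722, 125807, 122682], [7, 0, 125720, 125809], [335, 2, 125752, 110039, 125753], [351, 2, 125752, 110041, 125753], [362, 45, 120399, 120174, 120398, 122879, 118173, 122872, 125782, 125750, 125752, 111287, 111269, 111266, 111019, 120404, 125700, 125702, 125704, 125706, 125708, 125710, 125712, 125714, 125716, 125718, 125811, 120555, 110483, 110481, 110479, 111049, 111047, 111045, 111353, 110413, 46997, 18648, 47259, 110905, 110446, 110448, 110450, 121792, 121789, 118418, 121710, 121810], [265, 0, 121813, 125816, 122879, 111583], [53, 1, 125701, 120406, 125810], [4, 0, 125718, 125820],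 [8, 0, 125810, 125820], [126, 2, 121822, 122458, 125825], [133, 1, 98199, 120550, 125825], [134, 2, 106224, 120533, 125825], [242, 2, 69963, 101438, 120533, 125825], [247, 4, 106146, 69963, 114025, 114037, 87730, 120577, 120406, 125825], [255, 2, 125824, 120535, 125825], [271, 2, 125824, 120537, 125825], [287, 2, 125824, 120539, 125825], [303, 2, 111432, 120541, 125825], [304, 1, 111008, 120563, 125825], [319, 2, 111008, 120567, 125825], [320, 1, 111432, 120543, 125825], [335, 2, 125824, 120545, 125825], [351, 2, 125824, 120479, 125825], [361, 1, 122254, 119368, 122649, 93084, 93359, 93337, 81546, 93147, 122870, 118172, 122878, 120399, 122794, 93071, 81545, 93023, 122694, 111047, 111045, 111353, 110413, 46997, 18648, 47259, 110902, 110889, 110886, 110439, 110294, 45676, 18650, 46804, 120432, 125700, 125702, 125704, 125706, 125708, 125710, 125712, 125714, 125716, 125823, 125824, 120456, 125825], [367, 2, 125824, 120457, 125825], [363, 0, 125823, 125856, 125822], [364, 1, 125703, 125856, 125702], [368, 3, 125705, 125860, 125704], [361, 1, 121870, 118412, 108140,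 108165, 120277, 121669, 121701, 121667, 115460, 111425, 111423, 111421, 111684, 108143, 108120, 110956, 110460, 110462, 111007, 111008, 122653, 93071, 81545, 93023, 122692, 110478, 110480, 110482, 122685, 93263, 65311, 93258, 122702, 110921, 110993, 110996, 110291, 45676, 18650, 46804, 120432, 125700, 125702, 125704, 125862, 125705], [263, 0, 125864, 121884, 125865], [279, 0, 125864, 121886, 125865], [295, 0, 125864, 121888, 125865], [311, 0, 125864, 122386, 122355], [313, 4, 125864, 121881, 68421, 111377], [314, 1, 125864, 121883, 55294, 64367], [343, 0, 125864, 121890, 125865], [359, 0, 125864, 121892, 125865], [281, 3, 125871, 125864, 121878, 125865], [86, 0, 125702, 125882, 125703], [90, 0, 125823, 125702, 125882, 125703, 125822], [209, 1, 125763, 76960, 125833, 125822, 125886], [4, 0, 125750, 125889], [8, 0, 125754, 125889, 125717], [8, 0, 125753, 125889], [10, 0, 125756, 125889], [11, 0, 125760, 125889], [12, 0, 125758, 125889], [13, 0, 125762, 125889], [14, 0, 125764, 125889], [17, 0, 125888, 125766, 125889], [19, 0, 125888, 125768, 125889], [21, 0, 125888,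 125770, 125889], [23, 0, 125772, 125889], [24, 0, 125774, 125889], [25, 0, 125776, 125889], [26, 0, 125778, 125889], [27, 0, 125888, 125812, 125889], [29, 0, 125888, 125814, 125889], [8, 0, 125717, 125892], [16, 0, 125714, 125892, 117491], [7, 0, 125712, 125927, 114414], [4, 0, 125710, 125929, 114417], [7, 0, 125708, 125931, 114448], [16, 0, 125706, 125933, 117899], [7, 0, 125704, 125935], [211, 5, 125703, 125822, 125886, 125902, 106149, 98647, 106145], [86, 0, 125891, 125887, 125890], [209, 1, 125939, 102562, 125903, 125890, 125940], [3, 0, 125890, 125942], [7, 0, 125782, 125942], [126, 0, 125946, 122391, 121834], [133, 3, 125946, 117931, 106089], [134, 0, 125946, 117932, 98424], [304, 3, 125946, 117943, 110921], [319, 0, 125946, 117949, 110921], [0, 0], [0, 0], [0, 0], [0, 0], [361, 9, 120589, 110462, 111007, 111008, 122797, 120398, 122879, 118173, 122871, 93146, 81547, 93336, 122674, 111436, 122835, 122845, 111445, 110921, 110993, 110996, 110292, 110438, 110887, 110888, 110903, 47258, 18649, 46996, 111361, 111329, 111326, 111035, 111299, 45672, 18619, 44603,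 14348, 44602, 47782, 47803, 121713, 121721, 125958, 125960, 125962, 125964], [53, 2, 125966, 120658], [126, 0, 125966, 120730, 122512], [133, 3, 125966, 120734, 59765], [134, 0, 125966, 120732, 63683], [224, 2, 125966, 120658, 111416, 111642, 118916, 122398, 122500, 120661], [241, 0, 125966, 120736, 115521, 115528], [255, 0, 125966, 120741, 125967], [271, 0, 125966, 120743, 125967], [287, 0, 125966, 120745, 125967], [303, 0, 125966, 120746, 117364], [304, 3, 125966, 120749, 111425], [319, 0, 125966, 120751, 111425], [320, 3, 125966, 120725, 117364], [329, 3, 125964, 125966, 120589, 110462, 111007, 111008, 122653, 93071, 81545, 93023, 122694, 111047, 111045, 111353, 110413, 46997, 18648, 47259, 110902, 110889, 110886, 110439, 110294, 45676, 18650, 46804, 120432, 125700, 125702, 125937, 117898, 114466, 117899, 117754, 117832], [4, 0, 125965, 125995], [7, 0, 125962, 125995, 117833]]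
def dJ318 : List (List ℕ) := [[364, 3, 127152, 127198, 127153], [368, 1, 127150, 127200, 127151], [376, 3, 127148, 127202, 127149], [367, 0, 127146, 127204, 127147], [363, 2, 127144, 127206, 127145], [367, 0, 127142, 127208, 127143], [369, 2, 127140, 127210, 127141], [366, 1, 127138, 127212, 127139], [365, 2, 127136, 127214, 127137], [376, 1, 127134, 127216, 127135], [351, 0, 127158, 127190, 127159], [360, 3, 127156, 127220, 127157], [352, 1, 127154, 127222, 127155], [348, 3, 127152, 127224, 127153], [352, 1, 127150, 127226, 127151], [360, 3, 127148, 127228, 127149], [351, 0, 127146, 127230, 127147], [347, 2, 127144, 127232, 127145], [351, 0, 127142, 127234, 127143], [353, 2, 127140, 127236, 127141], [350, 1, 127138, 127238, 127139], [349, 2, 127136, 127240, 127137], [360, 1, 127134, 127242, 127135], [335, 0, 127158, 127188, 127159], [344, 3, 127156, 127246, 127157], [336, 1, 127154, 127248, 127155], [332, 3, 127152, 127250, 127153], [336, 1, 127150, 127252, 127151], [344, 3, 127148, 127254, 127149], [335, 0, 127146, 127256, 127147], [331, 2, 127144, 127258, 127145],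 [335, 0, 127142, 127260, 127143], [337, 2, 127140, 127262, 127141], [334, 1, 127138, 127264, 127139], [333, 2, 127136, 127266, 127137], [344, 1, 127134, 127268, 127135], [319, 1, 125654, 127020, 127186], [53, 1, 127158, 127272], [129, 2, 127275, 127273, 127171, 127272, 127274], [137, 2, 98523, 96857, 127174, 127272, 127274], [138, 3, 99538, 99448, 127172, 127272, 127274], [222, 5, 126153, 126799, 126644, 126644, 127164, 127272, 127274], [243, 3, 106790, 79023, 109719, 120882, 127168, 127272, 127274], [244, 4, 52853, 98445, 106513, 106172, 127172, 127272, 127274], [93, 0, 127286, 52854, 110946], [94, 3, 127286, 119541, 119556], [261, 0, 127286, 53040, 127287], [277, 0, 127286, 53014, 127287], [293, 0, 127286, 52960, 127287], [313, 0, 127156, 127286, 96016, 121316, 121333], [8, 0, 127154, 127299, 109259], [15, 0, 127157, 127299], [3, 0, 127152, 127301, 109255], [8, 0, 127150, 127305, 108143], [15, 0, 127148, 127307, 114172], [7, 0, 127146, 127309, 114161], [4, 0, 127144, 127311, 110050], [7, 0, 127142, 127313, 93484], [10, 0, 127140, 127315, 115162], [6, 0, 127138,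 127317, 115159], [6, 0, 127136, 127319, 48231], [15, 0, 127134, 127321], [263, 2, 127323, 48047, 127322], [265, 1, 112561, 48517, 48048, 127322], [266, 3, 122335, 48627, 48585, 127322], [279, 2, 127323, 48049, 127322], [282, 3, 116614, 22371, 48231, 127322], [295, 2, 127323, 48051, 127322], [297, 1, 127323, 48274, 48289, 127322], [311, 2, 126691, 48224, 127322], [313, 1, 105902, 48668, 48226, 127322], [314, 3, 102179, 48841, 48391, 127322], [328, 1, 126691, 48226, 127322], [323, 3, 127344, 126705, 102134], [324, 0, 127344, 126707, 74978], [281, 1, 121748, 109252, 109264, 127302], [0, 0], [0, 0], [249, 2, 42759, 127352, 127354], [249, 3, 127356, 127352, 127354], [249, 3, 127354, 127356, 127352], [266, 1, 127356, 17360, 123896, 123768], [279, 0, 127356, 16980, 127357], [295, 0, 127356, 16982, 127357], [314, 1, 127356, 17190, 99890, 87101], [343, 0, 127356, 41757, 127357], [359, 0, 127356, 41049, 127357], [375, 0, 127356, 16984, 127357], [266, 1, 120433, 17325, 127357, 127364], [93, 3, 127376, 120570, 98209], [233, 0, 127376, 120574, 101496, 101481], [69, 1, 106536,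 127380], [225, 2, 127381, 52225, 98721, 127380], [314, 0, 123357, 98223, 127378, 127355], [315, 3, 127386, 123349, 111308], [316, 0, 127386, 123343, 119945], [319, 3, 127386, 123364, 127387], [321, 3, 127386, 124736, 124743], [324, 0, 127386, 124753, 124743], [325, 3, 127386, 123357, 87821], [326, 0, 127386, 123355, 119863], [395, 0, 127386, 123350, 127387], [405, 0, 127386, 123352, 127387], [413, 0, 127386, 124738, 124743], [421, 3, 127386, 123359, 127387], [423, 3, 127386, 123361, 127387], [425, 3, 127386, 123363, 127387], [174, 1, 124723, 116205, 127400], [310, 1, 124723, 116169, 127400], [325, 2, 124723, 116171, 127400], [321, 1, 127418, 124737, 124742], [0, 0], [281, 2, 115674, 16982, 127352, 127422], [263, 2, 127424, 115687, 127425], [279, 2, 127424, 115689, 127425], [295, 2, 127424, 115691, 127425], [313, 1, 127424, 115673, 73193, 100793], [314, 3, 127424, 115695, 109595, 107058], [343, 2, 127424, 115697, 127425], [359, 2, 127424, 115699, 127425], [375, 2, 127424, 115701, 127425], [173, 0, 126077, 107047, 127434], [0, 0], [0, 0], [0, 0], [0, 0], [0, 0],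 [0, 0], [0, 0], [0, 0], [0, 0], [0, 0], [0, 0], [0, 0], [0, 0], [0, 0], [0, 0], [0, 0], [0, 0], [0, 0], [0, 0], [0, 0], [0, 0], [0, 0], [0, 0], [0, 0], [0, 0], [0, 0], [0, 0], [0, 0], [329, 30, 127390, 127392, 127353, 41757, 127352, 127354, 127444, 127446, 127448, 127450, 127452, 127454, 127456, 127458, 127460, 127462, 127464, 127466, 127468, 127470, 127472, 127474, 127476, 127478, 127480, 127482, 127484, 127486, 127488, 127490, 127492, 127494, 127496, 127498], [54, 2, 127500, 116943], [126, 2, 127500, 117460, 112119], [133, 1, 127500, 117455, 104640], [134, 2, 127500, 117452, 86091], [218, 3, 127500, 117460, 119930, 123879], [241, 2, 127500, 117455, 119938, 123879], [255, 2, 127500, 117336, 127501], [271, 2, 127500, 117278, 127501], [287, 2, 127500, 117220, 127501], [304, 1, 127500, 119934, 123879], [319, 2, 127500, 119944, 123879], [329, 23, 127500, 123899, 123487, 123485, 123967, 122687, 93195, 92863, 93190, 122713, 120220, 122712, 122714, 123978, 124025, 124043, 122665, 93361, 92831, 93162, 122706, 124248, 124405, 124406, 124482, 118323, 113659, 113657, 117495,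 123985, 124401, 124362, 117433, 127502], [335, 2, 127500, 117162, 127501], [351, 2, 127500, 117104, 127501], [361, 1, 127500, 117475, 46801, 115704, 115713, 50729, 49066, 49062, 112560, 112111, 112109, 112107, 111960, 45396, 18634, 44862, 112632, 112162, 112164, 112166, 111957, 45396, 18634, 44862, 112654, 112656, 112658, 112660, 112662, 112664, 122767, 122768, 112928, 112910, 122951, 122952, 112919, 112664, 122767, 122768, 112928, 112910, 122951, 122952, 112945, 122953], [367, 2, 127500, 117046, 127501], [376, 1, 127498, 127532, 127499], [368, 3, 127496, 127534, 127497], [364, 1, 127494, 127536, 127495], [368, 3, 127492, 127538, 127493], [375, 0, 127490, 127540, 127491], [367, 2, 127488, 127542, 127489], [363, 0, 127486, 127544, 127487], [367, 2, 127484, 127546, 127485], [375, 0, 127482, 127548, 127483], [368, 3, 127480, 127550, 127481], [364, 1, 127478, 127552, 127479], [368, 3, 127476, 127554, 127477], [376, 1, 127474, 127556, 127475], [367, 2, 127472, 127558, 127473], [363, 0, 127470, 127560, 127471], [367, 2, 127468, 127562, 127469], [376, 1, 127466, 127564,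 127467], [368, 3, 127464, 127566, 127465], [364, 1, 127462, 127568, 127463], [368, 3, 127460, 127570, 127461], [376, 1, 127458, 127572, 127459], [367, 2, 127456, 127574, 127457], [363, 0, 127454, 127576, 127455], [367, 2, 127452, 127578, 127453], [375, 0, 127450, 127580, 127451], [368, 3, 127448, 127582, 127449], [364, 1, 127446, 127584, 127447], [249, 2, 113015, 127530, 127499], [249, 3, 127588, 127530, 127499], [255, 0, 127496, 127590, 127497], [251, 2, 127494, 127592, 127495], [255, 0, 127492, 127594, 127493], [264, 3, 127490, 127596, 127491]]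
def dJ322 : List (List ℕ) := [[308, 3, 121808, 113707, 128786], [297, 3, 128800, 126029, 126018, 118934], [300, 2, 128412, 128800, 126767, 126784], [4, 0, 128413, 128805], [7, 0, 128410, 128805, 127104], [16, 0, 128408, 128809, 127089], [7, 0, 128406, 128811], [301, 1, 128800, 121779, 118953], [302, 2, 128800, 121789, 120133], [311, 1, 128800, 121780, 65287], [312, 2, 128800, 126029, 126034], [53, 1, 126149, 128812], [126, 2, 126148, 127103, 128812], [128, 0, 127103, 128812, 128824, 127102, 128823], [241, 2, 114703, 124686, 126823, 128812], [248, 3, 107733, 114703, 114585, 107641, 112018, 126821, 126149, 128812], [255, 2, 128813, 126555, 128812], [271, 2, 128813, 126497, 128812], [287, 2, 128813, 126439, 128812], [303, 2, 126148, 126824, 128812], [304, 1, 128823, 128838, 128812], [320, 1, 126148, 126826, 128812], [320, 1, 128813, 128843, 128822], [324, 2, 116603, 126821, 128844], [327, 1, 115183, 126813, 128844], [233, 0, 128404, 128846, 116591, 94641], [69, 1, 105202, 128850], [133, 2, 120012, 61984, 128850], [134, 2, 103250, 128850, 128403], [136, 3, 128856,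 103250, 128850, 128852, 104263], [137, 4, 128856, 103248, 61984, 128850, 128854], [173, 1, 107021, 94641, 128850], [174, 2, 107016, 102832, 128850], [225, 2, 111336, 105257, 88725, 128850], [226, 2, 119252, 103234, 61984, 128850], [259, 2, 128851, 61989, 128850], [275, 2, 128851, 61991, 128850], [291, 2, 128851, 61995, 128850], [307, 2, 126849, 61996, 128850], [324, 1, 126849, 61998, 128850], [314, 4, 128878, 126833, 100446, 110110], [317, 3, 128878, 126837, 111357], [319, 2, 128402, 128878, 126145], [328, 0, 128878, 127087, 127072], [282, 3, 122337, 122098, 125678, 128886], [362, 2, 121812, 122399, 122400, 121818, 121820, 121822, 122548, 122532, 122895, 122896, 122538, 121834, 122427, 122430, 122335, 48574, 24646, 24620, 118768, 122258, 121868, 121870, 121710, 121810, 121812, 122399, 122400, 121818, 121820, 121822, 121824, 121826, 122965, 122966, 121832, 121834, 122427, 122430, 122342, 122341, 125678, 128886, 128403, 128401, 128399, 128537, 128398], [7, 0, 128398, 128890, 121811], [15, 0, 128401, 128890], [3, 0, 128396, 128893], [37, 1, 121716, 128896], [93, 1,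 121515, 121737, 128896], [94, 2, 60947, 121726, 128896], [201, 1, 126061, 126019, 126017, 128896], [251, 2, 128897, 121715, 128896], [265, 2, 121747, 118416, 121710, 128896], [266, 2, 45734, 121713, 121718, 128896], [267, 2, 128897, 121718, 128896], [283, 2, 128897, 121722, 128896], [299, 2, 126138, 126864, 128896], [300, 1, 126061, 121724, 128896], [315, 2, 126061, 121728, 128896], [316, 1, 126138, 126879, 128896], [319, 3, 128922, 128394, 128920], [321, 1, 128920, 128905, 128922], [249, 1, 125817, 122243, 128894], [249, 3, 128928, 125817, 128894], [265, 1, 126143, 126860, 122185, 128894], [279, 2, 128895, 122184, 128894], [282, 3, 126143, 126444, 126862, 128894], [295, 2, 128895, 122126, 128894], [311, 2, 126143, 126859, 128894], [305, 1, 128940, 126845, 111332], [298, 4, 111332, 128942, 128928, 122899], [0, 0], [0, 0], [0, 0], [0, 0], [0, 0], [0, 0], [0, 0], [0, 0], [345, 15, 92921, 93328, 93337, 49868, 65268, 65279, 50342, 50343, 65278, 65269, 49109, 24622, 48223, 48202, 48203, 48222, 24623, 49108, 65268, 65279, 50342, 126113, 127117, 128694, 128446, 128663,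 121822, 128658, 128454, 121592, 41056, 17119, 45734, 47802, 47781, 45701, 45522, 19252, 128946, 128948, 128950, 128952, 128954, 128956, 128958, 128960], [263, 2, 128962, 92795, 128963], [265, 1, 128962, 93278, 93314, 122682], [266, 3, 128962, 92797, 93182, 122686], [279, 2, 128962, 92797, 128963], [281, 1, 128962, 93089, 19156, 128946], [295, 2, 128962, 92799, 128963], [297, 1, 128962, 92980, 92993, 128963], [311, 2, 128962, 92992, 127178], [312, 1, 128962, 92939, 126945], [313, 1, 128962, 93098, 93239, 122686], [314, 3, 128962, 92941, 93269, 122682], [327, 2, 128962, 92941, 126945], [328, 1, 128962, 93003, 127178], [343, 2, 128962, 92801, 128963], [359, 2, 128962, 92803, 128963], [375, 2, 128962, 92805, 128963], [365, 0, 128972, 128994, 128973], [368, 1, 128960, 128994, 128961], [364, 3, 128958, 128998, 128959], [368, 1, 128956, 129000, 128957], [376, 3, 128954, 129002, 128955], [367, 0, 128952, 129004, 128953], [363, 2, 128950, 129006, 128951], [349, 0, 128972, 128992, 128973], [352, 1, 128960, 128992, 128961], [348, 3, 128958, 129012, 128959], [352, 1, 128956,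 129014, 128957], [360, 3, 128954, 129016, 128955], [351, 0, 128952, 129018, 128953], [347, 2, 128950, 129020, 128951], [333, 0, 128972, 128990, 128973], [336, 1, 128960, 128990, 128961], [332, 3, 128958, 129026, 128959], [336, 1, 128956, 129028, 128957], [344, 3, 128954, 129030, 128955], [335, 0, 128952, 129032, 128953], [331, 2, 128950, 129034, 128951], [318, 3, 127164, 128988, 128973], [319, 2, 116631, 127273, 128988, 128961], [3, 0, 128958, 129040, 116619], [8, 0, 128961, 129040], [8, 0, 128956, 129043, 125895], [16, 0, 128954, 129047], [323, 1, 98502, 127174, 128988], [324, 2, 63851, 127172, 128988], [263, 0, 129049, 125907, 129048], [279, 0, 129049, 125909, 129048], [295, 0, 129049, 125911, 129048], [297, 3, 125914, 122437, 125897, 129048], [312, 3, 127025, 125915, 129048], [313, 3, 71995, 98679, 125905, 129048], [314, 0, 127039, 121165, 125903, 129048], [281, 3, 129059, 129049, 125886, 129048], [320, 0, 128952, 129066, 126935, 127072], [3, 0, 128950, 129071], [7, 0, 128953, 129071], [323, 3, 129066, 127042, 127072], [325, 3, 129066, 127039, 121418], [233,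 2, 121394, 129078, 129077, 129072], [235, 2, 117984, 107496, 107495, 121402, 129078, 129077, 129072], [237, 3, 129080, 121394, 129078, 129064, 106489, 106251, 98023], [133, 0, 128390, 53794, 129084], [134, 0, 98027, 129084, 128949], [136, 0, 129088, 98027, 129084, 129080, 114838], [137, 1, 129088, 106684, 53794, 129084, 129086], [173, 3, 106501, 98031, 129084], [174, 0, 128084, 127895, 129084], [225, 0, 129088, 95821, 129084, 128949], [226, 4, 129086, 128390, 98029, 129084], [259, 0, 129085, 54094, 129084], [275, 0, 129085, 54048, 129084], [291, 0, 129085, 54002, 129084], [307, 0, 126802, 98082, 129084], [308, 3, 127109, 98035, 129084], [323, 0, 127109, 98037, 129084], [324, 3, 126802, 98084, 129084], [318, 2, 129114, 126814, 116630], [327, 1, 129114, 126811, 115182], [328, 2, 129114, 126151, 128844], [282, 3, 127323, 48051, 115157, 129118], [218, 1, 128948, 129122, 128456, 128458], [220, 2, 129124, 128948, 129122, 127332, 129044, 128976, 128976], [253, 2, 129125, 128467, 129124], [269, 2, 129125, 128469, 129124], [285, 2, 129125, 128471, 129124], [301, 2, 127121,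 128472, 129124], [318, 1, 127121, 128474, 129124], [414, 3, 129136, 129135, 129038], [125, 1, 122430, 125684, 129074], [0, 0], [0, 0], [0, 0], [0, 0], [0, 0], [0, 0], [0, 0], [0, 0], [0, 0], [0, 0], [0, 0], [0, 0], [0, 0], [361, 15, 126949, 111433, 128667, 128447, 128695, 127116, 126112, 50343, 65278, 65269, 49869, 93336, 93329, 92920, 128963, 129045, 116619, 125895, 129048, 129075, 129072, 128949, 128947, 19253, 45523, 45700, 47780, 47803, 45735, 17118, 17098, 17119, 121749, 129142, 129144, 129146, 129148, 129150, 129152, 129154, 129156, 129158, 129160, 129162, 129164, 129166], [53, 2, 129168, 127021], [125, 3, 129168, 126958, 129169], [133, 3, 129168, 127012, 106524], [134, 0, 129168, 127014, 99420], [217, 3, 129172, 129168, 127123, 126196], [218, 1, 129168, 126955, 127116, 126120], [241, 0, 129168, 126961, 123958, 123981], [255, 0, 129168, 126946, 129169], [271, 0, 129168, 126952, 129169], [287, 0, 129168, 126956, 129169], [303, 0, 129168, 127184, 127159], [320, 3, 129168, 127186, 127159], [335, 0, 129168, 126964, 129169], [351, 0, 129168, 126966, 129169], [367,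 0, 129168, 126968, 129169]]
def dJ326 : List (List ℕ) := [[3, 0, 130370, 130399], [4, 0, 130279, 130399], [5, 0, 130392, 130399], [6, 0, 130391, 130399], [8, 0, 130276, 130399], [9, 0, 130395, 130399], [11, 0, 130398, 130369, 130399], [14, 0, 130397, 130399], [253, 0, 130404, 129722, 130405], [269, 0, 130404, 129690, 130405], [285, 0, 130404, 129658, 130405], [302, 3, 128350, 129791, 130405], [317, 0, 128350, 129795, 130405], [328, 3, 130274, 130424, 128356], [316, 0, 125273, 128326, 130426], [317, 3, 45297, 128324, 130426], [318, 0, 92917, 128323, 130426], [319, 3, 130272, 130427, 128342, 130426], [3, 0, 130429, 130434], [5, 0, 130433, 130434], [6, 0, 130431, 130434], [7, 0, 130272, 130434], [15, 0, 130275, 130434], [25, 0, 130426, 130434], [323, 3, 130446, 128359, 130447], [383, 0, 130446, 128329, 130447], [395, 0, 130446, 128331, 130447], [405, 0, 130446, 128321, 130447], [316, 3, 130270, 130446, 128281], [313, 0, 130365, 122916, 123025, 130456], [315, 3, 125273, 125258, 130456], [317, 3, 45317, 122752, 130456], [318, 0, 93222, 122721, 130456], [320, 1, 112665,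 130456, 130269], [321, 3, 93221, 122716, 130456], [322, 0, 45345, 122719, 130456], [324, 0, 122778, 122772, 130456], [326, 0, 122778, 123025, 130456], [327, 3, 124324, 112662, 130456], [383, 0, 130457, 112869, 130456], [395, 0, 130457, 112853, 130456], [405, 0, 130457, 112837, 130456], [414, 3, 122778, 122777, 130456], [300, 1, 130271, 130484, 128280], [304, 1, 130268, 130484, 112664], [298, 1, 44994, 113650, 123026, 130488], [299, 1, 130489, 122767, 130488], [306, 2, 92895, 122723, 130488], [309, 1, 130489, 123341, 130488], [311, 1, 113668, 123026, 130488], [381, 2, 130489, 112867, 130488], [393, 2, 130489, 112851, 130488], [403, 2, 130489, 112835, 130488], [282, 1, 130498, 113652, 123026, 112835], [226, 3, 130494, 93360, 93371, 122723], [77, 2, 130474, 123024], [94, 2, 130271, 130474, 128280], [173, 0, 130474, 130473, 130511], [310, 3, 130474, 130485, 130511], [314, 0, 130474, 112918, 122936, 122916], [201, 1, 130271, 130468, 122721, 128280], [0, 0], [0, 0], [0, 0], [0, 0], [0, 0], [0, 0], [0, 0], [0, 0], [0, 0], [0, 0], [0, 0], [0, 0], [0, 0], [0, 0], [0, 0],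 [0, 0], [0, 0], [0, 0], [0, 0], [0, 0], [0, 0], [0, 0], [0, 0], [0, 0], [0, 0], [0, 0], [0, 0], [329, 32, 121748, 37350, 121749, 128909, 128925, 126061, 122499, 130522, 130524, 130526, 130528, 130530, 130532, 130534, 130536, 130538, 130540, 130542, 130544, 130546, 130548, 130550, 130552, 130554, 130556, 130558, 130560, 130562, 130564, 130566, 130568, 130570, 130572, 130574], [54, 2, 130576, 129142], [125, 1, 130576, 121759, 130577], [133, 1, 130576, 121774, 105800], [134, 2, 130576, 121776, 68609], [217, 1, 130576, 127351, 127277, 127158], [218, 3, 130576, 121758, 126769, 126770], [241, 2, 130576, 121774, 121762, 130577], [255, 2, 130576, 121751, 130577], [271, 2, 130576, 121755, 130577], [287, 2, 130576, 121757, 130577], [303, 2, 130576, 126098, 126197], [304, 1, 130576, 121761, 128455], [319, 2, 130576, 121767, 128455], [320, 1, 130576, 126079, 126197], [335, 2, 130576, 121769, 130577], [351, 2, 130576, 121771, 130577], [367, 2, 130576, 121773, 130577], [363, 0, 130574, 130610, 130575], [367, 2, 130572, 130612, 130573], [376, 1, 130570, 130614, 130571], [368,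 3, 130568, 130616, 130569], [364, 1, 130566, 130618, 130567], [368, 3, 130564, 130620, 130565], [375, 0, 130562, 130622, 130563], [367, 2, 130560, 130624, 130561], [363, 0, 130558, 130626, 130559], [367, 2, 130556, 130628, 130557], [375, 0, 130554, 130630, 130555], [368, 3, 130552, 130632, 130553], [364, 1, 130550, 130634, 130551], [368, 3, 130548, 130636, 130549], [376, 1, 130546, 130638, 130547], [367, 2, 130544, 130640, 130545], [363, 0, 130542, 130642, 130543], [367, 2, 130540, 130644, 130541], [376, 1, 130538, 130646, 130539], [368, 3, 130536, 130648, 130537], [364, 1, 130534, 130650, 130535], [368, 3, 130532, 130652, 130533], [376, 1, 130530, 130654, 130531], [367, 2, 130528, 130656, 130529], [363, 0, 130526, 130658, 130527], [367, 2, 130524, 130660, 130525], [347, 0, 130574, 130608, 130575], [351, 2, 130572, 130664, 130573], [360, 1, 130570, 130666, 130571], [352, 3, 130568, 130668, 130569], [348, 1, 130566, 130670, 130567], [352, 3, 130564, 130672, 130565], [359, 0, 130562, 130674, 130563], [351, 2, 130560, 130676, 130561], [347, 0, 130558, 130678, 130559],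 [351, 2, 130556, 130680, 130557], [359, 0, 130554, 130682, 130555], [352, 3, 130552, 130684, 130553], [348, 1, 130550, 130686, 130551], [352, 3, 130548, 130688, 130549], [360, 1, 130546, 130690, 130547], [351, 2, 130544, 130692, 130545], [347, 0, 130542, 130694, 130543], [351, 2, 130540, 130696, 130541], [360, 1, 130538, 130698, 130539], [352, 3, 130536, 130700, 130537], [348, 1, 130534, 130702, 130535], [352, 3, 130532, 130704, 130533], [360, 1, 130530, 130706, 130531], [351, 2, 130528, 130708, 130529], [347, 0, 130526, 130710, 130527], [351, 2, 130524, 130712, 130525], [331, 0, 130574, 130606, 130575], [335, 2, 130572, 130716, 130573], [344, 1, 130570, 130718, 130571], [336, 3, 130568, 130720, 130569], [332, 1, 130566, 130722, 130567], [336, 3, 130564, 130724, 130565], [343, 0, 130562, 130726, 130563], [335, 2, 130560, 130728, 130561], [331, 0, 130558, 130730, 130559], [335, 2, 130556, 130732, 130557], [343, 0, 130554, 130734, 130555], [336, 3, 130552, 130736, 130553], [332, 1, 130550, 130738, 130551], [336, 3, 130548, 130740, 130549], [344, 1, 130546, 130742,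 130547], [335, 2, 130544, 130744, 130545], [331, 0, 130542, 130746, 130543], [335, 2, 130540, 130748, 130541], [344, 1, 130538, 130750, 130539], [336, 3, 130536, 130752, 130537], [332, 1, 130534, 130754, 130535], [336, 3, 130532, 130756, 130533], [344, 1, 130530, 130758, 130531], [335, 2, 130528, 130760, 130529], [331, 0, 130526, 130762, 130527], [335, 2, 130524, 130764, 130525], [315, 1, 119039, 126568, 130604], [316, 3, 126590, 126194, 130604, 130575], [3, 0, 130575, 130770], [8, 0, 130572, 130770, 122255], [15, 0, 130570, 130775], [249, 1, 125854, 122187, 130776], [249, 3, 130778, 125854, 130776], [279, 2, 130777, 122128, 130776], [281, 1, 130777, 122252, 122071, 130776], [295, 2, 130777, 122070, 130776], [297, 1, 122452, 126616, 126608, 130776], [311, 2, 128663, 122450, 130776], [312, 1, 126190, 126608, 130776], [313, 1, 114819, 122445, 122454, 130776], [314, 3, 107488, 98333, 122245, 130776], [327, 2, 126190, 126612, 130776]]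
def dJ330 : List (List ℕ) := [[383, 2, 131988, 128328, 131989], [395, 2, 131988, 128330, 131989], [405, 2, 131988, 128320, 131989], [414, 1, 130447, 130487, 131989], [326, 1, 131985, 131988, 131999], [414, 1, 131988, 132007, 132008], [305, 3, 132010, 131994, 132007], [53, 1, 119360, 131992], [125, 1, 45034, 122771, 131992], [126, 2, 93162, 122739, 131992], [133, 1, 130268, 130515, 131992], [134, 2, 112665, 122773, 131992], [217, 1, 112665, 122753, 122771, 131992], [218, 3, 130268, 130470, 122730, 131992], [241, 2, 131993, 122772, 123024, 131992], [255, 2, 131993, 119437, 131992], [271, 2, 131993, 119432, 131992], [287, 2, 131993, 119429, 131992], [303, 2, 130268, 130517, 131992], [304, 1, 112665, 122776, 131992], [319, 2, 112665, 122778, 131992], [320, 1, 130268, 130519, 131992], [314, 4, 132042, 130496, 130498, 111913], [315, 3, 132042, 130492, 132043], [0, 0], [281, 2, 44821, 17308, 112654, 132048], [263, 2, 132050, 42518, 132051], [265, 1, 132050, 50291, 50296, 126113], [266, 3, 132050, 24903, 49742, 128818], [279, 2, 132050, 24903, 132051], [282, 3, 132050,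 24905, 109970, 117405], [295, 2, 132050, 24905, 132051], [297, 1, 132050, 47194, 47205, 112654], [298, 3, 132050, 50831, 109967, 117405], [312, 1, 132050, 46412, 118441], [313, 1, 132050, 24894, 100010, 119805], [314, 3, 132050, 46384, 25399, 99253], [327, 2, 132050, 46384, 118441], [343, 2, 132050, 41230, 132051], [359, 2, 132050, 40544, 132051], [375, 2, 132050, 24907, 132051], [173, 0, 112998, 99278, 132072], [241, 1, 112997, 106816, 119833, 132070], [0, 0], [0, 0], [0, 0], [0, 0], [0, 0], [0, 0], [0, 0], [0, 0], [329, 31, 112775, 112655, 41774, 112654, 112734, 112643, 120703, 126885, 126894, 48006, 47999, 46907, 112632, 112643, 120703, 126885, 126896, 122382, 124344, 124312, 112561, 49804, 49814, 24191, 125339, 124955, 132086, 132088, 132090, 132092, 132094, 132096, 132098, 132100], [85, 3, 132102, 112960, 118134], [93, 3, 132102, 112785, 52203], [94, 0, 132102, 112689, 107976], [233, 0, 132102, 112816, 132103, 132109], [251, 0, 132102, 112682, 132103], [267, 0, 132102, 112684, 132103], [283, 0, 132102, 112686, 132103], [299, 0, 132102, 118530, 118515], [316,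 3, 132102, 118532, 118515], [331, 0, 132102, 112690, 132103], [347, 0, 132102, 112692, 132103], [361, 11, 132100, 132102, 112775, 112734, 112643, 120703, 126885, 126896, 122382, 124344, 124312, 112561, 49804, 49814, 24191, 125339, 124955, 132086, 132088, 132090, 132092, 132094, 132096, 132098, 132100, 132102, 112775, 112655, 46906, 47998, 48007, 126895, 126884, 120702, 112642, 112186, 112643, 119022, 118500, 119376, 122661, 93375, 122758, 122762, 125259, 124967, 126601], [8, 0, 132101, 132127], [16, 0, 132098, 132127, 126594], [7, 0, 132096, 132131, 125395], [4, 0, 132094, 132133, 125456], [7, 0, 132092, 132135, 122943], [15, 0, 132090, 132137, 112935], [7, 0, 132088, 132139], [363, 0, 132102, 112694, 132103], [265, 0, 50724, 112680, 132103, 132115], [297, 4, 132144, 50701, 120432, 125207], [327, 0, 132144, 50715, 125238], [320, 2, 126598, 125205, 132148], [321, 1, 120548, 125207, 132148], [323, 1, 96251, 125211, 132148], [53, 1, 112673, 132140], [126, 2, 117514, 117735, 132140], [131, 2, 131625, 117514, 123958, 131648, 131651, 112673, 132140], [133, 1, 95482,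 112886, 132140], [134, 2, 106702, 112889, 132140], [221, 2, 117514, 123958, 123951, 131648, 131651, 112673, 132140], [224, 5, 131621, 117514, 123958, 123954, 112804, 112804, 112673, 132140], [241, 2, 95482, 112886, 112890, 132140], [242, 2, 106702, 66763, 112889, 132140], [255, 2, 132141, 112860, 132140], [271, 2, 132141, 112844, 132140], [287, 2, 132141, 112828, 132140], [303, 2, 118500, 119037, 132140], [304, 1, 125007, 125201, 132140], [319, 2, 125007, 125203, 132140], [320, 1, 118500, 119039, 132140], [335, 2, 132141, 112766, 132140], [351, 2, 132141, 112722, 132140], [367, 2, 132141, 112700, 132140], [314, 4, 132186, 119010, 101081, 46628], [328, 0, 132186, 119023, 112104], [0, 0], [0, 0], [0, 0], [0, 0], [0, 0], [0, 0], [0, 0], [0, 0], [0, 0], [345, 19, 124955, 132086, 132141, 132140, 132087, 124954, 125338, 24190, 49815, 49805, 49804, 49814, 24191, 125339, 124955, 132086, 132141, 112934, 122942, 125457, 125394, 126595, 132128, 132102, 112775, 112655, 41066, 46906, 47998, 48007, 121557, 122382, 124344, 124312, 112112, 123440, 123409, 132198, 132200, 132202,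 132204, 132206, 132208, 132210, 132212, 132214], [250, 1, 132216, 125338, 42529], [263, 2, 132216, 125157, 132217], [265, 1, 132216, 125311, 118797, 119050], [279, 2, 132216, 125341, 132217], [281, 1, 132216, 125328, 110424, 111354], [282, 3, 132216, 125343, 127055, 127086], [295, 2, 132216, 125343, 132217], [297, 1, 132216, 127078, 127066, 130963], [298, 3, 132216, 125346, 122342, 111287], [311, 2, 132216, 125346, 122336], [312, 1, 132216, 125344, 119261], [313, 1, 132216, 125332, 60561, 107387], [314, 3, 132216, 125350, 110377, 106272], [327, 2, 132216, 125350, 119261], [328, 1, 132216, 125348, 122336], [329, 29, 132216, 124955, 132086, 132141, 112671, 112764, 112670, 112934, 122942, 125457, 125394, 125405, 124966, 125258, 122763, 112928, 122942, 125457, 125394, 126595, 132128, 132102, 112775, 112655, 46906, 47998, 48007, 121557, 122382, 124344, 124312, 112112, 123440, 123409, 132198], [4, 0, 132222, 132249], [5, 0, 132228, 132249], [6, 0, 132226, 132249], [9, 0, 132234, 132249], [10, 0, 132232, 132249], [13, 0, 132242, 132249], [14, 0, 132240, 132249], [16,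 0, 132218, 132249, 132200], [16, 0, 132217, 132249], [17, 0, 132248, 132220, 132249], [19, 0, 132248, 132224, 132249], [21, 0, 132248, 132230, 132249], [23, 0, 132236, 132249], [24, 0, 132238, 132249], [25, 0, 132244, 132249], [26, 0, 132246, 132249], [16, 0, 132200, 132264], [343, 0, 132283, 41242, 132282], [359, 0, 132283, 40556, 132282], [375, 0, 132283, 23836, 132282], [320, 2, 132280, 121855, 122298], [323, 1, 132280, 122285, 75249], [324, 2, 132280, 122287, 104460], [0, 0], [0, 0], [0, 0], [0, 0], [0, 0], [0, 0], [0, 0], [0, 0], [0, 0], [0, 0], [0, 0], [0, 0], [0, 0], [0, 0], [0, 0], [0, 0], [0, 0], [0, 0], [329, 24, 119258, 25385, 24672, 50696, 132145, 132150, 126744, 126717, 118936, 41386, 118937, 118935, 122499, 126912, 126866, 120698, 132296, 132298, 132300, 132302, 132304, 132306, 132308, 132310, 132312, 132314, 132316, 132318, 132320, 132322, 132324, 132326, 132328, 132330], [54, 2, 132332, 119057], [125, 1, 132332, 128869, 128403], [126, 2, 132332, 119248, 111329], [133, 1, 132332, 119252, 103230], [134, 2, 132332, 119250, 94027], [217, 1, 132332,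 119244, 122282, 121855], [218, 3, 132332, 119248, 132255, 132291], [242, 2, 132332, 119256, 117791, 124422], [255, 2, 132332, 119262, 132333], [271, 2, 132332, 119264, 132333], [287, 2, 132332, 119266, 132333], [303, 2, 132332, 132277, 132291], [304, 1, 132332, 122275, 121855], [319, 2, 132332, 122279, 121855], [320, 1, 132332, 132279, 132291], [335, 2, 132332, 119153, 132333], [345, 19, 132328, 132330, 132332, 132333, 132331, 132329, 132327, 132325, 132323, 132321, 132320, 132322, 132324, 132326, 132328, 132330, 132332, 119258, 25385, 24672, 50696, 132145, 132150, 126744, 126717, 118936, 40698, 47762, 47734, 47992, 120692, 126867, 126913, 122498, 111413, 47762, 47734, 47992, 120692, 126867, 126913, 122498, 118934, 126716, 126745, 132151], [345, 0, 132317, 132315, 132313, 132311, 132309, 132307, 132305, 132303, 132301, 132299, 132297, 119019, 47993, 47735, 47763, 111412, 122499, 126912, 126866, 120693, 47993, 47735, 47763, 47762, 47734, 47992, 119018, 132296, 132298, 132300, 132301, 132299, 132297, 119019, 47993, 47735, 47763, 118937, 126716, 126745, 132151, 132366,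 132328, 132330, 132332, 119260, 110380], [7, 0, 132316, 132369], [15, 0, 132319, 132369, 110364], [8, 0, 132321, 132373, 25385], [3, 0, 132323, 132375, 24672], [8, 0, 132325, 132377, 50696], [15, 0, 132327, 132379], [351, 2, 132332, 119131, 132333], [361, 1, 132332, 119260, 110363, 110396, 110387, 110997, 110992, 110920, 122703, 93259, 65310, 93262, 122682, 125825, 125822, 125925, 117492, 117364, 126003, 125969, 120127, 120245, 111725, 118144, 118152, 45672, 18619, 44603, 110029, 125895, 125945, 125946, 122873, 118172, 122878, 120399, 122796, 111009, 111006, 110463, 120588, 125967, 125997, 117833, 117856, 117832], [361, 1, 129075, 125670, 110080, 48621, 44760, 25385, 24672, 50696, 132380, 132328, 132330, 132332, 119258, 25385, 24672, 50696, 132145, 132150, 126744, 126717, 118936, 47762, 47734, 47992, 120692, 126867, 126913, 122498, 111413, 47762, 47734, 47992, 119018, 132296, 132298, 132300, 132302, 132304, 132306, 132308, 132310, 132312, 132314, 132371, 110382, 132370], [367, 2, 132332, 119109, 132333], [363, 0, 132330, 132388, 132331], [367, 2, 132328, 132390,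 132329], [249, 0, 132386, 129049, 125907], [263, 0, 132386, 129055, 132387], [266, 1, 132314, 132386, 130907, 130865, 121887]]
def dJ334 : List (List ℕ) := [[316, 0, 131772, 130213, 133598], [325, 3, 130227, 129831, 133598], [326, 0, 130253, 130259, 133598], [226, 3, 122636, 110483, 122992, 133578], [133, 1, 126148, 126820, 133512], [0, 0], [0, 0], [0, 0], [0, 0], [0, 0], [0, 0], [0, 0], [0, 0], [0, 0], [0, 0], [0, 0], [0, 0], [345, 19, 129781, 129806, 118172, 118173, 129807, 129780, 128019, 92944, 93008, 93022, 93023, 93009, 92945, 128018, 129781, 129806, 118172, 125818, 122399, 118896, 133512, 133472, 22346, 22484, 47765, 47745, 41021, 45673, 45670, 17137, 127352, 127392, 127389, 111018, 133610, 133612, 133614, 133616, 133618, 133620, 133622, 133624, 133626, 133628, 133630, 133632], [250, 1, 133634, 128019, 92953], [263, 2, 133634, 127615, 133635], [265, 1, 133634, 128012, 117678, 122864], [266, 3, 133634, 127832, 128010, 111445], [279, 2, 133634, 127832, 133635], [295, 2, 133634, 127780, 133635], [297, 1, 133634, 128102, 128005, 133635], [313, 1, 133634, 128003,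 120803, 122864], [314, 3, 133634, 129804, 129810, 111445], [343, 2, 133634, 127728, 133635], [359, 2, 133634, 127676, 133635], [375, 2, 133634, 127558, 133635], [367, 0, 133632, 133658, 133633], [363, 2, 133630, 133660, 133631], [367, 0, 133628, 133662, 133629], [375, 2, 133626, 133664, 133627], [368, 1, 133624, 133666, 133625], [364, 3, 133622, 133668, 133623], [368, 1, 133620, 133670, 133621], [376, 3, 133618, 133672, 133619], [367, 0, 133616, 133674, 133617], [363, 2, 133614, 133676, 133615], [367, 0, 133612, 133678, 133613], [351, 0, 133632, 133656, 133633], [347, 2, 133630, 133682, 133631], [351, 0, 133628, 133684, 133629], [359, 2, 133626, 133686, 133627], [352, 1, 133624, 133688, 133625], [348, 3, 133622, 133690, 133623], [352, 1, 133620, 133692, 133621], [360, 3, 133618, 133694, 133619], [351, 0, 133616, 133696, 133617], [347, 2, 133614, 133698, 133615], [351, 0, 133612, 133700, 133613], [335, 0, 133632, 133654, 133633], [331, 2, 133630, 133704, 133631], [335, 0, 133628, 133706, 133629], [343, 2, 133626, 133708, 133627], [336, 1, 133624, 133710, 133625],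 [332, 3, 133622, 133712, 133623], [336, 1, 133620, 133714, 133621], [344, 3, 133618, 133716, 133619], [335, 0, 133616, 133718, 133617], [331, 2, 133614, 133720, 133615], [335, 0, 133612, 133722, 133613], [173, 0, 106016, 110878, 133652], [174, 3, 106366, 110877, 133652], [241, 4, 130064, 110927, 110920, 133652, 133633], [4, 0, 133630, 133730, 130054], [7, 0, 133633, 133730], [7, 0, 133628, 133733, 110462], [15, 0, 133626, 133737], [249, 1, 131022, 110839, 133738], [249, 3, 133740, 131022, 133738], [265, 1, 126603, 111006, 110781, 133738], [266, 3, 126740, 110795, 110993, 133738], [279, 2, 133739, 110780, 133738], [281, 1, 133739, 110995, 110723, 133738], [295, 2, 133739, 110722, 133738], [297, 1, 127024, 127080, 111364, 133738], [298, 3, 127026, 132463, 132444, 133738], [311, 2, 132454, 125912, 133738], [312, 1, 122436, 111364, 133738], [313, 1, 74823, 125903, 125918, 133738], [314, 3, 97397, 71773, 111005, 133738], [327, 2, 122436, 111366, 133738], [328, 1, 132454, 125918, 133738], [361, 2, 125338, 47040, 110116, 110113, 44602, 18618, 45673, 111298, 111034, 111327,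 111328, 111360, 46997, 18648, 47259, 110905, 110446, 110448, 110450, 110953, 108143, 108120, 110956, 120707, 125967, 125997, 117833, 117897, 114449, 114416, 114415, 117490, 125924, 125823, 125824, 122683, 93263, 65311, 93258, 122702, 110921, 110993, 110996, 110312, 110997, 133738], [54, 2, 133624, 133770, 124955], [4, 0, 133622, 133773], [8, 0, 133625, 133773], [133, 1, 133770, 125336, 133771], [38, 1, 132087, 133774], [86, 0, 131674, 124947, 133774], [91, 6, 131677, 131674, 117512, 131620, 132169, 132087, 133774], [93, 3, 96561, 124936, 133774], [94, 0, 113763, 124949, 133774], [205, 5, 133784, 131677, 131674, 117512, 132159, 132087, 133774], [233, 0, 133775, 124953, 133774, 133786], [239, 1, 113763, 113727, 106639, 132163, 132087, 133774, 133786, 133792], [251, 0, 133775, 124924, 133774], [266, 4, 116593, 116676, 124920, 133774], [267, 0, 133775, 124927, 133774], [283, 0, 133775, 124929, 133774], [266, 4, 133800, 133775, 124922, 46170], [287, 2, 133620, 133802, 133621], [295, 0, 133618, 133806, 133619], [288, 3, 133616, 133808, 133617], [284, 1, 133614, 133810,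 133615], [288, 3, 133612, 133812, 133613], [271, 2, 133620, 133800, 133621], [279, 0, 133618, 133816, 133619], [272, 3, 133616, 133818, 133617], [268, 1, 133614, 133820, 133615], [272, 3, 133612, 133822, 133613], [255, 2, 133620, 133796, 133621], [263, 0, 133618, 133826, 133619], [256, 3, 133616, 133828, 133617], [252, 1, 133614, 133830, 133615], [256, 3, 133612, 133832, 133613], [134, 2, 133620, 133794, 55036], [136, 4, 97919, 133792, 133794, 55036, 133836], [173, 1, 133838, 97933, 133839], [225, 2, 133838, 97919, 97931, 133839], [233, 1, 133838, 97928, 95655, 112874], [234, 3, 133838, 97932, 98155, 118951], [265, 0, 128327, 125257, 133846, 133816], [266, 1, 128346, 125415, 133846, 133619, 133818], [7, 0, 133616, 133850, 128352], [15, 0, 133619, 133850], [4, 0, 133614, 133853, 128346], [8, 0, 133612, 133857], [54, 1, 125395, 133858], [126, 0, 122845, 125468, 133858], [133, 3, 122896, 125484, 133858], [134, 0, 132600, 125482, 133858], [217, 3, 133561, 133431, 133587, 133858], [242, 4, 133866, 132600, 125477, 133858], [303, 0, 122896, 125473, 133858], [304, 3, 132600,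 125471, 133858], [319, 0, 132600, 125481, 133858], [320, 3, 122896, 125479, 133858], [329, 15, 133860, 126595, 126193, 133745, 133777, 124922, 47809, 47771, 47676, 121557, 122378, 122441, 125205, 125231, 132334, 132518, 132290, 132266, 125190, 132267, 132283, 24623, 24674, 25370, 119283, 132334, 132518, 132290, 132266, 133771, 133746, 126718, 125414, 133858], [201, 4, 133880, 133862, 110481, 122899], [53, 1, 129370, 133734], [0, 0], [0, 0], [0, 0], [0, 0], [0, 0], [0, 0], [0, 0], [0, 0], [0, 0], [0, 0], [0, 0], [0, 0], [0, 0], [0, 0], [0, 0], [361, 18, 133513, 118897, 122398, 125819, 118173, 129807, 129780, 133635, 133735, 130054, 110462, 133738, 133777, 133774, 133621, 133855, 128352, 128346, 133858, 133611, 111019, 127388, 127393, 127353, 17136, 45671, 45672, 18602, 45673, 111298, 111034, 133886, 133888, 133890, 133892, 133894, 133896, 133898, 133900, 133902, 133904, 133906, 133908, 133910, 133912, 133914], [250, 1, 133916, 133472, 42103], [263, 2, 133916, 133475, 133917], [265, 1, 133916, 133477, 112090, 119022], [266, 3, 133916, 133481, 133479, 120698], [279,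 2, 133916, 133481, 133917], [281, 1, 133916, 133483, 129638, 129996], [295, 2, 133916, 133485, 133917], [297, 1, 133916, 133487, 133490, 133917], [311, 2, 133916, 133491, 133799], [313, 1, 133916, 133495, 88598, 98820], [314, 3, 133916, 133499, 112019, 104502], [328, 1, 133916, 133501, 133799], [343, 2, 133916, 133503, 133917], [359, 2, 133916, 133505, 133917], [375, 2, 133916, 133551, 133917], [367, 0, 133914, 133946, 133915], [363, 2, 133912, 133948, 133913], [367, 0, 133910, 133950, 133911], [376, 3, 133908, 133952, 133909], [368, 1, 133906, 133954, 133907], [364, 3, 133904, 133956, 133905], [368, 1, 133902, 133958, 133903], [376, 3, 133900, 133960, 133901], [367, 0, 133898, 133962, 133899], [363, 2, 133896, 133964, 133897], [367, 0, 133894, 133966, 133895], [369, 2, 133892, 133968, 133893], [366, 1, 133890, 133970, 133891], [365, 2, 133888, 133972, 133889], [351, 0, 133914, 133944, 133915], [347, 2, 133912, 133976, 133913], [351, 0, 133910, 133978, 133911], [360, 3, 133908, 133980, 133909], [352, 1, 133906, 133982, 133907], [348, 3, 133904, 133984, 133905],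 [352, 1, 133902, 133986, 133903], [360, 3, 133900, 133988, 133901], [351, 0, 133898, 133990, 133899], [347, 2, 133896, 133992, 133897], [351, 0, 133894, 133994, 133895], [353, 2, 133892, 133996, 133893]]
def dJ338 : List (List ℕ) := [[376, 3, 135146, 135198, 135147], [368, 1, 135144, 135200, 135145], [364, 3, 135142, 135202, 135143], [368, 1, 135140, 135204, 135141], [351, 0, 135152, 135190, 135153], [347, 2, 135150, 135208, 135151], [351, 0, 135148, 135210, 135149], [360, 3, 135146, 135212, 135147], [352, 1, 135144, 135214, 135145], [348, 3, 135142, 135216, 135143], [352, 1, 135140, 135218, 135141], [335, 0, 135152, 135188, 135153], [331, 2, 135150, 135222, 135151], [335, 0, 135148, 135224, 135149], [344, 3, 135146, 135226, 135147], [336, 1, 135144, 135228, 135145], [332, 3, 135142, 135230, 135143], [336, 1, 135140, 135232, 135141], [319, 1, 135152, 135187, 134704, 135186], [4, 0, 135162, 135236, 135151], [4, 0, 135160, 135236], [5, 0, 135168, 135236], [6, 0, 135166, 135236], [8, 0, 135152, 135236], [9, 0, 135174, 135236], [10, 0, 135172, 135236], [13, 0, 135182,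 135236], [14, 0, 135180, 135236], [15, 0, 135156, 135236], [16, 0, 135155, 135236], [17, 0, 135237, 135158, 135236], [19, 0, 135237, 135164, 135236], [21, 0, 135237, 135170, 135236], [23, 0, 135176, 135236], [24, 0, 135178, 135236], [25, 0, 135184, 135236], [26, 0, 135186, 135236], [4, 0, 135151, 135238], [7, 0, 135148, 135238, 123886], [15, 0, 135146, 135277, 131806], [8, 0, 135144, 135279, 131880], [4, 0, 135142, 135281], [324, 2, 134724, 134767, 135273], [324, 2, 135272, 135285, 135270], [38, 1, 119047, 135282], [93, 3, 134744, 119041, 135282], [94, 0, 133320, 133286, 135282], [234, 4, 135292, 133320, 133280, 135282], [251, 0, 135283, 118836, 135282], [266, 4, 135139, 130595, 130768, 118502, 135282], [3, 0, 135282, 135298], [4, 0, 135289, 135298], [7, 0, 135140, 135298], [11, 0, 135299, 135294, 135298], [13, 0, 135293, 135298], [14, 0, 135291, 135298], [17, 0, 135299, 135297, 135298], [267, 0, 135300, 118778, 135301], [283, 0, 135300, 118720, 135301], [299, 0, 134744, 119045, 135301], [300, 3, 133320, 133298, 135301], [315, 0, 133320, 133300, 135301], [316,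 3, 134744, 119043, 135301], [322, 2, 135324, 134765, 134761], [322, 2, 135323, 135327, 135325], [0, 0], [0, 0], [329, 9, 132335, 128195, 130177, 130098, 50372, 50330, 25371, 81540, 93147, 93121, 92899, 127999, 127472, 128010, 122844, 126875, 126866, 133478, 133507, 116586, 22376, 48000, 47993, 47684, 41703, 47685, 47686, 45322, 45714, 19295, 130082, 130234, 135330, 135332], [250, 1, 135334, 132385, 111623], [263, 2, 135334, 132351, 135335], [265, 1, 135334, 132523, 122142, 133548], [266, 3, 135334, 132353, 132518, 134771], [279, 2, 135334, 132353, 135335], [281, 1, 135334, 132345, 122084, 133548], [282, 3, 135334, 132355, 132347, 134771], [295, 2, 135334, 132355, 135335], [297, 1, 135334, 132337, 128940, 126927], [298, 3, 135334, 132357, 122300, 133610], [311, 2, 135334, 132357, 134771], [312, 1, 135334, 132359, 133548], [313, 1, 135334, 132349, 132796, 132822], [327, 2, 135334, 132361, 133548], [328, 1, 135334, 132363, 134771], [343, 2, 135334, 132365, 135335], [359, 2, 135334, 132383, 135335], [362, 44, 135334, 132332, 119109, 132333, 132523, 132524, 132367,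 132150, 126744, 126717, 118935, 122499, 126912, 126866, 120698, 132296, 132473, 122254, 119368, 132478, 132483, 132484, 125519, 125541, 132439, 132442, 119261, 132333, 132523, 132524, 132367, 132150, 126744, 126717, 118936, 47762, 47734, 47992, 119018, 132296, 132473, 122254, 118894, 122485, 126649, 126650], [375, 2, 135334, 132389, 135335], [368, 1, 135332, 135372, 135333], [53, 2, 135370, 135333], [129, 2, 133858, 133860, 125498, 135370, 135333], [130, 3, 122844, 110482, 122637, 135370, 135333], [134, 2, 134768, 134800, 135370], [138, 3, 132634, 134768, 134800, 135370, 135333], [139, 2, 133583, 132634, 134768, 134803, 133606, 135370, 135333], [221, 2, 122897, 122533, 122598, 125496, 125498, 135370, 135333], [224, 5, 122924, 122897, 122533, 122793, 122788, 122628, 135370, 135333], [244, 4, 130232, 130234, 133605, 134802, 134800, 135370, 135333], [77, 2, 135392, 131784], [94, 3, 135392, 128276, 129830], [261, 0, 135392, 128258, 135393], [277, 0, 135392, 128275, 135393], [293, 0, 135392, 128269, 135393], [309, 0, 135392, 129821, 133605], [310, 3, 135392, 130249,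 130259], [313, 0, 135392, 128105, 19452, 44337], [325, 0, 135392, 130251, 130259], [326, 3, 135392, 129809, 133605], [341, 0, 135392, 128187, 135393], [357, 0, 135392, 128173, 135393], [0, 0], [0, 0], [0, 0], [0, 0], [0, 0], [0, 0], [0, 0], [0, 0], [345, 19, 127472, 128010, 122844, 122845, 128011, 127473, 127998, 92898, 93120, 93146, 93147, 93121, 92899, 127999, 127472, 128010, 122844, 126875, 126866, 133478, 133507, 116586, 22376, 48000, 47993, 47684, 40995, 46804, 17325, 17105, 124725, 124751, 124731, 110889, 128945, 122896, 130401, 130409, 135418, 135420, 135422, 135424, 135426, 135428, 135430, 135432], [250, 1, 135434, 127998, 92901], [263, 2, 135434, 127616, 135435], [265, 1, 135434, 127993, 120332, 120033], [266, 3, 135434, 127835, 127994, 111049], [279, 2, 135434, 127835, 135435], [281, 1, 135434, 128351, 128319, 133854], [295, 2, 135434, 127783, 135435], [297, 1, 135434, 129783, 129790, 135435], [311, 2, 135434, 129791, 134823], [312, 1, 135434, 128005, 133635], [313, 1, 135434, 127996, 122861, 120033], [314, 3, 135434, 128007, 128009, 111049], [327, 2,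 135434, 128007, 133635], [328, 1, 135434, 129795, 134823], [343, 2, 135434, 127731, 135435], [359, 2, 135434, 127679, 135435], [375, 2, 135434, 127561, 135435], [367, 0, 135432, 135468, 135433], [363, 2, 135430, 135470, 135431], [367, 0, 135428, 135472, 135429], [362, 0, 135474, 135428, 135430, 135432, 135437, 92898, 93120, 93146, 81541, 25370, 50331, 50373, 130099, 130176, 128194, 132334, 132385, 111424, 135082, 135091, 134123, 111882, 111853, 110957, 122978, 122966, 130437, 130442, 130444, 130408, 130400, 122897, 128944, 110888, 124730, 124750, 124724, 17104, 17324, 46805, 114153, 114157, 110242, 121709, 121667, 115462, 111719], [8, 0, 135429, 135477, 111718], [16, 0, 135426, 135477, 122437], [3, 0, 135431, 135479, 131675], [8, 0, 135424, 135481, 121819], [7, 0, 135433, 135483], [3, 0, 135422, 135485, 134970], [7, 0, 135420, 135489], [53, 1, 134960, 135490], [125, 1, 135491, 134981, 135490], [133, 1, 99506, 135050, 135490], [134, 2, 97986, 135053, 135490], [217, 1, 134901, 134976, 134981, 135490], [241, 2, 135491, 135052, 134986, 135490], [255, 2, 135491, 134967,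 135490], [271, 2, 135491, 134973, 135490], [287, 2, 135491, 134979, 135490], [303, 2, 133620, 134984, 135490], [304, 1, 134911, 134982, 135490], [319, 2, 134911, 134992, 135490], [320, 1, 133620, 134990, 135490], [329, 3, 124353, 124429, 124227, 135440, 135487, 135000, 135091, 134117, 124468, 124508, 112118, 130102, 130176, 128208, 50373, 50736, 50729, 92817, 93190, 93209, 92898, 129813, 129780, 128012, 124008, 128100, 112645, 133476, 133513, 112008, 41977, 112009, 134963, 135490], [335, 2, 135491, 134995, 135490], [346, 5, 130443, 130436, 122967, 122979, 110956, 111852, 111883, 130071, 129371, 129360, 110446, 110447, 129361, 129370, 130070, 111882, 111853, 110957, 110956, 111852, 111883, 134122, 135090, 135083, 111425, 132384, 132335, 128195, 130177, 130098, 50372, 50330, 25371, 81540, 93147, 93121, 92899, 135436, 135487, 131674, 111719, 111097, 122437, 121819, 134970, 135490], [351, 2, 135491, 135013, 135490], [367, 2, 135491, 135015, 135490], [265, 3, 135506, 135522, 130436, 121832], [345, 4, 135443, 111047, 122354, 121835, 135528, 135492, 135045, 50310, 50266,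 24621, 49870, 93258, 93275, 92947, 134824, 134901, 127883, 125924, 125925, 127882, 134900, 134822, 129779, 127994, 110478, 110479, 127995, 129778, 134823, 134901, 127883, 125924, 132455, 132297, 133924, 134910, 134807, 131934, 131926, 132601, 132660, 111104, 111035, 123348, 123364, 131102], [133, 3, 98667, 131136, 135530], [134, 0, 105755, 131139, 135530], [0, 0], [361, 17, 133798, 133506, 133479, 126867, 126874, 122845, 128011, 127473, 135435, 135487, 131674, 111719, 122437, 121819, 134970, 135490, 135419, 130408, 130400, 122897, 128944, 110888, 124730, 124750, 124724, 17104, 17324, 46805, 18662, 46804, 111016, 111018, 134167, 134144, 133888, 134140, 111424, 135082, 135091, 134121, 129371, 129360, 110446, 126602, 132151, 135536], [53, 2, 135538, 133621], [125, 3, 135538, 133791, 135539], [133, 3, 135538, 133794, 99357], [134, 0, 135538, 133793, 54135], [217, 3, 135542, 135538, 133782, 131141], [218, 1, 135538, 133784, 131152, 131568], [241, 0, 135538, 133786, 54135, 99361], [246, 6, 135553, 99360, 135546, 135538, 133788, 95471, 54135], [255, 0, 135538, 133797,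 135539], [271, 0, 135538, 133801, 135539], [287, 0, 135538, 133803, 135539], [303, 0, 135538, 133934, 133915], [304, 3, 135538, 134984, 134961], [319, 0, 135538, 134990, 134961], [320, 3, 135538, 133940, 133915], [329, 1, 135538, 133780, 132156, 124152, 124165, 130052, 129371, 129337, 124750, 124729, 129427, 130284, 130281, 130403, 130408, 130445, 130442, 130271, 130269, 130498, 111888, 111855, 111882, 134122, 133898, 134084, 132771, 132827, 123435, 128124, 130182, 130098, 50394, 130099], [329, 17, 135538, 133780, 132156, 124152, 124165, 130052, 129371, 129338, 17135, 45963, 47079, 47048, 45397, 39290, 22378, 133804, 133714, 133805, 116587, 116610, 112007, 112167, 128098, 124055, 129802, 129779, 127998, 92945, 93042, 93045, 92877, 49826, 50269, 50374], [335, 0, 135538, 133714, 135539], [351, 0, 135538, 133692, 135539], [367, 0, 135538, 133670, 135539], [265, 3, 112684, 112681, 50737, 135572], [0, 0], [361, 5, 109131, 109123, 109162, 109850, 109824, 64745, 97519, 97520, 97710, 46791, 47160, 50201, 95681, 52675, 98163, 60307, 98655, 98481, 98477, 52224, 98927, 64014,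 102093, 102094, 101771, 52840, 101734, 64026, 64028, 12176, 47080, 47087, 32975, 1629, 1394, 8688, 37316, 45920, 46682, 45590, 18741, 45591, 87157, 103267, 123280, 135582], [85, 2, 135584, 109005, 121521], [86, 1, 135584, 109141, 108999], [113, 1, 135584, 109131, 115045], [114, 2, 135584, 109840, 109785], [209, 1, 135584, 109161, 109004, 135585], [217, 2, 135584, 109131, 109123, 108999], [218, 2, 135584, 109133, 109128, 121521]]
def dJ342 : List (List ℕ) := [[347, 2, 136730, 136794, 136731], [331, 2, 136730, 136792, 136731], [314, 1, 108167, 24896, 136311, 136790], [315, 1, 126036, 136314, 136790], [317, 1, 117775, 136319, 136790], [318, 2, 118369, 136317, 136790], [319, 1, 129541, 136347, 136790], [321, 1, 120842, 136344, 136790], [323, 1, 58093, 136348, 136790], [324, 2, 108223, 136327, 136790], [326, 2, 58134, 136321, 136790], [327, 1, 46385, 136311, 136790], [328, 2, 132074, 136331, 136790], [383, 2, 136791, 136328, 136790], [395, 2, 136791, 136313, 136790], [405, 2, 136791, 136309, 136790], [311, 2, 136824, 132068, 136331], [235, 3, 136762, 136807, 136820,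 108226, 136327, 136315, 136287], [0, 0], [0, 0], [0, 0], [0, 0], [0, 0], [0, 0], [0, 0], [0, 0], [0, 0], [0, 0], [0, 0], [0, 0], [361, 13, 129834, 118387, 128899, 128925, 126053, 126714, 126692, 118964, 136641, 136639, 136637, 126152, 136779, 136768, 136731, 136729, 130283, 133274, 133321, 133324, 133337, 128454, 121599, 133340, 133418, 132897, 132055, 127117, 126929, 19278, 45303, 45049, 19198, 45048, 136836, 136838, 136840, 136842, 136844, 136846, 136848, 136850, 136852, 136854, 136856, 136858], [54, 2, 136860, 129851], [125, 1, 136860, 129854, 128218], [126, 2, 136860, 129852, 129429], [133, 1, 136860, 129858, 104604], [134, 2, 136860, 129856, 67645], [217, 1, 136860, 131493, 131513, 112115], [218, 3, 136860, 129852, 129439, 127503], [241, 2, 136860, 129858, 104610, 99810], [242, 2, 136860, 129842, 122515, 107727], [255, 2, 136860, 129728, 136861], [271, 2, 136860, 129696, 136861], [287, 2, 136860, 129664, 136861], [303, 2, 136860, 131499, 136375], [304, 1, 136860, 129840, 135792], [319, 2, 136860, 129844, 135792], [320, 1, 136860, 131507, 136375], [329, 13,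 136860, 129836, 127465, 127958, 119916, 119488, 119487, 136722, 136638, 136670, 129378, 130003, 48487, 24658, 24892, 136311, 136259, 131198, 131231, 112054, 41318, 112055, 131630, 131149, 136247, 136219, 135822, 135793, 131489, 131161, 131555, 123297, 123335, 123295], [329, 18, 136848, 136850, 136852, 136854, 136856, 136858, 136860, 129834, 118387, 128899, 128925, 126053, 126714, 126692, 118964, 136641, 136665, 136640, 124149, 124063, 116819, 127274, 132930, 132932, 133035, 132772, 132827, 112115, 133026, 132944, 132946, 126709, 126569, 112672, 130081], [7, 0, 136849, 136897], [10, 0, 136846, 136897, 130035], [6, 0, 136844, 136901, 124154], [6, 0, 136842, 136903, 124154], [16, 0, 136840, 136905, 130050], [8, 0, 136838, 136907, 136898], [4, 0, 136851, 136908], [8, 0, 136898, 136908], [330, 5, 136860, 129836, 127465, 127958, 119916, 119488, 119487, 136439, 136374, 131486, 129851, 123371, 132918, 132903, 136421, 136464, 135859, 130191, 130089, 132890, 136683, 136647, 134223, 118440, 25393, 24691, 24636, 127911, 128064, 127707, 128065, 127453, 135659, 135628], [330,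 15, 136858, 136860, 129834, 118387, 128899, 128925, 126054, 17120, 45732, 45390, 47049, 47076, 46166, 22363, 133259, 133252, 133269, 129428, 130284, 130282, 129584, 130283, 133274, 133321, 133324, 135963, 135956, 135979, 136001, 130267, 119487, 109941, 93485, 126813, 128823], [3, 0, 136859, 136917], [8, 0, 136856, 136917, 128822], [15, 0, 136854, 136921, 126150], [7, 0, 136852, 136923, 126799], [3, 0, 136910, 136925], [335, 2, 136860, 129612, 136861], [351, 2, 136860, 129576, 136861], [367, 2, 136860, 129506, 136861], [37, 1, 126187, 136926], [85, 1, 127162, 127165, 136926], [86, 2, 130769, 130589, 136926], [94, 2, 126186, 126636, 136926], [96, 0, 126636, 136926, 136940, 126637, 136935], [201, 1, 127162, 127171, 127165, 136926], [202, 3, 130769, 130589, 126644, 136926], [233, 2, 102663, 115281, 126632, 136926], [234, 2, 97099, 126626, 126636, 136926], [251, 2, 136927, 126516, 136926], [267, 2, 136927, 126458, 136926], [283, 2, 136927, 126400, 136926], [299, 2, 135749, 129139, 136926], [300, 1, 136433, 127131, 136926], [315, 2, 136433, 127107, 136926], [316, 1,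 135749, 129038, 136926], [331, 2, 136927, 126342, 136926], [347, 2, 136927, 126284, 136926], [363, 2, 136927, 126226, 136926], [319, 3, 136964, 135857, 130018], [37, 1, 128404, 136918], [0, 0], [345, 17, 129383, 129997, 129746, 129742, 134153, 134152, 129743, 129747, 129763, 48236, 48852, 48883, 48882, 48853, 48237, 129762, 129746, 129742, 134153, 134192, 110888, 124730, 124750, 124724, 17104, 17324, 46805, 45299, 40974, 45322, 45714, 19295, 130082, 130234, 135330, 135332, 135337, 111424, 135082, 135091, 134121, 129371, 129360, 110446, 126605, 136976], [85, 1, 136978, 129914, 129360], [86, 2, 136978, 134077, 134053], [93, 1, 136978, 129922, 113715], [94, 2, 136978, 129920, 96360], [201, 1, 136978, 129887, 129914, 129360], [202, 3, 136978, 134077, 134046, 134053], [233, 2, 136978, 129922, 113695, 101636], [234, 2, 136978, 129973, 119767, 119787], [251, 2, 136978, 129911, 136979], [265, 2, 136978, 129912, 129908, 121439], [266, 2, 136978, 129469, 127844, 127943], [267, 2, 136978, 129913, 136979], [283, 2, 136978, 129917, 136979], [299, 2, 136978, 131571, 136529],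 [316, 1, 136978, 131581, 136529], [331, 2, 136978, 129927, 136979], [347, 2, 136978, 129929, 136979], [363, 2, 136978, 129931, 136979], [319, 1, 128740, 136565, 137008], [0, 0], [0, 0], [361, 13, 126743, 110920, 133642, 133884, 129337, 124751, 124731, 110889, 134193, 134152, 129743, 129747, 129996, 129382, 136979, 136977, 126604, 110447, 129361, 129370, 134120, 135090, 135083, 111425, 135336, 135333, 135331, 130235, 130083, 19294, 45715, 45323, 19214, 45322, 125517, 134768, 134770, 132346, 132345, 126847, 132705, 132671, 127928, 129468, 137018, 137020], [54, 2, 137022, 126763], [125, 1, 137022, 126788, 110920], [126, 2, 137022, 126790, 125540], [133, 1, 137022, 126757, 99067], [134, 2, 137022, 126755, 90155], [217, 1, 137022, 126749, 126788, 110920], [218, 3, 137022, 126790, 121878, 125540], [242, 2, 137022, 126751, 136689, 136681], [255, 2, 137022, 126544, 137023], [271, 2, 137022, 126486, 137023], [287, 2, 137022, 126428, 137023], [303, 2, 137022, 128769, 136571], [320, 1, 137022, 128775, 136571], [330, 29, 137022, 131026, 131021, 110388, 130976, 130764, 130977,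 114160, 114162, 114202, 119985, 128860, 128932, 126144, 127087, 126934, 128757, 136571, 136603, 133430, 135340, 135371, 122525, 45700, 19236, 45018, 135408, 135332, 135343, 134805, 132565, 45361, 19234, 45322], [335, 2, 137022, 126370, 137023], [351, 2, 137022, 126312, 137023], [367, 2, 137022, 126254, 137023], [363, 0, 137020, 137056, 137021], [347, 0, 137020, 137054, 137021], [331, 0, 137020, 137052, 137021], [250, 2, 125516, 42232, 137050], [266, 1, 132751, 45713, 137050, 137043], [37, 1, 137020, 137066], [89, 2, 134938, 132893, 137036, 137066, 137068], [90, 3, 133641, 117357, 137034, 137066, 137068], [93, 3, 137066, 137038, 137021], [94, 2, 137069, 137038, 137066], [205, 2, 137069, 137067, 137027, 125525, 137036, 137066, 137068], [235, 3, 102092, 99060, 106449, 106451, 137030, 137066, 137068], [238, 7, 137077, 137038, 137066, 132871, 105692, 106443, 109488], [134, 3, 129977, 109494, 137082], [259, 0, 137083, 109564, 137082], [275, 0, 137083, 109560, 137082], [291, 0, 137083, 109566, 137082], [307, 0, 136610, 109568, 137082], [308, 3, 136176, 109570, 137082],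 [323, 0, 136176, 109483, 137082], [324, 3, 136610, 109524, 137082], [327, 1, 137098, 136604, 130250], [328, 2, 137098, 136626, 45359], [0, 0], [0, 0], [0, 0], [345, 19, 129087, 129082, 135629, 135628, 129083, 129086, 128362, 50404, 50364, 25393, 25392, 50365, 50405, 128363, 129087, 129082, 135629, 135627, 134369, 129307, 129143, 121748, 17118, 47184, 47191, 45043, 40982, 44892, 19359, 19253, 126654, 126771, 126764, 134222, 134324, 112657, 126080, 126197, 134602, 134749, 134744, 112910, 127589, 137104, 137106, 137108], [250, 1, 137110, 128362, 50417], [263, 2, 137110, 128365, 137111], [279, 2, 137110, 128367, 137111], [281, 1, 137110, 128361, 121602, 126898], [282, 3, 137110, 128369, 131072, 134562], [295, 2, 137110, 128369, 137111], [297, 1, 137110, 128371, 128375, 136301], [298, 3, 137110, 128373, 126772, 136779], [311, 2, 137110, 128373, 136779], [312, 1, 137110, 128375, 136301], [313, 1, 137110, 128377, 113920, 113825], [314, 3, 137110, 128381, 126125, 106973], [327, 2, 137110, 128381, 136301], [328, 1, 137110, 128383, 136779], [343, 2, 137110, 128385, 137111],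 [359, 2, 137110, 128387, 137111], [375, 2, 137110, 128389, 137111], [367, 0, 137108, 137144, 137109], [363, 2, 137106, 137146, 137107], [351, 0, 137108, 137142, 137109], [347, 2, 137106, 137150, 137107], [335, 0, 137108, 137140, 137109], [331, 2, 137106, 137154, 137107], [319, 1, 137108, 137139, 136768, 137138], [5, 0, 137120, 137158], [6, 0, 137118, 137158], [8, 0, 137108, 137158], [9, 0, 137126, 137158], [10, 0, 137124, 137158], [13, 0, 137134, 137158], [14, 0, 137132, 137158], [15, 0, 137112, 137158], [16, 0, 137111, 137158], [17, 0, 137159, 137114, 137158], [19, 0, 137159, 137116, 137158], [21, 0, 137159, 137122, 137158], [23, 0, 137128, 137158], [24, 0, 137130, 137158], [25, 0, 137136, 137158], [26, 0, 137138, 137158], [323, 1, 136788, 136834, 137191], [324, 2, 137189, 137192, 137191], [316, 1, 137106, 137190, 136731], [314, 1, 107789, 25398, 136823, 137196]]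
def dJ346 : List (List ℕ) := [[0, 0], [135, 3, 138383, 109147, 51154, 109155, 138400], [134, 2, 138402, 138384, 51154], [241, 2, 138402, 138383, 109158, 109117], [255, 2, 138402, 138389, 138403], [271, 2, 138402, 138391, 138403], [287, 2, 138402, 138393, 138403], [335, 2, 138402, 138395, 138403], [351, 2, 138402, 138397, 138403], [367, 2, 138402, 138399, 138403], [78, 1, 107073, 138406], [0, 0], [139, 4, 138402, 138383, 109147, 51154, 104160, 109152, 138422], [54, 2, 138424, 138402], [134, 2, 138424, 138405, 104160], [241, 2, 138424, 138401, 109194, 103848], [242, 2, 138424, 138420, 109871, 109867], [255, 2, 138424, 138409, 138425], [271, 2, 138424, 138411, 138425], [287, 2, 138424, 138413, 138425], [335, 2, 138424, 138415, 138425], [351, 2, 138424, 138417, 138425], [367, 2, 138424, 138419, 138425], [0, 0], [177, 3, 109134, 105616, 109146, 138382, 138446], [70, 2, 138448, 109134], [225, 2, 138448, 109122, 109130, 138382], [233, 1, 138448, 109162, 109148, 138449], [259, 2, 138448, 109092, 138449], [275, 2, 138448, 109094, 138449], [291, 2, 138448, 109096, 138449],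 [308, 1, 138448, 109136, 138382], [323, 2, 138448, 109138, 138382], [339, 2, 138448, 109062, 138449], [355, 2, 138448, 109050, 138449], [371, 2, 138448, 109040, 138449], [201, 4, 138454, 138453, 138387, 138452], [114, 1, 138452, 138472, 138453], [0, 0], [179, 4, 109156, 105517, 105616, 109146, 138382, 138446, 138476], [70, 2, 138478, 109156], [174, 2, 138478, 109160, 138382], [225, 2, 138478, 109003, 109001, 138449], [226, 2, 138478, 109129, 109132, 138382], [233, 1, 138478, 109004, 109161, 138479], [259, 2, 138478, 109185, 138479], [275, 2, 138478, 109187, 138479], [291, 2, 138478, 109189, 138479], [307, 2, 138478, 109172, 138382], [308, 1, 138478, 109175, 138449], [323, 2, 138478, 109179, 138449], [324, 1, 138478, 109180, 138382], [339, 2, 138478, 109058, 138479], [355, 2, 138478, 109048, 138479], [371, 2, 138478, 109036, 138479], [317, 1, 138503, 138475, 138502], [0, 0], [227, 3, 138423, 109153, 104161, 51155, 103860, 109150, 138512], [125, 2, 138514, 138427, 138486], [217, 3, 138514, 138427, 138474, 138426], [226, 3, 138514, 138427, 138384, 103860], [257, 2,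 138514, 138435, 138515], [273, 2, 138514, 138437, 138515], [289, 2, 138514, 138439, 138515], [337, 2, 138514, 138441, 138515], [353, 2, 138514, 138443, 138515], [369, 2, 138514, 138445, 138515], [174, 0, 109152, 107079, 138520], [179, 6, 107090, 109152, 138422, 138431, 109083, 109151, 138520], [307, 0, 138429, 61345, 138520], [324, 3, 138429, 61289, 138520], [0, 0], [0, 0], [231, 5, 138401, 109154, 51155, 103860, 76475, 109143, 138542, 138544], [62, 1, 138544, 138546], [125, 2, 138546, 138425, 138515], [126, 1, 138546, 138402, 138486], [128, 5, 138453, 138486, 138552, 138546, 138548], [221, 5, 138544, 138546, 138425, 138427, 138474, 138426, 138424], [223, 7, 138546, 138425, 138427, 138474, 138474, 138426, 138424, 138556], [225, 1, 138546, 138401, 109007, 109840], [226, 3, 138546, 138425, 138429, 103868], [230, 5, 138544, 138546, 138425, 138427, 138384, 103860, 76475], [257, 2, 138546, 138409, 138547], [273, 2, 138546, 138411, 138547], [289, 2, 138546, 138413, 138547], [337, 2, 138546, 138415, 138547], [353, 2, 138546, 138417, 138547], [369, 2, 138546, 138419, 138547],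 [113, 2, 138548, 138557, 138547], [209, 1, 138578, 138420, 103775, 100603], [213, 5, 51156, 106750, 76460, 100603, 138580, 138578, 138556], [78, 2, 138582, 109862], [175, 1, 109194, 138564, 138582, 109862, 138560], [261, 2, 138582, 51516, 138583], [277, 2, 138582, 51458, 138583], [293, 2, 138582, 51400, 138583], [309, 2, 138582, 57710, 138580], [310, 1, 138582, 104166, 138421], [325, 2, 138582, 104168, 138421], [326, 1, 138582, 57707, 138580], [341, 2, 138582, 51342, 138583], [357, 2, 138582, 51284, 138583], [373, 2, 138582, 51226, 138583], [318, 3, 138579, 138600, 138558], [414, 3, 138600, 138595, 138608], [0, 0], [247, 5, 109127, 109007, 109147, 105617, 105516, 103807, 53072, 138612], [173, 2, 138614, 138422, 138431], [174, 1, 138614, 109153, 107091], [209, 2, 138614, 115053, 115047, 138537], [210, 2, 138614, 107082, 109071, 138432], [241, 1, 138614, 109127, 109154, 138583], [242, 3, 138614, 138422, 138427, 138446], [261, 2, 138614, 95910, 138615], [277, 2, 138614, 95892, 138615], [293, 2, 138614, 95882, 138615], [309, 2, 138614, 107099, 138537], [310, 1, 138614,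 109079, 138432], [325, 2, 138614, 109087, 138432], [326, 1, 138614, 107101, 138537], [341, 2, 138614, 95872, 138615], [357, 2, 138614, 95839, 138615], [373, 2, 138614, 95854, 138615], [322, 2, 138540, 138515, 138640], [322, 2, 138641, 138649, 138639], [0, 0], [93, 2, 138582, 104158, 138652], [94, 2, 138654, 138585, 109858], [233, 2, 138654, 138582, 109155, 109918], [234, 2, 138654, 138543, 107072, 100657], [251, 2, 138654, 138589, 138655], [267, 2, 138654, 138591, 138655], [283, 2, 138654, 138593, 138655], [331, 2, 138654, 138603, 138655], [347, 2, 138654, 138605, 138655], [363, 2, 138654, 138607, 138655], [0, 0], [97, 3, 138654, 138582, 104158, 106751, 138674], [38, 2, 138676, 138654], [94, 2, 138676, 138657, 116033], [205, 2, 138676, 138654, 138544, 138578, 138556, 138655, 138677], [251, 2, 138676, 138663, 138677], [267, 2, 138676, 138665, 138677], [283, 2, 138676, 138667, 138677], [331, 2, 138676, 138669, 138677], [347, 2, 138676, 138671, 138677], [363, 2, 138676, 138673, 138677], [241, 1, 138675, 104135, 106756, 138674], [0, 0], [209, 2, 138653, 104159, 100659,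 138698], [86, 1, 138700, 138654, 138557], [201, 3, 138700, 138677, 138682, 138676], [210, 3, 138700, 138677, 138681, 116005], [253, 2, 138700, 138663, 138701], [269, 2, 138700, 138665, 138701], [285, 2, 138700, 138667, 138701], [333, 2, 138700, 138669, 138701], [349, 2, 138700, 138671, 138701], [365, 2, 138700, 138673, 138701], [173, 0, 105314, 115631, 138706], [180, 6, 105620, 105314, 138652, 138659, 109921, 115632, 138706], [309, 0, 138657, 115592, 138706], [326, 3, 138657, 115598, 138706], [0, 0], [0, 0], [213, 4, 138675, 106750, 104159, 100659, 76451, 138728, 138730], [46, 1, 138730, 138732], [85, 2, 138732, 138679, 138557], [86, 1, 138732, 138676, 138701], [87, 0, 138559, 138557, 138736, 138732, 138734], [113, 1, 138732, 138683, 138733], [117, 5, 138735, 138733, 138742, 138732, 138734], [209, 1, 138732, 138675, 106750, 76460], [210, 3, 138732, 138679, 138585, 109785], [214, 5, 138730, 138732, 138679, 138655, 138657, 107069, 109876], [217, 2, 138732, 138683, 138696, 138733], [219, 0, 138735, 138733, 138752, 138732, 138734, 138744, 138744], [253, 2, 138732,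 138685, 138733], [269, 2, 138732, 138687, 138733], [285, 2, 138732, 138689, 138733], [333, 2, 138732, 138691, 138733], [349, 2, 138732, 138693, 138733], [365, 2, 138732, 138695, 138733], [366, 1, 138730, 138766, 138731], [350, 1, 138730, 138764, 138731], [334, 1, 138730, 138762, 138731], [286, 1, 138730, 138760, 138731], [270, 1, 138730, 138758, 138731], [254, 1, 138730, 138756, 138731], [242, 0, 138754, 138751, 116059, 138680], [244, 0, 138780, 138754, 138754, 138751, 116059, 116057, 138748], [69, 2, 138782, 138780], [309, 0, 138749, 109911, 138750], [310, 3, 138681, 116070, 138750], [325, 0, 138681, 116081, 138750], [326, 3, 138749, 109915, 138750], [317, 0, 138731, 138792, 138732], [413, 0, 138794, 138787, 138792], [0, 0]]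
def dJ350 : List (List ℕ) := [[325, 2, 139615, 59970, 139974], [341, 2, 139975, 52396, 139974], [357, 2, 139975, 52338, 139974], [373, 2, 139975, 52280, 139974], [125, 3, 139986, 139773, 139734], [0, 0], [97, 3, 139979, 139975, 105153, 103301, 140010], [38, 2, 140012, 139979], [86, 2, 140012, 139643, 139580], [94, 2, 140012, 139660, 105143], [201, 1, 140012, 139636, 139642, 140013], [233, 2, 140012, 139658, 132292, 132952], [234, 2, 140012, 139635, 112038, 134085], [251, 2, 140012, 139647, 140013], [267, 2, 140012, 139649, 140013], [283, 2, 140012, 139651, 140013], [299, 2, 140012, 139662, 139580], [316, 1, 140012, 139664, 139580], [331, 2, 140012, 139653, 140013], [347, 2, 140012, 139655, 140013], [363, 2, 140012, 139657, 140013], [328, 2, 138540, 139605, 140034], [133, 2, 139582, 133898, 140024], [0, 0], [213, 3, 140016, 140011, 103300, 105152, 103141, 67291, 140046], [46, 2, 140048, 140016], [113, 1, 140048, 139590, 140049], [210, 3, 140048, 139608, 139617, 100375], [217, 2, 140048, 139590, 140045, 140017], [218, 2, 140048, 140056, 140052, 140051], [253, 2,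 140048, 139593, 140049], [269, 2, 140048, 139595, 140049], [282, 2, 140048, 139604, 138439, 138622], [285, 2, 140048, 139597, 140049], [302, 1, 140048, 140032, 140017], [317, 2, 140048, 140034, 140017], [318, 1, 140048, 140070, 140051], [333, 2, 140048, 139599, 140049], [349, 2, 140048, 139601, 140049], [365, 2, 140048, 139603, 140049], [302, 1, 140050, 140069, 140049], [307, 3, 140080, 140023, 134416], [308, 0, 140080, 140025, 135067], [0, 0], [313, 3, 58997, 101902, 139409, 140086], [78, 2, 140088, 105169], [94, 1, 140088, 58596, 140046], [173, 2, 140088, 105405, 61715], [174, 1, 140088, 111696, 111701], [209, 2, 140088, 58596, 103216, 139974], [210, 2, 140088, 103315, 59767, 139614], [261, 2, 140088, 58947, 140089], [277, 2, 140088, 58895, 140089], [293, 2, 140088, 58843, 140089], [309, 2, 140088, 59102, 139974], [310, 1, 140088, 60297, 139614], [325, 2, 140088, 60292, 139614], [326, 1, 140088, 58997, 139974], [341, 2, 140088, 58754, 140089], [357, 2, 140088, 58696, 140089], [373, 2, 140088, 58638, 140089], [321, 1, 140000, 140008, 140114], [322, 2, 140112,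 140122, 140114], [0, 0], [213, 3, 139642, 139658, 105152, 52242, 103302, 101818, 140126], [46, 2, 140128, 139642], [85, 2, 140128, 139580, 140049], [86, 1, 140128, 139618, 140100], [114, 2, 140128, 139637, 139643], [116, 1, 140131, 139636, 140136, 140128, 139637], [210, 3, 140128, 139580, 139589, 103659], [218, 2, 140128, 139478, 139509, 139672], [221, 4, 140128, 140136, 140139, 139639, 139523, 139672, 139677], [253, 2, 140128, 139437, 140129], [269, 2, 140128, 139439, 140129], [281, 2, 140128, 139440, 139449, 139947], [285, 2, 140128, 139441, 140129], [302, 1, 140128, 139663, 139643], [317, 2, 140128, 139665, 139643], [318, 1, 140128, 140156, 140131], [333, 2, 140128, 139443, 140129], [349, 2, 140128, 139445, 140129], [365, 2, 140128, 139447, 140129], [302, 1, 140130, 140155, 140129], [307, 3, 140166, 139645, 100151], [308, 0, 140166, 139635, 60848], [0, 0], [313, 2, 140047, 58832, 103310, 140172], [250, 1, 140174, 140065, 138629], [263, 2, 140174, 140061, 140175], [265, 1, 140174, 140132, 140148, 140151], [266, 3, 140174, 140063, 140092, 140087], [279, 2, 140174,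 140063, 140175], [281, 1, 140174, 140048, 139596, 139607], [295, 2, 140174, 140067, 140175], [297, 1, 140174, 140053, 140069, 139607], [312, 1, 140174, 140069, 139607], [314, 3, 140174, 140071, 139589, 68253], [327, 2, 140174, 140071, 139607], [343, 2, 140174, 140075, 140175], [359, 2, 140174, 140077, 140175], [375, 2, 140174, 140079, 140175], [320, 0, 138904, 139124, 140196], [323, 3, 74739, 139122, 140196], [324, 0, 71227, 139120, 140196], [0, 0], [227, 3, 139950, 105441, 98088, 97720, 98018, 105421, 140210], [113, 2, 140212, 139970, 140213], [125, 2, 140212, 139989, 140009], [126, 1, 140212, 139955, 139773], [226, 3, 140212, 139989, 139982, 98018], [257, 2, 140212, 139959, 140213], [273, 2, 140212, 139961, 140213], [289, 2, 140212, 139963, 140213], [337, 2, 140212, 139965, 140213], [353, 2, 140212, 139967, 140213], [369, 2, 140212, 139969, 140213], [173, 3, 125973, 105416, 140220], [174, 0, 115529, 115563, 140220], [233, 3, 139949, 111686, 101890, 140220], [308, 3, 139953, 98090, 140220], [323, 0, 139953, 98092, 140220], [314, 4, 140242, 139957, 128247, 139557],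 [0, 0], [231, 4, 139772, 139797, 105442, 97720, 98018, 97966, 105449, 140246], [62, 2, 140248, 139772], [113, 2, 140248, 139769, 139773], [114, 1, 140248, 140252, 140251], [126, 1, 140248, 139734, 140125], [202, 2, 140248, 139710, 139672, 139671], [205, 4, 140248, 140252, 140255, 139810, 139809, 139671, 139813], [226, 3, 140248, 140218, 140221, 97966], [257, 2, 140248, 139719, 140249], [273, 2, 140248, 139725, 140249], [289, 2, 140248, 139727, 140249], [297, 2, 140248, 139793, 139781, 138547], [298, 2, 140248, 139723, 138999, 138946], [306, 1, 140248, 139793, 139773], [321, 2, 140248, 139795, 139773], [322, 1, 140248, 140276, 140251], [337, 2, 140248, 139729, 140249], [353, 2, 140248, 139731, 140249], [369, 2, 140248, 139733, 140249], [306, 1, 140250, 140275, 140249], [309, 3, 140286, 139775, 65030], [310, 0, 140286, 139767, 80897], [0, 0], [233, 2, 128405, 128864, 139378, 140292], [70, 2, 140294, 128846], [133, 2, 140294, 128822, 139333], [134, 1, 140294, 128813, 139919], [173, 1, 140294, 128828, 107745], [174, 2, 140294, 128830, 105560], [225, 2, 140294, 128813,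 128825, 140295], [259, 2, 140294, 128833, 140295], [275, 2, 140294, 128835, 140295], [291, 2, 140294, 128837, 140295], [307, 2, 140294, 128840, 139333], [308, 1, 140294, 128838, 139919], [323, 2, 140294, 128842, 139919], [324, 1, 140294, 128845, 139333], [339, 2, 140294, 128645, 140295], [355, 2, 140294, 128587, 140295], [371, 2, 140294, 128529, 140295], [317, 1, 139938, 139946, 140320], [318, 2, 140318, 140328, 140320], [328, 2, 139664, 139449, 140320], [0, 0], [235, 3, 104383, 54511, 128863, 128864, 139378, 140292, 140334], [70, 2, 140336, 103371], [133, 2, 140336, 100091, 139154], [134, 1, 140336, 99811, 139885], [173, 1, 140336, 136876, 136871], [174, 2, 140336, 101109, 106974], [225, 2, 140336, 99811, 100059, 139122], [226, 2, 140336, 94111, 100045, 140207], [234, 3, 140336, 101109, 52839, 139378], [259, 2, 140336, 69913, 140337], [275, 2, 140336, 69909, 140337], [291, 2, 140336, 69905, 140337], [307, 2, 140336, 100192, 139122], [308, 1, 140336, 100194, 140207], [323, 2, 140336, 100196, 140207], [324, 1, 140336, 100198, 139122], [339, 2, 140336, 69901, 140337],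 [355, 2, 140336, 69897, 140337], [371, 2, 140336, 69893, 140337], [317, 1, 140196, 140187, 140366], [318, 2, 140364, 140374, 140366], [327, 1, 138540, 139132, 140366], [328, 2, 140035, 139607, 140366], [0, 0], [69, 1, 103335, 140382], [133, 2, 138884, 53065, 140382], [134, 1, 140206, 100044, 140382], [173, 1, 126870, 94190, 140382], [174, 2, 127977, 104770, 140382], [225, 2, 139099, 62930, 100075, 140382], [226, 2, 139884, 100069, 53065, 140382], [233, 1, 139099, 94183, 94190, 140382]]
def dLive_0 : BT := .node (.node (.node (.node (.node (.node (.node (.leaf 0) (.leaf 7864)) (.leaf 5188)) (.node (.leaf 4409) (.leaf 6779))) (.node (.node (.leaf 2108) (.leaf 5806)) (.node (.leaf 4705) (.leaf 7279)))) (.node (.node (.node (.node (.leaf 1169) (.leaf 8186)) (.leaf 5428)) (.node (.leaf 4549) (.leaf 7010))) (.node (.node (.leaf 3766) (.leaf 6379)) (.node (.leaf 4907) (.leaf 7566))))) (.node (.node (.node (.node (.node (.leaf 197) (.leaf 8062)) (.leaf 5300)) (.node (.leaf 4478) (.leaf 6902))) (.node (.node (.leaf 3408) (.leaf 6100)) (.node (.leaf 4793) (.leaf 7446))))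 (.node (.node (.node (.node (.leaf 1416) (.leaf 8260)) (.leaf 5592)) (.node (.leaf 4625) (.leaf 7129))) (.node (.node (.leaf 4345) (.leaf 6630)) (.node (.leaf 5013) (.leaf 7708)))))) (.node (.node (.node (.node (.node (.node (.leaf 56) (.leaf 7957)) (.leaf 5244)) (.node (.leaf 4441) (.leaf 6858))) (.node (.node (.leaf 2460) (.leaf 5935)) (.node (.leaf 4751) (.leaf 7347)))) (.node (.node (.node (.node (.leaf 1203) (.leaf 8228)) (.leaf 5503)) (.node (.leaf 4592) (.leaf 7074))) (.node (.node (.leaf 4313) (.leaf 6531)) (.node (.leaf 4964) (.leaf 7647))))) (.node (.node (.node (.node (.node (.leaf 618) (.leaf 8131)) (.leaf 5372)) (.node (.leaf 4516) (.leaf 6957))) (.node (.node (.leaf 3528) (.leaf 6237)) (.node (.leaf 4849) (.leaf 7493)))) (.node (.node (.node (.leaf 1541) (.leaf 5685)) (.node (.leaf 4669) (.leaf 7217))) (.node (.node (.leaf 4377) (.leaf 6723)) (.node (.leaf 5098) (.leaf 7779))))))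
def dLive_7 : BT := .node (.node (.node (.node (.node (.node (.node (.leaf 12) (.leaf 7870)) (.leaf 5192)) (.node (.leaf 4413) (.leaf 6783))) (.node (.node (.leaf 2360) (.leaf 5828)) (.node (.leaf 4709) (.leaf 7283)))) (.node (.node (.node (.node (.leaf 1175) (.leaf 8190)) (.leaf 5437)) (.node (.leaf 4553) (.leaf 7016))) (.node (.node (.leaf 3770) (.leaf 6395)) (.node (.leaf 4912) (.leaf 7570))))) (.node (.node (.node (.node (.node (.leaf 241) (.leaf 8078)) (.leaf 5313)) (.node (.leaf 4482) (.leaf 6907))) (.node (.node (.leaf 3414) (.leaf 6111)) (.node (.leaf 4801) (.leaf 7450)))) (.node (.node (.node (.node (.leaf 1420) (.leaf 8264)) (.leaf 5603)) (.node (.leaf 4629) (.leaf 7135))) (.node (.node (.leaf 4349) (.leaf 6634)) (.node (.leaf 5022) (.leaf 7714)))))) (.node (.node (.node (.node (.node (.node (.leaf 63) (.leaf 7965)) (.leaf 5256)) (.node (.leaf 4446) (.leaf 6862))) (.node (.node (.leaf 2464) (.leaf 5952)) (.node (.leaf 4755) (.leaf 7365)))) (.node (.node (.node (.node (.leaf 1286) (.leaf 8232)) (.leaf 5513)) (.node (.leaf 4596) (.leaf 7079))) (.node (.node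 (.leaf 4317) (.leaf 6561)) (.node (.leaf 4970) (.leaf 7651))))) (.node (.node (.node (.node (.node (.leaf 646) (.leaf 8146)) (.leaf 5377)) (.node (.leaf 4521) (.leaf 6962))) (.node (.node (.leaf 3532) (.leaf 6244)) (.node (.leaf 4862) (.leaf 7502)))) (.node (.node (.node (.leaf 1545) (.leaf 5693)) (.node (.leaf 4675) (.leaf 7230))) (.node (.node (.leaf 4381) (.leaf 6727)) (.node (.leaf 5108) (.leaf 7796))))))
def dLive_15 : BT := .node (.node (.node (.node (.node (.node (.node (.leaf 2) (.leaf 7866)) (.leaf 5190)) (.node (.leaf 4411) (.leaf 6781))) (.node (.node (.leaf 2229) (.leaf 5818)) (.node (.leaf 4707) (.leaf 7281)))) (.node (.node (.node (.node (.leaf 1173) (.leaf 8188)) (.leaf 5432)) (.node (.leaf 4551) (.leaf 7013))) (.node (.node (.leaf 3768) (.leaf 6386)) (.node (.leaf 4909) (.leaf 7568))))) (.node (.node (.node (.node (.node (.leaf 205) (.leaf 8070)) (.leaf 5308)) (.node (.leaf 4480) (.leaf 6905))) (.node (.node (.leaf 3412) (.leaf 6105)) (.node (.leaf 4796) (.leaf 7448)))) (.node (.node (.node (.node (.leaf 1418) (.leaf 8262)) (.leaf 5599)) (.node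 (.leaf 4627) (.leaf 7131))) (.node (.node (.leaf 4347) (.leaf 6632)) (.node (.leaf 5020) (.leaf 7710)))))) (.node (.node (.node (.node (.node (.node (.leaf 61) (.leaf 7959)) (.leaf 5247)) (.node (.leaf 4444) (.leaf 6860))) (.node (.node (.leaf 2462) (.leaf 5942)) (.node (.leaf 4753) (.leaf 7362)))) (.node (.node (.node (.node (.leaf 1213) (.leaf 8230)) (.leaf 5510)) (.node (.leaf 4594) (.leaf 7077))) (.node (.node (.leaf 4315) (.leaf 6540)) (.node (.leaf 4966) (.leaf 7649))))) (.node (.node (.node (.node (.node (.leaf 632) (.leaf 8133)) (.leaf 5375)) (.node (.leaf 4519) (.leaf 6959))) (.node (.node (.leaf 3530) (.leaf 6239)) (.node (.leaf 4853) (.leaf 7495)))) (.node (.node (.node (.leaf 1543) (.leaf 5690)) (.node (.leaf 4671) (.leaf 7225))) (.node (.node (.leaf 4379) (.leaf 6725)) (.node (.leaf 5102) (.leaf 7792))))))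
def dLive_22 : BT := .node (.node (.node (.node (.node (.node (.node (.leaf 15) (.leaf 7872)) (.leaf 5197)) (.node (.leaf 4415) (.leaf 6785))) (.node (.node (.leaf 2362) (.leaf 5834)) (.node (.leaf 4711) (.leaf 7294)))) (.node (.node (.node (.node (.leaf 1177) (.leaf 8196)) (.leaf 5442)) (.node (.leaf 4555) (.leaf 7019))) (.node (.node (.leaf 3772) (.leaf 6420)) (.node (.leaf 4916) (.leaf 7573))))) (.node (.node (.node (.node (.node (.leaf 247) (.leaf 8086)) (.leaf 5316)) (.node (.leaf 4484) (.leaf 6912))) (.node (.node (.leaf 3416) (.leaf 6118)) (.node (.leaf 4804) (.leaf 7452)))) (.node (.node (.node (.node (.leaf 1422) (.leaf 8266)) (.leaf 5615)) (.node (.leaf 4631) (.leaf 7141))) (.node (.node (.leaf 4351) (.leaf 6637)) (.node (.leaf 5032) (.leaf 7725)))))) (.node (.node (.node (.node (.node (.node (.leaf 82) (.leaf 7967)) (.leaf 5258)) (.node (.leaf 4448) (.leaf 6865))) (.node (.node (.leaf 2466) (.leaf 5955)) (.node (.leaf 4757) (.leaf 7367)))) (.node (.node (.node (.node (.leaf 1289) (.leaf 8234)) (.leaf 5515)) (.node (.leaf 4598) (.leaf 7081))) (.node (.node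 (.leaf 4319) (.leaf 6577)) (.node (.leaf 4972) (.leaf 7653))))) (.node (.node (.node (.node (.node (.leaf 686) (.leaf 8148)) (.leaf 5379)) (.node (.leaf 4523) (.leaf 6964))) (.node (.node (.leaf 3534) (.leaf 6255)) (.node (.leaf 4864) (.leaf 7504)))) (.node (.node (.node (.leaf 1948) (.leaf 5709)) (.node (.leaf 4677) (.leaf 7232))) (.node (.node (.leaf 4383) (.leaf 6729)) (.node (.leaf 5110) (.leaf 7798))))))
def dLive_31 : BT := .node (.node (.node (.node (.node (.node (.node (.leaf 1) (.leaf 7865)) (.leaf 5189)) (.node (.leaf 4410) (.leaf 6780))) (.node (.node (.leaf 2109) (.leaf 5807)) (.node (.leaf 4706) (.leaf 7280)))) (.node (.node (.node (.node (.leaf 1170) (.leaf 8187)) (.leaf 5431)) (.node (.leaf 4550) (.leaf 7012))) (.node (.node (.leaf 3767) (.leaf 6380)) (.node (.leaf 4908) (.leaf 7567))))) (.node (.node (.node (.node (.node (.leaf 203) (.leaf 8068)) (.leaf 5306)) (.node (.leaf 4479) (.leaf 6904))) (.node (.node (.leaf 3411) (.leaf 6104)) (.node (.leaf 4794) (.leaf 7447)))) (.node (.node (.node (.node (.leaf 1417) (.leaf 8261)) (.leaf 5594)) (.node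 (.leaf 4626) (.leaf 7130))) (.node (.node (.leaf 4346) (.leaf 6631)) (.node (.leaf 5016) (.leaf 7709)))))) (.node (.node (.node (.node (.node (.node (.leaf 57) (.leaf 7958)) (.leaf 5245)) (.node (.leaf 4443) (.leaf 6859))) (.node (.node (.leaf 2461) (.leaf 5939)) (.node (.leaf 4752) (.leaf 7361)))) (.node (.node (.node (.node (.leaf 1204) (.leaf 8229)) (.leaf 5505)) (.node (.leaf 4593) (.leaf 7075))) (.node (.node (.leaf 4314) (.leaf 6532)) (.node (.leaf 4965) (.leaf 7648))))) (.node (.node (.node (.node (.node (.leaf 631) (.leaf 8132)) (.leaf 5373)) (.node (.leaf 4518) (.leaf 6958))) (.node (.node (.leaf 3529) (.leaf 6238)) (.node (.leaf 4852) (.leaf 7494)))) (.node (.node (.node (.leaf 1542) (.leaf 5687)) (.node (.leaf 4670) (.leaf 7218))) (.node (.node (.leaf 4378) (.leaf 6724)) (.node (.leaf 5099) (.leaf 7791))))))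
def dLive_38 : BT := .node (.node (.node (.node (.node (.node (.node (.leaf 14) (.leaf 7871)) (.leaf 5196)) (.node (.leaf 4414) (.leaf 6784))) (.node (.node (.leaf 2361) (.leaf 5833)) (.node (.leaf 4710) (.leaf 7284)))) (.node (.node (.node (.node (.leaf 1176) (.leaf 8194)) (.leaf 5438)) (.node (.leaf 4554) (.leaf 7017))) (.node (.node (.leaf 3771) (.leaf 6396)) (.node (.leaf 4913) (.leaf 7571))))) (.node (.node (.node (.node (.node (.leaf 246) (.leaf 8079)) (.leaf 5315)) (.node (.leaf 4483) (.leaf 6908))) (.node (.node (.leaf 3415) (.leaf 6113)) (.node (.leaf 4802) (.leaf 7451)))) (.node (.node (.node (.node (.leaf 1421) (.leaf 8265)) (.leaf 5607)) (.node (.leaf 4630) (.leaf 7140))) (.node (.node (.leaf 4350) (.leaf 6635)) (.node (.leaf 5030) (.leaf 7723)))))) (.node (.node (.node (.node (.node (.node (.leaf 81) (.leaf 7966)) (.leaf 5257)) (.node (.leaf 4447) (.leaf 6863))) (.node (.node (.leaf 2465) (.leaf 5954)) (.node (.leaf 4756) (.leaf 7366)))) (.node (.node (.node (.node (.leaf 1288) (.leaf 8233)) (.leaf 5514)) (.node (.leaf 4597) (.leaf 7080))) (.node (.node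 (.leaf 4318) (.leaf 6576)) (.node (.leaf 4971) (.leaf 7652))))) (.node (.node (.node (.node (.node (.leaf 653) (.leaf 8147)) (.leaf 5378)) (.node (.leaf 4522) (.leaf 6963))) (.node (.node (.leaf 3533) (.leaf 6251)) (.node (.leaf 4863) (.leaf 7503)))) (.node (.node (.node (.leaf 1553) (.leaf 5702)) (.node (.leaf 4676) (.leaf 7231))) (.node (.node (.leaf 4382) (.leaf 6728)) (.node (.leaf 5109) (.leaf 7797))))))
def dLive_46 : BT := .node (.node (.node (.node (.node (.node (.node (.leaf 11) (.leaf 7867)) (.leaf 5191)) (.node (.leaf 4412) (.leaf 6782))) (.node (.node (.leaf 2359) (.leaf 5827)) (.node (.leaf 4708) (.leaf 7282)))) (.node (.node (.node (.node (.leaf 1174) (.leaf 8189)) (.leaf 5434)) (.node (.leaf 4552) (.leaf 7014))) (.node (.node (.leaf 3769) (.leaf 6393)) (.node (.leaf 4911) (.leaf 7569))))) (.node (.node (.node (.node (.node (.leaf 208) (.leaf 8071)) (.leaf 5310)) (.node (.leaf 4481) (.leaf 6906))) (.node (.node (.leaf 3413) (.leaf 6106)) (.node (.leaf 4797) (.leaf 7449)))) (.node (.node (.node (.node (.leaf 1419) (.leaf 8263)) (.leaf 5600)) (.node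 (.leaf 4628) (.leaf 7134))) (.node (.node (.leaf 4348) (.leaf 6633)) (.node (.leaf 5021) (.leaf 7713)))))) (.node (.node (.node (.node (.node (.node (.leaf 62) (.leaf 7960)) (.leaf 5255)) (.node (.leaf 4445) (.leaf 6861))) (.node (.node (.leaf 2463) (.leaf 5949)) (.node (.leaf 4754) (.leaf 7364)))) (.node (.node (.node (.node (.leaf 1285) (.leaf 8231)) (.leaf 5512)) (.node (.leaf 4595) (.leaf 7078))) (.node (.node (.leaf 4316) (.leaf 6542)) (.node (.leaf 4967) (.leaf 7650))))) (.node (.node (.node (.node (.node (.leaf 642) (.leaf 8135)) (.leaf 5376)) (.node (.leaf 4520) (.leaf 6960))) (.node (.node (.leaf 3531) (.leaf 6240)) (.node (.leaf 4856) (.leaf 7501)))) (.node (.node (.node (.leaf 1544) (.leaf 5692)) (.node (.leaf 4674) (.leaf 7226))) (.node (.node (.leaf 4380) (.leaf 6726)) (.node (.leaf 5103) (.leaf 7793))))))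
def dLive_53 : BT := .node (.node (.node (.node (.node (.node (.node (.leaf 17) (.leaf 7873)) (.leaf 5198)) (.node (.leaf 4416) (.leaf 6794))) (.node (.node (.leaf 2363) (.leaf 5835)) (.node (.leaf 4712) (.leaf 7295)))) (.node (.node (.node (.node (.leaf 1178) (.leaf 8199)) (.leaf 5446)) (.node (.leaf 4556) (.leaf 7024))) (.node (.node (.leaf 3773) (.leaf 6422)) (.node (.leaf 4918) (.leaf 7574))))) (.node (.node (.node (.node (.node (.leaf 267) (.leaf 8087)) (.leaf 5317)) (.node (.leaf 4485) (.leaf 6913))) (.node (.node (.leaf 3417) (.leaf 6120)) (.node (.leaf 4805) (.leaf 7453)))) (.node (.node (.node (.node (.leaf 1423) (.leaf 8267)) (.leaf 5617)) (.node (.leaf 4632) (.leaf 7142))) (.node (.node (.leaf 4352) (.leaf 6639)) (.node (.leaf 5033) (.leaf 7726)))))) (.node (.node (.node (.node (.node (.node (.leaf 83) (.leaf 7968)) (.leaf 5259)) (.node (.leaf 4449) (.leaf 6866))) (.node (.node (.leaf 2467) (.leaf 5956)) (.node (.leaf 4758) (.leaf 7368)))) (.node (.node (.node (.node (.leaf 1290) (.leaf 8235)) (.leaf 5516)) (.node (.leaf 4599) (.leaf 7082))) (.node (.node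 (.leaf 4320) (.leaf 6578)) (.node (.leaf 4973) (.leaf 7655))))) (.node (.node (.node (.node (.node (.leaf 687) (.leaf 8149)) (.leaf 5382)) (.node (.leaf 4524) (.leaf 6965))) (.node (.node (.leaf 3537) (.leaf 6256)) (.node (.leaf 4865) (.leaf 7505)))) (.node (.node (.node (.leaf 1949) (.leaf 5713)) (.node (.leaf 4678) (.leaf 7238))) (.node (.node (.leaf 4384) (.leaf 6730)) (.node (.leaf 5111) (.leaf 7799))))))
def dPos_0 : BT := .node (.node (.node (.node (.node (.node (.node (.leaf 0) (.leaf 0)) (.leaf 0)) (.node (.leaf 0) (.leaf 1354))) (.node (.node (.leaf 0) (.leaf 0)) (.node (.leaf 0) (.leaf 0)))) (.node (.node (.node (.leaf 0) (.leaf 688)) (.node (.leaf 0) (.leaf 0))) (.node (.node (.leaf 219) (.leaf 1231)) (.node (.leaf 0) (.leaf 0))))) (.node (.node (.node (.node (.leaf 0) (.leaf 455)) (.node (.leaf 0) (.leaf 0))) (.node (.node (.leaf 0) (.leaf 1123)) (.node (.leaf 0) (.leaf 0)))) (.node (.node (.node (.leaf 0) (.leaf 870)) (.node (.leaf 0) (.leaf 1606))) (.node (.node (.leaf 0) (.leaf 0)) (.node (.leaf 0) (.leaf 0)))))) (.node (.node (.node (.node (.node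 (.leaf 0) (.leaf 0)) (.node (.leaf 0) (.leaf 0))) (.node (.node (.leaf 0) (.leaf 0)) (.node (.leaf 0) (.leaf 0)))) (.node (.node (.node (.leaf 0) (.leaf 790)) (.node (.leaf 0) (.leaf 1541))) (.node (.node (.leaf 0) (.leaf 0)) (.node (.leaf 0) (.leaf 0))))) (.node (.node (.node (.node (.leaf 0) (.leaf 578)) (.node (.leaf 0) (.leaf 1437))) (.node (.node (.leaf 0) (.leaf 0)) (.node (.leaf 0) (.leaf 0)))) (.node (.node (.node (.leaf 0) (.leaf 0)) (.node (.leaf 0) (.leaf 1679))) (.node (.node (.leaf 0) (.leaf 0)) (.node (.leaf 0) (.leaf 0))))))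
def dPos_7 : BT := .node (.node (.node (.node (.node (.node (.node (.leaf 0) (.leaf 2188)) (.leaf 0)) (.node (.leaf 0) (.leaf 0))) (.node (.node (.leaf 0) (.leaf 0)) (.node (.leaf 0) (.leaf 1744)))) (.node (.node (.node (.leaf 0) (.leaf 703)) (.node (.leaf 0) (.leaf 0))) (.node (.node (.leaf 0) (.leaf 0)) (.node (.leaf 0) (.leaf 1975))))) (.node (.node (.node (.node (.leaf 0) (.leaf 471)) (.node (.leaf 0) (.leaf 0))) (.node (.node (.leaf 173) (.leaf 1133)) (.node (.leaf 0) (.leaf 0)))) (.node (.node (.node (.leaf 108) (.leaf 879)) (.node (.leaf 0) (.leaf 0))) (.node (.node (.leaf 0) (.leaf 1301)) (.node (.leaf 0) (.leaf 0)))))) (.node (.node (.node (.node (.node (.leaf 0) (.leaf 0)) (.node (.leaf 0) (.leaf 0))) (.node (.node (.leaf 127) (.leaf 1066)) (.node (.leaf 0) (.leaf 1810)))) (.node (.node (.node (.leaf 0) (.leaf 801)) (.node (.leaf 0) (.leaf 0))) (.node (.node (.leaf 0) (.leaf 0)) (.node (.leaf 0) (.leaf 2033))))) (.node (.node (.node (.node (.leaf 0) (.leaf 593)) (.node (.leaf 276) (.leaf 0))) (.node (.node (.leaf 200) (.leaf 1193)) (.node (.leaf 0) (.leaf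 1922)))) (.node (.node (.node (.leaf 0) (.leaf 957)) (.node (.leaf 0) (.leaf 1690))) (.node (.node (.leaf 0) (.leaf 1334)) (.node (.leaf 0) (.leaf 0))))))
def dPos_15 : BT := .node (.node (.node (.node (.node (.node (.node (.leaf 0) (.leaf 0)) (.leaf 0)) (.node (.leaf 0) (.leaf 0))) (.node (.node (.leaf 0) (.leaf 0)) (.node (.leaf 0) (.leaf 0)))) (.node (.node (.node (.leaf 0) (.leaf 695)) (.node (.leaf 0) (.leaf 0))) (.node (.node (.leaf 227) (.leaf 0)) (.node (.leaf 0) (.leaf 0))))) (.node (.node (.node (.node (.leaf 0) (.leaf 463)) (.node (.leaf 0) (.leaf 0))) (.node (.node (.leaf 165) (.leaf 0)) (.node (.leaf 0) (.leaf 0)))) (.node (.node (.node (.leaf 0) (.leaf 875)) (.node (.leaf 0) (.leaf 0))) (.node (.node (.leaf 0) (.leaf 0)) (.node (.leaf 0) (.leaf 2075)))))) (.node (.node (.node (.node (.node (.leaf 0) (.leaf 0)) (.node (.leaf 0) (.leaf 0))) (.node (.node (.leaf 0) (.leaf 1060)) (.node (.leaf 0) (.leaf 1802)))) (.node (.node (.node (.leaf 0) (.leaf 793)) (.node (.leaf 0) (.leaf 0))) (.node (.node (.leaf 0) (.leaf 0)) (.node (.leaf 0) (.leaf 2027)))))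 (.node (.node (.node (.node (.leaf 0) (.leaf 0)) (.node (.leaf 0) (.leaf 0))) (.node (.node (.leaf 192) (.leaf 1187)) (.node (.leaf 0) (.leaf 0)))) (.node (.node (.node (.leaf 0) (.leaf 952)) (.node (.leaf 0) (.leaf 0))) (.node (.node (.leaf 0) (.leaf 0)) (.node (.leaf 0) (.leaf 0))))))
def dPos_22 : BT := .node (.node (.node (.node (.node (.node (.node (.leaf 13) (.leaf 2196)) (.leaf 0)) (.node (.leaf 237) (.leaf 0))) (.node (.node (.leaf 0) (.leaf 0)) (.node (.leaf 0) (.leaf 0)))) (.node (.node (.node (.leaf 0) (.leaf 711)) (.node (.leaf 0) (.leaf 1492))) (.node (.node (.leaf 0) (.leaf 0)) (.node (.leaf 0) (.leaf 1981))))) (.node (.node (.node (.node (.leaf 0) (.leaf 479)) (.node (.leaf 0) (.leaf 0))) (.node (.node (.leaf 181) (.leaf 0)) (.node (.leaf 0) (.leaf 1858)))) (.node (.node (.node (.leaf 0) (.leaf 885)) (.node (.leaf 0) (.leaf 0))) (.node (.node (.leaf 0) (.leaf 0)) (.node (.leaf 0) (.leaf 2083)))))) (.node (.node (.node (.node (.node (.leaf 0) (.leaf 0)) (.node (.leaf 0) (.leaf 1392))) (.node (.node (.leaf 133) (.leaf 1072)) (.node (.leaf 0) (.leaf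 0)))) (.node (.node (.node (.leaf 0) (.leaf 809)) (.node (.leaf 0) (.leaf 0))) (.node (.node (.leaf 0) (.leaf 1275)) (.node (.leaf 0) (.leaf 0))))) (.node (.node (.node (.node (.leaf 0) (.leaf 601)) (.node (.leaf 284) (.leaf 0))) (.node (.node (.leaf 208) (.leaf 0)) (.node (.leaf 0) (.leaf 0)))) (.node (.node (.node (.leaf 0) (.leaf 961)) (.node (.leaf 0) (.leaf 0))) (.node (.node (.leaf 0) (.leaf 0)) (.node (.leaf 0) (.leaf 2120))))))
def dPos_31 : BT := .node (.node (.node (.node (.node (.node (.node (.leaf 0) (.leaf 2182)) (.leaf 0)) (.node (.leaf 0) (.leaf 1356))) (.node (.node (.leaf 0) (.leaf 1003)) (.node (.leaf 0) (.leaf 1739)))) (.node (.node (.node (.leaf 0) (.leaf 0)) (.node (.leaf 0) (.leaf 0))) (.node (.node (.leaf 223) (.leaf 0)) (.node (.leaf 0) (.leaf 0))))) (.node (.node (.node (.node (.leaf 0) (.leaf 459)) (.node (.leaf 0) (.leaf 0))) (.node (.node (.leaf 0) (.leaf 0)) (.node (.leaf 0) (.leaf 0)))) (.node (.node (.node (.leaf 0) (.leaf 0)) (.node (.leaf 0) (.leaf 1609))) (.node (.node (.leaf 0) (.leaf 0)) (.node (.leaf 0) (.leaf 2074)))))) (.node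 (.node (.node (.node (.node (.leaf 0) (.leaf 0)) (.node (.leaf 0) (.leaf 0))) (.node (.node (.leaf 0) (.leaf 0)) (.node (.leaf 0) (.leaf 0)))) (.node (.node (.node (.leaf 0) (.leaf 0)) (.node (.leaf 0) (.leaf 0))) (.node (.node (.leaf 0) (.leaf 1269)) (.node (.leaf 0) (.leaf 0))))) (.node (.node (.node (.node (.leaf 0) (.leaf 582)) (.node (.leaf 0) (.leaf 1441))) (.node (.node (.leaf 0) (.leaf 0)) (.node (.leaf 0) (.leaf 0)))) (.node (.node (.node (.leaf 0) (.leaf 948)) (.node (.leaf 0) (.leaf 0))) (.node (.node (.leaf 0) (.leaf 0)) (.node (.leaf 0) (.leaf 2113))))))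
def dPos_38 : BT := .node (.node (.node (.node (.node (.node (.node (.leaf 9) (.leaf 2192)) (.leaf 0)) (.node (.leaf 0) (.leaf 0))) (.node (.node (.leaf 0) (.leaf 1006)) (.node (.leaf 0) (.leaf 1745)))) (.node (.node (.node (.leaf 0) (.leaf 707)) (.node (.leaf 0) (.leaf 1488))) (.node (.node (.leaf 0) (.leaf 0)) (.node (.leaf 0) (.leaf 1979))))) (.node (.node (.node (.node (.leaf 0) (.leaf 475)) (.node (.leaf 0) (.leaf 1414))) (.node (.node (.leaf 177) (.leaf 0)) (.node (.leaf 0) (.leaf 1854)))) (.node (.node (.node (.leaf 0) (.leaf 881)) (.node (.leaf 0) (.leaf 1615))) (.node (.node (.leaf 0) (.leaf 0)) (.node (.leaf 0) (.leaf 0)))))) (.node (.node (.node (.node (.node (.leaf 0) (.leaf 0)) (.node (.leaf 0) (.leaf 0))) (.node (.node (.leaf 0) (.leaf 1069)) (.node (.leaf 0) (.leaf 1814)))) (.node (.node (.node (.leaf 0) (.leaf 805)) (.node (.leaf 0) (.leaf 0))) (.node (.node (.leaf 0) (.leaf 0)) (.node (.leaf 0) (.leaf 2034))))) (.node (.node (.node (.node (.leaf 0) (.leaf 597)) (.node (.leaf 280) (.leaf 0))) (.node (.node (.leaf 204) (.leaf 1197)) (.node (.leaf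 0) (.leaf 0)))) (.node (.node (.node (.leaf 0) (.leaf 959)) (.node (.leaf 0) (.leaf 0))) (.node (.node (.leaf 0) (.leaf 0)) (.node (.leaf 0) (.leaf 0))))))
def dPos_46 : BT := .node (.node (.node (.node (.node (.node (.node (.leaf 4) (.leaf 2185)) (.leaf 0)) (.node (.leaf 0) (.leaf 0))) (.node (.node (.leaf 0) (.leaf 0)) (.node (.leaf 0) (.leaf 0)))) (.node (.node (.node (.leaf 0) (.leaf 699)) (.node (.leaf 0) (.leaf 0))) (.node (.node (.leaf 0) (.leaf 1235)) (.node (.leaf 0) (.leaf 0))))) (.node (.node (.node (.node (.leaf 72) (.leaf 467)) (.node (.leaf 0) (.leaf 0))) (.node (.node (.leaf 169) (.leaf 1129)) (.node (.leaf 0) (.leaf 1851)))) (.node (.node (.node (.leaf 0) (.leaf 878)) (.node (.leaf 0) (.leaf 1613))) (.node (.node (.leaf 0) (.leaf 0)) (.node (.leaf 0) (.leaf 2078)))))) (.node (.node (.node (.node (.node (.leaf 0) (.leaf 0)) (.node (.leaf 0) (.leaf 0))) (.node (.node (.leaf 125) (.leaf 0)) (.node (.leaf 0) (.leaf 1806)))) (.node (.node (.node (.leaf 0) (.leaf 797)) (.node (.leaf 0) (.leaf 0))) (.node (.node (.leaf 0) (.leaf 0)) (.node (.leaf 0) (.leaf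 2030))))) (.node (.node (.node (.node (.leaf 0) (.leaf 589)) (.node (.leaf 0) (.leaf 1442))) (.node (.node (.leaf 196) (.leaf 1191)) (.node (.leaf 0) (.leaf 1919)))) (.node (.node (.node (.leaf 0) (.leaf 0)) (.node (.leaf 0) (.leaf 1686))) (.node (.node (.leaf 0) (.leaf 0)) (.node (.leaf 0) (.leaf 0))))))
def dPos_53 : BT := .node (.node (.node (.node (.node (.node (.node (.leaf 15) (.leaf 2200)) (.leaf 0)) (.node (.leaf 0) (.leaf 0))) (.node (.node (.leaf 0) (.leaf 1009)) (.node (.leaf 0) (.leaf 0)))) (.node (.node (.node (.leaf 0) (.leaf 713)) (.node (.leaf 0) (.leaf 0))) (.node (.node (.leaf 0) (.leaf 0)) (.node (.leaf 0) (.leaf 1984))))) (.node (.node (.node (.node (.leaf 0) (.leaf 483)) (.node (.leaf 0) (.leaf 0))) (.node (.node (.leaf 185) (.leaf 0)) (.node (.leaf 0) (.leaf 1862)))) (.node (.node (.node (.leaf 0) (.leaf 0)) (.node (.leaf 0) (.leaf 1618))) (.node (.node (.leaf 0) (.leaf 0)) (.node (.leaf 0) (.leaf 0)))))) (.node (.node (.node (.node (.node (.leaf 0) (.leaf 0)) (.node (.leaf 0) (.leaf 1394))) (.node (.node (.leaf 137) (.leaf 0)) (.node (.leaf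 0) (.leaf 0)))) (.node (.node (.node (.leaf 0) (.leaf 813)) (.node (.leaf 0) (.leaf 1547))) (.node (.node (.leaf 0) (.leaf 0)) (.node (.leaf 0) (.leaf 2040))))) (.node (.node (.node (.node (.leaf 0) (.leaf 0)) (.node (.leaf 288) (.leaf 0))) (.node (.node (.leaf 0) (.leaf 0)) (.node (.leaf 0) (.leaf 1929)))) (.node (.node (.node (.leaf 0) (.leaf 962)) (.node (.leaf 0) (.leaf 0))) (.node (.node (.leaf 230) (.leaf 0)) (.node (.leaf 0) (.leaf 0))))))
def dPos_63 : BT := .node (.node (.node (.node (.node (.node (.node (.leaf 2) (.leaf 2181)) (.leaf 0)) (.node (.leaf 0) (.leaf 0))) (.node (.node (.leaf 0) (.leaf 0)) (.node (.leaf 0) (.leaf 0)))) (.node (.node (.node (.leaf 0) (.leaf 690)) (.node (.leaf 0) (.leaf 0))) (.node (.node (.leaf 221) (.leaf 1232)) (.node (.leaf 0) (.leaf 1972))))) (.node (.node (.node (.node (.leaf 0) (.leaf 457)) (.node (.leaf 0) (.leaf 0))) (.node (.node (.leaf 0) (.leaf 1125)) (.node (.leaf 0) (.leaf 0)))) (.node (.node (.node (.leaf 0) (.leaf 872)) (.node (.leaf 0) (.leaf 1608))) (.node (.node (.leaf 0) (.leaf 0)) (.node (.leaf 0) (.leaf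 0)))))) (.node (.node (.node (.node (.node (.leaf 0) (.leaf 0)) (.node (.leaf 0) (.leaf 0))) (.node (.node (.leaf 0) (.leaf 0)) (.node (.leaf 0) (.leaf 0)))) (.node (.node (.node (.leaf 99) (.leaf 0)) (.node (.leaf 0) (.leaf 0))) (.node (.node (.leaf 0) (.leaf 1268)) (.node (.leaf 0) (.leaf 0))))) (.node (.node (.node (.node (.leaf 0) (.leaf 580)) (.node (.leaf 0) (.leaf 1439))) (.node (.node (.leaf 188) (.leaf 0)) (.node (.leaf 0) (.leaf 0)))) (.node (.node (.node (.leaf 0) (.leaf 946)) (.node (.leaf 0) (.leaf 0))) (.node (.node (.leaf 0) (.leaf 0)) (.node (.leaf 0) (.leaf 0))))))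
def dPos_70 : BT := .node (.node (.node (.node (.node (.node (.node (.leaf 8) (.leaf 2190)) (.leaf 0)) (.node (.leaf 0) (.leaf 0))) (.node (.node (.leaf 0) (.leaf 1004)) (.node (.leaf 0) (.leaf 0)))) (.node (.node (.node (.leaf 0) (.leaf 705)) (.node (.leaf 0) (.leaf 0))) (.node (.node (.leaf 0) (.leaf 0)) (.node (.leaf 0) (.leaf 1977))))) (.node (.node (.node (.node (.leaf 0) (.leaf 473)) (.node (.leaf 0) (.leaf 0))) (.node (.node (.leaf 175) (.leaf 0)) (.node (.leaf 0) (.leaf 1853)))) (.node (.node (.node (.leaf 0) (.leaf 880)) (.node (.leaf 0) (.leaf 0))) (.node (.node (.leaf 0) (.leaf 1302)) (.node (.leaf 0) (.leaf 0)))))) (.node (.node (.node (.node (.node (.leaf 0) (.leaf 0)) (.node (.leaf 0) (.leaf 0))) (.node (.node (.leaf 129) (.leaf 1068)) (.node (.leaf 0) (.leaf 1812)))) (.node (.node (.node (.leaf 0) (.leaf 803)) (.node (.leaf 0) (.leaf 0))) (.node (.node (.leaf 0) (.leaf 1272)) (.node (.leaf 0) (.leaf 0))))) (.node (.node (.node (.node (.leaf 0) (.leaf 595)) (.node (.leaf 278) (.leaf 0))) (.node (.node (.leaf 202) (.leaf 1195)) (.node (.leaf 0) (.leaf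 1924)))) (.node (.node (.node (.leaf 0) (.leaf 0)) (.node (.leaf 0) (.leaf 1692))) (.node (.node (.leaf 0) (.leaf 0)) (.node (.leaf 0) (.leaf 0))))))
def dPos_78 : BT := .node (.node (.node (.node (.node (.node (.node (.leaf 0) (.leaf 0)) (.leaf 0)) (.node (.leaf 0) (.leaf 0))) (.node (.node (.leaf 0) (.leaf 0)) (.node (.leaf 0) (.leaf 1740)))) (.node (.node (.node (.leaf 0) (.leaf 697)) (.node (.leaf 0) (.leaf 0))) (.node (.node (.leaf 0) (.leaf 0)) (.node (.leaf 0) (.leaf 0))))) (.node (.node (.node (.node (.leaf 0) (.leaf 465)) (.node (.leaf 0) (.leaf 0))) (.node (.node (.leaf 167) (.leaf 0)) (.node (.leaf 0) (.leaf 0)))) (.node (.node (.node (.leaf 106) (.leaf 0)) (.node (.leaf 0) (.leaf 1611))) (.node (.node (.leaf 0) (.leaf 0)) (.node (.leaf 0) (.leaf 2076)))))) (.node (.node (.node (.node (.node (.leaf 0) (.leaf 0)) (.node (.leaf 0) (.leaf 1389))) (.node (.node (.leaf 0) (.leaf 1062)) (.node (.leaf 0) (.leaf 1804)))) (.node (.node (.node (.leaf 0) (.leaf 795)) (.node (.leaf 0) (.leaf 1543))) (.node (.node (.leaf 0) (.leaf 0)) (.node (.leaf 0) (.leaf 2028)))))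 (.node (.node (.node (.node (.leaf 0) (.leaf 587)) (.node (.leaf 0) (.leaf 0))) (.node (.node (.leaf 194) (.leaf 1189)) (.node (.leaf 0) (.leaf 1917)))) (.node (.node (.node (.leaf 0) (.leaf 0)) (.node (.leaf 0) (.leaf 1684))) (.node (.node (.leaf 0) (.leaf 0)) (.node (.leaf 0) (.leaf 0))))))
def dPos_85 : BT := .node (.node (.node (.node (.node (.node (.node (.leaf 0) (.leaf 2198)) (.leaf 0)) (.node (.leaf 0) (.leaf 0))) (.node (.node (.leaf 0) (.leaf 1007)) (.node (.leaf 0) (.leaf 0)))) (.node (.node (.node (.leaf 0) (.leaf 712)) (.node (.leaf 0) (.leaf 0))) (.node (.node (.leaf 0) (.leaf 1239)) (.node (.leaf 0) (.leaf 1983))))) (.node (.node (.node (.node (.leaf 0) (.leaf 481)) (.node (.leaf 0) (.leaf 0))) (.node (.node (.leaf 183) (.leaf 0)) (.node (.leaf 0) (.leaf 1860)))) (.node (.node (.node (.leaf 0) (.leaf 0)) (.node (.leaf 0) (.leaf 0))) (.node (.node (.leaf 0) (.leaf 0)) (.node (.leaf 0) (.leaf 0)))))) (.node (.node (.node (.node (.node (.leaf 48) (.leaf 0)) (.node (.leaf 0) (.leaf 1393))) (.node (.node (.leaf 135) (.leaf 1074)) (.node (.leaf 0) (.leaf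 0)))) (.node (.node (.node (.leaf 0) (.leaf 811)) (.node (.leaf 0) (.leaf 1545))) (.node (.node (.leaf 0) (.leaf 1276)) (.node (.leaf 0) (.leaf 0))))) (.node (.node (.node (.node (.leaf 0) (.leaf 0)) (.node (.leaf 286) (.leaf 0))) (.node (.node (.leaf 210) (.leaf 0)) (.node (.leaf 0) (.leaf 0)))) (.node (.node (.node (.leaf 0) (.leaf 0)) (.node (.leaf 0) (.leaf 0))) (.node (.node (.leaf 0) (.leaf 0)) (.node (.leaf 0) (.leaf 0))))))
def dPos_94 : BT := .node (.node (.node (.node (.node (.node (.node (.leaf 0) (.leaf 0)) (.leaf 0)) (.node (.leaf 0) (.leaf 1357))) (.node (.node (.leaf 0) (.leaf 0)) (.node (.leaf 0) (.leaf 0)))) (.node (.node (.node (.leaf 0) (.leaf 693)) (.node (.leaf 0) (.leaf 0))) (.node (.node (.leaf 225) (.leaf 1234)) (.node (.leaf 0) (.leaf 0))))) (.node (.node (.node (.node (.leaf 0) (.leaf 461)) (.node (.leaf 0) (.leaf 0))) (.node (.node (.leaf 164) (.leaf 1127)) (.node (.leaf 0) (.leaf 0)))) (.node (.node (.node (.leaf 0) (.leaf 873)) (.node (.leaf 0) (.leaf 0))) (.node (.node (.leaf 0) (.leaf 0)) (.node (.leaf 0) (.leaf 0)))))) (.node (.node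 (.node (.node (.node (.leaf 0) (.leaf 0)) (.node (.leaf 0) (.leaf 0))) (.node (.node (.leaf 0) (.leaf 0)) (.node (.leaf 0) (.leaf 0)))) (.node (.node (.node (.leaf 100) (.leaf 792)) (.node (.leaf 0) (.leaf 0))) (.node (.node (.leaf 0) (.leaf 0)) (.node (.leaf 0) (.leaf 0))))) (.node (.node (.node (.node (.leaf 0) (.leaf 584)) (.node (.leaf 0) (.leaf 0))) (.node (.node (.leaf 190) (.leaf 1186)) (.node (.leaf 0) (.leaf 1916)))) (.node (.node (.node (.leaf 0) (.leaf 950)) (.node (.leaf 0) (.leaf 1681))) (.node (.node (.leaf 0) (.leaf 1332)) (.node (.leaf 0) (.leaf 2114))))))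
def dPos_101 : BT := .node (.node (.node (.node (.node (.node (.node (.leaf 11) (.leaf 2194)) (.leaf 0)) (.node (.leaf 0) (.leaf 1362))) (.node (.node (.leaf 0) (.leaf 0)) (.node (.leaf 0) (.leaf 1747)))) (.node (.node (.node (.leaf 0) (.leaf 709)) (.node (.leaf 0) (.leaf 1490))) (.node (.node (.leaf 0) (.leaf 0)) (.node (.leaf 0) (.leaf 0))))) (.node (.node (.node (.node (.leaf 0) (.leaf 477)) (.node (.leaf 0) (.leaf 1415))) (.node (.node (.leaf 179) (.leaf 1137)) (.node (.leaf 0) (.leaf 1856)))) (.node (.node (.node (.leaf 0) (.leaf 883)) (.node (.leaf 0) (.leaf 0))) (.node (.node (.leaf 0) (.leaf 0)) (.node (.leaf 0) (.leaf 2081)))))) (.node (.node (.node (.node (.node (.leaf 0) (.leaf 0)) (.node (.leaf 0) (.leaf 0))) (.node (.node (.leaf 131) (.leaf 1070)) (.node (.leaf 0) (.leaf 0)))) (.node (.node (.node (.leaf 0) (.leaf 807)) (.node (.leaf 0) (.leaf 0))) (.node (.node (.leaf 0) (.leaf 0)) (.node (.leaf 0) (.leaf 2036))))) (.node (.node (.node (.node (.leaf 0) (.leaf 599)) (.node (.leaf 282) (.leaf 0))) (.node (.node (.leaf 206) (.leaf 0)) (.node (.leaf 0)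 (.leaf 1927)))) (.node (.node (.node (.leaf 0) (.leaf 0)) (.node (.leaf 0) (.leaf 0))) (.node (.node (.leaf 0) (.leaf 0)) (.node (.leaf 0) (.leaf 2118))))))
def dPos_109 : BT := .node (.node (.node (.node (.node (.node (.node (.leaf 5) (.leaf 2186)) (.leaf 0)) (.node (.leaf 0) (.leaf 0))) (.node (.node (.leaf 0) (.leaf 0)) (.node (.leaf 0) (.leaf 1742)))) (.node (.node (.node (.leaf 0) (.leaf 701)) (.node (.leaf 0) (.leaf 0))) (.node (.node (.leaf 0) (.leaf 0)) (.node (.leaf 0) (.leaf 0))))) (.node (.node (.node (.node (.leaf 0) (.leaf 469)) (.node (.leaf 0) (.leaf 0))) (.node (.node (.leaf 171) (.leaf 1131)) (.node (.leaf 0) (.leaf 0)))) (.node (.node (.node (.leaf 0) (.leaf 0)) (.node (.leaf 0) (.leaf 0))) (.node (.node (.leaf 0) (.leaf 0)) (.node (.leaf 0) (.leaf 2079)))))) (.node (.node (.node (.node (.node (.leaf 0) (.leaf 0)) (.node (.leaf 0) (.leaf 0))) (.node (.node (.leaf 0) (.leaf 1064)) (.node (.leaf 0) (.leaf 1808)))) (.node (.node (.node (.leaf 0) (.leaf 799)) (.node (.leaf 0) (.leaf 0))) (.node (.node (.leaf 0) (.leaf 0)) (.node (.leaf 0) (.leaf 0)))))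 (.node (.node (.node (.node (.leaf 0) (.leaf 591)) (.node (.leaf 274) (.leaf 1443))) (.node (.node (.leaf 198) (.leaf 0)) (.node (.leaf 0) (.leaf 1920)))) (.node (.node (.node (.leaf 0) (.leaf 955)) (.node (.leaf 0) (.leaf 1688))) (.node (.node (.leaf 0) (.leaf 0)) (.node (.leaf 0) (.leaf 2116))))))
def dPos_116 : BT := .node (.node (.node (.node (.node (.node (.node (.leaf 0) (.leaf 2202)) (.leaf 0)) (.node (.leaf 0) (.leaf 1364))) (.node (.node (.leaf 0) (.leaf 0)) (.node (.leaf 0) (.leaf 0)))) (.node (.node (.node (.leaf 0) (.leaf 0)) (.node (.leaf 0) (.leaf 1495))) (.node (.node (.leaf 0) (.leaf 0)) (.node (.leaf 0) (.leaf 1986))))) (.node (.node (.node (.node (.leaf 0) (.leaf 485)) (.node (.leaf 0) (.leaf 0))) (.node (.node (.leaf 0) (.leaf 1139)) (.node (.leaf 0) (.leaf 1864)))) (.node (.node (.node (.leaf 0) (.leaf 0)) (.node (.leaf 0) (.leaf 0))) (.node (.node (.leaf 0) (.leaf 0)) (.node (.leaf 0) (.leaf 2085)))))) (.node (.node (.node (.node (.node (.leaf 0) (.leaf 0)) (.node (.leaf 0) (.leaf 0))) (.node (.node (.leaf 139) (.leaf 1077)) (.node (.leaf 0)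 (.leaf 0)))) (.node (.node (.node (.leaf 0) (.leaf 0)) (.node (.leaf 0) (.leaf 1549))) (.node (.node (.leaf 0) (.leaf 0)) (.node (.leaf 0) (.leaf 2042))))) (.node (.node (.node (.node (.leaf 0) (.leaf 603)) (.node (.leaf 290) (.leaf 0))) (.node (.node (.leaf 0) (.leaf 1198)) (.node (.leaf 0) (.leaf 0)))) (.node (.node (.node (.leaf 0) (.leaf 964)) (.node (.leaf 0) (.leaf 0))) (.node (.node (.leaf 0) (.leaf 0)) (.node (.leaf 0) (.leaf 0))))))
def dPos_127 : BT := .node (.node (.node (.node (.node (.node (.node (.leaf 1) (.leaf 0)) (.leaf 0)) (.node (.leaf 0) (.leaf 0))) (.node (.node (.leaf 0) (.leaf 0)) (.node (.leaf 0) (.leaf 0)))) (.node (.node (.node (.leaf 0) (.leaf 689)) (.node (.leaf 0) (.leaf 0))) (.node (.node (.leaf 220) (.leaf 0)) (.node (.leaf 0) (.leaf 0))))) (.node (.node (.node (.node (.leaf 0) (.leaf 456)) (.node (.leaf 0) (.leaf 0))) (.node (.node (.leaf 0) (.leaf 1124)) (.node (.leaf 0) (.leaf 0)))) (.node (.node (.node (.leaf 0) (.leaf 871)) (.node (.leaf 0) (.leaf 1607))) (.node (.node (.leaf 0) (.leaf 0)) (.node (.leaf 0) (.leaf 2072)))))) (.node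 (.node (.node (.node (.node (.leaf 0) (.leaf 0)) (.node (.leaf 0) (.leaf 0))) (.node (.node (.leaf 0) (.leaf 0)) (.node (.leaf 0) (.leaf 1800)))) (.node (.node (.node (.leaf 0) (.leaf 791)) (.node (.leaf 0) (.leaf 1542))) (.node (.node (.leaf 0) (.leaf 1267)) (.node (.leaf 0) (.leaf 0))))) (.node (.node (.node (.node (.leaf 0) (.leaf 579)) (.node (.leaf 0) (.leaf 1438))) (.node (.node (.leaf 187) (.leaf 1185)) (.node (.leaf 0) (.leaf 1913)))) (.node (.node (.node (.leaf 0) (.leaf 945)) (.node (.leaf 0) (.leaf 0))) (.node (.node (.leaf 0) (.leaf 0)) (.node (.leaf 0) (.leaf 0))))))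
def dPos_134 : BT := .node (.node (.node (.node (.node (.node (.node (.leaf 7) (.leaf 2189)) (.leaf 0)) (.node (.leaf 0) (.leaf 1359))) (.node (.node (.leaf 0) (.leaf 0)) (.node (.leaf 0) (.leaf 0)))) (.node (.node (.node (.leaf 0) (.leaf 704)) (.node (.leaf 0) (.leaf 1486))) (.node (.node (.leaf 229) (.leaf 1236)) (.node (.leaf 0) (.leaf 1976))))) (.node (.node (.node (.node (.leaf 0) (.leaf 472)) (.node (.leaf 0) (.leaf 0))) (.node (.node (.leaf 174) (.leaf 1134)) (.node (.leaf 0) (.leaf 0)))) (.node (.node (.node (.leaf 0) (.leaf 0)) (.node (.leaf 0) (.leaf 1614))) (.node (.node (.leaf 0) (.leaf 0)) (.node (.leaf 0) (.leaf 0)))))) (.node (.node (.node (.node (.node (.leaf 0) (.leaf 0)) (.node (.leaf 0) (.leaf 0))) (.node (.node (.leaf 128) (.leaf 1067)) (.node (.leaf 0) (.leaf 1811)))) (.node (.node (.node (.leaf 0) (.leaf 802)) (.node (.leaf 0) (.leaf 0))) (.node (.node (.leaf 0) (.leaf 1271)) (.node (.leaf 0) (.leaf 0))))) (.node (.node (.node (.node (.leaf 0) (.leaf 594)) (.node (.leaf 277) (.leaf 0))) (.node (.node (.leaf 201) (.leaf 1194)) (.node (.leaf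 0) (.leaf 1923)))) (.node (.node (.node (.leaf 0) (.leaf 0)) (.node (.leaf 0) (.leaf 1691))) (.node (.node (.leaf 0) (.leaf 1335)) (.node (.leaf 0) (.leaf 0))))))
def dPos_142 : BT := .node (.node (.node (.node (.node (.node (.node (.leaf 0) (.leaf 2184)) (.leaf 0)) (.node (.leaf 0) (.leaf 0))) (.node (.node (.leaf 0) (.leaf 0)) (.node (.leaf 0) (.leaf 0)))) (.node (.node (.node (.leaf 0) (.leaf 696)) (.node (.leaf 0) (.leaf 0))) (.node (.node (.leaf 228) (.leaf 0)) (.node (.leaf 0) (.leaf 0))))) (.node (.node (.node (.node (.leaf 0) (.leaf 464)) (.node (.leaf 0) (.leaf 0))) (.node (.node (.leaf 166) (.leaf 0)) (.node (.leaf 0) (.leaf 0)))) (.node (.node (.node (.leaf 0) (.leaf 876)) (.node (.leaf 0) (.leaf 1610))) (.node (.node (.leaf 0) (.leaf 0)) (.node (.leaf 0) (.leaf 0)))))) (.node (.node (.node (.node (.node (.leaf 0) (.leaf 0)) (.node (.leaf 0) (.leaf 0))) (.node (.node (.leaf 0) (.leaf 1061)) (.node (.leaf 0) (.leaf 1803)))) (.node (.node (.node (.leaf 0) (.leaf 794)) (.node (.leaf 0) (.leaf 0))) (.node (.node (.leaf 0) (.leaf 0)) (.node (.leaf 0) (.leaf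 0))))) (.node (.node (.node (.node (.leaf 0) (.leaf 586)) (.node (.leaf 0) (.leaf 0))) (.node (.node (.leaf 193) (.leaf 1188)) (.node (.leaf 0) (.leaf 0)))) (.node (.node (.node (.leaf 0) (.leaf 953)) (.node (.leaf 0) (.leaf 1683))) (.node (.node (.leaf 0) (.leaf 0)) (.node (.leaf 0) (.leaf 0))))))
def dPos_149 : BT := .node (.node (.node (.node (.node (.node (.node (.leaf 0) (.leaf 2197)) (.leaf 0)) (.node (.leaf 238) (.leaf 0))) (.node (.node (.leaf 0) (.leaf 0)) (.node (.leaf 0) (.leaf 0)))) (.node (.node (.node (.leaf 0) (.leaf 0)) (.node (.leaf 0) (.leaf 1493))) (.node (.node (.leaf 0) (.leaf 0)) (.node (.leaf 0) (.leaf 1982))))) (.node (.node (.node (.node (.leaf 74) (.leaf 480)) (.node (.leaf 0) (.leaf 1416))) (.node (.node (.leaf 182) (.leaf 0)) (.node (.leaf 0) (.leaf 1859)))) (.node (.node (.node (.leaf 0) (.leaf 0)) (.node (.leaf 0) (.leaf 0))) (.node (.node (.leaf 0) (.leaf 0)) (.node (.leaf 0) (.leaf 0)))))) (.node (.node (.node (.node (.node (.leaf 47) (.leaf 0)) (.node (.leaf 0) (.leaf 0))) (.node (.node (.leaf 134) (.leaf 1073)) (.node (.leaf 0)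 (.leaf 0)))) (.node (.node (.node (.leaf 0) (.leaf 810)) (.node (.leaf 0) (.leaf 0))) (.node (.node (.leaf 0) (.leaf 0)) (.node (.leaf 0) (.leaf 2038))))) (.node (.node (.node (.node (.leaf 0) (.leaf 602)) (.node (.leaf 285) (.leaf 0))) (.node (.node (.leaf 209) (.leaf 0)) (.node (.leaf 0) (.leaf 0)))) (.node (.node (.node (.leaf 0) (.leaf 0)) (.node (.leaf 0) (.leaf 0))) (.node (.node (.leaf 0) (.leaf 0)) (.node (.leaf 0) (.leaf 2121))))))
def dPos_158 : BT := .node (.node (.node (.node (.node (.node (.node (.leaf 0) (.leaf 0)) (.leaf 0)) (.node (.leaf 0) (.leaf 0))) (.node (.node (.leaf 0) (.leaf 0)) (.node (.leaf 0) (.leaf 0)))) (.node (.node (.node (.leaf 0) (.leaf 692)) (.node (.leaf 0) (.leaf 0))) (.node (.node (.leaf 224) (.leaf 1233)) (.node (.leaf 0) (.leaf 0))))) (.node (.node (.node (.node (.leaf 0) (.leaf 460)) (.node (.leaf 0) (.leaf 0))) (.node (.node (.leaf 163) (.leaf 0)) (.node (.leaf 0) (.leaf 0)))) (.node (.node (.node (.leaf 0) (.leaf 0)) (.node (.leaf 0) (.leaf 0))) (.node (.node (.leaf 0) (.leaf 0)) (.node (.leaf 0) (.leaf 0)))))) (.node (.node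 (.node (.node (.node (.leaf 0) (.leaf 0)) (.node (.leaf 0) (.leaf 0))) (.node (.node (.leaf 0) (.leaf 0)) (.node (.leaf 0) (.leaf 0)))) (.node (.node (.node (.leaf 0) (.leaf 0)) (.node (.leaf 0) (.leaf 0))) (.node (.node (.leaf 0) (.leaf 0)) (.node (.leaf 0) (.leaf 0))))) (.node (.node (.node (.node (.leaf 0) (.leaf 583)) (.node (.leaf 0) (.leaf 0))) (.node (.node (.leaf 189) (.leaf 0)) (.node (.leaf 0) (.leaf 1915)))) (.node (.node (.node (.leaf 0) (.leaf 949)) (.node (.leaf 0) (.leaf 1680))) (.node (.node (.leaf 0) (.leaf 1331)) (.node (.leaf 0) (.leaf 0))))))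
def dPos_165 : BT := .node (.node (.node (.node (.node (.node (.node (.leaf 10) (.leaf 2193)) (.leaf 0)) (.node (.leaf 0) (.leaf 1361))) (.node (.node (.leaf 0) (.leaf 0)) (.node (.leaf 0) (.leaf 1746)))) (.node (.node (.node (.leaf 0) (.leaf 708)) (.node (.leaf 0) (.leaf 1489))) (.node (.node (.leaf 0) (.leaf 1238)) (.node (.leaf 0) (.leaf 0))))) (.node (.node (.node (.node (.leaf 0) (.leaf 476)) (.node (.leaf 0) (.leaf 0))) (.node (.node (.leaf 178) (.leaf 1136)) (.node (.leaf 0) (.leaf 1855)))) (.node (.node (.node (.leaf 0) (.leaf 882)) (.node (.leaf 0) (.leaf 1616))) (.node (.node (.leaf 0) (.leaf 0)) (.node (.leaf 0) (.leaf 2080)))))) (.node (.node (.node (.node (.node (.leaf 0) (.leaf 0)) (.node (.leaf 0) (.leaf 0))) (.node (.node (.leaf 130) (.leaf 0)) (.node (.leaf 0) (.leaf 0)))) (.node (.node (.node (.leaf 0) (.leaf 806)) (.node (.leaf 0) (.leaf 0))) (.node (.node (.leaf 0) (.leaf 0)) (.node (.leaf 0) (.leaf 2035))))) (.node (.node (.node (.node (.leaf 0) (.leaf 598)) (.node (.leaf 281) (.leaf 0))) (.node (.node (.leaf 205) (.leaf 0)) (.node (.leaf 0)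 (.leaf 1926)))) (.node (.node (.node (.leaf 0) (.leaf 960)) (.node (.leaf 0) (.leaf 0))) (.node (.node (.leaf 0) (.leaf 0)) (.node (.leaf 0) (.leaf 0))))))
def dPos_173 : BT := .node (.node (.node (.node (.node (.node (.node (.leaf 0) (.leaf 0)) (.leaf 0)) (.node (.leaf 0) (.leaf 0))) (.node (.node (.leaf 0) (.leaf 0)) (.node (.leaf 0) (.leaf 0)))) (.node (.node (.node (.leaf 0) (.leaf 700)) (.node (.leaf 0) (.leaf 0))) (.node (.node (.leaf 0) (.leaf 0)) (.node (.leaf 0) (.leaf 0))))) (.node (.node (.node (.node (.leaf 73) (.leaf 468)) (.node (.leaf 0) (.leaf 0))) (.node (.node (.leaf 170) (.leaf 1130)) (.node (.leaf 0) (.leaf 1852)))) (.node (.node (.node (.leaf 0) (.leaf 0)) (.node (.leaf 0) (.leaf 0))) (.node (.node (.leaf 0) (.leaf 0)) (.node (.leaf 0) (.leaf 0)))))) (.node (.node (.node (.node (.node (.leaf 0) (.leaf 0)) (.node (.leaf 0) (.leaf 1391))) (.node (.node (.leaf 126) (.leaf 0)) (.node (.leaf 0) (.leaf 1807)))) (.node (.node (.node (.leaf 101) (.leaf 798)) (.node (.leaf 0) (.leaf 0))) (.node (.node (.leaf 0) (.leaf 1270)) (.node (.leaf 0) (.leaf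 2031))))) (.node (.node (.node (.node (.leaf 0) (.leaf 590)) (.node (.leaf 0) (.leaf 0))) (.node (.node (.leaf 197) (.leaf 1192)) (.node (.leaf 0) (.leaf 0)))) (.node (.node (.node (.leaf 0) (.leaf 954)) (.node (.leaf 0) (.leaf 1687))) (.node (.node (.leaf 0) (.leaf 1333)) (.node (.leaf 0) (.leaf 0))))))
def dPos_180 : BT := .node (.node (.node (.node (.node (.node (.node (.leaf 16) (.leaf 2201)) (.leaf 0)) (.node (.leaf 0) (.leaf 0))) (.node (.node (.leaf 0) (.leaf 0)) (.node (.leaf 0) (.leaf 0)))) (.node (.node (.node (.leaf 0) (.leaf 0)) (.node (.leaf 0) (.leaf 0))) (.node (.node (.leaf 0) (.leaf 0)) (.node (.leaf 0) (.leaf 1985))))) (.node (.node (.node (.node (.leaf 0) (.leaf 484)) (.node (.leaf 0) (.leaf 1417))) (.node (.node (.leaf 186) (.leaf 0)) (.node (.leaf 0) (.leaf 1863)))) (.node (.node (.node (.leaf 0) (.leaf 886)) (.node (.leaf 0) (.leaf 1619))) (.node (.node (.leaf 0) (.leaf 0)) (.node (.leaf 0) (.leaf 2084)))))) (.node (.node (.node (.node (.node (.leaf 0) (.leaf 0)) (.node (.leaf 0) (.leaf 1395))) (.node (.node (.leaf 138) (.leaf 1076)) (.node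 (.leaf 0) (.leaf 1815)))) (.node (.node (.node (.leaf 0) (.leaf 814)) (.node (.leaf 0) (.leaf 1548))) (.node (.node (.leaf 0) (.leaf 0)) (.node (.leaf 0) (.leaf 2041))))) (.node (.node (.node (.node (.leaf 0) (.leaf 0)) (.node (.leaf 289) (.leaf 0))) (.node (.node (.leaf 0) (.leaf 0)) (.node (.leaf 0) (.leaf 1930)))) (.node (.node (.node (.leaf 0) (.leaf 963)) (.node (.leaf 0) (.leaf 0))) (.node (.node (.leaf 231) (.leaf 0)) (.node (.leaf 0) (.leaf 0))))))
def dPos_190 : BT := .node (.node (.node (.node (.node (.node (.node (.leaf 0) (.leaf 0)) (.leaf 0)) (.node (.leaf 0) (.leaf 1355))) (.node (.node (.leaf 0) (.leaf 1002)) (.node (.leaf 0) (.leaf 0)))) (.node (.node (.node (.leaf 0) (.leaf 691)) (.node (.leaf 0) (.leaf 0))) (.node (.node (.leaf 222) (.leaf 0)) (.node (.leaf 0) (.leaf 1973))))) (.node (.node (.node (.node (.leaf 0) (.leaf 458)) (.node (.leaf 0) (.leaf 0))) (.node (.node (.leaf 0) (.leaf 1126)) (.node (.leaf 0) (.leaf 0)))) (.node (.node (.node (.leaf 0) (.leaf 0)) (.node (.leaf 0) (.leaf 0))) (.node (.node (.leaf 0) (.leaf 0)) (.node (.leaf 0)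 (.leaf 2073)))))) (.node (.node (.node (.node (.node (.leaf 0) (.leaf 0)) (.node (.leaf 0) (.leaf 0))) (.node (.node (.leaf 0) (.leaf 0)) (.node (.leaf 0) (.leaf 0)))) (.node (.node (.node (.leaf 0) (.leaf 0)) (.node (.leaf 0) (.leaf 0))) (.node (.node (.leaf 0) (.leaf 0)) (.node (.leaf 0) (.leaf 0))))) (.node (.node (.node (.node (.leaf 0) (.leaf 581)) (.node (.leaf 0) (.leaf 1440))) (.node (.node (.leaf 0) (.leaf 0)) (.node (.leaf 0) (.leaf 1914)))) (.node (.node (.node (.leaf 0) (.leaf 947)) (.node (.leaf 0) (.leaf 0))) (.node (.node (.leaf 0) (.leaf 1330)) (.node (.leaf 0) (.leaf 0))))))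
def dPos_197 : BT := .node (.node (.node (.node (.node (.node (.node (.leaf 0) (.leaf 2191)) (.leaf 0)) (.node (.leaf 0) (.leaf 1360))) (.node (.node (.leaf 0) (.leaf 1005)) (.node (.leaf 0) (.leaf 0)))) (.node (.node (.node (.leaf 0) (.leaf 706)) (.node (.leaf 0) (.leaf 1487))) (.node (.node (.leaf 0) (.leaf 1237)) (.node (.leaf 0) (.leaf 1978))))) (.node (.node (.node (.node (.leaf 0) (.leaf 474)) (.node (.leaf 0) (.leaf 0))) (.node (.node (.leaf 176) (.leaf 1135)) (.node (.leaf 0) (.leaf 0)))) (.node (.node (.node (.leaf 0) (.leaf 0)) (.node (.leaf 0) (.leaf 0))) (.node (.node (.leaf 0) (.leaf 1303)) (.node (.leaf 0) (.leaf 0)))))) (.node (.node (.node (.node (.node (.leaf 0) (.leaf 0)) (.node (.leaf 0) (.leaf 0))) (.node (.node (.leaf 0) (.leaf 0)) (.node (.leaf 0) (.leaf 1813)))) (.node (.node (.node (.leaf 0) (.leaf 804)) (.node (.leaf 0) (.leaf 0))) (.node (.node (.leaf 0) (.leaf 1273)) (.node (.leaf 0) (.leaf 0))))) (.node (.node (.node (.node (.leaf 0) (.leaf 596)) (.node (.leaf 279) (.leaf 0))) (.node (.node (.leaf 203) (.leaf 1196)) (.node (.leaf 0)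 (.leaf 1925)))) (.node (.node (.node (.leaf 0) (.leaf 958)) (.node (.leaf 0) (.leaf 1693))) (.node (.node (.leaf 0) (.leaf 0)) (.node (.leaf 0) (.leaf 0))))))
def dPos_205 : BT := .node (.node (.node (.node (.node (.node (.node (.leaf 3) (.leaf 0)) (.leaf 0)) (.node (.leaf 0) (.leaf 0))) (.node (.node (.leaf 0) (.leaf 0)) (.node (.leaf 0) (.leaf 1741)))) (.node (.node (.node (.leaf 0) (.leaf 698)) (.node (.leaf 0) (.leaf 0))) (.node (.node (.leaf 0) (.leaf 0)) (.node (.leaf 0) (.leaf 0))))) (.node (.node (.node (.node (.leaf 71) (.leaf 466)) (.node (.leaf 0) (.leaf 0))) (.node (.node (.leaf 168) (.leaf 0)) (.node (.leaf 0) (.leaf 0)))) (.node (.node (.node (.leaf 107) (.leaf 877)) (.node (.leaf 0) (.leaf 1612))) (.node (.node (.leaf 0) (.leaf 0)) (.node (.leaf 0) (.leaf 2077)))))) (.node (.node (.node (.node (.node (.leaf 0) (.leaf 0)) (.node (.leaf 0) (.leaf 1390))) (.node (.node (.leaf 124) (.leaf 1063)) (.node (.leaf 0) (.leaf 1805)))) (.node (.node (.node (.leaf 0) (.leaf 796)) (.node (.leaf 0) (.leaf 1544))) (.node (.node (.leaf 0) (.leaf 0)) (.node (.leaf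 0) (.leaf 2029))))) (.node (.node (.node (.node (.leaf 0) (.leaf 588)) (.node (.leaf 0) (.leaf 0))) (.node (.node (.leaf 195) (.leaf 1190)) (.node (.leaf 0) (.leaf 1918)))) (.node (.node (.node (.leaf 0) (.leaf 0)) (.node (.leaf 0) (.leaf 1685))) (.node (.node (.leaf 0) (.leaf 0)) (.node (.leaf 0) (.leaf 0))))))
def dPos_212 : BT := .node (.node (.node (.node (.node (.node (.node (.leaf 14) (.leaf 2199)) (.leaf 0)) (.node (.leaf 0) (.leaf 1363))) (.node (.node (.leaf 0) (.leaf 1008)) (.node (.leaf 0) (.leaf 0)))) (.node (.node (.node (.leaf 0) (.leaf 0)) (.node (.leaf 0) (.leaf 1494))) (.node (.node (.leaf 0) (.leaf 1240)) (.node (.leaf 0) (.leaf 0))))) (.node (.node (.node (.node (.leaf 0) (.leaf 482)) (.node (.leaf 0) (.leaf 0))) (.node (.node (.leaf 184) (.leaf 0)) (.node (.leaf 0) (.leaf 1861)))) (.node (.node (.node (.leaf 0) (.leaf 0)) (.node (.leaf 0) (.leaf 0))) (.node (.node (.leaf 0) (.leaf 1304)) (.node (.leaf 0) (.leaf 0)))))) (.node (.node (.node (.node (.node (.leaf 0) (.leaf 0)) (.node (.leaf 0) (.leaf 0))) (.node (.node (.leaf 136) (.leaf 1075))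 (.node (.leaf 0) (.leaf 0)))) (.node (.node (.node (.leaf 0) (.leaf 812)) (.node (.leaf 0) (.leaf 1546))) (.node (.node (.leaf 0) (.leaf 1277)) (.node (.leaf 0) (.leaf 2039))))) (.node (.node (.node (.node (.leaf 0) (.leaf 0)) (.node (.leaf 287) (.leaf 0))) (.node (.node (.leaf 0) (.leaf 0)) (.node (.leaf 0) (.leaf 0)))) (.node (.node (.node (.leaf 0) (.leaf 0)) (.node (.leaf 0) (.leaf 0))) (.node (.node (.leaf 0) (.leaf 0)) (.node (.leaf 0) (.leaf 0))))))
def dPos_221 : BT := .node (.node (.node (.node (.node (.node (.node (.leaf 0) (.leaf 2183)) (.leaf 0)) (.node (.leaf 0) (.leaf 1358))) (.node (.node (.leaf 0) (.leaf 0)) (.node (.leaf 0) (.leaf 0)))) (.node (.node (.node (.leaf 0) (.leaf 694)) (.node (.leaf 0) (.leaf 0))) (.node (.node (.leaf 226) (.leaf 0)) (.node (.leaf 0) (.leaf 0))))) (.node (.node (.node (.node (.leaf 0) (.leaf 462)) (.node (.leaf 0) (.leaf 0))) (.node (.node (.leaf 0) (.leaf 1128)) (.node (.leaf 0) (.leaf 0)))) (.node (.node (.node (.leaf 0) (.leaf 874)) (.node (.leaf 0) (.leaf 0))) (.node (.node (.leaf 0) (.leaf 0)) (.node (.leaf 0) (.leaf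 0)))))) (.node (.node (.node (.node (.node (.leaf 0) (.leaf 0)) (.node (.leaf 0) (.leaf 1388))) (.node (.node (.leaf 0) (.leaf 1059)) (.node (.leaf 0) (.leaf 1801)))) (.node (.node (.node (.leaf 0) (.leaf 0)) (.node (.leaf 0) (.leaf 0))) (.node (.node (.leaf 0) (.leaf 0)) (.node (.leaf 0) (.leaf 0))))) (.node (.node (.node (.node (.leaf 0) (.leaf 585)) (.node (.leaf 0) (.leaf 0))) (.node (.node (.leaf 191) (.leaf 0)) (.node (.leaf 0) (.leaf 0)))) (.node (.node (.node (.leaf 0) (.leaf 951)) (.node (.leaf 0) (.leaf 1682))) (.node (.node (.leaf 0) (.leaf 0)) (.node (.leaf 0) (.leaf 2115))))))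
def dPos_228 : BT := .node (.node (.node (.node (.node (.node (.node (.leaf 12) (.leaf 2195)) (.leaf 0)) (.node (.leaf 0) (.leaf 0))) (.node (.node (.leaf 0) (.leaf 0)) (.node (.leaf 0) (.leaf 0)))) (.node (.node (.node (.leaf 0) (.leaf 710)) (.node (.leaf 0) (.leaf 1491))) (.node (.node (.leaf 0) (.leaf 0)) (.node (.leaf 0) (.leaf 1980))))) (.node (.node (.node (.node (.leaf 0) (.leaf 478)) (.node (.leaf 0) (.leaf 0))) (.node (.node (.leaf 180) (.leaf 1138)) (.node (.leaf 0) (.leaf 1857)))) (.node (.node (.node (.leaf 0) (.leaf 884)) (.node (.leaf 0) (.leaf 1617))) (.node (.node (.leaf 0) (.leaf 0)) (.node (.leaf 0) (.leaf 2082)))))) (.node (.node (.node (.node (.node (.leaf 0) (.leaf 0)) (.node (.leaf 0) (.leaf 0))) (.node (.node (.leaf 132) (.leaf 1071)) (.node (.leaf 0) (.leaf 0)))) (.node (.node (.node (.leaf 0) (.leaf 808)) (.node (.leaf 0) (.leaf 0))) (.node (.node (.leaf 0) (.leaf 1274)) (.node (.leaf 0) (.leaf 2037))))) (.node (.node (.node (.node (.leaf 0) (.leaf 600)) (.node (.leaf 283) (.leaf 0))) (.node (.node (.leaf 207) (.leaf 0)) (.node (.leaf 0)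 (.leaf 1928)))) (.node (.node (.node (.leaf 0) (.leaf 0)) (.node (.leaf 0) (.leaf 0))) (.node (.node (.leaf 0) (.leaf 0)) (.node (.leaf 0) (.leaf 2119))))))
def dPos_236 : BT := .node (.node (.node (.node (.node (.node (.node (.leaf 6) (.leaf 2187)) (.leaf 0)) (.node (.leaf 0) (.leaf 0))) (.node (.node (.leaf 0) (.leaf 0)) (.node (.leaf 0) (.leaf 1743)))) (.node (.node (.node (.leaf 0) (.leaf 702)) (.node (.leaf 0) (.leaf 0))) (.node (.node (.leaf 0) (.leaf 0)) (.node (.leaf 0) (.leaf 1974))))) (.node (.node (.node (.node (.leaf 0) (.leaf 470)) (.node (.leaf 0) (.leaf 0))) (.node (.node (.leaf 172) (.leaf 1132)) (.node (.leaf 0) (.leaf 0)))) (.node (.node (.node (.leaf 0) (.leaf 0)) (.node (.leaf 0) (.leaf 0))) (.node (.node (.leaf 0) (.leaf 1300)) (.node (.leaf 0) (.leaf 0)))))) (.node (.node (.node (.node (.node (.leaf 0) (.leaf 0)) (.node (.leaf 0) (.leaf 0))) (.node (.node (.leaf 0) (.leaf 1065)) (.node (.leaf 0) (.leaf 1809)))) (.node (.node (.node (.leaf 0) (.leaf 800)) (.node (.leaf 0) (.leaf 0))) (.node (.node (.leaf 0) (.leaf 0)) (.node (.leaf 0) (.leaf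 2032))))) (.node (.node (.node (.node (.leaf 0) (.leaf 592)) (.node (.leaf 275) (.leaf 0))) (.node (.node (.leaf 199) (.leaf 0)) (.node (.leaf 0) (.leaf 1921)))) (.node (.node (.node (.leaf 0) (.leaf 956)) (.node (.leaf 0) (.leaf 1689))) (.node (.node (.leaf 0) (.leaf 0)) (.node (.leaf 0) (.leaf 2117))))))
def dPos_243 : BT := .node (.node (.node (.node (.node (.node (.node (.leaf 17) (.leaf 2203)) (.leaf 0)) (.node (.leaf 0) (.leaf 1365))) (.node (.node (.leaf 0) (.leaf 0)) (.node (.leaf 0) (.leaf 0)))) (.node (.node (.node (.leaf 0) (.leaf 714)) (.node (.leaf 0) (.leaf 1496))) (.node (.node (.leaf 0) (.leaf 0)) (.node (.leaf 0) (.leaf 0))))) (.node (.node (.node (.node (.leaf 0) (.leaf 486)) (.node (.leaf 0) (.leaf 0))) (.node (.node (.leaf 0) (.leaf 1140)) (.node (.leaf 0) (.leaf 1865)))) (.node (.node (.node (.leaf 0) (.leaf 887)) (.node (.leaf 0) (.leaf 1620))) (.node (.node (.leaf 0) (.leaf 0)) (.node (.leaf 0) (.leaf 2086)))))) (.node (.node (.node (.node (.node (.leaf 0) (.leaf 0)) (.node (.leaf 0) (.leaf 0))) (.node (.node (.leaf 140) (.leaf 0)) (.node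 (.leaf 0) (.leaf 0)))) (.node (.node (.node (.leaf 0) (.leaf 815)) (.node (.leaf 0) (.leaf 1550))) (.node (.node (.leaf 0) (.leaf 0)) (.node (.leaf 0) (.leaf 0))))) (.node (.node (.node (.node (.leaf 0) (.leaf 0)) (.node (.leaf 291) (.leaf 0))) (.node (.node (.leaf 0) (.leaf 0)) (.node (.leaf 0) (.leaf 0)))) (.node (.node (.node (.leaf 0) (.leaf 0)) (.node (.leaf 0) (.leaf 1694))) (.node (.node (.leaf 0) (.leaf 0)) (.node (.leaf 0) (.leaf 2122))))))
def dFin_0 : BT := .node (.node (.node (.node (.node (.node (.node (.leaf 0) (.leaf 138246)) (.leaf 105202)) (.node (.leaf 91976) (.leaf 117816))) (.node (.node (.leaf 47058) (.leaf 92067)) (.node (.leaf 91962) (.leaf 124394)))) (.node (.node (.node (.leaf 11967) (.leaf 72310)) (.node (.leaf 105853) (.leaf 117576))) (.node (.node (.leaf 47099) (.leaf 94846)) (.node (.leaf 61298) (.leaf 131048))))) (.node (.node (.node (.node (.node (.leaf 45200) (.leaf 140566)) (.leaf 69034)) (.node (.leaf 101902) (.leaf 114429))) (.node (.node (.leaf 49461) (.leaf 90627)) (.node (.leaf 58968) (.leaf 131701)))) (.node (.node (.node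 (.leaf 41424) (.leaf 77975)) (.node (.leaf 54906) (.leaf 120656))) (.node (.node (.leaf 49263) (.leaf 109494)) (.node (.leaf 97985) (.leaf 134912)))))) (.node (.node (.node (.node (.node (.node (.leaf 45807) (.leaf 139936)) (.leaf 106281)) (.node (.leaf 102320) (.leaf 113012))) (.node (.node (.leaf 50664) (.leaf 87159)) (.node (.leaf 104353) (.leaf 126033)))) (.node (.node (.node (.leaf 12831) (.leaf 74869)) (.node (.leaf 54200) (.leaf 118826))) (.node (.node (.leaf 48290) (.leaf 114376)) (.node (.leaf 62646) (.leaf 134520))))) (.node (.node (.node (.node (.leaf 39617) (.leaf 94197)) (.node (.leaf 53335) (.leaf 116102))) (.node (.node (.leaf 42457) (.leaf 93172)) (.node (.leaf 60014) (.leaf 129023)))) (.node (.node (.node (.leaf 16985) (.leaf 90342)) (.node (.leaf 125608) (.leaf 122362))) (.node (.node (.leaf 50330) (.leaf 114754)) (.node (.leaf 98489) (.leaf 136551))))))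
def dFin_7 : BT := .node (.node (.node (.node (.node (.node (.node (.leaf 88) (.leaf 138415)) (.leaf 67059)) (.node (.leaf 103840) (.leaf 111925))) (.node (.node (.leaf 19182) (.leaf 85329)) (.node (.leaf 56489) (.leaf 132798)))) (.node (.node (.node (.leaf 41485) (.leaf 89988)) (.node (.leaf 53603) (.leaf 117970))) (.node (.node (.leaf 47241) (.leaf 109132)) (.node (.leaf 106754) (.leaf 131653))))) (.node (.node (.node (.node (.node (.leaf 2470) (.leaf 140677)) (.leaf 68994)) (.node (.leaf 58828) (.leaf 114619))) (.node (.node (.leaf 24125) (.leaf 91126)) (.node (.leaf 60277) (.leaf 127943)))) (.node (.node (.node (.leaf 48381) (.leaf 106328)) (.node (.leaf 81105) (.leaf 120610))) (.node (.node (.leaf 49428) (.leaf 129875)) (.node (.leaf 105482) (.leaf 135113)))))) (.node (.node (.node (.node (.node (.node (.leaf 1487) (.leaf 139471)) (.leaf 84251)) (.node (.leaf 51923) (.leaf 113189))) (.node (.node (.leaf 42075) (.leaf 89456)) (.node (.leaf 57557) (.leaf 126129)))) (.node (.node (.node (.leaf 12856) (.leaf 103271)) (.node (.leaf 60900) (.leaf 119278))) (.node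 (.node (.leaf 49217) (.leaf 112074)) (.node (.leaf 104068) (.leaf 133366))))) (.node (.node (.node (.node (.leaf 10557) (.leaf 70313)) (.node (.leaf 53227) (.leaf 116184))) (.node (.node (.leaf 48506) (.leaf 93250)) (.node (.leaf 59869) (.leaf 129370)))) (.node (.node (.node (.leaf 48392) (.leaf 81889)) (.node (.leaf 112084) (.leaf 122085))) (.node (.node (.leaf 50441) (.leaf 110780)) (.node (.leaf 98679) (.leaf 136653))))))
def dFin_15 : BT := .node (.node (.node (.node (.node (.node (.node (.leaf 130) (.leaf 138361)) (.leaf 66944)) (.node (.leaf 105604) (.leaf 111869))) (.node (.node (.leaf 19268) (.leaf 85172)) (.node (.leaf 104203) (.leaf 124378)))) (.node (.node (.node (.leaf 11998) (.leaf 72524)) (.node (.leaf 53663) (.leaf 129824))) (.node (.node (.leaf 49954) (.leaf 109071)) (.node (.leaf 61064) (.leaf 131140))))) (.node (.node (.node (.node (.node (.leaf 36868) (.leaf 140633)) (.leaf 97570)) (.node (.leaf 52508) (.leaf 114511))) (.node (.node (.leaf 42557) (.leaf 90437)) (.node (.leaf 58860) (.leaf 127696)))) (.node (.node (.node (.leaf 13751) (.leaf 78672))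 (.node (.leaf 99867) (.leaf 120762))) (.node (.node (.leaf 49521) (.leaf 109486)) (.node (.leaf 64731) (.leaf 135045)))))) (.node (.node (.node (.node (.node (.node (.leaf 38866) (.leaf 139391)) (.leaf 68125)) (.node (.leaf 106278) (.leaf 118066))) (.node (.node (.leaf 22519) (.leaf 87473)) (.node (.leaf 57666) (.leaf 126078)))) (.node (.node (.node (.leaf 41363) (.leaf 77563)) (.node (.leaf 54361) (.leaf 136864))) (.node (.node (.leaf 48295) (.leaf 108143)) (.node (.leaf 96198) (.leaf 134134))))) (.node (.node (.node (.node (.leaf 5444) (.leaf 70450)) (.node (.leaf 61324) (.leaf 116270))) (.node (.node (.leaf 25412) (.leaf 93113)) (.node (.leaf 60134) (.leaf 129306)))) (.node (.node (.node (.leaf 50346) (.leaf 92858)) (.node (.leaf 80036) (.leaf 122205))) (.node (.node (.leaf 50375) (.leaf 120707)) (.node (.leaf 109572) (.leaf 136589))))))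
def dFin_22 : BT := .node (.node (.node (.node (.node (.node (.node (.leaf 97) (.leaf 138471)) (.leaf 73722)) (.node (.leaf 51458) (.leaf 111972))) (.node (.node (.leaf 42241) (.leaf 90360)) (.node (.leaf 56381) (.leaf 124254)))) (.node (.node (.node (.leaf 12082) (.leaf 100161)) (.node (.leaf 96471) (.leaf 117950))) (.node (.node (.leaf 47335) (.leaf 138618)) (.node (.leaf 60972) (.leaf 131618))))) (.node (.node (.node (.node (.node (.leaf 5422) (.leaf 140797)) (.leaf 69183)) (.node (.leaf 52760) (.leaf 114761))) (.node (.node (.leaf 46375) (.leaf 91062)) (.node (.leaf 58700) (.leaf 135792)))) (.node (.node (.node (.leaf 38399) (.leaf 78930)) (.node (.leaf 119886) (.leaf 120975))) (.node (.node (.leaf 49478) (.leaf 109722)) (.node (.leaf 64746) (.leaf 135266)))))) (.node (.node (.node (.node (.node (.node (.leaf 1330) (.leaf 139519)) (.leaf 68011)) (.node (.leaf 104511) (.leaf 113224))) (.node (.node (.leaf 23119) (.leaf 87702)) (.node (.leaf 57701) (.leaf 126913)))) (.node (.node (.node (.leaf 50117) (.leaf 122442)) (.node (.leaf 88617) (.leaf 119451))) (.node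 (.node (.leaf 48429) (.leaf 108322)) (.node (.leaf 139098) (.leaf 133354))))) (.node (.node (.node (.node (.leaf 37605) (.leaf 102114)) (.node (.leaf 53131) (.leaf 116528))) (.node (.node (.leaf 44778) (.leaf 93263)) (.node (.leaf 101792) (.leaf 130027)))) (.node (.node (.node (.leaf 17184) (.leaf 81629)) (.node (.leaf 55763) (.leaf 122455))) (.node (.node (.leaf 101915) (.leaf 122875)) (.node (.leaf 66243) (.leaf 136792))))))
def dFin_31 : BT := .node (.node (.node (.node (.node (.node (.node (.leaf 1008) (.leaf 138321)) (.leaf 101066)) (.node (.leaf 116546) (.leaf 111829))) (.node (.node (.leaf 19253) (.leaf 101400)) (.node (.leaf 105603) (.leaf 124319)))) (.node (.node (.node (.leaf 11983) (.leaf 72292)) (.node (.leaf 104825) (.leaf 122804))) (.node (.node (.leaf 47133) (.leaf 94831)) (.node (.leaf 61113) (.leaf 131071))))) (.node (.node (.node (.node (.node (.leaf 48776) (.leaf 140559)) (.leaf 69017)) (.node (.leaf 52569) (.leaf 120298))) (.node (.node (.leaf 102185) (.leaf 90864)) (.node (.leaf 58915) (.leaf 127751)))) (.node (.node (.node (.leaf 40763) (.leaf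 107581)) (.node (.leaf 115380) (.leaf 120852))) (.node (.node (.leaf 49283) (.leaf 109377)) (.node (.leaf 79980) (.leaf 135094)))))) (.node (.node (.node (.node (.node (.node (.leaf 39145) (.leaf 139416)) (.leaf 68170)) (.node (.leaf 124135) (.leaf 112924))) (.node (.node (.leaf 46591) (.leaf 87565)) (.node (.leaf 92050) (.leaf 125989)))) (.node (.node (.node (.leaf 12798) (.leaf 96360)) (.node (.leaf 54153) (.leaf 133423))) (.node (.node (.leaf 48257) (.leaf 114412)) (.node (.leaf 62615) (.leaf 134529))))) (.node (.node (.node (.node (.leaf 39760) (.leaf 70181)) (.node (.leaf 53286) (.leaf 116287))) (.node (.node (.leaf 25387) (.leaf 93079)) (.node (.leaf 60253) (.leaf 129005)))) (.node (.node (.node (.leaf 47244) (.leaf 106120)) (.node (.leaf 55309) (.leaf 122336))) (.node (.node (.leaf 109251) (.leaf 110947)) (.node (.leaf 97993) (.leaf 136617))))))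
def dFin_38 : BT := .node (.node (.node (.node (.node (.node (.node (.leaf 8648) (.leaf 138443)) (.leaf 67038)) (.node (.leaf 51519) (.leaf 112003))) (.node (.node (.leaf 45067) (.leaf 91265)) (.node (.leaf 56432) (.leaf 124300)))) (.node (.node (.node (.leaf 40793) (.leaf 72565)) (.node (.leaf 53780) (.leaf 117936))) (.node (.node (.leaf 47294) (.leaf 95433)) (.node (.leaf 73098) (.leaf 131597))))) (.node (.node (.node (.node (.node (.leaf 2437) (.leaf 140749)) (.leaf 68955)) (.node (.leaf 58622) (.leaf 114711))) (.node (.node (.leaf 46770) (.leaf 91107)) (.node (.leaf 58762) (.leaf 127965)))) (.node (.node (.node (.leaf 13787) (.leaf 103450)) (.node (.leaf 117837) (.leaf 120941))) (.node (.node (.leaf 63153) (.leaf 109623)) (.node (.leaf 100317) (.leaf 135316)))))) (.node (.node (.node (.node (.node (.node (.leaf 34883) (.leaf 139569)) (.leaf 102878)) (.node (.leaf 51892) (.leaf 113158))) (.node (.node (.leaf 23104) (.leaf 87723)) (.node (.leaf 103852) (.leaf 126274)))) (.node (.node (.node (.leaf 44678) (.leaf 122295)) (.node (.leaf 97521) (.leaf 119258))) (.node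 (.node (.leaf 101122) (.leaf 110168)) (.node (.leaf 73236) (.leaf 133405))))) (.node (.node (.node (.node (.leaf 10550) (.leaf 98691)) (.node (.leaf 53178) (.leaf 119837))) (.node (.node (.leaf 41314) (.leaf 93236)) (.node (.leaf 59820) (.leaf 130062)))) (.node (.node (.node (.leaf 17187) (.leaf 81821)) (.node (.leaf 98966) (.leaf 122274))) (.node (.node (.leaf 50483) (.leaf 110718)) (.node (.leaf 66266) (.leaf 137196))))))
def dFin_46 : BT := .node (.node (.node (.node (.node (.node (.node (.leaf 8564) (.leaf 138502)) (.leaf 67078)) (.node (.leaf 101019) (.leaf 111949))) (.node (.node (.leaf 19313) (.leaf 84937)) (.node (.leaf 103552) (.leaf 124486)))) (.node (.node (.node (.leaf 12092) (.leaf 74496)) (.node (.leaf 53632) (.leaf 118163))) (.node (.node (.leaf 47211) (.leaf 95429)) (.node (.leaf 61013) (.leaf 131682))))) (.node (.node (.node (.node (.node (.leaf 34113) (.leaf 140690)) (.leaf 97745)) (.node (.leaf 52449) (.leaf 114655))) (.node (.node (.leaf 24132) (.leaf 90947)) (.node (.leaf 59089) (.leaf 127577)))) (.node (.node (.node (.leaf 46480) (.leaf 106352))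 (.node (.leaf 54872) (.leaf 120755))) (.node (.node (.leaf 91827) (.leaf 134345)) (.node (.leaf 65062) (.leaf 134967)))))) (.node (.node (.node (.node (.node (.node (.leaf 48058) (.leaf 139445)) (.leaf 68070)) (.node (.leaf 51952) (.leaf 113087))) (.node (.node (.leaf 42649) (.leaf 87837)) (.node (.leaf 57613) (.leaf 126068)))) (.node (.node (.node (.leaf 40679) (.leaf 103307)) (.node (.leaf 114558) (.leaf 119296))) (.node (.node (.leaf 48323) (.leaf 113622)) (.node (.leaf 62591) (.leaf 132965))))) (.node (.node (.node (.node (.leaf 6408) (.leaf 70391)) (.node (.leaf 63445) (.leaf 116327))) (.node (.node (.leaf 46372) (.leaf 93143)) (.node (.leaf 59919) (.leaf 129179)))) (.node (.node (.node (.leaf 17137) (.leaf 97765)) (.node (.leaf 106980) (.leaf 122144))) (.node (.node (.leaf 50411) (.leaf 110841)) (.node (.leaf 137656) (.leaf 136704))))))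
def dFin_53 : BT := .node (.node (.node (.node (.node (.node (.node (.leaf 34477) (.leaf 140528)) (.leaf 97177)) (.node (.leaf 51399) (.leaf 112023))) (.node (.node (.leaf 19227) (.leaf 85478)) (.node (.leaf 56605) (.leaf 124549)))) (.node (.node (.node (.leaf 46655) (.leaf 106766)) (.node (.leaf 53783) (.leaf 117754))) (.node (.node (.leaf 50689) (.leaf 140482)) (.node (.leaf 119759) (.leaf 131559))))) (.node (.node (.node (.node (.node (.leaf 45786) (.leaf 140824)) (.leaf 103215)) (.node (.leaf 52737) (.leaf 114885))) (.node (.node (.leaf 41278) (.leaf 105974)) (.node (.leaf 58641) (.leaf 128103)))) (.node (.node (.node (.leaf 14032) (.leaf 78801)) (.node (.leaf 55029) (.leaf 121143))) (.node (.node (.leaf 49458) (.leaf 109758)) (.node (.leaf 64953) (.leaf 135413)))))) (.node (.node (.node (.node (.node (.node (.leaf 1420) (.leaf 140045)) (.leaf 67962)) (.node (.leaf 56932) (.leaf 113273))) (.node (.node (.leaf 45843) (.leaf 87687)) (.node (.leaf 57456) (.leaf 128937)))) (.node (.node (.node (.leaf 12928) (.leaf 98805)) (.node (.leaf 132709) (.leaf 119413)))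 (.node (.node (.leaf 48478) (.leaf 108268)) (.node (.leaf 111654) (.leaf 133332))))) (.node (.node (.node (.node (.leaf 36567) (.leaf 103185)) (.node (.leaf 103560) (.leaf 123980))) (.node (.node (.leaf 25855) (.leaf 93271)) (.node (.leaf 101818) (.leaf 129983)))) (.node (.node (.node (.leaf 119834) (.leaf 82442)) (.node (.leaf 55734) (.leaf 121891))) (.node (.node (.leaf 50563) (.leaf 122839)) (.node (.leaf 66222) (.leaf 136969))))))
def dFin_63 : BT := .node (.node (.node (.node (.node (.node (.node (.leaf 1206) (.leaf 138296)) (.leaf 66835)) (.node (.leaf 57730) (.leaf 111809))) (.node (.node (.leaf 18882) (.leaf 85031)) (.node (.leaf 57830) (.leaf 135519)))) (.node (.node (.node (.leaf 101073) (.leaf 116844)) (.node (.leaf 73042) (.leaf 117705))) (.node (.node (.leaf 47125) (.leaf 103088)) (.node (.leaf 139154) (.leaf 131028))))) (.node (.node (.node (.node (.node (.leaf 37232) (.leaf 140539)) (.leaf 97327)) (.node (.leaf 52280) (.leaf 114441))) (.node (.node (.leaf 40533) (.leaf 90379)) (.node (.leaf 98484) (.leaf 128087)))) (.node (.node (.node (.leaf 14385)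 (.leaf 77983)) (.node (.leaf 55015) (.leaf 137354))) (.node (.node (.leaf 101241) (.leaf 109508)) (.node (.leaf 64599) (.leaf 134847)))))) (.node (.node (.node (.node (.node (.node (.leaf 45766) (.leaf 139363)) (.leaf 67943)) (.node (.leaf 51875) (.leaf 122935))) (.node (.node (.leaf 46573) (.leaf 101188)) (.node (.leaf 57429) (.leaf 125966)))) (.node (.node (.node (.leaf 72514) (.leaf 74963)) (.node (.leaf 101592) (.leaf 118710))) (.node (.node (.leaf 48266) (.leaf 108101)) (.node (.leaf 101236) (.leaf 133074))))) (.node (.node (.node (.node (.leaf 5416) (.leaf 70191)) (.node (.leaf 74466) (.leaf 116366))) (.node (.node (.leaf 48301) (.leaf 93065)) (.node (.leaf 98216) (.leaf 129049)))) (.node (.node (.node (.leaf 42768) (.leaf 81378)) (.node (.leaf 55478) (.leaf 121986))) (.node (.node (.leaf 50319) (.leaf 110679)) (.node (.leaf 71055) (.leaf 136563))))))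
def dFin_70 : BT := .node (.node (.node (.node (.node (.node (.node (.leaf 38441) (.leaf 138431)) (.leaf 91218)) (.node (.leaf 51230) (.leaf 112052))) (.node (.node (.leaf 40952) (.leaf 85400)) (.node (.leaf 104132) (.leaf 124434)))) (.node (.node (.node (.leaf 38050) (.leaf 72903)) (.node (.leaf 54112) (.leaf 124818))) (.node (.node (.leaf 110902) (.leaf 107099)) (.node (.leaf 61199) (.leaf 131412))))) (.node (.node (.node (.node (.node (.leaf 36669) (.leaf 140703)) (.leaf 128685)) (.node (.leaf 52257) (.leaf 114557))) (.node (.node (.leaf 24144) (.leaf 91058)) (.node (.leaf 99194) (.leaf 127844)))) (.node (.node (.node (.leaf 13798) (.leaf 78189)) (.node (.leaf 100154) (.leaf 120916))) (.node (.node (.leaf 49384) (.leaf 109609)) (.node (.leaf 64866) (.leaf 135874)))))) (.node (.node (.node (.node (.node (.node (.leaf 490) (.leaf 139487)) (.leaf 102874)) (.node (.leaf 104742) (.leaf 114405))) (.node (.node (.leaf 23093) (.leaf 109774)) (.node (.leaf 103848) (.leaf 126919)))) (.node (.node (.node (.leaf 42314) (.leaf 103245)) (.node (.leaf 54438) (.leaf 119132)))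 (.node (.node (.leaf 48371) (.leaf 108197)) (.node (.leaf 63423) (.leaf 133182))))) (.node (.node (.node (.node (.leaf 8797) (.leaf 70625)) (.node (.leaf 126922) (.leaf 116196))) (.node (.node (.leaf 25425) (.leaf 93244)) (.node (.leaf 107787) (.leaf 131116)))) (.node (.node (.node (.leaf 44716) (.leaf 105283)) (.node (.leaf 55329) (.leaf 121855))) (.node (.node (.leaf 50463) (.leaf 122485)) (.node (.leaf 65975) (.leaf 136814))))))
def dFin_78 : BT := .node (.node (.node (.node (.node (.node (.node (.leaf 1703) (.leaf 138486)) (.leaf 66991)) (.node (.leaf 51350) (.leaf 111911))) (.node (.node (.leaf 45297) (.leaf 106110)) (.node (.leaf 56243) (.leaf 124496)))) (.node (.node (.node (.leaf 59696) (.leaf 73016)) (.node (.leaf 105361) (.leaf 117637))) (.node (.node (.leaf 47451) (.leaf 95896)) (.node (.leaf 100592) (.leaf 131115))))) (.node (.node (.node (.node (.node (.leaf 2133) (.leaf 140653)) (.leaf 97811)) (.node (.leaf 52632) (.leaf 116790))) (.node (.node (.leaf 24121) (.leaf 134197)) (.node (.leaf 98943) (.leaf 127913)))) (.node (.node (.node (.leaf 42706)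 (.leaf 78667)) (.node (.leaf 54967) (.leaf 120646))) (.node (.node (.leaf 49327) (.leaf 109471)) (.node (.leaf 65093) (.leaf 135016)))))) (.node (.node (.node (.node (.node (.node (.leaf 38935) (.leaf 139432)) (.leaf 103659)) (.node (.leaf 51815) (.leaf 113065))) (.node (.node (.leaf 41146) (.leaf 114651)) (.node (.leaf 106742) (.leaf 138926)))) (.node (.node (.node (.leaf 13524) (.leaf 75296)) (.node (.leaf 54498) (.leaf 125375))) (.node (.node (.leaf 119721) (.leaf 120295)) (.node (.leaf 62700) (.leaf 133000))))) (.node (.node (.node (.node (.leaf 45788) (.leaf 93424)) (.node (.leaf 94110) (.leaf 116314))) (.node (.node (.leaf 46379) (.leaf 122870)) (.node (.leaf 106058) (.leaf 129311)))) (.node (.node (.node (.leaf 17129) (.leaf 81569)) (.node (.leaf 101872) (.leaf 121852))) (.node (.node (.leaf 50389) (.leaf 110552)) (.node (.leaf 66023) (.leaf 136696))))))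
def dFin_85 : BT := .node (.node (.node (.node (.node (.node (.node (.leaf 591) (.leaf 138491)) (.leaf 96263)) (.node (.leaf 100519) (.leaf 112019))) (.node (.node (.leaf 19221) (.leaf 106103)) (.node (.leaf 56111) (.leaf 124513)))) (.node (.node (.node (.leaf 42368) (.leaf 73147)) (.node (.leaf 54016) (.leaf 117873))) (.node (.node (.leaf 47371) (.leaf 95866)) (.node (.leaf 102390) (.leaf 131312))))) (.node (.node (.node (.node (.node (.leaf 45780) (.leaf 140843)) (.leaf 69321)) (.node (.leaf 133765) (.leaf 114769))) (.node (.node (.leaf 24635) (.leaf 91184)) (.node (.leaf 106456) (.leaf 129841)))) (.node (.node (.node (.leaf 36956) (.leaf 104965)) (.node (.leaf 55132) (.leaf 121123))) (.node (.node (.leaf 49450) (.leaf 109746)) (.node (.leaf 64797) (.leaf 135378)))))) (.node (.node (.node (.node (.node (.node (.leaf 6445) (.leaf 139535)) (.leaf 106810)) (.node (.leaf 104378) (.leaf 113294))) (.node (.node (.leaf 24134) (.leaf 87667)) (.node (.leaf 135803) (.leaf 126502)))) (.node (.node (.node (.leaf 12905) (.leaf 75664)) (.node (.leaf 82737) (.leaf 119409)))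 (.node (.node (.leaf 48441) (.leaf 108345)) (.node (.leaf 63129) (.leaf 136112))))) (.node (.node (.node (.node (.leaf 36526) (.leaf 70506)) (.node (.leaf 53358) (.leaf 116518))) (.node (.node (.leaf 42580) (.leaf 93318)) (.node (.leaf 60026) (.leaf 129960)))) (.node (.node (.node (.leaf 41035) (.leaf 82447)) (.node (.leaf 98191) (.leaf 121877))) (.node (.node (.leaf 50543) (.leaf 134784)) (.node (.leaf 82710) (.leaf 136942))))))
def dFin_94 : BT := .node (.node (.node (.node (.node (.node (.node (.leaf 1016) (.leaf 138373)) (.leaf 67010)) (.node (.leaf 56544) (.leaf 111853))) (.node (.node (.leaf 45510) (.leaf 84958)) (.node (.leaf 56305) (.leaf 124408)))) (.node (.node (.node (.leaf 44561) (.leaf 72504)) (.node (.leaf 128223) (.leaf 117664))) (.node (.node (.leaf 47171) (.leaf 94905)) (.node (.leaf 128903) (.leaf 131080))))) (.node (.node (.node (.node (.node (.leaf 37243) (.leaf 140635)) (.leaf 97560)) (.node (.leaf 101239) (.leaf 129621))) (.node (.node (.leaf 24102) (.leaf 90431)) (.node (.leaf 138115) (.leaf 127896)))) (.node (.node (.node (.leaf 96688) (.leaf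 77917)) (.node (.leaf 54990) (.leaf 120655))) (.node (.node (.leaf 49301) (.leaf 109482)) (.node (.leaf 64531) (.leaf 135078)))))) (.node (.node (.node (.node (.node (.node (.leaf 39149) (.leaf 139381)) (.leaf 105158)) (.node (.leaf 51844) (.leaf 113017))) (.node (.node (.leaf 41973) (.leaf 125566)) (.node (.leaf 57368) (.leaf 126085)))) (.node (.node (.node (.leaf 47187) (.leaf 75339)) (.node (.leaf 54289) (.leaf 118531))) (.node (.node (.leaf 48639) (.leaf 108129)) (.node (.leaf 62765) (.leaf 133077))))) (.node (.node (.node (.node (.leaf 46280) (.leaf 111905)) (.node (.leaf 53053) (.leaf 116340))) (.node (.node (.leaf 111884) (.leaf 93099)) (.node (.leaf 77699) (.leaf 128965)))) (.node (.node (.node (.leaf 17111) (.leaf 81265)) (.node (.leaf 102088) (.leaf 121924))) (.node (.node (.leaf 50357) (.leaf 110618)) (.node (.leaf 72149) (.leaf 137782))))))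
def dFin_101 : BT := .node (.node (.node (.node (.node (.node (.node (.leaf 37292) (.leaf 141032)) (.leaf 66951)) (.node (.leaf 104158) (.leaf 111986))) (.node (.node (.leaf 19199) (.leaf 85576)) (.node (.leaf 73122) (.leaf 124413)))) (.node (.node (.node (.leaf 48144) (.leaf 74459)) (.node (.leaf 54065) (.leaf 117886))) (.node (.node (.leaf 47275) (.leaf 109020)) (.node (.leaf 61148) (.leaf 131363))))) (.node (.node (.node (.node (.node (.leaf 46089) (.leaf 140771)) (.leaf 97796)) (.node (.leaf 99282) (.leaf 114725))) (.node (.node (.leaf 45411) (.leaf 91201)) (.node (.leaf 106458) (.leaf 127791)))) (.node (.node (.node (.leaf 44598) (.leaf 78838)) (.node (.leaf 54889) (.leaf 120959))) (.node (.node (.leaf 49529) (.leaf 109710)) (.node (.leaf 64828) (.leaf 135247)))))) (.node (.node (.node (.node (.node (.node (.leaf 46182) (.leaf 139550)) (.leaf 140747)) (.node (.leaf 51786) (.leaf 113197))) (.node (.node (.leaf 46658) (.leaf 116612)) (.node (.leaf 100814) (.leaf 126563)))) (.node (.node (.node (.leaf 12885) (.leaf 75117)) (.node (.leaf 97777) (.leaf 119109)))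 (.node (.node (.leaf 48401) (.leaf 108374)) (.node (.leaf 63393) (.leaf 133402))))) (.node (.node (.node (.node (.leaf 34492) (.leaf 70566)) (.node (.leaf 103542) (.leaf 116168))) (.node (.node (.leaf 49042) (.leaf 93215)) (.node (.leaf 60066) (.leaf 130078)))) (.node (.node (.node (.leaf 41751) (.leaf 81627)) (.node (.leaf 55674) (.leaf 122522))) (.node (.node (.leaf 50507) (.leaf 120252)) (.node (.leaf 114662) (.leaf 136835))))))
def dFin_109 : BT := .node (.node (.node (.node (.node (.node (.node (.leaf 8593) (.leaf 138405)) (.leaf 66948)) (.node (.leaf 51291) (.leaf 111887))) (.node (.node (.leaf 38879) (.leaf 106713)) (.node (.leaf 56182) (.leaf 124477)))) (.node (.node (.node (.leaf 46988) (.leaf 72960)) (.node (.leaf 53591) (.leaf 122847))) (.node (.node (.leaf 47221) (.leaf 95885)) (.node (.leaf 61244) (.leaf 131702))))) (.node (.node (.node (.node (.node (.leaf 46154) (.leaf 140719)) (.leaf 106965)) (.node (.leaf 52249) (.leaf 114701))) (.node (.node (.leaf 46495) (.leaf 105671)) (.node (.leaf 99048) (.leaf 127631)))) (.node (.node (.node (.leaf 13765)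 (.leaf 78284)) (.node (.leaf 99994) (.leaf 120639))) (.node (.node (.leaf 49355) (.leaf 109452)) (.node (.leaf 65075) (.leaf 135130)))))) (.node (.node (.node (.node (.node (.node (.leaf 37526) (.leaf 141001)) (.leaf 67881)) (.node (.leaf 106309) (.leaf 113195))) (.node (.node (.leaf 22615) (.leaf 87826)) (.node (.leaf 103961) (.leaf 126125)))) (.node (.node (.node (.leaf 42722) (.leaf 75386)) (.node (.leaf 54469) (.leaf 119157))) (.node (.node (.leaf 48341) (.leaf 108222)) (.node (.leaf 62593) (.leaf 132969))))) (.node (.node (.node (.node (.leaf 6531) (.leaf 95203)) (.node (.leaf 138885) (.leaf 116257))) (.node (.node (.leaf 111777) (.leaf 93165)) (.node (.leaf 121213) (.leaf 129188)))) (.node (.node (.node (.leaf 46708) (.leaf 81683)) (.node (.leaf 55427) (.leaf 132344))) (.node (.node (.leaf 50434) (.leaf 111007)) (.node (.leaf 65998) (.leaf 136639))))))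
def dFin_116 : BT := .node (.node (.node (.node (.node (.node (.node (.leaf 133) (.leaf 138525)) (.leaf 136257)) (.node (.leaf 103776) (.leaf 117496))) (.node (.node (.leaf 19241) (.leaf 106256)) (.node (.leaf 68204) (.leaf 124608)))) (.node (.node (.node (.leaf 12107) (.leaf 72769)) (.node (.leaf 79799) (.leaf 117858))) (.node (.node (.leaf 47341) (.leaf 95844)) (.node (.leaf 60987) (.leaf 131543))))) (.node (.node (.node (.node (.node (.leaf 2524) (.leaf 140845)) (.leaf 69292)) (.node (.leaf 99004) (.leaf 115326))) (.node (.node (.leaf 24159) (.leaf 91169)) (.node (.leaf 58947) (.leaf 128007)))) (.node (.node (.node (.leaf 37007) (.leaf 83834)) (.node (.leaf 55101) (.leaf 121624))) (.node (.node (.leaf 49443) (.leaf 115910)) (.node (.leaf 98597) (.leaf 137474)))))) (.node (.node (.node (.node (.node (.node (.leaf 299) (.leaf 140068)) (.leaf 118070)) (.node (.leaf 51998) (.leaf 113256))) (.node (.node (.leaf 24761) (.leaf 87907)) (.node (.leaf 101288) (.leaf 126443)))) (.node (.node (.node (.leaf 12956) (.leaf 75629)) (.node (.leaf 54405) (.leaf 122732))) (.node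 (.node (.leaf 48469) (.leaf 108488)) (.node (.leaf 63078) (.leaf 133276))))) (.node (.node (.node (.node (.leaf 42629) (.leaf 71599)) (.node (.leaf 53311) (.leaf 116489))) (.node (.node (.leaf 42441) (.leaf 93291)) (.node (.leaf 59989) (.leaf 129947)))) (.node (.node (.node (.leaf 17197) (.leaf 88216)) (.node (.leaf 96327) (.leaf 136122))) (.node (.node (.leaf 50595) (.leaf 122992)) (.node (.leaf 98586) (.leaf 136895))))))
def dFin_127 : BT := .node (.node (.node (.node (.node (.node (.node (.leaf 8) (.leaf 138258)) (.leaf 66831)) (.node (.leaf 106859) (.leaf 111800))) (.node (.node (.leaf 47670) (.leaf 85124)) (.node (.leaf 56498) (.leaf 137800)))) (.node (.node (.node (.leaf 41577) (.leaf 96341)) (.node (.leaf 53611) (.leaf 130354))) (.node (.node (.leaf 47107) (.leaf 103331)) (.node (.leaf 60946) (.leaf 131054))))) (.node (.node (.node (.node (.node (.leaf 2248) (.leaf 140521)) (.leaf 69002)) (.node (.leaf 59980) (.leaf 114437))) (.node (.node (.leaf 24081) (.leaf 90528)) (.node (.leaf 60249) (.leaf 133398)))) (.node (.node (.node (.leaf 46552) (.leaf 101932))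 (.node (.leaf 99653) (.leaf 120667))) (.node (.node (.leaf 49778) (.leaf 109527)) (.node (.leaf 124315) (.leaf 134833)))))) (.node (.node (.node (.node (.node (.node (.leaf 39130) (.leaf 139355)) (.leaf 99773)) (.node (.leaf 51931) (.leaf 113008))) (.node (.node (.leaf 42081) (.leaf 88732)) (.node (.leaf 57574) (.leaf 126041)))) (.node (.node (.node (.leaf 12779) (.leaf 105780)) (.node (.leaf 79944) (.leaf 118882))) (.node (.node (.leaf 48852) (.leaf 108114)) (.node (.leaf 62569) (.leaf 133092))))) (.node (.node (.node (.node (.leaf 39643) (.leaf 69999)) (.node (.leaf 53243) (.leaf 116362))) (.node (.node (.leaf 50714) (.leaf 93069)) (.node (.leaf 59885) (.leaf 137876)))) (.node (.node (.node (.leaf 17100) (.leaf 81354)) (.node (.leaf 106461) (.leaf 122102))) (.node (.node (.leaf 50340) (.leaf 110795)) (.node (.leaf 115885) (.leaf 137400))))))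
def dFin_134 : BT := .node (.node (.node (.node (.node (.node (.node (.leaf 1209) (.leaf 138622)) (.leaf 67023)) (.node (.leaf 57714) (.leaf 111933))) (.node (.node (.leaf 19187) (.leaf 85335)) (.node (.leaf 104157) (.leaf 132802)))) (.node (.node (.node (.leaf 12023) (.leaf 118366)) (.node (.leaf 99208) (.leaf 117915))) (.node (.node (.leaf 47256) (.leaf 107075)) (.node (.leaf 138660) (.leaf 131670))))) (.node (.node (.node (.node (.node (.leaf 37598) (.leaf 140736)) (.leaf 80014)) (.node (.leaf 52272) (.leaf 123214))) (.node (.node (.leaf 40540) (.leaf 109296)) (.node (.leaf 101971) (.leaf 127934)))) (.node (.node (.node (.leaf 13783) (.leaf 78175)) (.node (.leaf 55007) (.leaf 120623))) (.node (.node (.leaf 107648) (.leaf 115692)) (.node (.leaf 64939) (.leaf 135125)))))) (.node (.node (.node (.node (.node (.node (.leaf 1499) (.leaf 139509)) (.leaf 67923)) (.node (.leaf 51867) (.leaf 113162))) (.node (.node (.leaf 46585) (.leaf 96591)) (.node (.leaf 57410) (.leaf 128394)))) (.node (.node (.node (.leaf 56024) (.leaf 75255)) (.node (.leaf 130951) (.leaf 119288)))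 (.node (.node (.leaf 48363) (.leaf 108187)) (.node (.leaf 104070) (.leaf 133421))))) (.node (.node (.node (.node (.leaf 6543) (.leaf 99085)) (.node (.leaf 100341) (.leaf 124722))) (.node (.node (.leaf 48715) (.leaf 93189)) (.node (.leaf 59757) (.leaf 129338)))) (.node (.node (.node (.leaf 42755) (.leaf 97577)) (.node (.leaf 55325) (.leaf 121969))) (.node (.node (.leaf 50455) (.leaf 110664)) (.node (.leaf 70866) (.leaf 136668))))))
def dFin_142 : BT := .node (.node (.node (.node (.node (.node (.node (.leaf 34619) (.leaf 138379)) (.leaf 102452)) (.node (.leaf 51466) (.leaf 111877))) (.node (.node (.leaf 42227) (.leaf 102775)) (.node (.leaf 56393) (.leaf 124293)))) (.node (.node (.node (.leaf 11997) (.leaf 73206)) (.node (.leaf 104325) (.leaf 128002))) (.node (.node (.leaf 47216) (.leaf 105625)) (.node (.leaf 103859) (.leaf 131104))))) (.node (.node (.node (.node (.node (.leaf 34115) (.leaf 140673)) (.leaf 68966)) (.node (.leaf 52392) (.leaf 114638))) (.node (.node (.leaf 48759) (.leaf 105510)) (.node (.leaf 58715) (.leaf 136170)))) (.node (.node (.node (.leaf 99856)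 (.leaf 78479)) (.node (.leaf 118316) (.leaf 120779))) (.node (.node (.leaf 49319) (.leaf 109454)) (.node (.leaf 96177) (.leaf 135038)))))) (.node (.node (.node (.node (.node (.node (.leaf 1368) (.leaf 140129)) (.leaf 68027)) (.node (.leaf 58463) (.leaf 113051))) (.node (.node (.leaf 22531) (.leaf 87485)) (.node (.leaf 57749) (.leaf 126074)))) (.node (.node (.node (.leaf 12803) (.leaf 99069)) (.node (.leaf 62862) (.leaf 119328))) (.node (.node (.leaf 48678) (.leaf 110952)) (.node (.leaf 106439) (.leaf 133044))))) (.node (.node (.node (.node (.leaf 38039) (.leaf 70762)) (.node (.leaf 53147) (.leaf 116307))) (.node (.node (.leaf 40649) (.leaf 93125)) (.node (.leaf 98903) (.leaf 129333)))) (.node (.node (.node (.leaf 46017) (.leaf 81555)) (.node (.leaf 55566) (.leaf 122319))) (.node (.node (.leaf 130099) (.leaf 115444)) (.node (.leaf 66067) (.leaf 136593))))))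
def dFin_149 : BT := .node (.node (.node (.node (.node (.node (.node (.leaf 8713) (.leaf 138485)) (.leaf 66983)) (.node (.leaf 51342) (.leaf 134105))) (.node (.node (.leaf 45369) (.leaf 101518)) (.node (.leaf 56231) (.leaf 124514)))) (.node (.node (.node (.leaf 52103) (.leaf 72992)) (.node (.leaf 137750) (.leaf 117941))) (.node (.node (.leaf 47323) (.leaf 95862)) (.node (.leaf 102388) (.leaf 131609))))) (.node (.node (.node (.node (.node (.leaf 2381) (.leaf 140799)) (.leaf 105261)) (.node (.leaf 98402) (.leaf 114763))) (.node (.node (.leaf 25354) (.leaf 106090)) (.node (.leaf 58594) (.leaf 137230)))) (.node (.node (.node (.leaf 42409) (.leaf 100404)) (.node (.leaf 55192) (.leaf 120983))) (.node (.node (.leaf 49454) (.leaf 109730)) (.node (.leaf 64986) (.leaf 135194)))))) (.node (.node (.node (.node (.node (.node (.leaf 38801) (.leaf 139574)) (.leaf 102347)) (.node (.leaf 51804) (.leaf 113309))) (.node (.node (.leaf 41161) (.leaf 118184)) (.node (.leaf 57280) (.leaf 126872)))) (.node (.node (.node (.leaf 47192) (.leaf 75709)) (.node (.leaf 54490) (.leaf 124495)))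 (.node (.node (.leaf 48435) (.leaf 108330)) (.node (.leaf 63271) (.leaf 133234))))) (.node (.node (.node (.node (.leaf 36552) (.leaf 129327)) (.node (.leaf 104147) (.leaf 116496))) (.node (.node (.leaf 25846) (.leaf 122682)) (.node (.leaf 105411) (.leaf 130039)))) (.node (.node (.node (.leaf 17181) (.leaf 81641)) (.node (.leaf 64666) (.leaf 132439))) (.node (.node (.leaf 50531) (.leaf 110535)) (.node (.leaf 66196) (.leaf 136936))))))
def dFin_158 : BT := .node (.node (.node (.node (.node (.node (.node (.leaf 94) (.leaf 138333)) (.leaf 67046)) (.node (.leaf 51527) (.leaf 111839))) (.node (.node (.leaf 128946) (.leaf 102772)) (.node (.leaf 56447) (.leaf 124327)))) (.node (.node (.node (.leaf 40871) (.leaf 72552)) (.node (.leaf 104558) (.leaf 124001))) (.node (.node (.leaf 47145) (.leaf 108219)) (.node (.leaf 100345) (.leaf 131101))))) (.node (.node (.node (.node (.node (.leaf 2183) (.leaf 140600)) (.leaf 68985)) (.node (.leaf 58833) (.leaf 124638))) (.node (.node (.leaf 48402) (.leaf 90485)) (.node (.leaf 58774) (.leaf 127906)))) (.node (.node (.node (.leaf 13745)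 (.leaf 77905)) (.node (.leaf 99600) (.leaf 120835))) (.node (.node (.leaf 97208) (.leaf 109565)) (.node (.leaf 102371) (.leaf 135064)))))) (.node (.node (.node (.node (.node (.node (.leaf 38871) (.leaf 140292)) (.leaf 103912)) (.node (.leaf 51900) (.leaf 112942))) (.node (.node (.leaf 22538) (.leaf 87528)) (.node (.leaf 57812) (.leaf 126008)))) (.node (.node (.node (.leaf 13557) (.leaf 136693)) (.node (.leaf 98017) (.leaf 118708))) (.node (.node (.leaf 93479) (.leaf 121684)) (.node (.leaf 98603) (.leaf 133058))))) (.node (.node (.node (.node (.leaf 37490) (.leaf 70768)) (.node (.leaf 53194) (.leaf 116332))) (.node (.node (.leaf 41317) (.leaf 122757)) (.node (.leaf 59835) (.leaf 128976)))) (.node (.node (.node (.leaf 45805) (.leaf 81327)) (.node (.leaf 55310) (.leaf 122344))) (.node (.node (.leaf 50351) (.leaf 110734)) (.node (.leaf 66090) (.leaf 137099))))))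
def dFin_165 : BT := .node (.node (.node (.node (.node (.node (.node (.leaf 1156) (.leaf 138555)) (.leaf 67002)) (.node (.leaf 56536) (.leaf 134968))) (.node (.node (.leaf 45052) (.leaf 85446)) (.node (.leaf 56290) (.leaf 124427)))) (.node (.node (.node (.leaf 46867) (.leaf 92042)) (.node (.leaf 128782) (.leaf 117953))) (.node (.node (.leaf 97563) (.leaf 95913)) (.node (.leaf 101396) (.leaf 131639))))) (.node (.node (.node (.node (.node (.leaf 36426) (.leaf 140785)) (.leaf 97683)) (.node (.leaf 102123) (.leaf 115153))) (.node (.node (.leaf 24143) (.leaf 91237)) (.node (.leaf 110008) (.leaf 127946)))) (.node (.node (.node (.leaf 116888) (.leaf 103577)) (.node (.leaf 54885) (.leaf 120949))) (.node (.node (.leaf 49401) (.leaf 119908)) (.node (.leaf 64905) (.leaf 135220)))))) (.node (.node (.node (.node (.node (.node (.leaf 8795) (.leaf 139529)) (.leaf 105368)) (.node (.leaf 51836) (.leaf 113198))) (.node (.node (.leaf 42002) (.leaf 96309)) (.node (.leaf 57348) (.leaf 126886)))) (.node (.node (.node (.leaf 12883) (.leaf 75105)) (.node (.leaf 97710) (.leaf 132277)))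 (.node (.node (.leaf 48391) (.leaf 108362)) (.node (.leaf 63320) (.leaf 133411))))) (.node (.node (.node (.node (.leaf 45849) (.leaf 106063)) (.node (.leaf 53069) (.leaf 116141))) (.node (.node (.leaf 49102) (.leaf 93199)) (.node (.leaf 102087) (.leaf 130069)))) (.node (.node (.node (.leaf 17167) (.leaf 81728)) (.node (.leaf 62529) (.leaf 121908))) (.node (.node (.leaf 50495) (.leaf 110602)) (.node (.leaf 98093) (.leaf 136731))))))
def dFin_173 : BT := .node (.node (.node (.node (.node (.node (.node (.leaf 34721) (.leaf 138702)) (.leaf 75009)) (.node (.leaf 51407) (.leaf 111936))) (.node (.node (.leaf 19173) (.leaf 84945)) (.node (.leaf 56593) (.leaf 124271)))) (.node (.node (.node (.leaf 39264) (.leaf 73190)) (.node (.leaf 94052) (.leaf 122872))) (.node (.node (.leaf 50894) (.leaf 140536)) (.node (.leaf 103971) (.leaf 131689))))) (.node (.node (.node (.node (.node (.leaf 34116) (.leaf 140697)) (.leaf 97866)) (.node (.leaf 52333) (.leaf 114702))) (.node (.node (.leaf 41224) (.leaf 102647)) (.node (.leaf 58653) (.leaf 127920)))) (.node (.node (.node (.leaf 47073)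 (.leaf 78337)) (.node (.leaf 54871) (.leaf 120879))) (.node (.node (.leaf 49347) (.leaf 109444)) (.node (.leaf 64966) (.leaf 134991)))))) (.node (.node (.node (.node (.node (.node (.leaf 1406) (.leaf 139477)) (.leaf 67970)) (.node (.leaf 57117) (.leaf 113172))) (.node (.node (.leaf 45840) (.leaf 87700)) (.node (.leaf 57476) (.leaf 129180)))) (.node (.node (.node (.leaf 44570) (.leaf 101710)) (.node (.leaf 139272) (.leaf 119308))) (.node (.node (.leaf 101132) (.leaf 108209)) (.node (.leaf 119008) (.leaf 132961))))) (.node (.node (.node (.node (.leaf 35718) (.leaf 97832)) (.node (.leaf 53066) (.leaf 116392))) (.node (.node (.leaf 25409) (.leaf 122739)) (.node (.leaf 98969) (.leaf 129276)))) (.node (.node (.node (.leaf 123345) (.leaf 82092)) (.node (.leaf 55519) (.leaf 122028))) (.node (.node (.leaf 50417) (.leaf 117485)) (.node (.leaf 66042) (.leaf 136712))))))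
def dFin_180 : BT := .node (.node (.node (.node (.node (.node (.node (.leaf 46064) (.leaf 138521)) (.leaf 97869)) (.node (.leaf 51283) (.leaf 132771))) (.node (.node (.leaf 41691) (.leaf 85564)) (.node (.leaf 56170) (.leaf 124596)))) (.node (.node (.node (.leaf 12116) (.leaf 72931)) (.node (.leaf 94959) (.leaf 117921))) (.node (.node (.leaf 47327) (.leaf 95879)) (.node (.leaf 60977) (.leaf 131580))))) (.node (.node (.node (.node (.node (.leaf 2646) (.leaf 140833)) (.leaf 119253)) (.node (.leaf 52662) (.leaf 114789))) (.node (.node (.leaf 97714) (.leaf 106244)) (.node (.leaf 103209) (.leaf 127616)))) (.node (.node (.node (.leaf 14039) (.leaf 78817)) (.node (.leaf 81435) (.leaf 121159))) (.node (.node (.leaf 49439) (.leaf 109766)) (.node (.leaf 65035) (.leaf 135343)))))) (.node (.node (.node (.node (.node (.node (.leaf 38938) (.leaf 139607)) (.leaf 102502)) (.node (.leaf 52003) (.leaf 113249))) (.node (.node (.leaf 23157) (.leaf 114240)) (.node (.leaf 102789) (.leaf 126856)))) (.node (.node (.node (.leaf 87157) (.leaf 75621)) (.node (.leaf 54461) (.leaf 119400)))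 (.node (.node (.leaf 48461) (.leaf 108277)) (.node (.leaf 63228) (.leaf 133196))))) (.node (.node (.node (.node (.leaf 8076) (.leaf 101816)) (.node (.leaf 109150) (.leaf 116437))) (.node (.node (.leaf 91735) (.leaf 93281)) (.node (.leaf 139614) (.leaf 130011)))) (.node (.node (.node (.leaf 46700) (.leaf 82269)) (.node (.leaf 55698) (.leaf 122791))) (.node (.node (.leaf 50680) (.leaf 122834)) (.node (.leaf 66175) (.leaf 136863))))))
def dFin_190 : BT := .node (.node (.node (.node (.node (.node (.node (.leaf 38192) (.leaf 138310)) (.leaf 90364)) (.node (.leaf 51238) (.leaf 111823))) (.node (.node (.leaf 40923) (.leaf 102770)) (.node (.leaf 104191) (.leaf 124355)))) (.node (.node (.node (.leaf 11979) (.leaf 72329)) (.node (.leaf 53768) (.leaf 120802))) (.node (.node (.leaf 102837) (.leaf 114982)) (.node (.leaf 61211) (.leaf 131042))))) (.node (.node (.node (.node (.node (.leaf 37361) (.leaf 140555)) (.leaf 109934)) (.node (.leaf 70671) (.leaf 114457))) (.node (.node (.leaf 48704) (.leaf 92011)) (.node (.leaf 110877) (.leaf 127855)))) (.node (.node (.node (.leaf 13737)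 (.leaf 77944)) (.node (.leaf 83466) (.leaf 120627))) (.node (.node (.leaf 49552) (.leaf 109420)) (.node (.leaf 64578) (.leaf 135085)))))) (.node (.node (.node (.node (.node (.node (.leaf 510) (.leaf 139406)) (.leaf 83271)) (.node (.leaf 81382) (.leaf 130362))) (.node (.node (.leaf 47518) (.leaf 111772)) (.node (.leaf 57251) (.leaf 126013)))) (.node (.node (.node (.leaf 42319) (.leaf 105917)) (.node (.leaf 54149) (.leaf 118596))) (.node (.node (.leaf 48247) (.leaf 108109)) (.node (.leaf 65032) (.leaf 132984))))) (.node (.node (.node (.node (.leaf 45446) (.leaf 70169)) (.node (.leaf 133055) (.leaf 116383))) (.node (.node (.leaf 46419) (.leaf 93075)) (.node (.leaf 98220) (.leaf 131032)))) (.node (.node (.node (.leaf 46022) (.leaf 105943)) (.node (.leaf 55386) (.leaf 122431))) (.node (.node (.leaf 50323) (.leaf 118418)) (.node (.leaf 65996) (.leaf 136634))))))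
def dFin_197 : BT := .node (.node (.node (.node (.node (.node (.node (.leaf 1164) (.leaf 138439)) (.leaf 105898)) (.node (.leaf 103860) (.leaf 111965))) (.node (.node (.leaf 45048) (.leaf 99615)) (.node (.leaf 106760) (.leaf 124441)))) (.node (.node (.node (.leaf 12037) (.leaf 72735)) (.node (.leaf 99214) (.leaf 134828))) (.node (.node (.leaf 47309) (.leaf 95854)) (.node (.leaf 61101) (.leaf 132169))))) (.node (.node (.node (.node (.node (.leaf 37571) (.leaf 140707)) (.leaf 68951)) (.node (.leaf 52261) (.leaf 114577))) (.node (.node (.leaf 101408) (.leaf 91260)) (.node (.leaf 58903) (.leaf 127740)))) (.node (.node (.node (.leaf 40706) (.leaf 78776)) (.node (.leaf 104982) (.leaf 120928))) (.node (.node (.leaf 49381) (.leaf 109617)) (.node (.leaf 101680) (.leaf 135308)))))) (.node (.node (.node (.node (.node (.node (.leaf 1496) (.leaf 139506)) (.leaf 68154)) (.node (.leaf 104750) (.leaf 113134))) (.node (.node (.leaf 46151) (.leaf 87766)) (.node (.leaf 103850) (.leaf 128917)))) (.node (.node (.node (.leaf 12871) (.leaf 103048)) (.node (.leaf 54382) (.leaf 132333)))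 (.node (.node (.leaf 48375) (.leaf 108353)) (.node (.leaf 63045) (.leaf 133397))))) (.node (.node (.node (.node (.leaf 35365) (.leaf 70794)) (.node (.leaf 53270) (.leaf 116201))) (.node (.node (.leaf 25431) (.leaf 93234)) (.node (.leaf 60280) (.leaf 129358)))) (.node (.node (.node (.leaf 44700) (.leaf 105391)) (.node (.leaf 55624) (.leaf 122269))) (.node (.node (.leaf 50475) (.leaf 120608)) (.node (.leaf 97966) (.leaf 136827))))))
def dFin_205 : BT := .node (.node (.node (.node (.node (.node (.node (.leaf 446) (.leaf 138389)) (.leaf 73074)) (.node (.leaf 74555) (.leaf 111915))) (.node (.node (.leaf 19193) (.leaf 102229)) (.node (.leaf 56099) (.leaf 124475)))) (.node (.node (.node (.leaf 42362) (.leaf 73210)) (.node (.leaf 53688) (.leaf 117585))) (.node (.node (.leaf 47199) (.leaf 95876)) (.node (.leaf 103877) (.leaf 131128))))) (.node (.node (.node (.node (.node (.leaf 34110) (.leaf 140726)) (.leaf 69045)) (.node (.leaf 94494) (.leaf 114641))) (.node (.node (.leaf 24115) (.leaf 90931)) (.node (.leaf 99057) (.leaf 129994)))) (.node (.node (.node (.leaf 47591) (.leaf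 102631)) (.node (.leaf 54923) (.leaf 124164))) (.node (.node (.leaf 49331) (.leaf 109456)) (.node (.leaf 64810) (.leaf 134980)))))) (.node (.node (.node (.node (.node (.node (.leaf 595) (.leaf 139441)) (.leaf 105146)) (.node (.leaf 105947) (.leaf 113077))) (.node (.node (.leaf 46764) (.leaf 109182)) (.node (.leaf 91981) (.leaf 126062)))) (.node (.node (.node (.leaf 12815) (.leaf 75203)) (.node (.leaf 82777) (.leaf 128198))) (.node (.node (.leaf 48738) (.leaf 108159)) (.node (.leaf 62664) (.leaf 132959))))) (.node (.node (.node (.node (.leaf 35966) (.leaf 70546)) (.node (.leaf 53366) (.leaf 116321))) (.node (.node (.leaf 109345) (.leaf 93288)) (.node (.leaf 60038) (.leaf 129270)))) (.node (.node (.node (.leaf 37343) (.leaf 96347)) (.node (.leaf 103134) (.leaf 122302))) (.node (.node (.leaf 50399) (.leaf 137658)) (.node (.leaf 95708) (.leaf 136721))))))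
def dFin_212 : BT := .node (.node (.node (.node (.node (.node (.node (.leaf 46060) (.leaf 138501)) (.leaf 67422)) (.node (.leaf 138674) (.leaf 112015))) (.node (.node (.leaf 19409) (.leaf 85524)) (.node (.leaf 113264) (.leaf 124537)))) (.node (.node (.node (.leaf 37024) (.leaf 103635)) (.node (.leaf 53924) (.leaf 125936))) (.node (.node (.leaf 47360) (.leaf 109075)) (.node (.leaf 60994) (.leaf 131568))))) (.node (.node (.node (.node (.node (.leaf 34655) (.leaf 140855)) (.leaf 88612)) (.node (.leaf 52781) (.leaf 114781))) (.node (.node (.leaf 24178) (.leaf 91139)) (.node (.leaf 59101) (.leaf 127566)))) (.node (.node (.node (.leaf 37565) (.leaf 105571)) (.node (.leaf 106817) (.leaf 121124))) (.node (.node (.leaf 49425) (.leaf 109748)) (.node (.leaf 72496) (.leaf 135398)))))) (.node (.node (.node (.node (.node (.node (.leaf 46178) (.leaf 139539)) (.leaf 68062)) (.node (.leaf 51793) (.leaf 113317))) (.node (.node (.leaf 46531) (.leaf 87679)) (.node (.leaf 57593) (.leaf 126386)))) (.node (.node (.node (.leaf 40885) (.leaf 105679)) (.node (.leaf 103106) (.leaf 136013)))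 (.node (.node (.leaf 48453) (.leaf 108259)) (.node (.leaf 76513) (.leaf 134751))))) (.node (.node (.node (.node (.leaf 7122) (.leaf 70351)) (.node (.leaf 103855) (.leaf 116435))) (.node (.node (.leaf 25975) (.leaf 93300)) (.node (.leaf 59907) (.leaf 129987)))) (.node (.node (.node (.leaf 17998) (.leaf 124870)) (.node (.leaf 134037) (.leaf 121887))) (.node (.node (.leaf 92002) (.leaf 110822)) (.node (.leaf 103015) (.leaf 136957))))))
def dFin_221 : BT := .node (.node (.node (.node (.node (.node (.node (.leaf 37914) (.leaf 138341)) (.leaf 102446)) (.node (.leaf 51148) (.leaf 115371))) (.node (.node (.leaf 19159) (.leaf 119715)) (.node (.leaf 103888) (.leaf 124410)))) (.node (.node (.node (.leaf 12409) (.leaf 73808)) (.node (.leaf 53745) (.leaf 117612))) (.node (.node (.leaf 47157) (.leaf 108444)) (.node (.leaf 61164) (.leaf 131094))))) (.node (.node (.node (.node (.node (.leaf 46087) (.leaf 140622)) (.leaf 97566)) (.node (.leaf 105126) (.leaf 114499))) (.node (.node (.leaf 101159) (.leaf 90423)) (.node (.leaf 106519) (.leaf 127800)))) (.node (.node (.node (.leaf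 44648) (.leaf 77929)) (.node (.leaf 54946) (.leaf 129520))) (.node (.node (.leaf 49590) (.leaf 115214)) (.node (.leaf 64543) (.leaf 134960)))))) (.node (.node (.node (.node (.node (.node (.leaf 45216) (.leaf 139387)) (.leaf 107468)) (.node (.leaf 51775) (.leaf 113052))) (.node (.node (.leaf 99581) (.leaf 106140)) (.node (.leaf 91590) (.leaf 126059)))) (.node (.node (.node (.leaf 12822) (.leaf 75246)) (.node (.leaf 98090) (.leaf 118539))) (.node (.node (.leaf 48285) (.leaf 108133)) (.node (.leaf 62791) (.leaf 133027))))) (.node (.node (.node (.node (.leaf 49364) (.leaf 70601)) (.node (.leaf 92031) (.leaf 116305))) (.node (.node (.leaf 25399) (.leaf 93109)) (.node (.leaf 60081) (.leaf 128987)))) (.node (.node (.node (.leaf 41754) (.leaf 81553)) (.node (.leaf 55339) (.leaf 122313))) (.node (.node (.leaf 50361) (.leaf 110958)) (.node (.leaf 98245) (.leaf 136581))))))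
def dFin_228 : BT := .node (.node (.node (.node (.node (.node (.node (.leaf 118) (.leaf 138498)) (.leaf 104591)) (.node (.leaf 109155) (.leaf 111966))) (.node (.node (.leaf 136482) (.leaf 85543)) (.node (.leaf 139145) (.leaf 124240)))) (.node (.node (.node (.leaf 12096) (.leaf 72674)) (.node (.leaf 53973) (.leaf 137428))) (.node (.node (.leaf 47285) (.leaf 107093)) (.node (.leaf 61048) (.leaf 136615))))) (.node (.node (.node (.node (.node (.leaf 46227) (.leaf 140783)) (.leaf 82773)) (.node (.leaf 52804) (.leaf 114737))) (.node (.node (.leaf 42513) (.leaf 91245)) (.node (.leaf 58847) (.leaf 127687)))) (.node (.node (.node (.leaf 13795) (.leaf 100398)) (.node (.leaf 55265) (.leaf 120967))) (.node (.node (.leaf 49684) (.leaf 109718)) (.node (.leaf 114988) (.leaf 135256)))))) (.node (.node (.node (.node (.node (.node (.leaf 40224) (.leaf 139546)) (.leaf 68109)) (.node (.leaf 104502) (.leaf 113213))) (.node (.node (.leaf 23111) (.leaf 87749)) (.node (.leaf 57642) (.leaf 126903)))) (.node (.node (.node (.leaf 41591) (.leaf 75809)) (.node (.leaf 54353) (.leaf 119446)))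 (.node (.node (.leaf 48409) (.leaf 108356)) (.node (.leaf 104599) (.leaf 133345))))) (.node (.node (.node (.node (.leaf 6804) (.leaf 70417)) (.node (.leaf 103817) (.leaf 116167))) (.node (.node (.leaf 25510) (.leaf 93227)) (.node (.leaf 60105) (.leaf 134329)))) (.node (.node (.node (.leaf 108309) (.leaf 132747)) (.node (.leaf 97223) (.leaf 122186))) (.node (.node (.leaf 50523) (.leaf 111049)) (.node (.leaf 112080) (.leaf 136782))))))
def dFin_236 : BT := .node (.node (.node (.node (.node (.node (.node (.leaf 78) (.leaf 138411)) (.leaf 106594)) (.node (.leaf 51151) (.leaf 119498))) (.node (.node (.leaf 19208) (.leaf 105509)) (.node (.leaf 83190) (.leaf 124456)))) (.node (.node (.node (.leaf 12053) (.leaf 72798)) (.node (.leaf 61614) (.leaf 117556))) (.node (.node (.leaf 47229) (.leaf 95840)) (.node (.leaf 61286) (.leaf 132902))))) (.node (.node (.node (.node (.node (.leaf 49432) (.leaf 140728)) (.leaf 69026)) (.node (.leaf 59948) (.leaf 114694))) (.node (.node (.leaf 24117) (.leaf 91177)) (.node (.leaf 58956) (.leaf 131579)))) (.node (.node (.node (.leaf 41412)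 (.leaf 78173)) (.node (.leaf 54898) (.leaf 120887))) (.node (.node (.leaf 49359) (.leaf 109597)) (.node (.leaf 107792) (.leaf 136190)))))) (.node (.node (.node (.node (.node (.node (.leaf 46172) (.leaf 139563)) (.leaf 105669)) (.node (.leaf 106019) (.leaf 113175))) (.node (.node (.leaf 97645) (.leaf 87782)) (.node (.leaf 105521) (.leaf 126119)))) (.node (.node (.node (.leaf 12862) (.leaf 75126)) (.node (.leaf 54413) (.leaf 119270))) (.node (.node (.leaf 48349) (.leaf 123176)) (.node (.leaf 62601) (.leaf 133097))))) (.node (.node (.node (.node (.leaf 36836) (.leaf 71797)) (.node (.leaf 53319) (.leaf 116262))) (.node (.node (.leaf 42481) (.leaf 93222)) (.node (.leaf 59998) (.leaf 129196)))) (.node (.node (.node (.leaf 17149) (.leaf 95097)) (.node (.leaf 59138) (.leaf 139458))) (.node (.node (.leaf 50451) (.leaf 110998)) (.node (.leaf 96343) (.leaf 136640))))))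
def dFin_243 : BT := .node (.node (.node (.node (.node (.node (.node (.leaf 34339) (.leaf 138529)) (.leaf 67379)) (.node (.leaf 51160) (.leaf 120781))) (.node (.node (.leaf 45364) (.leaf 85507)) (.node (.leaf 56474) (.leaf 124621)))) (.node (.node (.node (.leaf 41586) (.leaf 73121)) (.node (.leaf 53877) (.leaf 126000))) (.node (.node (.leaf 47353) (.leaf 123253)) (.node (.leaf 103940) (.leaf 131521))))) (.node (.node (.node (.node (.node (.leaf 2519) (.leaf 140858)) (.leaf 69227)) (.node (.leaf 60552) (.leaf 114874))) (.node (.node (.leaf 24171) (.leaf 91118)) (.node (.leaf 60292) (.leaf 128010)))) (.node (.node (.node (.leaf 14165) (.leaf 110900)) (.node (.leaf 61905) (.leaf 121044))) (.node (.node (.leaf 63146) (.leaf 109667)) (.node (.leaf 104850) (.leaf 135345)))))) (.node (.node (.node (.node (.node (.node (.leaf 39872) (.leaf 139603)) (.leaf 84216)) (.node (.leaf 51989) (.leaf 113282))) (.node (.node (.leaf 37653) (.leaf 107711)) (.node (.leaf 57542) (.leaf 126327)))) (.node (.node (.node (.leaf 12946) (.leaf 86245)) (.node (.leaf 71255) (.leaf 130510)))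 (.node (.node (.leaf 48493) (.leaf 108511)) (.node (.leaf 104086) (.leaf 135994))))) (.node (.node (.node (.node (.leaf 8411) (.leaf 70289)) (.node (.leaf 53219) (.leaf 116583))) (.node (.node (.leaf 26063) (.leaf 93329)) (.node (.leaf 59858) (.leaf 137085)))) (.node (.node (.node (.leaf 48124) (.leaf 82227)) (.node (.leaf 95812) (.leaf 122642))) (.node (.node (.leaf 50655) (.leaf 110763)) (.node (.leaf 98590) (.leaf 136887))))))
def dFin_255 : BT := .node (.node (.node (.node (.node (.node (.node (.leaf 4) (.leaf 138250)) (.leaf 66827)) (.node (.leaf 91967) (.leaf 111797))) (.node (.node (.leaf 49070) (.leaf 85204)) (.node (.leaf 91968) (.leaf 124398)))) (.node (.node (.node (.leaf 46924) (.leaf 72282)) (.node (.leaf 53667) (.leaf 130214))) (.node (.node (.leaf 47103) (.leaf 103080)) (.node (.leaf 61068) (.leaf 137680))))) (.node (.node (.node (.node (.node (.leaf 45207) (.leaf 140562)) (.leaf 108329)) (.node (.leaf 52512) (.leaf 114433))) (.node (.node (.leaf 42036) (.leaf 90877)) (.node (.leaf 58864) (.leaf 127704)))) (.node (.node (.node (.leaf 13729) (.leaf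 87740)) (.node (.leaf 99799) (.leaf 120697))) (.node (.node (.leaf 49622) (.leaf 109491)) (.node (.leaf 64520) (.leaf 134825)))))) (.node (.node (.node (.node (.node (.node (.leaf 46019) (.leaf 139351)) (.leaf 68133)) (.node (.leaf 51772) (.leaf 130296))) (.node (.node (.leaf 23109) (.leaf 87163)) (.node (.leaf 57670) (.leaf 137718)))) (.node (.node (.node (.leaf 41368) (.leaf 85559)) (.node (.leaf 54156) (.leaf 118893))) (.node (.node (.leaf 48217) (.leaf 108095)) (.node (.leaf 98363) (.leaf 133088))))) (.node (.node (.node (.node (.leaf 5459) (.leaf 69995)) (.node (.leaf 61320) (.leaf 116106))) (.node (.node (.leaf 25377) (.leaf 93055)) (.node (.leaf 60149) (.leaf 130809)))) (.node (.node (.node (.leaf 50414) (.leaf 124096)) (.node (.leaf 80061) (.leaf 122218))) (.node (.node (.leaf 50373) (.leaf 126741)) (.node (.leaf 110923) (.leaf 136555))))))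
def dFin_262 : BT := .node (.node (.node (.node (.node (.node (.node (.leaf 65) (.leaf 138419)) (.leaf 73730)) (.node (.leaf 51462) (.leaf 111929))) (.node (.node (.leaf 42220) (.leaf 90042)) (.node (.leaf 56389) (.leaf 124285)))) (.node (.node (.node (.leaf 12040) (.leaf 104276)) (.node (.leaf 55611) (.leaf 117974))) (.node (.node (.leaf 47316) (.leaf 138422)) (.node (.leaf 104250) (.leaf 131645))))) (.node (.node (.node (.node (.node (.leaf 37594) (.leaf 140671)) (.leaf 68962)) (.node (.leaf 52388) (.leaf 114565))) (.node (.node (.leaf 48870) (.leaf 101531)) (.node (.leaf 58707) (.leaf 129466)))) (.node (.node (.node (.leaf 100078) (.leaf 78169)) (.node (.leaf 107453) (.leaf 120614))) (.node (.node (.leaf 49390) (.leaf 109601)) (.node (.leaf 65064) (.leaf 135117)))))) (.node (.node (.node (.node (.node (.node (.leaf 1325) (.leaf 139498)) (.leaf 68015)) (.node (.leaf 58467) (.leaf 113193))) (.node (.node (.leaf 23001) (.leaf 87713)) (.node (.leaf 57718) (.leaf 137235)))) (.node (.node (.node (.leaf 12839) (.leaf 139659)) (.node (.leaf 54295) (.leaf 119284))) (.node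 (.node (.leaf 48367) (.leaf 108183)) (.node (.leaf 105554) (.leaf 133382))))) (.node (.node (.node (.node (.leaf 36916) (.leaf 77689)) (.node (.leaf 53135) (.leaf 116186))) (.node (.node (.leaf 40633) (.leaf 93192)) (.node (.leaf 59758) (.leaf 129368)))) (.node (.node (.node (.leaf 17160) (.leaf 81817)) (.node (.leaf 55321) (.leaf 122298))) (.node (.node (.leaf 101922) (.leaf 111365)) (.node (.leaf 65967) (.leaf 136664))))))
def dFin_270 : BT := .node (.node (.node (.node (.node (.node (.node (.leaf 2516) (.leaf 138375)) (.leaf 67063)) (.node (.leaf 100106) (.leaf 115356))) (.node (.node (.leaf 19332) (.leaf 85092)) (.node (.leaf 56493) (.leaf 124387)))) (.node (.node (.node (.leaf 41492) (.leaf 73202)) (.node (.leaf 53607) (.leaf 122822))) (.node (.node (.leaf 47179) (.leaf 109880)) (.node (.leaf 103793) (.leaf 131138))))) (.node (.node (.node (.node (.node (.leaf 2236) (.leaf 140650)) (.leaf 68998)) (.node (.leaf 59961) (.leaf 114515))) (.node (.node (.leaf 24099) (.leaf 90443)) (.node (.leaf 98736) (.leaf 137919)))) (.node (.node (.node (.leaf 56648) (.leaf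 117411)) (.node (.leaf 99766) (.leaf 120773))) (.node (.node (.leaf 49323) (.leaf 109418)) (.node (.leaf 101045) (.leaf 135034)))))) (.node (.node (.node (.node (.node (.node (.leaf 45270) (.leaf 139395)) (.leaf 103673)) (.node (.leaf 51927) (.leaf 113047))) (.node (.node (.leaf 42082) (.leaf 89112)) (.node (.leaf 57570) (.leaf 126103)))) (.node (.node (.node (.leaf 12818) (.leaf 96057)) (.node (.leaf 54291) (.leaf 119322))) (.node (.node (.leaf 48528) (.leaf 108147)) (.node (.leaf 62580) (.leaf 133020))))) (.node (.node (.node (.node (.leaf 40156) (.leaf 70334)) (.node (.leaf 53239) (.leaf 116301))) (.node (.node (.leaf 50819) (.leaf 93150)) (.node (.leaf 59878) (.leaf 129143)))) (.node (.node (.node (.leaf 17123) (.leaf 81543)) (.node (.leaf 136392) (.leaf 122089))) (.node (.node (.leaf 50402) (.leaf 110784)) (.node (.leaf 95618) (.leaf 137444))))))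
def dFin_277 : BT := .node (.node (.node (.node (.node (.node (.node (.leaf 1187) (.leaf 138510)) (.leaf 67019)) (.node (.leaf 57710) (.leaf 111976))) (.node (.node (.leaf 19213) (.leaf 85463)) (.node (.leaf 57863) (.leaf 124543)))) (.node (.node (.node (.leaf 12063) (.leaf 136297)) (.node (.leaf 77590) (.leaf 117907))) (.node (.node (.leaf 47367) (.leaf 103225)) (.node (.leaf 106369) (.leaf 131602))))) (.node (.node (.node (.node (.node (.leaf 37732) (.leaf 140795)) (.leaf 69429)) (.node (.leaf 52716) (.leaf 114753))) (.node (.node (.leaf 40605) (.leaf 91061)) (.node (.leaf 101886) (.leaf 127978)))) (.node (.node (.node (.leaf 36950) (.leaf 78902)) (.node (.leaf 55252) (.leaf 120979))) (.node (.node (.leaf 68619) (.leaf 115950)) (.node (.leaf 64928) (.leaf 135222)))))) (.node (.node (.node (.node (.node (.node (.leaf 40236) (.leaf 139513)) (.leaf 67919)) (.node (.leaf 51860) (.leaf 113303))) (.node (.node (.leaf 46625) (.leaf 95417)) (.node (.leaf 57401) (.leaf 126866)))) (.node (.node (.node (.leaf 12899) (.leaf 75741)) (.node (.leaf 114671) (.leaf 119457)))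 (.node (.node (.leaf 48721) (.leaf 108325)) (.node (.leaf 91817) (.leaf 133358))))) (.node (.node (.node (.node (.leaf 6705) (.leaf 79858)) (.node (.leaf 103929) (.leaf 116530))) (.node (.node (.leaf 25903) (.leaf 93257)) (.node (.leaf 59764) (.leaf 130080)))) (.node (.node (.node (.leaf 42767) (.leaf 81635)) (.node (.leaf 55727) (.leaf 121954))) (.node (.node (.leaf 50527) (.leaf 110651)) (.node (.leaf 71219) (.leaf 136796))))))
def dFin_286 : BT := .node (.node (.node (.node (.node (.node (.node (.leaf 62) (.leaf 138327)) (.leaf 67082)) (.node (.leaf 92126) (.leaf 111833))) (.node (.node (.leaf 19160) (.leaf 85135)) (.node (.leaf 56093) (.leaf 132851)))) (.node (.node (.node (.leaf 44577) (.leaf 72526)) (.node (.leaf 53636) (.leaf 117534))) (.node (.node (.leaf 47141) (.leaf 107353)) (.node (.leaf 61021) (.leaf 131065))))) (.node (.node (.node (.node (.node (.leaf 33661) (.leaf 140610)) (.leaf 88359)) (.node (.leaf 52453) (.leaf 114469))) (.node (.node (.leaf 24106) (.leaf 90569)) (.node (.leaf 59082) (.leaf 127581)))) (.node (.node (.node (.leaf 44586) (.leaf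 106648)) (.node (.leaf 99596) (.leaf 120788))) (.node (.node (.leaf 49312) (.leaf 109563)) (.node (.leaf 79984) (.leaf 135056)))))) (.node (.node (.node (.node (.node (.node (.leaf 38852) (.leaf 139398)) (.leaf 68082)) (.node (.leaf 51956) (.leaf 122940))) (.node (.node (.leaf 107617) (.leaf 87617)) (.node (.leaf 57621) (.leaf 126004)))) (.node (.node (.node (.leaf 40693) (.leaf 96364)) (.node (.leaf 115464) (.leaf 118518))) (.node (.node (.leaf 48261) (.leaf 108119)) (.node (.leaf 86228) (.leaf 133056))))) (.node (.node (.node (.node (.leaf 5440) (.leaf 70184)) (.node (.leaf 63419) (.leaf 116323))) (.node (.node (.leaf 46416) (.leaf 93083)) (.node (.leaf 59927) (.leaf 129126)))) (.node (.node (.node (.leaf 17135) (.leaf 106022)) (.node (.leaf 131589) (.leaf 122156))) (.node (.node (.leaf 50408) (.leaf 110850)) (.node (.leaf 97850) (.leaf 136621))))))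
def dFin_293 : BT := .node (.node (.node (.node (.node (.node (.node (.leaf 34713) (.leaf 138454)) (.leaf 74979)) (.node (.leaf 51403) (.leaf 111981))) (.node (.node (.leaf 19195) (.leaf 85482)) (.node (.leaf 56601) (.leaf 124264)))) (.node (.node (.node (.leaf 39039) (.leaf 105218)) (.node (.leaf 53779) (.leaf 122707))) (.node (.node (.leaf 50518) (.leaf 107072)) (.node (.leaf 102912) (.leaf 131635))))) (.node (.node (.node (.node (.node (.leaf 36677) (.leaf 140745)) (.leaf 113578)) (.node (.leaf 52269) (.leaf 114721))) (.node (.node (.leaf 41286) (.leaf 106694)) (.node (.leaf 58646) (.leaf 127969)))) (.node (.node (.node (.leaf 13785) (.leaf 78919)) (.node (.leaf 100583) (.leaf 124618))) (.node (.node (.leaf 49683) (.leaf 109627)) (.node (.leaf 64957) (.leaf 135322)))))) (.node (.node (.node (.node (.node (.node (.leaf 1409) (.leaf 139676)) (.leaf 67966)) (.node (.leaf 57113) (.leaf 113219))) (.node (.node (.leaf 46612) (.leaf 87695)) (.node (.leaf 57464) (.leaf 137698)))) (.node (.node (.node (.leaf 12879) (.leaf 75887)) (.node (.leaf 139230) (.leaf 119264)))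 (.node (.node (.leaf 97417) (.leaf 108358)) (.node (.leaf 128136) (.leaf 133387))))) (.node (.node (.node (.node (.leaf 37950) (.leaf 98809)) (.node (.leaf 100392) (.leaf 116204))) (.node (.node (.leaf 25435) (.leaf 130469)) (.node (.leaf 120923) (.leaf 130058)))) (.node (.node (.node (.leaf 105809) (.leaf 81773)) (.node (.leaf 55746) (.leaf 122024))) (.node (.node (.leaf 50487) (.leaf 120567)) (.node (.leaf 66230) (.leaf 136801))))))
def dFin_301 : BT := .node (.node (.node (.node (.node (.node (.node (.leaf 8589) (.leaf 138397)) (.leaf 67042)) (.node (.leaf 51523) (.leaf 118336))) (.node (.node (.leaf 44994) (.leaf 90434)) (.node (.leaf 56440) (.leaf 124307)))) (.node (.node (.node (.leaf 40769) (.leaf 73197)) (.node (.leaf 94048) (.leaf 123003))) (.node (.node (.leaf 47215) (.leaf 121524)) (.node (.leaf 103636) (.leaf 131678))))) (.node (.node (.node (.node (.node (.leaf 2441) (.leaf 140684)) (.leaf 68981)) (.node (.leaf 58825) (.leaf 114672))) (.node (.node (.leaf 49799) (.leaf 90951)) (.node (.leaf 58769) (.leaf 135047)))) (.node (.node (.node (.leaf 14037)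 (.leaf 102568)) (.node (.leaf 107112) (.leaf 120872))) (.node (.node (.leaf 56132) (.leaf 109440)) (.node (.leaf 103485) (.leaf 134979)))))) (.node (.node (.node (.node (.node (.node (.leaf 35375) (.leaf 139559)) (.leaf 103578)) (.node (.leaf 51896) (.leaf 113093))) (.node (.node (.leaf 22611) (.leaf 87728)) (.node (.leaf 57826) (.leaf 126072)))) (.node (.node (.node (.leaf 13592) (.leaf 105130)) (.node (.leaf 97783) (.leaf 137576))) (.node (.node (.leaf 48356) (.leaf 108227)) (.node (.leaf 75898) (.leaf 132951))))) (.node (.node (.node (.node (.leaf 9654) (.leaf 96625)) (.node (.leaf 53182) (.leaf 116245))) (.node (.node (.leaf 41333) (.leaf 93180)) (.node (.leaf 59827) (.leaf 129173)))) (.node (.node (.node (.leaf 17143) (.leaf 81854)) (.node (.leaf 101832) (.leaf 122297))) (.node (.node (.leaf 50515) (.leaf 110725)) (.node (.leaf 66086) (.leaf 136708))))))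
def dFin_308 : BT := .node (.node (.node (.node (.node (.node (.node (.leaf 1132) (.leaf 138517)) (.leaf 67243)) (.node (.leaf 103781) (.leaf 134085))) (.node (.node (.leaf 45044) (.leaf 85442)) (.node (.leaf 56286) (.leaf 124590)))) (.node (.node (.node (.leaf 12140) (.leaf 91504)) (.node (.leaf 106481) (.leaf 117917))) (.node (.node (.leaf 49621) (.leaf 95900)) (.node (.leaf 101664) (.leaf 131567))))) (.node (.node (.node (.node (.node (.leaf 36627) (.leaf 140840)) (.leaf 103230)) (.node (.leaf 52661) (.leaf 114888))) (.node (.node (.leaf 24174) (.leaf 109356)) (.node (.leaf 103346) (.leaf 128001)))) (.node (.node (.node (.leaf 48077) (.leaf 78809)) (.node (.leaf 55221) (.leaf 121155))) (.node (.node (.leaf 49435) (.leaf 115986)) (.node (.leaf 64901) (.leaf 135416)))))) (.node (.node (.node (.node (.node (.node (.leaf 40159) (.leaf 139585)) (.leaf 102500)) (.node (.leaf 51801) (.leaf 113244))) (.node (.node (.leaf 37721) (.leaf 87913)) (.node (.leaf 57340) (.leaf 126846)))) (.node (.node (.node (.leaf 45592) (.leaf 75617)) (.node (.leaf 54302) (.leaf 119472)))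 (.node (.node (.leaf 48524) (.leaf 108272)) (.node (.leaf 63308) (.leaf 134761))))) (.node (.node (.node (.node (.leaf 32883) (.leaf 105082)) (.node (.leaf 103562) (.leaf 116429))) (.node (.node (.leaf 49897) (.leaf 93267)) (.node (.leaf 75391) (.leaf 130005)))) (.node (.node (.node (.leaf 17193) (.leaf 82309)) (.node (.leaf 98054) (.leaf 121895))) (.node (.node (.leaf 50567) (.leaf 110590)) (.node (.leaf 72384) (.leaf 136974))))))
def dFin_318 : BT := .node (.node (.node (.node (.node (.node (.node (.leaf 87) (.leaf 138302)) (.leaf 66839)) (.node (.leaf 51354) (.leaf 111819))) (.node (.node (.leaf 47718) (.leaf 101387)) (.node (.leaf 56248) (.leaf 124353)))) (.node (.node (.node (.leaf 66771) (.leaf 72325)) (.node (.leaf 111674) (.leaf 117653))) (.node (.node (.leaf 47121) (.leaf 94871)) (.node (.leaf 100094) (.leaf 131035))))) (.node (.node (.node (.node (.node (.leaf 2149) (.leaf 140547)) (.leaf 101131)) (.node (.leaf 103302) (.leaf 114472))) (.node (.node (.leaf 24108) (.leaf 120665)) (.node (.leaf 58575) (.leaf 134258)))) (.node (.node (.node (.leaf 42660)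 (.leaf 78035)) (.node (.leaf 54971) (.leaf 120677))) (.node (.node (.leaf 49275) (.leaf 109477)) (.node (.leaf 64603) (.leaf 134851)))))) (.node (.node (.node (.node (.node (.node (.leaf 38503) (.leaf 139410)) (.leaf 104603)) (.node (.leaf 51819) (.leaf 130206))) (.node (.node (.leaf 41149) (.leaf 101200)) (.node (.leaf 92100) (.leaf 125973)))) (.node (.node (.node (.leaf 45558) (.leaf 74933)) (.node (.leaf 54145) (.leaf 125223))) (.node (.node (.leaf 131458) (.leaf 113136)) (.node (.leaf 62741) (.leaf 133012))))) (.node (.node (.node (.node (.leaf 45444) (.leaf 70194)) (.node (.leaf 73230) (.leaf 116375))) (.node (.node (.leaf 25385) (.leaf 122652)) (.node (.leaf 117928) (.leaf 129056)))) (.node (.node (.node (.leaf 17097) (.leaf 81238)) (.node (.leaf 102110) (.leaf 127329))) (.node (.node (.leaf 50334) (.leaf 110563)) (.node (.leaf 66040) (.leaf 136629))))))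
def dFin_325 : BT := .node (.node (.node (.node (.node (.node (.node (.leaf 593) (.leaf 138435)) (.leaf 105894)) (.node (.leaf 76526) (.leaf 111993))) (.node (.node (.leaf 19219) (.leaf 105677)) (.node (.leaf 104134) (.leaf 128251)))) (.node (.node (.node (.leaf 42385) (.leaf 73160)) (.node (.leaf 54020) (.leaf 117881))) (.node (.node (.leaf 47305) (.leaf 95872)) (.node (.leaf 63351) (.leaf 131316))))) (.node (.node (.node (.node (.node (.leaf 37545) (.leaf 140739)) (.leaf 68947)) (.node (.leaf 110974) (.leaf 114567))) (.node (.node (.leaf 24164) (.leaf 91188)) (.node (.leaf 108194) (.leaf 129877)))) (.node (.node (.node (.leaf 47657) (.leaf 100641)) (.node (.leaf 54919) (.leaf 120925))) (.node (.node (.leaf 49377) (.leaf 109611)) (.node (.leaf 64806) (.leaf 135327)))))) (.node (.node (.node (.node (.node (.node (.leaf 287) (.leaf 139491)) (.leaf 101303)) (.node (.leaf 104779) (.leaf 113130))) (.node (.node (.leaf 46635) (.leaf 98223)) (.node (.leaf 109143) (.leaf 126506)))) (.node (.node (.node (.leaf 12853) (.leaf 75164)) (.node (.leaf 97769) (.leaf 134400)))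 (.node (.node (.leaf 48654) (.leaf 108201)) (.node (.leaf 63141) (.leaf 133390))))) (.node (.node (.node (.node (.leaf 8789) (.leaf 70521)) (.node (.leaf 53362) (.leaf 116171))) (.node (.node (.leaf 107778) (.leaf 93386)) (.node (.leaf 60033) (.leaf 129354)))) (.node (.node (.node (.leaf 41063) (.leaf 103125)) (.node (.leaf 99019) (.leaf 122287))) (.node (.node (.leaf 50467) (.leaf 126630)) (.node (.leaf 66270) (.leaf 136804))))))
def dFin_333 : BT := .node (.node (.node (.node (.node (.node (.node (.leaf 37825) (.leaf 138446)) (.leaf 87067)) (.node (.leaf 51234) (.leaf 111898))) (.node (.node (.leaf 40959) (.leaf 102249)) (.node (.leaf 105164) (.leaf 124501)))) (.node (.node (.node (.leaf 37582) (.leaf 72912)) (.node (.leaf 53772) (.leaf 122832))) (.node (.node (.leaf 109307) (.leaf 115102)) (.node (.leaf 61203) (.leaf 131124))))) (.node (.node (.node (.node (.node (.leaf 46048) (.leaf 140657)) (.leaf 97626)) (.node (.leaf 65893) (.leaf 114631))) (.node (.node (.leaf 46663) (.leaf 100561)) (.node (.leaf 106069) (.leaf 127851)))) (.node (.node (.node (.leaf 13772)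 (.leaf 78282)) (.node (.leaf 99774) (.leaf 130052))) (.node (.node (.leaf 65204) (.leaf 109414)) (.node (.leaf 64870) (.leaf 134977)))))) (.node (.node (.node (.node (.node (.node (.leaf 506) (.leaf 139437)) (.leaf 68217)) (.node (.leaf 73785) (.leaf 113073))) (.node (.node (.leaf 48061) (.leaf 103761)) (.node (.leaf 91828) (.leaf 126054)))) (.node (.node (.node (.leaf 42343) (.leaf 77504)) (.node (.leaf 54442) (.leaf 119136))) (.node (.node (.leaf 48311) (.leaf 108155)) (.node (.leaf 65057) (.leaf 132972))))) (.node (.node (.node (.node (.leaf 9710) (.leaf 70650)) (.node (.leaf 94191) (.leaf 116318))) (.node (.node (.leaf 25843) (.leaf 93131)) (.node (.leaf 98986) (.leaf 129322)))) (.node (.node (.node (.leaf 46013) (.leaf 99219)) (.node (.leaf 55382) (.leaf 121851))) (.node (.node (.leaf 50395) (.leaf 137652)) (.node (.leaf 65979) (.leaf 136686))))))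
def dFin_340 : BT := .node (.node (.node (.node (.node (.node (.node (.leaf 46058) (.leaf 138495)) (.leaf 96648)) (.node (.leaf 116246) (.leaf 112011))) (.node (.node (.leaf 44892) (.leaf 108735)) (.node (.leaf 136868) (.leaf 124530)))) (.node (.node (.node (.leaf 12079) (.leaf 72720)) (.node (.leaf 96456) (.leaf 131093))) (.node (.node (.leaf 47375) (.leaf 95848)) (.node (.leaf 61086) (.leaf 135550))))) (.node (.node (.node (.node (.node (.leaf 36268) (.leaf 140807)) (.leaf 69256)) (.node (.leaf 52825) (.leaf 114775))) (.node (.node (.leaf 137920) (.leaf 91222)) (.node (.leaf 58896) (.leaf 127736)))) (.node (.node (.node (.leaf 36961) (.leaf 94286)) (.node (.leaf 113227) (.leaf 121160))) (.node (.node (.leaf 49446) (.leaf 109771)) (.node (.leaf 72482) (.leaf 135392)))))) (.node (.node (.node (.node (.node (.node (.leaf 40151) (.leaf 139567)) (.leaf 68150)) (.node (.leaf 124692) (.leaf 113305))) (.node (.node (.leaf 23807) (.leaf 87671)) (.node (.leaf 113752) (.leaf 126859)))) (.node (.node (.node (.leaf 12911) (.leaf 101594)) (.node (.leaf 54378) (.leaf 119360)))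 (.node (.node (.leaf 48449) (.leaf 121486)) (.node (.leaf 63033) (.leaf 135329))))) (.node (.node (.node (.node (.leaf 36558) (.leaf 70809)) (.node (.leaf 53266) (.leaf 116523))) (.node (.node (.leaf 25851) (.leaf 93304)) (.node (.leaf 60287) (.leaf 129936)))) (.node (.node (.node (.leaf 46942) (.leaf 99273)) (.node (.leaf 97879) (.leaf 130864))) (.node (.node (.leaf 99706) (.leaf 124016)) (.node (.leaf 107872) (.leaf 136953))))))
def dFin_349 : BT := .node (.node (.node (.node (.node (.node (.node (.leaf 128) (.leaf 140866)) (.leaf 101538)) (.node (.leaf 51295) (.leaf 111883))) (.node (.node (.leaf 38875) (.leaf 85221)) (.node (.leaf 56189) (.leaf 124365)))) (.node (.node (.node (.leaf 37568) (.leaf 72508)) (.node (.leaf 108050) (.leaf 120796))) (.node (.node (.leaf 50470) (.leaf 94901)) (.node (.leaf 61252) (.leaf 131089))))) (.node (.node (.node (.node (.node (.leaf 36219) (.leaf 140617)) (.leaf 110147)) (.node (.leaf 105134) (.leaf 114495))) (.node (.node (.leaf 46493) (.leaf 109304)) (.node (.leaf 77696) (.leaf 127635)))) (.node (.node (.node (.leaf 13747)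 (.leaf 77925)) (.node (.leaf 99606) (.leaf 120643))) (.node (.node (.leaf 49305) (.leaf 109407)) (.node (.leaf 64537) (.leaf 135011)))))) (.node (.node (.node (.node (.node (.node (.leaf 38514) (.leaf 140552)) (.leaf 67869)) (.node (.leaf 51776) (.leaf 113033))) (.node (.node (.leaf 22534) (.leaf 87477)) (.node (.leaf 91653) (.leaf 126091)))) (.node (.node (.node (.leaf 37911) (.leaf 75440)) (.node (.leaf 54473) (.leaf 118535))) (.node (.node (.leaf 48281) (.leaf 114430)) (.node (.leaf 62709) (.leaf 132997))))) (.node (.node (.node (.node (.leaf 46282) (.leaf 124611)) (.node (.leaf 105577) (.leaf 116346))) (.node (.node (.leaf 118306) (.leaf 93105)) (.node (.leaf 106354) (.leaf 128975)))) (.node (.node (.node (.leaf 46710) (.leaf 81209)) (.node (.leaf 55431) (.leaf 122322))) (.node (.node (.leaf 50426) (.leaf 111820)) (.node (.leaf 66002) (.leaf 136573))))))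
def dFin_356 : BT := .node (.node (.node (.node (.node (.node (.node (.leaf 114) (.leaf 138459)) (.leaf 128460)) (.node (.leaf 104160) (.leaf 111960))) (.node (.node (.leaf 19238) (.leaf 106105)) (.node (.leaf 100752) (.leaf 124236)))) (.node (.node (.node (.leaf 12095) (.leaf 72790)) (.node (.leaf 98181) (.leaf 117862))) (.node (.node (.leaf 47279) (.leaf 95834)) (.node (.leaf 61278) (.leaf 137773))))) (.node (.node (.node (.node (.node (.leaf 49416) (.leaf 140779)) (.leaf 69304)) (.node (.leaf 107432) (.leaf 115138))) (.node (.node (.leaf 24895) (.leaf 91173)) (.node (.leaf 58951) (.leaf 131539)))) (.node (.node (.node (.leaf 41419) (.leaf 78966)) (.node (.leaf 54893) (.leaf 120965))) (.node (.node (.leaf 49409) (.leaf 109712)) (.node (.leaf 105297) (.leaf 135287)))))) (.node (.node (.node (.node (.node (.node (.leaf 46186) (.leaf 139560)) (.leaf 67886)) (.node (.leaf 105573) (.leaf 113208))) (.node (.node (.leaf 97699) (.leaf 87745)) (.node (.leaf 138862) (.leaf 126447)))) (.node (.node (.node (.leaf 12908) (.leaf 75121)) (.node (.leaf 54409) (.leaf 119339)))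 (.node (.node (.leaf 48405) (.leaf 108304)) (.node (.leaf 63090) (.leaf 133341))))) (.node (.node (.node (.node (.leaf 37602) (.leaf 71777)) (.node (.leaf 53315) (.leaf 116161))) (.node (.node (.leaf 44790) (.leaf 93221)) (.node (.leaf 59994) (.leaf 129955)))) (.node (.node (.node (.leaf 17171) (.leaf 107701)) (.node (.leaf 98227) (.leaf 122247))) (.node (.node (.leaf 50521) (.leaf 123004)) (.node (.leaf 114664) (.leaf 136776))))))
def dFin_364 : BT := .node (.node (.node (.node (.node (.node (.node (.leaf 37921) (.leaf 138801)) (.leaf 66947)) (.node (.leaf 105526) (.leaf 111903))) (.node (.node (.leaf 19179) (.leaf 85338)) (.node (.leaf 76523) (.leaf 124480)))) (.node (.node (.node (.leaf 46534) (.leaf 73199)) (.node (.leaf 53595) (.leaf 117608))) (.node (.node (.leaf 47225) (.leaf 115654)) (.node (.leaf 61156) (.leaf 131371))))) (.node (.node (.node (.node (.node (.leaf 2339) (.leaf 140725)) (.leaf 68935)) (.node (.leaf 70657) (.leaf 114689))) (.node (.node (.leaf 48190) (.leaf 91205)) (.node (.leaf 108748) (.leaf 127796)))) (.node (.node (.node (.leaf 61853)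 (.leaf 78192)) (.node (.leaf 54942) (.leaf 122486))) (.node (.node (.leaf 91951) (.leaf 110288)) (.node (.leaf 64839) (.leaf 136184)))))) (.node (.node (.node (.node (.node (.node (.leaf 37137) (.leaf 139463)) (.leaf 104848)) (.node (.leaf 51779) (.leaf 113168))) (.node (.node (.leaf 59951) (.leaf 101258)) (.node (.leaf 83189) (.leaf 126115)))) (.node (.node (.node (.leaf 12860) (.leaf 75210)) (.node (.leaf 97862) (.leaf 119113))) (.node (.node (.leaf 48345) (.leaf 108204)) (.node (.leaf 62597) (.leaf 134573))))) (.node (.node (.node (.node (.leaf 36912) (.leaf 70578)) (.node (.leaf 100070) (.leaf 116351))) (.node (.node (.leaf 46319) (.leaf 93169)) (.node (.leaf 60070) (.leaf 129193)))) (.node (.node (.node (.leaf 41753) (.leaf 95224)) (.node (.leaf 55335) (.leaf 122292))) (.node (.node (.leaf 50431) (.leaf 110463)) (.node (.leaf 101622) (.leaf 136694))))))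
def dFin_371 : BT := .node (.node (.node (.node (.node (.node (.node (.leaf 10677) (.leaf 138538)) (.leaf 96484)) (.node (.leaf 106758) (.leaf 112033))) (.node (.node (.leaf 132489) (.leaf 85539)) (.node (.leaf 119998) (.leaf 124615)))) (.node (.node (.node (.leaf 12163) (.leaf 72653)) (.node (.leaf 53969) (.leaf 126883))) (.node (.node (.leaf 47347) (.leaf 116033)) (.node (.leaf 60991) (.leaf 131160))))) (.node (.node (.node (.node (.node (.leaf 65330) (.leaf 140849)) (.leaf 103238)) (.node (.leaf 52800) (.leaf 114870))) (.node (.node (.leaf 42507) (.leaf 91243)) (.node (.leaf 58843) (.leaf 127679)))) (.node (.node (.node (.leaf 14043) (.leaf 79281)) (.node (.leaf 55031) (.leaf 121037))) (.node (.node (.leaf 91925) (.leaf 109773)) (.node (.leaf 64749) (.leaf 135337)))))) (.node (.node (.node (.node (.node (.node (.leaf 49222) (.leaf 139599)) (.leaf 68105)) (.node (.leaf 52139) (.leaf 113261))) (.node (.node (.leaf 23804) (.leaf 87915)) (.node (.leaf 57638) (.leaf 131017)))) (.node (.node (.node (.leaf 41575) (.leaf 76051)) (.node (.leaf 54349) (.leaf 122770)))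 (.node (.node (.leaf 48473) (.leaf 108391)) (.node (.leaf 104287) (.leaf 133280))))) (.node (.node (.node (.node (.leaf 8081) (.leaf 70405)) (.node (.leaf 61344) (.leaf 116495))) (.node (.node (.leaf 25867) (.leaf 93297)) (.node (.leaf 59970) (.leaf 137648)))) (.node (.node (.node (.leaf 42587) (.leaf 101615)) (.node (.leaf 96369) (.leaf 122638))) (.node (.node (.leaf 50601) (.leaf 126875)) (.node (.leaf 103351) (.leaf 136883))))))
def dFin_382 : BT := .node (.node (.node (.node (.node (.node (.node (.leaf 12) (.leaf 138228)) (.leaf 73352)) (.node (.leaf 51470) (.leaf 111805))) (.node (.node (.leaf 42183) (.leaf 89980)) (.node (.leaf 56398) (.leaf 124339)))) (.node (.node (.node (.leaf 11971) (.leaf 101671)) (.node (.leaf 104676) (.leaf 127997))) (.node (.node (.leaf 47119) (.leaf 107046)) (.node (.leaf 60945) (.leaf 131022))))) (.node (.node (.node (.node (.node (.leaf 5235) (.leaf 140532)) (.leaf 68970)) (.node (.leaf 52396) (.leaf 114445))) (.node (.node (.leaf 48916) (.leaf 92085)) (.node (.leaf 58719) (.leaf 135664)))) (.node (.node (.node (.leaf 42653) (.leaf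 77979)) (.node (.leaf 101056) (.leaf 120671))) (.node (.node (.leaf 49317) (.leaf 109500)) (.node (.leaf 95800) (.leaf 134839)))))) (.node (.node (.node (.node (.node (.node (.leaf 1372) (.leaf 139377)) (.leaf 68035)) (.node (.leaf 58451) (.leaf 112948))) (.node (.node (.leaf 22507) (.leaf 87175)) (.node (.leaf 57753) (.leaf 125997)))) (.node (.node (.node (.leaf 13589) (.leaf 105784)) (.node (.leaf 79869) (.leaf 118824))) (.node (.node (.leaf 48237) (.leaf 108105)) (.node (.leaf 103421) (.leaf 133071))))) (.node (.node (.node (.node (.leaf 38247) (.leaf 70188)) (.node (.leaf 53151) (.leaf 116368))) (.node (.node (.leaf 40650) (.leaf 93071)) (.node (.leaf 98208) (.leaf 129077)))) (.node (.node (.node (.leaf 17377) (.leaf 81302)) (.node (.leaf 55570) (.leaf 126737))) (.node (.node (.leaf 128209) (.leaf 111385)) (.node (.leaf 66084) (.leaf 136559))))))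
def dFin_389 : BT := .node (.node (.node (.node (.node (.node (.node (.leaf 8706) (.leaf 138515)) (.leaf 66987)) (.node (.leaf 51346) (.leaf 112026))) (.node (.node (.leaf 45329) (.leaf 99345)) (.node (.leaf 56239) (.leaf 124430)))) (.node (.node (.node (.leaf 50480) (.leaf 73007)) (.node (.leaf 105069) (.leaf 117981))) (.node (.node (.leaf 47251) (.leaf 95892)) (.node (.leaf 100765) (.leaf 131642))))) (.node (.node (.node (.node (.node (.leaf 2406) (.leaf 140699)) (.leaf 115946)) (.node (.leaf 52259) (.leaf 114575))) (.node (.node (.leaf 24852) (.leaf 106389)) (.node (.leaf 58587) (.leaf 129468)))) (.node (.node (.node (.leaf 42703) (.leaf 78183)) (.node (.leaf 54963) (.leaf 120634))) (.node (.node (.leaf 49373) (.leaf 109605)) (.node (.leaf 65068) (.leaf 135129)))))) (.node (.node (.node (.node (.node (.node (.leaf 37521) (.leaf 139483)) (.leaf 119730)) (.node (.leaf 51811) (.leaf 113121))) (.node (.node (.leaf 41143) (.leaf 98535)) (.node (.leaf 103846) (.leaf 138821)))) (.node (.node (.node (.leaf 37430) (.leaf 75259)) (.node (.leaf 54494) (.leaf 132553)))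 (.node (.node (.leaf 105016) (.leaf 108191)) (.node (.leaf 63283) (.leaf 133242))))) (.node (.node (.node (.node (.leaf 32884) (.leaf 118196)) (.node (.leaf 76502) (.leaf 116192))) (.node (.node (.leaf 25427) (.leaf 122686)) (.node (.leaf 99279) (.leaf 129344)))) (.node (.node (.node (.leaf 17157) (.leaf 81720)) (.node (.leaf 64046) (.leaf 133023))) (.node (.node (.leaf 50532) (.leaf 110548)) (.node (.leaf 65971) (.leaf 136808))))))
def dFin_397 : BT := .node (.node (.node (.node (.node (.node (.node (.leaf 1291) (.leaf 138474)) (.leaf 67027)) (.node (.leaf 100163) (.leaf 111881))) (.node (.node (.leaf 19167) (.leaf 84999)) (.node (.leaf 104211) (.leaf 124484)))) (.node (.node (.node (.leaf 37576) (.leaf 107203)) (.node (.leaf 104932) (.leaf 117689))) (.node (.node (.leaf 47189) (.leaf 95427)) (.node (.leaf 109152) (.leaf 131110))))) (.node (.node (.node (.node (.node (.leaf 36872) (.leaf 140742)) (.leaf 97616)) (.node (.leaf 52276) (.leaf 115525))) (.node (.node (.leaf 40553) (.leaf 104934)) (.node (.leaf 98661) (.leaf 127908)))) (.node (.node (.node (.leaf 13759)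 (.leaf 78395)) (.node (.leaf 55011) (.leaf 120786))) (.node (.node (.leaf 106332) (.leaf 109461)) (.node (.leaf 64943) (.leaf 135042)))))) (.node (.node (.node (.node (.node (.node (.leaf 45274) (.leaf 139637)) (.leaf 67935)) (.node (.leaf 51871) (.leaf 113071))) (.node (.node (.leaf 46568) (.leaf 105598)) (.node (.leaf 57425) (.leaf 126136)))) (.node (.node (.node (.leaf 48138) (.leaf 75376)) (.node (.leaf 88664) (.leaf 119332))) (.node (.node (.leaf 48361) (.leaf 108151)) (.node (.leaf 96206) (.leaf 134418))))) (.node (.node (.node (.node (.leaf 5403) (.leaf 115120)) (.node (.leaf 78760) (.leaf 116311))) (.node (.node (.leaf 49533) (.leaf 93332)) (.node (.leaf 98985) (.leaf 134395)))) (.node (.node (.node (.leaf 36993) (.leaf 81563)) (.node (.leaf 55474) (.leaf 121973))) (.node (.node (.leaf 50385) (.leaf 110668)) (.node (.leaf 95620) (.leaf 136599))))))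
def dFin_404 : BT := .node (.node (.node (.node (.node (.node (.node (.leaf 38166) (.leaf 138483)) (.leaf 67439)) (.node (.leaf 51226) (.leaf 116596))) (.node (.node (.leaf 40975) (.leaf 113200)) (.node (.leaf 102829) (.leaf 124523)))) (.node (.node (.node (.leaf 37018) (.leaf 72888)) (.node (.leaf 54108) (.leaf 117947))) (.node (.node (.leaf 117430) (.leaf 109081)) (.node (.leaf 61138) (.leaf 131408))))) (.node (.node (.node (.node (.node (.leaf 2582) (.leaf 140803)) (.leaf 105253)) (.node (.leaf 82450) (.leaf 114765))) (.node (.node (.leaf 24180) (.leaf 106215)) (.node (.leaf 105406) (.leaf 127840)))) (.node (.node (.node (.leaf 13847) (.leaf 78855)) (.node (.leaf 99841) (.leaf 120989))) (.node (.node (.leaf 49470) (.leaf 109735)) (.node (.leaf 64857) (.leaf 135388)))))) (.node (.node (.node (.node (.node (.node (.leaf 482) (.leaf 139531)) (.leaf 69841)) (.node (.leaf 104413) (.leaf 113314))) (.node (.node (.leaf 46073) (.leaf 114036)) (.node (.leaf 57279) (.leaf 126142)))) (.node (.node (.node (.leaf 42155) (.leaf 98326)) (.node (.leaf 54434) (.leaf 119461)))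 (.node (.node (.leaf 48433) (.leaf 108339)) (.node (.leaf 63441) (.leaf 133174))))) (.node (.node (.node (.node (.leaf 7249) (.leaf 70610)) (.node (.leaf 138421) (.leaf 116512))) (.node (.node (.leaf 25844) (.leaf 93315)) (.node (.leaf 106463) (.leaf 131704)))) (.node (.node (.node (.leaf 44721) (.leaf 96844)) (.node (.leaf 55691) (.leaf 125540))) (.node (.node (.leaf 50539) (.leaf 122926)) (.node (.leaf 66156) (.leaf 136944))))))
def dFin_413 : BT := .node (.node (.node (.node (.node (.node (.node (.leaf 34631) (.leaf 138347)) (.leaf 75013)) (.node (.leaf 51411) (.leaf 111845))) (.node (.node (.leaf 19155) (.leaf 85042)) (.node (.leaf 56586) (.leaf 124331)))) (.node (.node (.node (.leaf 12028) (.leaf 72530)) (.node (.leaf 104564) (.leaf 122665))) (.node (.node (.leaf 47167) (.leaf 106999)) (.node (.leaf 76507) (.leaf 131076))))) (.node (.node (.node (.node (.node (.leaf 37367) (.leaf 140598)) (.leaf 97554)) (.node (.leaf 52337) (.leaf 114519))) (.node (.node (.leaf 41249) (.leaf 109272)) (.node (.leaf 58658) (.leaf 128079)))) (.node (.node (.node (.leaf 14031)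 (.leaf 77909)) (.node (.leaf 104451) (.leaf 120839))) (.node (.node (.leaf 49297) (.leaf 109567)) (.node (.leaf 64527) (.leaf 135072)))))) (.node (.node (.node (.node (.node (.node (.leaf 1455) (.leaf 139365)) (.leaf 67982)) (.node (.leaf 57121) (.leaf 113025))) (.node (.node (.leaf 46596) (.leaf 87500)) (.node (.leaf 57484) (.leaf 126110)))) (.node (.node (.node (.leaf 44610) (.leaf 96370)) (.node (.leaf 105440) (.leaf 118527))) (.node (.node (.leaf 48275) (.leaf 108125)) (.node (.leaf 100857) (.leaf 133064))))) (.node (.node (.node (.node (.leaf 37479) (.leaf 97388)) (.node (.leaf 92068) (.leaf 116389))) (.node (.node (.leaf 25391) (.leaf 122751)) (.node (.leaf 98422) (.leaf 128985)))) (.node (.node (.node (.leaf 124725) (.leaf 83774)) (.node (.leaf 55523) (.leaf 122040))) (.node (.node (.leaf 50353) (.leaf 117894)) (.node (.leaf 66046) (.leaf 136625))))))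
def dFin_420 : BT := .node (.node (.node (.node (.node (.node (.node (.leaf 8652) (.leaf 138451)) (.leaf 106325)) (.node (.leaf 51287) (.leaf 112106))) (.node (.node (.leaf 41688) (.leaf 102972)) (.node (.leaf 56174) (.leaf 124229)))) (.node (.node (.node (.leaf 46991) (.leaf 72952)) (.node (.leaf 96739) (.leaf 117956))) (.node (.node (.leaf 47263) (.leaf 95881)) (.node (.leaf 61236) (.leaf 131709))))) (.node (.node (.node (.node (.node (.leaf 46084) (.leaf 140767)) (.leaf 105490)) (.node (.leaf 52658) (.leaf 114727))) (.node (.node (.leaf 100207) (.leaf 108740)) (.node (.leaf 75585) (.leaf 127624)))) (.node (.node (.node (.leaf 13791) (.leaf 78874)) (.node (.leaf 80896) (.leaf 120953))) (.node (.node (.leaf 49405) (.leaf 109631)) (.node (.leaf 65013) (.leaf 135275)))))) (.node (.node (.node (.node (.node (.node (.leaf 37937) (.leaf 140899)) (.leaf 67885)) (.node (.leaf 104621) (.leaf 113205))) (.node (.node (.leaf 23100) (.leaf 87743)) (.node (.leaf 103539) (.leaf 126880)))) (.node (.node (.node (.leaf 89577) (.leaf 75113)) (.node (.leaf 54465) (.leaf 119153)))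 (.node (.node (.leaf 48397) (.leaf 108371)) (.node (.leaf 63240) (.leaf 133211))))) (.node (.node (.node (.node (.leaf 6868) (.leaf 97252)) (.node (.leaf 104894) (.leaf 116149))) (.node (.node (.leaf 47811) (.leaf 93211)) (.node (.leaf 121370) (.leaf 130075)))) (.node (.node (.node (.leaf 46705) (.leaf 81648)) (.node (.leaf 55710) (.leaf 122253))) (.node (.node (.leaf 50501) (.leaf 120328)) (.node (.leaf 66183) (.leaf 136769))))))
def dFin_428 : BT := .node (.node (.node (.node (.node (.node (.node (.leaf 1034) (.leaf 138425)) (.leaf 67006)) (.node (.leaf 56540) (.leaf 111940))) (.node (.node (.leaf 44996) (.leaf 84949)) (.node (.leaf 56298) (.leaf 132780)))) (.node (.node (.node (.leaf 46642) (.leaf 100793)) (.node (.leaf 111699) (.leaf 117660))) (.node (.node (.leaf 120275) (.leaf 95909)) (.node (.leaf 107086) (.leaf 131695))))) (.node (.node (.node (.node (.node (.leaf 36768) (.leaf 140714)) (.leaf 98001)) (.node (.leaf 52250) (.leaf 114682))) (.node (.node (.leaf 24128) (.leaf 91275)) (.node (.leaf 75847) (.leaf 127922)))) (.node (.node (.node (.leaf 105374)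 (.leaf 78341)) (.node (.leaf 54986) (.leaf 120651))) (.node (.node (.leaf 49351) (.leaf 109448)) (.node (.leaf 64914) (.leaf 135013)))))) (.node (.node (.node (.node (.node (.node (.leaf 8751) (.leaf 139455)) (.leaf 67882)) (.node (.leaf 51840) (.leaf 113154))) (.node (.node (.leaf 41552) (.leaf 87815)) (.node (.leaf 57360) (.leaf 126120)))) (.node (.node (.node (.leaf 47249) (.leaf 75303)) (.node (.leaf 54505) (.leaf 123418))) (.node (.node (.leaf 48337) (.leaf 108217)) (.node (.leaf 62587) (.leaf 134426))))) (.node (.node (.node (.node (.leaf 36902) (.leaf 106870)) (.node (.leaf 53065) (.leaf 116253))) (.node (.node (.leaf 46632) (.leaf 93157)) (.node (.leaf 99104) (.leaf 129184)))) (.node (.node (.node (.leaf 17145) (.leaf 81763)) (.node (.leaf 101843) (.leaf 121912))) (.node (.node (.leaf 50421) (.leaf 110609)) (.node (.leaf 72069) (.leaf 136670))))))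
def dFin_435 : BT := .node (.node (.node (.node (.node (.node (.node (.leaf 37809) (.leaf 140043)) (.leaf 96478)) (.node (.leaf 103774) (.leaf 112048))) (.node (.node (.leaf 19231) (.leaf 85568)) (.node (.leaf 102902) (.leaf 124604)))) (.node (.node (.node (.leaf 80583) (.leaf 103796)) (.node (.leaf 54061) (.leaf 117882))) (.node (.node (.leaf 47337) (.leaf 115107)) (.node (.leaf 60983) (.leaf 131359))))) (.node (.node (.node (.node (.node (.leaf 2597) (.leaf 140836)) (.leaf 69124)) (.node (.leaf 126725) (.leaf 114862))) (.node (.node (.leaf 45745) (.leaf 91197)) (.node (.leaf 140089) (.leaf 127783)))) (.node (.node (.node (.leaf 37867) (.leaf 78821)) (.node (.leaf 55161) (.leaf 121033))) (.node (.node (.leaf 65128) (.leaf 109671)) (.node (.leaf 64824) (.leaf 135333)))))) (.node (.node (.node (.node (.node (.node (.leaf 300) (.leaf 139595)) (.leaf 102508)) (.node (.leaf 52068) (.leaf 113267))) (.node (.node (.leaf 46482) (.leaf 103057)) (.node (.leaf 102815) (.leaf 126559)))) (.node (.node (.node (.leaf 12950) (.leaf 75625)) (.node (.leaf 103159) (.leaf 119418)))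 (.node (.node (.leaf 48465) (.leaf 108300)) (.node (.leaf 63375) (.leaf 133305))))) (.node (.node (.node (.node (.leaf 8399) (.leaf 70554)) (.node (.leaf 103568) (.leaf 116447))) (.node (.node (.leaf 25858) (.leaf 93285)) (.node (.leaf 59985) (.leaf 130019)))) (.node (.node (.node (.leaf 41761) (.leaf 82233)) (.node (.leaf 55662) (.leaf 125499))) (.node (.node (.leaf 50575) (.leaf 122845)) (.node (.leaf 103078) (.leaf 136871))))))
def dFin_445 : BT := .node (.node (.node (.node (.node (.node (.node (.leaf 389) (.leaf 138316)) (.leaf 67088)) (.node (.leaf 100050) (.leaf 111827))) (.node (.node (.leaf 19358) (.leaf 105562)) (.node (.leaf 100101) (.leaf 130477)))) (.node (.node (.node (.leaf 42108) (.leaf 96323)) (.node (.leaf 53692) (.leaf 117601))) (.node (.node (.leaf 47129) (.leaf 94851)) (.node (.leaf 63371) (.leaf 131046))))) (.node (.node (.node (.node (.node (.leaf 37363) (.leaf 140586)) (.leaf 69049)) (.node (.leaf 140010) (.leaf 114461))) (.node (.node (.leaf 24091) (.leaf 90662)) (.node (.leaf 98932) (.leaf 130042)))) (.node (.node (.node (.leaf 47504)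 (.leaf 106679)) (.node (.leaf 54927) (.leaf 120600))) (.node (.node (.leaf 49279) (.leaf 115246)) (.node (.leaf 64546) (.leaf 135089)))))) (.node (.node (.node (.node (.node (.node (.leaf 39135) (.leaf 139402)) (.leaf 101001)) (.node (.leaf 113028) (.leaf 112920))) (.node (.node (.leaf 46307) (.leaf 101202)) (.node (.leaf 105545) (.leaf 125982)))) (.node (.node (.node (.leaf 12793) (.leaf 74884)) (.node (.leaf 82242) (.leaf 134048))) (.node (.node (.leaf 48251) (.leaf 108113)) (.node (.leaf 62675) (.leaf 133052))))) (.node (.node (.node (.node (.leaf 45771) (.leaf 70174)) (.node (.leaf 53378) (.leaf 116579))) (.node (.node (.leaf 110365) (.leaf 93346)) (.node (.leaf 60046) (.leaf 129033)))) (.node (.node (.node (.leaf 41057) (.leaf 81167)) (.node (.leaf 102082) (.leaf 122371))) (.node (.node (.leaf 50327) (.leaf 121792)) (.node (.leaf 95779) (.leaf 137798))))))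
def dFin_452 : BT := .node (.node (.node (.node (.node (.node (.node (.leaf 8583) (.leaf 138541)) (.leaf 67074)) (.node (.leaf 105617) (.leaf 111999))) (.node (.node (.leaf 19361) (.leaf 85528)) (.node (.leaf 56108) (.leaf 132794)))) (.node (.node (.node (.leaf 39032) (.leaf 92096)) (.node (.leaf 53928) (.leaf 124248))) (.node (.node (.leaf 47298) (.leaf 109876)) (.node (.leaf 61009) (.leaf 131625))))) (.node (.node (.node (.node (.node (.leaf 34411) (.leaf 140763)) (.leaf 88220)) (.node (.leaf 52265) (.leaf 114613))) (.node (.node (.leaf 24139) (.leaf 91143)) (.node (.leaf 59094) (.leaf 127570)))) (.node (.node (.node (.leaf 14342) (.leaf 104858)) (.node (.leaf 94281) (.leaf 120891))) (.node (.node (.leaf 72817) (.leaf 109621)) (.node (.leaf 101707) (.leaf 135312)))))) (.node (.node (.node (.node (.node (.node (.leaf 37026) (.leaf 139495)) (.leaf 68066)) (.node (.leaf 51948) (.leaf 113139))) (.node (.node (.leaf 94643) (.leaf 87799)) (.node (.leaf 57601) (.leaf 126390)))) (.node (.node (.node (.leaf 40691) (.leaf 108835)) (.node (.leaf 108428) (.leaf 119250)))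 (.node (.node (.leaf 48379) (.leaf 108342)) (.node (.leaf 78694) (.leaf 133414))))) (.node (.node (.node (.node (.leaf 6561) (.leaf 70364)) (.node (.leaf 63449) (.leaf 116147))) (.node (.node (.leaf 46421) (.leaf 93230)) (.node (.leaf 59912) (.leaf 130056)))) (.node (.node (.node (.leaf 46676) (.leaf 101910)) (.node (.leaf 113906) (.leaf 122140))) (.node (.node (.leaf 56052) (.leaf 110834)) (.node (.leaf 115562) (.leaf 136831))))))
def dFin_460 : BT := .node (.node (.node (.node (.node (.node (.node (.leaf 1032) (.leaf 138393)) (.leaf 106156)) (.node (.leaf 104719) (.leaf 111945))) (.node (.node (.leaf 45377) (.leaf 104283)) (.node (.leaf 104868) (.leaf 124454)))) (.node (.node (.node (.leaf 12013) (.leaf 72744)) (.node (.leaf 63799) (.leaf 117537))) (.node (.node (.leaf 47203) (.leaf 95858)) (.node (.leaf 61105) (.leaf 131676))))) (.node (.node (.node (.node (.node (.leaf 36228) (.leaf 140665)) (.leaf 69013)) (.node (.leaf 52565) (.leaf 115899))) (.node (.node (.leaf 101667) (.leaf 90939)) (.node (.leaf 58908) (.leaf 127747)))) (.node (.node (.node (.leaf 40708)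 (.leaf 78164)) (.node (.leaf 104675) (.leaf 120866))) (.node (.node (.leaf 49335) (.leaf 115256)) (.node (.leaf 65058) (.leaf 134989)))))) (.node (.node (.node (.node (.node (.node (.leaf 1505) (.leaf 139665)) (.leaf 68158)) (.node (.leaf 110938) (.leaf 113081))) (.node (.node (.leaf 48569) (.leaf 87773)) (.node (.leaf 106211) (.leaf 126925)))) (.node (.node (.node (.leaf 12826) (.leaf 101702)) (.node (.leaf 54386) (.leaf 128200))) (.node (.node (.leaf 48319) (.leaf 108266)) (.node (.leaf 62604) (.leaf 133048))))) (.node (.node (.node (.node (.leaf 36273) (.leaf 70754)) (.node (.leaf 53274) (.leaf 116279))) (.node (.node (.leaf 25405) (.leaf 93139)) (.node (.leaf 60269) (.leaf 129222)))) (.node (.node (.node (.leaf 45671) (.leaf 106470)) (.node (.leaf 103136) (.leaf 134771))) (.node (.node (.leaf 121305) (.leaf 110983)) (.node (.leaf 96348) (.leaf 136700))))))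
def dFin_467 : BT := .node (.node (.node (.node (.node (.node (.node (.leaf 8070) (.leaf 138507)) (.leaf 67338)) (.node (.leaf 51515) (.leaf 116602))) (.node (.node (.leaf 45042) (.leaf 91249)) (.node (.leaf 56428) (.leaf 124544)))) (.node (.node (.node (.leaf 40766) (.leaf 103783)) (.node (.leaf 96398) (.leaf 117926))) (.node (.node (.leaf 47356) (.leaf 109115)) (.node (.leaf 60981) (.leaf 131574))))) (.node (.node (.node (.node (.node (.leaf 2513) (.leaf 140828)) (.leaf 69200)) (.node (.leaf 59334) (.leaf 114846))) (.node (.node (.leaf 46738) (.leaf 91103)) (.node (.leaf 58757) (.leaf 130241)))) (.node (.node (.node (.leaf 14034) (.leaf 103649)) (.node (.leaf 121260) (.leaf 121130))) (.node (.node (.leaf 49419) (.leaf 109752)) (.node (.leaf 105359) (.leaf 135402)))))) (.node (.node (.node (.node (.node (.node (.leaf 38570) (.leaf 139608)) (.leaf 86481)) (.node (.leaf 51797) (.leaf 113286))) (.node (.node (.leaf 23153) (.leaf 87683)) (.node (.leaf 57868) (.leaf 126270)))) (.node (.node (.node (.leaf 47388) (.leaf 124829)) (.node (.leaf 103108) (.leaf 119377)))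 (.node (.node (.leaf 48476) (.leaf 108384)) (.node (.leaf 100075) (.leaf 133328))))) (.node (.node (.node (.node (.leaf 9580) (.leaf 101810)) (.node (.leaf 53174) (.leaf 116457))) (.node (.node (.leaf 36541) (.leaf 93306)) (.node (.leaf 59815) (.leaf 130015)))) (.node (.node (.node (.leaf 37429) (.leaf 82360)) (.node (.leaf 98050) (.leaf 126733))) (.node (.node (.leaf 50551) (.leaf 110706)) (.node (.leaf 66258) (.leaf 136964))))))
def dFin_476 : BT := .node (.node (.node (.node (.node (.node (.node (.leaf 1293) (.leaf 138349)) (.leaf 106174)) (.node (.leaf 51147) (.leaf 134122))) (.node (.node (.leaf 130441) (.leaf 102540)) (.node (.leaf 100401) (.leaf 124374)))) (.node (.node (.node (.leaf 11991) (.leaf 72520)) (.node (.leaf 104695) (.leaf 117560))) (.node (.node (.leaf 47169) (.leaf 94812)) (.node (.leaf 61294) (.leaf 131130))))) (.node (.node (.node (.node (.node (.leaf 50076) (.leaf 140629)) (.leaf 69030)) (.node (.leaf 52859) (.leaf 114503))) (.node (.node (.leaf 48183) (.leaf 90427)) (.node (.leaf 58964) (.leaf 131615)))) (.node (.node (.node (.leaf 42006)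 (.leaf 78668)) (.node (.leaf 54902) (.leaf 120766))) (.node (.node (.leaf 49309) (.leaf 109492)) (.node (.leaf 65912) (.leaf 135028)))))) (.node (.node (.node (.node (.node (.node (.leaf 39155) (.leaf 139426)) (.leaf 103997)) (.node (.leaf 106832) (.leaf 113043))) (.node (.node (.leaf 42643) (.leaf 87469)) (.node (.leaf 91699) (.leaf 126096)))) (.node (.node (.node (.leaf 12832) (.leaf 75162)) (.node (.leaf 54417) (.leaf 135807))) (.node (.node (.leaf 48298) (.leaf 109254)) (.node (.leaf 62641) (.leaf 132944))))) (.node (.node (.node (.node (.leaf 40487) (.leaf 71867)) (.node (.leaf 53331) (.leaf 116290))) (.node (.node (.leaf 42448) (.leaf 93390)) (.node (.leaf 60009) (.leaf 128993)))) (.node (.node (.node (.leaf 17115) (.leaf 81557)) (.node (.leaf 85804) (.leaf 122311))) (.node (.node (.leaf 50690) (.leaf 110964)) (.node (.leaf 98078) (.leaf 136596))))))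
def dFin_483 : BT := .node (.node (.node (.node (.node (.node (.node (.leaf 122) (.leaf 138467)) (.leaf 67055)) (.node (.leaf 100689) (.leaf 119024))) (.node (.node (.leaf 45351) (.leaf 85511)) (.node (.leaf 56481) (.leaf 124245)))) (.node (.node (.node (.leaf 41463) (.leaf 99960)) (.node (.leaf 53881) (.leaf 137420))) (.node (.node (.leaf 47291) (.leaf 109123)) (.node (.leaf 102483) (.leaf 131591))))) (.node (.node (.node (.node (.node (.leaf 2445) (.leaf 140814)) (.leaf 69239)) (.node (.leaf 60556) (.leaf 114741))) (.node (.node (.leaf 24153) (.leaf 91122)) (.node (.leaf 102113) (.leaf 131489)))) (.node (.node (.node (.leaf 36938) (.leaf 101781)) (.node (.leaf 55260) (.leaf 120971))) (.node (.node (.leaf 65110) (.leaf 109728)) (.node (.leaf 107044) (.leaf 135262)))))) (.node (.node (.node (.node (.node (.node (.leaf 46194) (.leaf 139542)) (.leaf 102951)) (.node (.leaf 51916) (.leaf 113220))) (.node (.node (.leaf 42086) (.leaf 89381)) (.node (.leaf 57546) (.leaf 126331)))) (.node (.node (.node (.leaf 12893) (.leaf 98322)) (.node (.leaf 101813) (.leaf 119557)))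 (.node (.node (.leaf 48421) (.leaf 108316)) (.node (.leaf 100057) (.leaf 133379))))) (.node (.node (.node (.node (.leaf 34500) (.leaf 70301)) (.node (.leaf 53223) (.leaf 116527))) (.node (.node (.leaf 49118) (.leaf 93279)) (.node (.leaf 59865) (.leaf 136913)))) (.node (.node (.node (.leaf 48762) (.leaf 81621)) (.node (.leaf 97853) (.leaf 122070))) (.node (.node (.leaf 50517) (.leaf 110767)) (.node (.leaf 115070) (.leaf 136786))))))
def dFin_491 : BT := .node (.node (.node (.node (.node (.node (.node (.leaf 82) (.leaf 138596)) (.leaf 106592)) (.node (.leaf 105530) (.leaf 111921))) (.node (.node (.leaf 122971) (.leaf 85325)) (.node (.leaf 105619) (.leaf 124444)))) (.node (.node (.node (.leaf 12054) (.leaf 72682)) (.node (.leaf 53599) (.leaf 117743))) (.node (.node (.leaf 47235) (.leaf 115670)) (.node (.leaf 61056) (.leaf 136421))))) (.node (.node (.node (.node (.node (.leaf 37592) (.leaf 140710)) (.leaf 97872)) (.node (.leaf 52504) (.leaf 114627))) (.node (.node (.leaf 42522) (.leaf 91277)) (.node (.leaf 58852) (.leaf 127692)))) (.node (.node (.node (.leaf 13769)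 (.leaf 78177)) (.node (.leaf 100144) (.leaf 127168))) (.node (.node (.leaf 49382) (.leaf 121471)) (.node (.leaf 105468) (.leaf 137215)))))) (.node (.node (.node (.node (.node (.node (.leaf 48232) (.leaf 139467)) (.leaf 68113)) (.node (.leaf 51780) (.leaf 116515))) (.node (.node (.leaf 22997) (.leaf 87758)) (.node (.leaf 57653) (.leaf 126787)))) (.node (.node (.node (.leaf 41394) (.leaf 75251)) (.node (.leaf 54357) (.leaf 119272))) (.node (.node (.leaf 48353) (.leaf 124874)) (.node (.leaf 104066) (.leaf 133373))))) (.node (.node (.node (.node (.leaf 6537) (.leaf 70429)) (.node (.leaf 61336) (.leaf 116266))) (.node (.node (.leaf 25438) (.leaf 93177)) (.node (.leaf 60117) (.leaf 129360)))) (.node (.node (.node (.leaf 49999) (.leaf 110120)) (.node (.leaf 67148) (.leaf 122201))) (.node (.node (.leaf 50443) (.leaf 133738)) (.node (.leaf 106473) (.leaf 136648))))))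
def dFin_498 : BT := .node (.node (.node (.node (.node (.node (.node (.leaf 10678) (.leaf 138533)) (.leaf 96493)) (.node (.leaf 51454) (.leaf 112043))) (.node (.node (.leaf 42254) (.leaf 90330)) (.node (.leaf 56374) (.leaf 124627)))) (.node (.node (.node (.leaf 12111) (.leaf 73119)) (.node (.leaf 95217) (.leaf 117840))) (.node (.node (.leaf 47391) (.leaf 105621)) (.node (.leaf 61568) (.leaf 136212))))) (.node (.node (.node (.node (.node (.leaf 8419) (.leaf 140862)) (.leaf 69171)) (.node (.leaf 52756) (.leaf 114791))) (.node (.node (.leaf 46445) (.leaf 106282)) (.node (.leaf 58696) (.leaf 127473)))) (.node (.node (.node (.leaf 65418) (.leaf 79203)) (.node (.leaf 118138) (.leaf 121050))) (.node (.node (.leaf 49495) (.leaf 109673)) (.node (.leaf 101227) (.leaf 135357)))))) (.node (.node (.node (.node (.node (.node (.leaf 1337) (.leaf 140100)) (.leaf 68007)) (.node (.leaf 52029) (.leaf 113292))) (.node (.node (.leaf 23635) (.leaf 87925)) (.node (.leaf 57689) (.leaf 126146)))) (.node (.node (.node (.leaf 65883) (.leaf 140172)) (.node (.leaf 71253) (.leaf 119437))) (.node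 (.node (.leaf 48487) (.leaf 108484)) (.node (.leaf 104886) (.leaf 133293))))) (.node (.node (.node (.node (.leaf 38405) (.leaf 103278)) (.node (.leaf 53127) (.leaf 116545))) (.node (.node (.leaf 40618) (.leaf 93337)) (.node (.leaf 59767) (.leaf 129977)))) (.node (.node (.node (.leaf 17216) (.leaf 82235)) (.node (.leaf 55748) (.leaf 137488))) (.node (.node (.leaf 91574) (.leaf 122836)) (.node (.leaf 66239) (.leaf 136929))))))
def dFin_511 : BT := .node (.node (.node (.node (.node (.node (.node (.leaf 2) (.leaf 138249)) (.leaf 105178)) (.node (.leaf 91978) (.leaf 111795))) (.node (.node (.leaf 47624) (.leaf 92061)) (.node (.leaf 91964) (.leaf 124396)))) (.node (.node (.node (.leaf 11969) (.leaf 72296)) (.node (.leaf 105865) (.leaf 128013))) (.node (.node (.leaf 47400) (.leaf 94836)) (.node (.leaf 61114) (.leaf 131051))))) (.node (.node (.node (.node (.node (.leaf 47046) (.leaf 140564)) (.leaf 69018)) (.node (.leaf 52570) (.leaf 121698))) (.node (.node (.leaf 91560) (.leaf 90879)) (.node (.leaf 58916) (.leaf 127756)))) (.node (.node (.node (.leaf 40734) (.leaf 77900))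 (.node (.leaf 54866) (.leaf 120662))) (.node (.node (.leaf 49265) (.leaf 109497)) (.node (.leaf 96416) (.leaf 134843)))))) (.node (.node (.node (.node (.node (.node (.leaf 6338) (.leaf 140320)) (.leaf 68177)) (.node (.leaf 133351) (.leaf 113010))) (.node (.node (.leaf 22524) (.leaf 87161)) (.node (.leaf 104048) (.leaf 126034)))) (.node (.node (.node (.leaf 12782) (.leaf 105774)) (.node (.leaf 54178) (.leaf 118513))) (.node (.node (.leaf 48215) (.leaf 108091)) (.node (.leaf 62616) (.leaf 133072))))) (.node (.node (.node (.node (.leaf 39239) (.leaf 76788)) (.node (.leaf 53289) (.leaf 116104))) (.node (.node (.leaf 25375) (.leaf 93053)) (.node (.leaf 60241) (.leaf 129009)))) (.node (.node (.node (.leaf 47184) (.leaf 106065)) (.node (.leaf 102100) (.leaf 128722))) (.node (.node (.leaf 50332) (.leaf 110924)) (.node (.leaf 99078) (.leaf 136549))))))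
def dFin_518 : BT := .node (.node (.node (.node (.node (.node (.node (.leaf 90) (.leaf 138417)) (.leaf 67041)) (.node (.leaf 51520) (.leaf 113674))) (.node (.node (.leaf 45154) (.leaf 90940)) (.node (.leaf 56439) (.leaf 124303)))) (.node (.node (.node (.leaf 40795) (.leaf 104274)) (.node (.leaf 99204) (.leaf 117983))) (.node (.node (.leaf 47243) (.leaf 109128)) (.node (.leaf 76451) (.leaf 131657))))) (.node (.node (.node (.node (.node (.leaf 2438) (.leaf 140681)) (.leaf 68978)) (.node (.leaf 52630) (.leaf 114561))) (.node (.node (.leaf 48466) (.leaf 91108)) (.node (.leaf 58765) (.leaf 128130)))) (.node (.node (.node (.leaf 13789) (.leaf 94195)) (.node (.leaf 107119) (.leaf 120612))) (.node (.node (.leaf 50079) (.leaf 109599)) (.node (.leaf 92110) (.leaf 135115)))))) (.node (.node (.node (.node (.node (.node (.leaf 34917) (.leaf 140258)) (.leaf 86514)) (.node (.leaf 51895) (.leaf 113191))) (.node (.node (.leaf 22999) (.leaf 87727)) (.node (.leaf 57842) (.leaf 126131)))) (.node (.node (.node (.leaf 12845) (.leaf 132292)) (.node (.leaf 54296) (.leaf 125230))) (.node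 (.node (.leaf 100038) (.leaf 128049)) (.node (.leaf 73220) (.leaf 133380))))) (.node (.node (.node (.node (.leaf 10560) (.leaf 98192)) (.node (.leaf 53181) (.leaf 116136))) (.node (.node (.leaf 41319) (.leaf 135976)) (.node (.leaf 59823) (.leaf 129363)))) (.node (.node (.node (.leaf 17175) (.leaf 81853)) (.node (.leaf 55799) (.leaf 132358))) (.node (.node (.leaf 50445) (.leaf 110722)) (.node (.leaf 65965) (.leaf 136659))))))
def dFin_526 : BT := .node (.node (.node (.node (.node (.node (.node (.leaf 1674) (.leaf 138369)) (.leaf 67081)) (.node (.leaf 100102) (.leaf 111871))) (.node (.node (.leaf 19162) (.leaf 85132)) (.node (.leaf 109224) (.leaf 124383)))) (.node (.node (.node (.leaf 12050) (.leaf 99932)) (.node (.leaf 53635) (.leaf 124054))) (.node (.node (.leaf 47177) (.leaf 107083)) (.node (.leaf 61018) (.leaf 131133))))) (.node (.node (.node (.node (.node (.leaf 33663) (.leaf 140660)) (.leaf 97574)) (.node (.leaf 52450) (.leaf 114513))) (.node (.node (.leaf 24097) (.leaf 90441)) (.node (.leaf 59085) (.leaf 127578)))) (.node (.node (.node (.leaf 47552) (.leaf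 119955)) (.node (.leaf 54869) (.leaf 120602))) (.node (.node (.leaf 109206) (.leaf 136660)) (.node (.leaf 65088) (.leaf 135030)))))) (.node (.node (.node (.node (.node (.node (.leaf 45268) (.leaf 139393)) (.leaf 68081)) (.node (.leaf 51955) (.leaf 123107))) (.node (.node (.leaf 104373) (.leaf 87479)) (.node (.leaf 57618) (.leaf 126101)))) (.node (.node (.node (.leaf 40675) (.leaf 75059)) (.node (.leaf 114329) (.leaf 119318))) (.node (.node (.leaf 48297) (.leaf 108137)) (.node (.leaf 96200) (.leaf 133038))))) (.node (.node (.node (.node (.leaf 5428) (.leaf 70392)) (.node (.leaf 63428) (.leaf 116126))) (.node (.node (.leaf 46413) (.leaf 93115)) (.node (.leaf 59924) (.leaf 129312)))) (.node (.node (.node (.leaf 17121) (.leaf 81541)) (.node (.leaf 106979) (.leaf 122147))) (.node (.node (.leaf 50377) (.leaf 110842)) (.node (.leaf 129985) (.leaf 136591))))))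
def dFin_533 : BT := .node (.node (.node (.node (.node (.node (.node (.leaf 35569) (.leaf 138488)) (.leaf 105872)) (.node (.leaf 51400) (.leaf 111974))) (.node (.node (.leaf 19211) (.leaf 85481)) (.node (.leaf 56602) (.leaf 124256)))) (.node (.node (.node (.leaf 12069) (.leaf 105497)) (.node (.leaf 96446) (.leaf 122708))) (.node (.node (.leaf 119882) (.leaf 138537)) (.node (.leaf 102384) (.leaf 131600))))) (.node (.node (.node (.node (.node (.leaf 40148) (.leaf 140793)) (.leaf 97719)) (.node (.leaf 52738) (.leaf 114749))) (.node (.node (.leaf 41291) (.leaf 91225)) (.node (.leaf 58642) (.leaf 127984)))) (.node (.node (.node (.leaf 36946) (.leaf 78916)) (.node (.leaf 104922) (.leaf 121328))) (.node (.node (.leaf 49544) (.leaf 109724)) (.node (.leaf 64954) (.leaf 135270)))))) (.node (.node (.node (.node (.node (.node (.leaf 1416) (.leaf 139523)) (.leaf 67965)) (.node (.leaf 57025) (.leaf 113281))) (.node (.node (.leaf 46602) (.leaf 87688)) (.node (.leaf 57459) (.leaf 126862)))) (.node (.node (.node (.leaf 12901) (.leaf 98938)) (.node (.leaf 126854) (.leaf 119453)))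 (.node (.node (.leaf 59658) (.leaf 108319)) (.node (.leaf 92161) (.leaf 133356))))) (.node (.node (.node (.node (.leaf 37607) (.leaf 102057)) (.node (.leaf 100657) (.leaf 116535))) (.node (.node (.leaf 25508) (.leaf 93273)) (.node (.leaf 101794) (.leaf 130033)))) (.node (.node (.node (.leaf 98341) (.leaf 81631)) (.node (.leaf 55745) (.leaf 122012))) (.node (.node (.leaf 50525) (.leaf 111454)) (.node (.leaf 66225) (.leaf 136794))))))
def dFin_542 : BT := .node (.node (.node (.node (.node (.node (.node (.leaf 36880) (.leaf 138323)) (.leaf 94353)) (.node (.leaf 105498) (.leaf 111831))) (.node (.node (.leaf 19284) (.leaf 85175)) (.node (.leaf 100105) (.leaf 124321)))) (.node (.node (.node (.leaf 47134) (.leaf 72278)) (.node (.leaf 53664) (.leaf 122492))) (.node (.node (.leaf 47137) (.leaf 103247)) (.node (.leaf 61067) (.leaf 131060))))) (.node (.node (.node (.node (.node (.leaf 37138) (.leaf 140561)) (.leaf 108364)) (.node (.leaf 52511) (.leaf 114467))) (.node (.node (.leaf 42532) (.leaf 90850)) (.node (.leaf 58863) (.leaf 127699)))) (.node (.node (.node (.leaf 13739)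 (.leaf 87674)) (.node (.leaf 99645) (.leaf 120848))) (.node (.node (.leaf 49473) (.leaf 109489)) (.node (.leaf 96313) (.leaf 135001)))))) (.node (.node (.node (.node (.node (.node (.leaf 38848) (.leaf 139400)) (.leaf 68126)) (.node (.leaf 108756) (.leaf 130378))) (.node (.node (.leaf 22523) (.leaf 87553)) (.node (.leaf 57669) (.leaf 125993)))) (.node (.node (.node (.leaf 41381) (.leaf 75437)) (.node (.leaf 54155) (.leaf 137514))) (.node (.node (.leaf 48259) (.leaf 110956)) (.node (.leaf 113529) (.leaf 133095))))) (.node (.node (.node (.node (.leaf 5456) (.leaf 70182)) (.node (.leaf 61323) (.leaf 116277))) (.node (.node (.leaf 25389) (.leaf 93081)) (.node (.leaf 60137) (.leaf 128969)))) (.node (.node (.node (.leaf 121435) (.leaf 106314)) (.node (.leaf 102103) (.leaf 122214))) (.node (.node (.leaf 50405) (.leaf 111683)) (.node (.leaf 115275) (.leaf 136619))))))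
def dFin_549 : BT := .node (.node (.node (.node (.node (.node (.node (.leaf 8522) (.leaf 138445)) (.leaf 105913)) (.node (.leaf 51461) (.leaf 111983))) (.node (.node (.leaf 42246) (.leaf 90363)) (.node (.leaf 56382) (.leaf 124282)))) (.node (.node (.node (.leaf 12039) (.leaf 104472)) (.node (.leaf 96257) (.leaf 134840))) (.node (.node (.leaf 47273) (.leaf 138542)) (.node (.leaf 102813) (.leaf 131633))))) (.node (.node (.node (.node (.node (.leaf 37551) (.leaf 140757)) (.leaf 68957)) (.node (.leaf 52267) (.leaf 114709))) (.node (.node (.leaf 46376) (.leaf 101570)) (.node (.leaf 58704) (.leaf 127464)))) (.node (.node (.node (.leaf 48954) (.leaf 78933)) (.node (.leaf 140290) (.leaf 120943))) (.node (.node (.leaf 49399) (.leaf 109625)) (.node (.leaf 97281) (.leaf 135318)))))) (.node (.node (.node (.node (.node (.node (.leaf 1323) (.leaf 139520)) (.leaf 68012)) (.node (.leaf 58474) (.leaf 113160))) (.node (.node (.leaf 23102) (.leaf 87709)) (.node (.leaf 57706) (.leaf 126139)))) (.node (.node (.node (.leaf 49252) (.leaf 96611)) (.node (.leaf 97785) (.leaf 119262)))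 (.node (.node (.leaf 48389) (.leaf 108336)) (.node (.leaf 105582) (.leaf 133407))))) (.node (.node (.node (.node (.leaf 37948) (.leaf 98806)) (.node (.leaf 53132) (.leaf 116157))) (.node (.node (.leaf 40628) (.leaf 93191)) (.node (.leaf 101953) (.leaf 130066)))) (.node (.node (.node (.leaf 17165) (.leaf 81785)) (.node (.leaf 55764) (.leaf 132281))) (.node (.node (.leaf 50491) (.leaf 111744)) (.node (.leaf 66248) (.leaf 136803))))))
def dFin_557 : BT := .node (.node (.node (.node (.node (.node (.node (.leaf 8681) (.leaf 138395)) (.leaf 67060)) (.node (.leaf 106779) (.leaf 111950))) (.node (.node (.leaf 19180) (.leaf 84939)) (.node (.leaf 56490) (.leaf 124492)))) (.node (.node (.node (.leaf 41459) (.leaf 73180)) (.node (.leaf 53604) (.leaf 133578))) (.node (.node (.leaf 47213) (.leaf 115062)) (.node (.leaf 60955) (.leaf 131686))))) (.node (.node (.node (.node (.node (.leaf 2473) (.leaf 140678)) (.leaf 68997)) (.node (.leaf 52629) (.leaf 114657))) (.node (.node (.leaf 24130) (.leaf 90949)) (.node (.leaf 60265) (.leaf 137369)))) (.node (.node (.node (.leaf 91587) (.leaf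 106144)) (.node (.leaf 100175) (.leaf 120870))) (.node (.node (.leaf 49345) (.leaf 109436)) (.node (.leaf 105449) (.leaf 134973)))))) (.node (.node (.node (.node (.node (.node (.leaf 283) (.leaf 139447)) (.leaf 103585)) (.node (.leaf 51924) (.leaf 113091))) (.node (.node (.leaf 42646) (.leaf 89489)) (.node (.leaf 57565) (.leaf 126070)))) (.node (.node (.node (.leaf 12817) (.leaf 75393)) (.node (.leaf 54293) (.leaf 119300))) (.node (.node (.leaf 49193) (.leaf 136327)) (.node (.leaf 95731) (.leaf 132949))))) (.node (.node (.node (.node (.leaf 45792) (.leaf 70333)) (.node (.leaf 53228) (.leaf 116243))) (.node (.node (.leaf 100132) (.leaf 93161)) (.node (.leaf 59873) (.leaf 129168)))) (.node (.node (.node (.leaf 17141) (.leaf 81890)) (.node (.leaf 105292) (.leaf 122086))) (.node (.node (.leaf 50413) (.leaf 110783)) (.node (.leaf 95714) (.leaf 136724))))))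
def dFin_564 : BT := .node (.node (.node (.node (.node (.node (.node (.leaf 1288) (.leaf 138519)) (.leaf 67287)) (.node (.leaf 104139) (.leaf 112025))) (.node (.node (.leaf 19229) (.leaf 85460)) (.node (.leaf 57864) (.leaf 124586)))) (.node (.node (.node (.leaf 50114) (.leaf 107081)) (.node (.leaf 77587) (.leaf 117900))) (.node (.node (.leaf 47564) (.leaf 103237)) (.node (.leaf 106370) (.leaf 131563))))) (.node (.node (.node (.node (.node (.leaf 36625) (.leaf 140818)) (.leaf 103305)) (.node (.leaf 52715) (.leaf 121398))) (.node (.node (.leaf 40592) (.leaf 105976)) (.node (.leaf 105170) (.leaf 138381)))) (.node (.node (.node (.leaf 37021) (.leaf 78805)) (.node (.leaf 55251) (.leaf 121151))) (.node (.node (.leaf 81619) (.leaf 109760)) (.node (.leaf 64927) (.leaf 135414)))))) (.node (.node (.node (.node (.node (.node (.leaf 40147) (.leaf 139591)) (.leaf 67916)) (.node (.leaf 51799) (.leaf 113330))) (.node (.node (.leaf 23867) (.leaf 101272)) (.node (.leaf 57398) (.leaf 132705)))) (.node (.node (.node (.leaf 12923) (.leaf 75615)) (.node (.leaf 105291) (.leaf 119414)))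 (.node (.node (.leaf 49774) (.leaf 108270)) (.node (.leaf 99956) (.leaf 135321))))) (.node (.node (.node (.node (.leaf 7059) (.leaf 101814)) (.node (.leaf 103639) (.leaf 129182))) (.node (.node (.leaf 25913) (.leaf 93253)) (.node (.leaf 107240) (.leaf 130003)))) (.node (.node (.node (.leaf 42327) (.leaf 82454)) (.node (.leaf 55716) (.leaf 121893))) (.node (.node (.leaf 50565) (.leaf 110648)) (.node (.leaf 71216) (.leaf 136971))))))
def dFin_574 : BT := .node (.node (.node (.node (.node (.node (.node (.leaf 1040) (.leaf 138301)) (.leaf 66837)) (.node (.leaf 56547) (.leaf 111855))) (.node (.node (.leaf 47062) (.leaf 84989)) (.node (.leaf 56306) (.leaf 124351)))) (.node (.node (.node (.leaf 13032) (.leaf 101659)) (.node (.leaf 119299) (.leaf 117679))) (.node (.node (.leaf 73212) (.leaf 94881)) (.node (.leaf 121726) (.leaf 131030))))) (.node (.node (.node (.node (.node (.leaf 36980) (.leaf 140551)) (.leaf 68929)) (.node (.leaf 52243) (.leaf 114455))) (.node (.node (.leaf 24083) (.leaf 104930)) (.node (.leaf 98486) (.leaf 127888)))) (.node (.node (.node (.leaf 106454)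 (.leaf 77985)) (.node (.leaf 54993) (.leaf 120675))) (.node (.node (.leaf 49273) (.leaf 109510)) (.node (.leaf 64601) (.leaf 134849)))))) (.node (.node (.node (.node (.node (.node (.leaf 39375) (.leaf 139383)) (.leaf 100990)) (.node (.leaf 51847) (.leaf 122953))) (.node (.node (.leaf 41971) (.leaf 101194)) (.node (.leaf 57371) (.leaf 134096)))) (.node (.node (.node (.leaf 36304) (.leaf 74949)) (.node (.leaf 54143) (.leaf 132118))) (.node (.node (.leaf 48709) (.leaf 108103)) (.node (.leaf 62769) (.leaf 134545))))) (.node (.node (.node (.node (.leaf 45759) (.leaf 111900)) (.node (.leaf 104074) (.leaf 116378))) (.node (.node (.leaf 110044) (.leaf 93092)) (.node (.leaf 77651) (.leaf 129054)))) (.node (.node (.node (.leaf 17095) (.leaf 81266)) (.node (.leaf 102106) (.leaf 121928))) (.node (.node (.leaf 50321) (.leaf 110621)) (.node (.leaf 72215) (.leaf 136568))))))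
def dFin_581 : BT := .node (.node (.node (.node (.node (.node (.node (.leaf 38443) (.leaf 139605)) (.leaf 105797)) (.node (.leaf 100508) (.leaf 112004))) (.node (.node (.leaf 19189) (.leaf 85581)) (.node (.leaf 100579) (.leaf 132348)))) (.node (.node (.node (.leaf 39028) (.leaf 74470)) (.node (.leaf 54066) (.leaf 117893))) (.node (.node (.leaf 47303) (.leaf 109087)) (.node (.leaf 61155) (.leaf 131364))))) (.node (.node (.node (.node (.node (.leaf 45462) (.leaf 140733)) (.leaf 68945)) (.node (.leaf 101051) (.leaf 114563))) (.node (.node (.leaf 45747) (.leaf 91202)) (.node (.leaf 109358) (.leaf 127792)))) (.node (.node (.node (.leaf 44631) (.leaf 78191)) (.node (.leaf 54941) (.leaf 120920))) (.node (.node (.leaf 49468) (.leaf 109615)) (.node (.leaf 64836) (.leaf 135304)))))) (.node (.node (.node (.node (.node (.node (.leaf 37587) (.leaf 139489)) (.leaf 140096)) (.node (.leaf 104623) (.leaf 113164))) (.node (.node (.leaf 111785) (.leaf 119850)) (.node (.leaf 103863) (.leaf 126564)))) (.node (.node (.node (.leaf 12851) (.leaf 75206)) (.node (.leaf 60906) (.leaf 119110)))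 (.node (.node (.leaf 48373) (.leaf 108199)) (.node (.leaf 63394) (.leaf 135661))))) (.node (.node (.node (.node (.leaf 6555) (.leaf 70573)) (.node (.leaf 100312) (.leaf 119860))) (.node (.node (.leaf 25419) (.leaf 93246)) (.node (.leaf 60069) (.leaf 129351)))) (.node (.node (.node (.leaf 41771) (.leaf 105278)) (.node (.leaf 55331) (.leaf 122283))) (.node (.node (.leaf 50465) (.leaf 111009)) (.node (.leaf 101660) (.leaf 136816))))))
def dFin_589 : BT := .node (.node (.node (.node (.node (.node (.node (.leaf 8451) (.leaf 138384)) (.leaf 101564)) (.node (.leaf 51292) (.leaf 111891))) (.node (.node (.leaf 41667) (.leaf 121344)) (.node (.leaf 56185) (.leaf 124505)))) (.node (.node (.node (.leaf 37578) (.leaf 72964)) (.node (.leaf 105376) (.leaf 120830))) (.node (.node (.leaf 47260) (.leaf 95886)) (.node (.leaf 61247) (.leaf 131119))))) (.node (.node (.node (.node (.node (.leaf 35963) (.leaf 140655)) (.leaf 110239)) (.node (.leaf 58808) (.leaf 114628))) (.node (.node (.leaf 95227) (.leaf 105504)) (.node (.leaf 75541) (.leaf 127632)))) (.node (.node (.node (.leaf 13774)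 (.leaf 78328)) (.node (.leaf 81036) (.leaf 120640))) (.node (.node (.leaf 49329) (.leaf 109472)) (.node (.leaf 65076) (.leaf 134971)))))) (.node (.node (.node (.node (.node (.node (.leaf 38624) (.leaf 139449)) (.leaf 104715)) (.node (.leaf 106301) (.leaf 113069))) (.node (.node (.leaf 22533) (.leaf 87832)) (.node (.leaf 91824) (.leaf 126077)))) (.node (.node (.node (.leaf 37270) (.leaf 75439)) (.node (.leaf 54470) (.leaf 119158))) (.node (.node (.leaf 48309) (.leaf 114464)) (.node (.leaf 62702) (.leaf 132986))))) (.node (.node (.node (.node (.leaf 45860) (.leaf 96101)) (.node (.leaf 140382) (.leaf 116316))) (.node (.node (.leaf 44757) (.leaf 93129)) (.node (.leaf 101488) (.leaf 129317)))) (.node (.node (.node (.leaf 45809) (.leaf 81571)) (.node (.leaf 55428) (.leaf 122521))) (.node (.node (.leaf 50400) (.leaf 120775)) (.node (.leaf 66001) (.leaf 136681))))))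
def dFin_596 : BT := .node (.node (.node (.node (.node (.node (.node (.leaf 32767) (.leaf 138493)) (.leaf 99277)) (.node (.leaf 51158) (.leaf 134963))) (.node (.node (.leaf 19223) (.leaf 106912)) (.node (.leaf 100888) (.leaf 124528)))) (.node (.node (.node (.leaf 12075) (.leaf 72778)) (.node (.leaf 96465) (.leaf 117861))) (.node (.node (.leaf 47373) (.leaf 95837)) (.node (.leaf 61132) (.leaf 136529))))) (.node (.node (.node (.node (.node (.leaf 2616) (.leaf 140805)) (.leaf 69295)) (.node (.leaf 98950) (.leaf 114771))) (.node (.node (.leaf 24163) (.leaf 91170)) (.node (.leaf 58948) (.leaf 131505)))) (.node (.node (.node (.leaf 41358) (.leaf 78803)) (.node (.leaf 55102) (.leaf 121141))) (.node (.node (.leaf 49448) (.leaf 109662)) (.node (.leaf 105341) (.leaf 135386)))))) (.node (.node (.node (.node (.node (.node (.leaf 46176) (.leaf 139576)) (.leaf 102943)) (.node (.leaf 105569) (.leaf 113299))) (.node (.node (.leaf 45633) (.leaf 87669)) (.node (.leaf 100928) (.leaf 126444)))) (.node (.node (.node (.leaf 12907) (.leaf 75646)) (.node (.leaf 54406) (.leaf 122747)))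 (.node (.node (.leaf 48445) (.leaf 108281)) (.node (.leaf 63081) (.leaf 133324))))) (.node (.node (.node (.node (.leaf 36530) (.leaf 102131)) (.node (.leaf 53312) (.leaf 116520))) (.node (.node (.leaf 35459) (.leaf 93350)) (.node (.leaf 59990) (.leaf 129948)))) (.node (.node (.node (.leaf 17183) (.leaf 99107)) (.node (.leaf 98065) (.leaf 121881))) (.node (.node (.leaf 50553) (.leaf 123007)) (.node (.leaf 66119) (.leaf 137600))))))
def dFin_605 : BT := .node (.node (.node (.node (.node (.node (.node (.leaf 92) (.leaf 138359)) (.leaf 66992)) (.node (.leaf 51353) (.leaf 111859))) (.node (.node (.leaf 45287) (.leaf 102532)) (.node (.leaf 56247) (.leaf 124362)))) (.node (.node (.node (.leaf 42636) (.leaf 72507)) (.node (.leaf 105372) (.leaf 117638))) (.node (.node (.leaf 50590) (.leaf 94903)) (.node (.leaf 100318) (.leaf 131085))))) (.node (.node (.node (.node (.node (.leaf 2138) (.leaf 140615)) (.leaf 97589)) (.node (.leaf 81624) (.leaf 114491))) (.node (.node (.leaf 49430) (.leaf 102219)) (.node (.leaf 98667) (.leaf 127910)))) (.node (.node (.node (.leaf 42663) (.leaf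 77921)) (.node (.leaf 54968) (.leaf 120649))) (.node (.node (.leaf 49303) (.leaf 109474)) (.node (.leaf 64533) (.leaf 135080)))))) (.node (.node (.node (.node (.node (.node (.leaf 38837) (.leaf 139424)) (.leaf 103656)) (.node (.leaf 51816) (.leaf 113031))) (.node (.node (.leaf 41151) (.leaf 95960)) (.node (.leaf 91580) (.leaf 126087)))) (.node (.node (.node (.leaf 12836) (.leaf 75299)) (.node (.leaf 54501) (.leaf 137586))) (.node (.node (.leaf 129302) (.leaf 121694)) (.node (.leaf 62737) (.leaf 133011))))) (.node (.node (.node (.node (.leaf 5499) (.leaf 92118)) (.node (.leaf 73233) (.leaf 116344))) (.node (.node (.leaf 25416) (.leaf 122780)) (.node (.leaf 117933) (.leaf 128971)))) (.node (.node (.node (.leaf 17113) (.leaf 81237)) (.node (.leaf 64342) (.leaf 123408))) (.node (.node (.leaf 50367) (.leaf 110560)) (.node (.leaf 66024) (.leaf 136585))))))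
def dFin_612 : BT := .node (.node (.node (.node (.node (.node (.node (.leaf 444) (.leaf 138457)) (.leaf 105897)) (.node (.leaf 100659) (.leaf 111984))) (.node (.node (.leaf 19235) (.leaf 105680)) (.node (.leaf 104607) (.leaf 136222)))) (.node (.node (.node (.leaf 42615) (.leaf 73159)) (.node (.leaf 54019) (.leaf 117874))) (.node (.node (.leaf 47277) (.leaf 95871)) (.node (.leaf 102914) (.leaf 131315))))) (.node (.node (.node (.node (.node (.leaf 40142) (.leaf 140775)) (.leaf 69330)) (.node (.leaf 125333) (.leaf 114731))) (.node (.node (.leaf 46382) (.leaf 91187)) (.node (.leaf 58592) (.leaf 127971)))) (.node (.node (.node (.leaf 47642) (.leaf 100967)) (.node (.leaf 54891) (.leaf 120969))) (.node (.node (.leaf 49407) (.leaf 109737)) (.node (.leaf 64798) (.leaf 135248)))))) (.node (.node (.node (.node (.node (.node (.leaf 46184) (.leaf 139548)) (.leaf 102758)) (.node (.leaf 104498) (.leaf 113206))) (.node (.node (.leaf 46127) (.leaf 101939)) (.node (.leaf 127975) (.leaf 126505)))) (.node (.node (.node (.leaf 12887) (.leaf 75119)) (.node (.leaf 97865) (.leaf 119467)))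 (.node (.node (.leaf 48838) (.leaf 108346)) (.node (.leaf 63138) (.leaf 133347))))) (.node (.node (.node (.node (.leaf 34494) (.leaf 70514)) (.node (.leaf 53361) (.leaf 119862))) (.node (.node (.leaf 65305) (.leaf 93217)) (.node (.leaf 60030) (.leaf 129967)))) (.node (.node (.node (.leaf 41043) (.leaf 105266)) (.node (.leaf 97098) (.leaf 122250))) (.node (.node (.leaf 50509) (.leaf 125500)) (.node (.leaf 88605) (.leaf 136772))))))
def dFin_620 : BT := .node (.node (.node (.node (.node (.node (.node (.leaf 37919) (.leaf 138407)) (.leaf 91226)) (.node (.leaf 51233) (.leaf 111895))) (.node (.node (.leaf 38881) (.leaf 104945)) (.node (.leaf 103857) (.leaf 124479)))) (.node (.node (.node (.leaf 12060) (.leaf 72908)) (.node (.leaf 53593) (.leaf 122876))) (.node (.node (.leaf 121557) (.leaf 115074)) (.node (.leaf 61200) (.leaf 131419))))) (.node (.node (.node (.node (.node (.leaf 33516) (.leaf 140721)) (.leaf 102967)) (.node (.leaf 65881) (.leaf 114685))) (.node (.node (.leaf 65270) (.leaf 99797)) (.node (.leaf 99052) (.leaf 127848)))) (.node (.node (.node (.leaf 13767)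 (.leaf 78238)) (.node (.leaf 99998) (.leaf 120606))) (.node (.node (.leaf 49665) (.leaf 109413)) (.node (.leaf 64869) (.leaf 135107)))))) (.node (.node (.node (.node (.node (.node (.leaf 493) (.leaf 139461)) (.leaf 68214)) (.node (.leaf 73727) (.leaf 113186))) (.node (.node (.leaf 46617) (.leaf 103397)) (.node (.leaf 104195) (.leaf 136301)))) (.node (.node (.node (.leaf 42323) (.leaf 77371)) (.node (.leaf 54441) (.leaf 119135))) (.node (.node (.leaf 48343) (.leaf 108206)) (.node (.leaf 95584) (.leaf 132971))))) (.node (.node (.node (.node (.leaf 8805) (.leaf 70630)) (.node (.leaf 126893) (.leaf 116259))) (.node (.node (.leaf 26188) (.leaf 93167)) (.node (.leaf 60325) (.leaf 131082)))) (.node (.node (.node (.leaf 46712) (.leaf 114712)) (.node (.leaf 55381) (.leaf 132524))) (.node (.node (.leaf 50429) (.leaf 110994)) (.node (.leaf 65976) (.leaf 136675))))))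
def dFin_627 : BT := .node (.node (.node (.node (.node (.node (.node (.leaf 34491) (.leaf 138527)) (.leaf 113231)) (.node (.leaf 116308) (.leaf 112031))) (.node (.node (.leaf 45018) (.leaf 106031)) (.node (.leaf 107015) (.leaf 124613)))) (.node (.node (.node (.leaf 12109) (.leaf 72711)) (.node (.leaf 82084) (.leaf 134549))) (.node (.node (.leaf 47343) (.leaf 95847)) (.node (.leaf 60989) (.leaf 131551))))) (.node (.node (.node (.node (.node (.leaf 2642) (.leaf 140847)) (.leaf 69255)) (.node (.leaf 52822) (.leaf 114868))) (.node (.node (.leaf 95098) (.leaf 91221)) (.node (.leaf 58895) (.leaf 127731)))) (.node (.node (.node (.leaf 36043) (.leaf 99551)) (.node (.leaf 118088) (.leaf 121110))) (.node (.node (.leaf 49445) (.leaf 109681)) (.node (.leaf 108172) (.leaf 140960)))))) (.node (.node (.node (.node (.node (.node (.leaf 46053) (.leaf 140034)) (.leaf 68149)) (.node (.leaf 51984) (.leaf 113258))) (.node (.node (.leaf 23638) (.leaf 87909)) (.node (.leaf 101319) (.leaf 128941)))) (.node (.node (.node (.leaf 12948) (.leaf 105593)) (.node (.leaf 54377) (.leaf 131992)))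 (.node (.node (.leaf 48471) (.leaf 108494)) (.node (.leaf 63030) (.leaf 137616))))) (.node (.node (.node (.node (.leaf 35355) (.leaf 70813)) (.node (.leaf 53265) (.leaf 116493))) (.node (.node (.leaf 25865) (.leaf 93295)) (.node (.leaf 60296) (.leaf 129935)))) (.node (.node (.node (.leaf 36257) (.leaf 102485)) (.node (.leaf 55640) (.leaf 122525))) (.node (.node (.leaf 50637) (.leaf 124021)) (.node (.leaf 98831) (.leaf 136881))))))
def dFin_638 : BT := .node (.node (.node (.node (.node (.node (.node (.leaf 10) (.leaf 138217)) (.leaf 66833)) (.node (.leaf 51528) (.leaf 111840))) (.node (.node (.leaf 44905) (.leaf 90866)) (.node (.leaf 56448) (.leaf 124343)))) (.node (.node (.node (.leaf 40869) (.leaf 95809)) (.node (.leaf 104672) (.leaf 123010))) (.node (.node (.leaf 47109) (.leaf 103084)) (.node (.leaf 76508) (.leaf 131053))))) (.node (.node (.node (.node (.node (.leaf 2192) (.leaf 140543)) (.leaf 68986)) (.node (.leaf 58996) (.leaf 121310))) (.node (.node (.leaf 48538) (.leaf 90486)) (.node (.leaf 58777) (.leaf 127886)))) (.node (.node (.node (.leaf 13740) (.leaf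 101924)) (.node (.leaf 101053) (.leaf 120669))) (.node (.node (.leaf 49287) (.leaf 109498)) (.node (.leaf 95798) (.leaf 134835)))))) (.node (.node (.node (.node (.node (.node (.leaf 38519) (.leaf 139928)) (.leaf 99758)) (.node (.leaf 51903) (.leaf 112954))) (.node (.node (.leaf 22505) (.leaf 87173)) (.node (.leaf 57811) (.leaf 126043)))) (.node (.node (.node (.leaf 13530) (.leaf 126706)) (.node (.leaf 95966) (.leaf 118769))) (.node (.node (.leaf 48243) (.leaf 113128)) (.node (.leaf 76043) (.leaf 133091))))) (.node (.node (.node (.node (.leaf 38239) (.leaf 71266)) (.node (.leaf 53197) (.leaf 116542))) (.node (.node (.leaf 41336) (.leaf 122648)) (.node (.leaf 59839) (.leaf 129140)))) (.node (.node (.node (.leaf 17102) (.leaf 81328)) (.node (.leaf 102104) (.leaf 122387))) (.node (.node (.leaf 50313) (.leaf 110737)) (.node (.leaf 66106) (.leaf 137008))))))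
def dFin_645 : BT := .node (.node (.node (.node (.node (.node (.node (.leaf 1043) (.leaf 138427)) (.leaf 67005)) (.node (.leaf 56539) (.leaf 112006))) (.node (.node (.leaf 45318) (.leaf 85337)) (.node (.leaf 56297) (.leaf 124507)))) (.node (.node (.node (.leaf 46106) (.leaf 104280)) (.node (.leaf 136578) (.leaf 117977))) (.node (.node (.leaf 110231) (.leaf 95910)) (.node (.leaf 138698) (.leaf 131672))))) (.node (.node (.node (.node (.node (.leaf 37600) (.leaf 140730)) (.leaf 95965)) (.node (.leaf 101214) (.leaf 114666))) (.node (.node (.leaf 24127) (.leaf 102567)) (.node (.leaf 99184) (.leaf 127941)))) (.node (.node (.node (.leaf 106558) (.leaf 78179)) (.node (.leaf 54985) (.leaf 120632))) (.node (.node (.leaf 49371) (.leaf 121462)) (.node (.leaf 64913) (.leaf 135127)))))) (.node (.node (.node (.node (.node (.node (.leaf 8821) (.leaf 139481)) (.leaf 104173)) (.node (.leaf 51839) (.leaf 113116))) (.node (.node (.leaf 41965) (.leaf 98567)) (.node (.leaf 57352) (.leaf 128926)))) (.node (.node (.node (.leaf 37426) (.leaf 75257)) (.node (.leaf 94907) (.leaf 122316)))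 (.node (.node (.leaf 48382) (.leaf 108189)) (.node (.leaf 63323) (.leaf 133365))))) (.node (.node (.node (.node (.leaf 32880) (.leaf 106503)) (.node (.leaf 103696) (.leaf 116190))) (.node (.node (.leaf 46620) (.leaf 93200)) (.node (.leaf 99248) (.leaf 129341)))) (.node (.node (.node (.leaf 17155) (.leaf 81760)) (.node (.leaf 61996) (.leaf 121911))) (.node (.node (.leaf 50457) (.leaf 110606)) (.node (.leaf 71994) (.leaf 136806))))))
def dFin_653 : BT := .node (.node (.node (.node (.node (.node (.node (.leaf 33855) (.leaf 138386)) (.leaf 75010)) (.node (.leaf 51408) (.leaf 111879))) (.node (.node (.leaf 19165) (.leaf 85041)) (.node (.leaf 56590) (.leaf 124275)))) (.node (.node (.node (.leaf 37574) (.leaf 95240)) (.node (.leaf 53586) (.leaf 122826))) (.node (.node (.leaf 50820) (.leaf 140605)) (.node (.leaf 103868) (.leaf 131107))))) (.node (.node (.node (.node (.node (.leaf 45943) (.leaf 140649)) (.leaf 108296)) (.node (.leaf 52334) (.leaf 114521))) (.node (.node (.leaf 41239) (.leaf 113300)) (.node (.leaf 58657) (.leaf 127916)))) (.node (.node (.node (.leaf 47804)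 (.leaf 78437)) (.node (.leaf 106338) (.leaf 120782))) (.node (.node (.leaf 49338) (.leaf 109458)) (.node (.leaf 64969) (.leaf 135566)))))) (.node (.node (.node (.node (.node (.node (.leaf 1452) (.leaf 139453)) (.leaf 67981)) (.node (.leaf 57118) (.leaf 113096))) (.node (.node (.leaf 46648) (.leaf 87487)) (.node (.leaf 57483) (.leaf 136291)))) (.node (.node (.node (.leaf 47892) (.leaf 97971)) (.node (.leaf 105488) (.leaf 119330))) (.node (.node (.leaf 48328) (.leaf 108149)) (.node (.leaf 96204) (.leaf 133046))))) (.node (.node (.node (.node (.leaf 38041) (.leaf 70739)) (.node (.leaf 104741) (.leaf 116390))) (.node (.node (.leaf 25410) (.leaf 93148)) (.node (.leaf 98980) (.leaf 129324)))) (.node (.node (.node (.leaf 121749) (.leaf 81559)) (.node (.leaf 55520) (.leaf 122031))) (.node (.node (.leaf 50383) (.leaf 110979)) (.node (.leaf 66045) (.leaf 136595))))))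
def dFin_660 : BT := .node (.node (.node (.node (.node (.node (.node (.leaf 8764) (.leaf 138481)) (.leaf 67094)) (.node (.leaf 51284) (.leaf 133512))) (.node (.node (.leaf 41683) (.leaf 113393)) (.node (.leaf 56173) (.leaf 124519)))) (.node (.node (.node (.leaf 37014) (.leaf 72940)) (.node (.leaf 96450) (.leaf 117943))) (.node (.node (.leaf 47380) (.leaf 95864)) (.node (.leaf 61136) (.leaf 131583))))) (.node (.node (.node (.node (.node (.leaf 36618) (.leaf 140801)) (.leaf 119277)) (.node (.leaf 96261) (.leaf 115398))) (.node (.node (.leaf 97411) (.leaf 106243)) (.node (.leaf 79668) (.leaf 127623)))) (.node (.node (.node (.leaf 13845) (.leaf 78873)) (.node (.leaf 99660) (.leaf 120985))) (.node (.node (.leaf 49452) (.leaf 109732)) (.node (.leaf 65024) (.leaf 135397)))))) (.node (.node (.node (.node (.node (.node (.leaf 38803) (.leaf 140927)) (.leaf 67888)) (.node (.leaf 100043) (.leaf 113327))) (.node (.node (.leaf 23121) (.leaf 87677)) (.node (.leaf 86508) (.leaf 127980)))) (.node (.node (.node (.leaf 84933) (.leaf 75804)) (.node (.leaf 54462) (.leaf 119459))) (.node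 (.node (.leaf 48431) (.leaf 108334)) (.node (.leaf 63231) (.leaf 133204))))) (.node (.node (.node (.node (.leaf 27545) (.leaf 102118)) (.node (.leaf 109871) (.leaf 116509))) (.node (.node (.leaf 36538) (.leaf 93313)) (.node (.leaf 105416) (.leaf 130041)))) (.node (.node (.node (.leaf 46678) (.leaf 81643)) (.node (.leaf 55709) (.leaf 121878))) (.node (.node (.leaf 50535) (.leaf 110480)) (.node (.leaf 66176) (.leaf 136973))))))
def dFin_669 : BT := .node (.node (.node (.node (.node (.node (.node (.leaf 14) (.leaf 138335)) (.leaf 102806)) (.node (.leaf 51469) (.leaf 111843))) (.node (.node (.leaf 38811) (.leaf 89877)) (.node (.leaf 56397) (.leaf 124329)))) (.node (.node (.node (.leaf 11985) (.leaf 72528)) (.node (.leaf 104560) (.leaf 135831))) (.node (.node (.leaf 47161) (.leaf 112168)) (.node (.leaf 104080) (.leaf 134562))))) (.node (.node (.node (.node (.node (.leaf 33521) (.leaf 140608)) (.leaf 68969)) (.node (.leaf 52395) (.leaf 114483))) (.node (.node (.leaf 48842) (.leaf 105921)) (.node (.leaf 58716) (.leaf 127453)))) (.node (.node (.node (.leaf 49578) (.leaf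 77907)) (.node (.leaf 101199) (.leaf 120836))) (.node (.node (.leaf 49341) (.leaf 109561)) (.node (.leaf 98729) (.leaf 135066)))))) (.node (.node (.node (.node (.node (.node (.leaf 1371) (.leaf 139373)) (.leaf 68028)) (.node (.leaf 58460) (.leaf 112944))) (.node (.node (.leaf 22536) (.leaf 87514)) (.node (.leaf 57750) (.leaf 126081)))) (.node (.node (.node (.leaf 12807) (.leaf 113725)) (.node (.leaf 62867) (.leaf 118525))) (.node (.node (.leaf 48271) (.leaf 122978)) (.node (.leaf 139666) (.leaf 133062))))) (.node (.node (.node (.node (.leaf 37476) (.leaf 70765)) (.node (.leaf 53148) (.leaf 116334))) (.node (.node (.leaf 40631) (.leaf 93154)) (.node (.leaf 98420) (.leaf 129050)))) (.node (.node (.node (.leaf 17395) (.leaf 81301)) (.node (.leaf 55569) (.leaf 125349))) (.node (.node (.leaf 126783) (.leaf 120133)) (.node (.leaf 66068) (.leaf 136623))))))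
def dFin_676 : BT := .node (.node (.node (.node (.node (.node (.node (.leaf 8591) (.leaf 138453)) (.leaf 66984)) (.node (.leaf 51345) (.leaf 117498))) (.node (.node (.leaf 45047) (.leaf 106896)) (.node (.leaf 56232) (.leaf 124224)))) (.node (.node (.node (.leaf 52146) (.leaf 73004)) (.node (.leaf 131594) (.leaf 117955))) (.node (.node (.leaf 47247) (.leaf 95891)) (.node (.leaf 101451) (.leaf 131641))))) (.node (.node (.node (.node (.node (.leaf 2405) (.leaf 140765)) (.leaf 69410)) (.node (.leaf 96150) (.leaf 114719))) (.node (.node (.leaf 49267) (.leaf 106093)) (.node (.leaf 101975) (.leaf 137548)))) (.node (.node (.node (.leaf 42708) (.leaf 100492)) (.node (.leaf 54887) (.leaf 120951))) (.node (.node (.leaf 49403) (.leaf 109629)) (.node (.leaf 64995) (.leaf 135206)))))) (.node (.node (.node (.node (.node (.node (.leaf 37935) (.leaf 139556)) (.leaf 85219)) (.node (.leaf 51808) (.leaf 119628))) (.node (.node (.leaf 41180) (.leaf 87662)) (.node (.leaf 103492) (.leaf 126888)))) (.node (.node (.node (.leaf 44732) (.leaf 75109)) (.node (.leaf 54493) (.leaf 122279)))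 (.node (.node (.leaf 105049) (.leaf 108367)) (.node (.leaf 63280) (.leaf 133241))))) (.node (.node (.node (.node (.leaf 8869) (.leaf 111005)) (.node (.leaf 76501) (.leaf 116143))) (.node (.node (.leaf 48480) (.leaf 122714)) (.node (.leaf 131586) (.leaf 130073)))) (.node (.node (.node (.leaf 17169) (.leaf 81688)) (.node (.leaf 99093) (.leaf 121868))) (.node (.node (.leaf 50497) (.leaf 110544)) (.node (.leaf 66203) (.leaf 136764))))))
def dFin_684 : BT := .node (.node (.node (.node (.node (.node (.node (.leaf 1203) (.leaf 138579)) (.leaf 67024)) (.node (.leaf 104207) (.leaf 111934))) (.node (.node (.leaf 19175) (.leaf 84947)) (.node (.leaf 57846) (.leaf 124214)))) (.node (.node (.node (.leaf 12027) (.leaf 121432)) (.node (.leaf 104025) (.leaf 117686))) (.node (.node (.leaf 47677) (.leaf 107103)) (.node (.leaf 140462) (.leaf 131693))))) (.node (.node (.node (.node (.node (.leaf 36766) (.leaf 140741)) (.leaf 79882)) (.node (.leaf 52275) (.leaf 118234))) (.node (.node (.leaf 40538) (.leaf 91056)) (.node (.leaf 99040) (.leaf 128092)))) (.node (.node (.node (.leaf 13755)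 (.leaf 78339)) (.node (.leaf 55008) (.leaf 120859))) (.node (.node (.leaf 106204) (.leaf 121227)) (.node (.leaf 64940) (.leaf 134995)))))) (.node (.node (.node (.node (.node (.node (.leaf 1501) (.leaf 139515)) (.leaf 67924)) (.node (.leaf 51868) (.leaf 113176))) (.node (.node (.leaf 45844) (.leaf 98533)) (.node (.leaf 57418) (.leaf 127117)))) (.node (.node (.node (.leaf 73806) (.leaf 75343)) (.node (.leaf 105080) (.leaf 119310))) (.node (.node (.leaf 48385) (.leaf 108215)) (.node (.leaf 62585) (.leaf 133016))))) (.node (.node (.node (.node (.leaf 6393) (.leaf 138305)) (.node (.leaf 100115) (.leaf 116250))) (.node (.node (.leaf 48265) (.leaf 93372)) (.node (.leaf 99102) (.leaf 133061)))) (.node (.node (.node (.leaf 42296) (.leaf 82078)) (.node (.leaf 55473) (.leaf 121970))) (.node (.node (.leaf 50419) (.leaf 110667)) (.node (.leaf 96455) (.leaf 136714))))))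
def dFin_691 : BT := .node (.node (.node (.node (.node (.node (.node (.leaf 37807) (.leaf 138534)) (.leaf 67440)) (.node (.leaf 51225) (.leaf 112037))) (.node (.node (.leaf 40983) (.leaf 85405)) (.node (.leaf 104902) (.leaf 124600)))) (.node (.node (.node (.leaf 46979) (.leaf 72879)) (.node (.leaf 54107) (.leaf 120301))) (.node (.node (.leaf 106289) (.leaf 95903)) (.node (.leaf 60979) (.leaf 131407))))) (.node (.node (.node (.node (.node (.leaf 46825) (.leaf 140835)) (.leaf 140126)) (.node (.leaf 98286) (.leaf 114860))) (.node (.node (.leaf 46450) (.leaf 105978)) (.node (.leaf 105405) (.leaf 127835)))) (.node (.node (.node (.leaf 14041) (.leaf 78819)) (.node (.leaf 83853) (.leaf 121028))) (.node (.node (.leaf 49464) (.leaf 109706)) (.node (.leaf 64854) (.leaf 135349)))))) (.node (.node (.node (.node (.node (.node (.leaf 478) (.leaf 139593)) (.leaf 102504)) (.node (.leaf 51978) (.leaf 113253))) (.node (.node (.leaf 24062) (.leaf 103357)) (.node (.leaf 102634) (.leaf 126927)))) (.node (.node (.node (.leaf 42156) (.leaf 77742)) (.node (.leaf 54433) (.leaf 119416)))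 (.node (.node (.leaf 48463) (.leaf 108298)) (.node (.leaf 63450) (.leaf 133166))))) (.node (.node (.node (.node (.leaf 10636) (.leaf 70606)) (.node (.leaf 107078) (.leaf 116441))) (.node (.node (.leaf 25951) (.leaf 93283)) (.node (.leaf 101822) (.leaf 131711)))) (.node (.node (.node (.leaf 44724) (.leaf 101600)) (.node (.leaf 55680) (.leaf 135370))) (.node (.node (.leaf 50573) (.leaf 122957)) (.node (.leaf 66155) (.leaf 136867))))))
def dFin_701 : BT := .node (.node (.node (.node (.node (.node (.node (.leaf 38194) (.leaf 138314)) (.leaf 66942)) (.node (.leaf 100048) (.leaf 111848))) (.node (.node (.leaf 18880) (.leaf 119734)) (.node (.leaf 94045) (.leaf 124357)))) (.node (.node (.node (.leaf 101367) (.leaf 72331)) (.node (.leaf 53742) (.leaf 117627))) (.node (.node (.leaf 47127) (.leaf 115502)) (.node (.leaf 61167) (.leaf 131044))))) (.node (.node (.node (.node (.node (.leaf 2064) (.leaf 140579)) (.leaf 102176)) (.node (.leaf 105121) (.leaf 114459))) (.node (.node (.leaf 52637) (.leaf 90700)) (.node (.leaf 106365) (.leaf 127803)))) (.node (.node (.node (.leaf 47906)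 (.leaf 77930)) (.node (.leaf 54949) (.leaf 137238))) (.node (.node (.leaf 49702) (.leaf 109553)) (.node (.leaf 64562) (.leaf 135091)))))) (.node (.node (.node (.node (.node (.node (.leaf 233) (.leaf 139404)) (.leaf 105247)) (.node (.leaf 106051) (.leaf 112916))) (.node (.node (.leaf 52621) (.leaf 111810)) (.node (.leaf 104367) (.leaf 125980)))) (.node (.node (.node (.leaf 12791) (.leaf 74902)) (.node (.leaf 80104) (.leaf 118540))) (.node (.node (.leaf 48249) (.leaf 108111)) (.node (.leaf 62795) (.leaf 133035))))) (.node (.node (.node (.node (.leaf 45663) (.leaf 70172)) (.node (.leaf 104076) (.leaf 116384))) (.node (.node (.leaf 26185) (.leaf 93077)) (.node (.leaf 60082) (.leaf 129066)))) (.node (.node (.node (.leaf 41765) (.leaf 81458)) (.node (.leaf 55340) (.leaf 122342))) (.node (.node (.leaf 50325) (.leaf 110451)) (.node (.leaf 98069) (.leaf 136610))))))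
def dFin_708 : BT := .node (.node (.node (.node (.node (.node (.node (.leaf 37282) (.leaf 138636)) (.leaf 105900)) (.node (.leaf 109146) (.leaf 111997))) (.node (.node (.leaf 92870) (.leaf 85544)) (.node (.leaf 138728) (.leaf 124443)))) (.node (.node (.node (.leaf 12046) (.leaf 72677)) (.node (.leaf 53974) (.leaf 124348))) (.node (.node (.leaf 47310) (.leaf 115586)) (.node (.leaf 61055) (.leaf 131149))))) (.node (.node (.node (.node (.node (.leaf 2341) (.leaf 140709)) (.leaf 107510)) (.node (.leaf 52263) (.leaf 114611))) (.node (.node (.leaf 42510) (.leaf 91246)) (.node (.leaf 58851) (.leaf 127688)))) (.node (.node (.node (.leaf 13796) (.leaf 100486)) (.node (.leaf 76539) (.leaf 120932))) (.node (.node (.leaf 49397) (.leaf 109634)) (.node (.leaf 64744) (.leaf 136084)))))) (.node (.node (.node (.node (.node (.node (.leaf 48164) (.leaf 139493)) (.leaf 68110)) (.node (.leaf 104754) (.leaf 114390))) (.node (.node (.leaf 46629) (.leaf 87754)) (.node (.leaf 57649) (.leaf 126904)))) (.node (.node (.node (.leaf 41379) (.leaf 75107)) (.node (.leaf 54354) (.leaf 119248)))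 (.node (.node (.leaf 48377) (.leaf 108234)) (.node (.leaf 92077) (.leaf 135133))))) (.node (.node (.node (.node (.leaf 6559) (.leaf 70422)) (.node (.leaf 61339) (.leaf 116203))) (.node (.node (.leaf 25433) (.leaf 93232)) (.node (.leaf 60106) (.leaf 130054)))) (.node (.node (.node (.leaf 44817) (.leaf 104027)) (.node (.leaf 69074) (.leaf 122198))) (.node (.node (.leaf 50485) (.leaf 122797)) (.node (.leaf 105421) (.leaf 136829))))))
def dFin_716 : BT := .node (.node (.node (.node (.node (.node (.node (.leaf 1199) (.leaf 138391)) (.leaf 106597)) (.node (.leaf 104188) (.leaf 119455))) (.node (.node (.leaf 19224) (.leaf 112748)) (.node (.leaf 100489) (.leaf 124460)))) (.node (.node (.node (.leaf 12009) (.leaf 72802)) (.node (.leaf 61933) (.leaf 117559))) (.node (.node (.leaf 47201) (.leaf 95843)) (.node (.leaf 61289) (.leaf 131674))))) (.node (.node (.node (.node (.node (.leaf 50040) (.leaf 140663)) (.leaf 69029)) (.node (.leaf 52247) (.leaf 114644))) (.node (.node (.leaf 48952) (.leaf 90933)) (.node (.leaf 58960) (.leaf 131612)))) (.node (.node (.node (.leaf 41398)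 (.leaf 102560)) (.node (.leaf 54901) (.leaf 120862))) (.node (.node (.leaf 49333) (.leaf 109433)) (.node (.leaf 107275) (.leaf 135051)))))) (.node (.node (.node (.node (.node (.node (.leaf 46174) (.leaf 140154)) (.leaf 68253)) (.node (.leaf 106546) (.leaf 113079))) (.node (.node (.leaf 42645) (.leaf 87785)) (.node (.leaf 91971) (.leaf 126064)))) (.node (.node (.node (.leaf 13580) (.leaf 75161)) (.node (.leaf 54414) (.leaf 119290))) (.node (.node (.leaf 48317) (.leaf 108210)) (.node (.leaf 62634) (.leaf 134510))))) (.node (.node (.node (.node (.leaf 45790) (.leaf 70759)) (.node (.leaf 53320) (.leaf 116289))) (.node (.node (.leaf 42462) (.leaf 93137)) (.node (.leaf 60002) (.leaf 129246)))) (.node (.node (.node (.leaf 17131) (.leaf 82088)) (.node (.leaf 103165) (.leaf 139573))) (.node (.node (.leaf 50760) (.leaf 110985)) (.node (.leaf 65958) (.leaf 136717))))))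
def dFin_723 : BT := .node (.node (.node (.node (.node (.node (.node (.leaf 2594) (.leaf 138505)) (.leaf 67380)) (.node (.leaf 103740) (.leaf 133492))) (.node (.node (.leaf 19232) (.leaf 85508)) (.node (.leaf 56478) (.leaf 124539)))) (.node (.node (.node (.leaf 41456) (.leaf 100477)) (.node (.leaf 53878) (.leaf 130903))) (.node (.node (.leaf 47358) (.leaf 95438)) (.node (.leaf 106265) (.leaf 131585))))) (.node (.node (.node (.node (.node (.leaf 2511) (.leaf 140827)) (.leaf 69228)) (.node (.leaf 60555) (.leaf 114783))) (.node (.node (.leaf 24176) (.leaf 91121)) (.node (.leaf 60291) (.leaf 127994)))) (.node (.node (.node (.leaf 39274) (.leaf 114679)) (.node (.leaf 61906) (.leaf 121128))) (.node (.node (.leaf 50048) (.leaf 109769)) (.node (.leaf 105601) (.leaf 135400)))))) (.node (.node (.node (.node (.node (.node (.leaf 38905) (.leaf 139541)) (.leaf 84221)) (.node (.leaf 51795) (.leaf 113321))) (.node (.node (.leaf 37655) (.leaf 89328)) (.node (.leaf 57545) (.leaf 126328)))) (.node (.node (.node (.leaf 12915) (.leaf 85938)) (.node (.leaf 71256) (.leaf 119477))) (.node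 (.node (.leaf 48482) (.leaf 108263)) (.node (.leaf 62931) (.leaf 135963))))) (.node (.node (.node (.node (.leaf 36560) (.leaf 70293)) (.node (.leaf 53220) (.leaf 116439))) (.node (.node (.leaf 26029) (.leaf 93277)) (.node (.leaf 59861) (.leaf 129379)))) (.node (.node (.node (.leaf 57796) (.leaf 82376)) (.node (.leaf 133936) (.leaf 121889))) (.node (.node (.leaf 50557) (.leaf 110764)) (.node (.leaf 103020) (.leaf 136960))))))
def dFin_732 : BT := .node (.node (.node (.node (.node (.node (.node (.leaf 393) (.leaf 138343)) (.leaf 67091)) (.node (.leaf 100169) (.leaf 114910))) (.node (.node (.leaf 19380) (.leaf 105541)) (.node (.leaf 103890) (.leaf 135654)))) (.node (.node (.node (.leaf 42378) (.leaf 72519)) (.node (.leaf 53691) (.leaf 117586))) (.node (.node (.leaf 47163) (.leaf 94899)) (.node (.leaf 63368) (.leaf 131096))))) (.node (.node (.node (.node (.node (.leaf 45935) (.leaf 140626)) (.leaf 69046)) (.node (.leaf 135071) (.leaf 114501))) (.node (.node (.leaf 24087) (.leaf 90425)) (.node (.leaf 58577) (.leaf 130016)))) (.node (.node (.node (.leaf 47536) (.leaf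 116173)) (.node (.leaf 54924) (.leaf 124468))) (.node (.node (.leaf 49307) (.leaf 115218)) (.node (.leaf 64545) (.leaf 135048)))))) (.node (.node (.node (.node (.node (.node (.leaf 5877) (.leaf 139389)) (.leaf 105140)) (.node (.leaf 108006) (.leaf 113041))) (.node (.node (.leaf 46109) (.leaf 98743)) (.node (.leaf 91697) (.leaf 126094)))) (.node (.node (.node (.leaf 12820) (.leaf 75204)) (.node (.leaf 67843) (.leaf 132251))) (.node (.node (.leaf 48287) (.leaf 108135)) (.node (.leaf 62671) (.leaf 133036))))) (.node (.node (.node (.node (.leaf 49094) (.leaf 70549)) (.node (.leaf 53377) (.leaf 116352))) (.node (.node (.leaf 118441) (.leaf 93249)) (.node (.leaf 60045) (.leaf 128991)))) (.node (.node (.node (.leaf 41046) (.leaf 93147)) (.node (.leaf 101864) (.leaf 122305))) (.node (.node (.leaf 50363) (.leaf 110960)) (.node (.leaf 98076) (.leaf 136606))))))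
def dFin_739 : BT := .node (.node (.node (.node (.node (.node (.node (.leaf 120) (.leaf 138465)) (.leaf 67073)) (.node (.leaf 138583) (.leaf 111968))) (.node (.node (.leaf 19385) (.leaf 85527)) (.node (.leaf 56689) (.leaf 124380)))) (.node (.node (.node (.leaf 12101) (.leaf 100269)) (.node (.leaf 53927) (.leaf 117752))) (.node (.node (.leaf 47289) (.leaf 115045)) (.node (.leaf 61002) (.leaf 131616))))) (.node (.node (.node (.node (.node (.leaf 35067) (.leaf 140821)) (.leaf 69425)) (.node (.leaf 52782) (.leaf 114739))) (.node (.node (.leaf 24151) (.leaf 91140)) (.node (.leaf 59098) (.leaf 127569)))) (.node (.node (.node (.leaf 36895) (.leaf 104860)) (.node (.leaf 55027) (.leaf 129282))) (.node (.node (.leaf 49426) (.leaf 109740)) (.node (.leaf 103309) (.leaf 135260)))))) (.node (.node (.node (.node (.node (.node (.leaf 40228) (.leaf 139544)) (.leaf 68065)) (.node (.leaf 51944) (.leaf 113708))) (.node (.node (.leaf 101668) (.leaf 87786)) (.node (.leaf 57594) (.leaf 126389)))) (.node (.node (.node (.leaf 40883) (.leaf 96987)) (.node (.leaf 54299) (.leaf 124183)))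 (.node (.node (.leaf 48411) (.leaf 108312)) (.node (.leaf 100099) (.leaf 133348))))) (.node (.node (.node (.node (.leaf 6758) (.leaf 70359)) (.node (.leaf 63458) (.leaf 116504))) (.node (.node (.leaf 46812) (.leaf 93229)) (.node (.leaf 59911) (.leaf 130044)))) (.node (.node (.node (.leaf 46671) (.leaf 95717)) (.node (.leaf 113930) (.leaf 122128))) (.node (.node (.leaf 50544) (.leaf 110825)) (.node (.leaf 139409) (.leaf 136784))))))
def dFin_747 : BT := .node (.node (.node (.node (.node (.node (.node (.leaf 80) (.leaf 138413)) (.leaf 106590)) (.node (.leaf 103836) (.leaf 111919))) (.node (.node (.leaf 19446) (.leaf 103865)) (.node (.leaf 109157) (.leaf 124450)))) (.node (.node (.node (.leaf 12042) (.leaf 72740)) (.node (.leaf 63704) (.leaf 125674))) (.node (.node (.leaf 47231) (.leaf 95857)) (.node (.leaf 61102) (.leaf 131647))))) (.node (.node (.node (.node (.node (.leaf 46156) (.leaf 140712)) (.leaf 69010)) (.node (.leaf 52562) (.leaf 114698))) (.node (.node (.leaf 137365) (.leaf 91279)) (.node (.leaf 58904) (.leaf 127744)))) (.node (.node (.node (.leaf 40722)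 (.leaf 106202)) (.node (.leaf 100397) (.leaf 120883))) (.node (.node (.leaf 49361) (.leaf 115680)) (.node (.leaf 64735) (.leaf 135134)))))) (.node (.node (.node (.node (.node (.node (.leaf 1502) (.leaf 139570)) (.leaf 68157)) (.node (.leaf 106016) (.leaf 113181))) (.node (.node (.leaf 46129) (.leaf 87770)) (.node (.leaf 103844) (.leaf 128374)))) (.node (.node (.node (.leaf 12866) (.leaf 103301)) (.node (.leaf 54385) (.leaf 119056))) (.node (.node (.leaf 48351) (.leaf 108175)) (.node (.leaf 62603) (.leaf 134356))))) (.node (.node (.node (.node (.leaf 36838) (.leaf 70789)) (.node (.leaf 53273) (.leaf 116264))) (.node (.node (.leaf 25440) (.leaf 93175)) (.node (.leaf 60273) (.leaf 129198)))) (.node (.node (.node (.leaf 17334) (.leaf 110091)) (.node (.leaf 103333) (.leaf 133548))) (.node (.node (.leaf 56003) (.leaf 111002)) (.node (.leaf 125558) (.leaf 136644))))))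
def dFin_754 : BT := .node (.node (.node (.node (.node (.node (.node (.leaf 8152) (.leaf 138531)) (.leaf 67337)) (.node (.leaf 51512) (.leaf 117818))) (.node (.node (.leaf 45020) (.leaf 91239)) (.node (.leaf 56424) (.leaf 124625)))) (.node (.node (.node (.leaf 40878) (.leaf 104681)) (.node (.leaf 115118) (.leaf 117834))) (.node (.node (.leaf 47355) (.leaf 107105)) (.node (.leaf 100785) (.leaf 131524))))) (.node (.node (.node (.node (.node (.leaf 2521) (.leaf 140895)) (.leaf 69199)) (.node (.leaf 98471) (.leaf 114848))) (.node (.node (.leaf 46789) (.leaf 91100)) (.node (.leaf 58754) (.leaf 128279)))) (.node (.node (.node (.leaf 46124) (.leaf 79286)) (.node (.leaf 129176) (.leaf 121048))) (.node (.node (.leaf 49485) (.leaf 109669)) (.node (.leaf 117371) (.leaf 135351)))))) (.node (.node (.node (.node (.node (.node (.leaf 38231) (.leaf 139619)) (.leaf 86380)) (.node (.leaf 51991) (.leaf 113288))) (.node (.node (.leaf 23633) (.leaf 87923)) (.node (.leaf 102839) (.leaf 126269)))) (.node (.node (.node (.leaf 45188) (.leaf 103380)) (.node (.leaf 107283) (.leaf 122917)))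 (.node (.node (.leaf 48514) (.leaf 120072)) (.node (.leaf 104199) (.leaf 133291))))) (.node (.node (.node (.node (.leaf 8084) (.leaf 103183)) (.node (.leaf 53173) (.leaf 116540))) (.node (.node (.leaf 41304) (.leaf 125313)) (.node (.leaf 59812) (.leaf 129889)))) (.node (.node (.node (.leaf 46675) (.leaf 82229)) (.node (.leaf 95814) (.leaf 132645))) (.node (.node (.leaf 50587) (.leaf 110705)) (.node (.leaf 66257) (.leaf 136891))))))
def dFin_766 : BT := .node (.node (.node (.node (.node (.node (.node (.leaf 6) (.leaf 138254)) (.leaf 66829)) (.node (.leaf 91982) (.leaf 111799))) (.node (.node (.leaf 47492) (.leaf 85164)) (.node (.leaf 106856) (.leaf 132879)))) (.node (.node (.node (.leaf 46631) (.leaf 96037)) (.node (.leaf 53639) (.leaf 124008))) (.node (.node (.leaf 47105) (.leaf 113506)) (.node (.leaf 61022) (.leaf 132447))))) (.node (.node (.node (.node (.node (.leaf 37231) (.leaf 140527)) (.leaf 88360)) (.node (.leaf 52454) (.leaf 114435))) (.node (.node (.leaf 24079) (.leaf 90570)) (.node (.leaf 59081) (.leaf 127586)))) (.node (.node (.node (.leaf 47824) (.leaf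 106647)) (.node (.leaf 54865) (.leaf 137666))) (.node (.node (.leaf 49289) (.leaf 109521)) (.node (.leaf 79983) (.leaf 134827)))))) (.node (.node (.node (.node (.node (.node (.leaf 39126) (.leaf 139353)) (.leaf 68089)) (.node (.leaf 51959) (.leaf 131830))) (.node (.node (.leaf 106229) (.leaf 87169)) (.node (.leaf 57622) (.leaf 126039)))) (.node (.node (.node (.leaf 40680) (.leaf 105778)) (.node (.leaf 101585) (.leaf 118885))) (.node (.node (.leaf 48219) (.leaf 108089)) (.node (.leaf 114480) (.leaf 133084))))) (.node (.node (.node (.node (.leaf 5443) (.leaf 69997)) (.node (.leaf 104814) (.leaf 116360))) (.node (.node (.leaf 46415) (.leaf 93057)) (.node (.leaf 59931) (.leaf 129069)))) (.node (.node (.node (.leaf 17119) (.leaf 108699)) (.node (.leaf 136609) (.leaf 122160))) (.node (.node (.leaf 50339) (.leaf 110853)) (.node (.leaf 116813) (.leaf 136557))))))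
def dFin_773 : BT := .node (.node (.node (.node (.node (.node (.node (.leaf 35563) (.leaf 140531)) (.leaf 74980)) (.node (.leaf 51404) (.leaf 111931))) (.node (.node (.leaf 19185) (.leaf 85333)) (.node (.leaf 56594) (.leaf 124267)))) (.node (.node (.node (.leaf 38044) (.leaf 105220)) (.node (.leaf 99206) (.leaf 136914))) (.node (.node (.leaf 114198) (.leaf 138615)) (.node (.leaf 104252) (.leaf 131668))))) (.node (.node (.node (.node (.node (.leaf 33522) (.leaf 140695)) (.leaf 101596)) (.node (.leaf 52330) (.leaf 114581))) (.node (.node (.leaf 41226) (.leaf 106698)) (.node (.leaf 58649) (.leaf 127960)))) (.node (.node (.node (.leaf 14135) (.leaf 78171)) (.node (.leaf 93946) (.leaf 120619))) (.node (.node (.leaf 49678) (.leaf 109603)) (.node (.leaf 64965) (.leaf 135121)))))) (.node (.node (.node (.node (.node (.node (.leaf 1411) (.leaf 139479)) (.leaf 67969)) (.node (.leaf 105950) (.leaf 113143))) (.node (.node (.leaf 46614) (.leaf 87699)) (.node (.leaf 57468) (.leaf 137163)))) (.node (.node (.node (.leaf 37422) (.leaf 114687)) (.node (.leaf 139206) (.leaf 119286)))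 (.node (.node (.leaf 48365) (.leaf 108181)) (.node (.leaf 133087) (.leaf 133384))))) (.node (.node (.node (.node (.leaf 36840) (.leaf 98198)) (.node (.leaf 104001) (.leaf 119844))) (.node (.node (.leaf 25436) (.leaf 122761)) (.node (.leaf 99244) (.leaf 129365)))) (.node (.node (.node (.leaf 105700) (.leaf 82065)) (.node (.leaf 55323) (.leaf 122027))) (.node (.node (.leaf 50453) (.leaf 125919)) (.node (.leaf 65969) (.leaf 136666))))))
def dFin_781 : BT := .node (.node (.node (.node (.node (.node (.node (.leaf 8502) (.leaf 138377)) (.leaf 67045)) (.node (.leaf 51524) (.leaf 111875))) (.node (.node (.leaf 129814) (.leaf 102767)) (.node (.leaf 56443) (.leaf 124311)))) (.node (.node (.node (.leaf 40802) (.leaf 99934)) (.node (.leaf 53585) (.leaf 123009))) (.node (.node (.leaf 47181) (.leaf 116704)) (.node (.leaf 103979) (.leaf 131135))))) (.node (.node (.node (.node (.node (.leaf 2180) (.leaf 140647)) (.leaf 68982)) (.node (.leaf 58830) (.leaf 114632))) (.node (.node (.leaf 48346) (.leaf 90445)) (.node (.leaf 58773) (.leaf 134974)))) (.node (.node (.node (.leaf 13776)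 (.leaf 114048)) (.node (.leaf 99768) (.leaf 120777))) (.node (.node (.leaf 49321) (.leaf 109428)) (.node (.leaf 100230) (.leaf 135036)))))) (.node (.node (.node (.node (.node (.node (.leaf 39111) (.leaf 139580)) (.leaf 103666)) (.node (.leaf 51899) (.leaf 113049))) (.node (.node (.leaf 22529) (.leaf 87483)) (.node (.leaf 57815) (.leaf 126105)))) (.node (.node (.node (.leaf 13554) (.leaf 132867)) (.node (.leaf 97795) (.leaf 119326))) (.node (.node (.leaf 48324) (.leaf 108160)) (.node (.leaf 75956) (.leaf 133042))))) (.node (.node (.node (.node (.leaf 10257) (.leaf 70199)) (.node (.leaf 53193) (.leaf 116125))) (.node (.node (.leaf 41335) (.leaf 93144)) (.node (.leaf 59832) (.leaf 129318)))) (.node (.node (.node (.leaf 17132) (.leaf 81549)) (.node (.leaf 101868) (.leaf 132549))) (.node (.node (.leaf 50585) (.leaf 110726)) (.node (.leaf 66089) (.leaf 137048))))))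
def dFin_788 : BT := .node (.node (.node (.node (.node (.node (.node (.leaf 1047) (.leaf 138552)) (.leaf 67001)) (.node (.leaf 104168) (.leaf 118897))) (.node (.node (.leaf 45326) (.leaf 85445)) (.node (.leaf 56289) (.leaf 124557)))) (.node (.node (.node (.leaf 37010) (.leaf 99966)) (.node (.leaf 102247) (.leaf 117939))) (.node (.node (.leaf 50734) (.leaf 95860)) (.node (.leaf 134583) (.leaf 131604))))) (.node (.node (.node (.node (.node (.leaf 37734) (.leaf 140813)) (.leaf 69122)) (.node (.leaf 101630) (.leaf 114757))) (.node (.node (.leaf 24155) (.leaf 91231)) (.node (.leaf 101888) (.leaf 140393)))) (.node (.node (.node (.leaf 36966) (.leaf 104840)) (.node (.leaf 55222) (.leaf 120981))) (.node (.node (.leaf 49456) (.leaf 118208)) (.node (.leaf 64902) (.leaf 135208)))))) (.node (.node (.node (.node (.node (.node (.leaf 46198) (.leaf 139527)) (.leaf 106809)) (.node (.leaf 51832) (.leaf 113233))) (.node (.node (.leaf 41983) (.leaf 95941)) (.node (.leaf 57343) (.leaf 126868)))) (.node (.node (.node (.leaf 12916) (.leaf 75725)) (.node (.leaf 97381) (.leaf 119469)))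 (.node (.node (.leaf 48427) (.leaf 108327)) (.node (.leaf 63311) (.leaf 133362))))) (.node (.node (.node (.node (.leaf 36524) (.leaf 106610)) (.node (.leaf 53072) (.leaf 116491))) (.node (.node (.leaf 49930) (.leaf 93363)) (.node (.leaf 75582) (.leaf 130037)))) (.node (.node (.node (.leaf 17179) (.leaf 81639)) (.node (.leaf 97119) (.leaf 121896))) (.node (.node (.leaf 50529) (.leaf 110593)) (.node (.leaf 72393) (.leaf 136934))))))
def dFin_797 : BT := .node (.node (.node (.node (.node (.node (.node (.leaf 766) (.leaf 138331)) (.leaf 67064)) (.node (.leaf 51145) (.leaf 111835))) (.node (.node (.leaf 19310) (.leaf 85095)) (.node (.leaf 56497) (.leaf 124324)))) (.node (.node (.node (.leaf 41579) (.leaf 113126)) (.node (.leaf 53608) (.leaf 120794))) (.node (.node (.leaf 47143) (.leaf 98837)) (.node (.leaf 104273) (.leaf 131067))))) (.node (.node (.node (.node (.node (.leaf 2239) (.leaf 140640)) (.leaf 69001)) (.node (.leaf 59979) (.leaf 114471))) (.node (.node (.leaf 24104) (.leaf 90527)) (.node (.leaf 60258) (.leaf 127454)))) (.node (.node (.node (.leaf 101196) (.leaf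 96925)) (.node (.leaf 99598) (.leaf 120832))) (.node (.node (.leaf 49295) (.leaf 109403)) (.node (.leaf 112550) (.leaf 135060)))))) (.node (.node (.node (.node (.node (.node (.leaf 38856) (.leaf 139396)) (.leaf 103925)) (.node (.leaf 51928) (.leaf 112927))) (.node (.node (.leaf 42073) (.leaf 89245)) (.node (.leaf 57573) (.leaf 126006)))) (.node (.node (.node (.leaf 12795) (.leaf 96366)) (.node (.leaf 54503) (.leaf 118521))) (.node (.node (.leaf 48884) (.leaf 108123)) (.node (.leaf 98365) (.leaf 133067))))) (.node (.node (.node (.node (.leaf 45456) (.leaf 70186)) (.node (.leaf 53240) (.leaf 116328))) (.node (.node (.leaf 48619) (.leaf 93326)) (.node (.leaf 59881) (.leaf 129045)))) (.node (.node (.node (.leaf 17138) (.leaf 81353)) (.node (.leaf 124804) (.leaf 122098))) (.node (.node (.leaf 50345) (.leaf 110792)) (.node (.leaf 97854) (.leaf 136631))))))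
def dFin_804 : BT := .node (.node (.node (.node (.node (.node (.node (.leaf 1180) (.leaf 138473)) (.leaf 67020)) (.node (.leaf 104153) (.leaf 111979))) (.node (.node (.leaf 19197) (.leaf 85464)) (.node (.leaf 104140) (.leaf 124417)))) (.node (.node (.node (.leaf 12067) (.leaf 100839)) (.node (.leaf 97135) (.leaf 117908))) (.node (.node (.leaf 47253) (.leaf 105437)) (.node (.leaf 105288) (.leaf 131637))))) (.node (.node (.node (.node (.node (.leaf 36424) (.leaf 140755)) (.leaf 97963)) (.node (.leaf 52271) (.leaf 114717))) (.node (.node (.leaf 40600) (.leaf 106394)) (.node (.leaf 102166) (.leaf 127951)))) (.node (.node (.node (.leaf 13779) (.leaf 78905)) (.node (.leaf 54883) (.leaf 120947))) (.node (.node (.leaf 78167) (.leaf 115726)) (.node (.leaf 64931) (.leaf 135234)))))) (.node (.node (.node (.node (.node (.node (.leaf 1507) (.leaf 139517)) (.leaf 67920)) (.node (.leaf 51864) (.leaf 113228))) (.node (.node (.leaf 46928) (.leaf 96289)) (.node (.leaf 57406) (.leaf 126140)))) (.node (.node (.node (.leaf 45544) (.leaf 75103)) (.node (.leaf 106997) (.leaf 119266)))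 (.node (.node (.leaf 48387) (.leaf 108360)) (.node (.leaf 99489) (.leaf 134339))))) (.node (.node (.node (.node (.leaf 6565) (.leaf 137988)) (.node (.leaf 103611) (.leaf 127400))) (.node (.node (.leaf 25512) (.leaf 93185)) (.node (.leaf 102024) (.leaf 130070)))) (.node (.node (.node (.leaf 42309) (.leaf 81903)) (.node (.leaf 55728) (.leaf 121966))) (.node (.node (.leaf 50489) (.leaf 110660)) (.node (.leaf 97972) (.leaf 136799))))))
def dFin_812 : BT := .node (.node (.node (.node (.node (.node (.node (.leaf 1700) (.leaf 138399)) (.leaf 73753)) (.node (.leaf 51465) (.leaf 111938))) (.node (.node (.leaf 38813) (.leaf 89590)) (.node (.leaf 56390) (.leaf 124289)))) (.node (.node (.node (.leaf 12015) (.leaf 73178)) (.node (.leaf 56926) (.leaf 122863))) (.node (.node (.leaf 47223) (.leaf 115636)) (.node (.leaf 60956) (.leaf 131690))))) (.node (.node (.node (.node (.node (.leaf 46054) (.leaf 140675)) (.leaf 68965)) (.node (.leaf 52391) (.leaf 114674))) (.node (.node (.leaf 49000) (.leaf 99463)) (.node (.leaf 58711) (.leaf 127457)))) (.node (.node (.node (.leaf 46554) (.leaf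 78335)) (.node (.leaf 117772) (.leaf 120874))) (.node (.node (.leaf 49343) (.leaf 109442)) (.node (.leaf 64733) (.leaf 134983)))))) (.node (.node (.node (.node (.node (.node (.leaf 1320) (.leaf 139473)) (.leaf 68016)) (.node (.leaf 105862) (.leaf 113095))) (.node (.node (.leaf 22613) (.leaf 87714)) (.node (.leaf 57734) (.leaf 132054)))) (.node (.node (.node (.leaf 12843) (.leaf 133015)) (.node (.leaf 97860) (.leaf 119306))) (.node (.node (.leaf 48335) (.leaf 108167)) (.node (.leaf 106623) (.leaf 132957))))) (.node (.node (.node (.node (.leaf 35238) (.leaf 98025)) (.node (.leaf 53136) (.leaf 116249))) (.node (.node (.leaf 40647) (.leaf 93163)) (.node (.leaf 101635) (.leaf 129175)))) (.node (.node (.node (.leaf 45949) (.leaf 81818)) (.node (.leaf 55565) (.leaf 132362))) (.node (.node (.leaf 128363) (.leaf 111721)) (.node (.leaf 66064) (.leaf 136710))))))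
def dFin_819 : BT := .node (.node (.node (.node (.node (.node (.node (.leaf 2560) (.leaf 138649)) (.leaf 67199)) (.node (.leaf 51341) (.leaf 128057))) (.node (.node (.leaf 44999) (.leaf 85406)) (.node (.leaf 56228) (.leaf 124595)))) (.node (.node (.node (.leaf 12897) (.leaf 72983)) (.node (.leaf 127040) (.leaf 117919))) (.node (.node (.leaf 47319) (.leaf 95889)) (.node (.leaf 61603) (.leaf 131572))))) (.node (.node (.node (.node (.node (.leaf 2515) (.leaf 140831)) (.leaf 103232)) (.node (.leaf 97064) (.leaf 114854))) (.node (.node (.leaf 46448) (.leaf 106574)) (.node (.leaf 114236) (.leaf 135435)))) (.node (.node (.node (.leaf 36393) (.leaf 78813)) (.node (.leaf 55191) (.leaf 121157))) (.node (.node (.leaf 49437) (.leaf 109764)) (.node (.leaf 64985) (.leaf 135374)))))) (.node (.node (.node (.node (.node (.node (.leaf 38936) (.leaf 139589)) (.leaf 102974)) (.node (.leaf 51803) (.leaf 114063))) (.node (.node (.leaf 37647) (.leaf 103337)) (.node (.leaf 101291) (.leaf 126852)))) (.node (.node (.node (.leaf 47458) (.leaf 75619)) (.node (.leaf 54489) (.leaf 136021)))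 (.node (.node (.leaf 120673) (.leaf 108975)) (.node (.leaf 63268) (.leaf 133226))))) (.node (.node (.node (.node (.leaf 10829) (.leaf 105077)) (.node (.leaf 76475) (.leaf 116431))) (.node (.node (.leaf 26182) (.leaf 122700)) (.node (.leaf 105408) (.leaf 130007)))) (.node (.node (.node (.leaf 17195) (.leaf 82289)) (.node (.leaf 64651) (.leaf 135870))) (.node (.node (.leaf 50569) (.leaf 110532)) (.node (.leaf 66195) (.leaf 136875))))))
def dFin_829 : BT := .node (.node (.node (.node (.node (.node (.node (.leaf 127) (.leaf 138306)) (.leaf 99445)) (.node (.leaf 51296) (.leaf 111889))) (.node (.node (.leaf 41631) (.leaf 85224)) (.node (.leaf 56190) (.leaf 124368)))) (.node (.node (.node (.leaf 11977) (.leaf 72327)) (.node (.leaf 104686) (.leaf 122868))) (.node (.node (.leaf 47117) (.leaf 94861)) (.node (.leaf 61255) (.leaf 131037))))) (.node (.node (.node (.node (.node (.leaf 46228) (.leaf 140549)) (.leaf 107149)) (.node (.leaf 52244) (.leaf 117899))) (.node (.node (.leaf 108350) (.leaf 92065)) (.node (.leaf 98930) (.leaf 127636)))) (.node (.node (.node (.leaf 13735)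 (.leaf 77958)) (.node (.leaf 81032) (.leaf 120679))) (.node (.node (.leaf 49277) (.leaf 109514)) (.node (.leaf 64727) (.leaf 135083)))))) (.node (.node (.node (.node (.node (.node (.leaf 38118) (.leaf 140438)) (.leaf 103908)) (.node (.leaf 101487) (.leaf 130359))) (.node (.node (.leaf 22509) (.leaf 97339)) (.node (.leaf 73251) (.leaf 140235)))) (.node (.node (.node (.leaf 36310) (.leaf 74985)) (.node (.leaf 54147) (.leaf 118652))) (.node (.node (.leaf 48245) (.leaf 114394)) (.node (.leaf 62713) (.leaf 132998))))) (.node (.node (.node (.node (.leaf 45465) (.leaf 70166)) (.node (.leaf 105578) (.leaf 116381))) (.node (.node (.leaf 44761) (.leaf 93073)) (.node (.leaf 103010) (.leaf 129058)))) (.node (.node (.node (.leaf 46010) (.leaf 81210)) (.node (.leaf 55432) (.leaf 125678))) (.node (.node (.leaf 50392) (.leaf 127288)) (.node (.leaf 66018) (.leaf 136567))))))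
def dFin_836 : BT := .node (.node (.node (.node (.node (.node (.node (.leaf 1174) (.leaf 138437)) (.leaf 127348)) (.node (.leaf 51154) (.leaf 111958))) (.node (.node (.leaf 19200) (.leaf 105674)) (.node (.leaf 116337) (.leaf 124439)))) (.node (.node (.node (.leaf 12033) (.leaf 72793)) (.node (.leaf 99210) (.leaf 117869))) (.node (.node (.leaf 47307) (.leaf 95839)) (.node (.leaf 61285) (.leaf 131150))))) (.node (.node (.node (.node (.node (.leaf 36412) (.leaf 140705)) (.leaf 68949)) (.node (.leaf 101225) (.leaf 114571))) (.node (.node (.leaf 24704) (.leaf 91174)) (.node (.leaf 58955) (.leaf 127957)))) (.node (.node (.node (.leaf 41396) (.leaf 103459)) (.node (.leaf 54897) (.leaf 120926))) (.node (.node (.leaf 49379) (.leaf 109639)) (.node (.leaf 97519) (.leaf 135306)))))) (.node (.node (.node (.node (.node (.node (.leaf 46236) (.leaf 139690)) (.leaf 101307)) (.node (.leaf 131516) (.leaf 113132))) (.node (.node (.leaf 46636) (.leaf 87778)) (.node (.leaf 138580) (.leaf 126448)))) (.node (.node (.node (.leaf 37432) (.leaf 75122)) (.node (.leaf 54410) (.leaf 130979)))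 (.node (.node (.leaf 48694) (.leaf 108376)) (.node (.leaf 63093) (.leaf 135099))))) (.node (.node (.node (.node (.leaf 37944) (.leaf 71782)) (.node (.leaf 53316) (.leaf 116199))) (.node (.node (.leaf 42479) (.leaf 93238)) (.node (.leaf 59997) (.leaf 129356)))) (.node (.node (.node (.leaf 17159) (.leaf 101879)) (.node (.leaf 98962) (.leaf 122281))) (.node (.node (.leaf 50477) (.leaf 111014)) (.node (.leaf 97964) (.leaf 136822))))))
def dFin_844 : BT := .node (.node (.node (.node (.node (.node (.node (.leaf 37827) (.leaf 141004)) (.leaf 113246)) (.node (.leaf 104333) (.leaf 111906))) (.node (.node (.leaf 19169) (.leaf 84943)) (.node (.leaf 100429) (.leaf 124607)))) (.node (.node (.node (.leaf 46152) (.leaf 74513)) (.node (.leaf 53746) (.leaf 117611))) (.node (.node (.leaf 47197) (.leaf 95904)) (.node (.leaf 61159) (.leaf 131126))))) (.node (.node (.node (.node (.node (.leaf 46285) (.leaf 140722)) (.leaf 101250)) (.node (.leaf 70659) (.leaf 114637))) (.node (.node (.leaf 47846) (.leaf 90929)) (.node (.leaf 101580) (.leaf 127799)))) (.node (.node (.node (.leaf 47989)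 (.leaf 78236)) (.node (.leaf 54945) (.leaf 130008))) (.node (.node (.leaf 49723) (.leaf 109381)) (.node (.leaf 64840) (.leaf 135490)))))) (.node (.node (.node (.node (.node (.node (.leaf 35368) (.leaf 139439)) (.leaf 104863)) (.node (.leaf 105856) (.leaf 116229))) (.node (.node (.leaf 45830) (.leaf 103410)) (.node (.leaf 91832) (.leaf 126057)))) (.node (.node (.node (.leaf 12813) (.leaf 75245)) (.node (.leaf 69426) (.leaf 119114))) (.node (.node (.leaf 48313) (.leaf 108157)) (.node (.leaf 62694) (.leaf 132955))))) (.node (.node (.node (.node (.leaf 50308) (.leaf 70598)) (.node (.leaf 91921) (.leaf 116260))) (.node (.node (.leaf 25395) (.leaf 93133)) (.node (.leaf 60074) (.leaf 129330)))) (.node (.node (.node (.leaf 37351) (.leaf 96338)) (.node (.leaf 55336) (.leaf 122300))) (.node (.node (.leaf 50397) (.leaf 111011)) (.node (.leaf 65957) (.leaf 136690))))))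
def dFin_851 : BT := .node (.node (.node (.node (.node (.node (.node (.leaf 2506) (.leaf 138497)) (.leaf 108321)) (.node (.leaf 106757) (.leaf 112013))) (.node (.node (.leaf 92834) (.leaf 85540)) (.node (.leaf 100892) (.leaf 124532)))) (.node (.node (.node (.leaf 12088) (.leaf 72662)) (.node (.leaf 53970) (.leaf 121564))) (.node (.node (.leaf 47376) (.leaf 95437)) (.node (.leaf 61040) (.leaf 131153))))) (.node (.node (.node (.node (.node (.leaf 37103) (.leaf 140809)) (.leaf 108858)) (.node (.leaf 52803) (.leaf 114779))) (.node (.node (.leaf 42498) (.leaf 91240)) (.node (.leaf 58844) (.leaf 127684)))) (.node (.node (.node (.leaf 13849) (.leaf 78807)) (.node (.leaf 55255) (.leaf 121149))) (.node (.node (.leaf 49462) (.leaf 109751)) (.node (.leaf 114992) (.leaf 137454)))))) (.node (.node (.node (.node (.node (.node (.leaf 49012) (.leaf 139537)) (.leaf 68106)) (.node (.leaf 51791) (.leaf 113311))) (.node (.node (.leaf 23648) (.leaf 87673)) (.node (.leaf 57641) (.leaf 126906)))) (.node (.node (.node (.leaf 41593) (.leaf 80004)) (.node (.leaf 54350) (.leaf 122748)))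 (.node (.node (.leaf 48451) (.leaf 108254)) (.node (.leaf 62932) (.leaf 133427))))) (.node (.node (.node (.node (.leaf 7176) (.leaf 70409)) (.node (.leaf 104167) (.leaf 116524))) (.node (.node (.leaf 25853) (.leaf 93302)) (.node (.leaf 60101) (.leaf 129380)))) (.node (.node (.node (.leaf 73205) (.leaf 124854)) (.node (.leaf 95781) (.leaf 121885))) (.node (.node (.leaf 50580) (.leaf 125817)) (.node (.leaf 112649) (.leaf 136955))))))
def dFin_860 : BT := .node (.node (.node (.node (.node (.node (.node (.leaf 37912) (.leaf 138367)) (.leaf 102579)) (.node (.leaf 51237) (.leaf 115342))) (.node (.node (.leaf 38877) (.leaf 84923)) (.node (.leaf 104037) (.leaf 124358)))) (.node (.node (.node (.leaf 12002) (.leaf 72512)) (.node (.leaf 53771) (.leaf 122810))) (.node (.node (.leaf 47155) (.leaf 114572)) (.node (.leaf 61208) (.leaf 131090))))) (.node (.node (.node (.node (.node (.leaf 34109) (.leaf 140619)) (.leaf 110057)) (.node (.leaf 70661) (.leaf 114493))) (.node (.node (.leaf 48455) (.leaf 104297)) (.node (.leaf 135533) (.leaf 127852)))) (.node (.node (.node (.leaf 13749)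 (.leaf 77927)) (.node (.leaf 83441) (.leaf 134116))) (.node (.node (.leaf 49634) (.leaf 109417)) (.node (.leaf 64541) (.leaf 135020)))))) (.node (.node (.node (.node (.node (.node (.leaf 509) (.leaf 139385)) (.leaf 103939)) (.node (.leaf 73782) (.leaf 115316))) (.node (.node (.leaf 46571) (.leaf 116988)) (.node (.leaf 91875) (.leaf 126052)))) (.node (.node (.node (.leaf 42345) (.leaf 96497)) (.node (.leaf 54445) (.leaf 118537))) (.node (.node (.leaf 48283) (.leaf 108131)) (.node (.leaf 98398) (.leaf 132983))))) (.node (.node (.node (.node (.leaf 5495) (.leaf 70653)) (.node (.leaf 130120) (.leaf 116348))) (.node (.node (.leaf 25861) (.leaf 93107)) (.node (.leaf 99058) (.leaf 128979)))) (.node (.node (.node (.leaf 46688) (.leaf 81547)) (.node (.leaf 55385) (.leaf 132198))) (.node (.node (.leaf 50359) (.leaf 110968)) (.node (.leaf 65980) (.leaf 136577))))))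
def dFin_867 : BT := .node (.node (.node (.node (.node (.node (.node (.leaf 116) (.leaf 138461)) (.leaf 106007)) (.node (.leaf 104162) (.leaf 111963))) (.node (.node (.leaf 45322) (.leaf 85402)) (.node (.leaf 123399) (.leaf 124238)))) (.node (.node (.node (.leaf 12084) (.leaf 72732)) (.node (.leaf 98259) (.leaf 117751))) (.node (.node (.leaf 47281) (.leaf 95851)) (.node (.leaf 61094) (.leaf 133785))))) (.node (.node (.node (.node (.node (.leaf 35062) (.leaf 140781)) (.leaf 69267)) (.node (.leaf 52826) (.leaf 114735))) (.node (.node (.leaf 121127) (.leaf 91229)) (.node (.leaf 58899) (.leaf 127739)))) (.node (.node (.node (.leaf 40729) (.leaf 104836)) (.node (.leaf 73214) (.leaf 120986))) (.node (.node (.leaf 49411) (.leaf 109716)) (.node (.leaf 72490) (.leaf 135252)))))) (.node (.node (.node (.node (.node (.node (.leaf 40222) (.leaf 139564)) (.leaf 68153)) (.node (.leaf 107640) (.leaf 113210))) (.node (.node (.leaf 23113) (.leaf 87747)) (.node (.leaf 57909) (.leaf 126864)))) (.node (.node (.node (.leaf 12891) (.leaf 96887)) (.node (.leaf 54381) (.leaf 124757)))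 (.node (.node (.leaf 48407) (.leaf 108306)) (.node (.leaf 63042) (.leaf 133395))))) (.node (.node (.node (.node (.leaf 34498) (.leaf 70801)) (.node (.leaf 53269) (.leaf 116163))) (.node (.node (.leaf 25514) (.leaf 93225)) (.node (.leaf 102028) (.leaf 129943)))) (.node (.node (.node (.leaf 44722) (.leaf 105414)) (.node (.leaf 99225) (.leaf 130776))) (.node (.node (.leaf 62878) (.leaf 122825)) (.node (.leaf 107857) (.leaf 136780))))))
def dFin_875 : BT := .node (.node (.node (.node (.node (.node (.node (.leaf 442) (.leaf 138409)) (.leaf 73073)) (.node (.leaf 100433) (.leaf 113683))) (.node (.node (.leaf 19205) (.leaf 134159)) (.node (.leaf 103807) (.leaf 131718)))) (.node (.node (.node (.leaf 42376) (.leaf 73192)) (.node (.leaf 53597) (.leaf 117582))) (.node (.node (.leaf 47227) (.leaf 95875)) (.node (.leaf 63352) (.leaf 131323))))) (.node (.node (.node (.node (.node (.leaf 33518) (.leaf 140734)) (.leaf 69042)) (.node (.leaf 111860) (.leaf 114691))) (.node (.node (.leaf 24111) (.leaf 91191)) (.node (.leaf 59165) (.leaf 129919)))) (.node (.node (.node (.leaf 47576)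 (.leaf 106209)) (.node (.leaf 54920) (.leaf 120605))) (.node (.node (.leaf 49357) (.leaf 109593)) (.node (.leaf 64809) (.leaf 135103)))))) (.node (.node (.node (.node (.node (.node (.leaf 285) (.leaf 139465)) (.leaf 101378)) (.node (.leaf 105967) (.leaf 113171))) (.node (.node (.leaf 39071) (.leaf 101268)) (.node (.leaf 104879) (.leaf 126117)))) (.node (.node (.node (.leaf 12858) (.leaf 75168)) (.node (.leaf 62832) (.leaf 119055))) (.node (.node (.leaf 48773) (.leaf 108202)) (.node (.leaf 62599) (.leaf 133369))))) (.node (.node (.node (.node (.leaf 8781) (.leaf 70526)) (.node (.leaf 53365) (.leaf 116238))) (.node (.node (.leaf 112055) (.leaf 93171)) (.node (.leaf 60034) (.leaf 129194)))) (.node (.node (.node (.leaf 41045) (.leaf 95167)) (.node (.leaf 101285) (.leaf 122288))) (.node (.node (.leaf 50433) (.leaf 131056)) (.node (.leaf 88210) (.leaf 136677))))))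
def dFin_882 : BT := .node (.node (.node (.node (.node (.node (.node (.leaf 4901) (.leaf 138640)) (.leaf 67421)) (.node (.leaf 138746) (.leaf 112035))) (.node (.node (.leaf 19371) (.leaf 85523)) (.node (.leaf 56116) (.leaf 124617)))) (.node (.node (.node (.leaf 12114) (.leaf 103520)) (.node (.leaf 53923) (.leaf 117832))) (.node (.node (.leaf 47351) (.leaf 107069)) (.node (.leaf 60993) (.leaf 131553))))) (.node (.node (.node (.node (.node (.leaf 34659) (.leaf 140857)) (.leaf 103242)) (.node (.leaf 52778) (.leaf 114872))) (.node (.node (.leaf 24169) (.leaf 91136)) (.node (.leaf 59102) (.leaf 127561)))) (.node (.node (.node (.leaf 37009) (.leaf 127281)) (.node (.leaf 99421) (.leaf 121106))) (.node (.node (.leaf 66755) (.leaf 115976)) (.node (.leaf 72501) (.leaf 135339)))))) (.node (.node (.node (.node (.node (.node (.leaf 45936) (.leaf 139601)) (.leaf 68061)) (.node (.leaf 51987) (.leaf 113748))) (.node (.node (.leaf 57884) (.leaf 87919)) (.node (.leaf 57590) (.leaf 126385)))) (.node (.node (.node (.leaf 40867) (.leaf 108910)) (.node (.leaf 105348) (.leaf 130514)))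 (.node (.node (.leaf 48475) (.leaf 108498)) (.node (.leaf 100271) (.leaf 133288))))) (.node (.node (.node (.node (.leaf 8083) (.leaf 70347)) (.node (.leaf 103881) (.leaf 116539))) (.node (.node (.leaf 25991) (.leaf 93299)) (.node (.leaf 59904) (.leaf 133928)))) (.node (.node (.node (.leaf 45820) (.leaf 98795)) (.node (.leaf 132839) (.leaf 122640))) (.node (.node (.leaf 91593) (.leaf 110821)) (.node (.leaf 104906) (.leaf 136885))))))
def dFin_893 : BT := .node (.node (.node (.node (.node (.node (.node (.leaf 34621) (.leaf 138292)) (.leaf 74634)) (.node (.leaf 51412) (.leaf 111807))) (.node (.node (.leaf 18884) (.leaf 85073)) (.node (.leaf 56585) (.leaf 124335)))) (.node (.node (.node (.leaf 39296) (.leaf 116857)) (.node (.leaf 53582) (.leaf 122864))) (.node (.node (.leaf 101076) (.leaf 103086)) (.node (.leaf 100092) (.leaf 131024))))) (.node (.node (.node (.node (.node (.leaf 45277) (.leaf 140592)) (.leaf 68930)) (.node (.leaf 52338) (.leaf 114449))) (.node (.node (.leaf 41219) (.leaf 104363)) (.node (.leaf 58661) (.leaf 128082)))) (.node (.node (.node (.leaf 13760)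 (.leaf 77981)) (.node (.leaf 102933) (.leaf 132734))) (.node (.node (.leaf 49290) (.leaf 109502)) (.node (.leaf 64597) (.leaf 135462)))))) (.node (.node (.node (.node (.node (.node (.leaf 1456) (.leaf 139368)) (.leaf 67989)) (.node (.leaf 57122) (.leaf 128349))) (.node (.node (.leaf 46653) (.leaf 87177)) (.node (.leaf 57487) (.leaf 126011)))) (.node (.node (.node (.leaf 47112) (.leaf 105786)) (.node (.leaf 102333) (.leaf 118766))) (.node (.node (.leaf 48239) (.leaf 108099)) (.node (.leaf 111703) (.leaf 133069))))) (.node (.node (.node (.node (.leaf 38249) (.leaf 70196)) (.node (.leaf 104072) (.leaf 116550))) (.node (.node (.leaf 25379) (.leaf 93067)) (.node (.leaf 98212) (.leaf 129079)))) (.node (.node (.node (.leaf 121593) (.leaf 83803)) (.node (.leaf 55524) (.leaf 122044))) (.node (.node (.leaf 50317) (.leaf 125956)) (.node (.leaf 66062) (.leaf 136561))))))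
def dFin_900 : BT := .node (.node (.node (.node (.node (.node (.node (.leaf 8715) (.leaf 138429)) (.leaf 105892)) (.node (.leaf 51288) (.leaf 112167))) (.node (.node (.leaf 41660) (.leaf 85585)) (.node (.leaf 56181) (.leaf 124432)))) (.node (.node (.node (.leaf 38046) (.leaf 72955)) (.node (.leaf 115027) (.leaf 136707))) (.node (.node (.leaf 47264) (.leaf 95882)) (.node (.leaf 61243) (.leaf 131706))))) (.node (.node (.node (.node (.node (.leaf 45896) (.leaf 140701)) (.leaf 106655)) (.node (.leaf 55997) (.leaf 114555))) (.node (.node (.leaf 47978) (.leaf 106392)) (.node (.leaf 99190) (.leaf 127627)))) (.node (.node (.node (.leaf 13800) (.leaf 78187)) (.node (.leaf 100150) (.leaf 120636))) (.node (.node (.leaf 49375) (.leaf 109607)) (.node (.leaf 65072) (.leaf 135300)))))) (.node (.node (.node (.node (.node (.node (.leaf 37523) (.leaf 139504)) (.leaf 102872)) (.node (.leaf 104738) (.leaf 121674))) (.node (.node (.leaf 23003) (.leaf 123178)) (.node (.leaf 100619) (.leaf 126921)))) (.node (.node (.node (.leaf 37301) (.leaf 75380)) (.node (.leaf 54466) (.leaf 119154)))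 (.node (.node (.leaf 48369) (.leaf 114508)) (.node (.leaf 63243) (.leaf 133212))))) (.node (.node (.node (.node (.leaf 6551) (.leaf 118212)) (.node (.leaf 104866) (.leaf 116194))) (.node (.node (.leaf 44744) (.leaf 93242)) (.node (.leaf 119822) (.leaf 129346)))) (.node (.node (.node (.leaf 46725) (.leaf 81680)) (.node (.leaf 55327) (.leaf 128889))) (.node (.node (.leaf 50461) (.leaf 127161)) (.node (.leaf 65973) (.leaf 136812))))))
def dFin_908 : BT := .node (.node (.node (.node (.node (.node (.node (.leaf 1135) (.leaf 138403)) (.leaf 67009)) (.node (.leaf 100110) (.leaf 111953))) (.node (.node (.leaf 45338) (.leaf 84957)) (.node (.leaf 56301) (.leaf 124503)))) (.node (.node (.node (.leaf 44743) (.leaf 102817)) (.node (.leaf 111689) (.leaf 117663))) (.node (.node (.leaf 47195) (.leaf 95906)) (.node (.leaf 107091) (.leaf 131112))))) (.node (.node (.node (.node (.node (.leaf 36874) (.leaf 140659)) (.leaf 68933)) (.node (.leaf 58806) (.leaf 114659))) (.node (.node (.leaf 24101) (.leaf 90937)) (.node (.leaf 98940) (.leaf 127901)))) (.node (.node (.node (.leaf 101417)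 (.leaf 104655)) (.node (.leaf 54989) (.leaf 120652))) (.node (.node (.leaf 49325) (.leaf 109469)) (.node (.leaf 64917) (.leaf 135018)))))) (.node (.node (.node (.node (.node (.node (.leaf 45505) (.leaf 139430)) (.leaf 103523)) (.node (.leaf 51843) (.leaf 113061))) (.node (.node (.leaf 41968) (.leaf 107853)) (.node (.leaf 57367) (.leaf 126910)))) (.node (.node (.node (.leaf 37264) (.leaf 75336)) (.node (.leaf 97956) (.leaf 119334))) (.node (.node (.leaf 48330) (.leaf 108153)) (.node (.leaf 62698) (.leaf 133019))))) (.node (.node (.node (.node (.leaf 35960) (.leaf 70746)) (.node (.leaf 100045) (.leaf 116299))) (.node (.node (.leaf 100124) (.leaf 93196)) (.node (.leaf 75530) (.leaf 129305)))) (.node (.node (.node (.leaf 17127) (.leaf 81567)) (.node (.leaf 101883) (.leaf 121915))) (.node (.node (.leaf 50387) (.leaf 110610)) (.node (.leaf 98084) (.leaf 136719))))))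
def dFin_915 : BT := .node (.node (.node (.node (.node (.node (.node (.leaf 38168) (.leaf 141064)) (.leaf 99247)) (.node (.leaf 51157) (.leaf 126821))) (.node (.node (.leaf 19215) (.leaf 85573)) (.node (.leaf 68212) (.leaf 124553)))) (.node (.node (.node (.leaf 48436) (.leaf 100119)) (.node (.leaf 54062) (.leaf 117885))) (.node (.node (.leaf 47369) (.leaf 107100)) (.node (.leaf 61140) (.leaf 131360))))) (.node (.node (.node (.node (.node (.leaf 2508) (.leaf 140880)) (.leaf 97391)) (.node (.leaf 99275) (.leaf 114767))) (.node (.node (.leaf 70773) (.leaf 91198)) (.node (.leaf 105457) (.leaf 127788)))) (.node (.node (.node (.leaf 36952) (.leaf 78837)) (.node (.leaf 55162) (.leaf 121135))) (.node (.node (.leaf 49477) (.leaf 109689)) (.node (.leaf 64827) (.leaf 135376)))))) (.node (.node (.node (.node (.node (.node (.leaf 46275) (.leaf 139533)) (.leaf 104996)) (.node (.leaf 94212) (.leaf 113268))) (.node (.node (.leaf 48782) (.leaf 87730)) (.node (.leaf 104643) (.leaf 126560)))) (.node (.node (.node (.leaf 12903) (.leaf 75682)) (.node (.leaf 80522) (.leaf 119463)))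 (.node (.node (.leaf 48439) (.leaf 108341)) (.node (.leaf 63376) (.leaf 133320))))) (.node (.node (.node (.node (.leaf 27784) (.leaf 70558)) (.node (.leaf 53071) (.leaf 118010))) (.node (.node (.leaf 25856) (.leaf 93317)) (.node (.leaf 60062) (.leaf 130020)))) (.node (.node (.node (.leaf 41743) (.leaf 98295)) (.node (.leaf 55673) (.leaf 121873))) (.node (.node (.leaf 50541) (.leaf 110479)) (.node (.leaf 66120) (.leaf 136950))))))
def dFin_924 : BT := .node (.node (.node (.node (.node (.node (.node (.leaf 1196) (.leaf 138353)) (.leaf 67028)) (.node (.leaf 100109) (.leaf 111847))) (.node (.node (.leaf 19157) (.leaf 85000)) (.node (.leaf 100164) (.leaf 124400)))) (.node (.node (.node (.leaf 37566) (.leaf 72533)) (.node (.leaf 104568) (.leaf 117690))) (.node (.node (.leaf 50201) (.leaf 107065)) (.node (.leaf 104888) (.leaf 131078))))) (.node (.node (.node (.node (.node (.leaf 37241) (.leaf 140602)) (.leaf 97556)) (.node (.leaf 52279) (.leaf 114487))) (.node (.node (.leaf 40563) (.leaf 106195)) (.node (.leaf 98730) (.leaf 127902)))) (.node (.node (.node (.leaf 14132)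 (.leaf 77913)) (.node (.leaf 55012) (.leaf 120843))) (.node (.node (.leaf 96695) (.leaf 109569)) (.node (.leaf 64529) (.leaf 135076)))))) (.node (.node (.node (.node (.node (.node (.leaf 39139) (.leaf 139359)) (.leaf 67936)) (.node (.leaf 51872) (.leaf 113037))) (.node (.node (.leaf 46575) (.leaf 101651)) (.node (.leaf 57426) (.leaf 126197)))) (.node (.node (.node (.leaf 46509) (.leaf 75379)) (.node (.leaf 115036) (.leaf 118529))) (.node (.node (.leaf 48277) (.leaf 108127)) (.node (.leaf 96105) (.leaf 134550))))) (.node (.node (.node (.node (.leaf 5415) (.leaf 70771)) (.node (.leaf 104525) (.leaf 116338))) (.node (.node (.leaf 65276) (.leaf 93097)) (.node (.leaf 59745) (.leaf 135839)))) (.node (.node (.node (.leaf 42765) (.leaf 81377)) (.node (.leaf 55477) (.leaf 121982))) (.node (.node (.leaf 50355) (.leaf 110676)) (.node (.leaf 95742) (.leaf 136600))))))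
def dFin_931 : BT := .node (.node (.node (.node (.node (.node (.node (.leaf 37290) (.leaf 138476)) (.leaf 113179)) (.node (.leaf 51229) (.leaf 128077))) (.node (.node (.leaf 40980) (.leaf 121378)) (.node (.leaf 103746) (.leaf 124231)))) (.node (.node (.node (.leaf 34369) (.leaf 72900)) (.node (.leaf 54111) (.leaf 120323))) (.node (.node (.leaf 95108) (.leaf 109844)) (.node (.leaf 61192) (.leaf 131411))))) (.node (.node (.node (.node (.node (.leaf 5500) (.leaf 140769)) (.leaf 88666)) (.node (.leaf 55613) (.leaf 114723))) (.node (.node (.leaf 24149) (.leaf 109400)) (.node (.leaf 136175) (.leaf 127843)))) (.node (.node (.node (.leaf 13793) (.leaf 78856)) (.node (.leaf 83316) (.leaf 120961))) (.node (.node (.leaf 49412) (.leaf 109633)) (.node (.leaf 64858) (.leaf 135242)))))) (.node (.node (.node (.node (.node (.node (.leaf 489) (.leaf 139552)) (.leaf 76424)) (.node (.leaf 84753) (.leaf 131577))) (.node (.node (.leaf 46595) (.leaf 102599)) (.node (.leaf 104767) (.leaf 126894)))) (.node (.node (.node (.leaf 42149) (.leaf 77074)) (.node (.leaf 54437) (.leaf 119131)))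 (.node (.node (.leaf 48399) (.leaf 108372)) (.node (.leaf 63424) (.leaf 133181))))) (.node (.node (.node (.node (.leaf 6861) (.leaf 70618)) (.node (.leaf 138916) (.leaf 116155))) (.node (.node (.leaf 49271) (.leaf 93213)) (.node (.leaf 102026) (.leaf 131697)))) (.node (.node (.node (.leaf 44677) (.leaf 114479)) (.node (.leaf 55692) (.leaf 122259))) (.node (.node (.leaf 50505) (.leaf 133584)) (.node (.leaf 66163) (.leaf 136770))))))
def dFin_939 : BT := .node (.node (.node (.node (.node (.node (.node (.leaf 8572) (.leaf 138547)) (.leaf 66988)) (.node (.leaf 51349) (.leaf 111909))) (.node (.node (.leaf 45055) (.leaf 104987)) (.node (.leaf 56240) (.leaf 124473)))) (.node (.node (.node (.leaf 42641) (.leaf 73012)) (.node (.leaf 61715) (.leaf 117634))) (.node (.node (.leaf 47383) (.leaf 95895)) (.node (.leaf 103646) (.leaf 131698))))) (.node (.node (.node (.node (.node (.leaf 2409) (.leaf 140716)) (.leaf 97961)) (.node (.leaf 52622) (.leaf 139916))) (.node (.node (.leaf 24119) (.leaf 106358)) (.node (.leaf 99046) (.leaf 127932)))) (.node (.node (.node (.leaf 42665)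 (.leaf 102572)) (.node (.leaf 54964) (.leaf 120645))) (.node (.node (.leaf 49353) (.leaf 109450)) (.node (.leaf 65099) (.leaf 135015)))))) (.node (.node (.node (.node (.node (.node (.leaf 37524) (.leaf 139457)) (.leaf 101384)) (.node (.leaf 51812) (.leaf 113182))) (.node (.node (.leaf 40844) (.leaf 87651)) (.node (.leaf 105166) (.leaf 126132)))) (.node (.node (.node (.leaf 45774) (.leaf 75263)) (.node (.leaf 54497) (.leaf 119314))) (.node (.node (.leaf 123190) (.leaf 123226)) (.node (.leaf 62589) (.leaf 132967))))) (.node (.node (.node (.node (.leaf 36828) (.leaf 117477)) (.node (.leaf 100068) (.leaf 116255))) (.node (.node (.leaf 25429) (.leaf 122829)) (.node (.leaf 99281) (.leaf 129186)))) (.node (.node (.node (.leaf 17147) (.leaf 81723)) (.node (.leaf 101836) (.leaf 132522))) (.node (.node (.leaf 50423) (.leaf 110551)) (.node (.leaf 66020) (.leaf 136673))))))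
def dFin_946 : BT := .node (.node (.node (.node (.node (.node (.node (.leaf 586) (.leaf 138523)) (.leaf 96480)) (.node (.leaf 100603) (.leaf 112041))) (.node (.node (.leaf 19237) (.leaf 106081)) (.node (.leaf 102831) (.leaf 124559)))) (.node (.node (.node (.leaf 42152) (.leaf 73136)) (.node (.leaf 54015) (.leaf 117870))) (.node (.node (.leaf 47339) (.leaf 95869)) (.node (.leaf 63193) (.leaf 131311))))) (.node (.node (.node (.node (.node (.leaf 8271) (.leaf 140882)) (.leaf 69318)) (.node (.leaf 126729) (.leaf 114865))) (.node (.node (.leaf 24617) (.leaf 91183)) (.node (.leaf 101896) (.leaf 129791)))) (.node (.node (.node (.leaf 14161) (.leaf 91425)) (.node (.leaf 55131) (.leaf 121063))) (.node (.node (.leaf 49441) (.leaf 109677)) (.node (.leaf 64794) (.leaf 135355)))))) (.node (.node (.node (.node (.node (.node (.leaf 45928) (.leaf 139597)) (.leaf 118056)) (.node (.leaf 51980) (.leaf 113254))) (.node (.node (.leaf 23759) (.leaf 96333)) (.node (.leaf 107010) (.leaf 126501)))) (.node (.node (.node (.leaf 12952) (.leaf 75627)) (.node (.leaf 103173) (.leaf 131990)))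 (.node (.node (.leaf 48866) (.leaf 108302)) (.node (.leaf 63126) (.leaf 137838))))) (.node (.node (.node (.node (.leaf 8327) (.leaf 70502)) (.node (.leaf 53357) (.leaf 116453))) (.node (.node (.leaf 42442) (.leaf 93287)) (.node (.leaf 59987) (.leaf 129959)))) (.node (.node (.node (.leaf 41053) (.leaf 95728)) (.node (.leaf 97877) (.leaf 133607))) (.node (.node (.leaf 50577) (.leaf 135352)) (.node (.leaf 98582) (.leaf 136877))))))
def dFin_956 : BT := .node (.node (.node (.node (.node (.node (.node (.leaf 1192) (.leaf 138319)) (.leaf 106176)) (.node (.leaf 100052) (.leaf 120756))) (.node (.node (.leaf 93088) (.leaf 102543)) (.node (.leaf 116100) (.leaf 124317)))) (.node (.node (.node (.leaf 11981) (.leaf 72306)) (.node (.leaf 104813) (.leaf 117575))) (.node (.node (.leaf 47131) (.leaf 94841)) (.node (.leaf 61297) (.leaf 131099))))) (.node (.node (.node (.node (.node (.leaf 65100) (.leaf 140557)) (.leaf 69033)) (.node (.leaf 103310) (.leaf 114463))) (.node (.node (.leaf 48221) (.leaf 90624)) (.node (.leaf 58967) (.leaf 131622)))) (.node (.node (.node (.leaf 41453)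 (.leaf 95793)) (.node (.leaf 54905) (.leaf 120850))) (.node (.node (.leaf 49281) (.leaf 109378)) (.node (.leaf 101639) (.leaf 140084)))))) (.node (.node (.node (.node (.node (.node (.leaf 234) (.leaf 139412)) (.leaf 101023)) (.node (.leaf 106061) (.leaf 112922))) (.node (.node (.leaf 97826) (.leaf 87577)) (.node (.leaf 92053) (.leaf 125984)))) (.node (.node (.node (.leaf 12865) (.leaf 74866)) (.node (.leaf 54151) (.leaf 124766))) (.node (.node (.leaf 48262) (.leaf 108121)) (.node (.leaf 62645) (.leaf 132933))))) (.node (.node (.node (.node (.leaf 45783) (.leaf 71276)) (.node (.leaf 53332) (.leaf 116297))) (.node (.node (.leaf 42460) (.leaf 93309)) (.node (.leaf 60010) (.leaf 129019)))) (.node (.node (.node (.leaf 17099) (.leaf 90341)) (.node (.leaf 102161) (.leaf 122346))) (.node (.node (.leaf 50364) (.leaf 110945)) (.node (.leaf 65954) (.leaf 136626))))))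
def dFin_963 : BT := .node (.node (.node (.node (.node (.node (.node (.leaf 949) (.leaf 138441)) (.leaf 67056)) (.node (.leaf 51153) (.leaf 112079))) (.node (.node (.leaf 19202) (.leaf 85512)) (.node (.leaf 56482) (.leaf 124467)))) (.node (.node (.node (.leaf 41483) (.leaf 104468)) (.node (.leaf 53882) (.leaf 124250))) (.node (.node (.leaf 47296) (.leaf 95434)) (.node (.leaf 101388) (.leaf 131629))))) (.node (.node (.node (.node (.node (.leaf 2469) (.leaf 140787)) (.leaf 68953)) (.node (.leaf 59792) (.leaf 114615))) (.node (.node (.leaf 24141) (.leaf 91125)) (.node (.leaf 60278) (.leaf 127463)))) (.node (.node (.node (.leaf 48563) (.leaf 105137)) (.node (.leaf 90934) (.leaf 120936))) (.node (.node (.leaf 50120) (.leaf 123369)) (.node (.leaf 107049) (.leaf 135314)))))) (.node (.node (.node (.node (.node (.node (.leaf 37035) (.leaf 139497)) (.leaf 102935)) (.node (.leaf 51920) (.leaf 113156))) (.node (.node (.leaf 42064) (.leaf 98530)) (.node (.leaf 57553) (.leaf 126332)))) (.node (.node (.node (.leaf 12855) (.leaf 87164)) (.node (.leaf 97793) (.leaf 119254))) (.node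 (.node (.leaf 49768) (.leaf 108378)) (.node (.leaf 62919) (.leaf 133099))))) (.node (.node (.node (.node (.leaf 10555) (.leaf 70306)) (.node (.leaf 53224) (.leaf 116153))) (.node (.node (.leaf 48598) (.leaf 93209)) (.node (.leaf 59866) (.leaf 133734)))) (.node (.node (.node (.leaf 106777) (.leaf 81857)) (.node (.leaf 115228) (.leaf 122082))) (.node (.node (.leaf 50593) (.leaf 110776)) (.node (.leaf 97968) (.leaf 136833))))))
def dFin_971 : BT := .node (.node (.node (.node (.node (.node (.node (.leaf 881) (.leaf 138462)) (.leaf 121410)) (.node (.leaf 104898) (.leaf 111947))) (.node (.node (.leaf 92826) (.leaf 84935)) (.node (.leaf 105518) (.leaf 124448)))) (.node (.node (.node (.leaf 12016) (.leaf 72686)) (.node (.leaf 53660) (.leaf 135391))) (.node (.node (.leaf 47207) (.leaf 107089)) (.node (.leaf 61059) (.leaf 135486))))) (.node (.node (.node (.node (.node (.leaf 39133) (.leaf 140667)) (.leaf 97630)) (.node (.leaf 52507) (.leaf 114653))) (.node (.node (.leaf 42530) (.leaf 90943)) (.node (.leaf 58856) (.leaf 127695)))) (.node (.node (.node (.leaf 13770) (.leaf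 78333)) (.node (.leaf 94081) (.leaf 120857))) (.node (.node (.leaf 65186) (.leaf 121162)) (.node (.leaf 97951) (.leaf 134965)))))) (.node (.node (.node (.node (.node (.node (.leaf 48028) (.leaf 139443)) (.leaf 68114)) (.node (.leaf 105858) (.leaf 113083))) (.node (.node (.leaf 45834) (.leaf 87761)) (.node (.leaf 57661) (.leaf 128921)))) (.node (.node (.node (.leaf 41367) (.leaf 101767)) (.node (.leaf 54358) (.leaf 123382))) (.node (.node (.leaf 48321) (.leaf 108168)) (.node (.leaf 98045) (.leaf 134137))))) (.node (.node (.node (.node (.leaf 6414) (.leaf 70449)) (.node (.leaf 61335) (.leaf 116269))) (.node (.node (.leaf 25407) (.leaf 93141)) (.node (.leaf 60121) (.leaf 129274)))) (.node (.node (.node (.leaf 109591) (.leaf 110402)) (.node (.leaf 79842) (.leaf 122202))) (.node (.node (.leaf 50407) (.leaf 110461)) (.node (.leaf 106475) (.leaf 136702))))))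
def dFin_978 : BT := .node (.node (.node (.node (.node (.node (.node (.leaf 38646) (.leaf 138509)) (.leaf 77516)) (.node (.leaf 51457) (.leaf 112021))) (.node (.node (.leaf 42249) (.leaf 90337)) (.node (.leaf 56378) (.leaf 124547)))) (.node (.node (.node (.leaf 12081) (.leaf 104137)) (.node (.leaf 96400) (.leaf 117924))) (.node (.node (.leaf 47333) (.leaf 105622)) (.node (.leaf 106374) (.leaf 131556))))) (.node (.node (.node (.node (.node (.leaf 2590) (.leaf 140850)) (.leaf 69172)) (.node (.leaf 52759) (.leaf 114845))) (.node (.node (.leaf 46394) (.leaf 106248)) (.node (.leaf 58699) (.leaf 129778)))) (.node (.node (.node (.leaf 42634) (.leaf 78799)) (.node (.leaf 112996) (.leaf 121137))) (.node (.node (.leaf 50126) (.leaf 109756)) (.node (.leaf 109826) (.leaf 135407)))))) (.node (.node (.node (.node (.node (.node (.leaf 1334) (.leaf 140049)) (.leaf 68008)) (.node (.leaf 104395) (.leaf 113291))) (.node (.node (.leaf 23155) (.leaf 87685)) (.node (.leaf 57690) (.leaf 131011)))) (.node (.node (.node (.leaf 94441) (.leaf 128773)) (.node (.leaf 103145) (.leaf 119410)))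 (.node (.node (.leaf 49738) (.leaf 108386)) (.node (.leaf 138915) (.leaf 133330))))) (.node (.node (.node (.node (.leaf 36565) (.leaf 70678)) (.node (.leaf 53128) (.leaf 116445))) (.node (.node (.leaf 35511) (.leaf 93320)) (.node (.leaf 105162) (.leaf 130024)))) (.node (.node (.node (.leaf 17191) (.leaf 82344)) (.node (.leaf 55752) (.leaf 122388))) (.node (.node (.leaf 99708) (.leaf 122880)) (.node (.leaf 66240) (.leaf 136967))))))
def dFin_987 : BT := .node (.node (.node (.node (.node (.node (.node (.leaf 1137) (.leaf 138355)) (.leaf 106134)) (.node (.leaf 116371) (.leaf 111867))) (.node (.node (.leaf 19265) (.leaf 102544)) (.node (.leaf 105539) (.leaf 124376)))) (.node (.node (.node (.leaf 11995) (.leaf 72522)) (.node (.leaf 104705) (.leaf 129802))) (.node (.node (.leaf 47173) (.leaf 94762)) (.node (.leaf 61110) (.leaf 131565))))) (.node (.node (.node (.node (.node (.leaf 36866) (.leaf 140631)) (.leaf 69014)) (.node (.leaf 52566) (.leaf 114507))) (.node (.node (.leaf 124654) (.leaf 90433)) (.node (.leaf 58912) (.leaf 127748)))) (.node (.node (.node (.leaf 41184)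 (.leaf 103757)) (.node (.leaf 101034) (.leaf 120770))) (.node (.node (.leaf 49311) (.leaf 109484)) (.node (.leaf 65082) (.leaf 135024)))))) (.node (.node (.node (.node (.node (.node (.leaf 45501) (.leaf 139419)) (.leaf 68169)) (.node (.leaf 119449) (.leaf 113045))) (.node (.node (.leaf 46563) (.leaf 87471)) (.node (.leaf 57253) (.leaf 126106)))) (.node (.node (.node (.leaf 12829) (.leaf 99061)) (.node (.leaf 54389) (.leaf 119052))) (.node (.node (.leaf 48293) (.leaf 108141)) (.node (.leaf 62611) (.leaf 134412))))) (.node (.node (.node (.node (.leaf 42018) (.leaf 70776)) (.node (.leaf 53285) (.leaf 116280))) (.node (.node (.leaf 25414) (.leaf 93111)) (.node (.leaf 60254) (.leaf 128995)))) (.node (.node (.node (.leaf 45732) (.leaf 93255)) (.node (.leaf 55312) (.leaf 122320))) (.node (.node (.leaf 50381) (.leaf 110972)) (.node (.leaf 98080) (.leaf 136587))))))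
def dFin_994 : BT := .node (.node (.node (.node (.node (.node (.node (.leaf 124) (.leaf 138469)) (.leaf 67037)) (.node (.leaf 51516) (.leaf 132185))) (.node (.node (.leaf 45298) (.leaf 91262)) (.node (.leaf 56431) (.leaf 124252)))) (.node (.node (.node (.leaf 40773) (.leaf 99873)) (.node (.leaf 96442) (.leaf 117931))) (.node (.node (.leaf 47293) (.leaf 109130)) (.node (.leaf 102401) (.leaf 131592))))) (.node (.node (.node (.node (.node (.leaf 2413) (.leaf 140884)) (.leaf 69211)) (.node (.leaf 59337) (.leaf 114784))) (.node (.node (.leaf 100008) (.leaf 91104)) (.node (.leaf 58758) (.leaf 131495)))) (.node (.node (.node (.leaf 36940) (.leaf 100037)) (.node (.leaf 115737) (.leaf 120973))) (.node (.node (.leaf 49423) (.leaf 109720)) (.node (.leaf 105294) (.leaf 135264)))))) (.node (.node (.node (.node (.node (.node (.leaf 36405) (.leaf 139579)) (.leaf 102869)) (.node (.leaf 51888) (.leaf 113222))) (.node (.node (.leaf 23117) (.leaf 87716)) (.node (.leaf 57859) (.leaf 126273)))) (.node (.node (.node (.leaf 47330) (.leaf 106499)) (.node (.leaf 54300) (.leaf 119464)))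 (.node (.node (.leaf 48419) (.leaf 108310)) (.node (.leaf 100072) (.leaf 133352))))) (.node (.node (.node (.node (.leaf 8848) (.leaf 106465)) (.node (.leaf 53177) (.leaf 116506))) (.node (.node (.leaf 44784) (.leaf 122676)) (.node (.leaf 59819) (.leaf 130035)))) (.node (.node (.node (.leaf 37411) (.leaf 81623)) (.node (.leaf 97341) (.leaf 126609))) (.node (.node (.leaf 50652) (.leaf 110709)) (.node (.leaf 66261) (.leaf 137191))))))
def dFin_1002 : BT := .node (.node (.node (.node (.node (.node (.node (.leaf 84) (.leaf 138609)) (.leaf 67077)) (.node (.leaf 105523) (.leaf 111923))) (.node (.node (.leaf 19323) (.leaf 85327)) (.node (.leaf 56101) (.leaf 124464)))) (.node (.node (.node (.leaf 12059) (.leaf 104270)) (.node (.leaf 53601) (.leaf 124391))) (.node (.node (.leaf 47239) (.leaf 95431)) (.node (.leaf 61010) (.leaf 131649))))) (.node (.node (.node (.node (.node (.leaf 33897) (.leaf 140689)) (.leaf 97997)) (.node (.leaf 52446) (.leaf 114623))) (.node (.node (.leaf 24123) (.leaf 91144)) (.node (.leaf 59093) (.leaf 127574)))) (.node (.node (.node (.leaf 44593) (.leaf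 106349)) (.node (.leaf 100146) (.leaf 120790))) (.node (.node (.leaf 49369) (.leaf 109595)) (.node (.leaf 65060) (.leaf 135111)))))) (.node (.node (.node (.node (.node (.node (.leaf 46008) (.leaf 139469)) (.leaf 68069)) (.node (.leaf 51951) (.leaf 118018))) (.node (.node (.leaf 101283) (.leaf 87807)) (.node (.leaf 57605) (.leaf 126127)))) (.node (.node (.node (.leaf 40704) (.leaf 75098)) (.node (.leaf 123159) (.leaf 119274))) (.node (.node (.leaf 48355) (.leaf 108179)) (.node (.leaf 73218) (.leaf 133376))))) (.node (.node (.node (.node (.leaf 6539) (.leaf 70371)) (.node (.leaf 63446) (.leaf 116177))) (.node (.node (.leaf 46426) (.leaf 93179)) (.node (.leaf 59915) (.leaf 129915)))) (.node (.node (.node (.leaf 17400) (.leaf 81579)) (.node (.leaf 126848) (.leaf 122143))) (.node (.node (.leaf 50447) (.leaf 110838)) (.node (.leaf 131038) (.leaf 136650))))))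
def dFin_1009 : BT := .node (.node (.node (.node (.node (.node (.node (.leaf 33769) (.leaf 138655)) (.leaf 75431)) (.node (.leaf 51396) (.leaf 112045))) (.node (.node (.leaf 19245) (.leaf 85477)) (.node (.leaf 56609) (.leaf 124629)))) (.node (.node (.node (.leaf 46600) (.leaf 119321)) (.node (.leaf 95081) (.leaf 117897))) (.node (.node (.leaf 95174) (.leaf 105314)) (.node (.leaf 61546) (.leaf 131528))))) (.node (.node (.node (.node (.node (.leaf 2672) (.leaf 140865)) (.leaf 105588)) (.node (.leaf 52734) (.leaf 114839))) (.node (.node (.leaf 41241) (.leaf 113696)) (.node (.leaf 58638) (.leaf 129785)))) (.node (.node (.node (.leaf 14323) (.leaf 79185)) (.node (.leaf 55267) (.leaf 121055))) (.node (.node (.leaf 65181) (.leaf 109679)) (.node (.leaf 64950) (.leaf 135363)))))) (.node (.node (.node (.node (.node (.node (.leaf 1423) (.leaf 139735)) (.leaf 67961)) (.node (.leaf 52058) (.leaf 119788))) (.node (.node (.leaf 23971) (.leaf 87927)) (.node (.leaf 57455) (.leaf 126837)))) (.node (.node (.node (.leaf 12925) (.leaf 109022)) (.node (.leaf 108264) (.leaf 119432)))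 (.node (.node (.leaf 111778) (.leaf 108487)) (.node (.leaf 126066) (.leaf 133295))))) (.node (.node (.node (.node (.leaf 38407) (.leaf 70248)) (.node (.leaf 53075) (.leaf 116549))) (.node (.node (.leaf 25869) (.leaf 93358)) (.node (.leaf 103314) (.leaf 129978)))) (.node (.node (.node (.leaf 37765) (.leaf 82237)) (.node (.leaf 55730) (.leaf 122592))) (.node (.node (.leaf 50641) (.leaf 111548)) (.node (.leaf 66221) (.leaf 136931))))))
def dFin_1023 : BT := .node (.node (.node (.node (.node (.node (.node (.leaf 1) (.leaf 138247)) (.leaf 128853)) (.node (.leaf 51143) (.leaf 117721))) (.node (.node (.leaf 47700) (.leaf 120696)) (.node (.leaf 91997) (.leaf 124395)))) (.node (.node (.node (.leaf 11966) (.leaf 72311)) (.node (.leaf 105863) (.leaf 117577))) (.node (.node (.leaf 47098) (.leaf 94847)) (.node (.leaf 63377) (.leaf 131027))))) (.node (.node (.node (.node (.node (.leaf 45202) (.leaf 140567)) (.leaf 69035)) (.node (.leaf 115068) (.leaf 121692))) (.node (.node (.leaf 24116) (.leaf 90626)) (.node (.leaf 58969) (.leaf 130079)))) (.node (.node (.node (.leaf 41425)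 (.leaf 101928)) (.node (.leaf 54907) (.leaf 120631))) (.node (.node (.leaf 49262) (.leaf 109493)) (.node (.leaf 96935) (.leaf 134914)))))) (.node (.node (.node (.node (.node (.node (.leaf 45802) (.leaf 140314)) (.leaf 93893)) (.node (.leaf 102321) (.leaf 113013))) (.node (.node (.leaf 91963) (.leaf 87158)) (.node (.leaf 104339) (.leaf 126032)))) (.node (.node (.node (.leaf 12780) (.leaf 74868)) (.node (.leaf 54201) (.leaf 136982))) (.node (.node (.leaf 48226) (.leaf 113142)) (.node (.leaf 62647) (.leaf 132932))))) (.node (.node (.node (.node (.leaf 38575) (.leaf 76786)) (.node (.leaf 53334) (.leaf 116103))) (.node (.node (.leaf 42456) (.leaf 93220)) (.node (.leaf 60015) (.leaf 129022)))) (.node (.node (.node (.leaf 16984) (.leaf 81452)) (.node (.leaf 102098) (.leaf 122365))) (.node (.node (.leaf 50328) (.leaf 110922)) (.node (.leaf 98279) (.leaf 136553))))))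
def dFin_1030 : BT := .node (.node (.node (.node (.node (.node (.node (.leaf 89) (.leaf 138414)) (.leaf 67058)) (.node (.leaf 51152) (.leaf 113668))) (.node (.node (.leaf 19181) (.leaf 85328)) (.node (.leaf 56488) (.leaf 124466)))) (.node (.node (.node (.leaf 41484) (.leaf 73219)) (.node (.leaf 53602) (.leaf 117968))) (.node (.node (.leaf 47240) (.leaf 109127)) (.node (.leaf 100656) (.leaf 131655))))) (.node (.node (.node (.node (.node (.leaf 2471) (.leaf 140676)) (.leaf 68995)) (.node (.leaf 52628) (.leaf 114618))) (.node (.node (.leaf 24124) (.leaf 91127)) (.node (.leaf 59006) (.leaf 127462)))) (.node (.node (.node (.leaf 100076) (.leaf 106048)) (.node (.leaf 100148) (.leaf 120611))) (.node (.node (.leaf 50046) (.leaf 131557)) (.node (.leaf 105479) (.leaf 135112)))))) (.node (.node (.node (.node (.node (.node (.leaf 34897) (.leaf 139470)) (.leaf 86507)) (.node (.leaf 51922) (.leaf 113188))) (.node (.node (.leaf 42074) (.leaf 87819)) (.node (.leaf 57556) (.leaf 126128)))) (.node (.node (.node (.leaf 12857) (.leaf 75253)) (.node (.leaf 60902) (.leaf 119280))) (.node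 (.node (.leaf 99717) (.leaf 108228)) (.node (.leaf 62918) (.leaf 133098))))) (.node (.node (.node (.node (.leaf 10559) (.leaf 70312)) (.node (.leaf 53226) (.leaf 116182))) (.node (.node (.leaf 46386) (.leaf 93183)) (.node (.leaf 59868) (.leaf 133885)))) (.node (.node (.node (.leaf 97415) (.leaf 81888)) (.node (.leaf 101289) (.leaf 122084))) (.node (.node (.leaf 50438) (.leaf 110781)) (.node (.leaf 98901) (.leaf 136657))))))
def dFin_1038 : BT := .node (.node (.node (.node (.node (.node (.node (.leaf 2509) (.leaf 138363)) (.leaf 121388)) (.node (.leaf 105605) (.leaf 111868))) (.node (.node (.leaf 19300) (.leaf 85173)) (.node (.leaf 101018) (.leaf 124379)))) (.node (.node (.node (.leaf 12055) (.leaf 72525)) (.node (.leaf 53662) (.leaf 130386))) (.node (.node (.leaf 47175) (.leaf 115048)) (.node (.leaf 61065) (.leaf 135530))))) (.node (.node (.node (.node (.node (.leaf 36870) (.leaf 140632)) (.leaf 97572)) (.node (.leaf 52509) (.leaf 114510))) (.node (.node (.leaf 42556) (.leaf 90439)) (.node (.leaf 58861) (.leaf 127697)))) (.node (.node (.node (.leaf 13750) (.leaf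 100905)) (.node (.leaf 99762) (.leaf 120764))) (.node (.node (.leaf 91923) (.leaf 129970)) (.node (.leaf 65086) (.leaf 135032)))))) (.node (.node (.node (.node (.node (.node (.leaf 38868) (.leaf 139390)) (.leaf 68124)) (.node (.leaf 106280) (.leaf 123099))) (.node (.node (.leaf 22520) (.leaf 87472)) (.node (.leaf 57667) (.leaf 126108)))) (.node (.node (.node (.leaf 41362) (.leaf 96201)) (.node (.leaf 54360) (.leaf 119316))) (.node (.node (.leaf 48294) (.leaf 110959)) (.node (.leaf 106440) (.leaf 139584))))) (.node (.node (.node (.node (.leaf 5445) (.leaf 70451)) (.node (.leaf 63425) (.leaf 116271))) (.node (.node (.leaf 25413) (.leaf 93112)) (.node (.leaf 60259) (.leaf 129308)))) (.node (.node (.node (.leaf 109252) (.leaf 81537)) (.node (.leaf 80038) (.leaf 122204))) (.node (.node (.leaf 50372) (.leaf 110460)) (.node (.leaf 126803) (.leaf 136588))))))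
def dFin_1045 : BT := .node (.node (.node (.node (.node (.node (.node (.leaf 35566) (.leaf 138470)) (.leaf 105870)) (.node (.leaf 51459) (.leaf 111973))) (.node (.node (.leaf 42240) (.leaf 91247)) (.node (.leaf 56380) (.leaf 124255)))) (.node (.node (.node (.leaf 12083) (.leaf 116112)) (.node (.leaf 96444) (.leaf 134842))) (.node (.node (.leaf 47317) (.leaf 109144)) (.node (.leaf 102382) (.leaf 131611))))) (.node (.node (.node (.node (.node (.leaf 40146) (.leaf 140796)) (.leaf 69182)) (.node (.leaf 52761) (.leaf 114759))) (.node (.node (.leaf 100010) (.leaf 106217)) (.node (.leaf 58701) (.leaf 127465)))) (.node (.node (.node (.leaf 52010) (.leaf 78931)) (.node (.leaf 97149) (.leaf 120974))) (.node (.node (.leaf 49417) (.leaf 109723)) (.node (.leaf 109825) (.leaf 135268)))))) (.node (.node (.node (.node (.node (.node (.leaf 1331) (.leaf 139518)) (.leaf 68010)) (.node (.leaf 57165) (.leaf 113225))) (.node (.node (.leaf 23118) (.leaf 87703)) (.node (.leaf 57862) (.leaf 126860)))) (.node (.node (.node (.leaf 93516) (.leaf 106852)) (.node (.leaf 105277) (.leaf 119450)))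 (.node (.node (.leaf 48454) (.leaf 108320)) (.node (.leaf 103349) (.leaf 133355))))) (.node (.node (.node (.node (.leaf 37604) (.leaf 87296)) (.node (.leaf 53130) (.leaf 121140))) (.node (.node (.leaf 44779) (.leaf 93260)) (.node (.leaf 115034) (.leaf 130028)))) (.node (.node (.node (.leaf 17173) (.leaf 81628)) (.node (.leaf 55762) (.leaf 126613))) (.node (.node (.leaf 62812) (.leaf 111452)) (.node (.leaf 66242) (.leaf 136793))))))
def dFin_1054 : BT := .node (.node (.node (.node (.node (.node (.node (.leaf 1009) (.leaf 138320)) (.leaf 110982)) (.node (.leaf 73311) (.leaf 111828))) (.node (.node (.leaf 19280) (.leaf 101402)) (.node (.leaf 105602) (.leaf 124318)))) (.node (.node (.node (.leaf 11982) (.leaf 72293)) (.node (.leaf 104815) (.leaf 135694))) (.node (.node (.leaf 47135) (.leaf 94830)) (.node (.leaf 61112) (.leaf 131073))))) (.node (.node (.node (.node (.node (.leaf 46230) (.leaf 140558)) (.leaf 69016)) (.node (.leaf 52568) (.leaf 114465))) (.node (.node (.leaf 101711) (.leaf 90867)) (.node (.leaf 58914) (.leaf 127750)))) (.node (.node (.node (.leaf 40762)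 (.leaf 77901)) (.node (.leaf 54867) (.leaf 120854))) (.node (.node (.leaf 49282) (.leaf 109485)) (.node (.leaf 80100) (.leaf 135070)))))) (.node (.node (.node (.node (.node (.node (.leaf 39137) (.leaf 139418)) (.leaf 68171)) (.node (.leaf 101489) (.leaf 112925))) (.node (.node (.leaf 23112) (.leaf 87564)) (.node (.leaf 57252) (.leaf 125987)))) (.node (.node (.node (.leaf 12867) (.leaf 97155)) (.node (.leaf 54152) (.leaf 118516))) (.node (.node (.leaf 48256) (.leaf 121680)) (.node (.leaf 62614) (.leaf 133073))))) (.node (.node (.node (.node (.leaf 39761) (.leaf 71278)) (.node (.leaf 53287) (.leaf 116286))) (.node (.node (.leaf 25386) (.leaf 93078)) (.node (.leaf 60140) (.leaf 129004)))) (.node (.node (.node (.leaf 47334) (.leaf 110878)) (.node (.leaf 102025) (.leaf 122335))) (.node (.node (.leaf 50347) (.leaf 110939)) (.node (.leaf 98081) (.leaf 136616))))))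
def dFin_1061 : BT := .node (.node (.node (.node (.node (.node (.node (.leaf 95) (.leaf 138442)) (.leaf 67039)) (.node (.leaf 51518) (.leaf 112094))) (.node (.node (.leaf 47050) (.leaf 90351)) (.node (.leaf 56433) (.leaf 124301)))) (.node (.node (.node (.leaf 40792) (.leaf 104470)) (.node (.leaf 96653) (.leaf 117935))) (.node (.node (.leaf 47295) (.leaf 109125)) (.node (.leaf 85225) (.leaf 131598))))) (.node (.node (.node (.node (.node (.leaf 2436) (.leaf 140751)) (.leaf 68954)) (.node (.leaf 59794) (.leaf 114713))) (.node (.node (.leaf 46456) (.leaf 91106)) (.node (.leaf 58763) (.leaf 127963)))) (.node (.node (.node (.leaf 47077) (.leaf 103569)) (.node (.leaf 114242) (.leaf 120940))) (.node (.node (.leaf 49392) (.leaf 109622)) (.node (.leaf 128901) (.leaf 135317)))))) (.node (.node (.node (.node (.node (.node (.leaf 34882) (.leaf 139558)) (.leaf 102937)) (.node (.leaf 51893) (.leaf 113159))) (.node (.node (.leaf 23105) (.leaf 87722)) (.node (.leaf 57711) (.leaf 126275)))) (.node (.node (.node (.leaf 44701) (.leaf 105223)) (.node (.leaf 54297) (.leaf 119260)))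 (.node (.node (.leaf 48412) (.leaf 108380)) (.node (.leaf 104499) (.leaf 133404))))) (.node (.node (.node (.node (.leaf 6563) (.leaf 98705)) (.node (.leaf 53179) (.leaf 116137))) (.node (.node (.leaf 41315) (.leaf 122721)) (.node (.leaf 59821) (.leaf 130063)))) (.node (.node (.node (.leaf 37427) (.leaf 81820)) (.node (.leaf 98757) (.leaf 132275))) (.node (.node (.leaf 50471) (.leaf 110719)) (.node (.leaf 66267) (.leaf 136791))))))
def dFin_1069 : BT := .node (.node (.node (.node (.node (.node (.node (.leaf 63) (.leaf 138464)) (.leaf 67079)) (.node (.leaf 104201) (.leaf 111948))) (.node (.node (.leaf 19336) (.leaf 84936)) (.node (.leaf 56100) (.leaf 124488)))) (.node (.node (.node (.leaf 12018) (.leaf 73215)) (.node (.leaf 53633) (.leaf 118172))) (.node (.node (.leaf 47210) (.leaf 95430)) (.node (.leaf 61012) (.leaf 131683))))) (.node (.node (.node (.node (.node (.leaf 34112) (.leaf 140691)) (.leaf 97632)) (.node (.leaf 52448) (.leaf 114654))) (.node (.node (.leaf 24133) (.leaf 90946)) (.node (.leaf 60268) (.leaf 127576)))) (.node (.node (.node (.leaf 47946) (.leaf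 116904)) (.node (.leaf 99905) (.leaf 120603))) (.node (.node (.leaf 49362) (.leaf 109434)) (.node (.leaf 97967) (.leaf 134966)))))) (.node (.node (.node (.node (.node (.node (.leaf 48097) (.leaf 139444)) (.leaf 68071)) (.node (.leaf 51953) (.leaf 113089))) (.node (.node (.leaf 39029) (.leaf 89466)) (.node (.leaf 57612) (.leaf 126069)))) (.node (.node (.node (.leaf 40678) (.leaf 105135)) (.node (.leaf 97856) (.leaf 119298))) (.node (.node (.leaf 48322) (.leaf 108218)) (.node (.leaf 95709) (.leaf 132963))))) (.node (.node (.node (.node (.leaf 6409) (.leaf 70390)) (.node (.leaf 61299) (.leaf 116127))) (.node (.node (.leaf 100130) (.leaf 93142)) (.node (.leaf 59918) (.leaf 129181)))) (.node (.node (.node (.leaf 17134) (.leaf 81578)) (.node (.leaf 111660) (.leaf 122145))) (.node (.node (.leaf 50409) (.leaf 110840)) (.node (.leaf 95712) (.leaf 136705))))))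
def dFin_1076 : BT := .node (.node (.node (.node (.node (.node (.node (.leaf 34476) (.leaf 140486)) (.leaf 77537)) (.node (.leaf 51398) (.leaf 112022))) (.node (.node (.leaf 19226) (.leaf 85479)) (.node (.leaf 57869) (.leaf 124548)))) (.node (.node (.node (.leaf 47615) (.leaf 106763)) (.node (.leaf 96404) (.leaf 117898))) (.node (.node (.leaf 99866) (.leaf 107087)) (.node (.leaf 76134) (.leaf 131558))))) (.node (.node (.node (.node (.node (.leaf 8477) (.leaf 140822)) (.leaf 105171)) (.node (.leaf 52736) (.leaf 114884))) (.node (.node (.leaf 41279) (.leaf 91219)) (.node (.leaf 58640) (.leaf 129783)))) (.node (.node (.node (.leaf 14030) (.leaf 78800)) (.node (.leaf 104921) (.leaf 121145))) (.node (.node (.leaf 49460) (.leaf 109759)) (.node (.leaf 64952) (.leaf 135411)))))) (.node (.node (.node (.node (.node (.node (.leaf 1421) (.leaf 140056)) (.leaf 67963)) (.node (.leaf 104397) (.leaf 113328))) (.node (.node (.leaf 23865) (.leaf 87686)) (.node (.leaf 57457) (.leaf 131013)))) (.node (.node (.node (.leaf 45590) (.leaf 98979)) (.node (.leaf 105287) (.leaf 119412)))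 (.node (.node (.leaf 94548) (.leaf 108269)) (.node (.leaf 107599) (.leaf 133333))))) (.node (.node (.node (.node (.leaf 36566) (.leaf 107057)) (.node (.leaf 53074) (.leaf 116536))) (.node (.node (.leaf 25854) (.leaf 122910)) (.node (.leaf 103303) (.leaf 129984)))) (.node (.node (.node (.leaf 99890) (.leaf 82437)) (.node (.leaf 55735) (.leaf 121890))) (.node (.node (.leaf 50562) (.leaf 122882)) (.node (.leaf 66223) (.leaf 136968))))))
def dFin_1086 : BT := .node (.node (.node (.node (.node (.node (.node (.leaf 1207) (.leaf 138298)) (.leaf 66834)) (.node (.leaf 56584) (.leaf 111808))) (.node (.node (.leaf 18883) (.leaf 85030)) (.node (.leaf 56546) (.leaf 124345)))) (.node (.node (.node (.leaf 46488) (.leaf 101665)) (.node (.leaf 104682) (.leaf 117704))) (.node (.node (.leaf 47113) (.leaf 107059)) (.node (.leaf 103360) (.leaf 131029))))) (.node (.node (.node (.node (.node (.leaf 37233) (.leaf 140537)) (.leaf 101128)) (.node (.leaf 52281) (.leaf 114442))) (.node (.node (.leaf 40532) (.leaf 104935)) (.node (.leaf 98485) (.leaf 127893)))) (.node (.node (.node (.leaf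 13732) (.leaf 77982)) (.node (.leaf 55014) (.leaf 132736))) (.node (.node (.leaf 138315) (.leaf 109504)) (.node (.leaf 64598) (.leaf 134846)))))) (.node (.node (.node (.node (.node (.node (.leaf 39369) (.leaf 139358)) (.leaf 67942)) (.node (.leaf 51874) (.leaf 131757))) (.node (.node (.leaf 46656) (.leaf 101191)) (.node (.leaf 57428) (.leaf 125969)))) (.node (.node (.node (.leaf 42644) (.leaf 74962)) (.node (.leaf 112795) (.leaf 118711))) (.node (.node (.leaf 48233) (.leaf 108100)) (.node (.leaf 101235) (.leaf 134543))))) (.node (.node (.node (.node (.leaf 5417) (.leaf 70177)) (.node (.leaf 85260) (.leaf 135253))) (.node (.node (.leaf 48902) (.leaf 93062)) (.node (.leaf 59744) (.leaf 132453)))) (.node (.node (.node (.leaf 42769) (.leaf 83794)) (.node (.leaf 55479) (.leaf 121987))) (.node (.node (.leaf 50318) (.leaf 110678)) (.node (.leaf 72202) (.leaf 136562))))))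
def dFin_1093 : BT := .node (.node (.node (.node (.node (.node (.node (.leaf 38440) (.leaf 138433)) (.leaf 105955)) (.node (.leaf 51231) (.leaf 120767))) (.node (.node (.leaf 40953) (.leaf 121376)) (.node (.leaf 106753) (.leaf 124436)))) (.node (.node (.node (.leaf 46114) (.leaf 72902)) (.node (.leaf 54113) (.leaf 136709))) (.node (.node (.leaf 110905) (.leaf 109079)) (.node (.leaf 61198) (.leaf 131413))))) (.node (.node (.node (.node (.node (.leaf 37543) (.leaf 140702)) (.leaf 106968)) (.node (.leaf 52255) (.leaf 114556))) (.node (.node (.leaf 24135) (.leaf 109402)) (.node (.leaf 99053) (.leaf 127845)))) (.node (.node (.node (.leaf 13799) (.leaf 78188)) (.node (.leaf 100156) (.leaf 120918))) (.node (.node (.leaf 49471) (.leaf 109608)) (.node (.leaf 64867) (.leaf 135698)))))) (.node (.node (.node (.node (.node (.node (.leaf 491) (.leaf 139486)) (.leaf 73103)) (.node (.leaf 104744) (.leaf 113129))) (.node (.node (.leaf 46169) (.leaf 109776)) (.node (.leaf 104145) (.leaf 126899)))) (.node (.node (.node (.leaf 42315) (.leaf 75248)) (.node (.leaf 54439) (.leaf 119133)))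 (.node (.node (.leaf 48370) (.leaf 108196)) (.node (.leaf 63399) (.leaf 133183))))) (.node (.node (.node (.node (.leaf 8699) (.leaf 70624)) (.node (.leaf 100310) (.leaf 116197))) (.node (.node (.leaf 46434) (.leaf 93245)) (.node (.leaf 99252) (.leaf 129349)))) (.node (.node (.node (.leaf 46687) (.leaf 107794)) (.node (.leaf 55328) (.leaf 132527))) (.node (.node (.leaf 50462) (.leaf 126646)) (.node (.leaf 65974) (.leaf 137248))))))
def dFin_1101 : BT := .node (.node (.node (.node (.node (.node (.node (.leaf 1686) (.leaf 138452)) (.leaf 66990)) (.node (.leaf 51351) (.leaf 111885))) (.node (.node (.leaf 45340) (.leaf 105719)) (.node (.leaf 56242) (.leaf 124407)))) (.node (.node (.node (.leaf 36539) (.leaf 73017)) (.node (.leaf 105356) (.leaf 117636))) (.node (.node (.leaf 47186) (.leaf 95897)) (.node (.leaf 100594) (.leaf 131117))))) (.node (.node (.node (.node (.node (.leaf 2132) (.leaf 140652)) (.leaf 97622)) (.node (.leaf 52626) (.leaf 114646))) (.node (.node (.leaf 24109) (.leaf 105402)) (.node (.leaf 98942) (.leaf 128035)))) (.node (.node (.node (.leaf 42707)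 (.leaf 104657)) (.node (.leaf 54966) (.leaf 120647))) (.node (.node (.leaf 49326) (.leaf 109470)) (.node (.leaf 65081) (.leaf 135017)))))) (.node (.node (.node (.node (.node (.node (.leaf 38934) (.leaf 139434)) (.leaf 73120)) (.node (.leaf 51814) (.leaf 113063))) (.node (.node (.leaf 41147) (.leaf 87650)) (.node (.leaf 91822) (.leaf 127443)))) (.node (.node (.node (.leaf 37268) (.leaf 75297)) (.node (.leaf 54499) (.leaf 119336))) (.node (.node (.leaf 99796) (.leaf 114462)) (.node (.leaf 62701) (.leaf 133001))))) (.node (.node (.node (.node (.leaf 9755) (.leaf 120966)) (.node (.leaf 100074) (.leaf 116315))) (.node (.node (.leaf 25403) (.leaf 122709)) (.node (.leaf 119551) (.leaf 129310)))) (.node (.node (.node (.leaf 17128) (.leaf 81568)) (.node (.leaf 101885) (.leaf 132519))) (.node (.node (.leaf 50391) (.leaf 110553)) (.node (.leaf 66022) (.leaf 136679))))))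
def dFin_1108 : BT := .node (.node (.node (.node (.node (.node (.node (.leaf 590) (.leaf 138490)) (.leaf 67436)) (.node (.leaf 103736) (.leaf 112017))) (.node (.node (.leaf 19218) (.leaf 136580)) (.node (.leaf 104605) (.leaf 124541)))) (.node (.node (.node (.leaf 42369) (.leaf 100121)) (.node (.leaf 54017) (.leaf 117872))) (.node (.node (.leaf 47370) (.leaf 95867)) (.node (.leaf 61362) (.leaf 131313))))) (.node (.node (.node (.node (.node (.leaf 2580) (.leaf 140893)) (.leaf 69320)) (.node (.leaf 106844) (.leaf 114768))) (.node (.node (.leaf 24708) (.leaf 91185)) (.node (.leaf 58593) (.leaf 131501)))) (.node (.node (.node (.leaf 36958) (.leaf 104958)) (.node (.leaf 55133) (.leaf 121122))) (.node (.node (.leaf 49451) (.leaf 109744)) (.node (.leaf 64796) (.leaf 135380)))))) (.node (.node (.node (.node (.node (.node (.leaf 6444) (.leaf 139534)) (.leaf 106803)) (.node (.leaf 104380) (.leaf 113295))) (.node (.node (.leaf 24148) (.leaf 87664)) (.node (.leaf 103381) (.leaf 126503)))) (.node (.node (.node (.leaf 12904) (.leaf 75665)) (.node (.leaf 80514) (.leaf 136066)))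 (.node (.node (.leaf 48443) (.leaf 108344)) (.node (.leaf 63128) (.leaf 135829))))) (.node (.node (.node (.node (.leaf 36528) (.leaf 70507)) (.node (.leaf 53359) (.leaf 118016))) (.node (.node (.leaf 36547) (.leaf 93344)) (.node (.leaf 60027) (.leaf 129961)))) (.node (.node (.node (.leaf 41034) (.leaf 82201)) (.node (.leaf 98044) (.leaf 121875))) (.node (.node (.leaf 50542) (.leaf 122899)) (.node (.leaf 87814) (.leaf 136940))))))
def dFin_1117 : BT := .node (.node (.node (.node (.node (.node (.node (.leaf 1017) (.leaf 138337)) (.leaf 67011)) (.node (.leaf 100111) (.leaf 111854))) (.node (.node (.leaf 45285) (.leaf 84959)) (.node (.leaf 56304) (.leaf 124409)))) (.node (.node (.node (.leaf 47454) (.leaf 91885)) (.node (.leaf 115009) (.leaf 117665))) (.node (.node (.leaf 65420) (.leaf 94904)) (.node (.leaf 100316) (.leaf 131081))))) (.node (.node (.node (.node (.node (.leaf 37242) (.leaf 140639)) (.leaf 68932)) (.node (.leaf 101383) (.leaf 114516))) (.node (.node (.leaf 24103) (.leaf 90429)) (.node (.leaf 77690) (.leaf 127895)))) (.node (.node (.node (.leaf 96691)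 (.leaf 77919)) (.node (.leaf 54991) (.leaf 120654))) (.node (.node (.leaf 49300) (.leaf 109525)) (.node (.leaf 64530) (.leaf 135079)))))) (.node (.node (.node (.node (.node (.node (.leaf 39141) (.leaf 139379)) (.leaf 103654)) (.node (.leaf 51845) (.leaf 113026))) (.node (.node (.leaf 41972) (.leaf 109736)) (.node (.leaf 57369) (.leaf 126084)))) (.node (.node (.node (.leaf 47452) (.leaf 75338)) (.node (.leaf 95293) (.leaf 137584))) (.node (.node (.leaf 48824) (.leaf 108128)) (.node (.leaf 62764) (.leaf 134547))))) (.node (.node (.node (.node (.leaf 46085) (.leaf 99769)) (.node (.leaf 105004) (.leaf 116357))) (.node (.node (.leaf 46369) (.leaf 93093)) (.node (.leaf 98426) (.leaf 128964)))) (.node (.node (.node (.leaf 17110) (.leaf 81264)) (.node (.leaf 64339) (.leaf 121925))) (.node (.node (.leaf 50356) (.leaf 110619)) (.node (.leaf 95744) (.leaf 136569))))))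
def dFin_1124 : BT := .node (.node (.node (.node (.node (.node (.node (.leaf 37293) (.leaf 140731)) (.leaf 105868)) (.node (.leaf 51156) (.leaf 111988))) (.node (.node (.leaf 19198) (.leaf 85575)) (.node (.leaf 100759) (.leaf 124235)))) (.node (.node (.node (.leaf 12086) (.leaf 73253)) (.node (.leaf 54064) (.leaf 117887))) (.node (.node (.leaf 47274) (.leaf 109846)) (.node (.leaf 61149) (.leaf 131362))))) (.node (.node (.node (.node (.node (.leaf 46086) (.leaf 140773)) (.leaf 96207)) (.node (.leaf 99283) (.leaf 114724))) (.node (.node (.leaf 100023) (.leaf 91200)) (.node (.leaf 106253) (.leaf 127790)))) (.node (.node (.node (.leaf 47636) (.leaf 78839)) (.node (.leaf 54888) (.leaf 120956))) (.node (.node (.leaf 49414) (.leaf 109711)) (.node (.leaf 64829) (.leaf 135246)))))) (.node (.node (.node (.node (.node (.node (.leaf 46229) (.leaf 139551)) (.leaf 105452)) (.node (.leaf 94290) (.leaf 113217))) (.node (.node (.leaf 95225) (.leaf 106227)) (.node (.leaf 69827) (.leaf 126562)))) (.node (.node (.node (.leaf 12884) (.leaf 75116)) (.node (.leaf 97863) (.leaf 119108)))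 (.node (.node (.leaf 48400) (.leaf 108375)) (.node (.leaf 63429) (.leaf 133400))))) (.node (.node (.node (.node (.leaf 8851) (.leaf 70567)) (.node (.leaf 53070) (.leaf 119858))) (.node (.node (.leaf 46179) (.leaf 93214)) (.node (.leaf 60067) (.leaf 131703)))) (.node (.node (.node (.leaf 41750) (.leaf 81625)) (.node (.leaf 55675) (.leaf 126792))) (.node (.node (.leaf 50506) (.leaf 110478)) (.node (.leaf 105592) (.leaf 137193))))))
def dFin_1132 : BT := .node (.node (.node (.node (.node (.node (.node (.leaf 8653) (.leaf 138401)) (.leaf 106589)) (.node (.leaf 51290) (.leaf 111888))) (.node (.node (.leaf 38878) (.leaf 94303)) (.node (.leaf 56183) (.leaf 131208)))) (.node (.node (.node (.leaf 46912) (.leaf 72961)) (.node (.leaf 53588) (.leaf 122874))) (.node (.node (.leaf 47326) (.leaf 95884)) (.node (.leaf 61245) (.leaf 131700))))) (.node (.node (.node (.node (.node (.leaf 37586) (.leaf 140718)) (.leaf 126133)) (.node (.leaf 58813) (.leaf 114686))) (.node (.node (.leaf 94540) (.leaf 127900)) (.node (.leaf 99050) (.leaf 127630)))) (.node (.node (.node (.leaf 13764)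 (.leaf 78285)) (.node (.leaf 99996) (.leaf 120638))) (.node (.node (.leaf 49354) (.leaf 109453)) (.node (.leaf 65096) (.leaf 135097)))))) (.node (.node (.node (.node (.node (.node (.leaf 37527) (.leaf 139973)) (.leaf 104434)) (.node (.leaf 105942) (.leaf 114889))) (.node (.node (.leaf 22614) (.leaf 87828)) (.node (.leaf 100952) (.leaf 126123)))) (.node (.node (.node (.leaf 42579) (.leaf 77226)) (.node (.leaf 54468) (.leaf 119156))) (.node (.node (.leaf 48340) (.leaf 123232)) (.node (.leaf 62592) (.leaf 132968))))) (.node (.node (.node (.node (.leaf 6528) (.leaf 101279)) (.node (.leaf 103373) (.leaf 116256))) (.node (.node (.leaf 46937) (.leaf 93164)) (.node (.leaf 132912) (.leaf 129189)))) (.node (.node (.node (.leaf 46711) (.leaf 81682)) (.node (.leaf 55426) (.leaf 122520))) (.node (.node (.leaf 50427) (.leaf 110992)) (.node (.leaf 65999) (.leaf 136682))))))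
def dFin_1139 : BT := .node (.node (.node (.node (.node (.node (.node (.leaf 32765) (.leaf 138524)) (.leaf 121387)) (.node (.leaf 51159) (.leaf 112028))) (.node (.node (.leaf 19239) (.leaf 124806)) (.node (.leaf 102904) (.leaf 124609)))) (.node (.node (.node (.leaf 12106) (.leaf 72768)) (.node (.leaf 82093) (.leaf 117859))) (.node (.node (.leaf 47340) (.leaf 95845)) (.node (.leaf 63180) (.leaf 132672))))) (.node (.node (.node (.node (.node (.leaf 2517) (.leaf 140844)) (.leaf 69293)) (.node (.leaf 97317) (.leaf 114866))) (.node (.node (.leaf 24160) (.leaf 91168)) (.node (.leaf 58946) (.leaf 129795)))) (.node (.node (.node (.leaf 37006) (.leaf 79272)) (.node (.leaf 55100) (.leaf 121041))) (.node (.node (.leaf 49442) (.leaf 109663)) (.node (.leaf 101229) (.leaf 135382)))))) (.node (.node (.node (.node (.node (.node (.leaf 45932) (.leaf 140032)) (.leaf 114788)) (.node (.leaf 51999) (.leaf 113257))) (.node (.node (.leaf 24762) (.leaf 87906)) (.node (.leaf 112086) (.leaf 126442)))) (.node (.node (.node (.leaf 12955) (.leaf 75628)) (.node (.leaf 54404) (.leaf 122731)))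 (.node (.node (.leaf 48868) (.leaf 108490)) (.node (.leaf 63079) (.leaf 133275))))) (.node (.node (.node (.node (.leaf 46530) (.leaf 70677)) (.node (.leaf 53310) (.leaf 116488))) (.node (.node (.leaf 42440) (.leaf 93293)) (.node (.leaf 59988) (.leaf 129946)))) (.node (.node (.node (.leaf 17196) (.leaf 109717)) (.node (.leaf 95806) (.leaf 135933))) (.node (.node (.leaf 50860) (.leaf 122997)) (.node (.leaf 66122) (.leaf 136915))))))
def dFin_1150 : BT := .node (.node (.node (.node (.node (.node (.node (.leaf 9) (.leaf 138259)) (.leaf 66830)) (.node (.leaf 51144) (.leaf 111834))) (.node (.node (.leaf 45269) (.leaf 85125)) (.node (.leaf 56499) (.leaf 132881)))) (.node (.node (.node (.leaf 41576) (.leaf 86218)) (.node (.leaf 53610) (.leaf 131752))) (.node (.node (.leaf 47106) (.leaf 105435)) (.node (.leaf 104271) (.leaf 137683))))) (.node (.node (.node (.node (.node (.leaf 2249) (.leaf 140522)) (.leaf 69003)) (.node (.leaf 59103) (.leaf 114436))) (.node (.node (.leaf 24080) (.leaf 90529)) (.node (.leaf 59018) (.leaf 135659)))) (.node (.node (.node (.leaf 52639) (.leaf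 128378)) (.node (.leaf 99857) (.leaf 120666))) (.node (.node (.leaf 49284) (.leaf 109506)) (.node (.leaf 101469) (.leaf 134832)))))) (.node (.node (.node (.node (.node (.node (.leaf 39132) (.leaf 139354)) (.leaf 99756)) (.node (.leaf 51930) (.leaf 113009))) (.node (.node (.leaf 42080) (.leaf 87171)) (.node (.leaf 57575) (.leaf 126040)))) (.node (.node (.node (.leaf 12778) (.leaf 81528)) (.node (.leaf 75845) (.leaf 121036))) (.node (.node (.leaf 48264) (.leaf 108085)) (.node (.leaf 105425) (.leaf 132931))))) (.node (.node (.node (.node (.leaf 38237) (.leaf 69998)) (.node (.leaf 53242) (.leaf 116364))) (.node (.node (.leaf 46381) (.leaf 93366)) (.node (.leaf 59884) (.leaf 129075)))) (.node (.node (.node (.leaf 17122) (.leaf 81355)) (.node (.leaf 105068) (.leaf 122103))) (.node (.node (.leaf 50309) (.leaf 110794)) (.node (.leaf 65937) (.leaf 137006))))))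
def dFin_1157 : BT := .node (.node (.node (.node (.node (.node (.node (.leaf 1208) (.leaf 138518)) (.leaf 67022)) (.node (.leaf 56592) (.leaf 111932))) (.node (.node (.leaf 19186) (.leaf 85334)) (.node (.leaf 56537) (.leaf 124215)))) (.node (.node (.node (.leaf 12024) (.leaf 104278)) (.node (.leaf 71052) (.leaf 117914))) (.node (.node (.leaf 47258) (.leaf 107070)) (.node (.leaf 109920) (.leaf 131671))))) (.node (.node (.node (.node (.node (.leaf 37599) (.leaf 140740)) (.leaf 79871)) (.node (.leaf 52273) (.leaf 114569))) (.node (.node (.leaf 40541) (.leaf 91057)) (.node (.leaf 99182) (.leaf 138819)))) (.node (.node (.node (.leaf 13778) (.leaf 78174)) (.node (.leaf 55006) (.leaf 120621))) (.node (.node (.leaf 96756) (.leaf 121456)) (.node (.leaf 64938) (.leaf 135124)))))) (.node (.node (.node (.node (.node (.node (.leaf 1500) (.leaf 139670)) (.leaf 67922)) (.node (.leaf 51866) (.leaf 113127))) (.node (.node (.leaf 46623) (.leaf 98524)) (.node (.leaf 57411) (.leaf 126137)))) (.node (.node (.node (.leaf 42654) (.leaf 75254)) (.node (.leaf 101112) (.leaf 119289))) (.node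 (.node (.leaf 48360) (.leaf 108186)) (.node (.leaf 116428) (.leaf 133359))))) (.node (.node (.node (.node (.leaf 6542) (.leaf 98323)) (.node (.leaf 103694) (.leaf 116188))) (.node (.node (.leaf 65137) (.leaf 93184)) (.node (.leaf 99246) (.leaf 129337)))) (.node (.node (.node (.leaf 42754) (.leaf 82082)) (.node (.leaf 55324) (.leaf 121968))) (.node (.node (.leaf 50454) (.leaf 110665)) (.node (.leaf 71988) (.leaf 136669))))))
def dFin_1165 : BT := .node (.node (.node (.node (.node (.node (.node (.leaf 15) (.leaf 138378)) (.leaf 75017)) (.node (.leaf 51467) (.leaf 111876))) (.node (.node (.leaf 42226) (.leaf 102769)) (.node (.leaf 56392) (.leaf 124292)))) (.node (.node (.node (.leaf 11996) (.leaf 73213)) (.node (.leaf 104261) (.leaf 122824))) (.node (.node (.leaf 47185) (.leaf 140460)) (.node (.leaf 104161) (.leaf 131103))))) (.node (.node (.node (.node (.node (.leaf 45941) (.leaf 140674)) (.leaf 68967)) (.node (.leaf 52393) (.leaf 123162))) (.node (.node (.leaf 48348) (.leaf 104986)) (.node (.leaf 58714) (.leaf 127456)))) (.node (.node (.node (.leaf 49863) (.leaf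 78478)) (.node (.leaf 99770) (.leaf 120778))) (.node (.node (.leaf 49316) (.leaf 109455)) (.node (.leaf 64732) (.leaf 135564)))))) (.node (.node (.node (.node (.node (.node (.leaf 1369) (.leaf 139642)) (.leaf 68026)) (.node (.leaf 57154) (.leaf 113050))) (.node (.node (.leaf 22530) (.leaf 87484)) (.node (.leaf 57818) (.leaf 126061)))) (.node (.node (.node (.leaf 12804) (.leaf 106449)) (.node (.leaf 60915) (.leaf 119329))) (.node (.node (.leaf 48326) (.leaf 111685)) (.node (.leaf 119031) (.leaf 133045))))) (.node (.node (.node (.node (.leaf 38038) (.leaf 70750)) (.node (.leaf 53146) (.leaf 116309))) (.node (.node (.leaf 40648) (.leaf 93146)) (.node (.leaf 101501) (.leaf 129335)))) (.node (.node (.node (.leaf 45895) (.leaf 81554)) (.node (.leaf 55567) (.leaf 132555))) (.node (.node (.leaf 135572) (.leaf 110977)) (.node (.leaf 66066) (.leaf 136592))))))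
def dFin_1172 : BT := .node (.node (.node (.node (.node (.node (.node (.leaf 8707) (.leaf 138487)) (.leaf 66982)) (.node (.leaf 51343) (.leaf 128037))) (.node (.node (.leaf 45328) (.leaf 101519)) (.node (.leaf 56230) (.leaf 124517)))) (.node (.node (.node (.leaf 42607) (.leaf 72993)) (.node (.leaf 96448) (.leaf 117940))) (.node (.node (.leaf 47318) (.leaf 95863)) (.node (.leaf 109419) (.leaf 131607))))) (.node (.node (.node (.node (.node (.leaf 2380) (.leaf 140798)) (.leaf 80520)) (.node (.leaf 97065) (.leaf 130059))) (.node (.node (.leaf 46255) (.leaf 130909)) (.node (.leaf 114235) (.leaf 127991)))) (.node (.node (.node (.leaf 42408) (.leaf 104842)) (.node (.leaf 55193) (.leaf 120982))) (.node (.node (.leaf 49455) (.leaf 109731)) (.node (.leaf 65029) (.leaf 135195)))))) (.node (.node (.node (.node (.node (.node (.leaf 38800) (.leaf 139572)) (.leaf 68202)) (.node (.leaf 51805) (.leaf 113307))) (.node (.node (.leaf 41160) (.leaf 87663)) (.node (.leaf 100920) (.leaf 126870)))) (.node (.node (.node (.leaf 47262) (.leaf 75708)) (.node (.leaf 54491) (.leaf 119471)))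 (.node (.node (.leaf 48437) (.leaf 108328)) (.node (.leaf 63270) (.leaf 133235))))) (.node (.node (.node (.node (.leaf 9559) (.leaf 105041)) (.node (.leaf 103869) (.leaf 116497))) (.node (.node (.leaf 25848) (.leaf 122684)) (.node (.leaf 125972) (.leaf 130038)))) (.node (.node (.node (.leaf 17180) (.leaf 81640)) (.node (.leaf 97121) (.leaf 121869))) (.node (.node (.leaf 50533) (.leaf 110534)) (.node (.leaf 66197) (.leaf 136938))))))
def dFin_1181 : BT := .node (.node (.node (.node (.node (.node (.node (.leaf 8588) (.leaf 138332)) (.leaf 67047)) (.node (.leaf 51526) (.leaf 111841))) (.node (.node (.leaf 136107) (.leaf 89867)) (.node (.leaf 56446) (.leaf 124326)))) (.node (.node (.node (.leaf 40870) (.leaf 101102)) (.node (.leaf 53584) (.leaf 123013))) (.node (.node (.leaf 47144) (.leaf 113624)) (.node (.leaf 104677) (.leaf 131075))))) (.node (.node (.node (.node (.node (.leaf 2182) (.leaf 140646)) (.leaf 68984)) (.node (.leaf 59968) (.leaf 114478))) (.node (.node (.leaf 48836) (.leaf 90484)) (.node (.leaf 58775) (.leaf 127904)))) (.node (.node (.node (.leaf 13741)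 (.leaf 77902)) (.node (.leaf 111849) (.leaf 120834))) (.node (.node (.leaf 49299) (.leaf 109564)) (.node (.leaf 112540) (.leaf 135065)))))) (.node (.node (.node (.node (.node (.node (.leaf 38870) (.leaf 140352)) (.leaf 103927)) (.node (.leaf 51901) (.leaf 112943))) (.node (.node (.leaf 22539) (.leaf 87529)) (.node (.leaf 57747) (.leaf 126009)))) (.node (.node (.node (.leaf 36256) (.leaf 119761)) (.node (.leaf 98088) (.leaf 123404))) (.node (.node (.leaf 48279) (.leaf 114439)) (.node (.leaf 69365) (.leaf 133059))))) (.node (.node (.node (.node (.leaf 45458) (.leaf 70198)) (.node (.leaf 53195) (.leaf 116124))) (.node (.node (.leaf 41316) (.leaf 93116)) (.node (.leaf 59834) (.leaf 128977)))) (.node (.node (.node (.leaf 17103) (.leaf 81326)) (.node (.leaf 105051) (.leaf 125347))) (.node (.node (.leaf 50550) (.leaf 110735)) (.node (.leaf 66091) (.leaf 136633))))))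
def dFin_1188 : BT := .node (.node (.node (.node (.node (.node (.node (.leaf 1157) (.leaf 138626)) (.leaf 67003)) (.node (.leaf 104155) (.leaf 122405))) (.node (.node (.leaf 45045) (.leaf 85447)) (.node (.leaf 56291) (.leaf 124426)))) (.node (.node (.node (.leaf 44739) (.leaf 91785)) (.node (.leaf 106080) (.leaf 117952))) (.node (.node (.leaf 47267) (.leaf 95912)) (.node (.leaf 101431) (.leaf 131638))))) (.node (.node (.node (.node (.node (.leaf 36427) (.leaf 140928)) (.leaf 97794)) (.node (.leaf 96293) (.leaf 114742))) (.node (.node (.leaf 24142) (.leaf 91234)) (.node (.leaf 67433) (.leaf 127945)))) (.node (.node (.node (.leaf 117428) (.leaf 100490)) (.node (.leaf 54884) (.leaf 120948))) (.node (.node (.leaf 49400) (.leaf 115728)) (.node (.leaf 64904) (.leaf 135221)))))) (.node (.node (.node (.node (.node (.node (.leaf 8750) (.leaf 139511)) (.leaf 102752)) (.node (.leaf 51837) (.leaf 113201))) (.node (.node (.leaf 42003) (.leaf 96411)) (.node (.leaf 57349) (.leaf 126908)))) (.node (.node (.node (.leaf 45546) (.leaf 75104)) (.node (.leaf 97712) (.leaf 122275)))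 (.node (.node (.leaf 48383) (.leaf 108363)) (.node (.leaf 63321) (.leaf 134349))))) (.node (.node (.node (.node (.leaf 37154) (.leaf 106182)) (.node (.leaf 103540) (.leaf 116138))) (.node (.node (.leaf 25516) (.leaf 93197)) (.node (.leaf 80060) (.leaf 130068)))) (.node (.node (.node (.leaf 17166) (.leaf 81729)) (.node (.leaf 99087) (.leaf 121909))) (.node (.node (.leaf 50494) (.leaf 110603)) (.node (.leaf 97974) (.leaf 136762))))))
def dFin_1196 : BT := .node (.node (.node (.node (.node (.node (.node (.leaf 34720) (.leaf 138736)) (.leaf 73747)) (.node (.leaf 51406) (.leaf 111937))) (.node (.node (.leaf 19172) (.leaf 84944)) (.node (.leaf 57843) (.leaf 124270)))) (.node (.node (.node (.leaf 37850) (.leaf 73195)) (.node (.leaf 53587) (.leaf 122871))) (.node (.node (.leaf 114444) (.leaf 107080)) (.node (.leaf 100598) (.leaf 131688))))) (.node (.node (.node (.node (.node (.leaf 46056) (.leaf 140669)) (.leaf 97868)) (.node (.leaf 52332) (.leaf 114585))) (.node (.node (.leaf 41225) (.leaf 91269)) (.node (.leaf 58652) (.leaf 127921)))) (.node (.node (.node (.leaf 13761)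 (.leaf 78336)) (.node (.leaf 106291) (.leaf 120876))) (.node (.node (.leaf 49339) (.leaf 109445)) (.node (.leaf 64967) (.leaf 134993)))))) (.node (.node (.node (.node (.node (.node (.leaf 1407) (.leaf 139452)) (.leaf 67971)) (.node (.leaf 105864) (.leaf 113987))) (.node (.node (.leaf 45842) (.leaf 87701)) (.node (.leaf 57477) (.leaf 126111)))) (.node (.node (.node (.leaf 44568) (.leaf 102119)) (.node (.leaf 107019) (.leaf 119309))) (.node (.node (.leaf 48339) (.leaf 108208)) (.node (.leaf 101087) (.leaf 132960))))) (.node (.node (.node (.node (.leaf 35719) (.leaf 97833)) (.node (.leaf 103999) (.leaf 116393))) (.node (.node (.leaf 25408) (.leaf 93159)) (.node (.leaf 79971) (.leaf 129183)))) (.node (.node (.node (.leaf 131105) (.leaf 82095)) (.node (.leaf 55518) (.leaf 122029))) (.node (.node (.leaf 50416) (.leaf 111723)) (.node (.leaf 66043) (.leaf 136713))))))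
def dFin_1203 : BT := .node (.node (.node (.node (.node (.node (.node (.leaf 8403) (.leaf 138513)) (.leaf 67095)) (.node (.leaf 51282) (.leaf 117378))) (.node (.node (.leaf 41690) (.leaf 85563)) (.node (.leaf 56171) (.leaf 124598)))) (.node (.node (.node (.leaf 34363) (.leaf 72930)) (.node (.leaf 53784) (.leaf 120302))) (.node (.node (.leaf 47325) (.leaf 95878)) (.node (.leaf 60976) (.leaf 131578))))) (.node (.node (.node (.node (.node (.leaf 2664) (.leaf 140832)) (.leaf 105264)) (.node (.leaf 99139) (.leaf 118072))) (.node (.node (.leaf 47845) (.leaf 125690)) (.node (.leaf 79843) (.leaf 127617)))) (.node (.node (.node (.leaf 14038) (.leaf 78816)) (.node (.leaf 83851) (.leaf 121158))) (.node (.node (.leaf 49438) (.leaf 109767)) (.node (.leaf 64988) (.leaf 135341)))))) (.node (.node (.node (.node (.node (.node (.leaf 38939) (.leaf 139604)) (.leaf 67889)) (.node (.leaf 52036) (.leaf 113248))) (.node (.node (.leaf 23156) (.leaf 87917)) (.node (.leaf 124556) (.leaf 139305)))) (.node (.node (.node (.leaf 87666) (.leaf 77736)) (.node (.leaf 54460) (.leaf 119401))) (.node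 (.node (.leaf 48460) (.leaf 108977)) (.node (.leaf 63229) (.leaf 133197))))) (.node (.node (.node (.node (.leaf 8078) (.leaf 102143)) (.node (.leaf 138520) (.leaf 116436))) (.node (.node (.leaf 42640) (.leaf 93280)) (.node (.leaf 105154) (.leaf 130010)))) (.node (.node (.node (.leaf 44702) (.leaf 82268)) (.node (.leaf 55699) (.leaf 122629))) (.node (.node (.leaf 50571) (.leaf 110481)) (.node (.leaf 66174) (.leaf 136860))))))
def dFin_1213 : BT := .node (.node (.node (.node (.node (.node (.node (.leaf 38193) (.leaf 138312)) (.leaf 67087)) (.node (.leaf 51239) (.leaf 111815))) (.node (.node (.leaf 40922) (.leaf 84922)) (.node (.leaf 104347) (.leaf 124314)))) (.node (.node (.node (.leaf 11973) (.leaf 72328)) (.node (.leaf 53769) (.leaf 122861))) (.node (.node (.leaf 102651) (.leaf 115496)) (.node (.leaf 61210) (.leaf 131043))))) (.node (.node (.node (.node (.node (.leaf 33517) (.leaf 140554)) (.leaf 101125)) (.node (.leaf 103308) (.leaf 114456))) (.node (.node (.leaf 48127) (.leaf 91619)) (.node (.leaf 106121) (.leaf 127854)))) (.node (.node (.node (.leaf 13736) (.leaf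 77945)) (.node (.leaf 81000) (.leaf 134553))) (.node (.node (.leaf 49696) (.leaf 109421)) (.node (.leaf 64579) (.leaf 135062)))))) (.node (.node (.node (.node (.node (.node (.leaf 511) (.leaf 139407)) (.leaf 100347)) (.node (.leaf 76982) (.leaf 122936))) (.node (.node (.leaf 46601) (.leaf 101217)) (.node (.leaf 113232) (.leaf 133553)))) (.node (.node (.node (.leaf 42318) (.leaf 74978)) (.node (.leaf 54148) (.leaf 118597))) (.node (.node (.leaf 48246) (.leaf 108108)) (.node (.leaf 62901) (.leaf 132985))))) (.node (.node (.node (.node (.leaf 37486) (.leaf 70168)) (.node (.leaf 108980) (.leaf 116382))) (.node (.node (.leaf 25424) (.leaf 93074)) (.node (.leaf 98222) (.leaf 129062)))) (.node (.node (.node (.leaf 46012) (.leaf 106027)) (.node (.leaf 55387) (.leaf 122418))) (.node (.node (.leaf 50322) (.leaf 121788)) (.node (.leaf 65997) (.leaf 136635))))))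
def dFin_1220 : BT := .node (.node (.node (.node (.node (.node (.node (.leaf 1165) (.leaf 138438)) (.leaf 127341)) (.node (.leaf 103862) (.leaf 111964))) (.node (.node (.leaf 45015) (.leaf 124512)) (.node (.leaf 106756) (.leaf 124440)))) (.node (.node (.node (.leaf 12036) (.leaf 72734)) (.node (.leaf 99216) (.leaf 117750))) (.node (.node (.leaf 47315) (.leaf 95855)) (.node (.leaf 61100) (.leaf 131621))))) (.node (.node (.node (.node (.node (.leaf 37583) (.leaf 140706)) (.leaf 68950)) (.node (.leaf 52260) (.leaf 114579))) (.node (.node (.leaf 99782) (.leaf 91263)) (.node (.leaf 58902) (.leaf 127741)))) (.node (.node (.node (.leaf 40707) (.leaf 103444)) (.node (.leaf 104985) (.leaf 120930))) (.node (.node (.leaf 49380) (.leaf 109641)) (.node (.leaf 69428) (.leaf 135310)))))) (.node (.node (.node (.node (.node (.node (.leaf 1497) (.leaf 139701)) (.leaf 68155)) (.node (.leaf 104752) (.leaf 113135))) (.node (.node (.leaf 46313) (.leaf 87767)) (.node (.leaf 100606) (.leaf 126924)))) (.node (.node (.node (.leaf 37434) (.leaf 98617)) (.node (.leaf 54383) (.leaf 119057)))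 (.node (.node (.leaf 48374) (.leaf 108351)) (.node (.leaf 63044) (.leaf 133394))))) (.node (.node (.node (.node (.leaf 35364) (.leaf 71787)) (.node (.leaf 53271) (.leaf 116200))) (.node (.node (.leaf 25430) (.leaf 93235)) (.node (.leaf 60111) (.leaf 129359)))) (.node (.node (.node (.leaf 17358) (.leaf 111669)) (.node (.leaf 98964) (.leaf 122337))) (.node (.node (.leaf 50472) (.leaf 127166)) (.node (.leaf 98019) (.leaf 136826))))))
def dFin_1228 : BT := .node (.node (.node (.node (.node (.node (.node (.leaf 447) (.leaf 138388)) (.leaf 123119)) (.node (.leaf 104601) (.leaf 111916))) (.node (.node (.leaf 19220) (.leaf 102228)) (.node (.leaf 103550) (.leaf 124482)))) (.node (.node (.node (.leaf 42363) (.leaf 74519)) (.node (.leaf 53689) (.leaf 117584))) (.node (.node (.leaf 47198) (.leaf 95877)) (.node (.leaf 61345) (.leaf 131129))))) (.node (.node (.node (.node (.node (.leaf 46052) (.leaf 140738)) (.leaf 69044)) (.node (.leaf 94526) (.leaf 114640))) (.node (.node (.leaf 24110) (.leaf 90930)) (.node (.leaf 98944) (.leaf 131608)))) (.node (.node (.node (.leaf 47991)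 (.leaf 102558)) (.node (.leaf 54922) (.leaf 120604))) (.node (.node (.leaf 49330) (.leaf 115255)) (.node (.leaf 64811) (.leaf 134981)))))) (.node (.node (.node (.node (.node (.node (.leaf 284) (.leaf 139440)) (.leaf 139588)) (.node (.leaf 73057) (.leaf 113076))) (.node (.node (.leaf 99919) (.leaf 103287)) (.node (.leaf 91965) (.leaf 126063)))) (.node (.node (.node (.leaf 12814) (.leaf 75202)) (.node (.leaf 69424) (.leaf 119054))) (.node (.node (.leaf 48315) (.leaf 108158)) (.node (.leaf 62665) (.leaf 135243))))) (.node (.node (.node (.node (.leaf 35968) (.leaf 70547)) (.node (.leaf 53367) (.leaf 116239))) (.node (.node (.leaf 100128) (.leaf 93135)) (.node (.leaf 60039) (.leaf 129271)))) (.node (.node (.node (.leaf 37342) (.leaf 96342)) (.node (.leaf 103107) (.leaf 122294))) (.node (.node (.leaf 50398) (.leaf 119001)) (.node (.leaf 95710) (.leaf 136698))))))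
def dFin_1235 : BT := .node (.node (.node (.node (.node (.node (.node (.leaf 2548) (.leaf 138503)) (.leaf 67423)) (.node (.leaf 116067) (.leaf 112014))) (.node (.node (.leaf 19410) (.leaf 85525)) (.node (.leaf 100894) (.leaf 124535)))) (.node (.node (.node (.leaf 12090) (.leaf 103792)) (.node (.leaf 53925) (.leaf 117753))) (.node (.node (.leaf 47361) (.leaf 115568)) (.node (.leaf 60995) (.leaf 131569))))) (.node (.node (.node (.node (.node (.leaf 34654) (.leaf 140820)) (.leaf 108860)) (.node (.leaf 52780) (.leaf 114780))) (.node (.node (.leaf 24179) (.leaf 91138)) (.node (.leaf 60286) (.leaf 127567)))) (.node (.node (.node (.leaf 38045) (.leaf 105568)) (.node (.leaf 106816) (.leaf 121126))) (.node (.node (.leaf 52633) (.leaf 115974)) (.node (.leaf 89474) (.leaf 135399)))))) (.node (.node (.node (.node (.node (.node (.leaf 49045) (.leaf 139538)) (.leaf 68063)) (.node (.leaf 51792) (.leaf 113319))) (.node (.node (.leaf 46165) (.leaf 89322)) (.node (.leaf 57592) (.leaf 126387)))) (.node (.node (.node (.leaf 40884) (.leaf 96479)) (.node (.leaf 105296) (.leaf 122775)))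 (.node (.node (.leaf 48452) (.leaf 108261)) (.node (.leaf 99952) (.leaf 135309))))) (.node (.node (.node (.node (.leaf 7123) (.leaf 70350)) (.node (.leaf 104169) (.leaf 116433))) (.node (.node (.leaf 26027) (.leaf 93301)) (.node (.leaf 59906) (.leaf 130009)))) (.node (.node (.node (.leaf 45823) (.leaf 138215)) (.node (.leaf 99391) (.leaf 121886))) (.node (.node (.leaf 50578) (.leaf 110823)) (.node (.leaf 132690) (.leaf 136956))))))
def dFin_1244 : BT := .node (.node (.node (.node (.node (.node (.node (.leaf 37915) (.leaf 138338)) (.leaf 66943)) (.node (.leaf 104331) (.leaf 111865))) (.node (.node (.leaf 19158) (.leaf 116187)) (.node (.leaf 104761) (.leaf 124373)))) (.node (.node (.node (.leaf 11993) (.leaf 72517)) (.node (.leaf 53744) (.leaf 117613))) (.node (.node (.leaf 47156) (.leaf 114576)) (.node (.leaf 61165) (.leaf 131095))))) (.node (.node (.node (.node (.node (.leaf 2065) (.leaf 140620)) (.leaf 97805)) (.node (.leaf 105129) (.leaf 114498))) (.node (.node (.leaf 46500) (.leaf 90422)) (.node (.leaf 106528) (.leaf 127801)))) (.node (.node (.node (.leaf 47530)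 (.leaf 77928)) (.node (.leaf 54947) (.leaf 120760))) (.node (.node (.leaf 49636) (.leaf 109380)) (.node (.leaf 64542) (.leaf 135493)))))) (.node (.node (.node (.node (.node (.node (.leaf 38860) (.leaf 139386)) (.leaf 117792)) (.node (.leaf 106056) (.leaf 113055))) (.node (.node (.leaf 48555) (.leaf 106364)) (.node (.leaf 91592) (.leaf 126058)))) (.node (.node (.node (.leaf 12823) (.leaf 75247)) (.node (.leaf 67841) (.leaf 118538))) (.node (.node (.leaf 48284) (.leaf 108132)) (.node (.leaf 98400) (.leaf 133022))))) (.node (.node (.node (.node (.leaf 49398) (.leaf 70600)) (.node (.leaf 91649) (.leaf 116350))) (.node (.node (.leaf 25394) (.leaf 93108)) (.node (.leaf 60080) (.leaf 128989)))) (.node (.node (.node (.leaf 41755) (.leaf 81551)) (.node (.leaf 55338) (.leaf 122315))) (.node (.node (.leaf 50360) (.leaf 110957)) (.node (.leaf 65956) (.leaf 136579))))))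
def dFin_1251 : BT := .node (.node (.node (.node (.node (.node (.node (.leaf 119) (.leaf 138463)) (.leaf 106781)) (.node (.leaf 138404) (.leaf 111967))) (.node (.node (.leaf 81556) (.leaf 85542)) (.node (.leaf 105299) (.leaf 124241)))) (.node (.node (.node (.leaf 12099) (.leaf 72675)) (.node (.leaf 53972) (.leaf 122929))) (.node (.node (.leaf 47287) (.leaf 95436)) (.node (.leaf 61049) (.leaf 131152))))) (.node (.node (.node (.node (.node (.leaf 35447) (.leaf 140782)) (.leaf 69427)) (.node (.leaf 52805) (.leaf 114736))) (.node (.node (.leaf 42512) (.leaf 91250)) (.node (.leaf 58846) (.leaf 127686)))) (.node (.node (.node (.leaf 13794) (.leaf 100400)) (.node (.leaf 55262) (.leaf 120955))) (.node (.node (.leaf 49472) (.leaf 120882)) (.node (.leaf 64745) (.leaf 135258)))))) (.node (.node (.node (.node (.node (.node (.leaf 40226) (.leaf 139547)) (.leaf 68108)) (.node (.leaf 104504) (.leaf 113706))) (.node (.node (.leaf 23108) (.leaf 87748)) (.node (.leaf 57643) (.leaf 126879)))) (.node (.node (.node (.leaf 41590) (.leaf 98185)) (.node (.leaf 54352) (.leaf 119444)))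 (.node (.node (.leaf 48408) (.leaf 108235)) (.node (.leaf 94183) (.leaf 133344))))) (.node (.node (.node (.node (.leaf 6805) (.leaf 70416)) (.node (.leaf 63455) (.leaf 116166))) (.node (.node (.leaf 25511) (.leaf 93226)) (.node (.leaf 102030) (.leaf 136671)))) (.node (.node (.node (.leaf 46668) (.leaf 92064)) (.node (.leaf 97106) (.leaf 122187))) (.node (.node (.leaf 50513) (.leaf 122693)) (.node (.leaf 107030) (.leaf 136783))))))
def dFin_1259 : BT := .node (.node (.node (.node (.node (.node (.node (.leaf 79) (.leaf 138410)) (.leaf 106595)) (.node (.leaf 103834) (.leaf 130499))) (.node (.node (.leaf 19240) (.leaf 105505)) (.node (.leaf 104163) (.leaf 124457)))) (.node (.node (.node (.leaf 12052) (.leaf 72799)) (.node (.leaf 63698) (.leaf 117557))) (.node (.node (.leaf 47228) (.leaf 95841)) (.node (.leaf 63349) (.leaf 136247))))) (.node (.node (.node (.node (.node (.leaf 50128) (.leaf 140729)) (.leaf 69027)) (.node (.leaf 60596) (.leaf 114692))) (.node (.node (.leaf 49459) (.leaf 91176)) (.node (.leaf 58957) (.leaf 129925)))) (.node (.node (.node (.leaf 41413)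 (.leaf 83928)) (.node (.leaf 54899) (.leaf 136945))) (.node (.node (.leaf 49358) (.leaf 109596)) (.node (.leaf 105282) (.leaf 135132)))))) (.node (.node (.node (.node (.node (.node (.leaf 46237) (.leaf 139577)) (.leaf 114932)) (.node (.leaf 133727) (.leaf 113174))) (.node (.node (.leaf 49964) (.leaf 87783)) (.node (.leaf 105520) (.leaf 126118)))) (.node (.node (.node (.leaf 12864) (.leaf 75127)) (.node (.leaf 54412) (.leaf 132676))) (.node (.node (.leaf 48775) (.leaf 108170)) (.node (.leaf 62600) (.leaf 133422))))) (.node (.node (.node (.node (.leaf 36914) (.leaf 70705)) (.node (.leaf 53318) (.leaf 116263))) (.node (.node (.leaf 42480) (.leaf 93173)) (.node (.leaf 59999) (.leaf 129197)))) (.node (.node (.node (.leaf 17148) (.leaf 95111)) (.node (.leaf 79396) (.leaf 124481))) (.node (.node (.leaf 50449) (.leaf 111000)) (.node (.leaf 65959) (.leaf 136643))))))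
def dFin_1266 : BT := .node (.node (.node (.node (.node (.node (.node (.leaf 34493) (.leaf 138528)) (.leaf 67378)) (.node (.leaf 51612) (.leaf 117814))) (.node (.node (.leaf 19233) (.leaf 85506)) (.node (.leaf 56475) (.leaf 124623)))) (.node (.node (.node (.leaf 41587) (.leaf 103657)) (.node (.leaf 53876) (.leaf 117987))) (.node (.node (.leaf 47352) (.leaf 95439)) (.node (.leaf 103815) (.leaf 131518))))) (.node (.node (.node (.node (.node (.leaf 2518) (.leaf 140859)) (.leaf 69226)) (.node (.leaf 98465) (.leaf 114875))) (.node (.node (.leaf 24170) (.leaf 91119)) (.node (.leaf 58997) (.leaf 128012)))) (.node (.node (.node (.leaf 39007) (.leaf 87734)) (.node (.leaf 58494) (.leaf 121045))) (.node (.node (.leaf 50123) (.leaf 109664)) (.node (.leaf 119319) (.leaf 135344)))))) (.node (.node (.node (.node (.node (.node (.leaf 45938) (.leaf 139602)) (.leaf 86389)) (.node (.leaf 51988) (.leaf 113283))) (.node (.node (.leaf 37652) (.leaf 87921)) (.node (.leaf 57543) (.leaf 126326)))) (.node (.node (.node (.leaf 12947) (.leaf 76045)) (.node (.leaf 72474) (.leaf 123025))) (.node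 (.node (.leaf 48483) (.leaf 117450)) (.node (.leaf 62934) (.leaf 133307))))) (.node (.node (.node (.node (.leaf 8427) (.leaf 70288)) (.node (.leaf 53218) (.leaf 116553))) (.node (.node (.leaf 25993) (.leaf 93327)) (.node (.leaf 59859) (.leaf 129382)))) (.node (.node (.node (.leaf 52101) (.leaf 82226)) (.node (.leaf 95813) (.leaf 122643))) (.node (.node (.leaf 50592) (.leaf 110762)) (.node (.leaf 107060) (.leaf 136889))))))
def dFin_1278 : BT := .node (.node (.node (.node (.node (.node (.node (.leaf 5) (.leaf 138252)) (.leaf 66824)) (.node (.leaf 91980) (.leaf 111796))) (.node (.node (.leaf 123300) (.leaf 85205)) (.node (.leaf 91970) (.leaf 124399)))) (.node (.node (.node (.leaf 46613) (.leaf 72283)) (.node (.leaf 53666) (.leaf 122922))) (.node (.node (.leaf 47402) (.leaf 103079)) (.node (.leaf 61069) (.leaf 131021))))) (.node (.node (.node (.node (.node (.leaf 39890) (.leaf 140563)) (.leaf 88352)) (.node (.leaf 52513) (.leaf 114432))) (.node (.node (.leaf 42037) (.leaf 90862)) (.node (.leaf 58865) (.leaf 127705)))) (.node (.node (.node (.leaf 13728) (.leaf 77977))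 (.node (.leaf 101059) (.leaf 120695))) (.node (.node (.leaf 49383) (.leaf 129976)) (.node (.leaf 96418) (.leaf 134822)))))) (.node (.node (.node (.node (.node (.node (.leaf 45804) (.leaf 139350)) (.leaf 68132)) (.node (.leaf 108598) (.leaf 131822))) (.node (.node (.leaf 22502) (.leaf 87162)) (.node (.leaf 57671) (.leaf 126036)))) (.node (.node (.node (.leaf 41369) (.leaf 74983)) (.node (.leaf 54157) (.leaf 136990))) (.node (.node (.leaf 48216) (.leaf 108097)) (.node (.leaf 101238) (.leaf 139868))))) (.node (.node (.node (.node (.leaf 5458) (.leaf 69994)) (.node (.leaf 104812) (.leaf 116107))) (.node (.node (.leaf 25376) (.leaf 93054)) (.node (.leaf 60244) (.leaf 130907)))) (.node (.node (.node (.leaf 121306) (.leaf 101474)) (.node (.leaf 102102) (.leaf 122219))) (.node (.node (.leaf 50310) (.leaf 126742)) (.node (.leaf 114756) (.leaf 136554))))))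
def dFin_1285 : BT := .node (.node (.node (.node (.node (.node (.node (.leaf 35560) (.leaf 138418)) (.leaf 74987)) (.node (.leaf 51463) (.leaf 111928))) (.node (.node (.leaf 42221) (.leaf 90942)) (.node (.leaf 56388) (.leaf 124284)))) (.node (.node (.node (.leaf 12041) (.leaf 78769)) (.node (.leaf 54114) (.leaf 117972))) (.node (.node (.leaf 47245) (.leaf 109153)) (.node (.leaf 60957) (.leaf 131665))))) (.node (.node (.node (.node (.node (.leaf 33520) (.leaf 140672)) (.leaf 68963)) (.node (.leaf 52389) (.leaf 115531))) (.node (.node (.leaf 48468) (.leaf 101530)) (.node (.leaf 58706) (.leaf 127929)))) (.node (.node (.node (.leaf 49320) (.leaf 78168)) (.node (.leaf 119255) (.leaf 120615))) (.node (.node (.leaf 49365) (.leaf 109600)) (.node (.leaf 106972) (.leaf 135119)))))) (.node (.node (.node (.node (.node (.node (.leaf 1324) (.leaf 139674)) (.leaf 68014)) (.node (.leaf 105948) (.leaf 113192))) (.node (.node (.leaf 23000) (.leaf 87712)) (.node (.leaf 57847) (.leaf 126138)))) (.node (.node (.node (.leaf 12840) (.leaf 105150)) (.node (.leaf 97754) (.leaf 119285)))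 (.node (.node (.leaf 48726) (.leaf 108185)) (.node (.leaf 105557) (.leaf 133383))))) (.node (.node (.node (.node (.leaf 36917) (.leaf 98196)) (.node (.leaf 53134) (.leaf 119713))) (.node (.node (.leaf 40632) (.leaf 93195)) (.node (.leaf 99242) (.leaf 129367)))) (.node (.node (.node (.leaf 17151) (.leaf 81816)) (.node (.leaf 55320) (.leaf 132360))) (.node (.node (.leaf 56006) (.leaf 125913)) (.node (.leaf 65966) (.leaf 136665))))))
def dFin_1293 : BT := .node (.node (.node (.node (.node (.node (.node (.leaf 2527) (.leaf 138374)) (.leaf 67062)) (.node (.leaf 106863) (.leaf 111873))) (.node (.node (.leaf 19350) (.leaf 85093)) (.node (.leaf 56492) (.leaf 124385)))) (.node (.node (.node (.leaf 41493) (.leaf 73204)) (.node (.leaf 53606) (.leaf 130205))) (.node (.node (.leaf 47178) (.leaf 109196)) (.node (.leaf 60954) (.leaf 131137))))) (.node (.node (.node (.node (.node (.leaf 2237) (.leaf 140651)) (.leaf 68999)) (.node (.leaf 59107) (.leaf 114514))) (.node (.node (.leaf 24098) (.leaf 90442)) (.node (.leaf 59014) (.leaf 127455)))) (.node (.node (.node (.leaf 46464) (.leaf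 101254)) (.node (.leaf 99893) (.leaf 120772))) (.node (.node (.leaf 49824) (.leaf 109427)) (.node (.leaf 120281) (.leaf 135035)))))) (.node (.node (.node (.node (.node (.node (.leaf 45272) (.leaf 139394)) (.leaf 103664)) (.node (.leaf 51926) (.leaf 113046))) (.node (.node (.leaf 42083) (.leaf 87481)) (.node (.leaf 57571) (.leaf 126102)))) (.node (.node (.node (.leaf 12819) (.leaf 101670)) (.node (.leaf 54292) (.leaf 119324))) (.node (.node (.leaf 48307) (.leaf 108145)) (.node (.leaf 95729) (.leaf 133040))))) (.node (.node (.node (.node (.leaf 5423) (.leaf 70335)) (.node (.leaf 53238) (.leaf 116303))) (.node (.node (.leaf 46385) (.leaf 93121)) (.node (.leaf 59879) (.leaf 130578)))) (.node (.node (.node (.leaf 17125) (.leaf 81542)) (.node (.leaf 101866) (.leaf 122088))) (.node (.node (.leaf 50371) (.leaf 110785)) (.node (.leaf 114494) (.leaf 137046))))))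
def dFin_1300 : BT := .node (.node (.node (.node (.node (.node (.node (.leaf 1186) (.leaf 138511)) (.leaf 67018)) (.node (.leaf 104166) (.leaf 111977))) (.node (.node (.leaf 19212) (.leaf 85462)) (.node (.leaf 56529) (.leaf 124555)))) (.node (.node (.node (.leaf 12064) (.leaf 99964)) (.node (.leaf 70817) (.leaf 117906))) (.node (.node (.leaf 47626) (.leaf 107097)) (.node (.leaf 134600) (.leaf 131603))))) (.node (.node (.node (.node (.node (.leaf 37733) (.leaf 140789)) (.leaf 101905)) (.node (.leaf 52717) (.leaf 114751))) (.node (.node (.leaf 40604) (.leaf 106400)) (.node (.leaf 115560) (.leaf 127977)))) (.node (.node (.node (.leaf 35711) (.leaf 78903)) (.node (.leaf 55253) (.leaf 121330))) (.node (.node (.leaf 96439) (.leaf 118206)) (.node (.leaf 64929) (.leaf 135223)))))) (.node (.node (.node (.node (.node (.node (.leaf 46196) (.leaf 139514)) (.leaf 67918)) (.node (.leaf 51861) (.leaf 113301))) (.node (.node (.leaf 46589) (.leaf 98209)) (.node (.leaf 57400) (.leaf 126141)))) (.node (.node (.node (.leaf 12896) (.leaf 75740)) (.node (.leaf 107007) (.leaf 119456)))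 (.node (.node (.leaf 48818) (.leaf 108324)) (.node (.leaf 106032) (.leaf 133360))))) (.node (.node (.node (.node (.leaf 6704) (.leaf 102116)) (.node (.leaf 100518) (.leaf 116516))) (.node (.node (.leaf 25926) (.leaf 93252)) (.node (.leaf 107239) (.leaf 130051)))) (.node (.node (.node (.leaf 42766) (.leaf 81637)) (.node (.leaf 55726) (.leaf 121955))) (.node (.node (.leaf 50526) (.leaf 110650)) (.node (.leaf 72390) (.leaf 136797))))))
def dFin_1309 : BT := .node (.node (.node (.node (.node (.node (.node (.leaf 8582) (.leaf 138329)) (.leaf 67083)) (.node (.leaf 100103) (.leaf 111832))) (.node (.node (.leaf 19153) (.leaf 85134)) (.node (.leaf 106028) (.leaf 124322)))) (.node (.node (.node (.leaf 47136) (.leaf 73823)) (.node (.leaf 53637) (.leaf 124042))) (.node (.node (.leaf 47140) (.leaf 115011)) (.node (.leaf 61020) (.leaf 131064))))) (.node (.node (.node (.node (.node (.leaf 33660) (.leaf 140612)) (.leaf 108370)) (.node (.leaf 52452) (.leaf 114468))) (.node (.node (.leaf 24107) (.leaf 90568)) (.node (.leaf 60255) (.leaf 127580)))) (.node (.node (.node (.leaf 46616)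 (.leaf 135771)) (.node (.leaf 54868) (.leaf 124474))) (.node (.node (.leaf 97206) (.leaf 109558)) (.node (.leaf 89104) (.leaf 135057)))))) (.node (.node (.node (.node (.node (.node (.leaf 38854) (.leaf 139399)) (.leaf 68083)) (.node (.leaf 51957) (.leaf 130351))) (.node (.node (.leaf 95473) (.leaf 89224)) (.node (.leaf 57620) (.leaf 126005)))) (.node (.node (.node (.leaf 40692) (.leaf 75058)) (.node (.leaf 101887) (.leaf 118519))) (.node (.node (.leaf 48260) (.leaf 108116)) (.node (.leaf 98583) (.leaf 133054))))) (.node (.node (.node (.node (.leaf 5441) (.leaf 70185)) (.node (.leaf 61311) (.leaf 116326))) (.node (.node (.leaf 48630) (.leaf 93082)) (.node (.leaf 59926) (.leaf 128973)))) (.node (.node (.node (.leaf 17104) (.leaf 106025)) (.node (.leaf 106929) (.leaf 122157))) (.node (.node (.leaf 50349) (.leaf 110851)) (.node (.leaf 97852) (.leaf 136620))))))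
def dFin_1316 : BT := .node (.node (.node (.node (.node (.node (.node (.leaf 34712) (.leaf 138455)) (.leaf 105915)) (.node (.leaf 51402) (.leaf 111980))) (.node (.node (.leaf 19194) (.leaf 85483)) (.node (.leaf 104138) (.leaf 124265)))) (.node (.node (.node (.leaf 42621) (.leaf 130993)) (.node (.leaf 99009) (.leaf 122827))) (.node (.node (.leaf 62870) (.leaf 138406)) (.node (.leaf 69807) (.leaf 131634))))) (.node (.node (.node (.node (.node (.leaf 37553) (.leaf 140746)) (.leaf 101811)) (.node (.leaf 52268) (.leaf 115124))) (.node (.node (.leaf 41287) (.leaf 123116)) (.node (.leaf 58647) (.leaf 127967)))) (.node (.node (.node (.leaf 14033) (.leaf 78918)) (.node (.leaf 54878) (.leaf 120945))) (.node (.node (.leaf 91941) (.leaf 109626)) (.node (.leaf 64956) (.leaf 135324)))))) (.node (.node (.node (.node (.node (.node (.leaf 1408) (.leaf 140144)) (.leaf 67967)) (.node (.leaf 58473) (.leaf 113226))) (.node (.node (.leaf 46922) (.leaf 87694)) (.node (.leaf 57465) (.leaf 126882)))) (.node (.node (.node (.leaf 12881) (.leaf 75100)) (.node (.leaf 105289) (.leaf 119265)))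 (.node (.node (.leaf 48393) (.leaf 108359)) (.node (.leaf 107126) (.leaf 133386))))) (.node (.node (.node (.node (.leaf 37951) (.leaf 98808)) (.node (.leaf 103536) (.leaf 119842))) (.node (.node (.leaf 25434) (.leaf 93203)) (.node (.leaf 75501) (.leaf 130060)))) (.node (.node (.node (.leaf 100313) (.leaf 81906)) (.node (.leaf 55747) (.leaf 122025))) (.node (.node (.leaf 50486) (.leaf 111740)) (.node (.leaf 66231) (.leaf 136800))))))
def dFin_1324 : BT := .node (.node (.node (.node (.node (.node (.node (.leaf 8649) (.leaf 138396)) (.leaf 67043)) (.node (.leaf 51522) (.leaf 111942))) (.node (.node (.leaf 47706) (.leaf 89588)) (.node (.leaf 56441) (.leaf 124306)))) (.node (.node (.node (.leaf 40768) (.leaf 73189)) (.node (.leaf 100966) (.leaf 122993))) (.node (.node (.leaf 47214) (.leaf 109875)) (.node (.leaf 103638) (.leaf 131680))))) (.node (.node (.node (.node (.node (.leaf 2440) (.leaf 140686)) (.leaf 68980)) (.node (.leaf 52631) (.leaf 114663))) (.node (.node (.leaf 48998) (.leaf 90950)) (.node (.leaf 58768) (.leaf 127919)))) (.node (.node (.node (.leaf 13763)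 (.leaf 106934)) (.node (.leaf 139678) (.leaf 120873))) (.node (.node (.leaf 49349) (.leaf 109441)) (.node (.leaf 117841) (.leaf 134978)))))) (.node (.node (.node (.node (.node (.node (.leaf 35374) (.leaf 139578)) (.leaf 103587)) (.node (.leaf 51897) (.leaf 113092))) (.node (.node (.leaf 22610) (.leaf 87729)) (.node (.leaf 57731) (.leaf 126073)))) (.node (.node (.node (.leaf 42591) (.leaf 105133)) (.node (.leaf 97759) (.leaf 119304))) (.node (.node (.leaf 101145) (.leaf 136805)) (.node (.leaf 86165) (.leaf 132950))))) (.node (.node (.node (.node (.leaf 45794) (.leaf 95391)) (.node (.leaf 53183) (.leaf 116333))) (.node (.node (.leaf 41332) (.leaf 130465)) (.node (.leaf 59826) (.leaf 129172)))) (.node (.node (.node (.leaf 17133) (.leaf 81855)) (.node (.leaf 116039) (.leaf 132356))) (.node (.node (.leaf 50662) (.leaf 110724)) (.node (.leaf 66087) (.leaf 136726))))))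
def dFin_1331 : BT := .node (.node (.node (.node (.node (.node (.node (.leaf 1133) (.leaf 138550)) (.leaf 67242)) (.node (.leaf 104141) (.leaf 117376))) (.node (.node (.leaf 44997) (.leaf 85443)) (.node (.leaf 56287) (.leaf 124592)))) (.node (.node (.node (.leaf 12878) (.leaf 103803)) (.node (.leaf 102242) (.leaf 117916))) (.node (.node (.leaf 51186) (.leaf 95901)) (.node (.leaf 116846) (.leaf 131566))))) (.node (.node (.node (.node (.node (.leaf 36626) (.leaf 140838)) (.leaf 69123)) (.node (.leaf 98113) (.leaf 114887))) (.node (.node (.leaf 24175) (.leaf 113183)) (.node (.leaf 103315) (.leaf 127996)))) (.node (.node (.node (.leaf 37887) (.leaf 78811)) (.node (.leaf 55220) (.leaf 121154))) (.node (.node (.leaf 49434) (.leaf 109762)) (.node (.leaf 64900) (.leaf 135417)))))) (.node (.node (.node (.node (.node (.node (.leaf 40149) (.leaf 139582)) (.leaf 102501)) (.node (.leaf 51800) (.leaf 113247))) (.node (.node (.leaf 37720) (.leaf 87911)) (.node (.leaf 57341) (.leaf 126845)))) (.node (.node (.node (.leaf 12917) (.leaf 75616)) (.node (.leaf 95441) (.leaf 136019)))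 (.node (.node (.leaf 49174) (.leaf 108273)) (.node (.leaf 63309) (.leaf 135323))))) (.node (.node (.node (.node (.leaf 8156) (.leaf 105087)) (.node (.leaf 53073) (.leaf 116426))) (.node (.node (.leaf 50474) (.leaf 93265)) (.node (.leaf 101820) (.leaf 130004)))) (.node (.node (.node (.leaf 17192) (.leaf 82308)) (.node (.leaf 64606) (.leaf 121894))) (.node (.node (.leaf 50566) (.leaf 110591)) (.node (.leaf 71232) (.leaf 136919))))))
def dFin_1341 : BT := .node (.node (.node (.node (.node (.node (.node (.leaf 8712) (.leaf 138304)) (.leaf 66838)) (.node (.leaf 51355) (.leaf 111816))) (.node (.node (.leaf 47064) (.leaf 100869)) (.node (.leaf 56249) (.leaf 124312)))) (.node (.node (.node (.leaf 45746) (.leaf 72324)) (.node (.leaf 104684) (.leaf 117652))) (.node (.node (.leaf 47123) (.leaf 94870)) (.node (.leaf 106286) (.leaf 131033))))) (.node (.node (.node (.node (.node (.leaf 2148) (.leaf 140546)) (.leaf 79898)) (.node (.leaf 103304) (.leaf 114474))) (.node (.node (.leaf 24085) (.leaf 105400)) (.node (.leaf 98488) (.leaf 127881)))) (.node (.node (.node (.leaf 42661)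 (.leaf 77972)) (.node (.leaf 54970) (.leaf 120676))) (.node (.node (.leaf 49274) (.leaf 109476)) (.node (.leaf 64728) (.leaf 134850)))))) (.node (.node (.node (.node (.node (.node (.leaf 38502) (.leaf 139408)) (.leaf 74554)) (.node (.leaf 51818) (.leaf 122823))) (.node (.node (.leaf 41148) (.leaf 97481)) (.node (.leaf 101386) (.leaf 125975)))) (.node (.node (.node (.leaf 12785) (.leaf 74932)) (.node (.leaf 54144) (.leaf 132120))) (.node (.node (.leaf 131619) (.leaf 114388)) (.node (.leaf 62740) (.leaf 133013))))) (.node (.node (.node (.node (.leaf 37484) (.leaf 71296)) (.node (.leaf 74527) (.leaf 116374))) (.node (.node (.leaf 25381) (.leaf 122795)) (.node (.leaf 106082) (.leaf 129057)))) (.node (.node (.node (.leaf 17096) (.leaf 81239)) (.node (.leaf 102112) (.leaf 122338))) (.node (.node (.leaf 50388) (.leaf 110562)) (.node (.leaf 66041) (.leaf 136612))))))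
def dFin_1348 : BT := .node (.node (.node (.node (.node (.node (.node (.leaf 592) (.leaf 138434)) (.leaf 105896)) (.node (.leaf 116300) (.leaf 111990))) (.node (.node (.leaf 19192) (.leaf 124827)) (.node (.leaf 103777) (.leaf 128246)))) (.node (.node (.node (.leaf 42384) (.leaf 74457)) (.node (.leaf 54021) (.leaf 117880))) (.node (.node (.leaf 47304) (.leaf 95873)) (.node (.leaf 61349) (.leaf 131317))))) (.node (.node (.node (.node (.node (.leaf 36671) (.leaf 140735)) (.leaf 68946)) (.node (.leaf 101060) (.leaf 114566))) (.node (.node (.leaf 24619) (.leaf 91189)) (.node (.leaf 99196) (.leaf 127953)))) (.node (.node (.node (.leaf 44623) (.leaf 105142)) (.node (.leaf 54918) (.leaf 120924))) (.node (.node (.leaf 49376) (.leaf 109612)) (.node (.leaf 64807) (.leaf 135328)))))) (.node (.node (.node (.node (.node (.node (.leaf 594) (.leaf 139490)) (.leaf 111700)) (.node (.leaf 104809) (.leaf 113131))) (.node (.node (.leaf 47188) (.leaf 96713)) (.node (.leaf 138564) (.leaf 126507)))) (.node (.node (.node (.leaf 12852) (.leaf 75165)) (.node (.leaf 60912) (.leaf 125234)))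 (.node (.node (.leaf 48688) (.leaf 108200)) (.node (.leaf 63140) (.leaf 133391))))) (.node (.node (.node (.node (.leaf 6557) (.leaf 70520)) (.node (.leaf 53363) (.leaf 119875))) (.node (.node (.leaf 98033) (.leaf 93248)) (.node (.leaf 60032) (.leaf 129355)))) (.node (.node (.node (.leaf 41062) (.leaf 103324)) (.node (.leaf 101637) (.leaf 122285))) (.node (.node (.leaf 50466) (.leaf 118895)) (.node (.leaf 97962) (.leaf 136820))))))
def dFin_1356 : BT := .node (.node (.node (.node (.node (.node (.node (.leaf 37824) (.leaf 138482)) (.leaf 79225)) (.node (.leaf 51235) (.leaf 111896))) (.node (.node (.leaf 40958) (.leaf 102267)) (.node (.leaf 105167) (.leaf 124499)))) (.node (.node (.node (.leaf 12003) (.leaf 72913)) (.node (.leaf 53773) (.leaf 120803))) (.node (.node (.leaf 137256) (.leaf 95902)) (.node (.leaf 61202) (.leaf 131125))))) (.node (.node (.node (.node (.node (.leaf 34108) (.leaf 140656)) (.leaf 107205)) (.node (.leaf 94444) (.leaf 114630))) (.node (.node (.leaf 49674) (.leaf 103845)) (.node (.leaf 120929) (.leaf 127850)))) (.node (.node (.node (.leaf 13773)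 (.leaf 78283)) (.node (.leaf 80996) (.leaf 120774))) (.node (.node (.leaf 49737) (.leaf 109415)) (.node (.leaf 64871) (.leaf 134975)))))) (.node (.node (.node (.node (.node (.node (.leaf 507) (.leaf 139436)) (.leaf 103837)) (.node (.leaf 121134) (.leaf 113075))) (.node (.node (.leaf 38681) (.leaf 123883)) (.node (.leaf 91830) (.leaf 126053)))) (.node (.node (.node (.leaf 42342) (.leaf 75429)) (.node (.leaf 54443) (.leaf 119137))) (.node (.node (.leaf 48310) (.leaf 108154)) (.node (.leaf 62910) (.leaf 132973))))) (.node (.node (.node (.node (.leaf 9711) (.leaf 70651)) (.node (.leaf 104771) (.leaf 116319))) (.node (.node (.leaf 25401) (.leaf 93130)) (.node (.leaf 98988) (.leaf 129320)))) (.node (.node (.node (.leaf 45811) (.leaf 106447)) (.node (.leaf 55383) (.leaf 132290))) (.node (.node (.leaf 50394) (.leaf 119012)) (.node (.leaf 65978) (.leaf 136684))))))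
def dFin_1363 : BT := .node (.node (.node (.node (.node (.node (.node (.leaf 2552) (.leaf 138494)) (.leaf 112999)) (.node (.leaf 73285) (.leaf 112010))) (.node (.node (.leaf 45034) (.leaf 85403)) (.node (.leaf 103386) (.leaf 124531)))) (.node (.node (.node (.leaf 12078) (.leaf 72721)) (.node (.leaf 96467) (.leaf 124485))) (.node (.node (.leaf 47379) (.leaf 95849)) (.node (.leaf 61087) (.leaf 131564))))) (.node (.node (.node (.node (.node (.leaf 10629) (.leaf 140806)) (.leaf 69257)) (.node (.leaf 52824) (.leaf 114777))) (.node (.node (.leaf 97380) (.leaf 91238)) (.node (.leaf 58897) (.leaf 127737)))) (.node (.node (.node (.leaf 36960) (.leaf 94151)) (.node (.leaf 102970) (.leaf 121163))) (.node (.node (.leaf 49447) (.leaf 123180)) (.node (.leaf 80507) (.leaf 135395)))))) (.node (.node (.node (.node (.node (.node (.leaf 40143) (.leaf 139571)) (.leaf 68151)) (.node (.leaf 126831) (.leaf 113304))) (.node (.node (.leaf 23830) (.leaf 87670)) (.node (.leaf 100930) (.leaf 126917)))) (.node (.node (.node (.leaf 12913) (.leaf 101597)) (.node (.leaf 54379) (.leaf 132015)))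 (.node (.node (.leaf 48448) (.leaf 108267)) (.node (.leaf 63032) (.leaf 134764))))) (.node (.node (.node (.node (.leaf 36559) (.leaf 102133)) (.node (.leaf 53267) (.leaf 116522))) (.node (.node (.leaf 25850) (.leaf 93305)) (.node (.leaf 59982) (.leaf 129937)))) (.node (.node (.node (.leaf 44689) (.leaf 99269)) (.node (.leaf 97941) (.leaf 125865))) (.node (.node (.leaf 50561) (.leaf 140819)) (.node (.leaf 72452) (.leaf 136952))))))
def dFin_1372 : BT := .node (.node (.node (.node (.node (.node (.node (.leaf 8592) (.leaf 138380)) (.leaf 102632)) (.node (.leaf 51294) (.leaf 111882))) (.node (.node (.leaf 38874) (.leaf 85218)) (.node (.leaf 56188) (.leaf 135632)))) (.node (.node (.node (.leaf 46150) (.leaf 72509)) (.node (.leaf 104574) (.leaf 122808))) (.node (.node (.leaf 47151) (.leaf 94900)) (.node (.leaf 61253) (.leaf 131087))))) (.node (.node (.node (.node (.node (.leaf 36862) (.leaf 140616)) (.leaf 101096)) (.node (.leaf 52245) (.leaf 114497))) (.node (.node (.leaf 97233) (.leaf 95317)) (.node (.leaf 98732) (.leaf 127634)))) (.node (.node (.node (.leaf 13746)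 (.leaf 77924)) (.node (.leaf 83458) (.leaf 120642))) (.node (.node (.leaf 49304) (.leaf 109406)) (.node (.leaf 64539) (.leaf 137557)))))) (.node (.node (.node (.node (.node (.node (.leaf 38515) (.leaf 139999)) (.leaf 103660)) (.node (.leaf 106054) (.leaf 113035))) (.node (.node (.leaf 22535) (.leaf 87475)) (.node (.leaf 91586) (.leaf 126093)))) (.node (.node (.node (.leaf 47154) (.leaf 96491)) (.node (.leaf 54472) (.leaf 118534))) (.node (.node (.leaf 48280) (.leaf 121696)) (.node (.leaf 62708) (.leaf 132996))))) (.node (.node (.node (.node (.leaf 46284) (.leaf 97390)) (.node (.leaf 105559) (.leaf 116347))) (.node (.node (.leaf 44827) (.leaf 93104)) (.node (.leaf 106511) (.leaf 128974)))) (.node (.node (.node (.leaf 46706) (.leaf 81208)) (.node (.leaf 55430) (.leaf 122518))) (.node (.node (.leaf 50369) (.leaf 111852)) (.node (.leaf 66003) (.leaf 136570))))))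
def dFin_1379 : BT := .node (.node (.node (.node (.node (.node (.node (.leaf 115) (.leaf 138458)) (.leaf 106003)) (.node (.leaf 51155) (.leaf 111959))) (.node (.node (.leaf 19209) (.leaf 106915)) (.node (.leaf 73118) (.leaf 124237)))) (.node (.node (.node (.leaf 12094) (.leaf 72791)) (.node (.leaf 98257) (.leaf 117863))) (.node (.node (.leaf 47278) (.leaf 95835)) (.node (.leaf 102916) (.leaf 131151))))) (.node (.node (.node (.node (.node (.leaf 49494) (.leaf 140778)) (.leaf 69305)) (.node (.leaf 52657) (.leaf 114733))) (.node (.node (.leaf 24146) (.leaf 91172)) (.node (.leaf 58950) (.leaf 127973)))) (.node (.node (.node (.leaf 41418) (.leaf 104834)) (.node (.leaf 54892) (.leaf 121314))) (.node (.node (.leaf 49408) (.leaf 109643)) (.node (.leaf 103135) (.leaf 135284)))))) (.node (.node (.node (.node (.node (.node (.leaf 46239) (.leaf 139562)) (.leaf 102941)) (.node (.leaf 105566) (.leaf 113209))) (.node (.node (.leaf 46660) (.leaf 87744)) (.node (.leaf 105320) (.leaf 126446)))) (.node (.node (.node (.leaf 12889) (.leaf 75120)) (.node (.leaf 54408) (.leaf 119399)))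 (.node (.node (.leaf 48840) (.leaf 108297)) (.node (.leaf 63091) (.leaf 137554))))) (.node (.node (.node (.node (.leaf 37593) (.leaf 70693)) (.node (.leaf 53314) (.leaf 116160))) (.node (.node (.leaf 44791) (.leaf 93223)) (.node (.leaf 59995) (.leaf 129954)))) (.node (.node (.node (.leaf 17170) (.leaf 107242)) (.node (.leaf 97102) (.leaf 122244))) (.node (.node (.leaf 97346) (.leaf 123001)) (.node (.leaf 66118) (.leaf 136778))))))
def dFin_1387 : BT := .node (.node (.node (.node (.node (.node (.node (.leaf 37920) (.leaf 139780)) (.leaf 113245)) (.node (.leaf 105165) (.leaf 111901))) (.node (.node (.leaf 19178) (.leaf 85331)) (.node (.leaf 116329) (.leaf 139456)))) (.node (.node (.node (.leaf 12044) (.leaf 73177)) (.node (.leaf 53594) (.leaf 117609))) (.node (.node (.leaf 47224) (.leaf 115076)) (.node (.leaf 61157) (.leaf 131370))))) (.node (.node (.node (.node (.node (.leaf 46283) (.leaf 140732)) (.leaf 103028)) (.node (.leaf 70658) (.leaf 114688))) (.node (.node (.leaf 115430) (.leaf 91204)) (.node (.leaf 133415) (.leaf 127797)))) (.node (.node (.node (.leaf 47574)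 (.leaf 78193)) (.node (.leaf 54943) (.leaf 136937))) (.node (.node (.leaf 49655) (.leaf 109614)) (.node (.leaf 64838) (.leaf 135098)))))) (.node (.node (.node (.node (.node (.node (.leaf 46183) (.leaf 139462)) (.leaf 104861)) (.node (.leaf 105944) (.leaf 113101))) (.node (.node (.leaf 46621) (.leaf 117459)) (.node (.leaf 76497) (.leaf 126114)))) (.node (.node (.node (.leaf 12861) (.leaf 75211)) (.node (.leaf 62830) (.leaf 119112))) (.node (.node (.leaf 48344) (.leaf 108205)) (.node (.leaf 95586) (.leaf 134285))))) (.node (.node (.node (.node (.leaf 6527) (.leaf 70579)) (.node (.leaf 106293) (.leaf 116261))) (.node (.node (.leaf 25418) (.leaf 93168)) (.node (.leaf 60071) (.leaf 131088)))) (.node (.node (.node (.leaf 41752) (.leaf 95226)) (.node (.leaf 55334) (.leaf 126847))) (.node (.node (.leaf 50430) (.leaf 110996)) (.node (.leaf 101618) (.leaf 136692))))))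
def dFin_1394 : BT := .node (.node (.node (.node (.node (.node (.node (.leaf 10676) (.leaf 138634)) (.leaf 114974)) (.node (.leaf 106761) (.leaf 112032))) (.node (.node (.leaf 65318) (.leaf 85538)) (.node (.leaf 103013) (.leaf 124614)))) (.node (.node (.node (.leaf 12112) (.leaf 72652)) (.node (.leaf 53968) (.leaf 137700))) (.node (.node (.leaf 47349) (.leaf 109859)) (.node (.leaf 60990) (.leaf 136376))))) (.node (.node (.node (.node (.node (.leaf 65335) (.leaf 140848)) (.leaf 103240)) (.node (.leaf 52801) (.leaf 114871))) (.node (.node (.leaf 42506) (.leaf 91214)) (.node (.leaf 58842) (.leaf 127678)))) (.node (.node (.node (.leaf 14042) (.leaf 79274)) (.node (.leaf 55032) (.leaf 121039))) (.node (.node (.leaf 49520) (.leaf 109772)) (.node (.leaf 115007) (.leaf 135334)))))) (.node (.node (.node (.node (.node (.node (.leaf 49250) (.leaf 139598)) (.leaf 68104)) (.node (.leaf 107210) (.leaf 113746))) (.node (.node (.leaf 23818) (.leaf 87914)) (.node (.leaf 57639) (.leaf 128884)))) (.node (.node (.node (.leaf 41574) (.leaf 76076)) (.node (.leaf 54348) (.leaf 122738)))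 (.node (.node (.leaf 48472) (.leaf 108502)) (.node (.leaf 62933) (.leaf 133282))))) (.node (.node (.node (.node (.leaf 8080) (.leaf 70404)) (.node (.leaf 103875) (.leaf 116494))) (.node (.node (.leaf 25866) (.leaf 93296)) (.node (.leaf 60293) (.leaf 129381)))) (.node (.node (.node (.leaf 36297) (.leaf 134288)) (.node (.leaf 95810) (.leaf 122639))) (.node (.node (.leaf 50581) (.leaf 126926)) (.node (.leaf 138913) (.leaf 136882))))))
def dFin_1405 : BT := .node (.node (.node (.node (.node (.node (.node (.leaf 34618) (.leaf 138229)) (.leaf 74628)) (.node (.leaf 51471) (.leaf 111804))) (.node (.node (.leaf 42182) (.leaf 90851)) (.node (.leaf 56399) (.leaf 124338)))) (.node (.node (.node (.leaf 11970) (.leaf 72323)) (.node (.leaf 104678) (.leaf 122862))) (.node (.node (.leaf 47146) (.leaf 107045)) (.node (.leaf 100090) (.leaf 133741))))) (.node (.node (.node (.node (.node (.leaf 45275) (.leaf 140533)) (.leaf 68971)) (.node (.leaf 52397) (.leaf 114447))) (.node (.node (.leaf 48540) (.leaf 119728)) (.node (.leaf 58718) (.leaf 127452)))) (.node (.node (.node (.leaf 108343)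 (.leaf 77978)) (.node (.leaf 115434) (.leaf 120670))) (.node (.node (.leaf 49270) (.leaf 109501)) (.node (.leaf 95802) (.leaf 135452)))))) (.node (.node (.node (.node (.node (.node (.leaf 1373) (.leaf 139374)) (.leaf 68034)) (.node (.leaf 57150) (.leaf 112949))) (.node (.node (.leaf 22506) (.leaf 87174)) (.node (.leaf 57806) (.leaf 126002)))) (.node (.node (.node (.leaf 12786) (.leaf 126701)) (.node (.leaf 115948) (.leaf 118825))) (.node (.node (.leaf 48234) (.leaf 108107)) (.node (.leaf 125361) (.leaf 133070))))) (.node (.node (.node (.node (.leaf 38246) (.leaf 107920)) (.node (.leaf 53150) (.leaf 116370))) (.node (.node (.leaf 40651) (.leaf 93124)) (.node (.leaf 98210) (.leaf 137884)))) (.node (.node (.node (.leaf 18002) (.leaf 81303)) (.node (.leaf 55571) (.leaf 122389))) (.node (.node (.leaf 135044) (.leaf 125954)) (.node (.leaf 66085) (.leaf 136558))))))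
def dFin_1412 : BT := .node (.node (.node (.node (.node (.node (.node (.leaf 86) (.leaf 138650)) (.leaf 66986)) (.node (.leaf 51347) (.leaf 128066))) (.node (.node (.leaf 45320) (.leaf 113445)) (.node (.leaf 56238) (.leaf 124423)))) (.node (.node (.node (.leaf 56054) (.leaf 73006)) (.node (.leaf 95334) (.leaf 117980))) (.node (.node (.leaf 47246) (.leaf 95893)) (.node (.leaf 61388) (.leaf 131705))))) (.node (.node (.node (.node (.node (.leaf 2407) (.leaf 140698)) (.leaf 79868)) (.node (.leaf 52620) (.leaf 114670))) (.node (.node (.leaf 46241) (.leaf 124370)) (.node (.leaf 99188) (.leaf 127955)))) (.node (.node (.node (.leaf 42702) (.leaf 78185)) (.node (.leaf 54962) (.leaf 120635))) (.node (.node (.leaf 49372) (.leaf 109604)) (.node (.leaf 65066) (.leaf 135128)))))) (.node (.node (.node (.node (.node (.node (.leaf 37520) (.leaf 139485)) (.leaf 102870)) (.node (.leaf 51810) (.leaf 113123))) (.node (.node (.leaf 41142) (.leaf 98526)) (.node (.leaf 104133) (.leaf 127935)))) (.node (.node (.node (.leaf 13560) (.leaf 75258)) (.node (.leaf 54495) (.leaf 122318))) (.node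 (.node (.leaf 104723) (.leaf 114502)) (.node (.leaf 63282) (.leaf 133243))))) (.node (.node (.node (.node (.leaf 32939) (.leaf 106508)) (.node (.leaf 100399) (.leaf 116193))) (.node (.node (.leaf 25847) (.leaf 122853)) (.node (.leaf 99280) (.leaf 129345)))) (.node (.node (.node (.leaf 17156) (.leaf 81721)) (.node (.leaf 61998) (.leaf 122270))) (.node (.node (.leaf 50459) (.leaf 110549)) (.node (.leaf 65970) (.leaf 136810))))))
def dFin_1420 : BT := .node (.node (.node (.node (.node (.node (.node (.leaf 1290) (.leaf 138475)) (.leaf 67026)) (.node (.leaf 100108) (.leaf 111880))) (.node (.node (.leaf 19166) (.leaf 84998)) (.node (.leaf 56541) (.leaf 131098)))) (.node (.node (.node (.leaf 12004) (.leaf 97627)) (.node (.leaf 73033) (.leaf 117688))) (.node (.node (.leaf 47191) (.leaf 114700)) (.node (.leaf 138428) (.leaf 131111))))) (.node (.node (.node (.node (.node (.leaf 36873) (.leaf 140737)) (.leaf 97618)) (.node (.leaf 52277) (.leaf 114642))) (.node (.node (.leaf 40552) (.leaf 104021)) (.node (.leaf 101577) (.leaf 128088)))) (.node (.node (.node (.leaf 13754) (.leaf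 78394)) (.node (.leaf 55010) (.leaf 120784))) (.node (.node (.leaf 104775) (.leaf 109463)) (.node (.leaf 64942) (.leaf 135043)))))) (.node (.node (.node (.node (.node (.node (.leaf 45503) (.leaf 140136)) (.leaf 67934)) (.node (.leaf 51870) (.leaf 113302))) (.node (.node (.leaf 46582) (.leaf 105594)) (.node (.leaf 57424) (.leaf 128924)))) (.node (.node (.node (.leaf 107918) (.leaf 75377)) (.node (.leaf 88667) (.leaf 119333))) (.node (.node (.leaf 48304) (.leaf 108150)) (.node (.leaf 97543) (.leaf 133017))))) (.node (.node (.node (.node (.leaf 5402) (.leaf 70744)) (.node (.leaf 94108) (.leaf 116310))) (.node (.node (.leaf 50552) (.leaf 93122)) (.node (.leaf 98984) (.leaf 129303)))) (.node (.node (.node (.leaf 36992) (.leaf 81565)) (.node (.leaf 55475) (.leaf 121972))) (.node (.node (.leaf 50384) (.leaf 110669)) (.node (.leaf 98082) (.leaf 136598))))))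
def dFin_1427 : BT := .node (.node (.node (.node (.node (.node (.node (.leaf 38167) (.leaf 138477)) (.leaf 98099)) (.node (.leaf 51227) (.leaf 133488))) (.node (.node (.leaf 40974) (.leaf 85404)) (.node (.leaf 104486) (.leaf 124525)))) (.node (.node (.node (.leaf 37020) (.leaf 72889)) (.node (.leaf 54109) (.leaf 117949))) (.node (.node (.leaf 124788) (.leaf 107098)) (.node (.leaf 61139) (.leaf 131409))))) (.node (.node (.node (.node (.node (.leaf 45776) (.leaf 140802)) (.leaf 117784)) (.node (.leaf 99105) (.leaf 114764))) (.node (.node (.leaf 24157) (.leaf 106212)) (.node (.leaf 111695) (.leaf 127841)))) (.node (.node (.node (.leaf 13846) (.leaf 78854)) (.node (.leaf 99662) (.leaf 121120))) (.node (.node (.leaf 49475) (.leaf 109734)) (.node (.leaf 64856) (.leaf 135390)))))) (.node (.node (.node (.node (.node (.node (.leaf 483) (.leaf 139530)) (.leaf 102493)) (.node (.leaf 61610) (.leaf 113315))) (.node (.node (.leaf 23722) (.leaf 123988)) (.node (.leaf 104765) (.leaf 126874)))) (.node (.node (.node (.leaf 42154) (.leaf 75796)) (.node (.leaf 54435) (.leaf 119460)))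 (.node (.node (.leaf 48432) (.leaf 108338)) (.node (.leaf 63373) (.leaf 133175))))) (.node (.node (.node (.node (.leaf 7248) (.leaf 70611)) (.node (.leaf 107073) (.leaf 116513))) (.node (.node (.leaf 25842) (.leaf 93314)) (.node (.leaf 102105) (.leaf 130043)))) (.node (.node (.node (.leaf 46680) (.leaf 96845)) (.node (.leaf 55690) (.leaf 121870))) (.node (.node (.leaf 50538) (.leaf 122956)) (.node (.leaf 66157) (.leaf 136946))))))
def dFin_1436 : BT := .node (.node (.node (.node (.node (.node (.node (.leaf 34630) (.leaf 138345)) (.leaf 102808)) (.node (.leaf 51410) (.leaf 111844))) (.node (.node (.leaf 19154) (.leaf 85043)) (.node (.leaf 100162) (.leaf 124330)))) (.node (.node (.node (.leaf 37564) (.leaf 114164)) (.node (.leaf 53583) (.leaf 120791))) (.node (.node (.leaf 47165) (.leaf 107000)) (.node (.leaf 104717) (.leaf 131077))))) (.node (.node (.node (.node (.node (.leaf 33523) (.leaf 140597)) (.leaf 68931)) (.node (.leaf 52336) (.leaf 114477))) (.node (.node (.leaf 41248) (.leaf 114103)) (.node (.leaf 58659) (.leaf 128076)))) (.node (.node (.node (.leaf 13784)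 (.leaf 77908)) (.node (.leaf 99604) (.leaf 120841))) (.node (.node (.leaf 49291) (.leaf 109566)) (.node (.leaf 64526) (.leaf 135074)))))) (.node (.node (.node (.node (.node (.node (.leaf 1454) (.leaf 139367)) (.leaf 67983)) (.node (.leaf 58457) (.leaf 113024))) (.node (.node (.leaf 46598) (.leaf 87501)) (.node (.leaf 57485) (.leaf 129178)))) (.node (.node (.node (.leaf 46884) (.leaf 103089)) (.node (.leaf 139952) (.leaf 118526))) (.node (.node (.leaf 48273) (.leaf 108124)) (.node (.leaf 119279) (.leaf 133065))))) (.node (.node (.node (.node (.leaf 37478) (.leaf 70197)) (.node (.leaf 102889) (.leaf 116388))) (.node (.node (.leaf 25390) (.leaf 93101)) (.node (.leaf 77688) (.leaf 128983)))) (.node (.node (.node (.leaf 129339) (.leaf 81403)) (.node (.leaf 55522) (.leaf 122041))) (.node (.node (.leaf 50352) (.leaf 120135)) (.node (.leaf 66047) (.leaf 136624))))))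
def dFin_1443 : BT := .node (.node (.node (.node (.node (.node (.node (.leaf 129) (.leaf 138448)) (.leaf 105866)) (.node (.leaf 51286) (.leaf 125007))) (.node (.node (.leaf 41689) (.leaf 102975)) (.node (.leaf 56175) (.leaf 136250)))) (.node (.node (.node (.leaf 47120) (.leaf 72953)) (.node (.leaf 123168) (.leaf 120321))) (.node (.node (.leaf 47261) (.leaf 95880)) (.node (.leaf 61237) (.leaf 131614))))) (.node (.node (.node (.node (.node (.leaf 46274) (.leaf 140766)) (.leaf 105491)) (.node (.leaf 96259) (.leaf 114729))) (.node (.node (.leaf 44816) (.leaf 106393)) (.node (.leaf 102010) (.leaf 127625)))) (.node (.node (.node (.leaf 13790) (.leaf 78875)) (.node (.leaf 83310) (.leaf 120952))) (.node (.node (.leaf 49404) (.leaf 109630)) (.node (.leaf 64992) (.leaf 135240)))))) (.node (.node (.node (.node (.node (.node (.leaf 37936) (.leaf 140244)) (.leaf 102754)) (.node (.leaf 104625) (.leaf 128786))) (.node (.node (.leaf 23101) (.leaf 87741)) (.node (.leaf 76454) (.leaf 126892)))) (.node (.node (.node (.leaf 104011) (.leaf 77068)) (.node (.leaf 54464) (.leaf 119152)))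 (.node (.node (.leaf 48396) (.leaf 108369)) (.node (.leaf 63241) (.leaf 133210))))) (.node (.node (.node (.node (.leaf 6869) (.leaf 98814)) (.node (.leaf 104887) (.leaf 116148))) (.node (.node (.leaf 114410) (.leaf 93210)) (.node (.leaf 128793) (.leaf 130074)))) (.node (.node (.node (.leaf 44699) (.leaf 81649)) (.node (.leaf 55711) (.leaf 122252))) (.node (.node (.leaf 50503) (.leaf 127995)) (.node (.leaf 66182) (.leaf 136768))))))
def dFin_1451 : BT := .node (.node (.node (.node (.node (.node (.node (.leaf 1035) (.leaf 138402)) (.leaf 67007)) (.node (.leaf 104209) (.leaf 111941))) (.node (.node (.leaf 45053) (.leaf 84948)) (.node (.leaf 56299) (.leaf 124506)))) (.node (.node (.node (.leaf 46952) (.leaf 113196)) (.node (.leaf 105404) (.leaf 117661))) (.node (.node (.leaf 65274) (.leaf 95908)) (.node (.leaf 140488) (.leaf 131694))))) (.node (.node (.node (.node (.node (.leaf 36769) (.leaf 141080)) (.leaf 97870)) (.node (.leaf 101156) (.leaf 124686))) (.node (.node (.leaf 24129) (.leaf 91273)) (.node (.leaf 99044) (.leaf 127924)))) (.node (.node (.node (.leaf 53558)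 (.leaf 102570)) (.node (.leaf 54987) (.leaf 120650))) (.node (.node (.leaf 49350) (.leaf 121229)) (.node (.leaf 64915) (.leaf 135012)))))) (.node (.node (.node (.node (.node (.node (.leaf 8820) (.leaf 139451)) (.leaf 104432)) (.node (.leaf 51841) (.leaf 113155))) (.node (.node (.leaf 41553) (.leaf 87812)) (.node (.leaf 57361) (.leaf 126121)))) (.node (.node (.node (.leaf 47250) (.leaf 75302)) (.node (.leaf 95291) (.leaf 119312))) (.node (.node (.leaf 48331) (.leaf 108216)) (.node (.leaf 62586) (.leaf 133018))))) (.node (.node (.node (.node (.leaf 36904) (.leaf 106159)) (.node (.leaf 100066) (.leaf 116228))) (.node (.node (.leaf 111783) (.leaf 93266)) (.node (.leaf 99106) (.leaf 129185)))) (.node (.node (.node (.leaf 17144) (.leaf 81762)) (.node (.leaf 101834) (.leaf 121913))) (.node (.node (.leaf 50420) (.leaf 110608)) (.node (.leaf 96457) (.leaf 136647))))))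
def dFin_1458 : BT := .node (.node (.node (.node (.node (.node (.node (.leaf 37808) (.leaf 140379)) (.leaf 67096)) (.node (.leaf 106755) (.leaf 112051))) (.node (.node (.leaf 19230) (.leaf 85567)) (.node (.leaf 116185) (.leaf 124606)))) (.node (.node (.node (.leaf 104109) (.leaf 73276)) (.node (.leaf 54060) (.leaf 117883))) (.node (.node (.leaf 47336) (.leaf 95905)) (.node (.leaf 60982) (.leaf 131358))))) (.node (.node (.node (.node (.node (.leaf 2620) (.leaf 140878)) (.leaf 103236)) (.node (.leaf 106108) (.leaf 114863))) (.node (.node (.leaf 95096) (.leaf 91196)) (.node (.leaf 105169) (.leaf 127782)))) (.node (.node (.node (.leaf 14159) (.leaf 78820)) (.node (.leaf 55160) (.leaf 121035))) (.node (.node (.leaf 49466) (.leaf 114288)) (.node (.leaf 64825) (.leaf 135371)))))) (.node (.node (.node (.node (.node (.node (.leaf 45926) (.leaf 139594)) (.leaf 104997)) (.node (.leaf 52027) (.leaf 113265))) (.node (.node (.leaf 94518) (.leaf 103067)) (.node (.leaf 69810) (.leaf 126558)))) (.node (.node (.node (.leaf 12951) (.leaf 75624)) (.node (.leaf 103171) (.leaf 119419)))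 (.node (.node (.leaf 48464) (.leaf 108301)) (.node (.leaf 63447) (.leaf 133321))))) (.node (.node (.node (.node (.leaf 8072) (.leaf 70555)) (.node (.leaf 100590) (.leaf 116449))) (.node (.node (.leaf 25857) (.leaf 93284)) (.node (.leaf 59984) (.leaf 131708)))) (.node (.node (.node (.leaf 41760) (.leaf 82231)) (.node (.leaf 55663) (.leaf 122636))) (.node (.node (.leaf 50574) (.leaf 110482)) (.node (.leaf 66121) (.leaf 136869))))))
def dFin_1468 : BT := .node (.node (.node (.node (.node (.node (.node (.leaf 388) (.leaf 138317)) (.leaf 102804)) (.node (.leaf 78751) (.leaf 111825))) (.node (.node (.leaf 19372) (.leaf 105563)) (.node (.leaf 100053) (.leaf 130384)))) (.node (.node (.node (.leaf 42109) (.leaf 72320)) (.node (.leaf 53693) (.leaf 117600))) (.node (.node (.leaf 47128) (.leaf 94850)) (.node (.leaf 61337) (.leaf 131047))))) (.node (.node (.node (.node (.node (.leaf 33519) (.leaf 140583)) (.leaf 69048)) (.node (.leaf 105136) (.leaf 114460))) (.node (.node (.leaf 24086) (.leaf 90663)) (.node (.leaf 58576) (.leaf 131643)))) (.node (.node (.node (.leaf 47908)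 (.leaf 96919)) (.node (.leaf 54926) (.leaf 124472))) (.node (.node (.leaf 49278) (.leaf 115267)) (.node (.leaf 64547) (.leaf 135086)))))) (.node (.node (.node (.node (.node (.node (.leaf 39143) (.leaf 139403)) (.leaf 101007)) (.node (.leaf 73750) (.leaf 112921))) (.node (.node (.leaf 38767) (.leaf 96849)) (.node (.leaf 105546) (.leaf 125983)))) (.node (.node (.node (.leaf 12792) (.leaf 74885)) (.node (.leaf 80106) (.leaf 118515))) (.node (.node (.leaf 48253) (.leaf 108112)) (.node (.leaf 62674) (.leaf 136289))))) (.node (.node (.node (.node (.leaf 45775) (.leaf 70175)) (.node (.leaf 53379) (.leaf 116386))) (.node (.node (.leaf 119259) (.leaf 93319)) (.node (.leaf 60047) (.leaf 129032)))) (.node (.node (.node (.leaf 41056) (.leaf 114748)) (.node (.leaf 102084) (.leaf 122370))) (.node (.node (.leaf 50326) (.leaf 118422)) (.node (.leaf 138053) (.leaf 136607))))))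
def dFin_1475 : BT := .node (.node (.node (.node (.node (.node (.node (.leaf 8565) (.leaf 138638)) (.leaf 67075)) (.node (.leaf 105618) (.leaf 111998))) (.node (.node (.leaf 45050) (.leaf 85529)) (.node (.leaf 56690) (.leaf 124465)))) (.node (.node (.node (.leaf 12048) (.leaf 102721)) (.node (.leaf 53929) (.leaf 117963))) (.node (.node (.leaf 47299) (.leaf 107068)) (.node (.leaf 61008) (.leaf 132161))))) (.node (.node (.node (.node (.node (.leaf 34410) (.leaf 140761)) (.leaf 107512)) (.node (.leaf 52264) (.leaf 114612))) (.node (.node (.leaf 24138) (.leaf 91142)) (.node (.leaf 60281) (.leaf 127571)))) (.node (.node (.node (.leaf 46166) (.leaf 104875)) (.node (.leaf 94053) (.leaf 120938))) (.node (.node (.leaf 49395) (.leaf 109619)) (.node (.leaf 101723) (.leaf 135313)))))) (.node (.node (.node (.node (.node (.node (.leaf 45914) (.leaf 139494)) (.leaf 68067)) (.node (.leaf 51949) (.leaf 114392))) (.node (.node (.leaf 132194) (.leaf 98528)) (.node (.leaf 57600) (.leaf 126391)))) (.node (.node (.node (.leaf 40690) (.leaf 75099)) (.node (.leaf 54298) (.leaf 119252)))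 (.node (.node (.leaf 48378) (.leaf 108349)) (.node (.leaf 104913) (.leaf 133412))))) (.node (.node (.node (.node (.leaf 6560) (.leaf 70365)) (.node (.leaf 61295) (.leaf 116145))) (.node (.node (.leaf 48592) (.leaf 93231)) (.node (.leaf 59913) (.leaf 134033)))) (.node (.node (.node (.leaf 46025) (.leaf 102027)) (.node (.leaf 136992) (.leaf 122141))) (.node (.node (.leaf 50481) (.leaf 110835)) (.node (.leaf 105417) (.leaf 136830))))))
def dFin_1483 : BT := .node (.node (.node (.node (.node (.node (.node (.leaf 1033) (.leaf 138392)) (.leaf 122433)) (.node (.leaf 76506) (.leaf 111944))) (.node (.node (.leaf 19438) (.leaf 84932)) (.node (.leaf 104878) (.leaf 124455)))) (.node (.node (.node (.leaf 12012) (.leaf 72745)) (.node (.leaf 61717) (.leaf 129807))) (.node (.node (.leaf 47205) (.leaf 95859)) (.node (.leaf 61104) (.leaf 133783))))) (.node (.node (.node (.node (.node (.leaf 36230) (.leaf 140664)) (.leaf 69012)) (.node (.leaf 52564) (.leaf 114648))) (.node (.node (.leaf 60564) (.leaf 90941)) (.node (.leaf 58909) (.leaf 127746)))) (.node (.node (.node (.leaf 40709)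 (.leaf 102564)) (.node (.leaf 104067) (.leaf 120864))) (.node (.node (.leaf 49334) (.leaf 109539)) (.node (.leaf 64734) (.leaf 134987)))))) (.node (.node (.node (.node (.node (.node (.leaf 1504) (.leaf 140156)) (.leaf 68159)) (.node (.leaf 106344) (.leaf 113080))) (.node (.node (.leaf 48570) (.leaf 87772)) (.node (.leaf 100107) (.leaf 128919)))) (.node (.node (.node (.leaf 13575) (.leaf 113614)) (.node (.leaf 54387) (.leaf 119053))) (.node (.node (.leaf 48318) (.leaf 121488)) (.node (.leaf 62605) (.leaf 134414))))) (.node (.node (.node (.node (.leaf 36272) (.leaf 70756)) (.node (.leaf 53275) (.leaf 116278))) (.node (.node (.leaf 25404) (.leaf 93138)) (.node (.leaf 60124) (.leaf 129223)))) (.node (.node (.node (.leaf 45963) (.leaf 106472)) (.node (.leaf 55313) (.leaf 126014))) (.node (.node (.leaf 50415) (.leaf 110980)) (.node (.leaf 96427) (.leaf 136701))))))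
def dFin_1490 : BT := .node (.node (.node (.node (.node (.node (.node (.leaf 8325) (.leaf 138506)) (.leaf 67339)) (.node (.leaf 51514) (.leaf 133498))) (.node (.node (.leaf 44904) (.leaf 90348)) (.node (.leaf 56429) (.leaf 124545)))) (.node (.node (.node (.leaf 40767) (.leaf 103794)) (.node (.leaf 102083) (.leaf 117929))) (.node (.node (.leaf 47357) (.leaf 115622)) (.node (.leaf 82836) (.leaf 131576))))) (.node (.node (.node (.node (.node (.leaf 2512) (.leaf 140894)) (.leaf 69201)) (.node (.leaf 60550) (.leaf 114847))) (.node (.node (.leaf 46410) (.leaf 91102)) (.node (.leaf 58756) (.leaf 128351)))) (.node (.node (.node (.leaf 14036) (.leaf 100631)) (.node (.leaf 119833) (.leaf 121131))) (.node (.node (.leaf 49420) (.leaf 109753)) (.node (.leaf 139774) (.leaf 135403)))))) (.node (.node (.node (.node (.node (.node (.leaf 38571) (.leaf 139581)) (.leaf 84232)) (.node (.leaf 51796) (.leaf 113287))) (.node (.node (.leaf 23152) (.leaf 87682)) (.node (.leaf 57695) (.leaf 126271)))) (.node (.node (.node (.leaf 46683) (.leaf 105676)) (.node (.leaf 54301) (.leaf 119383)))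 (.node (.node (.leaf 110969) (.leaf 133085)) (.node (.leaf 100191) (.leaf 133329))))) (.node (.node (.node (.node (.leaf 36562) (.leaf 113534)) (.node (.leaf 53175) (.leaf 116463))) (.node (.node (.leaf 36540) (.leaf 122728)) (.node (.leaf 59814) (.leaf 130013)))) (.node (.node (.node (.leaf 17186) (.leaf 82361)) (.node (.leaf 98821) (.leaf 122386))) (.node (.node (.leaf 50548) (.leaf 110707)) (.node (.leaf 66259) (.leaf 136962))))))
def dFin_1499 : BT := .node (.node (.node (.node (.node (.node (.node (.leaf 1292) (.leaf 138348)) (.leaf 102450)) (.node (.leaf 100100) (.leaf 130071))) (.node (.node (.leaf 93030) (.leaf 102542)) (.node (.leaf 76503) (.leaf 124375)))) (.node (.node (.node (.leaf 11990) (.leaf 72521)) (.node (.leaf 104703) (.leaf 117561))) (.node (.node (.leaf 47168) (.leaf 94813)) (.node (.leaf 63365) (.leaf 131109))))) (.node (.node (.node (.node (.node (.leaf 50130) (.leaf 140628)) (.leaf 69031)) (.node (.leaf 52246) (.leaf 114505))) (.node (.node (.leaf 24093) (.leaf 90426)) (.node (.leaf 58965) (.leaf 130018)))) (.node (.node (.node (.leaf 42007)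 (.leaf 78679)) (.node (.leaf 54903) (.leaf 120889))) (.node (.node (.leaf 49308) (.leaf 109379)) (.node (.leaf 65908) (.leaf 135026)))))) (.node (.node (.node (.node (.node (.node (.leaf 235) (.leaf 139413)) (.leaf 100537)) (.node (.leaf 106607) (.leaf 113042))) (.node (.node (.leaf 91671) (.leaf 87468)) (.node (.leaf 91679) (.leaf 126097)))) (.node (.node (.node (.leaf 12830) (.leaf 75163)) (.node (.leaf 54416) (.leaf 120074))) (.node (.node (.leaf 48291) (.leaf 111952)) (.node (.leaf 62640) (.leaf 134522))))) (.node (.node (.node (.node (.leaf 36475) (.leaf 70774)) (.node (.leaf 53330) (.leaf 116291))) (.node (.node (.leaf 42449) (.leaf 93239)) (.node (.leaf 60008) (.leaf 128992)))) (.node (.node (.node (.leaf 17114) (.leaf 136490)) (.node (.leaf 80035) (.leaf 122309))) (.node (.node (.leaf 50736) (.leaf 110966)) (.node (.leaf 65955) (.leaf 136603))))))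
def dFin_1506 : BT := .node (.node (.node (.node (.node (.node (.node (.leaf 123) (.leaf 138466)) (.leaf 67054)) (.node (.leaf 100582) (.leaf 132183))) (.node (.node (.leaf 19203) (.leaf 85510)) (.node (.leaf 56480) (.leaf 124386)))) (.node (.node (.node (.leaf 41462) (.leaf 76512)) (.node (.leaf 53880) (.leaf 122391))) (.node (.node (.leaf 47290) (.leaf 95435)) (.node (.leaf 102378) (.leaf 131588))))) (.node (.node (.node (.node (.node (.leaf 2444) (.leaf 140815)) (.leaf 69238)) (.node (.leaf 59359) (.leaf 114740))) (.node (.node (.leaf 24152) (.leaf 91123)) (.node (.leaf 59001) (.leaf 129837)))) (.node (.node (.node (.leaf 36829) (.leaf 134422)) (.node (.leaf 55258) (.leaf 120970))) (.node (.node (.leaf 50084) (.leaf 109726)) (.node (.leaf 105116) (.leaf 135263)))))) (.node (.node (.node (.node (.node (.node (.leaf 40234) (.leaf 139543)) (.leaf 102867)) (.node (.leaf 51917) (.leaf 113221))) (.node (.node (.leaf 42087) (.leaf 87732)) (.node (.leaf 57547) (.leaf 126330)))) (.node (.node (.node (.leaf 12892) (.leaf 99083)) (.node (.leaf 101893) (.leaf 119448)))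 (.node (.node (.leaf 48423) (.leaf 119892)) (.node (.leaf 62930) (.leaf 133418))))) (.node (.node (.node (.node (.leaf 10522) (.leaf 70300)) (.node (.leaf 53222) (.leaf 116510))) (.node (.node (.leaf 46814) (.leaf 93251)) (.node (.leaf 59864) (.leaf 129378)))) (.node (.node (.node (.leaf 97290) (.leaf 81620)) (.node (.leaf 97110) (.leaf 122071))) (.node (.node (.leaf 50588) (.leaf 110766)) (.node (.leaf 101903) (.leaf 137185))))))
def dFin_1514 : BT := .node (.node (.node (.node (.node (.node (.node (.leaf 83) (.leaf 138610)) (.leaf 106219)) (.node (.leaf 104869) (.leaf 111920))) (.node (.node (.leaf 49878) (.leaf 85324)) (.node (.leaf 105517) (.leaf 124445)))) (.node (.node (.node (.leaf 12057) (.leaf 72683)) (.node (.leaf 53598) (.leaf 117967))) (.node (.node (.leaf 47237) (.leaf 115053)) (.node (.leaf 61057) (.leaf 131148))))) (.node (.node (.node (.node (.node (.leaf 2340) (.leaf 140711)) (.leaf 97995)) (.node (.leaf 52505) (.leaf 114626))) (.node (.node (.leaf 42523) (.leaf 91254)) (.node (.leaf 58853) (.leaf 127693)))) (.node (.node (.node (.leaf 13768) (.leaf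 109288)) (.node (.leaf 116582) (.leaf 120609))) (.node (.node (.leaf 49624) (.leaf 115703)) (.node (.leaf 105471) (.leaf 135136)))))) (.node (.node (.node (.node (.node (.node (.leaf 48276) (.leaf 139466)) (.leaf 68112)) (.node (.leaf 106318) (.leaf 118008))) (.node (.node (.leaf 46299) (.leaf 87759)) (.node (.leaf 57652) (.leaf 128380)))) (.node (.node (.node (.leaf 41395) (.leaf 103347)) (.node (.leaf 54356) (.leaf 119994))) (.node (.node (.leaf 48352) (.leaf 108169)) (.node (.leaf 104673) (.leaf 133372))))) (.node (.node (.node (.node (.leaf 6536) (.leaf 70428)) (.node (.leaf 63451) (.leaf 116267))) (.node (.node (.leaf 25439) (.leaf 93176)) (.node (.leaf 60276) (.leaf 129343)))) (.node (.node (.node (.leaf 70764) (.leaf 101104)) (.node (.leaf 85648) (.leaf 122200))) (.node (.node (.leaf 50598) (.leaf 131023)) (.node (.leaf 106474) (.leaf 136649))))))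
def dFin_1521 : BT := .node (.node (.node (.node (.node (.node (.node (.leaf 33766) (.leaf 138532)) (.leaf 75441)) (.node (.leaf 51455) (.leaf 112042))) (.node (.node (.leaf 42255) (.leaf 91241)) (.node (.leaf 56375) (.leaf 124626)))) (.node (.node (.node (.leaf 12110) (.leaf 100648)) (.node (.leaf 94963) (.leaf 117838))) (.node (.node (.leaf 47389) (.leaf 138721)) (.node (.leaf 61365) (.leaf 131555))))) (.node (.node (.node (.node (.node (.leaf 8367) (.leaf 140863)) (.leaf 69170)) (.node (.leaf 52757) (.leaf 114829))) (.node (.node (.leaf 46751) (.leaf 91424)) (.node (.leaf 58697) (.leaf 129781)))) (.node (.node (.node (.leaf 47170) (.leaf 79202)) (.node (.leaf 89379) (.leaf 121051))) (.node (.node (.leaf 49479) (.leaf 109672)) (.node (.leaf 101224) (.leaf 135359)))))) (.node (.node (.node (.node (.node (.node (.leaf 1336) (.leaf 139985)) (.leaf 68006)) (.node (.leaf 52067) (.leaf 113293))) (.node (.node (.leaf 23634) (.leaf 87924)) (.node (.leaf 102841) (.leaf 135824)))) (.node (.node (.node (.leaf 49427) (.leaf 105149)) (.node (.leaf 118276) (.leaf 119436)))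 (.node (.node (.leaf 50788) (.leaf 108477)) (.node (.leaf 104893) (.leaf 133292))))) (.node (.node (.node (.node (.leaf 38404) (.leaf 103280)) (.node (.leaf 53126) (.leaf 116547))) (.node (.node (.leaf 40619) (.leaf 93321)) (.node (.leaf 103312) (.leaf 129974)))) (.node (.node (.node (.leaf 39127) (.leaf 82234)) (.node (.leaf 55749) (.leaf 132647))) (.node (.node (.leaf 99670) (.leaf 111638)) (.node (.leaf 66238) (.leaf 136928))))))
def dFin_1534 : BT := .node (.node (.node (.node (.node (.node (.node (.leaf 3) (.leaf 138248)) (.leaf 139425)) (.node (.leaf 92003) (.leaf 111794))) (.node (.node (.leaf 47366) (.leaf 91561)) (.node (.leaf 91966) (.leaf 124397)))) (.node (.node (.node (.leaf 11968) (.leaf 72297)) (.node (.leaf 105855) (.leaf 122841))) (.node (.node (.leaf 47101) (.leaf 94837)) (.node (.leaf 61115) (.leaf 131050))))) (.node (.node (.node (.node (.node (.leaf 47776) (.leaf 140565)) (.leaf 69019)) (.node (.leaf 52571) (.leaf 114431))) (.node (.node (.leaf 56888) (.leaf 90868)) (.node (.leaf 58917) (.leaf 127757)))) (.node (.node (.node (.leaf 40735) (.leaf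 107568)) (.node (.leaf 115378) (.leaf 120664))) (.node (.node (.leaf 49264) (.leaf 109376)) (.node (.leaf 95792) (.leaf 134841)))))) (.node (.node (.node (.node (.node (.node (.leaf 6339) (.leaf 139938)) (.leaf 68176)) (.node (.leaf 101645) (.leaf 113011))) (.node (.node (.leaf 46561) (.leaf 87160)) (.node (.leaf 104050) (.leaf 137708)))) (.node (.node (.node (.leaf 12828) (.leaf 74827)) (.node (.leaf 54179) (.leaf 122258))) (.node (.node (.leaf 48214) (.leaf 108093)) (.node (.leaf 62617) (.leaf 134527))))) (.node (.node (.node (.node (.leaf 39238) (.leaf 94199)) (.node (.leaf 53288) (.leaf 116105))) (.node (.node (.leaf 25374) (.leaf 93052)) (.node (.leaf 60144) (.leaf 129008)))) (.node (.node (.node (.leaf 47222) (.leaf 110944)) (.node (.leaf 55308) (.leaf 122355))) (.node (.node (.leaf 115676) (.leaf 110926)) (.node (.leaf 67619) (.leaf 136548))))))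
def dFin_1541 : BT := .node (.node (.node (.node (.node (.node (.node (.leaf 91) (.leaf 138416)) (.leaf 67040)) (.node (.leaf 51521) (.leaf 111927))) (.node (.node (.leaf 47780) (.leaf 90040)) (.node (.leaf 56438) (.leaf 124302)))) (.node (.node (.node (.leaf 40794) (.leaf 72564)) (.node (.leaf 95330) (.leaf 117984))) (.node (.node (.leaf 47242) (.leaf 95432)) (.node (.leaf 100658) (.leaf 131659))))) (.node (.node (.node (.node (.node (.leaf 2439) (.leaf 140683)) (.leaf 68979)) (.node (.leaf 58827) (.leaf 114559))) (.node (.node (.leaf 48864) (.leaf 91109)) (.node (.leaf 58764) (.leaf 127936)))) (.node (.node (.node (.leaf 13777) (.leaf 78166)) (.node (.leaf 140168) (.leaf 120613))) (.node (.node (.leaf 49366) (.leaf 109598)) (.node (.leaf 137171) (.leaf 135114)))))) (.node (.node (.node (.node (.node (.node (.leaf 34916) (.leaf 139813)) (.leaf 84261)) (.node (.leaf 51894) (.leaf 113190))) (.node (.node (.leaf 22998) (.leaf 87726)) (.node (.leaf 57715) (.leaf 126130)))) (.node (.node (.node (.leaf 13528) (.leaf 105269)) (.node (.leaf 97752) (.leaf 119282))) (.node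 (.node (.leaf 48380) (.leaf 108177)) (.node (.leaf 104379) (.leaf 133381))))) (.node (.node (.node (.node (.leaf 6541) (.leaf 98193)) (.node (.leaf 53180) (.leaf 119838))) (.node (.node (.leaf 41318) (.leaf 93241)) (.node (.leaf 59822) (.leaf 129362)))) (.node (.node (.node (.leaf 37409) (.leaf 81852)) (.node (.leaf 55318) (.leaf 122296))) (.node (.node (.leaf 50437) (.leaf 110723)) (.node (.leaf 65964) (.leaf 136663))))))
def dFin_1549 : BT := .node (.node (.node (.node (.node (.node (.node (.leaf 1704) (.leaf 138371)) (.leaf 67080)) (.node (.leaf 100104) (.leaf 111870))) (.node (.node (.leaf 19161) (.leaf 85133)) (.node (.leaf 105769) (.leaf 124381)))) (.node (.node (.node (.leaf 12000) (.leaf 73187)) (.node (.leaf 53634) (.leaf 117535))) (.node (.node (.leaf 47176) (.leaf 95428)) (.node (.leaf 61019) (.leaf 131132))))) (.node (.node (.node (.node (.node (.leaf 33662) (.leaf 140661)) (.leaf 97576)) (.node (.leaf 52451) (.leaf 114512))) (.node (.node (.leaf 24096) (.leaf 90440)) (.node (.leaf 98734) (.leaf 127579)))) (.node (.node (.node (.leaf 47884) (.leaf 103396))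 (.node (.leaf 99764) (.leaf 120757))) (.node (.node (.leaf 49336) (.leaf 109465)) (.node (.leaf 65090) (.leaf 135031)))))) (.node (.node (.node (.node (.node (.node (.leaf 47673) (.leaf 139392)) (.leaf 68080)) (.node (.leaf 51954) (.leaf 118068))) (.node (.node (.leaf 51974) (.leaf 89106)) (.node (.leaf 57619) (.leaf 126100)))) (.node (.node (.node (.leaf 40674) (.leaf 105685)) (.node (.leaf 101803) (.leaf 119320))) (.node (.node (.leaf 48296) (.leaf 108138)) (.node (.leaf 96202) (.leaf 133014))))) (.node (.node (.node (.node (.leaf 5429) (.leaf 70393)) (.node (.leaf 61308) (.leaf 116322))) (.node (.node (.leaf 50828) (.leaf 93114)) (.node (.leaf 59925) (.leaf 129314)))) (.node (.node (.node (.leaf 17118) (.leaf 81538)) (.node (.leaf 118912) (.leaf 122146))) (.node (.node (.leaf 50379) (.leaf 110843)) (.node (.leaf 113939) (.leaf 136590))))))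
def dFin_1556 : BT := .node (.node (.node (.node (.node (.node (.node (.leaf 35568) (.leaf 138489)) (.leaf 73740)) (.node (.leaf 51401) (.leaf 111975))) (.node (.node (.leaf 19210) (.leaf 85480)) (.node (.leaf 57858) (.leaf 124257)))) (.node (.node (.node (.leaf 37008) (.leaf 105494)) (.node (.leaf 53782) (.leaf 122873))) (.node (.node (.leaf 49858) (.leaf 107090)) (.node (.leaf 76274) (.leaf 131601))))) (.node (.node (.node (.node (.node (.leaf 10256) (.leaf 140790)) (.leaf 108280)) (.node (.leaf 52739) (.leaf 114746))) (.node (.node (.leaf 41290) (.leaf 91227)) (.node (.leaf 58643) (.leaf 127983)))) (.node (.node (.node (.leaf 36948) (.leaf 78917)) (.node (.leaf 55028) (.leaf 120977))) (.node (.node (.leaf 49614) (.leaf 109725)) (.node (.leaf 64955) (.leaf 135272)))))) (.node (.node (.node (.node (.node (.node (.leaf 1417) (.leaf 139638)) (.leaf 67964)) (.node (.leaf 104513) (.leaf 113297))) (.node (.node (.leaf 46605) (.leaf 87689)) (.node (.leaf 57458) (.leaf 126915)))) (.node (.node (.node (.leaf 45660) (.leaf 97271)) (.node (.leaf 105284) (.leaf 119452)))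 (.node (.node (.leaf 48425) (.leaf 108318)) (.node (.leaf 104751) (.leaf 133357))))) (.node (.node (.node (.node (.leaf 37606) (.leaf 102139)) (.node (.leaf 103775) (.leaf 116533))) (.node (.node (.leaf 25509) (.leaf 122680)) (.node (.leaf 71750) (.leaf 130031)))) (.node (.node (.node (.leaf 98107) (.leaf 81633)) (.node (.leaf 55744) (.leaf 122013))) (.node (.node (.leaf 50524) (.leaf 122877)) (.node (.leaf 66224) (.leaf 136795))))))
def dFin_1565 : BT := .node (.node (.node (.node (.node (.node (.node (.leaf 206) (.leaf 138325)) (.leaf 102931)) (.node (.leaf 105499) (.leaf 111830))) (.node (.node (.leaf 19261) (.leaf 85174)) (.node (.leaf 92127) (.leaf 124320)))) (.node (.node (.node (.leaf 44575) (.leaf 72279)) (.node (.leaf 53665) (.leaf 137633))) (.node (.node (.leaf 47139) (.leaf 107002)) (.node (.leaf 61066) (.leaf 131063))))) (.node (.node (.node (.node (.node (.leaf 37140) (.leaf 140560)) (.leaf 88349)) (.node (.leaf 52510) (.leaf 114466))) (.node (.node (.leaf 42533) (.leaf 90857)) (.node (.leaf 58862) (.leaf 127698)))) (.node (.node (.node (.leaf 13738)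 (.leaf 77915)) (.node (.leaf 99594) (.leaf 120845))) (.node (.node (.leaf 49686) (.leaf 137082)) (.node (.leaf 64521) (.leaf 135054)))))) (.node (.node (.node (.node (.node (.node (.leaf 38850) (.leaf 139401)) (.leaf 68127)) (.node (.leaf 51773) (.leaf 122938))) (.node (.node (.leaf 22518) (.leaf 87552)) (.node (.leaf 57668) (.leaf 125991)))) (.node (.node (.node (.leaf 41380) (.leaf 96362)) (.node (.leaf 54154) (.leaf 124760))) (.node (.node (.leaf 48258) (.leaf 108142)) (.node (.leaf 98394) (.leaf 139746))))) (.node (.node (.node (.node (.leaf 5457) (.leaf 70183)) (.node (.leaf 63422) (.leaf 116276))) (.node (.node (.leaf 25388) (.leaf 93080)) (.node (.leaf 60248) (.leaf 128967)))) (.node (.node (.node (.leaf 50282) (.leaf 106017)) (.node (.leaf 102086) (.leaf 122215))) (.node (.node (.leaf 50342) (.leaf 110953)) (.node (.leaf 126635) (.leaf 136618))))))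
def dFin_1572 : BT := .node (.node (.node (.node (.node (.node (.node (.leaf 96) (.leaf 138444)) (.leaf 74984)) (.node (.leaf 51460) (.leaf 111982))) (.node (.node (.leaf 42247) (.leaf 91276)) (.node (.leaf 56383) (.leaf 124283)))) (.node (.node (.node (.leaf 12038) (.leaf 78697)) (.node (.leaf 96189) (.leaf 117951))) (.node (.node (.leaf 47271) (.leaf 109142)) (.node (.leaf 102843) (.leaf 131631))))) (.node (.node (.node (.node (.node (.leaf 36675) (.leaf 140759)) (.leaf 68956)) (.node (.leaf 52266) (.leaf 114706))) (.node (.node (.leaf 46772) (.leaf 101571)) (.node (.leaf 58705) (.leaf 135795)))) (.node (.node (.node (.leaf 109944) (.leaf 78932)) (.node (.leaf 105351) (.leaf 120942))) (.node (.node (.leaf 49391) (.leaf 109624)) (.node (.leaf 101993) (.leaf 135320)))))) (.node (.node (.node (.node (.node (.node (.leaf 1322) (.leaf 139521)) (.leaf 68013)) (.node (.leaf 57161) (.leaf 113161))) (.node (.node (.leaf 23103) (.leaf 87708)) (.node (.leaf 103854) (.leaf 137236)))) (.node (.node (.node (.leaf 93418) (.leaf 103052)) (.node (.leaf 97803) (.leaf 119263)))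 (.node (.node (.leaf 48428) (.leaf 108233)) (.node (.leaf 105579) (.leaf 133406))))) (.node (.node (.node (.node (.leaf 37949) (.leaf 98707)) (.node (.leaf 53133) (.leaf 119736))) (.node (.node (.leaf 40629) (.leaf 93376)) (.node (.leaf 59759) (.leaf 130064)))) (.node (.node (.node (.leaf 17161) (.leaf 81784)) (.node (.leaf 55765) (.leaf 122278))) (.node (.node (.leaf 50493) (.leaf 120563)) (.node (.leaf 66249) (.leaf 136802))))))
def dFin_1580 : BT := .node (.node (.node (.node (.node (.node (.node (.leaf 8693) (.leaf 138394)) (.leaf 67061)) (.node (.leaf 104590) (.leaf 118330))) (.node (.node (.leaf 19171) (.leaf 84938)) (.node (.leaf 56491) (.leaf 124494)))) (.node (.node (.node (.leaf 41458) (.leaf 73182)) (.node (.leaf 53605) (.leaf 122609))) (.node (.node (.leaf 47212) (.leaf 115629)) (.node (.leaf 103634) (.leaf 131684))))) (.node (.node (.node (.node (.node (.leaf 2472) (.leaf 140679)) (.leaf 68996)) (.node (.leaf 58823) (.leaf 114656))) (.node (.node (.leaf 24131) (.leaf 90948)) (.node (.leaf 59010) (.leaf 136180)))) (.node (.node (.node (.leaf 46467)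 (.leaf 125938)) (.node (.leaf 81085) (.leaf 120871))) (.node (.node (.leaf 49899) (.leaf 109438)) (.node (.leaf 140262) (.leaf 134972)))))) (.node (.node (.node (.node (.node (.node (.leaf 35372) (.leaf 139446)) (.leaf 103576)) (.node (.leaf 51925) (.leaf 113090))) (.node (.node (.leaf 42647) (.leaf 87824)) (.node (.leaf 57564) (.leaf 126071)))) (.node (.node (.node (.leaf 12816) (.leaf 101706)) (.node (.leaf 54502) (.leaf 119302))) (.node (.node (.leaf 48582) (.leaf 108225)) (.node (.leaf 62581) (.leaf 132946))))) (.node (.node (.node (.node (.leaf 6419) (.leaf 70332)) (.node (.leaf 53229) (.leaf 116241))) (.node (.node (.leaf 46374) (.leaf 93151)) (.node (.leaf 59872) (.leaf 129171)))) (.node (.node (.node (.leaf 17139) (.leaf 81891)) (.node (.leaf 138902) (.leaf 122087))) (.node (.node (.leaf 50403) (.leaf 110782)) (.node (.leaf 95716) (.leaf 136706))))))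
def dFin_1587 : BT := .node (.node (.node (.node (.node (.node (.node (.leaf 1289) (.leaf 138620)) (.leaf 67286)) (.node (.leaf 103779) (.leaf 112024))) (.node (.node (.leaf 19228) (.leaf 85461)) (.node (.leaf 56526) (.leaf 124588)))) (.node (.node (.node (.leaf 51553) (.leaf 140538)) (.node (.leaf 70818) (.leaf 117901))) (.node (.node (.leaf 47362) (.leaf 107094)) (.node (.leaf 116859) (.leaf 131562))))) (.node (.node (.node (.node (.node (.leaf 36624) (.leaf 140817)) (.leaf 101819)) (.node (.leaf 52714) (.leaf 114850))) (.node (.node (.leaf 40593) (.leaf 105977)) (.node (.leaf 58596) (.leaf 140864)))) (.node (.node (.node (.leaf 14029) (.leaf 78804)) (.node (.leaf 55250) (.leaf 121153))) (.node (.node (.leaf 95715) (.leaf 115984)) (.node (.leaf 64926) (.leaf 135415)))))) (.node (.node (.node (.node (.node (.node (.leaf 40157) (.leaf 139590)) (.leaf 67917)) (.node (.leaf 51798) (.leaf 113251))) (.node (.node (.leaf 45845) (.leaf 98843)) (.node (.leaf 57399) (.leaf 126144)))) (.node (.node (.node (.leaf 12918) (.leaf 75614)) (.node (.leaf 138956) (.leaf 119415)))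 (.node (.node (.leaf 48458) (.leaf 108271)) (.node (.leaf 105929) (.leaf 134759))))) (.node (.node (.node (.node (.leaf 7058) (.leaf 77357)) (.node (.leaf 100611) (.leaf 116451))) (.node (.node (.leaf 25938) (.leaf 93254)) (.node (.leaf 59765) (.leaf 130000)))) (.node (.node (.node (.leaf 42326) (.leaf 82453)) (.node (.leaf 55717) (.leaf 121892))) (.node (.node (.leaf 50564) (.leaf 110649)) (.node (.leaf 72389) (.leaf 136970))))))
def dFin_1597 : BT := .node (.node (.node (.node (.node (.node (.node (.leaf 1041) (.leaf 138300)) (.leaf 66836)) (.node (.leaf 57735) (.leaf 111821))) (.node (.node (.leaf 47714) (.leaf 84988)) (.node (.leaf 56307) (.leaf 124367)))) (.node (.node (.node (.leaf 12693) (.leaf 101666)) (.node (.leaf 105600) (.leaf 117678))) (.node (.node (.leaf 47148) (.leaf 94880)) (.node (.leaf 121516) (.leaf 131031))))) (.node (.node (.node (.node (.node (.leaf 36981) (.leaf 140553)) (.leaf 113487)) (.node (.leaf 103300) (.leaf 114453))) (.node (.node (.leaf 24082) (.leaf 104933)) (.node (.leaf 77693) (.leaf 127890)))) (.node (.node (.node (.leaf 106457)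 (.leaf 78116)) (.node (.leaf 54992) (.leaf 120674))) (.node (.node (.leaf 49272) (.leaf 109512)) (.node (.leaf 64600) (.leaf 134848)))))) (.node (.node (.node (.node (.node (.node (.leaf 45768) (.leaf 139357)) (.leaf 100167)) (.node (.leaf 51846) (.leaf 122943))) (.node (.node (.leaf 41970) (.leaf 101197)) (.node (.leaf 57370) (.leaf 125971)))) (.node (.node (.node (.leaf 36306) (.leaf 74948)) (.node (.leaf 54140) (.leaf 125221))) (.node (.node (.leaf 48710) (.leaf 108102)) (.node (.leaf 62768) (.leaf 133076))))) (.node (.node (.node (.node (.leaf 45761) (.leaf 70192)) (.node (.leaf 53052) (.leaf 116376))) (.node (.node (.leaf 46810) (.leaf 93061)) (.node (.leaf 98218) (.leaf 129055)))) (.node (.node (.node (.leaf 17094) (.leaf 81267)) (.node (.leaf 102108) (.leaf 121929))) (.node (.node (.leaf 50320) (.leaf 110620)) (.node (.leaf 71049) (.leaf 137813))))))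
def dFin_1604 : BT := .node (.node (.node (.node (.node (.node (.node (.leaf 38442) (.leaf 139132)) (.leaf 66950)) (.node (.leaf 103856) (.leaf 111995))) (.node (.node (.leaf 19188) (.leaf 85578)) (.node (.leaf 76450) (.leaf 139557)))) (.node (.node (.node (.leaf 12035) (.leaf 73170)) (.node (.leaf 54067) (.leaf 117892))) (.node (.node (.leaf 47302) (.leaf 107101)) (.node (.leaf 61154) (.leaf 131365))))) (.node (.node (.node (.node (.node (.leaf 45464) (.leaf 140723)) (.leaf 98911)) (.node (.leaf 94565) (.leaf 114562))) (.node (.node (.leaf 66769) (.leaf 91203)) (.node (.leaf 135135) (.leaf 127793)))) (.node (.node (.node (.leaf 47664) (.leaf 78190)) (.node (.leaf 54940) (.leaf 120922))) (.node (.node (.leaf 49386) (.leaf 110286)) (.node (.leaf 64837) (.leaf 135305)))))) (.node (.node (.node (.node (.node (.node (.leaf 46067) (.leaf 139488)) (.leaf 105455)) (.node (.leaf 104746) (.leaf 113166))) (.node (.node (.leaf 46633) (.leaf 123356)) (.node (.leaf 76474) (.leaf 126565)))) (.node (.node (.node (.leaf 12850) (.leaf 75207)) (.node (.leaf 97767) (.leaf 119111)))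 (.node (.node (.leaf 48372) (.leaf 108198)) (.node (.leaf 63418) (.leaf 133399))))) (.node (.node (.node (.node (.leaf 37942) (.leaf 70572)) (.node (.leaf 105807) (.leaf 116169))) (.node (.node (.leaf 46317) (.leaf 93247)) (.node (.leaf 60068) (.leaf 131118)))) (.node (.node (.node (.leaf 41770) (.leaf 105281)) (.node (.leaf 55330) (.leaf 126842))) (.node (.node (.leaf 50464) (.leaf 111012)) (.node (.leaf 101891) (.leaf 136818))))))
def dFin_1612 : BT := .node (.node (.node (.node (.node (.node (.node (.leaf 8508) (.leaf 138383)) (.leaf 101563)) (.node (.leaf 51293) (.leaf 111886))) (.node (.node (.leaf 41666) (.leaf 116438)) (.node (.leaf 56184) (.leaf 135102)))) (.node (.node (.node (.leaf 37580) (.leaf 72965)) (.node (.leaf 105375) (.leaf 122830))) (.node (.node (.leaf 47193) (.leaf 95887)) (.node (.leaf 61246) (.leaf 131123))))) (.node (.node (.node (.node (.node (.leaf 36226) (.leaf 140654)) (.leaf 97624)) (.node (.leaf 52248) (.leaf 114609))) (.node (.node (.leaf 46659) (.leaf 105394)) (.node (.leaf 138098) (.leaf 127633)))) (.node (.node (.node (.leaf 13775)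 (.leaf 78329)) (.node (.leaf 99772) (.leaf 120641))) (.node (.node (.leaf 49328) (.leaf 109473)) (.node (.leaf 65095) (.leaf 134969)))))) (.node (.node (.node (.node (.node (.node (.leaf 38625) (.leaf 140634)) (.leaf 67880)) (.node (.leaf 51777) (.leaf 113067))) (.node (.node (.leaf 22532) (.leaf 87831)) (.node (.leaf 91826) (.leaf 126067)))) (.node (.node (.node (.leaf 42429) (.leaf 77511)) (.node (.leaf 54471) (.leaf 119159))) (.node (.node (.leaf 48308) (.leaf 120256)) (.node (.leaf 62703) (.leaf 132987))))) (.node (.node (.node (.node (.leaf 45862) (.leaf 108387)) (.node (.leaf 103334) (.leaf 116317))) (.node (.node (.leaf 100126) (.leaf 93128)) (.node (.leaf 124138) (.leaf 129316)))) (.node (.node (.node (.leaf 46011) (.leaf 81570)) (.node (.leaf 55429) (.leaf 132346))) (.node (.node (.leaf 50393) (.leaf 130055)) (.node (.leaf 66000) (.leaf 136638))))))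
def dFin_1619 : BT := .node (.node (.node (.node (.node (.node (.node (.leaf 132) (.leaf 138492)) (.leaf 99278)) (.node (.leaf 104135) (.leaf 112008))) (.node (.node (.leaf 19225) (.leaf 106104)) (.node (.leaf 104569) (.leaf 124529)))) (.node (.node (.node (.leaf 12074) (.leaf 72779)) (.node (.leaf 96454) (.leaf 117860))) (.node (.node (.leaf 47372) (.leaf 95836)) (.node (.leaf 102392) (.leaf 131560))))) (.node (.node (.node (.node (.node (.leaf 2634) (.leaf 140804)) (.leaf 69294)) (.node (.leaf 97397) (.leaf 114773))) (.node (.node (.leaf 24158) (.leaf 91171)) (.node (.leaf 58949) (.leaf 129845)))) (.node (.node (.node (.leaf 41359) (.leaf 86738)) (.node (.leaf 55103) (.leaf 121139))) (.node (.node (.leaf 49449) (.leaf 115967)) (.node (.leaf 105328) (.leaf 135384)))))) (.node (.node (.node (.node (.node (.node (.leaf 298) (.leaf 139561)) (.leaf 67887)) (.node (.leaf 105199) (.leaf 113298))) (.node (.node (.leaf 66295) (.leaf 87668)) (.node (.leaf 120717) (.leaf 126445)))) (.node (.node (.node (.leaf 12909) (.leaf 75647)) (.node (.leaf 54407) (.leaf 122661))) (.node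 (.node (.leaf 48447) (.leaf 108382)) (.node (.leaf 63080) (.leaf 133325))))) (.node (.node (.node (.node (.leaf 36556) (.leaf 70685)) (.node (.leaf 53313) (.leaf 116521))) (.node (.node (.leaf 35458) (.leaf 93308)) (.node (.leaf 59991) (.leaf 129949)))) (.node (.node (.node (.leaf 17182) (.leaf 82451)) (.node (.leaf 98077) (.leaf 121883))) (.node (.node (.leaf 50555) (.leaf 122999)) (.node (.leaf 114580) (.leaf 136837))))))
def dFin_1628 : BT := .node (.node (.node (.node (.node (.node (.node (.leaf 8590) (.leaf 138357)) (.leaf 66993)) (.node (.leaf 51352) (.leaf 111857))) (.node (.node (.leaf 45512) (.leaf 102534)) (.node (.leaf 56246) (.leaf 124249)))) (.node (.node (.node (.leaf 66312) (.leaf 72506)) (.node (.leaf 104572) (.leaf 117639))) (.node (.node (.leaf 50516) (.leaf 94902)) (.node (.leaf 104801) (.leaf 131083))))) (.node (.node (.node (.node (.node (.leaf 2139) (.leaf 140614)) (.leaf 97562)) (.node (.leaf 61992) (.leaf 114485))) (.node (.node (.leaf 24095) (.leaf 102218)) (.node (.leaf 98738) (.leaf 128064)))) (.node (.node (.node (.leaf 42662) (.leaf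 77923)) (.node (.leaf 54969) (.leaf 120648))) (.node (.node (.leaf 49302) (.leaf 109475)) (.node (.leaf 64535) (.leaf 135081)))))) (.node (.node (.node (.node (.node (.node (.leaf 38836) (.leaf 139422)) (.leaf 103658)) (.node (.leaf 51817) (.leaf 113029))) (.node (.node (.leaf 41150) (.leaf 95695)) (.node (.leaf 91582) (.leaf 126089)))) (.node (.node (.node (.leaf 45770) (.leaf 75298)) (.node (.leaf 54500) (.leaf 118533))) (.node (.node (.leaf 134396) (.leaf 114428)) (.node (.leaf 62736) (.leaf 133010))))) (.node (.node (.node (.node (.leaf 5498) (.leaf 109993)) (.node (.leaf 74530) (.leaf 116345))) (.node (.node (.leaf 25393) (.leaf 122783)) (.node (.leaf 106087) (.leaf 128970)))) (.node (.node (.node (.leaf 17112) (.leaf 81236)) (.node (.leaf 102090) (.leaf 128126))) (.node (.node (.leaf 50422) (.leaf 110561)) (.node (.leaf 66025) (.leaf 136583))))))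
def dFin_1635 : BT := .node (.node (.node (.node (.node (.node (.node (.leaf 445) (.leaf 138456)) (.leaf 81516)) (.node (.leaf 100578) (.leaf 111971))) (.node (.node (.leaf 19204) (.leaf 137821)) (.node (.leaf 56110) (.leaf 124428)))) (.node (.node (.node (.leaf 42614) (.leaf 74452)) (.node (.leaf 54018) (.leaf 117875))) (.node (.node (.leaf 47276) (.leaf 95870)) (.node (.leaf 61354) (.leaf 131314))))) (.node (.node (.node (.node (.node (.leaf 5494) (.leaf 140777)) (.leaf 69331)) (.node (.leaf 106578) (.leaf 114730))) (.node (.node (.leaf 24188) (.leaf 91186)) (.node (.leaf 106455) (.leaf 131535)))) (.node (.node (.node (.leaf 44653) (.leaf 100396)) (.node (.leaf 54890) (.leaf 120968))) (.node (.node (.leaf 49406) (.leaf 125568)) (.node (.leaf 64799) (.leaf 135250)))))) (.node (.node (.node (.node (.node (.node (.leaf 40218) (.leaf 139549)) (.leaf 105360)) (.node (.leaf 104500) (.leaf 113207))) (.node (.node (.leaf 39075) (.leaf 101930)) (.node (.leaf 108931) (.leaf 126504)))) (.node (.node (.node (.leaf 12886) (.leaf 75118)) (.node (.leaf 97779) (.leaf 127290)))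 (.node (.node (.leaf 48403) (.leaf 108347)) (.node (.leaf 63139) (.leaf 133346))))) (.node (.node (.node (.node (.leaf 34496) (.leaf 70515)) (.node (.leaf 53360) (.leaf 116170))) (.node (.node (.leaf 45977) (.leaf 93219)) (.node (.leaf 60031) (.leaf 129966)))) (.node (.node (.node (.leaf 41042) (.leaf 103197)) (.node (.leaf 98068) (.leaf 122248))) (.node (.node (.leaf 50508) (.leaf 122888)) (.node (.leaf 78081) (.leaf 136774))))))
def dFin_1643 : BT := .node (.node (.node (.node (.node (.node (.node (.leaf 37918) (.leaf 138420)) (.leaf 73070)) (.node (.leaf 51232) (.leaf 111893))) (.node (.node (.leaf 38880) (.leaf 104315)) (.node (.leaf 103830) (.leaf 124463)))) (.node (.node (.node (.leaf 34367) (.leaf 72909)) (.node (.leaf 53592) (.leaf 122849))) (.node (.node (.leaf 126895) (.leaf 115652)) (.node (.leaf 61201) (.leaf 131418))))) (.node (.node (.node (.node (.node (.leaf 37588) (.leaf 140720)) (.leaf 136538)) (.node (.leaf 94581) (.leaf 114684))) (.node (.node (.leaf 49128) (.leaf 119738)) (.node (.leaf 99054) (.leaf 127849)))) (.node (.node (.node (.leaf 13766)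 (.leaf 78239)) (.node (.leaf 100000) (.leaf 127162))) (.node (.node (.leaf 91945) (.leaf 109412)) (.node (.leaf 64868) (.leaf 135105)))))) (.node (.node (.node (.node (.node (.node (.leaf 492) (.leaf 139460)) (.leaf 100873)) (.node (.leaf 116526) (.leaf 113995))) (.node (.node (.leaf 46619) (.leaf 119953)) (.node (.leaf 103842) (.leaf 126112)))) (.node (.node (.node (.leaf 42322) (.leaf 75394)) (.node (.leaf 54440) (.leaf 119134))) (.node (.node (.leaf 48342) (.leaf 108207)) (.node (.leaf 62595) (.leaf 132970))))) (.node (.node (.node (.node (.leaf 8703) (.leaf 70631)) (.node (.leaf 108958) (.leaf 116258))) (.node (.node (.leaf 46431) (.leaf 93166)) (.node (.leaf 98987) (.leaf 129191)))) (.node (.node (.node (.leaf 46715) (.leaf 108377)) (.node (.leaf 55380) (.leaf 121854))) (.node (.node (.leaf 50428) (.leaf 110995)) (.node (.leaf 65977) (.leaf 136655))))))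
def dFin_1650 : BT := .node (.node (.node (.node (.node (.node (.node (.leaf 34337) (.leaf 138526)) (.leaf 131575)) (.node (.leaf 73282) (.leaf 112030))) (.node (.node (.leaf 45360) (.leaf 106241)) (.node (.leaf 139060) (.leaf 124612)))) (.node (.node (.node (.leaf 12108) (.leaf 72710)) (.node (.leaf 79785) (.leaf 120626))) (.node (.node (.leaf 47345) (.leaf 95846)) (.node (.leaf 60988) (.leaf 131549))))) (.node (.node (.node (.node (.node (.leaf 2660) (.leaf 140846)) (.leaf 69254)) (.node (.leaf 52823) (.leaf 115332))) (.node (.node (.leaf 54504) (.leaf 91284)) (.node (.leaf 58894) (.leaf 127730)))) (.node (.node (.node (.leaf 36042) (.leaf 99538)) (.node (.leaf 99406) (.leaf 121043))) (.node (.node (.leaf 49444) (.leaf 123052)) (.node (.leaf 107628) (.leaf 135361)))))) (.node (.node (.node (.node (.node (.node (.leaf 45934) (.leaf 140070)) (.leaf 68148)) (.node (.leaf 51985) (.leaf 113259))) (.node (.node (.leaf 23631) (.leaf 87908)) (.node (.leaf 101366) (.leaf 131015)))) (.node (.node (.node (.leaf 12958) (.leaf 114673)) (.node (.leaf 54376) (.leaf 119361)))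 (.node (.node (.leaf 48470) (.leaf 124720)) (.node (.leaf 63031) (.leaf 133278))))) (.node (.node (.node (.node (.leaf 35354) (.leaf 71754)) (.node (.leaf 53264) (.leaf 116492))) (.node (.node (.leaf 25864) (.leaf 93294)) (.node (.leaf 59981) (.leaf 129934)))) (.node (.node (.node (.leaf 42588) (.leaf 134366)) (.node (.leaf 95808) (.leaf 126651))) (.node (.node (.leaf 99668) (.leaf 140860)) (.node (.leaf 98857) (.leaf 136880))))))
def dFin_1661 : BT := .node (.node (.node (.node (.node (.node (.node (.leaf 11) (.leaf 138216)) (.leaf 66832)) (.node (.leaf 51529) (.leaf 111802))) (.node (.node (.leaf 45128) (.leaf 89998)) (.node (.leaf 56449) (.leaf 124342)))) (.node (.node (.node (.leaf 40868) (.leaf 95958)) (.node (.leaf 104674) (.leaf 124033))) (.node (.node (.leaf 47108) (.leaf 107050)) (.node (.leaf 94080) (.leaf 131039))))) (.node (.node (.node (.node (.node (.leaf 2193) (.leaf 140542)) (.leaf 68987)) (.node (.leaf 59971) (.leaf 118312))) (.node (.node (.leaf 48910) (.leaf 90487)) (.node (.leaf 58776) (.leaf 127887)))) (.node (.node (.node (.leaf 13731) (.leaf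 101923)) (.node (.leaf 101050) (.leaf 120668))) (.node (.node (.leaf 52256) (.leaf 109499)) (.node (.leaf 95799) (.leaf 134834)))))) (.node (.node (.node (.node (.node (.node (.leaf 38518) (.leaf 140182)) (.leaf 99775)) (.node (.leaf 51902) (.leaf 112955))) (.node (.node (.leaf 22504) (.leaf 87172)) (.node (.leaf 57756) (.leaf 126042)))) (.node (.node (.node (.leaf 12844) (.leaf 105782)) (.node (.leaf 54139) (.leaf 122321))) (.node (.node (.leaf 115338) (.leaf 114403)) (.node (.leaf 86243) (.leaf 133090))))) (.node (.node (.node (.node (.leaf 39645) (.leaf 70171)) (.node (.leaf 53196) (.leaf 116117))) (.node (.node (.leaf 41337) (.leaf 93084)) (.node (.leaf 59838) (.leaf 129060)))) (.node (.node (.node (.leaf 46018) (.leaf 81329)) (.node (.leaf 105058) (.leaf 126735))) (.node (.node (.leaf 50315) (.leaf 110736)) (.node (.leaf 66107) (.leaf 137402))))))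
def dFin_1668 : BT := .node (.node (.node (.node (.node (.node (.node (.leaf 1042) (.leaf 138424)) (.leaf 67004)) (.node (.leaf 57719) (.leaf 118458))) (.node (.node (.leaf 45327) (.leaf 85336)) (.node (.leaf 56296) (.leaf 132782)))) (.node (.node (.node (.leaf 46108) (.leaf 104282)) (.node (.leaf 106102) (.leaf 117976))) (.node (.node (.leaf 47268) (.leaf 95911)) (.node (.leaf 115632) (.leaf 131673))))) (.node (.node (.node (.node (.node (.leaf 37601) (.leaf 141048)) (.leaf 95571)) (.node (.leaf 52251) (.leaf 114668))) (.node (.node (.leaf 24126) (.leaf 102369)) (.node (.leaf 99186) (.leaf 127938)))) (.node (.node (.node (.leaf 104119) (.leaf 78181)) (.node (.leaf 54984) (.leaf 120633))) (.node (.node (.leaf 49370) (.leaf 115694)) (.node (.leaf 64912) (.leaf 135126)))))) (.node (.node (.node (.node (.node (.node (.leaf 8794) (.leaf 139475)) (.leaf 67883)) (.node (.leaf 51838) (.leaf 113119))) (.node (.node (.leaf 41964) (.leaf 87800)) (.node (.leaf 57353) (.leaf 126911)))) (.node (.node (.node (.leaf 37428) (.leaf 75256)) (.node (.leaf 94958) (.leaf 132551)))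 (.node (.node (.leaf 48359) (.leaf 108188)) (.node (.leaf 63322) (.leaf 133424))))) (.node (.node (.node (.node (.leaf 32882) (.leaf 120550)) (.node (.leaf 53068) (.leaf 116165))) (.node (.node (.leaf 59782) (.leaf 93324)) (.node (.leaf 99250) (.leaf 129340)))) (.node (.node (.node (.leaf 17154) (.leaf 81761)) (.node (.leaf 64040) (.leaf 121910))) (.node (.node (.leaf 50456) (.leaf 110607)) (.node (.leaf 70868) (.leaf 136730))))))
def dFin_1676 : BT := .node (.node (.node (.node (.node (.node (.node (.leaf 33854) (.leaf 138387)) (.leaf 102454)) (.node (.leaf 51409) (.leaf 111878))) (.node (.node (.leaf 19164) (.leaf 85040)) (.node (.leaf 104205) (.leaf 124274)))) (.node (.node (.node (.leaf 12068) (.leaf 114206)) (.node (.leaf 94280) (.leaf 122828))) (.node (.node (.leaf 118310) (.leaf 107084)) (.node (.leaf 83217) (.leaf 131106))))) (.node (.node (.node (.node (.node (.leaf 34117) (.leaf 140643)) (.leaf 97614)) (.node (.leaf 52335) (.leaf 114650))) (.node (.node (.leaf 41238) (.leaf 113070)) (.node (.leaf 58656) (.leaf 127917)))) (.node (.node (.node (.leaf 14388)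 (.leaf 78436)) (.node (.leaf 54870) (.leaf 120780))) (.node (.node (.leaf 49315) (.leaf 109459)) (.node (.leaf 64968) (.leaf 135040)))))) (.node (.node (.node (.node (.node (.node (.leaf 1453) (.leaf 139478)) (.leaf 67980)) (.node (.leaf 58458) (.leaf 113057))) (.node (.node (.leaf 46566) (.leaf 87486)) (.node (.leaf 57482) (.leaf 133053)))) (.node (.node (.node (.leaf 44644) (.leaf 94985)) (.node (.leaf 105489) (.leaf 119331))) (.node (.node (.leaf 57783) (.leaf 108148)) (.node (.leaf 96205) (.leaf 133047))))) (.node (.node (.node (.node (.leaf 38040) (.leaf 70742)) (.node (.leaf 92153) (.leaf 116391))) (.node (.node (.leaf 25411) (.leaf 125267)) (.node (.leaf 98982) (.leaf 129326)))) (.node (.node (.node (.leaf 128911) (.leaf 81561)) (.node (.leaf 55521) (.leaf 122030))) (.node (.node (.leaf 50382) (.leaf 115446)) (.node (.leaf 66044) (.leaf 136594))))))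
def dFin_1683 : BT := .node (.node (.node (.node (.node (.node (.node (.leaf 126) (.leaf 138478)) (.leaf 97867)) (.node (.leaf 51285) (.leaf 116611))) (.node (.node (.leaf 41682) (.leaf 118054)) (.node (.leaf 56172) (.leaf 124521)))) (.node (.node (.node (.leaf 37016) (.leaf 72941)) (.node (.leaf 96452) (.leaf 117945))) (.node (.node (.leaf 47328) (.leaf 95865)) (.node (.leaf 61137) (.leaf 131613))))) (.node (.node (.node (.node (.node (.leaf 37377) (.leaf 140800)) (.leaf 105263)) (.node (.leaf 52659) (.leaf 114786))) (.node (.node (.leaf 47919) (.leaf 117975)) (.node (.leaf 80037) (.leaf 127622)))) (.node (.node (.node (.leaf 13844) (.leaf 78872)) (.node (.leaf 99839) (.leaf 120984))) (.node (.node (.leaf 49453) (.leaf 109733)) (.node (.leaf 64991) (.leaf 135331)))))) (.node (.node (.node (.node (.node (.node (.leaf 38802) (.leaf 140784)) (.leaf 104993)) (.node (.leaf 100987) (.leaf 113324))) (.node (.node (.leaf 23120) (.leaf 87675)) (.node (.leaf 100922) (.leaf 140391)))) (.node (.node (.node (.leaf 104281) (.leaf 98324)) (.node (.leaf 54463) (.leaf 119458)))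 (.node (.node (.leaf 48430) (.leaf 108332)) (.node (.leaf 63230) (.leaf 133205))))) (.node (.node (.node (.node (.leaf 27544) (.leaf 102184)) (.node (.leaf 138562) (.leaf 116508))) (.node (.node (.leaf 59698) (.leaf 93312)) (.node (.leaf 115535) (.leaf 130040)))) (.node (.node (.node (.leaf 44711) (.leaf 81642)) (.node (.leaf 55708) (.leaf 121879))) (.node (.node (.leaf 50537) (.leaf 122879)) (.node (.leaf 66177) (.leaf 136912))))))
def dFin_1692 : BT := .node (.node (.node (.node (.node (.node (.node (.leaf 13) (.leaf 138334)) (.leaf 75030)) (.node (.leaf 51468) (.leaf 111842))) (.node (.node (.leaf 38810) (.leaf 102774)) (.node (.leaf 56396) (.leaf 124328)))) (.node (.node (.node (.leaf 11984) (.leaf 72515)) (.node (.leaf 104562) (.leaf 120798))) (.node (.node (.leaf 47159) (.leaf 103018)) (.node (.leaf 104082) (.leaf 131059))))) (.node (.node (.node (.node (.node (.leaf 37365) (.leaf 140606)) (.leaf 68968)) (.node (.leaf 52394) (.leaf 114481))) (.node (.node (.leaf 48404) (.leaf 105021)) (.node (.leaf 58717) (.leaf 135856)))) (.node (.node (.node (.leaf 108313)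 (.leaf 77906)) (.node (.leaf 111812) (.leaf 120837))) (.node (.node (.leaf 49292) (.leaf 109560)) (.node (.leaf 64522) (.leaf 135068)))))) (.node (.node (.node (.node (.node (.node (.leaf 1370) (.leaf 139376)) (.leaf 68029)) (.node (.leaf 57153) (.leaf 112945))) (.node (.node (.leaf 22537) (.leaf 87515)) (.node (.leaf 57817) (.leaf 126083)))) (.node (.node (.node (.leaf 12802) (.leaf 129921)) (.node (.leaf 60896) (.leaf 118524))) (.node (.node (.leaf 48268) (.leaf 114172)) (.node (.leaf 107113) (.leaf 133063))))) (.node (.node (.node (.node (.leaf 37477) (.leaf 70766)) (.node (.leaf 53149) (.leaf 116336))) (.node (.node (.leaf 40630) (.leaf 93119)) (.node (.leaf 98421) (.leaf 129052)))) (.node (.node (.node (.leaf 17396) (.leaf 81300)) (.node (.leaf 55568) (.leaf 122350))) (.node (.node (.leaf 136777) (.leaf 117920)) (.node (.leaf 66069) (.leaf 136622))))))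
def dFin_1699 : BT := .node (.node (.node (.node (.node (.node (.node (.leaf 8573) (.leaf 138484)) (.leaf 66985)) (.node (.leaf 51344) (.leaf 127907))) (.node (.node (.leaf 45054) (.leaf 106897)) (.node (.leaf 56233) (.leaf 124227)))) (.node (.node (.node (.leaf 42610) (.leaf 73005)) (.node (.leaf 105675) (.leaf 117954))) (.node (.node (.leaf 47248) (.leaf 95890)) (.node (.leaf 101409) (.leaf 131710))))) (.node (.node (.node (.node (.node (.leaf 2404) (.leaf 140764)) (.leaf 69408)) (.node (.leaf 71050) (.leaf 114705))) (.node (.node (.leaf 50222) (.leaf 137426)) (.node (.leaf 101999) (.leaf 127958)))) (.node (.node (.node (.leaf 42709) (.leaf 103579)) (.node (.leaf 54886) (.leaf 120950))) (.node (.node (.leaf 49402) (.leaf 109628)) (.node (.leaf 65026) (.leaf 135207)))))) (.node (.node (.node (.node (.node (.node (.leaf 37934) (.leaf 139554)) (.leaf 68209)) (.node (.leaf 51809) (.leaf 113203))) (.node (.node (.leaf 41181) (.leaf 118183)) (.node (.leaf 103941) (.leaf 126890)))) (.node (.node (.node (.leaf 44731) (.leaf 75108)) (.node (.leaf 54492) (.leaf 132279)))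 (.node (.node (.leaf 101783) (.leaf 108365)) (.node (.leaf 63281) (.leaf 133240))))) (.node (.node (.node (.node (.leaf 34490) (.leaf 106135)) (.node (.leaf 100487) (.leaf 116142))) (.node (.node (.leaf 49748) (.leaf 122713)) (.node (.leaf 106927) (.leaf 130072)))) (.node (.node (.node (.leaf 17168) (.leaf 81689)) (.node (.leaf 62517) (.leaf 132472))) (.node (.node (.leaf 50499) (.leaf 110545)) (.node (.leaf 66202) (.leaf 136766))))))
def dFin_1707 : BT := .node (.node (.node (.node (.node (.node (.node (.leaf 1202) (.leaf 138556)) (.leaf 67025)) (.node (.leaf 56591) (.leaf 111935))) (.node (.node (.leaf 19174) (.leaf 84946)) (.node (.leaf 56538) (.leaf 132817)))) (.node (.node (.node (.leaf 12022) (.leaf 94446)) (.node (.leaf 73024) (.leaf 117687))) (.node (.node (.leaf 48006) (.leaf 107077)) (.node (.leaf 105624) (.leaf 131692))))) (.node (.node (.node (.node (.node (.leaf 36767) (.leaf 140743)) (.leaf 97909)) (.node (.leaf 52274) (.leaf 114680))) (.node (.node (.leaf 40539) (.leaf 109292)) (.node (.leaf 99042) (.leaf 128091)))) (.node (.node (.node (.leaf 13756)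 (.leaf 78338)) (.node (.leaf 55009) (.leaf 120881))) (.node (.node (.leaf 91816) (.leaf 109446)) (.node (.leaf 64941) (.leaf 134994)))))) (.node (.node (.node (.node (.node (.node (.leaf 1506) (.leaf 139516)) (.leaf 67925)) (.node (.leaf 51869) (.leaf 113178))) (.node (.node (.leaf 45846) (.leaf 101261)) (.node (.leaf 57419) (.leaf 127104)))) (.node (.node (.node (.leaf 45772) (.leaf 75342)) (.node (.leaf 108442) (.leaf 119311))) (.node (.node (.leaf 48332) (.leaf 108214)) (.node (.leaf 62582) (.leaf 134416))))) (.node (.node (.node (.node (.leaf 6392) (.leaf 75555)) (.node (.leaf 100064) (.leaf 116251))) (.node (.node (.leaf 48856) (.leaf 93152)) (.node (.leaf 59756) (.leaf 129283)))) (.node (.node (.node (.leaf 42297) (.leaf 82085)) (.node (.leaf 55472) (.leaf 121971))) (.node (.node (.leaf 50418) (.leaf 110666)) (.node (.leaf 72078) (.leaf 136715))))))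
def dFin_1714 : BT := .node (.node (.node (.node (.node (.node (.node (.leaf 37806) (.leaf 138536)) (.leaf 96476)) (.node (.leaf 51224) (.leaf 129528))) (.node (.node (.leaf 40982) (.leaf 113199)) (.node (.leaf 102900) (.leaf 124602)))) (.node (.node (.node (.leaf 46980) (.leaf 72878)) (.node (.leaf 54106) (.leaf 117895))) (.node (.node (.leaf 100095) (.leaf 115105)) (.node (.leaf 60978) (.leaf 131406))))) (.node (.node (.node (.node (.node (.leaf 51979) (.leaf 140834)) (.leaf 105141)) (.node (.leaf 99011) (.leaf 114861))) (.node (.node (.leaf 24167) (.leaf 105980)) (.node (.leaf 111696) (.leaf 127834)))) (.node (.node (.node (.leaf 14040) (.leaf 78818)) (.node (.leaf 81437) (.leaf 121031))) (.node (.node (.leaf 65122) (.leaf 109707)) (.node (.leaf 64855) (.leaf 135347)))))) (.node (.node (.node (.node (.node (.node (.leaf 479) (.leaf 139592)) (.leaf 102506)) (.node (.leaf 51977) (.leaf 122413))) (.node (.node (.leaf 24076) (.leaf 122505)) (.node (.leaf 102853) (.leaf 126143)))) (.node (.node (.node (.leaf 42157) (.leaf 75623)) (.node (.leaf 54432) (.leaf 119417)))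 (.node (.node (.leaf 48462) (.leaf 108299)) (.node (.leaf 63370) (.leaf 133167))))) (.node (.node (.node (.node (.leaf 10639) (.leaf 70607)) (.node (.leaf 138612) (.leaf 116440))) (.node (.node (.leaf 25860) (.leaf 93282)) (.node (.leaf 115660) (.leaf 130017)))) (.node (.node (.node (.leaf 46691) (.leaf 101607)) (.node (.leaf 55681) (.leaf 135377))) (.node (.node (.leaf 50572) (.leaf 122954)) (.node (.leaf 66154) (.leaf 136865))))))
def dFin_1724 : BT := .node (.node (.node (.node (.node (.node (.node (.leaf 38195) (.leaf 138263)) (.leaf 106178)) (.node (.leaf 104035) (.leaf 111850))) (.node (.node (.leaf 18881) (.leaf 116156)) (.node (.leaf 78761) (.leaf 124356)))) (.node (.node (.node (.leaf 101074) (.leaf 96317)) (.node (.leaf 53743) (.leaf 117626))) (.node (.node (.leaf 47126) (.leaf 114984)) (.node (.leaf 61166) (.leaf 131045))))) (.node (.node (.node (.node (.node (.leaf 46088) (.leaf 140589)) (.leaf 94808)) (.node (.leaf 105114) (.leaf 114458))) (.node (.node (.leaf 46367) (.leaf 90701)) (.node (.leaf 106367) (.leaf 127802)))) (.node (.node (.node (.leaf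 47502) (.leaf 77931)) (.node (.leaf 54948) (.leaf 137201))) (.node (.node (.leaf 49554) (.leaf 109552)) (.node (.leaf 64563) (.leaf 134945)))))) (.node (.node (.node (.node (.node (.node (.leaf 45758) (.leaf 139405)) (.leaf 124435)) (.node (.leaf 51774) (.leaf 112919))) (.node (.node (.leaf 48613) (.leaf 101198)) (.node (.leaf 73229) (.leaf 125981)))) (.node (.node (.node (.leaf 12790) (.leaf 74903)) (.node (.leaf 82236) (.leaf 118541))) (.node (.node (.leaf 48248) (.leaf 108110)) (.node (.leaf 65037) (.leaf 133050))))) (.node (.node (.node (.node (.leaf 45593) (.leaf 70173)) (.node (.leaf 114105) (.leaf 116564))) (.node (.node (.leaf 46323) (.leaf 93076)) (.node (.leaf 60083) (.leaf 131036)))) (.node (.node (.node (.leaf 41764) (.leaf 108002)) (.node (.leaf 55341) (.leaf 125684))) (.node (.node (.leaf 50324) (.leaf 110940)) (.node (.leaf 97844) (.leaf 136608))))))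
def dFin_1731 : BT := .node (.node (.node (.node (.node (.node (.node (.leaf 37284) (.leaf 138539)) (.leaf 105902)) (.node (.leaf 138385) (.leaf 111996))) (.node (.node (.leaf 122724) (.leaf 85545)) (.node (.leaf 109913) (.leaf 124442)))) (.node (.node (.node (.leaf 39030) (.leaf 72676)) (.node (.leaf 53975) (.leaf 124350))) (.node (.node (.leaf 47300) (.leaf 109860)) (.node (.leaf 61054) (.leaf 136480))))) (.node (.node (.node (.node (.node (.leaf 37603) (.leaf 140708)) (.leaf 88218)) (.node (.leaf 52262) (.leaf 114610))) (.node (.node (.leaf 42511) (.leaf 91253)) (.node (.leaf 58850) (.leaf 127689)))) (.node (.node (.node (.leaf 13797) (.leaf 100488)) (.node (.leaf 73128) (.leaf 120934))) (.node (.node (.leaf 65184) (.leaf 109637)) (.node (.leaf 114995) (.leaf 135139)))))) (.node (.node (.node (.node (.node (.node (.leaf 48204) (.leaf 139492)) (.leaf 68111)) (.node (.leaf 51781) (.leaf 113137))) (.node (.node (.leaf 46626) (.leaf 87755)) (.node (.leaf 57648) (.leaf 128923)))) (.node (.node (.node (.leaf 41378) (.leaf 87912)) (.node (.leaf 54355) (.leaf 128869)))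 (.node (.node (.leaf 48376) (.leaf 108355)) (.node (.leaf 101339) (.leaf 136188))))) (.node (.node (.node (.node (.leaf 6558) (.leaf 70423)) (.node (.leaf 63452) (.leaf 116202))) (.node (.node (.leaf 25432) (.leaf 93233)) (.node (.leaf 60279) (.leaf 130053)))) (.node (.node (.node (.leaf 100205) (.leaf 137714)) (.node (.leaf 98449) (.leaf 122199))) (.node (.node (.leaf 50510) (.leaf 122653)) (.node (.leaf 140220) (.leaf 136828))))))
def dFin_1739 : BT := .node (.node (.node (.node (.node (.node (.node (.leaf 1198) (.leaf 138390)) (.leaf 106596)) (.node (.leaf 51150) (.leaf 117763))) (.node (.node (.leaf 19201) (.leaf 95314)) (.node (.leaf 76500) (.leaf 124461)))) (.node (.node (.node (.leaf 12008) (.leaf 72803)) (.node (.leaf 63808) (.leaf 117558))) (.node (.node (.leaf 47200) (.leaf 95842)) (.node (.leaf 103879) (.leaf 131667))))) (.node (.node (.node (.node (.node (.leaf 49492) (.leaf 140662)) (.leaf 69028)) (.node (.leaf 52860) (.leaf 115893))) (.node (.node (.leaf 50159) (.leaf 90932)) (.node (.leaf 58961) (.leaf 129968)))) (.node (.node (.node (.leaf 41399)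 (.leaf 102562)) (.node (.leaf 54900) (.leaf 130014))) (.node (.node (.leaf 49332) (.leaf 109432)) (.node (.leaf 97838) (.leaf 135052)))))) (.node (.node (.node (.node (.node (.node (.leaf 46173) (.leaf 139663)) (.leaf 100593)) (.node (.leaf 129369) (.leaf 113078))) (.node (.node (.leaf 72529) (.leaf 87784)) (.node (.leaf 91983) (.leaf 126065)))) (.node (.node (.node (.leaf 12824) (.leaf 75160)) (.node (.leaf 54415) (.leaf 131550))) (.node (.node (.leaf 48740) (.leaf 108212)) (.node (.leaf 62635) (.leaf 132945))))) (.node (.node (.node (.node (.leaf 37102) (.leaf 70752)) (.node (.leaf 53321) (.leaf 116288))) (.node (.node (.leaf 42463) (.leaf 93290)) (.node (.leaf 60003) (.leaf 129247)))) (.node (.node (.node (.leaf 17130) (.leaf 82090)) (.node (.leaf 101830) (.leaf 132784))) (.node (.node (.leaf 50862) (.leaf 110999)) (.node (.leaf 96346) (.leaf 136723))))))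
def dFin_1746 : BT := .node (.node (.node (.node (.node (.node (.node (.leaf 2608) (.leaf 138504)) (.leaf 67381)) (.node (.leaf 103742) (.leaf 116598))) (.node (.node (.leaf 45040) (.leaf 85509)) (.node (.leaf 56479) (.leaf 124550)))) (.node (.node (.node (.leaf 41457) (.leaf 76471)) (.node (.leaf 53879) (.leaf 121568))) (.node (.node (.leaf 47359) (.leaf 123254)) (.node (.leaf 106317) (.leaf 131587))))) (.node (.node (.node (.node (.node (.leaf 2510) (.leaf 140826)) (.leaf 69229)) (.node (.leaf 59356) (.leaf 114782))) (.node (.node (.leaf 24177) (.leaf 91120)) (.node (.leaf 58998) (.leaf 127993)))) (.node (.node (.node (.leaf 39001) (.leaf 139924)) (.node (.leaf 58489) (.leaf 121129))) (.node (.node (.leaf 49429) (.leaf 109754)) (.node (.leaf 119297) (.leaf 135401)))))) (.node (.node (.node (.node (.node (.node (.leaf 46180) (.leaf 139540)) (.leaf 86392)) (.node (.leaf 51794) (.leaf 113320))) (.node (.node (.leaf 37654) (.leaf 87681)) (.node (.leaf 57544) (.leaf 126329)))) (.node (.node (.node (.leaf 12914) (.leaf 79988)) (.node (.leaf 72471) (.leaf 135988)))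 (.node (.node (.leaf 48457) (.leaf 108265)) (.node (.leaf 99954) (.leaf 133337))))) (.node (.node (.node (.node (.leaf 9583) (.leaf 70292)) (.node (.leaf 53221) (.leaf 121358))) (.node (.node (.leaf 25977) (.leaf 93275)) (.node (.leaf 59860) (.leaf 136972)))) (.node (.node (.node (.leaf 48329) (.leaf 82377)) (.node (.leaf 99393) (.leaf 121888))) (.node (.node (.leaf 50559) (.leaf 110765)) (.node (.leaf 103023) (.leaf 136958))))))
def dFin_1755 : BT := .node (.node (.node (.node (.node (.node (.node (.leaf 392) (.leaf 138342)) (.leaf 102713)) (.node (.leaf 100098) (.leaf 111861))) (.node (.node (.leaf 19416) (.leaf 105540)) (.node (.leaf 56098) (.leaf 134568)))) (.node (.node (.node (.leaf 42379) (.leaf 73810)) (.node (.leaf 53690) (.leaf 117587))) (.node (.node (.leaf 47162) (.leaf 94898)) (.node (.leaf 61338) (.leaf 131097))))) (.node (.node (.node (.node (.node (.leaf 34111) (.leaf 140624)) (.leaf 69047)) (.node (.leaf 101379) (.leaf 114500))) (.node (.node (.leaf 24088) (.leaf 90424)) (.node (.leaf 98742) (.leaf 131640)))) (.node (.node (.node (.leaf 44650)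 (.leaf 92075)) (.node (.leaf 54925) (.leaf 120601))) (.node (.node (.leaf 49306) (.leaf 109457)) (.node (.leaf 64544) (.leaf 135049)))))) (.node (.node (.node (.node (.node (.node (.leaf 5876) (.leaf 139388)) (.leaf 140140)) (.node (.leaf 73749) (.leaf 113040))) (.node (.node (.leaf 39063) (.leaf 98933)) (.node (.leaf 91675) (.leaf 126095)))) (.node (.node (.node (.leaf 12821) (.leaf 75205)) (.node (.leaf 98092) (.leaf 132954))) (.node (.node (.leaf 48289) (.leaf 108134)) (.node (.leaf 62670) (.leaf 134701))))) (.node (.node (.node (.node (.leaf 49140) (.leaf 70548)) (.node (.leaf 53376) (.leaf 116320))) (.node (.node (.leaf 136823) (.leaf 93384)) (.node (.leaf 60044) (.leaf 128990)))) (.node (.node (.node (.leaf 41047) (.leaf 93070)) (.node (.leaf 123126) (.leaf 122306))) (.node (.node (.leaf 50362) (.leaf 110962)) (.node (.leaf 95616) (.leaf 137818))))))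
def dFin_1762 : BT := .node (.node (.node (.node (.node (.node (.node (.leaf 121) (.leaf 138500)) (.leaf 67072)) (.node (.leaf 109862) (.leaf 111969))) (.node (.node (.leaf 19386) (.leaf 85526)) (.node (.leaf 56109) (.leaf 124243)))) (.node (.node (.node (.leaf 12093) (.leaf 104311)) (.node (.leaf 53926) (.leaf 125947))) (.node (.node (.leaf 47288) (.leaf 115046)) (.node (.leaf 61003) (.leaf 131617))))) (.node (.node (.node (.node (.node (.leaf 35066) (.leaf 140856)) (.leaf 82779)) (.node (.leaf 52783) (.leaf 114738))) (.node (.node (.leaf 24150) (.leaf 91141)) (.node (.leaf 102107) (.leaf 127568)))) (.node (.node (.node (.leaf 37909) (.leaf 104876)) (.node (.leaf 55256) (.leaf 133066))) (.node (.node (.leaf 65891) (.leaf 109738)) (.node (.leaf 103285) (.leaf 135261)))))) (.node (.node (.node (.node (.node (.node (.leaf 40230) (.leaf 139545)) (.leaf 68064)) (.node (.leaf 51945) (.leaf 113215))) (.node (.node (.leaf 60749) (.leaf 89396)) (.node (.leaf 57595) (.leaf 126388)))) (.node (.node (.node (.leaf 40882) (.leaf 99259)) (.node (.leaf 108516) (.leaf 124762)))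 (.node (.node (.leaf 48410) (.leaf 108314)) (.node (.leaf 94104) (.leaf 133350))))) (.node (.node (.node (.node (.leaf 6759) (.leaf 70358)) (.node (.leaf 103819) (.leaf 116498))) (.node (.node (.leaf 49127) (.leaf 93228)) (.node (.leaf 59910) (.leaf 130045)))) (.node (.node (.node (.leaf 46015) (.leaf 81618)) (.node (.leaf 126626) (.leaf 122129))) (.node (.node (.leaf 97463) (.leaf 110824)) (.node (.leaf 105177) (.leaf 136785))))))
def dFin_1770 : BT := .node (.node (.node (.node (.node (.node (.node (.leaf 81) (.leaf 138412)) (.leaf 122347)) (.node (.leaf 103838) (.leaf 111918))) (.node (.node (.leaf 45701) (.leaf 103841)) (.node (.leaf 138480) (.leaf 124451)))) (.node (.node (.node (.leaf 12043) (.leaf 72741)) (.node (.leaf 61616) (.leaf 129083))) (.node (.node (.leaf 47233) (.leaf 95856)) (.node (.leaf 61103) (.leaf 131646))))) (.node (.node (.node (.node (.node (.leaf 46158) (.leaf 140713)) (.leaf 69011)) (.node (.leaf 52563) (.leaf 114696))) (.node (.node (.leaf 137910) (.leaf 91264)) (.node (.leaf 58905) (.leaf 127745)))) (.node (.node (.node (.leaf 40723)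 (.leaf 78165)) (.node (.leaf 94049) (.leaf 120884))) (.node (.node (.leaf 49360) (.leaf 121444)) (.node (.leaf 65005) (.leaf 135109)))))) (.node (.node (.node (.node (.node (.node (.leaf 1503) (.leaf 139565)) (.leaf 68156)) (.node (.leaf 106312) (.leaf 113180))) (.node (.node (.leaf 46309) (.leaf 87771)) (.node (.leaf 104149) (.leaf 126785)))) (.node (.node (.node (.leaf 12868) (.leaf 105152)) (.node (.leaf 54384) (.leaf 132334))) (.node (.node (.leaf 48350) (.leaf 108173)) (.node (.leaf 62602) (.leaf 133370))))) (.node (.node (.node (.node (.leaf 36839) (.leaf 71800)) (.node (.leaf 53272) (.leaf 116265))) (.node (.node (.leaf 25441) (.leaf 93174)) (.node (.leaf 60112) (.leaf 129199)))) (.node (.node (.node (.leaf 44691) (.leaf 100027)) (.node (.leaf 103109) (.leaf 126012))) (.node (.node (.leaf 50468) (.leaf 111004)) (.node (.leaf 75523) (.leaf 136645))))))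
def dFin_1777 : BT := .node (.node (.node (.node (.node (.node (.node (.leaf 8170) (.leaf 138530)) (.leaf 67336)) (.node (.leaf 51513) (.leaf 120787))) (.node (.node (.leaf 47742) (.leaf 90318)) (.node (.leaf 56425) (.leaf 124624)))) (.node (.node (.node (.leaf 40879) (.leaf 104565)) (.node (.leaf 97514) (.leaf 117836))) (.node (.node (.leaf 47354) (.leaf 116706)) (.node (.leaf 103942) (.leaf 131522))))) (.node (.node (.node (.node (.node (.leaf 2520) (.leaf 140885)) (.leaf 69198)) (.node (.leaf 60549) (.leaf 114849))) (.node (.node (.leaf 46453) (.leaf 91101)) (.node (.leaf 58755) (.leaf 131931)))) (.node (.node (.node (.leaf 46126) (.leaf 104533)) (.node (.leaf 106523) (.leaf 121049))) (.node (.node (.leaf 49480) (.leaf 109668)) (.node (.leaf 102929) (.leaf 135350)))))) (.node (.node (.node (.node (.node (.node (.leaf 38230) (.leaf 139609)) (.leaf 84078)) (.node (.leaf 51990) (.leaf 113289))) (.node (.node (.leaf 23632) (.leaf 87922)) (.node (.leaf 57692) (.leaf 126268)))) (.node (.node (.node (.leaf 46882) (.leaf 135801)) (.node (.leaf 54304) (.leaf 132849)))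 (.node (.node (.leaf 111818) (.leaf 108500)) (.node (.leaf 83183) (.leaf 133290))))) (.node (.node (.node (.node (.leaf 8192) (.leaf 103276)) (.node (.leaf 53172) (.leaf 116543))) (.node (.node (.leaf 41305) (.leaf 93335)) (.node (.leaf 59813) (.leaf 129888)))) (.node (.node (.node (.leaf 46673) (.leaf 82228)) (.node (.leaf 95816) (.leaf 137486))) (.node (.node (.leaf 50582) (.leaf 110704)) (.node (.leaf 66256) (.leaf 136893))))))
def dFin_1789 : BT := .node (.node (.node (.node (.node (.node (.node (.leaf 7) (.leaf 138256)) (.leaf 66828)) (.node (.leaf 91969) (.leaf 111798))) (.node (.node (.leaf 47556) (.leaf 85165)) (.node (.leaf 56092) (.leaf 137790)))) (.node (.node (.node (.leaf 46926) (.leaf 106464)) (.node (.leaf 53638) (.leaf 117519))) (.node (.node (.leaf 47104) (.leaf 103082)) (.node (.leaf 61023) (.leaf 131057))))) (.node (.node (.node (.node (.node (.leaf 37230) (.leaf 140529)) (.leaf 108335)) (.node (.leaf 52455) (.leaf 114434))) (.node (.node (.leaf 24078) (.leaf 90571)) (.node (.leaf 60252) (.leaf 127587)))) (.node (.node (.node (.leaf 47447) (.leaf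 128086)) (.node (.leaf 114370) (.leaf 120672))) (.node (.node (.leaf 97727) (.leaf 126752)) (.node (.leaf 95796) (.leaf 134826)))))) (.node (.node (.node (.node (.node (.node (.leaf 39128) (.leaf 139352)) (.leaf 68088)) (.node (.leaf 51958) (.leaf 130300))) (.node (.node (.leaf 116568) (.leaf 88726)) (.node (.leaf 57623) (.leaf 126038)))) (.node (.node (.node (.leaf 40681) (.leaf 105765)) (.node (.leaf 101589) (.leaf 121111))) (.node (.node (.leaf 48218) (.leaf 108086)) (.node (.leaf 71248) (.leaf 133086))))) (.node (.node (.node (.node (.leaf 5442) (.leaf 69996)) (.node (.leaf 61312) (.leaf 116359))) (.node (.node (.leaf 50708) (.leaf 93056)) (.node (.leaf 59930) (.leaf 129068)))) (.node (.node (.node (.leaf 17092) (.leaf 102373)) (.node (.leaf 106917) (.leaf 122161))) (.node (.node (.leaf 50376) (.leaf 110852)) (.node (.leaf 106549) (.leaf 136556))))))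
def dFin_1796 : BT := .node (.node (.node (.node (.node (.node (.node (.leaf 35562) (.leaf 140611)) (.leaf 73738)) (.node (.leaf 51405) (.leaf 111930))) (.node (.node (.leaf 19184) (.leaf 85332)) (.node (.leaf 104151) (.leaf 124266)))) (.node (.node (.node (.leaf 12029) (.leaf 119979)) (.node (.leaf 53778) (.leaf 117978))) (.node (.node (.leaf 47313) (.leaf 107079)) (.node (.leaf 104254) (.leaf 131669))))) (.node (.node (.node (.node (.node (.leaf 37596) (.leaf 140693)) (.leaf 101599)) (.node (.leaf 52331) (.leaf 114665))) (.node (.node (.leaf 41227) (.leaf 106701)) (.node (.leaf 58648) (.leaf 129869)))) (.node (.node (.node (.leaf 37015) (.leaf 78170)) (.node (.leaf 106593) (.leaf 120617))) (.node (.node (.leaf 49576) (.leaf 109602)) (.node (.leaf 64964) (.leaf 135123)))))) (.node (.node (.node (.node (.node (.node (.leaf 1410) (.leaf 139476)) (.leaf 67968)) (.node (.leaf 58470) (.leaf 114374))) (.node (.node (.leaf 46597) (.leaf 87698)) (.node (.leaf 57469) (.leaf 134533)))) (.node (.node (.node (.leaf 45891) (.leaf 95426)) (.node (.leaf 107004) (.leaf 119287)))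 (.node (.node (.leaf 109214) (.leaf 108180)) (.node (.leaf 108385) (.leaf 133385))))) (.node (.node (.node (.node (.leaf 36841) (.leaf 98200)) (.node (.leaf 53067) (.leaf 116205))) (.node (.node (.leaf 25437) (.leaf 93204)) (.node (.leaf 75502) (.leaf 129353)))) (.node (.node (.node (.leaf 97280) (.leaf 97571)) (.node (.leaf 55322) (.leaf 122026))) (.node (.node (.leaf 50452) (.leaf 111367)) (.node (.leaf 65968) (.leaf 136667))))))
def dFin_1804 : BT := .node (.node (.node (.node (.node (.node (.node (.leaf 8445) (.leaf 138376)) (.leaf 67044)) (.node (.leaf 51525) (.leaf 115358))) (.node (.node (.leaf 136149) (.leaf 102773)) (.node (.leaf 56442) (.leaf 124310)))) (.node (.node (.node (.leaf 40803) (.leaf 72553)) (.node (.leaf 104937) (.leaf 123999))) (.node (.node (.leaf 47180) (.leaf 107104)) (.node (.leaf 103866) (.leaf 131121))))) (.node (.node (.node (.node (.node (.leaf 2181) (.leaf 140644)) (.leaf 68983)) (.node (.leaf 59967) (.leaf 114634))) (.node (.node (.leaf 48770) (.leaf 90444)) (.node (.leaf 58772) (.leaf 127914)))) (.node (.node (.node (.leaf 13753)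 (.leaf 78119)) (.node (.leaf 111907) (.leaf 120776))) (.node (.node (.leaf 99848) (.leaf 109429)) (.node (.leaf 108161) (.leaf 135037)))))) (.node (.node (.node (.node (.node (.node (.leaf 39110) (.leaf 139618)) (.leaf 103675)) (.node (.leaf 51898) (.leaf 113048))) (.node (.node (.leaf 22528) (.leaf 87482)) (.node (.leaf 57744) (.leaf 126104)))) (.node (.node (.node (.leaf 12809) (.leaf 105693)) (.node (.leaf 97954) (.leaf 119051))) (.node (.node (.leaf 99794) (.leaf 108163)) (.node (.leaf 86168) (.leaf 133043))))) (.node (.node (.node (.node (.leaf 40158) (.leaf 70760)) (.node (.leaf 53192) (.leaf 116244))) (.node (.node (.leaf 41334) (.leaf 122904)) (.node (.leaf 59833) (.leaf 129319)))) (.node (.node (.node (.leaf 17117) (.leaf 81548)) (.node (.leaf 55311) (.leaf 122317))) (.node (.node (.leaf 50586) (.leaf 110727)) (.node (.leaf 66088) (.leaf 137446))))))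
def dFin_1811 : BT := .node (.node (.node (.node (.node (.node (.node (.leaf 1046) (.leaf 138516)) (.leaf 67000)) (.node (.leaf 57707) (.leaf 112007))) (.node (.node (.leaf 45367) (.leaf 85444)) (.node (.leaf 56288) (.leaf 124527)))) (.node (.node (.node (.leaf 37012) (.leaf 94114)) (.node (.leaf 106480) (.leaf 117938))) (.node (.node (.leaf 115714) (.leaf 95861)) (.node (.leaf 102386) (.leaf 131605))))) (.node (.node (.node (.node (.node (.leaf 37735) (.leaf 140810)) (.leaf 105254)) (.node (.leaf 52660) (.leaf 114755))) (.node (.node (.leaf 24154) (.leaf 91233)) (.node (.leaf 67430) (.leaf 127981)))) (.node (.node (.node (.leaf 13840) (.leaf 100402)) (.node (.leaf 55223) (.leaf 120980))) (.node (.node (.leaf 49457) (.leaf 115956)) (.node (.leaf 64903) (.leaf 135209)))))) (.node (.node (.node (.node (.node (.node (.leaf 40238) (.leaf 139525)) (.leaf 105006)) (.node (.leaf 51833) (.leaf 113322))) (.node (.node (.leaf 41982) (.leaf 95942)) (.node (.leaf 57342) (.leaf 134148)))) (.node (.node (.node (.leaf 45662) (.leaf 75724)) (.node (.leaf 137925) (.leaf 124487)))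 (.node (.node (.leaf 48415) (.leaf 108326)) (.node (.leaf 63310) (.leaf 133364))))) (.node (.node (.node (.node (.leaf 45561) (.leaf 129332)) (.node (.leaf 103806) (.leaf 116395))) (.node (.node (.leaf 36536) (.leaf 93268)) (.node (.leaf 101796) (.leaf 130036)))) (.node (.node (.node (.leaf 17178) (.leaf 81638)) (.node (.leaf 64663) (.leaf 121897))) (.node (.node (.leaf 50528) (.leaf 110592)) (.node (.leaf 71235) (.leaf 136927))))))
def dFin_1820 : BT := .node (.node (.node (.node (.node (.node (.node (.leaf 773) (.leaf 138330)) (.leaf 67065)) (.node (.leaf 106860) (.leaf 111837))) (.node (.node (.leaf 19324) (.leaf 85094)) (.node (.leaf 56496) (.leaf 132857)))) (.node (.node (.node (.leaf 41578) (.leaf 72511)) (.node (.leaf 53609) (.leaf 137832))) (.node (.node (.leaf 47142) (.leaf 107034)) (.node (.leaf 60947) (.leaf 131069))))) (.node (.node (.node (.node (.node (.leaf 2238) (.leaf 140637)) (.leaf 69000)) (.node (.leaf 59104) (.leaf 114470))) (.node (.node (.leaf 24105) (.leaf 90526)) (.node (.leaf 59017) (.leaf 137908)))) (.node (.node (.node (.leaf 48760)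 (.leaf 106681)) (.node (.leaf 99685) (.leaf 120833))) (.node (.node (.leaf 49972) (.leaf 109401)) (.node (.leaf 106357) (.leaf 135061)))))) (.node (.node (.node (.node (.node (.node (.leaf 39089) (.leaf 139397)) (.leaf 103910)) (.node (.leaf 51929) (.leaf 112926))) (.node (.node (.leaf 42072) (.leaf 87604)) (.node (.leaf 57572) (.leaf 126007)))) (.node (.node (.node (.leaf 12794) (.leaf 96368)) (.node (.leaf 54290) (.leaf 118523))) (.node (.node (.leaf 48300) (.leaf 108115)) (.node (.leaf 98396) (.leaf 133060))))) (.node (.node (.node (.node (.leaf 37488) (.leaf 70187)) (.node (.leaf 53241) (.leaf 116330))) (.node (.node (.leaf 46440) (.leaf 93103)) (.node (.leaf 59880) (.leaf 131061)))) (.node (.node (.node (.leaf 17109) (.leaf 81352)) (.node (.leaf 106257) (.leaf 122099))) (.node (.node (.leaf 50341) (.leaf 110793)) (.node (.leaf 103026) (.leaf 137093))))))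
def dFin_1827 : BT := .node (.node (.node (.node (.node (.node (.node (.leaf 1181) (.leaf 138472)) (.leaf 67021)) (.node (.leaf 56595) (.leaf 111978))) (.node (.node (.leaf 19196) (.leaf 85465)) (.node (.leaf 56530) (.leaf 124424)))) (.node (.node (.node (.leaf 12062) (.leaf 101397)) (.node (.leaf 98160) (.leaf 117909))) (.node (.node (.leaf 47255) (.leaf 105431)) (.node (.leaf 139236) (.leaf 131636))))) (.node (.node (.node (.node (.node (.leaf 36425) (.leaf 140753)) (.leaf 97792)) (.node (.leaf 52270) (.leaf 114715))) (.node (.node (.leaf 40601) (.leaf 91060)) (.node (.leaf 102008) (.leaf 127974)))) (.node (.node (.node (.leaf 13780) (.leaf 78904)) (.node (.leaf 54882) (.leaf 124620))) (.node (.node (.leaf 94193) (.leaf 119902)) (.node (.leaf 64930) (.leaf 135235)))))) (.node (.node (.node (.node (.node (.node (.leaf 1498) (.leaf 139512)) (.leaf 67921)) (.node (.leaf 51865) (.leaf 118096))) (.node (.node (.leaf 46630) (.leaf 101958)) (.node (.leaf 57407) (.leaf 126884)))) (.node (.node (.node (.leaf 12876) (.leaf 75102)) (.node (.leaf 106998) (.leaf 119267)))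 (.node (.node (.leaf 48384) (.leaf 108361)) (.node (.leaf 91575) (.leaf 133409))))) (.node (.node (.node (.node (.leaf 6564) (.leaf 75531)) (.node (.leaf 103538) (.leaf 116159))) (.node (.node (.leaf 49098) (.leaf 93186)) (.node (.leaf 102101) (.leaf 134120)))) (.node (.node (.node (.leaf 42308) (.leaf 81908)) (.node (.leaf 55729) (.leaf 121967))) (.node (.node (.leaf 50488) (.leaf 110661)) (.node (.leaf 98091) (.leaf 136798))))))
def dFin_1835 : BT := .node (.node (.node (.node (.node (.node (.node (.leaf 64) (.leaf 138398)) (.leaf 74990)) (.node (.leaf 51464) (.leaf 111939))) (.node (.node (.leaf 38812) (.leaf 90436)) (.node (.leaf 56391) (.leaf 124288)))) (.node (.node (.node (.leaf 12014) (.leaf 115384)) (.node (.leaf 104101) (.leaf 128000))) (.node (.node (.leaf 47217) (.leaf 115109)) (.node (.leaf 104239) (.leaf 135000))))) (.node (.node (.node (.node (.node (.leaf 34114) (.leaf 140670)) (.leaf 68964)) (.node (.leaf 52390) (.leaf 114676))) (.node (.node (.leaf 49801) (.leaf 105660)) (.node (.leaf 58710) (.leaf 136172)))) (.node (.node (.node (.leaf 99640)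 (.leaf 78334)) (.node (.leaf 105252) (.leaf 120875))) (.node (.node (.leaf 49340) (.leaf 109443)) (.node (.leaf 96175) (.leaf 134985)))))) (.node (.node (.node (.node (.node (.node (.leaf 1321) (.leaf 139472)) (.leaf 68017)) (.node (.leaf 57157) (.leaf 113094))) (.node (.node (.leaf 22612) (.leaf 87715)) (.node (.leaf 57831) (.leaf 128806)))) (.node (.node (.node (.leaf 12838) (.leaf 101708)) (.node (.leaf 54294) (.leaf 119307))) (.node (.node (.leaf 48820) (.leaf 108195)) (.node (.leaf 119014) (.leaf 132956))))) (.node (.node (.node (.node (.leaf 35239) (.leaf 97830)) (.node (.leaf 53137) (.leaf 116247))) (.node (.node (.leaf 40646) (.leaf 93155)) (.node (.leaf 99100) (.leaf 129177)))) (.node (.node (.node (.leaf 46027) (.leaf 81819)) (.node (.leaf 55564) (.leaf 122299))) (.node (.node (.leaf 137175) (.leaf 117479)) (.node (.leaf 66065) (.leaf 136711))))))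
def dFin_1842 : BT := .node (.node (.node (.node (.node (.node (.node (.leaf 46062) (.leaf 138514)) (.leaf 67198)) (.node (.leaf 51340) (.leaf 112027))) (.node (.node (.leaf 45046) (.leaf 106571)) (.node (.leaf 56229) (.leaf 124594)))) (.node (.node (.node (.leaf 12104) (.leaf 72982)) (.node (.leaf 106567) (.leaf 117918))) (.node (.node (.leaf 47320) (.leaf 95888)) (.node (.leaf 60974) (.leaf 131570))))) (.node (.node (.node (.node (.node (.leaf 2514) (.leaf 140830)) (.leaf 103234)) (.node (.leaf 98284) (.leaf 123121))) (.node (.node (.leaf 25298) (.leaf 121429)) (.node (.leaf 58595) (.leaf 127998)))) (.node (.node (.node (.leaf 36392) (.leaf 78815)) (.node (.leaf 55190) (.leaf 121156))) (.node (.node (.leaf 49436) (.leaf 109765)) (.node (.leaf 65030) (.leaf 135375)))))) (.node (.node (.node (.node (.node (.node (.leaf 38937) (.leaf 139587)) (.leaf 68197)) (.node (.leaf 51802) (.leaf 113959))) (.node (.node (.leaf 37646) (.leaf 103137)) (.node (.leaf 57281) (.leaf 126855)))) (.node (.node (.node (.leaf 47265) (.leaf 75618)) (.node (.leaf 54488) (.leaf 119474)))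 (.node (.node (.leaf 137679) (.leaf 108275)) (.node (.leaf 63269) (.leaf 133227))))) (.node (.node (.node (.node (.leaf 32856) (.leaf 105078)) (.node (.leaf 103861) (.leaf 116430))) (.node (.node (.leaf 25862) (.leaf 122702)) (.node (.leaf 120735) (.leaf 130006)))) (.node (.node (.node (.leaf 17194) (.leaf 82288)) (.node (.leaf 98056) (.leaf 137631))) (.node (.node (.leaf 50674) (.leaf 110533)) (.node (.leaf 66194) (.leaf 136873))))))
def dFin_1852 : BT := .node (.node (.node (.node (.node (.node (.node (.leaf 8714) (.leaf 138308)) (.leaf 114785)) (.node (.leaf 51297) (.leaf 111890))) (.node (.node (.leaf 41630) (.leaf 85223)) (.node (.leaf 56191) (.leaf 124251)))) (.node (.node (.node (.leaf 11974) (.leaf 72326)) (.node (.leaf 53581) (.leaf 120831))) (.node (.node (.leaf 47114) (.leaf 94860)) (.node (.leaf 61254) (.leaf 131041))))) (.node (.node (.node (.node (.node (.leaf 37136) (.leaf 140548)) (.leaf 116773)) (.node (.leaf 103306) (.leaf 117896))) (.node (.node (.leaf 47038) (.leaf 132749)) (.node (.leaf 82179) (.leaf 127637)))) (.node (.node (.node (.leaf 13734)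 (.leaf 77959)) (.node (.leaf 83461) (.leaf 120678))) (.node (.node (.leaf 49276) (.leaf 109515)) (.node (.leaf 64594) (.leaf 135058)))))) (.node (.node (.node (.node (.node (.node (.leaf 38119) (.leaf 140086)) (.leaf 67868)) (.node (.leaf 101484) (.leaf 123017))) (.node (.node (.leaf 22508) (.leaf 97385)) (.node (.leaf 104324) (.leaf 125979)))) (.node (.node (.node (.leaf 42570) (.leaf 105911)) (.node (.leaf 54146) (.leaf 118653))) (.node (.node (.leaf 48244) (.leaf 113138)) (.node (.leaf 62712) (.leaf 132999))))) (.node (.node (.node (.node (.leaf 5375) (.leaf 70165)) (.node (.leaf 105581) (.leaf 116380))) (.node (.node (.leaf 110118) (.leaf 93072)) (.node (.leaf 127378) (.leaf 129059)))) (.node (.node (.node (.leaf 46020) (.leaf 81211)) (.node (.leaf 55433) (.leaf 122340))) (.node (.node (.leaf 50336) (.leaf 119466)) (.node (.leaf 66019) (.leaf 136614))))))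
def dFin_1859 : BT := .node (.node (.node (.node (.node (.node (.node (.leaf 1175) (.leaf 138436)) (.leaf 106005)) (.node (.leaf 103858) (.leaf 111957))) (.node (.node (.leaf 19222) (.leaf 131593)) (.node (.leaf 104136) (.leaf 124438)))) (.node (.node (.node (.leaf 12032) (.leaf 72792)) (.node (.leaf 99212) (.leaf 117868))) (.node (.node (.leaf 47306) (.leaf 95838)) (.node (.leaf 63346) (.leaf 137732))))) (.node (.node (.node (.node (.node (.leaf 36414) (.leaf 140704)) (.leaf 68948)) (.node (.leaf 95200) (.leaf 114573))) (.node (.node (.leaf 24136) (.leaf 91175)) (.node (.leaf 58954) (.leaf 129879)))) (.node (.node (.node (.leaf 41397) (.leaf 103442)) (.node (.leaf 54896) (.leaf 125614))) (.node (.node (.leaf 49378) (.leaf 110215)) (.node (.leaf 121515) (.leaf 135307)))))) (.node (.node (.node (.node (.node (.node (.leaf 46175) (.leaf 139500)) (.leaf 101308)) (.node (.leaf 104748) (.leaf 113133))) (.node (.node (.leaf 111822) (.leaf 87779)) (.node (.leaf 109195) (.leaf 126449)))) (.node (.node (.node (.leaf 12873) (.leaf 75123)) (.node (.leaf 54411) (.leaf 119244)))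 (.node (.node (.leaf 48656) (.leaf 114710)) (.node (.leaf 63092) (.leaf 136183))))) (.node (.node (.node (.node (.leaf 37946) (.leaf 70698)) (.node (.leaf 53317) (.leaf 116198))) (.node (.node (.leaf 42478) (.leaf 93388)) (.node (.leaf 59996) (.leaf 129357)))) (.node (.node (.node (.leaf 17158) (.leaf 81892)) (.node (.leaf 99021) (.leaf 122276))) (.node (.node (.leaf 50479) (.leaf 121630)) (.node (.leaf 66111) (.leaf 136824))))))
def dFin_1867 : BT := .node (.node (.node (.node (.node (.node (.node (.leaf 37826) (.leaf 140658)) (.leaf 66946)) (.node (.leaf 51149) (.leaf 111904))) (.node (.node (.leaf 19168) (.leaf 84941)) (.node (.leaf 103505) (.leaf 124490)))) (.node (.node (.node (.leaf 12011) (.leaf 73208)) (.node (.leaf 53747) (.leaf 117610))) (.node (.node (.leaf 47196) (.leaf 115091)) (.node (.leaf 61158) (.leaf 131127))))) (.node (.node (.node (.node (.node (.leaf 2338) (.leaf 140724)) (.leaf 68934)) (.node (.leaf 70654) (.leaf 114636))) (.node (.node (.leaf 65089) (.leaf 90928)) (.node (.leaf 123929) (.leaf 127798)))) (.node (.node (.node (.leaf 47599)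 (.leaf 78237)) (.node (.leaf 54944) (.leaf 120860))) (.node (.node (.leaf 65206) (.leaf 115253)) (.node (.leaf 64841) (.leaf 134961)))))) (.node (.node (.node (.node (.node (.node (.leaf 38676) (.leaf 139438)) (.leaf 104856)) (.node (.leaf 51778) (.leaf 113098))) (.node (.node (.leaf 45832) (.leaf 103414)) (.node (.leaf 91899) (.leaf 126056)))) (.node (.node (.node (.leaf 12812) (.leaf 75244)) (.node (.leaf 82775) (.leaf 119115))) (.node (.node (.leaf 48312) (.leaf 108156)) (.node (.leaf 65054) (.leaf 132953))))) (.node (.node (.node (.node (.leaf 50344) (.leaf 70599)) (.node (.leaf 106023) (.leaf 116304))) (.node (.node (.leaf 25396) (.leaf 93132)) (.node (.leaf 60075) (.leaf 129328)))) (.node (.node (.node (.leaf 37350) (.leaf 96340)) (.node (.leaf 55337) (.leaf 130989))) (.node (.node (.leaf 50396) (.leaf 110462)) (.node (.leaf 98243) (.leaf 136688))))))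
def dFin_1874 : BT := .node (.node (.node (.node (.node (.node (.node (.leaf 131) (.leaf 138499)) (.leaf 96134)) (.node (.leaf 106759) (.leaf 112012))) (.node (.node (.leaf 132017) (.leaf 85541)) (.node (.leaf 116686) (.leaf 124533)))) (.node (.node (.node (.leaf 37022) (.leaf 72663)) (.node (.leaf 53971) (.leaf 130949))) (.node (.node (.leaf 47364) (.leaf 107088)) (.node (.leaf 61041) (.leaf 136566))))) (.node (.node (.node (.node (.node (.leaf 45782) (.leaf 140808)) (.leaf 88620)) (.node (.leaf 52802) (.leaf 114778))) (.node (.node (.leaf 42499) (.leaf 91217)) (.node (.leaf 58845) (.leaf 127685)))) (.node (.node (.node (.leaf 13848) (.leaf 113308)) (.node (.leaf 55030) (.leaf 121147))) (.node (.node (.leaf 49431) (.leaf 109750)) (.node (.leaf 64748) (.leaf 135409)))))) (.node (.node (.node (.node (.node (.node (.leaf 49029) (.leaf 139536)) (.leaf 68107)) (.node (.leaf 51788) (.leaf 113313))) (.node (.node (.leaf 23149) (.leaf 87672)) (.node (.leaf 57640) (.leaf 126876)))) (.node (.node (.node (.leaf 41592) (.leaf 80015)) (.node (.leaf 54351) (.leaf 122750)))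 (.node (.node (.leaf 48450) (.leaf 108257)) (.node (.leaf 104285) (.leaf 133426))))) (.node (.node (.node (.node (.leaf 7177) (.leaf 70408)) (.node (.leaf 103853) (.leaf 116525))) (.node (.node (.leaf 25852) (.leaf 93303)) (.node (.leaf 60290) (.leaf 137647)))) (.node (.node (.node (.leaf 46667) (.leaf 138121)) (.node (.leaf 98046) (.leaf 121884))) (.node (.node (.leaf 50547) (.leaf 128929)) (.node (.leaf 107042) (.leaf 136954))))))
def dFin_1883 : BT := .node (.node (.node (.node (.node (.node (.node (.leaf 37913) (.leaf 138365)) (.leaf 79243)) (.node (.leaf 51236) (.leaf 111863))) (.node (.node (.leaf 38876) (.leaf 102765)) (.node (.leaf 100049) (.leaf 124361)))) (.node (.node (.node (.leaf 37570) (.leaf 72513)) (.node (.leaf 53770) (.leaf 120800))) (.node (.node (.leaf 47152) (.leaf 108440)) (.node (.leaf 61209) (.leaf 131091))))) (.node (.node (.node (.node (.node (.leaf 45929) (.leaf 140618)) (.leaf 100029)) (.node (.leaf 114968) (.leaf 114492))) (.node (.node (.leaf 48388) (.leaf 90420)) (.node (.leaf 106526) (.leaf 127853)))) (.node (.node (.node (.leaf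 13748) (.leaf 77926)) (.node (.leaf 99608) (.leaf 120759))) (.node (.node (.leaf 49588) (.leaf 109416)) (.node (.leaf 64540) (.leaf 135046)))))) (.node (.node (.node (.node (.node (.node (.leaf 508) (.leaf 139384)) (.leaf 100435)) (.node (.leaf 113904) (.leaf 113039))) (.node (.node (.leaf 47118) (.leaf 106361)) (.node (.leaf 91977) (.leaf 126051)))) (.node (.node (.node (.leaf 42344) (.leaf 75430)) (.node (.leaf 54444) (.leaf 118536))) (.node (.node (.leaf 48282) (.leaf 108130)) (.node (.leaf 62905) (.leaf 132982))))) (.node (.node (.node (.node (.leaf 40150) (.leaf 70652)) (.node (.leaf 107123) (.leaf 116349))) (.node (.node (.leaf 25952) (.leaf 93106)) (.node (.leaf 98683) (.leaf 128981)))) (.node (.node (.node (.leaf 46713) (.leaf 81545)) (.node (.leaf 55384) (.leaf 121850))) (.node (.node (.leaf 50358) (.leaf 110970)) (.node (.leaf 65981) (.leaf 136575))))))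
def dFin_1890 : BT := .node (.node (.node (.node (.node (.node (.node (.leaf 117) (.leaf 138460)) (.leaf 106006)) (.node (.leaf 104164) (.leaf 111962))) (.node (.node (.leaf 45333) (.leaf 108737)) (.node (.leaf 121484) (.leaf 124239)))) (.node (.node (.node (.leaf 12085) (.leaf 72733)) (.node (.leaf 98183) (.leaf 134830))) (.node (.node (.leaf 47283) (.leaf 95850)) (.node (.leaf 61095) (.leaf 131677))))) (.node (.node (.node (.node (.node (.leaf 49068) (.leaf 140780)) (.leaf 69266)) (.node (.leaf 52827) (.leaf 115140))) (.node (.node (.leaf 100006) (.leaf 91248)) (.node (.leaf 58898) (.leaf 127738)))) (.node (.node (.node (.leaf 40728) (.leaf 78777)) (.node (.leaf 74503) (.leaf 121342))) (.node (.node (.leaf 49410) (.leaf 109714)) (.node (.leaf 103151) (.leaf 135254)))))) (.node (.node (.node (.node (.node (.node (.leaf 46188) (.leaf 139566)) (.leaf 68152)) (.node (.leaf 112018) (.leaf 113211))) (.node (.node (.leaf 46592) (.leaf 87746)) (.node (.leaf 103741) (.leaf 126901)))) (.node (.node (.node (.leaf 12910) (.leaf 101624)) (.node (.leaf 54380) (.leaf 124176)))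 (.node (.node (.leaf 48406) (.leaf 108308)) (.node (.leaf 63043) (.leaf 133342))))) (.node (.node (.node (.node (.leaf 34499) (.leaf 71772)) (.node (.leaf 53268) (.leaf 116162))) (.node (.node (.leaf 25515) (.leaf 93224)) (.node (.leaf 60108) (.leaf 129942)))) (.node (.node (.node (.leaf 47092) (.leaf 137332)) (.node (.leaf 55625) (.leaf 125855))) (.node (.node (.leaf 50519) (.leaf 128008)) (.node (.leaf 72455) (.leaf 136781))))))
def dFin_1898 : BT := .node (.node (.node (.node (.node (.node (.node (.leaf 443) (.leaf 138408)) (.leaf 113997)) (.node (.leaf 105608) (.leaf 111913))) (.node (.node (.leaf 19236) (.leaf 105514)) (.node (.leaf 103563) (.leaf 124508)))) (.node (.node (.node (.leaf 42377) (.leaf 73201)) (.node (.leaf 53596) (.leaf 117583))) (.node (.node (.leaf 47226) (.leaf 95874)) (.node (.leaf 61346) (.leaf 131322))))) (.node (.node (.node (.node (.node (.leaf 37590) (.leaf 140727)) (.leaf 69043)) (.node (.leaf 114924) (.leaf 114690))) (.node (.node (.leaf 24112) (.leaf 91190)) (.node (.leaf 99056) (.leaf 131573)))) (.node (.node (.node (.leaf 61870)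 (.leaf 106323)) (.node (.leaf 54921) (.leaf 124178))) (.node (.node (.leaf 49356) (.leaf 109590)) (.node (.leaf 64808) (.leaf 135101)))))) (.node (.node (.node (.node (.node (.node (.leaf 286) (.leaf 139464)) (.leaf 135095)) (.node (.leaf 105946) (.leaf 113170))) (.node (.node (.leaf 46586) (.leaf 101253)) (.node (.leaf 105531) (.leaf 126116)))) (.node (.node (.node (.leaf 12859) (.leaf 75169)) (.node (.leaf 97864) (.leaf 128195))) (.node (.node (.leaf 48347) (.leaf 108203)) (.node (.leaf 62598) (.leaf 133368))))) (.node (.node (.node (.node (.leaf 36834) (.leaf 70527)) (.node (.leaf 53364) (.leaf 116353))) (.node (.node (.leaf 131632) (.leaf 93216)) (.node (.leaf 60035) (.leaf 129195)))) (.node (.node (.node (.leaf 41044) (.leaf 95229)) (.node (.leaf 96693) (.leaf 122291))) (.node (.node (.leaf 50432) (.leaf 132445)) (.node (.leaf 79992) (.leaf 136661))))))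
def dFin_1905 : BT := .node (.node (.node (.node (.node (.node (.node (.leaf 4900) (.leaf 138540)) (.leaf 67420)) (.node (.leaf 109864) (.leaf 112034))) (.node (.node (.leaf 45362) (.leaf 85522)) (.node (.leaf 102906) (.leaf 124619)))) (.node (.node (.node (.leaf 12160) (.leaf 100640)) (.node (.leaf 53922) (.leaf 117805))) (.node (.node (.leaf 47350) (.leaf 109878)) (.node (.leaf 60992) (.leaf 131526))))) (.node (.node (.node (.node (.node (.leaf 34658) (.leaf 140854)) (.leaf 103244)) (.node (.leaf 52779) (.leaf 114873))) (.node (.node (.leaf 24168) (.leaf 91137)) (.node (.leaf 60297) (.leaf 127560)))) (.node (.node (.node (.leaf 37575) (.leaf 106171)) (.node (.leaf 99408) (.leaf 121047))) (.node (.node (.leaf 49488) (.leaf 109749)) (.node (.leaf 89468) (.leaf 135338)))))) (.node (.node (.node (.node (.node (.node (.leaf 49889) (.leaf 139600)) (.leaf 68060)) (.node (.leaf 51986) (.leaf 113263))) (.node (.node (.leaf 113342) (.leaf 107705)) (.node (.leaf 57591) (.leaf 126384)))) (.node (.node (.node (.leaf 40866) (.leaf 75872)) (.node (.leaf 105340) (.leaf 122772)))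 (.node (.node (.leaf 48474) (.leaf 108927)) (.node (.leaf 104084) (.leaf 133286))))) (.node (.node (.node (.node (.leaf 8082) (.leaf 70346)) (.node (.leaf 61288) (.leaf 116581))) (.node (.node (.leaf 26057) (.leaf 93298)) (.node (.leaf 59905) (.leaf 130057)))) (.node (.node (.node (.leaf 46670) (.leaf 98973)) (.node (.leaf 106373) (.leaf 122641))) (.node (.node (.leaf 50639) (.leaf 110820)) (.node (.leaf 131525) (.leaf 136884))))))
def dFin_1916 : BT := .node (.node (.node (.node (.node (.node (.node (.leaf 34620) (.leaf 138294)) (.leaf 73354)) (.node (.leaf 51413) (.leaf 111806))) (.node (.node (.leaf 18885) (.leaf 85072)) (.node (.leaf 57827) (.leaf 124334)))) (.node (.node (.node (.leaf 44578) (.leaf 106371)) (.node (.leaf 104680) (.leaf 122866))) (.node (.node (.leaf 48325) (.leaf 127434)) (.node (.leaf 94082) (.leaf 131025))))) (.node (.node (.node (.node (.node (.leaf 9280) (.leaf 140595)) (.leaf 101126)) (.node (.leaf 52339) (.leaf 114451))) (.node (.node (.leaf 41218) (.leaf 104175)) (.node (.leaf 58660) (.leaf 128081)))) (.node (.node (.node (.leaf 47075)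 (.leaf 77980)) (.node (.leaf 94352) (.leaf 137348))) (.node (.node (.leaf 49269) (.leaf 109503)) (.node (.leaf 64596) (.leaf 134845)))))) (.node (.node (.node (.node (.node (.node (.leaf 1457) (.leaf 139370)) (.leaf 67988)) (.node (.leaf 58454) (.leaf 125457))) (.node (.node (.leaf 46650) (.leaf 87176)) (.node (.leaf 57486) (.leaf 125977)))) (.node (.node (.node (.leaf 45421) (.leaf 105788)) (.node (.leaf 112877) (.leaf 118767))) (.node (.node (.leaf 48241) (.leaf 108098)) (.node (.leaf 101302) (.leaf 133068))))) (.node (.node (.node (.node (.leaf 38248) (.leaf 97237)) (.node (.leaf 53051) (.leaf 116372))) (.node (.node (.leaf 25378) (.leaf 125319)) (.node (.leaf 98214) (.leaf 129064)))) (.node (.node (.node (.leaf 126918) (.leaf 81400)) (.node (.leaf 55525) (.leaf 122045))) (.node (.node (.leaf 50316) (.leaf 111368)) (.node (.leaf 66063) (.leaf 136560))))))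
def dFin_1923 : BT := .node (.node (.node (.node (.node (.node (.node (.leaf 8765) (.leaf 138423)) (.leaf 66949)) (.node (.leaf 51289) (.leaf 118385))) (.node (.node (.leaf 41661) (.leaf 102615)) (.node (.leaf 56180) (.leaf 128074)))) (.node (.node (.node (.leaf 38048) (.leaf 72954)) (.node (.leaf 53777) (.leaf 124816))) (.node (.node (.leaf 47460) (.leaf 95883)) (.node (.leaf 61242) (.leaf 131623))))) (.node (.node (.node (.node (.node (.leaf 36045) (.leaf 140700)) (.leaf 131628)) (.node (.leaf 52252) (.leaf 114552))) (.node (.node (.leaf 51569) (.leaf 108742)) (.node (.leaf 99192) (.leaf 127626)))) (.node (.node (.node (.leaf 13801) (.leaf 78186)) (.node (.leaf 100152) (.leaf 120637))) (.node (.node (.leaf 49374) (.leaf 109606)) (.node (.leaf 65070) (.leaf 135302)))))) (.node (.node (.node (.node (.node (.node (.leaf 37522) (.leaf 139502)) (.leaf 67884)) (.node (.leaf 104740) (.leaf 113125))) (.node (.node (.leaf 23002) (.leaf 109770)) (.node (.leaf 100602) (.leaf 126923)))) (.node (.node (.node (.leaf 42316) (.leaf 103239)) (.node (.leaf 54467) (.leaf 119155)))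 (.node (.node (.leaf 48368) (.leaf 108193)) (.node (.leaf 63242) (.leaf 133213))))) (.node (.node (.node (.node (.leaf 6548) (.leaf 98435)) (.node (.leaf 104880) (.leaf 116195))) (.node (.node (.leaf 97810) (.leaf 93243)) (.node (.leaf 132072) (.leaf 129347)))) (.node (.node (.node (.leaf 44704) (.leaf 81681)) (.node (.leaf 55326) (.leaf 122272))) (.node (.node (.leaf 50534) (.leaf 120607)) (.node (.leaf 65972) (.leaf 136729))))))
def dFin_1931 : BT := .node (.node (.node (.node (.node (.node (.node (.leaf 1134) (.leaf 138426)) (.leaf 67008)) (.node (.leaf 100165) (.leaf 111955))) (.node (.node (.leaf 45295) (.leaf 84956)) (.node (.leaf 56300) (.leaf 135106)))) (.node (.node (.node (.leaf 47252) (.leaf 103001)) (.node (.leaf 105407) (.leaf 117662))) (.node (.node (.leaf 111899) (.leaf 95907)) (.node (.leaf 138535) (.leaf 131113))))) (.node (.node (.node (.node (.node (.leaf 36875) (.leaf 141007)) (.leaf 97620)) (.node (.leaf 97229) (.leaf 120401))) (.node (.node (.leaf 24100) (.leaf 90935)) (.node (.leaf 98663) (.leaf 127898)))) (.node (.node (.node (.leaf 106799)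 (.leaf 78674)) (.node (.leaf 54988) (.leaf 120653))) (.node (.node (.leaf 49324) (.leaf 109467)) (.node (.leaf 64916) (.leaf 135019)))))) (.node (.node (.node (.node (.node (.node (.leaf 45276) (.leaf 139429)) (.leaf 105156)) (.node (.leaf 51842) (.leaf 113058))) (.node (.node (.leaf 41969) (.leaf 116654)) (.node (.leaf 57366) (.leaf 128905)))) (.node (.node (.node (.leaf 37266) (.leaf 75337)) (.node (.leaf 96395) (.leaf 125369))) (.node (.node (.leaf 48303) (.leaf 108152)) (.node (.leaf 62699) (.leaf 134424))))) (.node (.node (.node (.node (.leaf 35962) (.leaf 70748)) (.node (.leaf 53064) (.leaf 116313))) (.node (.node (.leaf 46371) (.leaf 93127)) (.node (.leaf 137996) (.leaf 129304)))) (.node (.node (.node (.leaf 17126) (.leaf 81566)) (.node (.leaf 101870) (.leaf 121914))) (.node (.node (.leaf 50386) (.leaf 110611)) (.node (.leaf 95622) (.leaf 136637))))))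
def dFin_1938 : BT := .node (.node (.node (.node (.node (.node (.node (.leaf 38169) (.leaf 140715)) (.leaf 99103)) (.node (.leaf 106750) (.leaf 139334))) (.node (.node (.leaf 19214) (.leaf 85570)) (.node (.leaf 100886) (.leaf 129751)))) (.node (.node (.node (.leaf 32893) (.leaf 73267)) (.node (.leaf 54063) (.leaf 117884))) (.node (.node (.leaf 47368) (.leaf 109085)) (.node (.leaf 61141) (.leaf 131361))))) (.node (.node (.node (.node (.node (.leaf 2507) (.leaf 140837)) (.leaf 124558)) (.node (.leaf 99274) (.leaf 114766))) (.node (.node (.leaf 46737) (.leaf 91199)) (.node (.leaf 105439) (.leaf 127789)))) (.node (.node (.node (.leaf 36954) (.leaf 78836)) (.node (.leaf 55163) (.leaf 121133))) (.node (.node (.leaf 49469) (.leaf 109742)) (.node (.leaf 64826) (.leaf 135332)))))) (.node (.node (.node (.node (.node (.node (.leaf 46281) (.leaf 139532)) (.leaf 104994)) (.node (.leaf 51787) (.leaf 113284))) (.node (.node (.leaf 48065) (.leaf 120571)) (.node (.leaf 100926) (.leaf 126561)))) (.node (.node (.node (.leaf 12902) (.leaf 75683)) (.node (.leaf 82750) (.leaf 119462)))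 (.node (.node (.leaf 48438) (.leaf 108340)) (.node (.leaf 63444) (.leaf 133322))))) (.node (.node (.node (.node (.leaf 36554) (.leaf 70559)) (.node (.leaf 103810) (.leaf 116514))) (.node (.node (.leaf 25841) (.leaf 93316)) (.node (.leaf 60063) (.leaf 131707)))) (.node (.node (.node (.leaf 41742) (.leaf 98263)) (.node (.leaf 55672) (.leaf 126791))) (.node (.node (.leaf 50540) (.leaf 120399)) (.node (.leaf 103081) (.leaf 136948))))))
def dFin_1947 : BT := .node (.node (.node (.node (.node (.node (.node (.leaf 1197) (.leaf 138351)) (.leaf 67029)) (.node (.leaf 56587) (.leaf 111846))) (.node (.node (.leaf 19156) (.leaf 85001)) (.node (.leaf 56545) (.leaf 124405)))) (.node (.node (.node (.leaf 11988) (.leaf 73824)) (.node (.leaf 104570) (.leaf 117691))) (.node (.node (.leaf 47182) (.leaf 107063)) (.node (.leaf 104891) (.leaf 131079))))) (.node (.node (.node (.node (.node (.leaf 37240) (.leaf 140604)) (.leaf 97558)) (.node (.leaf 52278) (.leaf 114489))) (.node (.node (.leaf 40562) (.leaf 102317)) (.node (.leaf 98731) (.leaf 128085)))) (.node (.node (.node (.leaf 13742)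 (.leaf 77912)) (.node (.leaf 55013) (.leaf 120847))) (.node (.node (.leaf 96746) (.leaf 109571)) (.node (.leaf 64528) (.leaf 135077)))))) (.node (.node (.node (.node (.node (.node (.leaf 39147) (.leaf 139360)) (.leaf 67937)) (.node (.leaf 51873) (.leaf 113894))) (.node (.node (.leaf 46584) (.leaf 101650)) (.node (.leaf 57427) (.leaf 126714)))) (.node (.node (.node (.leaf 70190) (.leaf 75378)) (.node (.leaf 105447) (.leaf 118528))) (.node (.node (.leaf 48267) (.leaf 108126)) (.node (.leaf 96716) (.leaf 133075))))) (.node (.node (.node (.node (.leaf 5414) (.leaf 70772)) (.node (.leaf 104942) (.leaf 116339))) (.node (.node (.leaf 50365) (.leaf 93094)) (.node (.leaf 98424) (.leaf 128962)))) (.node (.node (.node (.leaf 42764) (.leaf 83793)) (.node (.leaf 55476) (.leaf 121983))) (.node (.node (.leaf 50354) (.leaf 110677)) (.node (.leaf 72082) (.leaf 136601))))))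
def dFin_1954 : BT := .node (.node (.node (.node (.node (.node (.node (.leaf 37291) (.leaf 138447)) (.leaf 105933)) (.node (.leaf 51228) (.leaf 117510))) (.node (.node (.leaf 40981) (.leaf 85401)) (.node (.leaf 103609) (.leaf 124233)))) (.node (.node (.node (.leaf 12061) (.leaf 72901)) (.node (.leaf 54110) (.leaf 117958))) (.node (.node (.leaf 97607) (.leaf 109018)) (.node (.leaf 61193) (.leaf 131410))))) (.node (.node (.node (.node (.node (.leaf 5501) (.leaf 140768)) (.leaf 88662)) (.node (.leaf 99249) (.leaf 114722))) (.node (.node (.leaf 24145) (.leaf 91059)) (.node (.leaf 108717) (.leaf 127842)))) (.node (.node (.node (.leaf 13792) (.leaf 78857)) (.node (.leaf 80898) (.leaf 120963))) (.node (.node (.leaf 49523) (.leaf 109632)) (.node (.leaf 64859) (.leaf 135244)))))) (.node (.node (.node (.node (.node (.node (.leaf 488) (.leaf 139553)) (.leaf 102883)) (.node (.leaf 104494) (.leaf 113230))) (.node (.node (.leaf 46982) (.leaf 117505)) (.node (.leaf 57278) (.leaf 126896)))) (.node (.node (.node (.leaf 42148) (.leaf 75115)) (.node (.leaf 54436) (.leaf 119130)))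 (.node (.node (.leaf 48398) (.leaf 108373)) (.node (.leaf 63396) (.leaf 133180))))) (.node (.node (.node (.node (.leaf 6860) (.leaf 70619)) (.node (.leaf 105295) (.leaf 116154))) (.node (.node (.leaf 49318) (.leaf 93212)) (.node (.leaf 106892) (.leaf 130076)))) (.node (.node (.node (.leaf 46698) (.leaf 124636)) (.node (.leaf 55693) (.leaf 122254))) (.node (.node (.leaf 50504) (.leaf 125461)) (.node (.leaf 66162) (.leaf 137167))))))
def dFin_1962 : BT := .node (.node (.node (.node (.node (.node (.node (.leaf 93) (.leaf 138548)) (.leaf 66989)) (.node (.leaf 51348) (.leaf 113652))) (.node (.node (.leaf 44998) (.leaf 104988)) (.node (.leaf 56241) (.leaf 124469)))) (.node (.node (.node (.leaf 91733) (.leaf 73013)) (.node (.leaf 125376) (.leaf 117635))) (.node (.node (.leaf 47218) (.leaf 95894)) (.node (.leaf 103648) (.leaf 131696))))) (.node (.node (.node (.node (.node (.leaf 2408) (.leaf 140717)) (.leaf 95597)) (.node (.leaf 52625) (.leaf 114678))) (.node (.node (.leaf 48185) (.leaf 117982)) (.node (.leaf 58586) (.leaf 127931)))) (.node (.node (.node (.leaf 42664)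 (.leaf 78330)) (.node (.leaf 54965) (.leaf 120644))) (.node (.node (.leaf 49352) (.leaf 109451)) (.node (.leaf 65078) (.leaf 135014)))))) (.node (.node (.node (.node (.node (.node (.leaf 37525) (.leaf 139459)) (.leaf 68213)) (.node (.leaf 51813) (.leaf 113184))) (.node (.node (.leaf 40845) (.leaf 114520)) (.node (.leaf 105527) (.leaf 126135)))) (.node (.node (.node (.leaf 12837) (.leaf 75262)) (.node (.leaf 54496) (.leaf 123424))) (.node (.node (.leaf 96738) (.leaf 108220)) (.node (.leaf 62588) (.leaf 132966))))) (.node (.node (.node (.node (.leaf 36906) (.leaf 101064)) (.node (.leaf 94180) (.leaf 116254))) (.node (.node (.leaf 25417) (.leaf 122706)) (.node (.leaf 99276) (.leaf 129187)))) (.node (.node (.node (.leaf 17146) (.leaf 81722)) (.node (.leaf 101845) (.leaf 121853))) (.node (.node (.leaf 50425) (.leaf 110550)) (.node (.leaf 66021) (.leaf 136672))))))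
def dFin_1969 : BT := .node (.node (.node (.node (.node (.node (.node (.leaf 587) (.leaf 138522)) (.leaf 96482)) (.node (.leaf 76461) (.leaf 112039))) (.node (.node (.leaf 19234) (.leaf 128780)) (.node (.leaf 102819) (.leaf 124610)))) (.node (.node (.node (.leaf 42153) (.leaf 103798)) (.node (.leaf 54014) (.leaf 117871))) (.node (.node (.leaf 47338) (.leaf 95868)) (.node (.leaf 60985) (.leaf 131310))))) (.node (.node (.node (.node (.node (.leaf 8349) (.leaf 140842)) (.leaf 69319)) (.node (.leaf 106130) (.leaf 114864))) (.node (.node (.leaf 24165) (.leaf 91182)) (.node (.leaf 107102) (.leaf 128005)))) (.node (.node (.node (.leaf 37869) (.leaf 99536)) (.node (.leaf 55130) (.leaf 121109))) (.node (.node (.leaf 49440) (.leaf 109675)) (.node (.leaf 64795) (.leaf 135353)))))) (.node (.node (.node (.node (.node (.node (.leaf 46049) (.leaf 139596)) (.leaf 106950)) (.node (.leaf 51982) (.leaf 113255))) (.node (.node (.leaf 23782) (.leaf 87904)) (.node (.leaf 139382) (.leaf 126500)))) (.node (.node (.node (.leaf 12953) (.leaf 75626)) (.node (.leaf 103161) (.leaf 119362)))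 (.node (.node (.leaf 48467) (.leaf 108303)) (.node (.leaf 63127) (.leaf 133284))))) (.node (.node (.node (.node (.leaf 8071) (.leaf 70503)) (.node (.leaf 53356) (.leaf 116455))) (.node (.node (.leaf 36971) (.leaf 93289)) (.node (.leaf 59986) (.leaf 129958)))) (.node (.node (.node (.leaf 41052) (.leaf 95730)) (.node (.leaf 101193) (.leaf 134801))) (.node (.node (.leaf 50576) (.leaf 133863)) (.node (.leaf 98584) (.leaf 136879))))))
def dFin_1979 : BT := .node (.node (.node (.node (.node (.node (.node (.leaf 1193) (.leaf 138318)) (.leaf 106175)) (.node (.leaf 51146) (.leaf 120754))) (.node (.node (.leaf 135953) (.leaf 101390)) (.node (.leaf 100160) (.leaf 124316)))) (.node (.node (.node (.leaf 11980) (.leaf 72307)) (.node (.leaf 104823) (.leaf 117574))) (.node (.node (.leaf 47130) (.leaf 94840)) (.node (.leaf 63374) (.leaf 131092))))) (.node (.node (.node (.node (.node (.leaf 63155) (.leaf 140556)) (.leaf 69032)) (.node (.leaf 109024) (.leaf 120296))) (.node (.node (.leaf 48666) (.leaf 90625)) (.node (.leaf 58966) (.leaf 130021)))) (.node (.node (.node (.leaf 41452)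 (.leaf 96521)) (.node (.leaf 54904) (.leaf 136344))) (.node (.node (.leaf 49280) (.leaf 109495)) (.node (.leaf 101640) (.leaf 135093)))))) (.node (.node (.node (.node (.node (.node (.leaf 39153) (.leaf 139414)) (.leaf 113169)) (.node (.leaf 106833) (.leaf 112923))) (.node (.node (.leaf 50633) (.leaf 87576)) (.node (.leaf 92057) (.leaf 125985)))) (.node (.node (.node (.leaf 12796) (.leaf 74867)) (.node (.leaf 54150) (.leaf 137522))) (.node (.node (.leaf 48255) (.leaf 108120)) (.node (.leaf 62644) (.leaf 134525))))) (.node (.node (.node (.node (.leaf 45791) (.leaf 70179)) (.node (.leaf 53333) (.leaf 116296))) (.node (.node (.leaf 42461) (.leaf 93348)) (.node (.leaf 60011) (.leaf 129018)))) (.node (.node (.node (.leaf 17098) (.leaf 81455)) (.node (.leaf 80030) (.leaf 122348))) (.node (.node (.leaf 65278) (.leaf 110943)) (.node (.leaf 97846) (.leaf 136604))))))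
def dFin_1986 : BT := .node (.node (.node (.node (.node (.node (.node (.leaf 970) (.leaf 138440)) (.leaf 67057)) (.node (.leaf 103864) (.leaf 112001))) (.node (.node (.leaf 45349) (.leaf 85513)) (.node (.leaf 56483) (.leaf 132796)))) (.node (.node (.node (.leaf 41482) (.leaf 73239)) (.node (.leaf 53883) (.leaf 124388))) (.node (.node (.leaf 47297) (.leaf 109116)) (.node (.leaf 100877) (.leaf 131627))))) (.node (.node (.node (.node (.node (.leaf 2468) (.leaf 140786)) (.leaf 68952)) (.node (.leaf 58620) (.leaf 114614))) (.node (.node (.leaf 24140) (.leaf 91124)) (.node (.leaf 59005) (.leaf 127948)))) (.node (.node (.node (.leaf 116738) (.leaf 140018)) (.node (.leaf 86742) (.leaf 120937))) (.node (.node (.leaf 49490) (.leaf 112995)) (.node (.leaf 115565) (.leaf 135315)))))) (.node (.node (.node (.node (.node (.node (.leaf 37028) (.leaf 139496)) (.leaf 102876)) (.node (.leaf 51921) (.leaf 113157))) (.node (.node (.leaf 42065) (.leaf 87821)) (.node (.leaf 57552) (.leaf 126333)))) (.node (.node (.node (.leaf 12854) (.leaf 75111)) (.node (.leaf 66271) (.leaf 119256)))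 (.node (.node (.leaf 48395) (.leaf 109963)) (.node (.leaf 105384) (.leaf 133416))))) (.node (.node (.node (.node (.leaf 10553) (.leaf 70307)) (.node (.leaf 53225) (.leaf 116151))) (.node (.node (.leaf 46443) (.leaf 93207)) (.node (.leaf 59867) (.leaf 129371)))) (.node (.node (.node (.leaf 48665) (.leaf 81856)) (.node (.leaf 130032) (.leaf 122083))) (.node (.node (.leaf 50656) (.leaf 110777)) (.node (.leaf 97970) (.leaf 137223))))))
def dFin_1994 : BT := .node (.node (.node (.node (.node (.node (.node (.leaf 898) (.leaf 138496)) (.leaf 66945)) (.node (.leaf 105538) (.leaf 111946))) (.node (.node (.leaf 130491) (.leaf 84934)) (.node (.leaf 105519) (.leaf 124449)))) (.node (.node (.node (.leaf 12097) (.leaf 72687)) (.node (.leaf 53661) (.leaf 122924))) (.node (.node (.leaf 47209) (.leaf 107092)) (.node (.leaf 61058) (.leaf 131141))))) (.node (.node (.node (.node (.node (.leaf 36232) (.leaf 140666)) (.leaf 97743)) (.node (.leaf 52506) (.leaf 114652))) (.node (.node (.leaf 42531) (.leaf 90945)) (.node (.leaf 58857) (.leaf 127694)))) (.node (.node (.node (.leaf 13771)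 (.leaf 102566)) (.node (.leaf 94010) (.leaf 120868))) (.node (.node (.leaf 49396) (.leaf 109581)) (.node (.leaf 97840) (.leaf 134962)))))) (.node (.node (.node (.node (.node (.node (.leaf 48045) (.leaf 139442)) (.leaf 68115)) (.node (.leaf 105860) (.leaf 113085))) (.node (.node (.leaf 37749) (.leaf 87760)) (.node (.leaf 57660) (.leaf 126905)))) (.node (.node (.node (.leaf 41366) (.leaf 87284)) (.node (.leaf 54359) (.leaf 119294))) (.node (.node (.leaf 48320) (.leaf 124918)) (.node (.leaf 96354) (.leaf 140022))))) (.node (.node (.node (.node (.leaf 6415) (.leaf 70448)) (.node (.leaf 63440) (.leaf 116268))) (.node (.node (.leaf 25406) (.leaf 93140)) (.node (.leaf 60264) (.leaf 129272)))) (.node (.node (.node (.leaf 50380) (.leaf 106466)) (.node (.leaf 103207) (.leaf 122203))) (.node (.node (.leaf 50404) (.leaf 120588)) (.node (.leaf 106471) (.leaf 136703))))))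
def dFin_2001 : BT := .node (.node (.node (.node (.node (.node (.node (.leaf 34438) (.leaf 138508)) (.leaf 97171)) (.node (.leaf 51456) (.leaf 112020))) (.node (.node (.leaf 42248) (.leaf 91244)) (.node (.leaf 56379) (.leaf 124546)))) (.node (.node (.node (.leaf 12080) (.leaf 116335)) (.node (.leaf 96402) (.leaf 117923))) (.node (.node (.leaf 47331) (.leaf 140599)) (.node (.leaf 60973) (.leaf 131547))))) (.node (.node (.node (.node (.node (.leaf 45784) (.leaf 140851)) (.leaf 69173)) (.node (.leaf 52758) (.leaf 114790))) (.node (.node (.leaf 46740) (.leaf 91063)) (.node (.leaf 58698) (.leaf 127472)))) (.node (.node (.node (.leaf 51092) (.leaf 78798)) (.node (.leaf 96649) (.leaf 121136))) (.node (.node (.leaf 49433) (.leaf 109757)) (.node (.leaf 64747) (.leaf 135405)))))) (.node (.node (.node (.node (.node (.node (.leaf 1335) (.leaf 140016)) (.leaf 68009)) (.node (.leaf 56930) (.leaf 113290))) (.node (.node (.leaf 23154) (.leaf 87684)) (.node (.leaf 57865) (.leaf 128933)))) (.node (.node (.node (.leaf 49242) (.leaf 106971)) (.node (.leaf 103112) (.leaf 119411)))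 (.node (.node (.leaf 48481) (.leaf 108389)) (.node (.leaf 103350) (.leaf 133331))))) (.node (.node (.node (.node (.leaf 36564) (.leaf 101812)) (.node (.leaf 53129) (.leaf 116443))) (.node (.node (.leaf 35510) (.leaf 93259)) (.node (.leaf 59766) (.leaf 130022)))) (.node (.node (.node (.leaf 17185) (.leaf 82345)) (.node (.leaf 55753) (.leaf 126739))) (.node (.node (.leaf 99967) (.leaf 122837)) (.node (.leaf 66241) (.leaf 136966))))))
def dFin_2010 : BT := .node (.node (.node (.node (.node (.node (.node (.leaf 1136) (.leaf 138354)) (.leaf 111003)) (.node (.leaf 73312) (.leaf 111866))) (.node (.node (.leaf 19296) (.leaf 102546)) (.node (.leaf 104897) (.leaf 124377)))) (.node (.node (.node (.leaf 11994) (.leaf 72523)) (.node (.leaf 104697) (.leaf 117536))) (.node (.node (.leaf 49948) (.leaf 94763)) (.node (.leaf 61111) (.leaf 135548))))) (.node (.node (.node (.node (.node (.leaf 50010) (.leaf 140630)) (.leaf 69015)) (.node (.leaf 52567) (.leaf 114509))) (.node (.node (.leaf 98255) (.leaf 90435)) (.node (.leaf 58913) (.leaf 127749)))) (.node (.node (.node (.leaf 41185)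 (.leaf 104121)) (.node (.leaf 99760) (.leaf 120768))) (.node (.node (.leaf 49310) (.leaf 109496)) (.node (.leaf 65084) (.leaf 135022)))))) (.node (.node (.node (.node (.node (.node (.leaf 45266) (.leaf 139421)) (.leaf 68168)) (.node (.leaf 119555) (.leaf 113044))) (.node (.node (.leaf 22525) (.leaf 87470)) (.node (.leaf 91602) (.leaf 126099)))) (.node (.node (.node (.leaf 12834) (.leaf 106443)) (.node (.leaf 54388) (.leaf 128219))) (.node (.node (.leaf 48292) (.leaf 108165)) (.node (.leaf 62610) (.leaf 133049))))) (.node (.node (.node (.node (.leaf 42019) (.leaf 71873)) (.node (.leaf 53284) (.leaf 116281))) (.node (.node (.leaf 25415) (.leaf 93110)) (.node (.leaf 60131) (.leaf 128994)))) (.node (.node (.node (.leaf 45734) (.leaf 93256)) (.node (.leaf 103336) (.leaf 122329))) (.node (.node (.leaf 109592) (.leaf 110975)) (.node (.leaf 77774) (.leaf 136586))))))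
def dFin_2017 : BT := .node (.node (.node (.node (.node (.node (.node (.leaf 125) (.leaf 138468)) (.leaf 67036)) (.node (.leaf 51517) (.leaf 119026))) (.node (.node (.leaf 47687) (.leaf 90346)) (.node (.leaf 56430) (.leaf 124253)))) (.node (.node (.node (.leaf 40772) (.leaf 99962)) (.node (.leaf 53781) (.leaf 117932))) (.node (.node (.leaf 47292) (.leaf 109869)) (.node (.leaf 102380) (.leaf 131595))))) (.node (.node (.node (.node (.node (.leaf 2412) (.leaf 140829)) (.leaf 69210)) (.node (.leaf 60561) (.leaf 114745))) (.node (.node (.leaf 46373) (.leaf 91105)) (.node (.leaf 58759) (.leaf 129839)))) (.node (.node (.node (.leaf 36942) (.leaf 105901)) (.node (.leaf 107147) (.leaf 120972))) (.node (.node (.leaf 49418) (.leaf 109721)) (.node (.leaf 138922) (.leaf 135265)))))) (.node (.node (.node (.node (.node (.node (.leaf 36404) (.leaf 139568)) (.leaf 102953)) (.node (.leaf 51889) (.leaf 113223))) (.node (.node (.leaf 23116) (.leaf 87717)) (.node (.leaf 57696) (.leaf 126272)))) (.node (.node (.node (.leaf 46732) (.leaf 122447)) (.node (.leaf 103332) (.leaf 119454)))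 (.node (.node (.leaf 48416) (.leaf 115718)) (.node (.leaf 100093) (.leaf 133353))))) (.node (.node (.node (.node (.leaf 34502) (.leaf 99127)) (.node (.leaf 53176) (.leaf 116507))) (.node (.node (.leaf 44785) (.leaf 93311)) (.node (.leaf 59818) (.leaf 134358)))) (.node (.node (.node (.leaf 17174) (.leaf 81622)) (.node (.leaf 98625) (.leaf 122451))) (.node (.node (.leaf 50514) (.leaf 110708)) (.node (.leaf 66260) (.leaf 136788))))))
def dFin_2025 : BT := .node (.node (.node (.node (.node (.node (.node (.leaf 85) (.leaf 138598)) (.leaf 67076)) (.node (.leaf 105522) (.leaf 111922))) (.node (.node (.leaf 19348) (.leaf 85326)) (.node (.leaf 103832) (.leaf 132792)))) (.node (.node (.node (.leaf 12051) (.leaf 104272)) (.node (.leaf 53600) (.leaf 135629))) (.node (.node (.leaf 47238) (.leaf 107082)) (.node (.leaf 61011) (.leaf 131651))))) (.node (.node (.node (.node (.node (.leaf 33896) (.leaf 140688)) (.leaf 97874)) (.node (.leaf 52447) (.leaf 114622))) (.node (.node (.leaf 24122) (.leaf 91145)) (.node (.leaf 60272) (.leaf 127575)))) (.node (.node (.node (.leaf 14366)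 (.leaf 117937)) (.node (.leaf 54873) (.leaf 122663))) (.node (.node (.leaf 65877) (.leaf 109589)) (.node (.leaf 69411) (.leaf 135110)))))) (.node (.node (.node (.node (.node (.node (.leaf 48426) (.leaf 139468)) (.leaf 68068)) (.node (.leaf 51950) (.leaf 116519))) (.node (.node (.leaf 97823) (.leaf 89461)) (.node (.leaf 57604) (.leaf 126126)))) (.node (.node (.node (.leaf 40705) (.leaf 108836)) (.node (.leaf 101865) (.leaf 119276))) (.node (.node (.leaf 48354) (.leaf 108231)) (.node (.leaf 89990) (.leaf 133374))))) (.node (.node (.node (.node (.leaf 6538) (.leaf 70370)) (.node (.leaf 61296) (.leaf 116172))) (.node (.node (.leaf 48500) (.leaf 93178)) (.node (.leaf 59914) (.leaf 134079)))) (.node (.node (.node (.leaf 45919) (.leaf 97763)) (.node (.leaf 105214) (.leaf 122142))) (.node (.node (.leaf 97537) (.leaf 110839)) (.node (.leaf 109535) (.leaf 136651))))))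
def dFin_2032 : BT := .node (.node (.node (.node (.node (.node (.node (.leaf 33768) (.leaf 138678)) (.leaf 96495)) (.node (.leaf 51397) (.leaf 112044))) (.node (.node (.leaf 19244) (.leaf 85476)) (.node (.leaf 102908) (.leaf 124628)))) (.node (.node (.node (.leaf 47516) (.leaf 104851)) (.node (.leaf 95234) (.leaf 117755))) (.node (.node (.leaf 50199) (.leaf 138656)) (.node (.leaf 100708) (.leaf 131529))))) (.node (.node (.node (.node (.node (.leaf 2652) (.leaf 140867)) (.leaf 105185)) (.node (.leaf 52735) (.leaf 114840))) (.node (.node (.leaf 41240) (.leaf 121032)) (.node (.leaf 58639) (.leaf 128102)))) (.node (.node (.node (.leaf 46128) (.leaf 79184)) (.node (.leaf 92032) (.leaf 121053))) (.node (.node (.leaf 49617) (.leaf 109678)) (.node (.leaf 64951) (.leaf 135365)))))) (.node (.node (.node (.node (.node (.node (.leaf 1422) (.leaf 140216)) (.leaf 67960)) (.node (.leaf 52031) (.leaf 121354))) (.node (.node (.leaf 24023) (.leaf 87926)) (.node (.leaf 57454) (.leaf 132253)))) (.node (.node (.node (.leaf 12927) (.leaf 103311)) (.node (.leaf 107135) (.leaf 119433)))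 (.node (.node (.leaf 48491) (.leaf 108486)) (.node (.leaf 100260) (.leaf 133294))))) (.node (.node (.node (.node (.leaf 38406) (.leaf 103282)) (.node (.leaf 103984) (.leaf 116551))) (.node (.node (.leaf 25868) (.leaf 122670)) (.node (.leaf 75250) (.leaf 129981)))) (.node (.node (.node (.leaf 42353) (.leaf 82239)) (.node (.leaf 55731) (.leaf 122593))) (.node (.node (.leaf 50640) (.leaf 122838)) (.node (.leaf 66220) (.leaf 136930))))))
end Cfsg.Agent.Lib.Helper66.G23Up
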