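import Cfsg.Agent.Lib.Helper66.G23Up0
import Cfsg.Agent.Lib.Helper66.G23Up1
import Cfsg.Agent.Lib.Helper66.G23Up2
import Cfsg.Agent.Lib.Helper66.G23Up3

set_option autoImplicit false
set_option maxRecDepth 100000
namespace Cfsg.Agent.Lib.Helper66.G23Up
open Cfsg.Agent.Lib.Helper66.TCE
def dF_2 : BT := .node dF_0 dF_1
def dF_5 : BT := .node dF_3 dF_4
def dF_6 : BT := .node dF_2 dF_5
def dF_9 : BT := .node dF_7 dF_8
def dF_12 : BT := .node dF_10 dF_11
def dF_13 : BT := .node dF_9 dF_12
def dF_14 : BT := .node dF_6 dF_13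
def dF_17 : BT := .node dF_15 dF_16
def dF_20 : BT := .node dF_18 dF_19
def dF_21 : BT := .node dF_17 dF_20
def dF_24 : BT := .node dF_22 dF_23
def dF_27 : BT := .node dF_25 dF_26
def dF_28 : BT := .node dF_24 dF_27
def dF_29 : BT := .node dF_21 dF_28
def dF_30 : BT := .node dF_14 dF_29
def dF_33 : BT := .node dF_31 dF_32
def dF_36 : BT := .node dF_34 dF_35
def dF_37 : BT := .node dF_33 dF_36
def dF_40 : BT := .node dF_38 dF_39
def dF_43 : BT := .node dF_41 dF_42
def dF_44 : BT := .node dF_40 dF_43
def dF_45 : BT := .node dF_37 dF_44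
def dF_48 : BT := .node dF_46 dF_47
def dF_51 : BT := .node dF_49 dF_50
def dF_52 : BT := .node dF_48 dF_51
def dF_55 : BT := .node dF_53 dF_54
def dF_58 : BT := .node dF_56 dF_57
def dF_59 : BT := .node dF_55 dF_58
def dF_60 : BT := .node dF_52 dF_59
def dF_61 : BT := .node dF_45 dF_60
def dF_62 : BT := .node dF_30 dF_61
def dF_65 : BT := .node dF_63 dF_64
def dF_68 : BT := .node dF_66 dF_67
def dF_69 : BT := .node dF_65 dF_68
def dF_72 : BT := .node dF_70 dF_71
def dF_75 : BT := .node dF_73 dF_74
def dF_76 : BT := .node dF_72 dF_75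
def dF_77 : BT := .node dF_69 dF_76
def dF_80 : BT := .node dF_78 dF_79
def dF_83 : BT := .node dF_81 dF_82
def dF_84 : BT := .node dF_80 dF_83
def dF_87 : BT := .node dF_85 dF_86
def dF_90 : BT := .node dF_88 dF_89
def dF_91 : BT := .node dF_87 dF_90
def dF_92 : BT := .node dF_84 dF_91
def dF_93 : BT := .node dF_77 dF_92
def dF_96 : BT := .node dF_94 dF_95
def dF_99 : BT := .node dF_97 dF_98
def dF_100 : BT := .node dF_96 dF_99
def dF_103 : BT := .node dF_101 dF_102
def dF_106 : BT := .node dF_104 dF_105
def dF_107 : BT := .node dF_103 dF_106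
def dF_108 : BT := .node dF_100 dF_107
def dF_111 : BT := .node dF_109 dF_110
def dF_114 : BT := .node dF_112 dF_113
def dF_115 : BT := .node dF_111 dF_114
def dF_118 : BT := .node dF_116 dF_117
def dF_121 : BT := .node dF_119 dF_120
def dF_122 : BT := .node dF_118 dF_121
def dF_123 : BT := .node dF_115 dF_122
def dF_124 : BT := .node dF_108 dF_123
def dF_125 : BT := .node dF_93 dF_124
def dF_126 : BT := .node dF_62 dF_125
def dF_129 : BT := .node dF_127 dF_128
def dF_132 : BT := .node dF_130 dF_131
def dF_133 : BT := .node dF_129 dF_132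
def dF_136 : BT := .node dF_134 dF_135
def dF_139 : BT := .node dF_137 dF_138
def dF_140 : BT := .node dF_136 dF_139
def dF_141 : BT := .node dF_133 dF_140
def dF_144 : BT := .node dF_142 dF_143
def dF_147 : BT := .node dF_145 dF_146
def dF_148 : BT := .node dF_144 dF_147
def dF_151 : BT := .node dF_149 dF_150
def dF_154 : BT := .node dF_152 dF_153
def dF_155 : BT := .node dF_151 dF_154
def dF_156 : BT := .node dF_148 dF_155
def dF_157 : BT := .node dF_141 dF_156
def dF_160 : BT := .node dF_158 dF_159
def dF_163 : BT := .node dF_161 dF_162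
def dF_164 : BT := .node dF_160 dF_163
def dF_167 : BT := .node dF_165 dF_166
def dF_170 : BT := .node dF_168 dF_169
def dF_171 : BT := .node dF_167 dF_170
def dF_172 : BT := .node dF_164 dF_171
def dF_175 : BT := .node dF_173 dF_174
def dF_178 : BT := .node dF_176 dF_177
def dF_179 : BT := .node dF_175 dF_178
def dF_182 : BT := .node dF_180 dF_181
def dF_185 : BT := .node dF_183 dF_184
def dF_186 : BT := .node dF_182 dF_185
def dF_187 : BT := .node dF_179 dF_186
def dF_188 : BT := .node dF_172 dF_187
def dF_189 : BT := .node dF_157 dF_188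
def dF_192 : BT := .node dF_190 dF_191
def dF_195 : BT := .node dF_193 dF_194
def dF_196 : BT := .node dF_192 dF_195
def dF_199 : BT := .node dF_197 dF_198
def dF_202 : BT := .node dF_200 dF_201
def dF_203 : BT := .node dF_199 dF_202
def dF_204 : BT := .node dF_196 dF_203
def dF_207 : BT := .node dF_205 dF_206
def dF_210 : BT := .node dF_208 dF_209
def dF_211 : BT := .node dF_207 dF_210
def dF_214 : BT := .node dF_212 dF_213
def dF_217 : BT := .node dF_215 dF_216
def dF_218 : BT := .node dF_214 dF_217
def dF_219 : BT := .node dF_211 dF_218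
def dF_220 : BT := .node dF_204 dF_219
def dF_223 : BT := .node dF_221 dF_222
def dF_226 : BT := .node dF_224 dF_225
def dF_227 : BT := .node dF_223 dF_226
def dF_230 : BT := .node dF_228 dF_229
def dF_233 : BT := .node dF_231 dF_232
def dF_234 : BT := .node dF_230 dF_233
def dF_235 : BT := .node dF_227 dF_234
def dF_238 : BT := .node dF_236 dF_237
def dF_241 : BT := .node dF_239 dF_240
def dF_242 : BT := .node dF_238 dF_241
def dF_245 : BT := .node dF_243 dF_244
def dF_248 : BT := .node dF_246 dF_247
def dF_249 : BT := .node dF_245 dF_248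
def dF_250 : BT := .node dF_242 dF_249
def dF_251 : BT := .node dF_235 dF_250
def dF_252 : BT := .node dF_220 dF_251
def dF_253 : BT := .node dF_189 dF_252
def dF_254 : BT := .node dF_126 dF_253
def dF_257 : BT := .node dF_255 dF_256
def dF_260 : BT := .node dF_258 dF_259
def dF_261 : BT := .node dF_257 dF_260
def dF_264 : BT := .node dF_262 dF_263
def dF_267 : BT := .node dF_265 dF_266
def dF_268 : BT := .node dF_264 dF_267
def dF_269 : BT := .node dF_261 dF_268
def dF_272 : BT := .node dF_270 dF_271
def dF_275 : BT := .node dF_273 dF_274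
def dF_276 : BT := .node dF_272 dF_275
def dF_279 : BT := .node dF_277 dF_278
def dF_282 : BT := .node dF_280 dF_281
def dF_283 : BT := .node dF_279 dF_282
def dF_284 : BT := .node dF_276 dF_283
def dF_285 : BT := .node dF_269 dF_284
def dF_288 : BT := .node dF_286 dF_287
def dF_291 : BT := .node dF_289 dF_290
def dF_292 : BT := .node dF_288 dF_291
def dF_295 : BT := .node dF_293 dF_294
def dF_298 : BT := .node dF_296 dF_297
def dF_299 : BT := .node dF_295 dF_298
def dF_300 : BT := .node dF_292 dF_299
def dF_303 : BT := .node dF_301 dF_302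
def dF_306 : BT := .node dF_304 dF_305
def dF_307 : BT := .node dF_303 dF_306
def dF_310 : BT := .node dF_308 dF_309
def dF_313 : BT := .node dF_311 dF_312
def dF_314 : BT := .node dF_310 dF_313
def dF_315 : BT := .node dF_307 dF_314
def dF_316 : BT := .node dF_300 dF_315
def dF_317 : BT := .node dF_285 dF_316
def dF_320 : BT := .node dF_318 dF_319
def dF_323 : BT := .node dF_321 dF_322
def dF_324 : BT := .node dF_320 dF_323
def dF_327 : BT := .node dF_325 dF_326
def dF_330 : BT := .node dF_328 dF_329
def dF_331 : BT := .node dF_327 dF_330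
def dF_332 : BT := .node dF_324 dF_331
def dF_335 : BT := .node dF_333 dF_334
def dF_338 : BT := .node dF_336 dF_337
def dF_339 : BT := .node dF_335 dF_338
def dF_342 : BT := .node dF_340 dF_341
def dF_345 : BT := .node dF_343 dF_344
def dF_346 : BT := .node dF_342 dF_345
def dF_347 : BT := .node dF_339 dF_346
def dF_348 : BT := .node dF_332 dF_347
def dF_351 : BT := .node dF_349 dF_350
def dF_354 : BT := .node dF_352 dF_353
def dF_355 : BT := .node dF_351 dF_354
def dF_358 : BT := .node dF_356 dF_357
def dF_361 : BT := .node dF_359 dF_360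
def dF_362 : BT := .node dF_358 dF_361
def dF_363 : BT := .node dF_355 dF_362
def dF_366 : BT := .node dF_364 dF_365
def dF_369 : BT := .node dF_367 dF_368
def dF_370 : BT := .node dF_366 dF_369
def dF_373 : BT := .node dF_371 dF_372
def dF_376 : BT := .node dF_374 dF_375
def dF_377 : BT := .node dF_373 dF_376
def dF_378 : BT := .node dF_370 dF_377
def dF_379 : BT := .node dF_363 dF_378
def dF_380 : BT := .node dF_348 dF_379
def dF_381 : BT := .node dF_317 dF_380
def dF_384 : BT := .node dF_382 dF_383
def dF_387 : BT := .node dF_385 dF_386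
def dF_388 : BT := .node dF_384 dF_387
def dF_391 : BT := .node dF_389 dF_390
def dF_394 : BT := .node dF_392 dF_393
def dF_395 : BT := .node dF_391 dF_394
def dF_396 : BT := .node dF_388 dF_395
def dF_399 : BT := .node dF_397 dF_398
def dF_402 : BT := .node dF_400 dF_401
def dF_403 : BT := .node dF_399 dF_402
def dF_406 : BT := .node dF_404 dF_405
def dF_409 : BT := .node dF_407 dF_408
def dF_410 : BT := .node dF_406 dF_409
def dF_411 : BT := .node dF_403 dF_410
def dF_412 : BT := .node dF_396 dF_411
def dF_415 : BT := .node dF_413 dF_414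
def dF_418 : BT := .node dF_416 dF_417
def dF_419 : BT := .node dF_415 dF_418
def dF_422 : BT := .node dF_420 dF_421
def dF_425 : BT := .node dF_423 dF_424
def dF_426 : BT := .node dF_422 dF_425
def dF_427 : BT := .node dF_419 dF_426
def dF_430 : BT := .node dF_428 dF_429
def dF_433 : BT := .node dF_431 dF_432
def dF_434 : BT := .node dF_430 dF_433
def dF_437 : BT := .node dF_435 dF_436
def dF_440 : BT := .node dF_438 dF_439
def dF_441 : BT := .node dF_437 dF_440
def dF_442 : BT := .node dF_434 dF_441
def dF_443 : BT := .node dF_427 dF_442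
def dF_444 : BT := .node dF_412 dF_443
def dF_447 : BT := .node dF_445 dF_446
def dF_450 : BT := .node dF_448 dF_449
def dF_451 : BT := .node dF_447 dF_450
def dF_454 : BT := .node dF_452 dF_453
def dF_457 : BT := .node dF_455 dF_456
def dF_458 : BT := .node dF_454 dF_457
def dF_459 : BT := .node dF_451 dF_458
def dF_462 : BT := .node dF_460 dF_461
def dF_465 : BT := .node dF_463 dF_464
def dF_466 : BT := .node dF_462 dF_465
def dF_469 : BT := .node dF_467 dF_468
def dF_472 : BT := .node dF_470 dF_471
def dF_473 : BT := .node dF_469 dF_472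
def dF_474 : BT := .node dF_466 dF_473
def dF_475 : BT := .node dF_459 dF_474
def dF_478 : BT := .node dF_476 dF_477
def dF_481 : BT := .node dF_479 dF_480
def dF_482 : BT := .node dF_478 dF_481
def dF_485 : BT := .node dF_483 dF_484
def dF_488 : BT := .node dF_486 dF_487
def dF_489 : BT := .node dF_485 dF_488
def dF_490 : BT := .node dF_482 dF_489
def dF_493 : BT := .node dF_491 dF_492
def dF_496 : BT := .node dF_494 dF_495
def dF_497 : BT := .node dF_493 dF_496
def dF_500 : BT := .node dF_498 dF_499
def dF_503 : BT := .node dF_501 dF_502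
def dF_504 : BT := .node dF_500 dF_503
def dF_505 : BT := .node dF_497 dF_504
def dF_506 : BT := .node dF_490 dF_505
def dF_507 : BT := .node dF_475 dF_506
def dF_508 : BT := .node dF_444 dF_507
def dF_509 : BT := .node dF_381 dF_508
def dF_510 : BT := .node dF_254 dF_509
def dF_513 : BT := .node dF_511 dF_512
def dF_516 : BT := .node dF_514 dF_515
def dF_517 : BT := .node dF_513 dF_516
def dF_520 : BT := .node dF_518 dF_519
def dF_523 : BT := .node dF_521 dF_522
def dF_524 : BT := .node dF_520 dF_523
def dF_525 : BT := .node dF_517 dF_524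
def dF_528 : BT := .node dF_526 dF_527
def dF_531 : BT := .node dF_529 dF_530
def dF_532 : BT := .node dF_528 dF_531
def dF_535 : BT := .node dF_533 dF_534
def dF_538 : BT := .node dF_536 dF_537
def dF_539 : BT := .node dF_535 dF_538
def dF_540 : BT := .node dF_532 dF_539
def dF_541 : BT := .node dF_525 dF_540
def dF_544 : BT := .node dF_542 dF_543
def dF_547 : BT := .node dF_545 dF_546
def dF_548 : BT := .node dF_544 dF_547
def dF_551 : BT := .node dF_549 dF_550
def dF_554 : BT := .node dF_552 dF_553
def dF_555 : BT := .node dF_551 dF_554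
def dF_556 : BT := .node dF_548 dF_555
def dF_559 : BT := .node dF_557 dF_558
def dF_562 : BT := .node dF_560 dF_561
def dF_563 : BT := .node dF_559 dF_562
def dF_566 : BT := .node dF_564 dF_565
def dF_569 : BT := .node dF_567 dF_568
def dF_570 : BT := .node dF_566 dF_569
def dF_571 : BT := .node dF_563 dF_570
def dF_572 : BT := .node dF_556 dF_571
def dF_573 : BT := .node dF_541 dF_572
def dF_576 : BT := .node dF_574 dF_575
def dF_579 : BT := .node dF_577 dF_578
def dF_580 : BT := .node dF_576 dF_579
def dF_583 : BT := .node dF_581 dF_582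
def dF_586 : BT := .node dF_584 dF_585
def dF_587 : BT := .node dF_583 dF_586
def dF_588 : BT := .node dF_580 dF_587
def dF_591 : BT := .node dF_589 dF_590
def dF_594 : BT := .node dF_592 dF_593
def dF_595 : BT := .node dF_591 dF_594
def dF_598 : BT := .node dF_596 dF_597
def dF_601 : BT := .node dF_599 dF_600
def dF_602 : BT := .node dF_598 dF_601
def dF_603 : BT := .node dF_595 dF_602
def dF_604 : BT := .node dF_588 dF_603
def dF_607 : BT := .node dF_605 dF_606
def dF_610 : BT := .node dF_608 dF_609
def dF_611 : BT := .node dF_607 dF_610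
def dF_614 : BT := .node dF_612 dF_613
def dF_617 : BT := .node dF_615 dF_616
def dF_618 : BT := .node dF_614 dF_617
def dF_619 : BT := .node dF_611 dF_618
def dF_622 : BT := .node dF_620 dF_621
def dF_625 : BT := .node dF_623 dF_624
def dF_626 : BT := .node dF_622 dF_625
def dF_629 : BT := .node dF_627 dF_628
def dF_632 : BT := .node dF_630 dF_631
def dF_633 : BT := .node dF_629 dF_632
def dF_634 : BT := .node dF_626 dF_633
def dF_635 : BT := .node dF_619 dF_634
def dF_636 : BT := .node dF_604 dF_635
def dF_637 : BT := .node dF_573 dF_636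
def dF_640 : BT := .node dF_638 dF_639
def dF_643 : BT := .node dF_641 dF_642
def dF_644 : BT := .node dF_640 dF_643
def dF_647 : BT := .node dF_645 dF_646
def dF_650 : BT := .node dF_648 dF_649
def dF_651 : BT := .node dF_647 dF_650
def dF_652 : BT := .node dF_644 dF_651
def dF_655 : BT := .node dF_653 dF_654
def dF_658 : BT := .node dF_656 dF_657
def dF_659 : BT := .node dF_655 dF_658
def dF_662 : BT := .node dF_660 dF_661
def dF_665 : BT := .node dF_663 dF_664
def dF_666 : BT := .node dF_662 dF_665
def dF_667 : BT := .node dF_659 dF_666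
def dF_668 : BT := .node dF_652 dF_667
def dF_671 : BT := .node dF_669 dF_670
def dF_674 : BT := .node dF_672 dF_673
def dF_675 : BT := .node dF_671 dF_674
def dF_678 : BT := .node dF_676 dF_677
def dF_681 : BT := .node dF_679 dF_680
def dF_682 : BT := .node dF_678 dF_681
def dF_683 : BT := .node dF_675 dF_682
def dF_686 : BT := .node dF_684 dF_685
def dF_689 : BT := .node dF_687 dF_688
def dF_690 : BT := .node dF_686 dF_689
def dF_693 : BT := .node dF_691 dF_692
def dF_696 : BT := .node dF_694 dF_695
def dF_697 : BT := .node dF_693 dF_696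
def dF_698 : BT := .node dF_690 dF_697
def dF_699 : BT := .node dF_683 dF_698
def dF_700 : BT := .node dF_668 dF_699
def dF_703 : BT := .node dF_701 dF_702
def dF_706 : BT := .node dF_704 dF_705
def dF_707 : BT := .node dF_703 dF_706
def dF_710 : BT := .node dF_708 dF_709
def dF_713 : BT := .node dF_711 dF_712
def dF_714 : BT := .node dF_710 dF_713
def dF_715 : BT := .node dF_707 dF_714
def dF_718 : BT := .node dF_716 dF_717
def dF_721 : BT := .node dF_719 dF_720
def dF_722 : BT := .node dF_718 dF_721
def dF_725 : BT := .node dF_723 dF_724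
def dF_728 : BT := .node dF_726 dF_727
def dF_729 : BT := .node dF_725 dF_728
def dF_730 : BT := .node dF_722 dF_729
def dF_731 : BT := .node dF_715 dF_730
def dF_734 : BT := .node dF_732 dF_733
def dF_737 : BT := .node dF_735 dF_736
def dF_738 : BT := .node dF_734 dF_737
def dF_741 : BT := .node dF_739 dF_740
def dF_744 : BT := .node dF_742 dF_743
def dF_745 : BT := .node dF_741 dF_744
def dF_746 : BT := .node dF_738 dF_745
def dF_749 : BT := .node dF_747 dF_748
def dF_752 : BT := .node dF_750 dF_751
def dF_753 : BT := .node dF_749 dF_752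
def dF_756 : BT := .node dF_754 dF_755
def dF_759 : BT := .node dF_757 dF_758
def dF_760 : BT := .node dF_756 dF_759
def dF_761 : BT := .node dF_753 dF_760
def dF_762 : BT := .node dF_746 dF_761
def dF_763 : BT := .node dF_731 dF_762
def dF_764 : BT := .node dF_700 dF_763
def dF_765 : BT := .node dF_637 dF_764
def dF_768 : BT := .node dF_766 dF_767
def dF_771 : BT := .node dF_769 dF_770
def dF_772 : BT := .node dF_768 dF_771
def dF_775 : BT := .node dF_773 dF_774
def dF_778 : BT := .node dF_776 dF_777
def dF_779 : BT := .node dF_775 dF_778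
def dF_780 : BT := .node dF_772 dF_779
def dF_783 : BT := .node dF_781 dF_782
def dF_786 : BT := .node dF_784 dF_785
def dF_787 : BT := .node dF_783 dF_786
def dF_790 : BT := .node dF_788 dF_789
def dF_793 : BT := .node dF_791 dF_792
def dF_794 : BT := .node dF_790 dF_793
def dF_795 : BT := .node dF_787 dF_794
def dF_796 : BT := .node dF_780 dF_795
def dF_799 : BT := .node dF_797 dF_798
def dF_802 : BT := .node dF_800 dF_801
def dF_803 : BT := .node dF_799 dF_802
def dF_806 : BT := .node dF_804 dF_805
def dF_809 : BT := .node dF_807 dF_808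
def dF_810 : BT := .node dF_806 dF_809
def dF_811 : BT := .node dF_803 dF_810
def dF_814 : BT := .node dF_812 dF_813
def dF_817 : BT := .node dF_815 dF_816
def dF_818 : BT := .node dF_814 dF_817
def dF_821 : BT := .node dF_819 dF_820
def dF_824 : BT := .node dF_822 dF_823
def dF_825 : BT := .node dF_821 dF_824
def dF_826 : BT := .node dF_818 dF_825
def dF_827 : BT := .node dF_811 dF_826
def dF_828 : BT := .node dF_796 dF_827
def dF_831 : BT := .node dF_829 dF_830
def dF_834 : BT := .node dF_832 dF_833
def dF_835 : BT := .node dF_831 dF_834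
def dF_838 : BT := .node dF_836 dF_837
def dF_841 : BT := .node dF_839 dF_840
def dF_842 : BT := .node dF_838 dF_841
def dF_843 : BT := .node dF_835 dF_842
def dF_846 : BT := .node dF_844 dF_845
def dF_849 : BT := .node dF_847 dF_848
def dF_850 : BT := .node dF_846 dF_849
def dF_853 : BT := .node dF_851 dF_852
def dF_856 : BT := .node dF_854 dF_855
def dF_857 : BT := .node dF_853 dF_856
def dF_858 : BT := .node dF_850 dF_857
def dF_859 : BT := .node dF_843 dF_858
def dF_862 : BT := .node dF_860 dF_861
def dF_865 : BT := .node dF_863 dF_864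
def dF_866 : BT := .node dF_862 dF_865
def dF_869 : BT := .node dF_867 dF_868
def dF_872 : BT := .node dF_870 dF_871
def dF_873 : BT := .node dF_869 dF_872
def dF_874 : BT := .node dF_866 dF_873
def dF_877 : BT := .node dF_875 dF_876
def dF_880 : BT := .node dF_878 dF_879
def dF_881 : BT := .node dF_877 dF_880
def dF_884 : BT := .node dF_882 dF_883
def dF_887 : BT := .node dF_885 dF_886
def dF_888 : BT := .node dF_884 dF_887
def dF_889 : BT := .node dF_881 dF_888
def dF_890 : BT := .node dF_874 dF_889
def dF_891 : BT := .node dF_859 dF_890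
def dF_892 : BT := .node dF_828 dF_891
def dF_895 : BT := .node dF_893 dF_894
def dF_898 : BT := .node dF_896 dF_897
def dF_899 : BT := .node dF_895 dF_898
def dF_902 : BT := .node dF_900 dF_901
def dF_905 : BT := .node dF_903 dF_904
def dF_906 : BT := .node dF_902 dF_905
def dF_907 : BT := .node dF_899 dF_906
def dF_910 : BT := .node dF_908 dF_909
def dF_913 : BT := .node dF_911 dF_912
def dF_914 : BT := .node dF_910 dF_913
def dF_917 : BT := .node dF_915 dF_916
def dF_920 : BT := .node dF_918 dF_919
def dF_921 : BT := .node dF_917 dF_920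
def dF_922 : BT := .node dF_914 dF_921
def dF_923 : BT := .node dF_907 dF_922
def dF_926 : BT := .node dF_924 dF_925
def dF_929 : BT := .node dF_927 dF_928
def dF_930 : BT := .node dF_926 dF_929
def dF_933 : BT := .node dF_931 dF_932
def dF_936 : BT := .node dF_934 dF_935
def dF_937 : BT := .node dF_933 dF_936
def dF_938 : BT := .node dF_930 dF_937
def dF_941 : BT := .node dF_939 dF_940
def dF_944 : BT := .node dF_942 dF_943
def dF_945 : BT := .node dF_941 dF_944
def dF_948 : BT := .node dF_946 dF_947
def dF_951 : BT := .node dF_949 dF_950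
def dF_952 : BT := .node dF_948 dF_951
def dF_953 : BT := .node dF_945 dF_952
def dF_954 : BT := .node dF_938 dF_953
def dF_955 : BT := .node dF_923 dF_954
def dF_958 : BT := .node dF_956 dF_957
def dF_961 : BT := .node dF_959 dF_960
def dF_962 : BT := .node dF_958 dF_961
def dF_965 : BT := .node dF_963 dF_964
def dF_968 : BT := .node dF_966 dF_967
def dF_969 : BT := .node dF_965 dF_968
def dF_970 : BT := .node dF_962 dF_969
def dF_973 : BT := .node dF_971 dF_972
def dF_976 : BT := .node dF_974 dF_975
def dF_977 : BT := .node dF_973 dF_976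
def dF_980 : BT := .node dF_978 dF_979
def dF_983 : BT := .node dF_981 dF_982
def dF_984 : BT := .node dF_980 dF_983
def dF_985 : BT := .node dF_977 dF_984
def dF_986 : BT := .node dF_970 dF_985
def dF_989 : BT := .node dF_987 dF_988
def dF_992 : BT := .node dF_990 dF_991
def dF_993 : BT := .node dF_989 dF_992
def dF_996 : BT := .node dF_994 dF_995
def dF_999 : BT := .node dF_997 dF_998
def dF_1000 : BT := .node dF_996 dF_999
def dF_1001 : BT := .node dF_993 dF_1000
def dF_1004 : BT := .node dF_1002 dF_1003
def dF_1007 : BT := .node dF_1005 dF_1006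
def dF_1008 : BT := .node dF_1004 dF_1007
def dF_1011 : BT := .node dF_1009 dF_1010
def dF_1014 : BT := .node dF_1012 dF_1013
def dF_1015 : BT := .node dF_1011 dF_1014
def dF_1016 : BT := .node dF_1008 dF_1015
def dF_1017 : BT := .node dF_1001 dF_1016
def dF_1018 : BT := .node dF_986 dF_1017
def dF_1019 : BT := .node dF_955 dF_1018
def dF_1020 : BT := .node dF_892 dF_1019
def dF_1021 : BT := .node dF_765 dF_1020
def dF_1022 : BT := .node dF_510 dF_1021
def dF_1025 : BT := .node dF_1023 dF_1024
def dF_1028 : BT := .node dF_1026 dF_1027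
def dF_1029 : BT := .node dF_1025 dF_1028
def dF_1032 : BT := .node dF_1030 dF_1031
def dF_1035 : BT := .node dF_1033 dF_1034
def dF_1036 : BT := .node dF_1032 dF_1035
def dF_1037 : BT := .node dF_1029 dF_1036
def dF_1040 : BT := .node dF_1038 dF_1039
def dF_1043 : BT := .node dF_1041 dF_1042
def dF_1044 : BT := .node dF_1040 dF_1043
def dF_1047 : BT := .node dF_1045 dF_1046
def dF_1050 : BT := .node dF_1048 dF_1049
def dF_1051 : BT := .node dF_1047 dF_1050
def dF_1052 : BT := .node dF_1044 dF_1051
def dF_1053 : BT := .node dF_1037 dF_1052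
def dF_1056 : BT := .node dF_1054 dF_1055
def dF_1059 : BT := .node dF_1057 dF_1058
def dF_1060 : BT := .node dF_1056 dF_1059
def dF_1063 : BT := .node dF_1061 dF_1062
def dF_1066 : BT := .node dF_1064 dF_1065
def dF_1067 : BT := .node dF_1063 dF_1066
def dF_1068 : BT := .node dF_1060 dF_1067
def dF_1071 : BT := .node dF_1069 dF_1070
def dF_1074 : BT := .node dF_1072 dF_1073
def dF_1075 : BT := .node dF_1071 dF_1074
def dF_1078 : BT := .node dF_1076 dF_1077
def dF_1081 : BT := .node dF_1079 dF_1080
def dF_1082 : BT := .node dF_1078 dF_1081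
def dF_1083 : BT := .node dF_1075 dF_1082
def dF_1084 : BT := .node dF_1068 dF_1083
def dF_1085 : BT := .node dF_1053 dF_1084
def dF_1088 : BT := .node dF_1086 dF_1087
def dF_1091 : BT := .node dF_1089 dF_1090
def dF_1092 : BT := .node dF_1088 dF_1091
def dF_1095 : BT := .node dF_1093 dF_1094
def dF_1098 : BT := .node dF_1096 dF_1097
def dF_1099 : BT := .node dF_1095 dF_1098
def dF_1100 : BT := .node dF_1092 dF_1099
def dF_1103 : BT := .node dF_1101 dF_1102
def dF_1106 : BT := .node dF_1104 dF_1105
def dF_1107 : BT := .node dF_1103 dF_1106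
def dF_1110 : BT := .node dF_1108 dF_1109
def dF_1113 : BT := .node dF_1111 dF_1112
def dF_1114 : BT := .node dF_1110 dF_1113
def dF_1115 : BT := .node dF_1107 dF_1114
def dF_1116 : BT := .node dF_1100 dF_1115
def dF_1119 : BT := .node dF_1117 dF_1118
def dF_1122 : BT := .node dF_1120 dF_1121
def dF_1123 : BT := .node dF_1119 dF_1122
def dF_1126 : BT := .node dF_1124 dF_1125
def dF_1129 : BT := .node dF_1127 dF_1128
def dF_1130 : BT := .node dF_1126 dF_1129
def dF_1131 : BT := .node dF_1123 dF_1130
def dF_1134 : BT := .node dF_1132 dF_1133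
def dF_1137 : BT := .node dF_1135 dF_1136
def dF_1138 : BT := .node dF_1134 dF_1137
def dF_1141 : BT := .node dF_1139 dF_1140
def dF_1144 : BT := .node dF_1142 dF_1143
def dF_1145 : BT := .node dF_1141 dF_1144
def dF_1146 : BT := .node dF_1138 dF_1145
def dF_1147 : BT := .node dF_1131 dF_1146
def dF_1148 : BT := .node dF_1116 dF_1147
def dF_1149 : BT := .node dF_1085 dF_1148
def dF_1152 : BT := .node dF_1150 dF_1151
def dF_1155 : BT := .node dF_1153 dF_1154
def dF_1156 : BT := .node dF_1152 dF_1155
def dF_1159 : BT := .node dF_1157 dF_1158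
def dF_1162 : BT := .node dF_1160 dF_1161
def dF_1163 : BT := .node dF_1159 dF_1162
def dF_1164 : BT := .node dF_1156 dF_1163
def dF_1167 : BT := .node dF_1165 dF_1166
def dF_1170 : BT := .node dF_1168 dF_1169
def dF_1171 : BT := .node dF_1167 dF_1170
def dF_1174 : BT := .node dF_1172 dF_1173
def dF_1177 : BT := .node dF_1175 dF_1176
def dF_1178 : BT := .node dF_1174 dF_1177
def dF_1179 : BT := .node dF_1171 dF_1178
def dF_1180 : BT := .node dF_1164 dF_1179
def dF_1183 : BT := .node dF_1181 dF_1182
def dF_1186 : BT := .node dF_1184 dF_1185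
def dF_1187 : BT := .node dF_1183 dF_1186
def dF_1190 : BT := .node dF_1188 dF_1189
def dF_1193 : BT := .node dF_1191 dF_1192
def dF_1194 : BT := .node dF_1190 dF_1193
def dF_1195 : BT := .node dF_1187 dF_1194
def dF_1198 : BT := .node dF_1196 dF_1197
def dF_1201 : BT := .node dF_1199 dF_1200
def dF_1202 : BT := .node dF_1198 dF_1201
def dF_1205 : BT := .node dF_1203 dF_1204
def dF_1208 : BT := .node dF_1206 dF_1207
def dF_1209 : BT := .node dF_1205 dF_1208
def dF_1210 : BT := .node dF_1202 dF_1209
def dF_1211 : BT := .node dF_1195 dF_1210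
def dF_1212 : BT := .node dF_1180 dF_1211
def dF_1215 : BT := .node dF_1213 dF_1214
def dF_1218 : BT := .node dF_1216 dF_1217
def dF_1219 : BT := .node dF_1215 dF_1218
def dF_1222 : BT := .node dF_1220 dF_1221
def dF_1225 : BT := .node dF_1223 dF_1224
def dF_1226 : BT := .node dF_1222 dF_1225
def dF_1227 : BT := .node dF_1219 dF_1226
def dF_1230 : BT := .node dF_1228 dF_1229
def dF_1233 : BT := .node dF_1231 dF_1232
def dF_1234 : BT := .node dF_1230 dF_1233
def dF_1237 : BT := .node dF_1235 dF_1236
def dF_1240 : BT := .node dF_1238 dF_1239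
def dF_1241 : BT := .node dF_1237 dF_1240
def dF_1242 : BT := .node dF_1234 dF_1241
def dF_1243 : BT := .node dF_1227 dF_1242
def dF_1246 : BT := .node dF_1244 dF_1245
def dF_1249 : BT := .node dF_1247 dF_1248
def dF_1250 : BT := .node dF_1246 dF_1249
def dF_1253 : BT := .node dF_1251 dF_1252
def dF_1256 : BT := .node dF_1254 dF_1255
def dF_1257 : BT := .node dF_1253 dF_1256
def dF_1258 : BT := .node dF_1250 dF_1257
def dF_1261 : BT := .node dF_1259 dF_1260
def dF_1264 : BT := .node dF_1262 dF_1263
def dF_1265 : BT := .node dF_1261 dF_1264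
def dF_1268 : BT := .node dF_1266 dF_1267
def dF_1271 : BT := .node dF_1269 dF_1270
def dF_1272 : BT := .node dF_1268 dF_1271
def dF_1273 : BT := .node dF_1265 dF_1272
def dF_1274 : BT := .node dF_1258 dF_1273
def dF_1275 : BT := .node dF_1243 dF_1274
def dF_1276 : BT := .node dF_1212 dF_1275
def dF_1277 : BT := .node dF_1149 dF_1276
def dF_1280 : BT := .node dF_1278 dF_1279
def dF_1283 : BT := .node dF_1281 dF_1282
def dF_1284 : BT := .node dF_1280 dF_1283
def dF_1287 : BT := .node dF_1285 dF_1286
def dF_1290 : BT := .node dF_1288 dF_1289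
def dF_1291 : BT := .node dF_1287 dF_1290
def dF_1292 : BT := .node dF_1284 dF_1291
def dF_1295 : BT := .node dF_1293 dF_1294
def dF_1298 : BT := .node dF_1296 dF_1297
def dF_1299 : BT := .node dF_1295 dF_1298
def dF_1302 : BT := .node dF_1300 dF_1301
def dF_1305 : BT := .node dF_1303 dF_1304
def dF_1306 : BT := .node dF_1302 dF_1305
def dF_1307 : BT := .node dF_1299 dF_1306
def dF_1308 : BT := .node dF_1292 dF_1307
def dF_1311 : BT := .node dF_1309 dF_1310
def dF_1314 : BT := .node dF_1312 dF_1313
def dF_1315 : BT := .node dF_1311 dF_1314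
def dF_1318 : BT := .node dF_1316 dF_1317
def dF_1321 : BT := .node dF_1319 dF_1320
def dF_1322 : BT := .node dF_1318 dF_1321
def dF_1323 : BT := .node dF_1315 dF_1322
def dF_1326 : BT := .node dF_1324 dF_1325
def dF_1329 : BT := .node dF_1327 dF_1328
def dF_1330 : BT := .node dF_1326 dF_1329
def dF_1333 : BT := .node dF_1331 dF_1332
def dF_1336 : BT := .node dF_1334 dF_1335
def dF_1337 : BT := .node dF_1333 dF_1336
def dF_1338 : BT := .node dF_1330 dF_1337
def dF_1339 : BT := .node dF_1323 dF_1338
def dF_1340 : BT := .node dF_1308 dF_1339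
def dF_1343 : BT := .node dF_1341 dF_1342
def dF_1346 : BT := .node dF_1344 dF_1345
def dF_1347 : BT := .node dF_1343 dF_1346
def dF_1350 : BT := .node dF_1348 dF_1349
def dF_1353 : BT := .node dF_1351 dF_1352
def dF_1354 : BT := .node dF_1350 dF_1353
def dF_1355 : BT := .node dF_1347 dF_1354
def dF_1358 : BT := .node dF_1356 dF_1357
def dF_1361 : BT := .node dF_1359 dF_1360
def dF_1362 : BT := .node dF_1358 dF_1361
def dF_1365 : BT := .node dF_1363 dF_1364
def dF_1368 : BT := .node dF_1366 dF_1367
def dF_1369 : BT := .node dF_1365 dF_1368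
def dF_1370 : BT := .node dF_1362 dF_1369
def dF_1371 : BT := .node dF_1355 dF_1370
def dF_1374 : BT := .node dF_1372 dF_1373
def dF_1377 : BT := .node dF_1375 dF_1376
def dF_1378 : BT := .node dF_1374 dF_1377
def dF_1381 : BT := .node dF_1379 dF_1380
def dF_1384 : BT := .node dF_1382 dF_1383
def dF_1385 : BT := .node dF_1381 dF_1384
def dF_1386 : BT := .node dF_1378 dF_1385
def dF_1389 : BT := .node dF_1387 dF_1388
def dF_1392 : BT := .node dF_1390 dF_1391
def dF_1393 : BT := .node dF_1389 dF_1392
def dF_1396 : BT := .node dF_1394 dF_1395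
def dF_1399 : BT := .node dF_1397 dF_1398
def dF_1400 : BT := .node dF_1396 dF_1399
def dF_1401 : BT := .node dF_1393 dF_1400
def dF_1402 : BT := .node dF_1386 dF_1401
def dF_1403 : BT := .node dF_1371 dF_1402
def dF_1404 : BT := .node dF_1340 dF_1403
def dF_1407 : BT := .node dF_1405 dF_1406
def dF_1410 : BT := .node dF_1408 dF_1409
def dF_1411 : BT := .node dF_1407 dF_1410
def dF_1414 : BT := .node dF_1412 dF_1413
def dF_1417 : BT := .node dF_1415 dF_1416
def dF_1418 : BT := .node dF_1414 dF_1417
def dF_1419 : BT := .node dF_1411 dF_1418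
def dF_1422 : BT := .node dF_1420 dF_1421
def dF_1425 : BT := .node dF_1423 dF_1424
def dF_1426 : BT := .node dF_1422 dF_1425
def dF_1429 : BT := .node dF_1427 dF_1428
def dF_1432 : BT := .node dF_1430 dF_1431
def dF_1433 : BT := .node dF_1429 dF_1432
def dF_1434 : BT := .node dF_1426 dF_1433
def dF_1435 : BT := .node dF_1419 dF_1434
def dF_1438 : BT := .node dF_1436 dF_1437
def dF_1441 : BT := .node dF_1439 dF_1440
def dF_1442 : BT := .node dF_1438 dF_1441
def dF_1445 : BT := .node dF_1443 dF_1444
def dF_1448 : BT := .node dF_1446 dF_1447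
def dF_1449 : BT := .node dF_1445 dF_1448
def dF_1450 : BT := .node dF_1442 dF_1449
def dF_1453 : BT := .node dF_1451 dF_1452
def dF_1456 : BT := .node dF_1454 dF_1455
def dF_1457 : BT := .node dF_1453 dF_1456
def dF_1460 : BT := .node dF_1458 dF_1459
def dF_1463 : BT := .node dF_1461 dF_1462
def dF_1464 : BT := .node dF_1460 dF_1463
def dF_1465 : BT := .node dF_1457 dF_1464
def dF_1466 : BT := .node dF_1450 dF_1465
def dF_1467 : BT := .node dF_1435 dF_1466
def dF_1470 : BT := .node dF_1468 dF_1469
def dF_1473 : BT := .node dF_1471 dF_1472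
def dF_1474 : BT := .node dF_1470 dF_1473
def dF_1477 : BT := .node dF_1475 dF_1476
def dF_1480 : BT := .node dF_1478 dF_1479
def dF_1481 : BT := .node dF_1477 dF_1480
def dF_1482 : BT := .node dF_1474 dF_1481
def dF_1485 : BT := .node dF_1483 dF_1484
def dF_1488 : BT := .node dF_1486 dF_1487
def dF_1489 : BT := .node dF_1485 dF_1488
def dF_1492 : BT := .node dF_1490 dF_1491
def dF_1495 : BT := .node dF_1493 dF_1494
def dF_1496 : BT := .node dF_1492 dF_1495
def dF_1497 : BT := .node dF_1489 dF_1496
def dF_1498 : BT := .node dF_1482 dF_1497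
def dF_1501 : BT := .node dF_1499 dF_1500
def dF_1504 : BT := .node dF_1502 dF_1503
def dF_1505 : BT := .node dF_1501 dF_1504
def dF_1508 : BT := .node dF_1506 dF_1507
def dF_1511 : BT := .node dF_1509 dF_1510
def dF_1512 : BT := .node dF_1508 dF_1511
def dF_1513 : BT := .node dF_1505 dF_1512
def dF_1516 : BT := .node dF_1514 dF_1515
def dF_1519 : BT := .node dF_1517 dF_1518
def dF_1520 : BT := .node dF_1516 dF_1519
def dF_1523 : BT := .node dF_1521 dF_1522
def dF_1526 : BT := .node dF_1524 dF_1525
def dF_1527 : BT := .node dF_1523 dF_1526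
def dF_1528 : BT := .node dF_1520 dF_1527
def dF_1529 : BT := .node dF_1513 dF_1528
def dF_1530 : BT := .node dF_1498 dF_1529
def dF_1531 : BT := .node dF_1467 dF_1530
def dF_1532 : BT := .node dF_1404 dF_1531
def dF_1533 : BT := .node dF_1277 dF_1532
def dF_1536 : BT := .node dF_1534 dF_1535
def dF_1539 : BT := .node dF_1537 dF_1538
def dF_1540 : BT := .node dF_1536 dF_1539
def dF_1543 : BT := .node dF_1541 dF_1542
def dF_1546 : BT := .node dF_1544 dF_1545
def dF_1547 : BT := .node dF_1543 dF_1546
def dF_1548 : BT := .node dF_1540 dF_1547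
def dF_1551 : BT := .node dF_1549 dF_1550
def dF_1554 : BT := .node dF_1552 dF_1553
def dF_1555 : BT := .node dF_1551 dF_1554
def dF_1558 : BT := .node dF_1556 dF_1557
def dF_1561 : BT := .node dF_1559 dF_1560
def dF_1562 : BT := .node dF_1558 dF_1561
def dF_1563 : BT := .node dF_1555 dF_1562
def dF_1564 : BT := .node dF_1548 dF_1563
def dF_1567 : BT := .node dF_1565 dF_1566
def dF_1570 : BT := .node dF_1568 dF_1569
def dF_1571 : BT := .node dF_1567 dF_1570
def dF_1574 : BT := .node dF_1572 dF_1573
def dF_1577 : BT := .node dF_1575 dF_1576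
def dF_1578 : BT := .node dF_1574 dF_1577
def dF_1579 : BT := .node dF_1571 dF_1578
def dF_1582 : BT := .node dF_1580 dF_1581
def dF_1585 : BT := .node dF_1583 dF_1584
def dF_1586 : BT := .node dF_1582 dF_1585
def dF_1589 : BT := .node dF_1587 dF_1588
def dF_1592 : BT := .node dF_1590 dF_1591
def dF_1593 : BT := .node dF_1589 dF_1592
def dF_1594 : BT := .node dF_1586 dF_1593
def dF_1595 : BT := .node dF_1579 dF_1594
def dF_1596 : BT := .node dF_1564 dF_1595
def dF_1599 : BT := .node dF_1597 dF_1598
def dF_1602 : BT := .node dF_1600 dF_1601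
def dF_1603 : BT := .node dF_1599 dF_1602
def dF_1606 : BT := .node dF_1604 dF_1605
def dF_1609 : BT := .node dF_1607 dF_1608
def dF_1610 : BT := .node dF_1606 dF_1609
def dF_1611 : BT := .node dF_1603 dF_1610
def dF_1614 : BT := .node dF_1612 dF_1613
def dF_1617 : BT := .node dF_1615 dF_1616
def dF_1618 : BT := .node dF_1614 dF_1617
def dF_1621 : BT := .node dF_1619 dF_1620
def dF_1624 : BT := .node dF_1622 dF_1623
def dF_1625 : BT := .node dF_1621 dF_1624
def dF_1626 : BT := .node dF_1618 dF_1625
def dF_1627 : BT := .node dF_1611 dF_1626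
def dF_1630 : BT := .node dF_1628 dF_1629
def dF_1633 : BT := .node dF_1631 dF_1632
def dF_1634 : BT := .node dF_1630 dF_1633
def dF_1637 : BT := .node dF_1635 dF_1636
def dF_1640 : BT := .node dF_1638 dF_1639
def dF_1641 : BT := .node dF_1637 dF_1640
def dF_1642 : BT := .node dF_1634 dF_1641
def dF_1645 : BT := .node dF_1643 dF_1644
def dF_1648 : BT := .node dF_1646 dF_1647
def dF_1649 : BT := .node dF_1645 dF_1648
def dF_1652 : BT := .node dF_1650 dF_1651
def dF_1655 : BT := .node dF_1653 dF_1654
def dF_1656 : BT := .node dF_1652 dF_1655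
def dF_1657 : BT := .node dF_1649 dF_1656
def dF_1658 : BT := .node dF_1642 dF_1657
def dF_1659 : BT := .node dF_1627 dF_1658
def dF_1660 : BT := .node dF_1596 dF_1659
def dF_1663 : BT := .node dF_1661 dF_1662
def dF_1666 : BT := .node dF_1664 dF_1665
def dF_1667 : BT := .node dF_1663 dF_1666
def dF_1670 : BT := .node dF_1668 dF_1669
def dF_1673 : BT := .node dF_1671 dF_1672
def dF_1674 : BT := .node dF_1670 dF_1673
def dF_1675 : BT := .node dF_1667 dF_1674
def dF_1678 : BT := .node dF_1676 dF_1677
def dF_1681 : BT := .node dF_1679 dF_1680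
def dF_1682 : BT := .node dF_1678 dF_1681
def dF_1685 : BT := .node dF_1683 dF_1684
def dF_1688 : BT := .node dF_1686 dF_1687
def dF_1689 : BT := .node dF_1685 dF_1688
def dF_1690 : BT := .node dF_1682 dF_1689
def dF_1691 : BT := .node dF_1675 dF_1690
def dF_1694 : BT := .node dF_1692 dF_1693
def dF_1697 : BT := .node dF_1695 dF_1696
def dF_1698 : BT := .node dF_1694 dF_1697
def dF_1701 : BT := .node dF_1699 dF_1700
def dF_1704 : BT := .node dF_1702 dF_1703
def dF_1705 : BT := .node dF_1701 dF_1704
def dF_1706 : BT := .node dF_1698 dF_1705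
def dF_1709 : BT := .node dF_1707 dF_1708
def dF_1712 : BT := .node dF_1710 dF_1711
def dF_1713 : BT := .node dF_1709 dF_1712
def dF_1716 : BT := .node dF_1714 dF_1715
def dF_1719 : BT := .node dF_1717 dF_1718
def dF_1720 : BT := .node dF_1716 dF_1719
def dF_1721 : BT := .node dF_1713 dF_1720
def dF_1722 : BT := .node dF_1706 dF_1721
def dF_1723 : BT := .node dF_1691 dF_1722
def dF_1726 : BT := .node dF_1724 dF_1725
def dF_1729 : BT := .node dF_1727 dF_1728
def dF_1730 : BT := .node dF_1726 dF_1729
def dF_1733 : BT := .node dF_1731 dF_1732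
def dF_1736 : BT := .node dF_1734 dF_1735
def dF_1737 : BT := .node dF_1733 dF_1736
def dF_1738 : BT := .node dF_1730 dF_1737
def dF_1741 : BT := .node dF_1739 dF_1740
def dF_1744 : BT := .node dF_1742 dF_1743
def dF_1745 : BT := .node dF_1741 dF_1744
def dF_1748 : BT := .node dF_1746 dF_1747
def dF_1751 : BT := .node dF_1749 dF_1750
def dF_1752 : BT := .node dF_1748 dF_1751
def dF_1753 : BT := .node dF_1745 dF_1752
def dF_1754 : BT := .node dF_1738 dF_1753
def dF_1757 : BT := .node dF_1755 dF_1756
def dF_1760 : BT := .node dF_1758 dF_1759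
def dF_1761 : BT := .node dF_1757 dF_1760
def dF_1764 : BT := .node dF_1762 dF_1763
def dF_1767 : BT := .node dF_1765 dF_1766
def dF_1768 : BT := .node dF_1764 dF_1767
def dF_1769 : BT := .node dF_1761 dF_1768
def dF_1772 : BT := .node dF_1770 dF_1771
def dF_1775 : BT := .node dF_1773 dF_1774
def dF_1776 : BT := .node dF_1772 dF_1775
def dF_1779 : BT := .node dF_1777 dF_1778
def dF_1782 : BT := .node dF_1780 dF_1781
def dF_1783 : BT := .node dF_1779 dF_1782
def dF_1784 : BT := .node dF_1776 dF_1783
def dF_1785 : BT := .node dF_1769 dF_1784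
def dF_1786 : BT := .node dF_1754 dF_1785
def dF_1787 : BT := .node dF_1723 dF_1786
def dF_1788 : BT := .node dF_1660 dF_1787
def dF_1791 : BT := .node dF_1789 dF_1790
def dF_1794 : BT := .node dF_1792 dF_1793
def dF_1795 : BT := .node dF_1791 dF_1794
def dF_1798 : BT := .node dF_1796 dF_1797
def dF_1801 : BT := .node dF_1799 dF_1800
def dF_1802 : BT := .node dF_1798 dF_1801
def dF_1803 : BT := .node dF_1795 dF_1802
def dF_1806 : BT := .node dF_1804 dF_1805
def dF_1809 : BT := .node dF_1807 dF_1808
def dF_1810 : BT := .node dF_1806 dF_1809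
def dF_1813 : BT := .node dF_1811 dF_1812
def dF_1816 : BT := .node dF_1814 dF_1815
def dF_1817 : BT := .node dF_1813 dF_1816
def dF_1818 : BT := .node dF_1810 dF_1817
def dF_1819 : BT := .node dF_1803 dF_1818
def dF_1822 : BT := .node dF_1820 dF_1821
def dF_1825 : BT := .node dF_1823 dF_1824
def dF_1826 : BT := .node dF_1822 dF_1825
def dF_1829 : BT := .node dF_1827 dF_1828
def dF_1832 : BT := .node dF_1830 dF_1831
def dF_1833 : BT := .node dF_1829 dF_1832
def dF_1834 : BT := .node dF_1826 dF_1833
def dF_1837 : BT := .node dF_1835 dF_1836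
def dF_1840 : BT := .node dF_1838 dF_1839
def dF_1841 : BT := .node dF_1837 dF_1840
def dF_1844 : BT := .node dF_1842 dF_1843
def dF_1847 : BT := .node dF_1845 dF_1846
def dF_1848 : BT := .node dF_1844 dF_1847
def dF_1849 : BT := .node dF_1841 dF_1848
def dF_1850 : BT := .node dF_1834 dF_1849
def dF_1851 : BT := .node dF_1819 dF_1850
def dF_1854 : BT := .node dF_1852 dF_1853
def dF_1857 : BT := .node dF_1855 dF_1856
def dF_1858 : BT := .node dF_1854 dF_1857
def dF_1861 : BT := .node dF_1859 dF_1860
def dF_1864 : BT := .node dF_1862 dF_1863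
def dF_1865 : BT := .node dF_1861 dF_1864
def dF_1866 : BT := .node dF_1858 dF_1865
def dF_1869 : BT := .node dF_1867 dF_1868
def dF_1872 : BT := .node dF_1870 dF_1871
def dF_1873 : BT := .node dF_1869 dF_1872
def dF_1876 : BT := .node dF_1874 dF_1875
def dF_1879 : BT := .node dF_1877 dF_1878
def dF_1880 : BT := .node dF_1876 dF_1879
def dF_1881 : BT := .node dF_1873 dF_1880
def dF_1882 : BT := .node dF_1866 dF_1881
def dF_1885 : BT := .node dF_1883 dF_1884
def dF_1888 : BT := .node dF_1886 dF_1887
def dF_1889 : BT := .node dF_1885 dF_1888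
def dF_1892 : BT := .node dF_1890 dF_1891
def dF_1895 : BT := .node dF_1893 dF_1894
def dF_1896 : BT := .node dF_1892 dF_1895
def dF_1897 : BT := .node dF_1889 dF_1896
def dF_1900 : BT := .node dF_1898 dF_1899
def dF_1903 : BT := .node dF_1901 dF_1902
def dF_1904 : BT := .node dF_1900 dF_1903
def dF_1907 : BT := .node dF_1905 dF_1906
def dF_1910 : BT := .node dF_1908 dF_1909
def dF_1911 : BT := .node dF_1907 dF_1910
def dF_1912 : BT := .node dF_1904 dF_1911
def dF_1913 : BT := .node dF_1897 dF_1912
def dF_1914 : BT := .node dF_1882 dF_1913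
def dF_1915 : BT := .node dF_1851 dF_1914
def dF_1918 : BT := .node dF_1916 dF_1917
def dF_1921 : BT := .node dF_1919 dF_1920
def dF_1922 : BT := .node dF_1918 dF_1921
def dF_1925 : BT := .node dF_1923 dF_1924
def dF_1928 : BT := .node dF_1926 dF_1927
def dF_1929 : BT := .node dF_1925 dF_1928
def dF_1930 : BT := .node dF_1922 dF_1929
def dF_1933 : BT := .node dF_1931 dF_1932
def dF_1936 : BT := .node dF_1934 dF_1935
def dF_1937 : BT := .node dF_1933 dF_1936
def dF_1940 : BT := .node dF_1938 dF_1939
def dF_1943 : BT := .node dF_1941 dF_1942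
def dF_1944 : BT := .node dF_1940 dF_1943
def dF_1945 : BT := .node dF_1937 dF_1944
def dF_1946 : BT := .node dF_1930 dF_1945
def dF_1949 : BT := .node dF_1947 dF_1948
def dF_1952 : BT := .node dF_1950 dF_1951
def dF_1953 : BT := .node dF_1949 dF_1952
def dF_1956 : BT := .node dF_1954 dF_1955
def dF_1959 : BT := .node dF_1957 dF_1958
def dF_1960 : BT := .node dF_1956 dF_1959
def dF_1961 : BT := .node dF_1953 dF_1960
def dF_1964 : BT := .node dF_1962 dF_1963
def dF_1967 : BT := .node dF_1965 dF_1966
def dF_1968 : BT := .node dF_1964 dF_1967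
def dF_1971 : BT := .node dF_1969 dF_1970
def dF_1974 : BT := .node dF_1972 dF_1973
def dF_1975 : BT := .node dF_1971 dF_1974
def dF_1976 : BT := .node dF_1968 dF_1975
def dF_1977 : BT := .node dF_1961 dF_1976
def dF_1978 : BT := .node dF_1946 dF_1977
def dF_1981 : BT := .node dF_1979 dF_1980
def dF_1984 : BT := .node dF_1982 dF_1983
def dF_1985 : BT := .node dF_1981 dF_1984
def dF_1988 : BT := .node dF_1986 dF_1987
def dF_1991 : BT := .node dF_1989 dF_1990
def dF_1992 : BT := .node dF_1988 dF_1991
def dF_1993 : BT := .node dF_1985 dF_1992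
def dF_1996 : BT := .node dF_1994 dF_1995
def dF_1999 : BT := .node dF_1997 dF_1998
def dF_2000 : BT := .node dF_1996 dF_1999
def dF_2003 : BT := .node dF_2001 dF_2002
def dF_2006 : BT := .node dF_2004 dF_2005
def dF_2007 : BT := .node dF_2003 dF_2006
def dF_2008 : BT := .node dF_2000 dF_2007
def dF_2009 : BT := .node dF_1993 dF_2008
def dF_2012 : BT := .node dF_2010 dF_2011
def dF_2015 : BT := .node dF_2013 dF_2014
def dF_2016 : BT := .node dF_2012 dF_2015
def dF_2019 : BT := .node dF_2017 dF_2018
def dF_2022 : BT := .node dF_2020 dF_2021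
def dF_2023 : BT := .node dF_2019 dF_2022
def dF_2024 : BT := .node dF_2016 dF_2023
def dF_2027 : BT := .node dF_2025 dF_2026
def dF_2030 : BT := .node dF_2028 dF_2029
def dF_2031 : BT := .node dF_2027 dF_2030
def dF_2034 : BT := .node dF_2032 dF_2033
def dF_2037 : BT := .node dF_2035 dF_2036
def dF_2038 : BT := .node dF_2034 dF_2037
def dF_2039 : BT := .node dF_2031 dF_2038
def dF_2040 : BT := .node dF_2024 dF_2039
def dF_2041 : BT := .node dF_2009 dF_2040
def dF_2042 : BT := .node dF_1978 dF_2041
def dF_2043 : BT := .node dF_1915 dF_2042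
def dF_2044 : BT := .node dF_1788 dF_2043
def dF_2045 : BT := .node dF_1533 dF_2044
def dF_2046 : BT := .node dF_1022 dF_2045
def dF : BT := dF_2046
def dP_2 : BT := .node dP_0 dP_1
def dP_5 : BT := .node dP_3 dP_4
def dP_6 : BT := .node dP_2 dP_5
def dP_9 : BT := .node dP_7 dP_8
def dP_12 : BT := .node dP_10 dP_11
def dP_13 : BT := .node dP_9 dP_12
def dP_14 : BT := .node dP_6 dP_13
def dP_17 : BT := .node dP_15 dP_16
def dP_20 : BT := .node dP_18 dP_19
def dP_21 : BT := .node dP_17 dP_20
def dP_24 : BT := .node dP_22 dP_23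
def dP_27 : BT := .node dP_25 dP_26
def dP_28 : BT := .node dP_24 dP_27
def dP_29 : BT := .node dP_21 dP_28
def dP_30 : BT := .node dP_14 dP_29
def dP_33 : BT := .node dP_31 dP_32
def dP_36 : BT := .node dP_34 dP_35
def dP_37 : BT := .node dP_33 dP_36
def dP_40 : BT := .node dP_38 dP_39
def dP_43 : BT := .node dP_41 dP_42
def dP_44 : BT := .node dP_40 dP_43
def dP_45 : BT := .node dP_37 dP_44
def dP_48 : BT := .node dP_46 dP_47
def dP_51 : BT := .node dP_49 dP_50
def dP_52 : BT := .node dP_48 dP_51
def dP_55 : BT := .node dP_53 dP_54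
def dP_58 : BT := .node dP_56 dP_57
def dP_59 : BT := .node dP_55 dP_58
def dP_60 : BT := .node dP_52 dP_59
def dP_61 : BT := .node dP_45 dP_60
def dP_62 : BT := .node dP_30 dP_61
def dP_65 : BT := .node dP_63 dP_64
def dP_68 : BT := .node dP_66 dP_67
def dP_69 : BT := .node dP_65 dP_68
def dP_72 : BT := .node dP_70 dP_71
def dP_75 : BT := .node dP_73 dP_74
def dP_76 : BT := .node dP_72 dP_75
def dP_77 : BT := .node dP_69 dP_76
def dP_80 : BT := .node dP_78 dP_79
def dP_83 : BT := .node dP_81 dP_82
def dP_84 : BT := .node dP_80 dP_83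
def dP_87 : BT := .node dP_85 dP_86
def dP_90 : BT := .node dP_88 dP_89
def dP_91 : BT := .node dP_87 dP_90
def dP_92 : BT := .node dP_84 dP_91
def dP_93 : BT := .node dP_77 dP_92
def dP_96 : BT := .node dP_94 dP_95
def dP_99 : BT := .node dP_97 dP_98
def dP_100 : BT := .node dP_96 dP_99
def dP_103 : BT := .node dP_101 dP_102
def dP_106 : BT := .node dP_104 dP_105
def dP_107 : BT := .node dP_103 dP_106
def dP_108 : BT := .node dP_100 dP_107
def dP_111 : BT := .node dP_109 dP_110
def dP_114 : BT := .node dP_112 dP_113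
def dP_115 : BT := .node dP_111 dP_114
def dP_118 : BT := .node dP_116 dP_117
def dP_121 : BT := .node dP_119 dP_120
def dP_122 : BT := .node dP_118 dP_121
def dP_123 : BT := .node dP_115 dP_122
def dP_124 : BT := .node dP_108 dP_123
def dP_125 : BT := .node dP_93 dP_124
def dP_126 : BT := .node dP_62 dP_125
def dP_129 : BT := .node dP_127 dP_128
def dP_132 : BT := .node dP_130 dP_131
def dP_133 : BT := .node dP_129 dP_132
def dP_136 : BT := .node dP_134 dP_135
def dP_139 : BT := .node dP_137 dP_138
def dP_140 : BT := .node dP_136 dP_139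
def dP_141 : BT := .node dP_133 dP_140
def dP_144 : BT := .node dP_142 dP_143
def dP_147 : BT := .node dP_145 dP_146
def dP_148 : BT := .node dP_144 dP_147
def dP_151 : BT := .node dP_149 dP_150
def dP_154 : BT := .node dP_152 dP_153
def dP_155 : BT := .node dP_151 dP_154
def dP_156 : BT := .node dP_148 dP_155
def dP_157 : BT := .node dP_141 dP_156
def dP_160 : BT := .node dP_158 dP_159
def dP_163 : BT := .node dP_161 dP_162
def dP_164 : BT := .node dP_160 dP_163
def dP_167 : BT := .node dP_165 dP_166
def dP_170 : BT := .node dP_168 dP_169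
def dP_171 : BT := .node dP_167 dP_170
def dP_172 : BT := .node dP_164 dP_171
def dP_175 : BT := .node dP_173 dP_174
def dP_178 : BT := .node dP_176 dP_177
def dP_179 : BT := .node dP_175 dP_178
def dP_182 : BT := .node dP_180 dP_181
def dP_185 : BT := .node dP_183 dP_184
def dP_186 : BT := .node dP_182 dP_185
def dP_187 : BT := .node dP_179 dP_186
def dP_188 : BT := .node dP_172 dP_187
def dP_189 : BT := .node dP_157 dP_188
def dP_192 : BT := .node dP_190 dP_191
def dP_195 : BT := .node dP_193 dP_194
def dP_196 : BT := .node dP_192 dP_195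
def dP_199 : BT := .node dP_197 dP_198
def dP_202 : BT := .node dP_200 dP_201
def dP_203 : BT := .node dP_199 dP_202
def dP_204 : BT := .node dP_196 dP_203
def dP_207 : BT := .node dP_205 dP_206
def dP_210 : BT := .node dP_208 dP_209
def dP_211 : BT := .node dP_207 dP_210
def dP_214 : BT := .node dP_212 dP_213
def dP_217 : BT := .node dP_215 dP_216
def dP_218 : BT := .node dP_214 dP_217
def dP_219 : BT := .node dP_211 dP_218
def dP_220 : BT := .node dP_204 dP_219
def dP_223 : BT := .node dP_221 dP_222
def dP_226 : BT := .node dP_224 dP_225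
def dP_227 : BT := .node dP_223 dP_226
def dP_230 : BT := .node dP_228 dP_229
def dP_233 : BT := .node dP_231 dP_232
def dP_234 : BT := .node dP_230 dP_233
def dP_235 : BT := .node dP_227 dP_234
def dP_238 : BT := .node dP_236 dP_237
def dP_241 : BT := .node dP_239 dP_240
def dP_242 : BT := .node dP_238 dP_241
def dP_245 : BT := .node dP_243 dP_244
def dP_248 : BT := .node dP_246 dP_247
def dP_249 : BT := .node dP_245 dP_248
def dP_250 : BT := .node dP_242 dP_249
def dP_251 : BT := .node dP_235 dP_250
def dP_252 : BT := .node dP_220 dP_251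
def dP_253 : BT := .node dP_189 dP_252
def dP_254 : BT := .node dP_126 dP_253
def dP : BT := dP_254
def dD : Data := ⟨15, dF, dP, dRels, [0, 2, 4, 6, 8, 10]⟩
def dLive_2 : BT := .node dLive_0 dLive_1
def dLive_5 : BT := .node dLive_3 dLive_4
def dLive_6 : BT := .node dLive_2 dLive_5
def dLive_9 : BT := .node dLive_7 dLive_8
def dLive_12 : BT := .node dLive_10 dLive_11
def dLive_13 : BT := .node dLive_9 dLive_12
def dLive_14 : BT := .node dLive_6 dLive_13
def dLive_17 : BT := .node dLive_15 dLive_16
def dLive_20 : BT := .node dLive_18 dLive_19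
def dLive_21 : BT := .node dLive_17 dLive_20
def dLive_24 : BT := .node dLive_22 dLive_23
def dLive_27 : BT := .node dLive_25 dLive_26
def dLive_28 : BT := .node dLive_24 dLive_27
def dLive_29 : BT := .node dLive_21 dLive_28
def dLive_30 : BT := .node dLive_14 dLive_29
def dLive_33 : BT := .node dLive_31 dLive_32
def dLive_36 : BT := .node dLive_34 dLive_35
def dLive_37 : BT := .node dLive_33 dLive_36
def dLive_40 : BT := .node dLive_38 dLive_39
def dLive_43 : BT := .node dLive_41 dLive_42
def dLive_44 : BT := .node dLive_40 dLive_43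
def dLive_45 : BT := .node dLive_37 dLive_44
def dLive_48 : BT := .node dLive_46 dLive_47
def dLive_51 : BT := .node dLive_49 dLive_50
def dLive_52 : BT := .node dLive_48 dLive_51
def dLive_55 : BT := .node dLive_53 dLive_54
def dLive_58 : BT := .node dLive_56 dLive_57
def dLive_59 : BT := .node dLive_55 dLive_58
def dLive_60 : BT := .node dLive_52 dLive_59
def dLive_61 : BT := .node dLive_45 dLive_60
def dLive_62 : BT := .node dLive_30 dLive_61
def dLive : BT := dLive_62
def dPos_2 : BT := .node dPos_0 dPos_1
def dPos_5 : BT := .node dPos_3 dPos_4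
def dPos_6 : BT := .node dPos_2 dPos_5
def dPos_9 : BT := .node dPos_7 dPos_8
def dPos_12 : BT := .node dPos_10 dPos_11
def dPos_13 : BT := .node dPos_9 dPos_12
def dPos_14 : BT := .node dPos_6 dPos_13
def dPos_17 : BT := .node dPos_15 dPos_16
def dPos_20 : BT := .node dPos_18 dPos_19
def dPos_21 : BT := .node dPos_17 dPos_20
def dPos_24 : BT := .node dPos_22 dPos_23
def dPos_27 : BT := .node dPos_25 dPos_26
def dPos_28 : BT := .node dPos_24 dPos_27
def dPos_29 : BT := .node dPos_21 dPos_28
def dPos_30 : BT := .node dPos_14 dPos_29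
def dPos_33 : BT := .node dPos_31 dPos_32
def dPos_36 : BT := .node dPos_34 dPos_35
def dPos_37 : BT := .node dPos_33 dPos_36
def dPos_40 : BT := .node dPos_38 dPos_39
def dPos_43 : BT := .node dPos_41 dPos_42
def dPos_44 : BT := .node dPos_40 dPos_43
def dPos_45 : BT := .node dPos_37 dPos_44
def dPos_48 : BT := .node dPos_46 dPos_47
def dPos_51 : BT := .node dPos_49 dPos_50
def dPos_52 : BT := .node dPos_48 dPos_51
def dPos_55 : BT := .node dPos_53 dPos_54
def dPos_58 : BT := .node dPos_56 dPos_57
def dPos_59 : BT := .node dPos_55 dPos_58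
def dPos_60 : BT := .node dPos_52 dPos_59
def dPos_61 : BT := .node dPos_45 dPos_60
def dPos_62 : BT := .node dPos_30 dPos_61
def dPos_65 : BT := .node dPos_63 dPos_64
def dPos_68 : BT := .node dPos_66 dPos_67
def dPos_69 : BT := .node dPos_65 dPos_68
def dPos_72 : BT := .node dPos_70 dPos_71
def dPos_75 : BT := .node dPos_73 dPos_74
def dPos_76 : BT := .node dPos_72 dPos_75
def dPos_77 : BT := .node dPos_69 dPos_76
def dPos_80 : BT := .node dPos_78 dPos_79
def dPos_83 : BT := .node dPos_81 dPos_82
def dPos_84 : BT := .node dPos_80 dPos_83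
def dPos_87 : BT := .node dPos_85 dPos_86
def dPos_90 : BT := .node dPos_88 dPos_89
def dPos_91 : BT := .node dPos_87 dPos_90
def dPos_92 : BT := .node dPos_84 dPos_91
def dPos_93 : BT := .node dPos_77 dPos_92
def dPos_96 : BT := .node dPos_94 dPos_95
def dPos_99 : BT := .node dPos_97 dPos_98
def dPos_100 : BT := .node dPos_96 dPos_99
def dPos_103 : BT := .node dPos_101 dPos_102
def dPos_106 : BT := .node dPos_104 dPos_105
def dPos_107 : BT := .node dPos_103 dPos_106
def dPos_108 : BT := .node dPos_100 dPos_107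
def dPos_111 : BT := .node dPos_109 dPos_110
def dPos_114 : BT := .node dPos_112 dPos_113
def dPos_115 : BT := .node dPos_111 dPos_114
def dPos_118 : BT := .node dPos_116 dPos_117
def dPos_121 : BT := .node dPos_119 dPos_120
def dPos_122 : BT := .node dPos_118 dPos_121
def dPos_123 : BT := .node dPos_115 dPos_122
def dPos_124 : BT := .node dPos_108 dPos_123
def dPos_125 : BT := .node dPos_93 dPos_124
def dPos_126 : BT := .node dPos_62 dPos_125
def dPos_129 : BT := .node dPos_127 dPos_128
def dPos_132 : BT := .node dPos_130 dPos_131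
def dPos_133 : BT := .node dPos_129 dPos_132
def dPos_136 : BT := .node dPos_134 dPos_135
def dPos_139 : BT := .node dPos_137 dPos_138
def dPos_140 : BT := .node dPos_136 dPos_139
def dPos_141 : BT := .node dPos_133 dPos_140
def dPos_144 : BT := .node dPos_142 dPos_143
def dPos_147 : BT := .node dPos_145 dPos_146
def dPos_148 : BT := .node dPos_144 dPos_147
def dPos_151 : BT := .node dPos_149 dPos_150
def dPos_154 : BT := .node dPos_152 dPos_153
def dPos_155 : BT := .node dPos_151 dPos_154
def dPos_156 : BT := .node dPos_148 dPos_155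
def dPos_157 : BT := .node dPos_141 dPos_156
def dPos_160 : BT := .node dPos_158 dPos_159
def dPos_163 : BT := .node dPos_161 dPos_162
def dPos_164 : BT := .node dPos_160 dPos_163
def dPos_167 : BT := .node dPos_165 dPos_166
def dPos_170 : BT := .node dPos_168 dPos_169
def dPos_171 : BT := .node dPos_167 dPos_170
def dPos_172 : BT := .node dPos_164 dPos_171
def dPos_175 : BT := .node dPos_173 dPos_174
def dPos_178 : BT := .node dPos_176 dPos_177
def dPos_179 : BT := .node dPos_175 dPos_178
def dPos_182 : BT := .node dPos_180 dPos_181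
def dPos_185 : BT := .node dPos_183 dPos_184
def dPos_186 : BT := .node dPos_182 dPos_185
def dPos_187 : BT := .node dPos_179 dPos_186
def dPos_188 : BT := .node dPos_172 dPos_187
def dPos_189 : BT := .node dPos_157 dPos_188
def dPos_192 : BT := .node dPos_190 dPos_191
def dPos_195 : BT := .node dPos_193 dPos_194
def dPos_196 : BT := .node dPos_192 dPos_195
def dPos_199 : BT := .node dPos_197 dPos_198
def dPos_202 : BT := .node dPos_200 dPos_201
def dPos_203 : BT := .node dPos_199 dPos_202
def dPos_204 : BT := .node dPos_196 dPos_203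
def dPos_207 : BT := .node dPos_205 dPos_206
def dPos_210 : BT := .node dPos_208 dPos_209
def dPos_211 : BT := .node dPos_207 dPos_210
def dPos_214 : BT := .node dPos_212 dPos_213
def dPos_217 : BT := .node dPos_215 dPos_216
def dPos_218 : BT := .node dPos_214 dPos_217
def dPos_219 : BT := .node dPos_211 dPos_218
def dPos_220 : BT := .node dPos_204 dPos_219
def dPos_223 : BT := .node dPos_221 dPos_222
def dPos_226 : BT := .node dPos_224 dPos_225
def dPos_227 : BT := .node dPos_223 dPos_226
def dPos_230 : BT := .node dPos_228 dPos_229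
def dPos_233 : BT := .node dPos_231 dPos_232
def dPos_234 : BT := .node dPos_230 dPos_233
def dPos_235 : BT := .node dPos_227 dPos_234
def dPos_238 : BT := .node dPos_236 dPos_237
def dPos_241 : BT := .node dPos_239 dPos_240
def dPos_242 : BT := .node dPos_238 dPos_241
def dPos_245 : BT := .node dPos_243 dPos_244
def dPos_248 : BT := .node dPos_246 dPos_247
def dPos_249 : BT := .node dPos_245 dPos_248
def dPos_250 : BT := .node dPos_242 dPos_249
def dPos_251 : BT := .node dPos_235 dPos_250
def dPos_252 : BT := .node dPos_220 dPos_251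
def dPos_253 : BT := .node dPos_189 dPos_252
def dPos_254 : BT := .node dPos_126 dPos_253
def dPos : BT := dPos_254
def dFin_2 : BT := .node dFin_0 dFin_1
def dFin_5 : BT := .node dFin_3 dFin_4
def dFin_6 : BT := .node dFin_2 dFin_5
def dFin_9 : BT := .node dFin_7 dFin_8
def dFin_12 : BT := .node dFin_10 dFin_11
def dFin_13 : BT := .node dFin_9 dFin_12
def dFin_14 : BT := .node dFin_6 dFin_13
def dFin_17 : BT := .node dFin_15 dFin_16
def dFin_20 : BT := .node dFin_18 dFin_19
def dFin_21 : BT := .node dFin_17 dFin_20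
def dFin_24 : BT := .node dFin_22 dFin_23
def dFin_27 : BT := .node dFin_25 dFin_26
def dFin_28 : BT := .node dFin_24 dFin_27
def dFin_29 : BT := .node dFin_21 dFin_28
def dFin_30 : BT := .node dFin_14 dFin_29
def dFin_33 : BT := .node dFin_31 dFin_32
def dFin_36 : BT := .node dFin_34 dFin_35
def dFin_37 : BT := .node dFin_33 dFin_36
def dFin_40 : BT := .node dFin_38 dFin_39
def dFin_43 : BT := .node dFin_41 dFin_42
def dFin_44 : BT := .node dFin_40 dFin_43
def dFin_45 : BT := .node dFin_37 dFin_44
def dFin_48 : BT := .node dFin_46 dFin_47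
def dFin_51 : BT := .node dFin_49 dFin_50
def dFin_52 : BT := .node dFin_48 dFin_51
def dFin_55 : BT := .node dFin_53 dFin_54
def dFin_58 : BT := .node dFin_56 dFin_57
def dFin_59 : BT := .node dFin_55 dFin_58
def dFin_60 : BT := .node dFin_52 dFin_59
def dFin_61 : BT := .node dFin_45 dFin_60
def dFin_62 : BT := .node dFin_30 dFin_61
def dFin_65 : BT := .node dFin_63 dFin_64
def dFin_68 : BT := .node dFin_66 dFin_67
def dFin_69 : BT := .node dFin_65 dFin_68
def dFin_72 : BT := .node dFin_70 dFin_71
def dFin_75 : BT := .node dFin_73 dFin_74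
def dFin_76 : BT := .node dFin_72 dFin_75
def dFin_77 : BT := .node dFin_69 dFin_76
def dFin_80 : BT := .node dFin_78 dFin_79
def dFin_83 : BT := .node dFin_81 dFin_82
def dFin_84 : BT := .node dFin_80 dFin_83
def dFin_87 : BT := .node dFin_85 dFin_86
def dFin_90 : BT := .node dFin_88 dFin_89
def dFin_91 : BT := .node dFin_87 dFin_90
def dFin_92 : BT := .node dFin_84 dFin_91
def dFin_93 : BT := .node dFin_77 dFin_92
def dFin_96 : BT := .node dFin_94 dFin_95
def dFin_99 : BT := .node dFin_97 dFin_98
def dFin_100 : BT := .node dFin_96 dFin_99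
def dFin_103 : BT := .node dFin_101 dFin_102
def dFin_106 : BT := .node dFin_104 dFin_105
def dFin_107 : BT := .node dFin_103 dFin_106
def dFin_108 : BT := .node dFin_100 dFin_107
def dFin_111 : BT := .node dFin_109 dFin_110
def dFin_114 : BT := .node dFin_112 dFin_113
def dFin_115 : BT := .node dFin_111 dFin_114
def dFin_118 : BT := .node dFin_116 dFin_117
def dFin_121 : BT := .node dFin_119 dFin_120
def dFin_122 : BT := .node dFin_118 dFin_121
def dFin_123 : BT := .node dFin_115 dFin_122
def dFin_124 : BT := .node dFin_108 dFin_123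
def dFin_125 : BT := .node dFin_93 dFin_124
def dFin_126 : BT := .node dFin_62 dFin_125
def dFin_129 : BT := .node dFin_127 dFin_128
def dFin_132 : BT := .node dFin_130 dFin_131
def dFin_133 : BT := .node dFin_129 dFin_132
def dFin_136 : BT := .node dFin_134 dFin_135
def dFin_139 : BT := .node dFin_137 dFin_138
def dFin_140 : BT := .node dFin_136 dFin_139
def dFin_141 : BT := .node dFin_133 dFin_140
def dFin_144 : BT := .node dFin_142 dFin_143
def dFin_147 : BT := .node dFin_145 dFin_146
def dFin_148 : BT := .node dFin_144 dFin_147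
def dFin_151 : BT := .node dFin_149 dFin_150
def dFin_154 : BT := .node dFin_152 dFin_153
def dFin_155 : BT := .node dFin_151 dFin_154
def dFin_156 : BT := .node dFin_148 dFin_155
def dFin_157 : BT := .node dFin_141 dFin_156
def dFin_160 : BT := .node dFin_158 dFin_159
def dFin_163 : BT := .node dFin_161 dFin_162
def dFin_164 : BT := .node dFin_160 dFin_163
def dFin_167 : BT := .node dFin_165 dFin_166
def dFin_170 : BT := .node dFin_168 dFin_169
def dFin_171 : BT := .node dFin_167 dFin_170
def dFin_172 : BT := .node dFin_164 dFin_171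
def dFin_175 : BT := .node dFin_173 dFin_174
def dFin_178 : BT := .node dFin_176 dFin_177
def dFin_179 : BT := .node dFin_175 dFin_178
def dFin_182 : BT := .node dFin_180 dFin_181
def dFin_185 : BT := .node dFin_183 dFin_184
def dFin_186 : BT := .node dFin_182 dFin_185
def dFin_187 : BT := .node dFin_179 dFin_186
def dFin_188 : BT := .node dFin_172 dFin_187
def dFin_189 : BT := .node dFin_157 dFin_188
def dFin_192 : BT := .node dFin_190 dFin_191
def dFin_195 : BT := .node dFin_193 dFin_194
def dFin_196 : BT := .node dFin_192 dFin_195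
def dFin_199 : BT := .node dFin_197 dFin_198
def dFin_202 : BT := .node dFin_200 dFin_201
def dFin_203 : BT := .node dFin_199 dFin_202
def dFin_204 : BT := .node dFin_196 dFin_203
def dFin_207 : BT := .node dFin_205 dFin_206
def dFin_210 : BT := .node dFin_208 dFin_209
def dFin_211 : BT := .node dFin_207 dFin_210
def dFin_214 : BT := .node dFin_212 dFin_213
def dFin_217 : BT := .node dFin_215 dFin_216
def dFin_218 : BT := .node dFin_214 dFin_217
def dFin_219 : BT := .node dFin_211 dFin_218
def dFin_220 : BT := .node dFin_204 dFin_219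
def dFin_223 : BT := .node dFin_221 dFin_222
def dFin_226 : BT := .node dFin_224 dFin_225
def dFin_227 : BT := .node dFin_223 dFin_226
def dFin_230 : BT := .node dFin_228 dFin_229
def dFin_233 : BT := .node dFin_231 dFin_232
def dFin_234 : BT := .node dFin_230 dFin_233
def dFin_235 : BT := .node dFin_227 dFin_234
def dFin_238 : BT := .node dFin_236 dFin_237
def dFin_241 : BT := .node dFin_239 dFin_240
def dFin_242 : BT := .node dFin_238 dFin_241
def dFin_245 : BT := .node dFin_243 dFin_244
def dFin_248 : BT := .node dFin_246 dFin_247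
def dFin_249 : BT := .node dFin_245 dFin_248
def dFin_250 : BT := .node dFin_242 dFin_249
def dFin_251 : BT := .node dFin_235 dFin_250
def dFin_252 : BT := .node dFin_220 dFin_251
def dFin_253 : BT := .node dFin_189 dFin_252
def dFin_254 : BT := .node dFin_126 dFin_253
def dFin_257 : BT := .node dFin_255 dFin_256
def dFin_260 : BT := .node dFin_258 dFin_259
def dFin_261 : BT := .node dFin_257 dFin_260
def dFin_264 : BT := .node dFin_262 dFin_263
def dFin_267 : BT := .node dFin_265 dFin_266
def dFin_268 : BT := .node dFin_264 dFin_267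
def dFin_269 : BT := .node dFin_261 dFin_268
def dFin_272 : BT := .node dFin_270 dFin_271
def dFin_275 : BT := .node dFin_273 dFin_274
def dFin_276 : BT := .node dFin_272 dFin_275
def dFin_279 : BT := .node dFin_277 dFin_278
def dFin_282 : BT := .node dFin_280 dFin_281
def dFin_283 : BT := .node dFin_279 dFin_282
def dFin_284 : BT := .node dFin_276 dFin_283
def dFin_285 : BT := .node dFin_269 dFin_284
def dFin_288 : BT := .node dFin_286 dFin_287
def dFin_291 : BT := .node dFin_289 dFin_290
def dFin_292 : BT := .node dFin_288 dFin_291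
def dFin_295 : BT := .node dFin_293 dFin_294
def dFin_298 : BT := .node dFin_296 dFin_297
def dFin_299 : BT := .node dFin_295 dFin_298
def dFin_300 : BT := .node dFin_292 dFin_299
def dFin_303 : BT := .node dFin_301 dFin_302
def dFin_306 : BT := .node dFin_304 dFin_305
def dFin_307 : BT := .node dFin_303 dFin_306
def dFin_310 : BT := .node dFin_308 dFin_309
def dFin_313 : BT := .node dFin_311 dFin_312
def dFin_314 : BT := .node dFin_310 dFin_313
def dFin_315 : BT := .node dFin_307 dFin_314
def dFin_316 : BT := .node dFin_300 dFin_315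
def dFin_317 : BT := .node dFin_285 dFin_316
def dFin_320 : BT := .node dFin_318 dFin_319
def dFin_323 : BT := .node dFin_321 dFin_322
def dFin_324 : BT := .node dFin_320 dFin_323
def dFin_327 : BT := .node dFin_325 dFin_326
def dFin_330 : BT := .node dFin_328 dFin_329
def dFin_331 : BT := .node dFin_327 dFin_330
def dFin_332 : BT := .node dFin_324 dFin_331
def dFin_335 : BT := .node dFin_333 dFin_334
def dFin_338 : BT := .node dFin_336 dFin_337
def dFin_339 : BT := .node dFin_335 dFin_338
def dFin_342 : BT := .node dFin_340 dFin_341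
def dFin_345 : BT := .node dFin_343 dFin_344
def dFin_346 : BT := .node dFin_342 dFin_345
def dFin_347 : BT := .node dFin_339 dFin_346
def dFin_348 : BT := .node dFin_332 dFin_347
def dFin_351 : BT := .node dFin_349 dFin_350
def dFin_354 : BT := .node dFin_352 dFin_353
def dFin_355 : BT := .node dFin_351 dFin_354
def dFin_358 : BT := .node dFin_356 dFin_357
def dFin_361 : BT := .node dFin_359 dFin_360
def dFin_362 : BT := .node dFin_358 dFin_361
def dFin_363 : BT := .node dFin_355 dFin_362
def dFin_366 : BT := .node dFin_364 dFin_365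
def dFin_369 : BT := .node dFin_367 dFin_368
def dFin_370 : BT := .node dFin_366 dFin_369
def dFin_373 : BT := .node dFin_371 dFin_372
def dFin_376 : BT := .node dFin_374 dFin_375
def dFin_377 : BT := .node dFin_373 dFin_376
def dFin_378 : BT := .node dFin_370 dFin_377
def dFin_379 : BT := .node dFin_363 dFin_378
def dFin_380 : BT := .node dFin_348 dFin_379
def dFin_381 : BT := .node dFin_317 dFin_380
def dFin_384 : BT := .node dFin_382 dFin_383
def dFin_387 : BT := .node dFin_385 dFin_386
def dFin_388 : BT := .node dFin_384 dFin_387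
def dFin_391 : BT := .node dFin_389 dFin_390
def dFin_394 : BT := .node dFin_392 dFin_393
def dFin_395 : BT := .node dFin_391 dFin_394
def dFin_396 : BT := .node dFin_388 dFin_395
def dFin_399 : BT := .node dFin_397 dFin_398
def dFin_402 : BT := .node dFin_400 dFin_401
def dFin_403 : BT := .node dFin_399 dFin_402
def dFin_406 : BT := .node dFin_404 dFin_405
def dFin_409 : BT := .node dFin_407 dFin_408
def dFin_410 : BT := .node dFin_406 dFin_409
def dFin_411 : BT := .node dFin_403 dFin_410
def dFin_412 : BT := .node dFin_396 dFin_411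
def dFin_415 : BT := .node dFin_413 dFin_414
def dFin_418 : BT := .node dFin_416 dFin_417
def dFin_419 : BT := .node dFin_415 dFin_418
def dFin_422 : BT := .node dFin_420 dFin_421
def dFin_425 : BT := .node dFin_423 dFin_424
def dFin_426 : BT := .node dFin_422 dFin_425
def dFin_427 : BT := .node dFin_419 dFin_426
def dFin_430 : BT := .node dFin_428 dFin_429
def dFin_433 : BT := .node dFin_431 dFin_432
def dFin_434 : BT := .node dFin_430 dFin_433
def dFin_437 : BT := .node dFin_435 dFin_436
def dFin_440 : BT := .node dFin_438 dFin_439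
def dFin_441 : BT := .node dFin_437 dFin_440
def dFin_442 : BT := .node dFin_434 dFin_441
def dFin_443 : BT := .node dFin_427 dFin_442
def dFin_444 : BT := .node dFin_412 dFin_443
def dFin_447 : BT := .node dFin_445 dFin_446
def dFin_450 : BT := .node dFin_448 dFin_449
def dFin_451 : BT := .node dFin_447 dFin_450
def dFin_454 : BT := .node dFin_452 dFin_453
def dFin_457 : BT := .node dFin_455 dFin_456
def dFin_458 : BT := .node dFin_454 dFin_457
def dFin_459 : BT := .node dFin_451 dFin_458
def dFin_462 : BT := .node dFin_460 dFin_461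
def dFin_465 : BT := .node dFin_463 dFin_464
def dFin_466 : BT := .node dFin_462 dFin_465
def dFin_469 : BT := .node dFin_467 dFin_468
def dFin_472 : BT := .node dFin_470 dFin_471
def dFin_473 : BT := .node dFin_469 dFin_472
def dFin_474 : BT := .node dFin_466 dFin_473
def dFin_475 : BT := .node dFin_459 dFin_474
def dFin_478 : BT := .node dFin_476 dFin_477
def dFin_481 : BT := .node dFin_479 dFin_480
def dFin_482 : BT := .node dFin_478 dFin_481
def dFin_485 : BT := .node dFin_483 dFin_484
def dFin_488 : BT := .node dFin_486 dFin_487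
def dFin_489 : BT := .node dFin_485 dFin_488
def dFin_490 : BT := .node dFin_482 dFin_489
def dFin_493 : BT := .node dFin_491 dFin_492
def dFin_496 : BT := .node dFin_494 dFin_495
def dFin_497 : BT := .node dFin_493 dFin_496
def dFin_500 : BT := .node dFin_498 dFin_499
def dFin_503 : BT := .node dFin_501 dFin_502
def dFin_504 : BT := .node dFin_500 dFin_503
def dFin_505 : BT := .node dFin_497 dFin_504
def dFin_506 : BT := .node dFin_490 dFin_505
def dFin_507 : BT := .node dFin_475 dFin_506
def dFin_508 : BT := .node dFin_444 dFin_507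
def dFin_509 : BT := .node dFin_381 dFin_508
def dFin_510 : BT := .node dFin_254 dFin_509
def dFin_513 : BT := .node dFin_511 dFin_512
def dFin_516 : BT := .node dFin_514 dFin_515
def dFin_517 : BT := .node dFin_513 dFin_516
def dFin_520 : BT := .node dFin_518 dFin_519
def dFin_523 : BT := .node dFin_521 dFin_522
def dFin_524 : BT := .node dFin_520 dFin_523
def dFin_525 : BT := .node dFin_517 dFin_524
def dFin_528 : BT := .node dFin_526 dFin_527
def dFin_531 : BT := .node dFin_529 dFin_530
def dFin_532 : BT := .node dFin_528 dFin_531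
def dFin_535 : BT := .node dFin_533 dFin_534
def dFin_538 : BT := .node dFin_536 dFin_537
def dFin_539 : BT := .node dFin_535 dFin_538
def dFin_540 : BT := .node dFin_532 dFin_539
def dFin_541 : BT := .node dFin_525 dFin_540
def dFin_544 : BT := .node dFin_542 dFin_543
def dFin_547 : BT := .node dFin_545 dFin_546
def dFin_548 : BT := .node dFin_544 dFin_547
def dFin_551 : BT := .node dFin_549 dFin_550
def dFin_554 : BT := .node dFin_552 dFin_553
def dFin_555 : BT := .node dFin_551 dFin_554
def dFin_556 : BT := .node dFin_548 dFin_555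
def dFin_559 : BT := .node dFin_557 dFin_558
def dFin_562 : BT := .node dFin_560 dFin_561
def dFin_563 : BT := .node dFin_559 dFin_562
def dFin_566 : BT := .node dFin_564 dFin_565
def dFin_569 : BT := .node dFin_567 dFin_568
def dFin_570 : BT := .node dFin_566 dFin_569
def dFin_571 : BT := .node dFin_563 dFin_570
def dFin_572 : BT := .node dFin_556 dFin_571
def dFin_573 : BT := .node dFin_541 dFin_572
def dFin_576 : BT := .node dFin_574 dFin_575
def dFin_579 : BT := .node dFin_577 dFin_578
def dFin_580 : BT := .node dFin_576 dFin_579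
def dFin_583 : BT := .node dFin_581 dFin_582
def dFin_586 : BT := .node dFin_584 dFin_585
def dFin_587 : BT := .node dFin_583 dFin_586
def dFin_588 : BT := .node dFin_580 dFin_587
def dFin_591 : BT := .node dFin_589 dFin_590
def dFin_594 : BT := .node dFin_592 dFin_593
def dFin_595 : BT := .node dFin_591 dFin_594
def dFin_598 : BT := .node dFin_596 dFin_597
def dFin_601 : BT := .node dFin_599 dFin_600
def dFin_602 : BT := .node dFin_598 dFin_601
def dFin_603 : BT := .node dFin_595 dFin_602
def dFin_604 : BT := .node dFin_588 dFin_603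
def dFin_607 : BT := .node dFin_605 dFin_606
def dFin_610 : BT := .node dFin_608 dFin_609
def dFin_611 : BT := .node dFin_607 dFin_610
def dFin_614 : BT := .node dFin_612 dFin_613
def dFin_617 : BT := .node dFin_615 dFin_616
def dFin_618 : BT := .node dFin_614 dFin_617
def dFin_619 : BT := .node dFin_611 dFin_618
def dFin_622 : BT := .node dFin_620 dFin_621
def dFin_625 : BT := .node dFin_623 dFin_624
def dFin_626 : BT := .node dFin_622 dFin_625
def dFin_629 : BT := .node dFin_627 dFin_628
def dFin_632 : BT := .node dFin_630 dFin_631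
def dFin_633 : BT := .node dFin_629 dFin_632
def dFin_634 : BT := .node dFin_626 dFin_633
def dFin_635 : BT := .node dFin_619 dFin_634
def dFin_636 : BT := .node dFin_604 dFin_635
def dFin_637 : BT := .node dFin_573 dFin_636
def dFin_640 : BT := .node dFin_638 dFin_639
def dFin_643 : BT := .node dFin_641 dFin_642
def dFin_644 : BT := .node dFin_640 dFin_643
def dFin_647 : BT := .node dFin_645 dFin_646
def dFin_650 : BT := .node dFin_648 dFin_649
def dFin_651 : BT := .node dFin_647 dFin_650
def dFin_652 : BT := .node dFin_644 dFin_651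
def dFin_655 : BT := .node dFin_653 dFin_654
def dFin_658 : BT := .node dFin_656 dFin_657
def dFin_659 : BT := .node dFin_655 dFin_658
def dFin_662 : BT := .node dFin_660 dFin_661
def dFin_665 : BT := .node dFin_663 dFin_664
def dFin_666 : BT := .node dFin_662 dFin_665
def dFin_667 : BT := .node dFin_659 dFin_666
def dFin_668 : BT := .node dFin_652 dFin_667
def dFin_671 : BT := .node dFin_669 dFin_670
def dFin_674 : BT := .node dFin_672 dFin_673
def dFin_675 : BT := .node dFin_671 dFin_674
def dFin_678 : BT := .node dFin_676 dFin_677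
def dFin_681 : BT := .node dFin_679 dFin_680
def dFin_682 : BT := .node dFin_678 dFin_681
def dFin_683 : BT := .node dFin_675 dFin_682
def dFin_686 : BT := .node dFin_684 dFin_685
def dFin_689 : BT := .node dFin_687 dFin_688
def dFin_690 : BT := .node dFin_686 dFin_689
def dFin_693 : BT := .node dFin_691 dFin_692
def dFin_696 : BT := .node dFin_694 dFin_695
def dFin_697 : BT := .node dFin_693 dFin_696
def dFin_698 : BT := .node dFin_690 dFin_697
def dFin_699 : BT := .node dFin_683 dFin_698
def dFin_700 : BT := .node dFin_668 dFin_699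
def dFin_703 : BT := .node dFin_701 dFin_702
def dFin_706 : BT := .node dFin_704 dFin_705
def dFin_707 : BT := .node dFin_703 dFin_706
def dFin_710 : BT := .node dFin_708 dFin_709
def dFin_713 : BT := .node dFin_711 dFin_712
def dFin_714 : BT := .node dFin_710 dFin_713
def dFin_715 : BT := .node dFin_707 dFin_714
def dFin_718 : BT := .node dFin_716 dFin_717
def dFin_721 : BT := .node dFin_719 dFin_720
def dFin_722 : BT := .node dFin_718 dFin_721
def dFin_725 : BT := .node dFin_723 dFin_724
def dFin_728 : BT := .node dFin_726 dFin_727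
def dFin_729 : BT := .node dFin_725 dFin_728
def dFin_730 : BT := .node dFin_722 dFin_729
def dFin_731 : BT := .node dFin_715 dFin_730
def dFin_734 : BT := .node dFin_732 dFin_733
def dFin_737 : BT := .node dFin_735 dFin_736
def dFin_738 : BT := .node dFin_734 dFin_737
def dFin_741 : BT := .node dFin_739 dFin_740
def dFin_744 : BT := .node dFin_742 dFin_743
def dFin_745 : BT := .node dFin_741 dFin_744
def dFin_746 : BT := .node dFin_738 dFin_745
def dFin_749 : BT := .node dFin_747 dFin_748
def dFin_752 : BT := .node dFin_750 dFin_751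
def dFin_753 : BT := .node dFin_749 dFin_752
def dFin_756 : BT := .node dFin_754 dFin_755
def dFin_759 : BT := .node dFin_757 dFin_758
def dFin_760 : BT := .node dFin_756 dFin_759
def dFin_761 : BT := .node dFin_753 dFin_760
def dFin_762 : BT := .node dFin_746 dFin_761
def dFin_763 : BT := .node dFin_731 dFin_762
def dFin_764 : BT := .node dFin_700 dFin_763
def dFin_765 : BT := .node dFin_637 dFin_764
def dFin_768 : BT := .node dFin_766 dFin_767
def dFin_771 : BT := .node dFin_769 dFin_770
def dFin_772 : BT := .node dFin_768 dFin_771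
def dFin_775 : BT := .node dFin_773 dFin_774
def dFin_778 : BT := .node dFin_776 dFin_777
def dFin_779 : BT := .node dFin_775 dFin_778
def dFin_780 : BT := .node dFin_772 dFin_779
def dFin_783 : BT := .node dFin_781 dFin_782
def dFin_786 : BT := .node dFin_784 dFin_785
def dFin_787 : BT := .node dFin_783 dFin_786
def dFin_790 : BT := .node dFin_788 dFin_789
def dFin_793 : BT := .node dFin_791 dFin_792
def dFin_794 : BT := .node dFin_790 dFin_793
def dFin_795 : BT := .node dFin_787 dFin_794
def dFin_796 : BT := .node dFin_780 dFin_795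
def dFin_799 : BT := .node dFin_797 dFin_798
def dFin_802 : BT := .node dFin_800 dFin_801
def dFin_803 : BT := .node dFin_799 dFin_802
def dFin_806 : BT := .node dFin_804 dFin_805
def dFin_809 : BT := .node dFin_807 dFin_808
def dFin_810 : BT := .node dFin_806 dFin_809
def dFin_811 : BT := .node dFin_803 dFin_810
def dFin_814 : BT := .node dFin_812 dFin_813
def dFin_817 : BT := .node dFin_815 dFin_816
def dFin_818 : BT := .node dFin_814 dFin_817
def dFin_821 : BT := .node dFin_819 dFin_820
def dFin_824 : BT := .node dFin_822 dFin_823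
def dFin_825 : BT := .node dFin_821 dFin_824
def dFin_826 : BT := .node dFin_818 dFin_825
def dFin_827 : BT := .node dFin_811 dFin_826
def dFin_828 : BT := .node dFin_796 dFin_827
def dFin_831 : BT := .node dFin_829 dFin_830
def dFin_834 : BT := .node dFin_832 dFin_833
def dFin_835 : BT := .node dFin_831 dFin_834
def dFin_838 : BT := .node dFin_836 dFin_837
def dFin_841 : BT := .node dFin_839 dFin_840
def dFin_842 : BT := .node dFin_838 dFin_841
def dFin_843 : BT := .node dFin_835 dFin_842
def dFin_846 : BT := .node dFin_844 dFin_845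
def dFin_849 : BT := .node dFin_847 dFin_848
def dFin_850 : BT := .node dFin_846 dFin_849
def dFin_853 : BT := .node dFin_851 dFin_852
def dFin_856 : BT := .node dFin_854 dFin_855
def dFin_857 : BT := .node dFin_853 dFin_856
def dFin_858 : BT := .node dFin_850 dFin_857
def dFin_859 : BT := .node dFin_843 dFin_858
def dFin_862 : BT := .node dFin_860 dFin_861
def dFin_865 : BT := .node dFin_863 dFin_864
def dFin_866 : BT := .node dFin_862 dFin_865
def dFin_869 : BT := .node dFin_867 dFin_868
def dFin_872 : BT := .node dFin_870 dFin_871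
def dFin_873 : BT := .node dFin_869 dFin_872
def dFin_874 : BT := .node dFin_866 dFin_873
def dFin_877 : BT := .node dFin_875 dFin_876
def dFin_880 : BT := .node dFin_878 dFin_879
def dFin_881 : BT := .node dFin_877 dFin_880
def dFin_884 : BT := .node dFin_882 dFin_883
def dFin_887 : BT := .node dFin_885 dFin_886
def dFin_888 : BT := .node dFin_884 dFin_887
def dFin_889 : BT := .node dFin_881 dFin_888
def dFin_890 : BT := .node dFin_874 dFin_889
def dFin_891 : BT := .node dFin_859 dFin_890
def dFin_892 : BT := .node dFin_828 dFin_891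
def dFin_895 : BT := .node dFin_893 dFin_894
def dFin_898 : BT := .node dFin_896 dFin_897
def dFin_899 : BT := .node dFin_895 dFin_898
def dFin_902 : BT := .node dFin_900 dFin_901
def dFin_905 : BT := .node dFin_903 dFin_904
def dFin_906 : BT := .node dFin_902 dFin_905
def dFin_907 : BT := .node dFin_899 dFin_906
def dFin_910 : BT := .node dFin_908 dFin_909
def dFin_913 : BT := .node dFin_911 dFin_912
def dFin_914 : BT := .node dFin_910 dFin_913
def dFin_917 : BT := .node dFin_915 dFin_916
def dFin_920 : BT := .node dFin_918 dFin_919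
def dFin_921 : BT := .node dFin_917 dFin_920
def dFin_922 : BT := .node dFin_914 dFin_921
def dFin_923 : BT := .node dFin_907 dFin_922
def dFin_926 : BT := .node dFin_924 dFin_925
def dFin_929 : BT := .node dFin_927 dFin_928
def dFin_930 : BT := .node dFin_926 dFin_929
def dFin_933 : BT := .node dFin_931 dFin_932
def dFin_936 : BT := .node dFin_934 dFin_935
def dFin_937 : BT := .node dFin_933 dFin_936
def dFin_938 : BT := .node dFin_930 dFin_937
def dFin_941 : BT := .node dFin_939 dFin_940
def dFin_944 : BT := .node dFin_942 dFin_943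
def dFin_945 : BT := .node dFin_941 dFin_944
def dFin_948 : BT := .node dFin_946 dFin_947
def dFin_951 : BT := .node dFin_949 dFin_950
def dFin_952 : BT := .node dFin_948 dFin_951
def dFin_953 : BT := .node dFin_945 dFin_952
def dFin_954 : BT := .node dFin_938 dFin_953
def dFin_955 : BT := .node dFin_923 dFin_954
def dFin_958 : BT := .node dFin_956 dFin_957
def dFin_961 : BT := .node dFin_959 dFin_960
def dFin_962 : BT := .node dFin_958 dFin_961
def dFin_965 : BT := .node dFin_963 dFin_964
def dFin_968 : BT := .node dFin_966 dFin_967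
def dFin_969 : BT := .node dFin_965 dFin_968
def dFin_970 : BT := .node dFin_962 dFin_969
def dFin_973 : BT := .node dFin_971 dFin_972
def dFin_976 : BT := .node dFin_974 dFin_975
def dFin_977 : BT := .node dFin_973 dFin_976
def dFin_980 : BT := .node dFin_978 dFin_979
def dFin_983 : BT := .node dFin_981 dFin_982
def dFin_984 : BT := .node dFin_980 dFin_983
def dFin_985 : BT := .node dFin_977 dFin_984
def dFin_986 : BT := .node dFin_970 dFin_985
def dFin_989 : BT := .node dFin_987 dFin_988
def dFin_992 : BT := .node dFin_990 dFin_991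
def dFin_993 : BT := .node dFin_989 dFin_992
def dFin_996 : BT := .node dFin_994 dFin_995
def dFin_999 : BT := .node dFin_997 dFin_998
def dFin_1000 : BT := .node dFin_996 dFin_999
def dFin_1001 : BT := .node dFin_993 dFin_1000
def dFin_1004 : BT := .node dFin_1002 dFin_1003
def dFin_1007 : BT := .node dFin_1005 dFin_1006
def dFin_1008 : BT := .node dFin_1004 dFin_1007
def dFin_1011 : BT := .node dFin_1009 dFin_1010
def dFin_1014 : BT := .node dFin_1012 dFin_1013
def dFin_1015 : BT := .node dFin_1011 dFin_1014
def dFin_1016 : BT := .node dFin_1008 dFin_1015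
def dFin_1017 : BT := .node dFin_1001 dFin_1016
def dFin_1018 : BT := .node dFin_986 dFin_1017
def dFin_1019 : BT := .node dFin_955 dFin_1018
def dFin_1020 : BT := .node dFin_892 dFin_1019
def dFin_1021 : BT := .node dFin_765 dFin_1020
def dFin_1022 : BT := .node dFin_510 dFin_1021
def dFin_1025 : BT := .node dFin_1023 dFin_1024
def dFin_1028 : BT := .node dFin_1026 dFin_1027
def dFin_1029 : BT := .node dFin_1025 dFin_1028
def dFin_1032 : BT := .node dFin_1030 dFin_1031
def dFin_1035 : BT := .node dFin_1033 dFin_1034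
def dFin_1036 : BT := .node dFin_1032 dFin_1035
def dFin_1037 : BT := .node dFin_1029 dFin_1036
def dFin_1040 : BT := .node dFin_1038 dFin_1039
def dFin_1043 : BT := .node dFin_1041 dFin_1042
def dFin_1044 : BT := .node dFin_1040 dFin_1043
def dFin_1047 : BT := .node dFin_1045 dFin_1046
def dFin_1050 : BT := .node dFin_1048 dFin_1049
def dFin_1051 : BT := .node dFin_1047 dFin_1050
def dFin_1052 : BT := .node dFin_1044 dFin_1051
def dFin_1053 : BT := .node dFin_1037 dFin_1052
def dFin_1056 : BT := .node dFin_1054 dFin_1055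
def dFin_1059 : BT := .node dFin_1057 dFin_1058
def dFin_1060 : BT := .node dFin_1056 dFin_1059
def dFin_1063 : BT := .node dFin_1061 dFin_1062
def dFin_1066 : BT := .node dFin_1064 dFin_1065
def dFin_1067 : BT := .node dFin_1063 dFin_1066
def dFin_1068 : BT := .node dFin_1060 dFin_1067
def dFin_1071 : BT := .node dFin_1069 dFin_1070
def dFin_1074 : BT := .node dFin_1072 dFin_1073
def dFin_1075 : BT := .node dFin_1071 dFin_1074
def dFin_1078 : BT := .node dFin_1076 dFin_1077
def dFin_1081 : BT := .node dFin_1079 dFin_1080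
def dFin_1082 : BT := .node dFin_1078 dFin_1081
def dFin_1083 : BT := .node dFin_1075 dFin_1082
def dFin_1084 : BT := .node dFin_1068 dFin_1083
def dFin_1085 : BT := .node dFin_1053 dFin_1084
def dFin_1088 : BT := .node dFin_1086 dFin_1087
def dFin_1091 : BT := .node dFin_1089 dFin_1090
def dFin_1092 : BT := .node dFin_1088 dFin_1091
def dFin_1095 : BT := .node dFin_1093 dFin_1094
def dFin_1098 : BT := .node dFin_1096 dFin_1097
def dFin_1099 : BT := .node dFin_1095 dFin_1098
def dFin_1100 : BT := .node dFin_1092 dFin_1099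
def dFin_1103 : BT := .node dFin_1101 dFin_1102
def dFin_1106 : BT := .node dFin_1104 dFin_1105
def dFin_1107 : BT := .node dFin_1103 dFin_1106
def dFin_1110 : BT := .node dFin_1108 dFin_1109
def dFin_1113 : BT := .node dFin_1111 dFin_1112
def dFin_1114 : BT := .node dFin_1110 dFin_1113
def dFin_1115 : BT := .node dFin_1107 dFin_1114
def dFin_1116 : BT := .node dFin_1100 dFin_1115
def dFin_1119 : BT := .node dFin_1117 dFin_1118
def dFin_1122 : BT := .node dFin_1120 dFin_1121
def dFin_1123 : BT := .node dFin_1119 dFin_1122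
def dFin_1126 : BT := .node dFin_1124 dFin_1125
def dFin_1129 : BT := .node dFin_1127 dFin_1128
def dFin_1130 : BT := .node dFin_1126 dFin_1129
def dFin_1131 : BT := .node dFin_1123 dFin_1130
def dFin_1134 : BT := .node dFin_1132 dFin_1133
def dFin_1137 : BT := .node dFin_1135 dFin_1136
def dFin_1138 : BT := .node dFin_1134 dFin_1137
def dFin_1141 : BT := .node dFin_1139 dFin_1140
def dFin_1144 : BT := .node dFin_1142 dFin_1143
def dFin_1145 : BT := .node dFin_1141 dFin_1144
def dFin_1146 : BT := .node dFin_1138 dFin_1145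
def dFin_1147 : BT := .node dFin_1131 dFin_1146
def dFin_1148 : BT := .node dFin_1116 dFin_1147
def dFin_1149 : BT := .node dFin_1085 dFin_1148
def dFin_1152 : BT := .node dFin_1150 dFin_1151
def dFin_1155 : BT := .node dFin_1153 dFin_1154
def dFin_1156 : BT := .node dFin_1152 dFin_1155
def dFin_1159 : BT := .node dFin_1157 dFin_1158
def dFin_1162 : BT := .node dFin_1160 dFin_1161
def dFin_1163 : BT := .node dFin_1159 dFin_1162
def dFin_1164 : BT := .node dFin_1156 dFin_1163
def dFin_1167 : BT := .node dFin_1165 dFin_1166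
def dFin_1170 : BT := .node dFin_1168 dFin_1169
def dFin_1171 : BT := .node dFin_1167 dFin_1170
def dFin_1174 : BT := .node dFin_1172 dFin_1173
def dFin_1177 : BT := .node dFin_1175 dFin_1176
def dFin_1178 : BT := .node dFin_1174 dFin_1177
def dFin_1179 : BT := .node dFin_1171 dFin_1178
def dFin_1180 : BT := .node dFin_1164 dFin_1179
def dFin_1183 : BT := .node dFin_1181 dFin_1182
def dFin_1186 : BT := .node dFin_1184 dFin_1185
def dFin_1187 : BT := .node dFin_1183 dFin_1186
def dFin_1190 : BT := .node dFin_1188 dFin_1189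
def dFin_1193 : BT := .node dFin_1191 dFin_1192
def dFin_1194 : BT := .node dFin_1190 dFin_1193
def dFin_1195 : BT := .node dFin_1187 dFin_1194
def dFin_1198 : BT := .node dFin_1196 dFin_1197
def dFin_1201 : BT := .node dFin_1199 dFin_1200
def dFin_1202 : BT := .node dFin_1198 dFin_1201
def dFin_1205 : BT := .node dFin_1203 dFin_1204
def dFin_1208 : BT := .node dFin_1206 dFin_1207
def dFin_1209 : BT := .node dFin_1205 dFin_1208
def dFin_1210 : BT := .node dFin_1202 dFin_1209
def dFin_1211 : BT := .node dFin_1195 dFin_1210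
def dFin_1212 : BT := .node dFin_1180 dFin_1211
def dFin_1215 : BT := .node dFin_1213 dFin_1214
def dFin_1218 : BT := .node dFin_1216 dFin_1217
def dFin_1219 : BT := .node dFin_1215 dFin_1218
def dFin_1222 : BT := .node dFin_1220 dFin_1221
def dFin_1225 : BT := .node dFin_1223 dFin_1224
def dFin_1226 : BT := .node dFin_1222 dFin_1225
def dFin_1227 : BT := .node dFin_1219 dFin_1226
def dFin_1230 : BT := .node dFin_1228 dFin_1229
def dFin_1233 : BT := .node dFin_1231 dFin_1232
def dFin_1234 : BT := .node dFin_1230 dFin_1233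
def dFin_1237 : BT := .node dFin_1235 dFin_1236
def dFin_1240 : BT := .node dFin_1238 dFin_1239
def dFin_1241 : BT := .node dFin_1237 dFin_1240
def dFin_1242 : BT := .node dFin_1234 dFin_1241
def dFin_1243 : BT := .node dFin_1227 dFin_1242
def dFin_1246 : BT := .node dFin_1244 dFin_1245
def dFin_1249 : BT := .node dFin_1247 dFin_1248
def dFin_1250 : BT := .node dFin_1246 dFin_1249
def dFin_1253 : BT := .node dFin_1251 dFin_1252
def dFin_1256 : BT := .node dFin_1254 dFin_1255
def dFin_1257 : BT := .node dFin_1253 dFin_1256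
def dFin_1258 : BT := .node dFin_1250 dFin_1257
def dFin_1261 : BT := .node dFin_1259 dFin_1260
def dFin_1264 : BT := .node dFin_1262 dFin_1263
def dFin_1265 : BT := .node dFin_1261 dFin_1264
def dFin_1268 : BT := .node dFin_1266 dFin_1267
def dFin_1271 : BT := .node dFin_1269 dFin_1270
def dFin_1272 : BT := .node dFin_1268 dFin_1271
def dFin_1273 : BT := .node dFin_1265 dFin_1272
def dFin_1274 : BT := .node dFin_1258 dFin_1273
def dFin_1275 : BT := .node dFin_1243 dFin_1274
def dFin_1276 : BT := .node dFin_1212 dFin_1275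
def dFin_1277 : BT := .node dFin_1149 dFin_1276
def dFin_1280 : BT := .node dFin_1278 dFin_1279
def dFin_1283 : BT := .node dFin_1281 dFin_1282
def dFin_1284 : BT := .node dFin_1280 dFin_1283
def dFin_1287 : BT := .node dFin_1285 dFin_1286
def dFin_1290 : BT := .node dFin_1288 dFin_1289
def dFin_1291 : BT := .node dFin_1287 dFin_1290
def dFin_1292 : BT := .node dFin_1284 dFin_1291
def dFin_1295 : BT := .node dFin_1293 dFin_1294
def dFin_1298 : BT := .node dFin_1296 dFin_1297
def dFin_1299 : BT := .node dFin_1295 dFin_1298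
def dFin_1302 : BT := .node dFin_1300 dFin_1301
def dFin_1305 : BT := .node dFin_1303 dFin_1304
def dFin_1306 : BT := .node dFin_1302 dFin_1305
def dFin_1307 : BT := .node dFin_1299 dFin_1306
def dFin_1308 : BT := .node dFin_1292 dFin_1307
def dFin_1311 : BT := .node dFin_1309 dFin_1310
def dFin_1314 : BT := .node dFin_1312 dFin_1313
def dFin_1315 : BT := .node dFin_1311 dFin_1314
def dFin_1318 : BT := .node dFin_1316 dFin_1317
def dFin_1321 : BT := .node dFin_1319 dFin_1320
def dFin_1322 : BT := .node dFin_1318 dFin_1321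
def dFin_1323 : BT := .node dFin_1315 dFin_1322
def dFin_1326 : BT := .node dFin_1324 dFin_1325
def dFin_1329 : BT := .node dFin_1327 dFin_1328
def dFin_1330 : BT := .node dFin_1326 dFin_1329
def dFin_1333 : BT := .node dFin_1331 dFin_1332
def dFin_1336 : BT := .node dFin_1334 dFin_1335
def dFin_1337 : BT := .node dFin_1333 dFin_1336
def dFin_1338 : BT := .node dFin_1330 dFin_1337
def dFin_1339 : BT := .node dFin_1323 dFin_1338
def dFin_1340 : BT := .node dFin_1308 dFin_1339
def dFin_1343 : BT := .node dFin_1341 dFin_1342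
def dFin_1346 : BT := .node dFin_1344 dFin_1345
def dFin_1347 : BT := .node dFin_1343 dFin_1346
def dFin_1350 : BT := .node dFin_1348 dFin_1349
def dFin_1353 : BT := .node dFin_1351 dFin_1352
def dFin_1354 : BT := .node dFin_1350 dFin_1353
def dFin_1355 : BT := .node dFin_1347 dFin_1354
def dFin_1358 : BT := .node dFin_1356 dFin_1357
def dFin_1361 : BT := .node dFin_1359 dFin_1360
def dFin_1362 : BT := .node dFin_1358 dFin_1361
def dFin_1365 : BT := .node dFin_1363 dFin_1364
def dFin_1368 : BT := .node dFin_1366 dFin_1367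
def dFin_1369 : BT := .node dFin_1365 dFin_1368
def dFin_1370 : BT := .node dFin_1362 dFin_1369
def dFin_1371 : BT := .node dFin_1355 dFin_1370
def dFin_1374 : BT := .node dFin_1372 dFin_1373
def dFin_1377 : BT := .node dFin_1375 dFin_1376
def dFin_1378 : BT := .node dFin_1374 dFin_1377
def dFin_1381 : BT := .node dFin_1379 dFin_1380
def dFin_1384 : BT := .node dFin_1382 dFin_1383
def dFin_1385 : BT := .node dFin_1381 dFin_1384
def dFin_1386 : BT := .node dFin_1378 dFin_1385
def dFin_1389 : BT := .node dFin_1387 dFin_1388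
def dFin_1392 : BT := .node dFin_1390 dFin_1391
def dFin_1393 : BT := .node dFin_1389 dFin_1392
def dFin_1396 : BT := .node dFin_1394 dFin_1395
def dFin_1399 : BT := .node dFin_1397 dFin_1398
def dFin_1400 : BT := .node dFin_1396 dFin_1399
def dFin_1401 : BT := .node dFin_1393 dFin_1400
def dFin_1402 : BT := .node dFin_1386 dFin_1401
def dFin_1403 : BT := .node dFin_1371 dFin_1402
def dFin_1404 : BT := .node dFin_1340 dFin_1403
def dFin_1407 : BT := .node dFin_1405 dFin_1406
def dFin_1410 : BT := .node dFin_1408 dFin_1409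
def dFin_1411 : BT := .node dFin_1407 dFin_1410
def dFin_1414 : BT := .node dFin_1412 dFin_1413
def dFin_1417 : BT := .node dFin_1415 dFin_1416
def dFin_1418 : BT := .node dFin_1414 dFin_1417
def dFin_1419 : BT := .node dFin_1411 dFin_1418
def dFin_1422 : BT := .node dFin_1420 dFin_1421
def dFin_1425 : BT := .node dFin_1423 dFin_1424
def dFin_1426 : BT := .node dFin_1422 dFin_1425
def dFin_1429 : BT := .node dFin_1427 dFin_1428
def dFin_1432 : BT := .node dFin_1430 dFin_1431
def dFin_1433 : BT := .node dFin_1429 dFin_1432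
def dFin_1434 : BT := .node dFin_1426 dFin_1433
def dFin_1435 : BT := .node dFin_1419 dFin_1434
def dFin_1438 : BT := .node dFin_1436 dFin_1437
def dFin_1441 : BT := .node dFin_1439 dFin_1440
def dFin_1442 : BT := .node dFin_1438 dFin_1441
def dFin_1445 : BT := .node dFin_1443 dFin_1444
def dFin_1448 : BT := .node dFin_1446 dFin_1447
def dFin_1449 : BT := .node dFin_1445 dFin_1448
def dFin_1450 : BT := .node dFin_1442 dFin_1449
def dFin_1453 : BT := .node dFin_1451 dFin_1452
def dFin_1456 : BT := .node dFin_1454 dFin_1455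
def dFin_1457 : BT := .node dFin_1453 dFin_1456
def dFin_1460 : BT := .node dFin_1458 dFin_1459
def dFin_1463 : BT := .node dFin_1461 dFin_1462
def dFin_1464 : BT := .node dFin_1460 dFin_1463
def dFin_1465 : BT := .node dFin_1457 dFin_1464
def dFin_1466 : BT := .node dFin_1450 dFin_1465
def dFin_1467 : BT := .node dFin_1435 dFin_1466
def dFin_1470 : BT := .node dFin_1468 dFin_1469
def dFin_1473 : BT := .node dFin_1471 dFin_1472
def dFin_1474 : BT := .node dFin_1470 dFin_1473
def dFin_1477 : BT := .node dFin_1475 dFin_1476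
def dFin_1480 : BT := .node dFin_1478 dFin_1479
def dFin_1481 : BT := .node dFin_1477 dFin_1480
def dFin_1482 : BT := .node dFin_1474 dFin_1481
def dFin_1485 : BT := .node dFin_1483 dFin_1484
def dFin_1488 : BT := .node dFin_1486 dFin_1487
def dFin_1489 : BT := .node dFin_1485 dFin_1488
def dFin_1492 : BT := .node dFin_1490 dFin_1491
def dFin_1495 : BT := .node dFin_1493 dFin_1494
def dFin_1496 : BT := .node dFin_1492 dFin_1495
def dFin_1497 : BT := .node dFin_1489 dFin_1496
def dFin_1498 : BT := .node dFin_1482 dFin_1497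
def dFin_1501 : BT := .node dFin_1499 dFin_1500
def dFin_1504 : BT := .node dFin_1502 dFin_1503
def dFin_1505 : BT := .node dFin_1501 dFin_1504
def dFin_1508 : BT := .node dFin_1506 dFin_1507
def dFin_1511 : BT := .node dFin_1509 dFin_1510
def dFin_1512 : BT := .node dFin_1508 dFin_1511
def dFin_1513 : BT := .node dFin_1505 dFin_1512
def dFin_1516 : BT := .node dFin_1514 dFin_1515
def dFin_1519 : BT := .node dFin_1517 dFin_1518
def dFin_1520 : BT := .node dFin_1516 dFin_1519
def dFin_1523 : BT := .node dFin_1521 dFin_1522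
def dFin_1526 : BT := .node dFin_1524 dFin_1525
def dFin_1527 : BT := .node dFin_1523 dFin_1526
def dFin_1528 : BT := .node dFin_1520 dFin_1527
def dFin_1529 : BT := .node dFin_1513 dFin_1528
def dFin_1530 : BT := .node dFin_1498 dFin_1529
def dFin_1531 : BT := .node dFin_1467 dFin_1530
def dFin_1532 : BT := .node dFin_1404 dFin_1531
def dFin_1533 : BT := .node dFin_1277 dFin_1532
def dFin_1536 : BT := .node dFin_1534 dFin_1535
def dFin_1539 : BT := .node dFin_1537 dFin_1538
def dFin_1540 : BT := .node dFin_1536 dFin_1539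
def dFin_1543 : BT := .node dFin_1541 dFin_1542
def dFin_1546 : BT := .node dFin_1544 dFin_1545
def dFin_1547 : BT := .node dFin_1543 dFin_1546
def dFin_1548 : BT := .node dFin_1540 dFin_1547
def dFin_1551 : BT := .node dFin_1549 dFin_1550
def dFin_1554 : BT := .node dFin_1552 dFin_1553
def dFin_1555 : BT := .node dFin_1551 dFin_1554
def dFin_1558 : BT := .node dFin_1556 dFin_1557
def dFin_1561 : BT := .node dFin_1559 dFin_1560
def dFin_1562 : BT := .node dFin_1558 dFin_1561
def dFin_1563 : BT := .node dFin_1555 dFin_1562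
def dFin_1564 : BT := .node dFin_1548 dFin_1563
def dFin_1567 : BT := .node dFin_1565 dFin_1566
def dFin_1570 : BT := .node dFin_1568 dFin_1569
def dFin_1571 : BT := .node dFin_1567 dFin_1570
def dFin_1574 : BT := .node dFin_1572 dFin_1573
def dFin_1577 : BT := .node dFin_1575 dFin_1576
def dFin_1578 : BT := .node dFin_1574 dFin_1577
def dFin_1579 : BT := .node dFin_1571 dFin_1578
def dFin_1582 : BT := .node dFin_1580 dFin_1581
def dFin_1585 : BT := .node dFin_1583 dFin_1584
def dFin_1586 : BT := .node dFin_1582 dFin_1585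
def dFin_1589 : BT := .node dFin_1587 dFin_1588
def dFin_1592 : BT := .node dFin_1590 dFin_1591
def dFin_1593 : BT := .node dFin_1589 dFin_1592
def dFin_1594 : BT := .node dFin_1586 dFin_1593
def dFin_1595 : BT := .node dFin_1579 dFin_1594
def dFin_1596 : BT := .node dFin_1564 dFin_1595
def dFin_1599 : BT := .node dFin_1597 dFin_1598
def dFin_1602 : BT := .node dFin_1600 dFin_1601
def dFin_1603 : BT := .node dFin_1599 dFin_1602
def dFin_1606 : BT := .node dFin_1604 dFin_1605
def dFin_1609 : BT := .node dFin_1607 dFin_1608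
def dFin_1610 : BT := .node dFin_1606 dFin_1609
def dFin_1611 : BT := .node dFin_1603 dFin_1610
def dFin_1614 : BT := .node dFin_1612 dFin_1613
def dFin_1617 : BT := .node dFin_1615 dFin_1616
def dFin_1618 : BT := .node dFin_1614 dFin_1617
def dFin_1621 : BT := .node dFin_1619 dFin_1620
def dFin_1624 : BT := .node dFin_1622 dFin_1623
def dFin_1625 : BT := .node dFin_1621 dFin_1624
def dFin_1626 : BT := .node dFin_1618 dFin_1625
def dFin_1627 : BT := .node dFin_1611 dFin_1626
def dFin_1630 : BT := .node dFin_1628 dFin_1629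
def dFin_1633 : BT := .node dFin_1631 dFin_1632
def dFin_1634 : BT := .node dFin_1630 dFin_1633
def dFin_1637 : BT := .node dFin_1635 dFin_1636
def dFin_1640 : BT := .node dFin_1638 dFin_1639
def dFin_1641 : BT := .node dFin_1637 dFin_1640
def dFin_1642 : BT := .node dFin_1634 dFin_1641
def dFin_1645 : BT := .node dFin_1643 dFin_1644
def dFin_1648 : BT := .node dFin_1646 dFin_1647
def dFin_1649 : BT := .node dFin_1645 dFin_1648
def dFin_1652 : BT := .node dFin_1650 dFin_1651
def dFin_1655 : BT := .node dFin_1653 dFin_1654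
def dFin_1656 : BT := .node dFin_1652 dFin_1655
def dFin_1657 : BT := .node dFin_1649 dFin_1656
def dFin_1658 : BT := .node dFin_1642 dFin_1657
def dFin_1659 : BT := .node dFin_1627 dFin_1658
def dFin_1660 : BT := .node dFin_1596 dFin_1659
def dFin_1663 : BT := .node dFin_1661 dFin_1662
def dFin_1666 : BT := .node dFin_1664 dFin_1665
def dFin_1667 : BT := .node dFin_1663 dFin_1666
def dFin_1670 : BT := .node dFin_1668 dFin_1669
def dFin_1673 : BT := .node dFin_1671 dFin_1672
def dFin_1674 : BT := .node dFin_1670 dFin_1673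
def dFin_1675 : BT := .node dFin_1667 dFin_1674
def dFin_1678 : BT := .node dFin_1676 dFin_1677
def dFin_1681 : BT := .node dFin_1679 dFin_1680
def dFin_1682 : BT := .node dFin_1678 dFin_1681
def dFin_1685 : BT := .node dFin_1683 dFin_1684
def dFin_1688 : BT := .node dFin_1686 dFin_1687
def dFin_1689 : BT := .node dFin_1685 dFin_1688
def dFin_1690 : BT := .node dFin_1682 dFin_1689
def dFin_1691 : BT := .node dFin_1675 dFin_1690
def dFin_1694 : BT := .node dFin_1692 dFin_1693
def dFin_1697 : BT := .node dFin_1695 dFin_1696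
def dFin_1698 : BT := .node dFin_1694 dFin_1697
def dFin_1701 : BT := .node dFin_1699 dFin_1700
def dFin_1704 : BT := .node dFin_1702 dFin_1703
def dFin_1705 : BT := .node dFin_1701 dFin_1704
def dFin_1706 : BT := .node dFin_1698 dFin_1705
def dFin_1709 : BT := .node dFin_1707 dFin_1708
def dFin_1712 : BT := .node dFin_1710 dFin_1711
def dFin_1713 : BT := .node dFin_1709 dFin_1712
def dFin_1716 : BT := .node dFin_1714 dFin_1715
def dFin_1719 : BT := .node dFin_1717 dFin_1718
def dFin_1720 : BT := .node dFin_1716 dFin_1719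
def dFin_1721 : BT := .node dFin_1713 dFin_1720
def dFin_1722 : BT := .node dFin_1706 dFin_1721
def dFin_1723 : BT := .node dFin_1691 dFin_1722
def dFin_1726 : BT := .node dFin_1724 dFin_1725
def dFin_1729 : BT := .node dFin_1727 dFin_1728
def dFin_1730 : BT := .node dFin_1726 dFin_1729
def dFin_1733 : BT := .node dFin_1731 dFin_1732
def dFin_1736 : BT := .node dFin_1734 dFin_1735
def dFin_1737 : BT := .node dFin_1733 dFin_1736
def dFin_1738 : BT := .node dFin_1730 dFin_1737
def dFin_1741 : BT := .node dFin_1739 dFin_1740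
def dFin_1744 : BT := .node dFin_1742 dFin_1743
def dFin_1745 : BT := .node dFin_1741 dFin_1744
def dFin_1748 : BT := .node dFin_1746 dFin_1747
def dFin_1751 : BT := .node dFin_1749 dFin_1750
def dFin_1752 : BT := .node dFin_1748 dFin_1751
def dFin_1753 : BT := .node dFin_1745 dFin_1752
def dFin_1754 : BT := .node dFin_1738 dFin_1753
def dFin_1757 : BT := .node dFin_1755 dFin_1756
def dFin_1760 : BT := .node dFin_1758 dFin_1759
def dFin_1761 : BT := .node dFin_1757 dFin_1760
def dFin_1764 : BT := .node dFin_1762 dFin_1763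
def dFin_1767 : BT := .node dFin_1765 dFin_1766
def dFin_1768 : BT := .node dFin_1764 dFin_1767
def dFin_1769 : BT := .node dFin_1761 dFin_1768
def dFin_1772 : BT := .node dFin_1770 dFin_1771
def dFin_1775 : BT := .node dFin_1773 dFin_1774
def dFin_1776 : BT := .node dFin_1772 dFin_1775
def dFin_1779 : BT := .node dFin_1777 dFin_1778
def dFin_1782 : BT := .node dFin_1780 dFin_1781
def dFin_1783 : BT := .node dFin_1779 dFin_1782
def dFin_1784 : BT := .node dFin_1776 dFin_1783
def dFin_1785 : BT := .node dFin_1769 dFin_1784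
def dFin_1786 : BT := .node dFin_1754 dFin_1785
def dFin_1787 : BT := .node dFin_1723 dFin_1786
def dFin_1788 : BT := .node dFin_1660 dFin_1787
def dFin_1791 : BT := .node dFin_1789 dFin_1790
def dFin_1794 : BT := .node dFin_1792 dFin_1793
def dFin_1795 : BT := .node dFin_1791 dFin_1794
def dFin_1798 : BT := .node dFin_1796 dFin_1797
def dFin_1801 : BT := .node dFin_1799 dFin_1800
def dFin_1802 : BT := .node dFin_1798 dFin_1801
def dFin_1803 : BT := .node dFin_1795 dFin_1802
def dFin_1806 : BT := .node dFin_1804 dFin_1805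
def dFin_1809 : BT := .node dFin_1807 dFin_1808
def dFin_1810 : BT := .node dFin_1806 dFin_1809
def dFin_1813 : BT := .node dFin_1811 dFin_1812
def dFin_1816 : BT := .node dFin_1814 dFin_1815
def dFin_1817 : BT := .node dFin_1813 dFin_1816
def dFin_1818 : BT := .node dFin_1810 dFin_1817
def dFin_1819 : BT := .node dFin_1803 dFin_1818
def dFin_1822 : BT := .node dFin_1820 dFin_1821
def dFin_1825 : BT := .node dFin_1823 dFin_1824
def dFin_1826 : BT := .node dFin_1822 dFin_1825
def dFin_1829 : BT := .node dFin_1827 dFin_1828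
def dFin_1832 : BT := .node dFin_1830 dFin_1831
def dFin_1833 : BT := .node dFin_1829 dFin_1832
def dFin_1834 : BT := .node dFin_1826 dFin_1833
def dFin_1837 : BT := .node dFin_1835 dFin_1836
def dFin_1840 : BT := .node dFin_1838 dFin_1839
def dFin_1841 : BT := .node dFin_1837 dFin_1840
def dFin_1844 : BT := .node dFin_1842 dFin_1843
def dFin_1847 : BT := .node dFin_1845 dFin_1846
def dFin_1848 : BT := .node dFin_1844 dFin_1847
def dFin_1849 : BT := .node dFin_1841 dFin_1848
def dFin_1850 : BT := .node dFin_1834 dFin_1849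
def dFin_1851 : BT := .node dFin_1819 dFin_1850
def dFin_1854 : BT := .node dFin_1852 dFin_1853
def dFin_1857 : BT := .node dFin_1855 dFin_1856
def dFin_1858 : BT := .node dFin_1854 dFin_1857
def dFin_1861 : BT := .node dFin_1859 dFin_1860
def dFin_1864 : BT := .node dFin_1862 dFin_1863
def dFin_1865 : BT := .node dFin_1861 dFin_1864
def dFin_1866 : BT := .node dFin_1858 dFin_1865
def dFin_1869 : BT := .node dFin_1867 dFin_1868
def dFin_1872 : BT := .node dFin_1870 dFin_1871
def dFin_1873 : BT := .node dFin_1869 dFin_1872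
def dFin_1876 : BT := .node dFin_1874 dFin_1875
def dFin_1879 : BT := .node dFin_1877 dFin_1878
def dFin_1880 : BT := .node dFin_1876 dFin_1879
def dFin_1881 : BT := .node dFin_1873 dFin_1880
def dFin_1882 : BT := .node dFin_1866 dFin_1881
def dFin_1885 : BT := .node dFin_1883 dFin_1884
def dFin_1888 : BT := .node dFin_1886 dFin_1887
def dFin_1889 : BT := .node dFin_1885 dFin_1888
def dFin_1892 : BT := .node dFin_1890 dFin_1891
def dFin_1895 : BT := .node dFin_1893 dFin_1894
def dFin_1896 : BT := .node dFin_1892 dFin_1895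
def dFin_1897 : BT := .node dFin_1889 dFin_1896
def dFin_1900 : BT := .node dFin_1898 dFin_1899
def dFin_1903 : BT := .node dFin_1901 dFin_1902
def dFin_1904 : BT := .node dFin_1900 dFin_1903
def dFin_1907 : BT := .node dFin_1905 dFin_1906
def dFin_1910 : BT := .node dFin_1908 dFin_1909
def dFin_1911 : BT := .node dFin_1907 dFin_1910
def dFin_1912 : BT := .node dFin_1904 dFin_1911
def dFin_1913 : BT := .node dFin_1897 dFin_1912
def dFin_1914 : BT := .node dFin_1882 dFin_1913
def dFin_1915 : BT := .node dFin_1851 dFin_1914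
def dFin_1918 : BT := .node dFin_1916 dFin_1917
def dFin_1921 : BT := .node dFin_1919 dFin_1920
def dFin_1922 : BT := .node dFin_1918 dFin_1921
def dFin_1925 : BT := .node dFin_1923 dFin_1924
def dFin_1928 : BT := .node dFin_1926 dFin_1927
def dFin_1929 : BT := .node dFin_1925 dFin_1928
def dFin_1930 : BT := .node dFin_1922 dFin_1929
def dFin_1933 : BT := .node dFin_1931 dFin_1932
def dFin_1936 : BT := .node dFin_1934 dFin_1935
def dFin_1937 : BT := .node dFin_1933 dFin_1936
def dFin_1940 : BT := .node dFin_1938 dFin_1939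
def dFin_1943 : BT := .node dFin_1941 dFin_1942
def dFin_1944 : BT := .node dFin_1940 dFin_1943
def dFin_1945 : BT := .node dFin_1937 dFin_1944
def dFin_1946 : BT := .node dFin_1930 dFin_1945
def dFin_1949 : BT := .node dFin_1947 dFin_1948
def dFin_1952 : BT := .node dFin_1950 dFin_1951
def dFin_1953 : BT := .node dFin_1949 dFin_1952
def dFin_1956 : BT := .node dFin_1954 dFin_1955
def dFin_1959 : BT := .node dFin_1957 dFin_1958
def dFin_1960 : BT := .node dFin_1956 dFin_1959
def dFin_1961 : BT := .node dFin_1953 dFin_1960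
def dFin_1964 : BT := .node dFin_1962 dFin_1963
def dFin_1967 : BT := .node dFin_1965 dFin_1966
def dFin_1968 : BT := .node dFin_1964 dFin_1967
def dFin_1971 : BT := .node dFin_1969 dFin_1970
def dFin_1974 : BT := .node dFin_1972 dFin_1973
def dFin_1975 : BT := .node dFin_1971 dFin_1974
def dFin_1976 : BT := .node dFin_1968 dFin_1975
def dFin_1977 : BT := .node dFin_1961 dFin_1976
def dFin_1978 : BT := .node dFin_1946 dFin_1977
def dFin_1981 : BT := .node dFin_1979 dFin_1980
def dFin_1984 : BT := .node dFin_1982 dFin_1983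
def dFin_1985 : BT := .node dFin_1981 dFin_1984
def dFin_1988 : BT := .node dFin_1986 dFin_1987
def dFin_1991 : BT := .node dFin_1989 dFin_1990
def dFin_1992 : BT := .node dFin_1988 dFin_1991
def dFin_1993 : BT := .node dFin_1985 dFin_1992
def dFin_1996 : BT := .node dFin_1994 dFin_1995
def dFin_1999 : BT := .node dFin_1997 dFin_1998
def dFin_2000 : BT := .node dFin_1996 dFin_1999
def dFin_2003 : BT := .node dFin_2001 dFin_2002
def dFin_2006 : BT := .node dFin_2004 dFin_2005
def dFin_2007 : BT := .node dFin_2003 dFin_2006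
def dFin_2008 : BT := .node dFin_2000 dFin_2007
def dFin_2009 : BT := .node dFin_1993 dFin_2008
def dFin_2012 : BT := .node dFin_2010 dFin_2011
def dFin_2015 : BT := .node dFin_2013 dFin_2014
def dFin_2016 : BT := .node dFin_2012 dFin_2015
def dFin_2019 : BT := .node dFin_2017 dFin_2018
def dFin_2022 : BT := .node dFin_2020 dFin_2021
def dFin_2023 : BT := .node dFin_2019 dFin_2022
def dFin_2024 : BT := .node dFin_2016 dFin_2023
def dFin_2027 : BT := .node dFin_2025 dFin_2026
def dFin_2030 : BT := .node dFin_2028 dFin_2029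
def dFin_2031 : BT := .node dFin_2027 dFin_2030
def dFin_2034 : BT := .node dFin_2032 dFin_2033
def dFin_2037 : BT := .node dFin_2035 dFin_2036
def dFin_2038 : BT := .node dFin_2034 dFin_2037
def dFin_2039 : BT := .node dFin_2031 dFin_2038
def dFin_2040 : BT := .node dFin_2024 dFin_2039
def dFin_2041 : BT := .node dFin_2009 dFin_2040
def dFin_2042 : BT := .node dFin_1978 dFin_2041
def dFin_2043 : BT := .node dFin_1915 dFin_2042
def dFin_2044 : BT := .node dFin_1788 dFin_2043
def dFin_2045 : BT := .node dFin_1533 dFin_2044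
def dFin_2046 : BT := .node dFin_1022 dFin_2045
def dFin : BT := dFin_2046
def dJS : List (List ℕ) := List.flatten [dJ0, dJ1, dJ2, dJ3, dJ4, dJ5, dJ6, dJ7, dJ8, dJ9, dJ10, dJ11, dJ12, dJ13, dJ14, dJ15, dJ16, dJ17, dJ18, dJ19, dJ20, dJ21, dJ22, dJ23, dJ24, dJ25, dJ26, dJ27, dJ28, dJ29, dJ30, dJ31, dJ32, dJ33, dJ34, dJ35, dJ36, dJ37, dJ38, dJ39, dJ40, dJ41, dJ42, dJ43, dJ44, dJ45, dJ46, dJ47, dJ48, dJ49, dJ50, dJ51, dJ52, dJ53, dJ54, dJ55, dJ56, dJ57, dJ58, dJ59, dJ60, dJ61, dJ62, dJ63, dJ64, dJ65, dJ66, dJ67, dJ68, dJ69, dJ70, dJ71, dJ72, dJ73, dJ74, dJ75, dJ76, dJ77, dJ78, dJ79, dJ80, dJ81, dJ82, dJ83, dJ84, dJ85, dJ86, dJ87, dJ88, dJ89, dJ90, dJ91, dJ92, dJ93, dJ94, dJ95, dJ96, dJ97, dJ98, dJ99, dJ100, dJ101, dJ102, dJ103, dJ104, dJ105, dJ106, dJ107, dJ108, dJ109, dJ110, dJ111, dJ112, dJ113, dJ114, dJ115, dJ116, dJ117, dJ118, dJ119, dJ120, dJ121, dJ122, dJ123, dJ124, dJ125, dJ126, dJ127, dJ128, dJ129, dJ130, dJ131, dJ132, dJ133, dJ134, dJ135, dJ136, dJ137, dJ138, dJ139, dJ140, dJ141, dJ142, dJ143, dJ144, dJ145, dJ146,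 dJ147, dJ148, dJ149, dJ150, dJ151, dJ152, dJ153, dJ154, dJ155, dJ156, dJ157, dJ158, dJ159, dJ160, dJ161, dJ162, dJ163, dJ164, dJ165, dJ166, dJ167, dJ168, dJ169, dJ170, dJ171, dJ172, dJ173, dJ174, dJ175, dJ176, dJ177, dJ178, dJ179, dJ180, dJ181, dJ182, dJ183, dJ184, dJ185, dJ186, dJ187, dJ188, dJ189, dJ190, dJ191, dJ192, dJ193, dJ194, dJ195, dJ196, dJ197, dJ198, dJ199, dJ200, dJ201, dJ202, dJ203, dJ204, dJ205, dJ206, dJ207, dJ208, dJ209, dJ210, dJ211, dJ212, dJ213, dJ214, dJ215, dJ216, dJ217, dJ218, dJ219, dJ220, dJ221, dJ222, dJ223, dJ224, dJ225, dJ226, dJ227, dJ228, dJ229, dJ230, dJ231, dJ232, dJ233, dJ234, dJ235, dJ236, dJ237, dJ238, dJ239, dJ240, dJ241, dJ242, dJ243, dJ244, dJ245, dJ246, dJ247, dJ248, dJ249, dJ250, dJ251, dJ252, dJ253, dJ254, dJ255, dJ256, dJ257, dJ258, dJ259, dJ260, dJ261, dJ262, dJ263, dJ264, dJ265, dJ266, dJ267, dJ268, dJ269, dJ270, dJ271, dJ272, dJ273, dJ274, dJ275, dJ276, dJ277, dJ278, dJ279, dJ280, dJ281, dJ282, dJ283, dJ284, dJ285, dJ286, dJ287, dJ288, dJ289, dJ290, dJ291, dJ292, dJ293, dJ294,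 dJ295, dJ296, dJ297, dJ298, dJ299, dJ300, dJ301, dJ302, dJ303, dJ304, dJ305, dJ306, dJ307, dJ308, dJ309, dJ310, dJ311, dJ312, dJ313, dJ314, dJ315, dJ316, dJ317, dJ318, dJ319, dJ320, dJ321, dJ322, dJ323, dJ324, dJ325, dJ326, dJ327, dJ328, dJ329, dJ330, dJ331, dJ332, dJ333, dJ334, dJ335, dJ336, dJ337, dJ338, dJ339, dJ340, dJ341, dJ342, dJ343, dJ344, dJ345, dJ346, dJ347, dJ348, dJ349, dJ350, dJ351, dJ352]
theorem chk_all : chkAll dD dJS 0 = true := by decide +kernel
theorem chk_fin : chkFin dD 2268 dJS.length dLive dPos dFin = true := by decide +kernel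
end Cfsg.Agent.Lib.Helper66.G23Up
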