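import Cfsg.Agent.Lib.Helper66.G23G
import Cfsg.Agent.Lib.Helper66.G23Up
import Cfsg.Agent.Lib.Helper66.G23Pres

/-! # The Schur multiplier of `G2(3)` has order at most 3; a presentation bound for `G2(3)` -/

set_option autoImplicit false
set_option maxRecDepth 100000

namespace Cfsg.Agent.Lib.Helper66.G23U

open scoped commutatorElement
open Cfsg Cfsg.Agent.Lib.Helper66 Cfsg.Agent.Lib.Helper66.TCE Cfsg.Agent.Lib.Helper66.G23L
  Cfsg.Agent.Lib.Helper66.G23G

theorem pres_rels : ∀ w ∈ G23Pres.dRels, cls 6 (SR ++ EX) [] [] w = true := by decide +kernel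

/-- **Presentation bound**: a group generated by elements satisfying the relators of `G2(3)`
has at most `|G2(3)|` elements. -/
theorem PB (Δ : Type) [Group Δ] [Finite Δ] (d : ℕ → Δ)
    (hgen : Subgroup.closure {x | ∃ i < 7, x = d i} = ⊤) (hR : ∀ w ∈ SR ++ EX, ev d w = 1) :
    Nat.card Δ ≤ Nat.card P := by
  obtain ⟨ψ, hψ⟩ := exists_hom_SL3 d (fun w hw => hR w (List.mem_append_left _ hw))
  obtain ⟨g, hg⟩ : ∃ g : ℕ → Δ, g = fun i => if i < 7 then d i else 1 := ⟨_, rfl⟩
  have hgd : ∀ i < 7, g i = d i := fun i hi => by rw [hg]; simp [hi]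
  have hg1 : ∀ i, 7 ≤ i → g i = 1 := fun i hi => by
    rw [hg]; simp [show ¬ i < 7 by omega]
  have hev : ∀ w ∈ SR ++ EX, ev g w = 1 := by
    intro w hw
    rw [← hR w hw]
    apply ev_congr
    intro a ha
    apply hgd
    have h12 : a < 14 := by
      rcases List.mem_append.mp hw with h | h
      · exact lt_of_chk (List.all_eq_true.mp SR_chk w h) a ha
      · exact lt_of_chk (List.all_eq_true.mp EX_chk w h) a ha
    omega
  have h := card_le (g := g) (S := ψ.range) (D := G23Pres.dD) (hg1 7 le_rfl)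
    (by
      have : {x | ∃ i < G23Pres.dD.k, x = g i} = {x | ∃ i < 7, x = d i} := by
        ext x
        constructor
        · rintro ⟨i, hi, rfl⟩; exact ⟨i, hi, hgd i hi⟩
        · rintro ⟨i, hi, rfl⟩; exact ⟨i, hi, (hgd i hi).symm⟩
      rw [this, hgen])
    (fun w hw => good_of_cls ψ.range g 6 (SR ++ EX) [] []
      (fun i hi => by rw [hg1 i hi]; exact one_mem _)
      (fun w hw x => by rw [hev w hw]; simp [one_mem])
      (fun j hj => absurd hj (by simp)) rfl w (pres_rels w hw))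
    (by
      intro a ha
      apply L_mem
      have ha' : a ∈ [0, 2, 4, 6, 8, 10] := ha
      have h5 : a / 2 < 6 := by
        simp only [List.mem_cons, List.not_mem_nil, or_false] at ha'
        rcases ha' with rfl | rfl | rfl | rfl | rfl | rfl <;> norm_num
      rw [hgd _ (by omega)]
      exact hψ _ h5)
    G23Pres.dJS G23Pres.chk_all 756 G23Pres.dLive G23Pres.dPos G23Pres.dFin G23Pres.chk_fin
  have h2 : Nat.card ψ.range ≤ 5616 := by
    rw [← card_SL33]
    exact Nat.card_le_card_of_surjective ψ.rangeRestrict ψ.rangeRestrict_surjective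
  rw [card_P]
  calc Nat.card Δ ≤ 756 * Nat.card ψ.range := h
    _ ≤ 756 * 5616 := Nat.mul_le_mul_left _ h2
    _ = 4245696 := by norm_num

theorem up_rels : ∀ w ∈ G23Up.dRels, cls 6 SR EX [28] w = true := by decide +kernel

def R7 : List ℕ := EX.getD 7 []

theorem card_ker_le (Γ : Type) [Group Γ] [Finite Γ] (π : Γ →* P)
    (hπ : Cfsg.IsStemExtension π) : Nat.card π.ker ≤ 3 := by
  have hSRg : ∀ w ∈ SR, ev gb w = 1 := fun w hw => ev_gb_of_chk (List.all_eq_true.mp SR_chk w hw)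
  obtain ⟨ψ, hψ⟩ := exists_hom_SL3 gb hSRg
  obtain ⟨H₁, hcard, hlift⟩ := link ψ π hπ.1 hπ.2.1 commutator_SL33
  have hy : ∀ i, ∃ γ : Γ, π γ = gb i ∧ (i < 6 → γ ∈ H₁) := by
    intro i
    by_cases hi : i < 6
    · obtain ⟨a, ha⟩ := hψ i hi
      obtain ⟨γ, hγ, hγa⟩ := hlift a
      exact ⟨γ, hγa.trans ha, fun _ => hγ⟩
    · obtain ⟨γ, hγ⟩ := hπ.1 (gb i)
      exact ⟨γ, hγ, fun h => absurd h hi⟩
  choose g₁ hg₁π hg₁H using hy
  have hker : ∀ (g' : ℕ → Γ), (∀ i, π (g' i) = gb i) → ∀ w, chkW w = true →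
      ev g' w ∈ π.ker := by
    intro g' hg' w hw
    rw [MonoidHom.mem_ker, ev_map]
    have : (fun i => π (g' i)) = gb := funext hg'
    rw [this]
    exact ev_gb_of_chk hw
  have hE7 : chkW R7 = true := List.all_eq_true.mp EX_chk _ (by decide)
  obtain ⟨c, hc⟩ : ∃ c, c = ev g₁ R7 := ⟨_, rfl⟩
  have hck : c ∈ π.ker := by
    rw [hc]
    exact hker g₁ hg₁π _ hE7
  have hcc : c ∈ Subgroup.center Γ := hπ.2.1 hck
  obtain ⟨g₂, hg₂⟩ : ∃ g₂, g₂ = Function.update g₁ 6 (g₁ 6 * c) := ⟨_, rfl⟩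
  have hg₂π : ∀ i, π (g₂ i) = gb i := by
    intro i
    rw [hg₂]
    by_cases hi : i = 6
    · subst hi
      rw [Function.update_self, map_mul, hg₁π, MonoidHom.mem_ker.mp hck, mul_one]
    · rw [Function.update_of_ne hi, hg₁π]
  have hg₂H : ∀ i < 6, g₂ i ∈ H₁ := by
    intro i hi
    rw [hg₂, Function.update_of_ne (by omega)]
    exact hg₁H i hi
  have hnorm : ev g₂ R7 = 1 := by
    rw [hg₂, ev_scale g₁ 6 hcc]
    have e1 : es 6 R7 = -1 := by decide
    rw [e1, ← hc]
    simp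
  obtain ⟨g, hg⟩ : ∃ g : ℕ → Γ, g = fun i => if i < 7 then g₂ i else ev g₂ (EX.getD (i - 7) []) :=
    ⟨_, rfl⟩
  have hg6 : ∀ i < 7, g i = g₂ i := fun i hi => by rw [hg]; simp [hi]
  have hgz : ∀ i, 7 ≤ i → g i = ev g₂ (EX.getD (i - 7) []) := fun i hi => by
    rw [hg]; simp [show ¬ i < 7 by omega]
  have hev : ∀ w, chkW w = true → ev g w = ev g₂ w := by
    intro w hw
    apply ev_congr
    intro a ha
    have := lt_of_chk hw a ha
    exact hg6 _ (by omega)
  have hcen : ∀ i, 6 + 1 ≤ i → g i ∈ Subgroup.center Γ := by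
    intro i hi
    rw [hgz i hi]
    by_cases hj : i - 7 < EX.length
    · rw [List.getD_eq_getElem _ _ hj]
      exact hπ.2.1 (hker g₂ hg₂π _ (List.all_eq_true.mp EX_chk _ (List.getElem_mem hj)))
    · rw [List.getD_eq_default _ _ (by omega)]
      simp [one_mem]
  have hdef : ∀ j (hj : j < EX.length), g (6 + 1 + j) = ev g EX[j] := by
    intro j hj
    rw [hgz _ (by omega), hev _ (List.all_eq_true.mp EX_chk _ (List.getElem_mem hj)),
      show 6 + 1 + j - 7 = j by omega, List.getD_eq_getElem _ _ hj]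
  have hsr : ∀ w ∈ SR, ∀ x : Γ, x * ev g w * x⁻¹ ∈ H₁ := by
    intro w hw x
    have hw' := List.all_eq_true.mp SR_chk w hw
    have h1 : ev g w ∈ Subgroup.center Γ := by
      rw [hev w hw']; exact hπ.2.1 (hker g₂ hg₂π _ hw')
    have h2 : x * ev g w * x⁻¹ = ev g w := by
      rw [Subgroup.mem_center_iff.mp h1 x]; simp
    rw [h2]
    apply ev_mem
    intro a ha
    have h10 : ∀ w ∈ SR, ∀ a ∈ w, a < 12 := by decide
    have := h10 w hw a ha
    rw [hg6 _ (by omega)]
    exact hg₂H _ (by omega)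
  have hnw : ev g [28] = 1 := by
    have e2 : L g 28 = g 14 := by unfold L; norm_num
    rw [ev_cons, ev_nil, e2, hgz 14 (by norm_num), mul_one]
    exact hnorm
  have hgen : Subgroup.closure {x | ∃ i < G23Up.dD.k, x = g i} = ⊤ := by
    apply Cfsg.Agent.Lib.Helper66.IsStemExtension.closure_eq_top hπ
    rw [eq_top_iff, ← closure_gb]
    apply Subgroup.closure_mono
    rintro _ ⟨i, hi, rfl⟩
    exact ⟨g i, ⟨i, by change i < 15; omega, rfl⟩, by rw [hg6 i hi, hg₂π]⟩
  have h := card_le (g := g) (S := H₁) (D := G23Up.dD)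
    (by
      change g 15 = 1
      rw [hgz 15 (by norm_num)]
      rfl)
    hgen
    (fun w hw => good_of_cls H₁ g 6 SR EX [28] hcen hsr hdef hnw w (up_rels w hw))
    (by
      intro a ha
      apply L_mem
      have ha' : a ∈ [0, 2, 4, 6, 8, 10] := ha
      have h5 : a / 2 < 6 := by
        simp only [List.mem_cons, List.not_mem_nil, or_false] at ha'
        rcases ha' with rfl | rfl | rfl | rfl | rfl | rfl <;> norm_num
      rw [hg6 _ (by omega)]
      exact hg₂H _ h5)
    G23Up.dJS G23Up.chk_all 2268 G23Up.dLive G23Up.dPos G23Up.dFin G23Up.chk_fin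
  have hH : Nat.card H₁ ≤ 5616 := by
    rw [card_SL33, card_schurM_SL33, one_mul] at hcard
    exact hcard
  have h3 : Nat.card Γ = Nat.card P * Nat.card π.ker := by
    rw [Subgroup.card_eq_card_quotient_mul_card_subgroup π.ker,
      Nat.card_congr (QuotientGroup.quotientKerEquivOfSurjective π hπ.1).toEquiv]
  rw [card_P] at h3
  have h4 : Nat.card Γ ≤ 2268 * 5616 := h.trans (Nat.mul_le_mul_left _ hH)
  rw [h3] at h4
  omega

end Cfsg.Agent.Lib.Helper66.G23U
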