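import Cfsg.Agent.Lib.Helper66.TCE

set_option autoImplicit false
set_option maxRecDepth 100000
namespace Cfsg.Agent.Lib.Helper66.M22Pres
open Cfsg.Agent.Lib.Helper66.TCE
def dF_0 : BT := .node (.node (.node (.node (.node (.node (.node (.leaf 0) (.leaf 226022706442)) (.leaf 192199805570)) (.node (.leaf 87509965830) (.leaf 164282538241))) (.node (.node (.leaf 44023419138) (.leaf 53150252940)) (.node (.leaf 143881417994) (.leaf 216359000586)))) (.node (.node (.node (.leaf 6442456066) (.leaf 59592685443)) (.node (.leaf 115964126986) (.leaf 164282538245))) (.node (.node (.leaf 66035127434) (.leaf 108447941633)) (.node (.leaf 66572032904) (.leaf 217432750985))))) (.node (.node (.node (.node (.leaf 11811160712) (.leaf 206158450184)) (.node (.leaf 101468610950) (.leaf 181462402572))) (.node (.node (.leaf 57445192200) (.leaf 38654722572)) (.node (.leaf 154618839687) (.leaf 218506499584)))) (.node (.node (.node (.leaf 10200554496) (.leaf 33822875523)) (.node (.leaf 49392155140) (.leaf 105226740998))) (.node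 (.node (.leaf 75161933706) (.leaf 102005508236)) (.node (.leaf 178241160198) (.leaf 222264610950)))))) (.node (.node (.node (.node (.node (.leaf 5905580550) (.leaf 82141297032)) (.node (.leaf 34359760770) (.leaf 119185360903))) (.node (.node (.leaf 49392127882) (.leaf 40802213004)) (.node (.leaf 147102647938) (.leaf 219580233354)))) (.node (.node (.node (.leaf 7516198658) (.leaf 58518969356)) (.node (.leaf 46170928001) (.leaf 163745665283))) (.node (.node (.leaf 24696079492) (.leaf 35970365068)) (.node (.leaf 172335579272) (.leaf 213674675840))))) (.node (.node (.node (.node (.leaf 16643002244) (.leaf 148713261324)) (.node (.leaf 38654731652) (.leaf 182536129676))) (.node (.node (.leaf 20937980164) (.leaf 18790484617)) (.node (.leaf 159450698624) (.leaf 134754630917)))) (.node (.node (.node (.leaf 37580966792) (.leaf 111669162505)) (.node (.leaf 51539640449) (.leaf 96099919235))) (.node (.node (.leaf 80530644608) (.leaf 101468632321)) (.node (.leaf 185220508673) (.leaf 222801482504))))))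
def dF_1 : BT := .node (.node (.node (.node (.node (.node (.node (.leaf 2684354692) (.leaf 229243933312)) (.leaf 149787031040)) (.node (.leaf 90194332544) (.leaf 117037873537))) (.node (.node (.leaf 47781515014) (.leaf 188978579596)) (.node (.leaf 146028902528) (.leaf 217969615370)))) (.node (.node (.node (.leaf 22548581120) (.leaf 188978596737)) (.node (.leaf 119185352970) (.leaf 120259094924))) (.node (.node (.leaf 69256353158) (.leaf 81604382988)) (.node (.leaf 67645775370) (.leaf 220653984003))))) (.node (.node (.node (.node (.leaf 14495518085) (.leaf 209916554371)) (.node (.leaf 36507246986) (.leaf 25769813770))) (.node (.node (.leaf 59055806466) (.leaf 27380422278)) (.node (.leaf 89657479938) (.leaf 134754649483)))) (.node (.node (.node (.leaf 33285999362) (.leaf 23085457281)) (.node (.leaf 134217739910) (.leaf 108984818313))) (.node (.node (.leaf 26843564160) (.leaf 75698818562)) (.node (.leaf 75161970946) (.leaf 179851809281)))))) (.node (.node (.node (.node (.node (.leaf 2147485697) (.leaf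 83215039746)) (.node (.leaf 96099916166) (.leaf 187367976322))) (.node (.node (.leaf 53150229639) (.leaf 18790508556)) (.node (.leaf 150323891203) (.leaf 213674644873)))) (.node (.node (.node (.leaf 27380418690) (.leaf 23085463564)) (.node (.leaf 48855283328) (.leaf 126701555848))) (.node (.node (.leaf 5905585932) (.leaf 83751876359)) (.node (.leaf 175019934720) (.leaf 222801481604))))) (.node (.node (.node (.node (.leaf 19327356290) (.leaf 46170919692)) (.node (.leaf 40265345286) (.leaf 48855270913))) (.node (.node (.leaf 25232948099) (.leaf 71940728716)) (.node (.leaf 65498290310) (.leaf 218506500616)))) (.node (.node (.node (.leaf 41875937410) (.leaf 164819416197)) (.node (.leaf 54223996042) (.leaf 91804976512))) (.node (.node (.leaf 28991049088) (.leaf 104152994688)) (.node (.leaf 77846327304) (.leaf 227633317378))))))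
def dF_2 : BT := .node dF_0 dF_1
def dF_3 : BT := .node (.node (.node (.node (.node (.node (.node (.leaf 536871297) (.leaf 228707062401)) (.leaf 79456941190)) (.node (.leaf 31138534145) (.leaf 79456909708))) (.node (.node (.leaf 42412812934) (.leaf 193273546636)) (.node (.leaf 144955159946) (.leaf 104153008778)))) (.node (.node (.node (.leaf 22011710088) (.leaf 77846288647)) (.node (.leaf 115427273992) (.leaf 185220508802))) (.node (.node (.leaf 67645750913) (.leaf 112206030468)) (.node (.leaf 168577483008) (.leaf 220117126406))))) (.node (.node (.node (.node (.leaf 13421773578) (.leaf 207769063554)) (.node (.leaf 36507246594) (.leaf 117574764038))) (.node (.node (.leaf 30601655815) (.leaf 109521673740)) (.node (.leaf 62813934084) (.leaf 133144033537)))) (.node (.node (.node (.leaf 32212261249) (.leaf 60666453644)) (.node (.leaf 132607146753) (.leaf 130996519683))) (.node (.node (.leaf 76235675658) (.leaf 37580980480)) (.node (.leaf 83751905031) (.leaf 224412094726)))))) (.node (.node (.node (.node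 (.node (.leaf 6979323008) (.leaf 200789740802)) (.node (.leaf 67108886662) (.leaf 185757366412))) (.node (.node (.leaf 51539611778) (.leaf 110058574604)) (.node (.leaf 59592706690) (.leaf 156766328195)))) (.node (.node (.node (.leaf 25769806080) (.leaf 145492033164)) (.node (.leaf 125627806982) (.leaf 157303197194))) (.node (.node (.leaf 25232950664) (.leaf 49392129415)) (.node (.leaf 94489321728) (.leaf 222264601732))))) (.node (.node (.node (.node (.leaf 17716741130) (.leaf 191126090251)) (.node (.leaf 38654732042) (.leaf 127238436231))) (.node (.node (.leaf 20937980554) (.leaf 137975842434)) (.node (.leaf 64961418762) (.leaf 161061313420)))) (.node (.node (.node (.leaf 40265321604) (.leaf 196494766220)) (.node (.leaf 140123320330) (.leaf 105226740995))) (.node (.node (.leaf 33286015876) (.leaf 102005487365)) (.node (.leaf 186831095814) (.leaf 227096448384))))))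
def dF_4 : BT := .node (.node (.node (.node (.node (.node (.node (.leaf 4294967936) (.leaf 229243933447)) (.leaf 197031644042)) (.node (.leaf 91804933898) (.leaf 117037873545))) (.node (.node (.leaf 48318388864) (.leaf 17716741767)) (.node (.leaf 146565773060) (.leaf 119185394820)))) (.node (.node (.node (.leaf 23622321798) (.leaf 5905591180)) (.node (.leaf 121332836742) (.leaf 56908327303))) (.node (.node (.leaf 24159208066) (.leaf 84288737420)) (.node (.leaf 69793259266) (.leaf 201863515658))))) (.node (.node (.node (.node (.leaf 15569257354) (.leaf 87510008834)) (.node (.leaf 106837320454) (.leaf 155155708547))) (.node (.node (.leaf 21474850820) (.leaf 112206047628)) (.node (.leaf 90194350982) (.leaf 215822146060)))) (.node (.node (.node (.leaf 12348039424) (.leaf 94489297153)) (.node (.leaf 50465898122) (.leaf 177167424129))) (.node (.node (.leaf 79456901380) (.leaf 76772560265)) (.node (.leaf 183072998920) (.leaf 179851809288)))))) (.node (.node (.node (.node (.node (.leaf 3221227778) (.leaf 204547837322))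 (.node (.leaf 98784256640) (.leaf 126164708489))) (.node (.node (.leaf 55834579334) (.leaf 32212257803)) (.node (.leaf 152471353730) (.leaf 215285286412)))) (.node (.node (.node (.leaf 28454160644) (.leaf 68182610700)) (.node (.leaf 128849030532) (.leaf 164282515722))) (.node (.node (.leaf 63350782730) (.leaf 17716747011)) (.node (.leaf 176630547206) (.leaf 223338352010))))) (.node (.node (.node (.node (.leaf 19864225670) (.leaf 116501033611)) (.node (.leaf 41339087494) (.leaf 75161958412))) (.node (.node (.leaf 64961385480) (.leaf 32212263942)) (.node (.leaf 66572032512) (.leaf 217432759040)))) (.node (.node (.node (.leaf 42949682944) (.leaf 18790487180)) (.node (.leaf 56908350856) (.leaf 214211515782))) (.node (.node (.leaf 85362481926) (.leaf 69793227527)) (.node (.leaf 88046875008) (.leaf 228170190344))))))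
def dF_5 : BT := .node dF_3 dF_4
def dF_6 : BT := .node dF_2 dF_5
def dF_7 : BT := .node (.node (.node (.node (.node (.node (.node (.leaf 8) (.leaf 228707061378)) (.leaf 78920070026)) (.node (.leaf 88046836746) (.leaf 162671935116))) (.node (.node (.leaf 15569267200) (.leaf 55297706636)) (.node (.leaf 144418293640) (.leaf 216895899264)))) (.node (.node (.node (.leaf 22011710084) (.leaf 77846296448)) (.node (.leaf 45097184390) (.leaf 200252897925))) (.node (.node (.leaf 22548594186) (.leaf 67108866956)) (.node (.leaf 67108904068) (.leaf 134217760010))))) (.node (.node (.node (.node (.leaf 12348031626) (.leaf 207232216576)) (.node (.leaf 102005481864) (.leaf 143881452552))) (.node (.node (.leaf 19327366666) (.leaf 40265360012)) (.node (.leaf 62813933954) (.leaf 219043379979)))) (.node (.node (.node (.leaf 31138515330) (.leaf 63350775684)) (.node (.leaf 131533385224) (.leaf 112206062849))) (.node (.node (.leaf 75698816651) (.leaf 103079221132)) (.node (.leaf 74088228618) (.leaf 156766359818)))))) (.node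 (.node (.node (.node (.node (.leaf 6442451968) (.leaf 200252897793)) (.node (.leaf 94489288584) (.leaf 129922780428))) (.node (.node (.leaf 17716752128) (.leaf 11274315784)) (.node (.leaf 147639517825) (.leaf 186294258183)))) (.node (.node (.node (.leaf 25232935040) (.leaf 25232962060)) (.node (.leaf 125090933642) (.leaf 162671923463))) (.node (.node (.leaf 74088197248) (.leaf 49392132096)) (.node (.leaf 69793259782) (.leaf 221727737352))))) (.node (.node (.node (.node (.leaf 17179870340) (.leaf 191126090508)) (.node (.leaf 109521675270) (.leaf 127775294988))) (.node (.node (.leaf 62277030790) (.leaf 137438986244)) (.node (.leaf 81067545734) (.leaf 134217759881)))) (.node (.node (.node (.leaf 13421782145) (.leaf 168577483014)) (.node (.leaf 139049578626) (.leaf 96099919234))) (.node (.node (.leaf 81067514248) (.leaf 101468616841)) (.node (.leaf 185757353986) (.leaf 200789775236))))))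
def dF_8 : BT := .node (.node (.node (.node (.node (.node (.node (.leaf 3758096642) (.leaf 229243932933)) (.leaf 91268101760)) (.node (.leaf 90731191818) (.leaf 26843560325))) (.node (.node (.leaf 47781522568) (.leaf 17716744449)) (.node (.leaf 60666447880) (.leaf 219043360132)))) (.node (.node (.node (.leaf 11811165446) (.leaf 46707780107)) (.node (.leaf 44560314376) (.leaf 44560296329))) (.node (.node (.leaf 24159207808) (.leaf 137975844364)) (.node (.leaf 170188095618) (.leaf 221190851712))))) (.node (.node (.node (.node (.leaf 15032386440) (.leaf 86973137926)) (.node (.leaf 105763578504) (.leaf 158376938379))) (.node (.node (.leaf 59592675978) (.leaf 33822875916)) (.node (.leaf 158376940550) (.leaf 198642269191)))) (.node (.node (.node (.leaf 11274297354) (.leaf 34359746563)) (.node (.leaf 50465897990) (.leaf 97173660933))) (.node (.node (.leaf 59592689926) (.leaf 117037878658)) (.node (.leaf 75161971206) (.leaf 225485825922)))))) (.node (.node (.node (.node (.node (.leaf 2147485960) (.leaf 203474095872))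 (.node (.leaf 97710514308) (.leaf 182536128520))) (.node (.node (.leaf 54760837506) (.leaf 26843581324)) (.node (.leaf 150860740874) (.leaf 212064060680)))) (.node (.node (.node (.leaf 9126812166) (.leaf 21474852876)) (.node (.leaf 82141280006) (.leaf 200252880521))) (.node (.node (.leaf 1073742091) (.leaf 83215005062)) (.node (.leaf 175556830091) (.leaf 222801480963))))) (.node (.node (.node (.node (.leaf 5905584769) (.leaf 124017201804)) (.node (.leaf 113279772292) (.leaf 183073028620))) (.node (.node (.leaf 22011722754) (.leaf 41339077632)) (.node (.leaf 66035161474) (.leaf 132607167364)))) (.node (.node (.node (.leaf 13958653834) (.leaf 44023447308)) (.node (.leaf 142807675656) (.leaf 213137773954))) (.node (.node (.leaf 84288740098) (.leaf 104152976262)) (.node (.leaf 190052347776) (.leaf 228170189442))))))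
def dF_9 : BT := .node dF_7 dF_8
def dF_10 : BT := .node (.node (.node (.node (.node (.node (.node (.leaf 1073742086) (.leaf 226022708488)) (.leaf 194884160132)) (.node (.leaf 89657461504) (.leaf 61740173187))) (.node (.node (.leaf 46707779456) (.leaf 117037873028)) (.node (.leaf 60129576832) (.leaf 212600932999)))) (.node (.node (.node (.leaf 18253615364) (.leaf 187904864896)) (.node (.leaf 44023443076) (.leaf 125627804044))) (.node (.node (.leaf 68182611330) (.leaf 11274292354)) (.node (.leaf 169114359810) (.leaf 220653975044))))) (.node (.node (.node (.node (.leaf 3758099716) (.leaf 208842805384)) (.node (.leaf 36507246856) (.leaf 117037902732))) (.node (.node (.leaf 20401108608) (.leaf 27917293187)) (.node (.leaf 63350805254) (.leaf 134754651139)))) (.node (.node (.node (.leaf 32749128322) (.leaf 41339064706)) (.node (.leaf 133143998082) (.leaf 40265327370))) (.node (.node (.leaf 76772547456) (.leaf 60666424835)) (.node (.leaf 75161970817) (.leaf 224948949640)))))) (.node (.node (.node (.node (.node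 (.leaf 5368710912) (.leaf 201863482630)) (.node (.leaf 34896632321) (.leaf 200789749513))) (.node (.node (.leaf 52613353608) (.leaf 114890385036)) (.node (.leaf 59592706952) (.leaf 213674674188)))) (.node (.node (.node (.leaf 9663682688) (.leaf 3758096907)) (.node (.leaf 47781541258) (.leaf 201863510785))) (.node (.node (.leaf 74625062916) (.leaf 20937972486)) (.node (.leaf 173946192258) (.leaf 222264610056))))) (.node (.node (.node (.node (.leaf 12884906240) (.leaf 15569306380)) (.node (.leaf 40265344896) (.leaf 75161947270))) (.node (.node (.leaf 32212269826) (.leaf 137975836677)) (.node (.leaf 65498290050) (.leaf 165893147788)))) (.node (.node (.node (.leaf 41339063432) (.leaf 136365247233)) (.node (.leaf 141197063040) (.leaf 94489318277))) (.node (.node (.leaf 27917307018) (.leaf 25232941570)) (.node (.leaf 77846327042) (.leaf 227096448137))))))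
def dF_11 : BT := .node (.node (.node (.node (.node (.node (.leaf 1073743114) (.leaf 82141296770)) (.node (.leaf 93415546756) (.leaf 186831105804))) (.node (.node (.leaf 17179880706) (.leaf 71403837964)) (.node (.leaf 59055835398) (.leaf 162671938688)))) (.node (.node (.node (.leaf 18253616640) (.leaf 2147487372)) (.node (.leaf 122406578692) (.leaf 144955161218))) (.node (.node (.leaf 24159208326) (.leaf 71940711815)) (.node (.leaf 69256388612) (.leaf 221727718538))))) (.node (.node (.node (.node (.leaf 8589938436) (.leaf 86973138058)) (.node (.leaf 107911070086) (.leaf 129385926922))) (.node (.node (.leaf 27917301892) (.leaf 41339070091)) (.node (.leaf 158913807618) (.leaf 132070283779)))) (.node (.node (.node (.leaf 36507224964) (.leaf 60666429571)) (.node (.leaf 51002769290) (.leaf 95563045379))) (.node (.node (.leaf 77846301322) (.leaf 20401103232)) (.node (.leaf 184146766599) (.leaf 198642291466)))))) (.node (.node (.node (.node (.node (.leaf 10737418882) (.leaf 205621579268)) (.node (.leaf 35970375041)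 (.leaf 201863506185))) (.node (.node (.leaf 56908321284) (.leaf 139586444172)) (.node (.leaf 153545095558) (.leaf 213674648074)))) (.node (.node (.node (.leaf 9663683462) (.leaf 21474841989)) (.node (.leaf 48855283976) (.leaf 177704314247))) (.node (.node (.leaf 25769821572) (.leaf 99858003212)) (.node (.leaf 73014486276) (.leaf 223875207428))))) (.node (.node (.node (.node (.leaf 5905585032) (.leaf 88583711488)) (.node (.leaf 115427256070) (.leaf 162671906948))) (.node (.node (.leaf 33286012038) (.leaf 74088203267)) (.node (.leaf 66572032642) (.leaf 166430034818)))) (.node (.node (.node (.leaf 43486547338) (.leaf 12884913932)) (.node (.leaf 143344547204) (.leaf 215285258506))) (.node (.node (.leaf 86436223882) (.leaf 128312182273)) (.node (.leaf 191662944651) (.leaf 227633320588))))))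
def dF_12 : BT := .node dF_10 dF_11
def dF_13 : BT := .node dF_9 dF_12
def dF_14 : BT := .node dF_6 dF_13
def dF_15 : BT := .node (.node (.node (.node (.node (.node (.node (.leaf 4) (.leaf 228170191495)) (.leaf 192199832074)) (.node (.leaf 57982079360) (.leaf 163745645578))) (.node (.node (.leaf 15032396170) (.leaf 54223966092)) (.node (.leaf 144418289030) (.leaf 216895872778)))) (.node (.node (.node (.leaf 6442456198) (.leaf 59592685447)) (.node (.leaf 116500999040) (.leaf 183073000708))) (.node (.node (.leaf 66035134343) (.leaf 63887655942)) (.node (.leaf 67108903938) (.leaf 165356292741))))) (.node (.node (.node (.node (.leaf 3221228292) (.leaf 206695321098)) (.node (.leaf 37044117122) (.leaf 143881422339))) (.node (.node (.leaf 57445197826) (.leaf 13421814274)) (.node (.leaf 62813933825) (.leaf 219043383171)))) (.node (.node (.node (.leaf 30601649153) (.leaf 94489320844)) (.node (.leaf 130996527616) (.leaf 130996527624))) (.node (.node (.leaf 75698804742) (.leaf 36507227136)) (.node (.leaf 73014486666)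 (.leaf 223875218058)))))) (.node (.node (.node (.node (.node (.leaf 1610614276) (.leaf 82678168064)) (.node (.leaf 34359760776) (.leaf 143881448454))) (.node (.node (.leaf 17179881098) (.leaf 11274322820)) (.node (.leaf 59055835530) (.leaf 216895883012)))) (.node (.node (.node (.leaf 8053069700) (.leaf 536881932)) (.node (.leaf 124554062850) (.leaf 163745667209))) (.node (.node (.leaf 25232950534) (.leaf 37581004044)) (.node (.leaf 172335584139) (.leaf 212600934024))))) (.node (.node (.node (.node (.leaf 4294971400) (.leaf 59592689922)) (.node (.leaf 108984804736) (.leaf 82141279616))) (.node (.node (.leaf 61740159754) (.leaf 26843559817)) (.node (.leaf 74625094786) (.leaf 134754638593)))) (.node (.node (.node (.leaf 38117837834) (.leaf 95026172811)) (.node (.leaf 51539640710) (.leaf 96099901577))) (.node (.node (.leaf 27917306626) (.leaf 101468620037)) (.node (.leaf 86436260998) (.leaf 226559578885))))))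
def dF_16 : BT := .node (.node (.node (.node (.node (.node (.node (.leaf 3221225608) (.leaf 229243933446)) (.leaf 195957902084)) (.node (.leaf 33286018048) (.leaf 119185373068))) (.node (.node (.leaf 47781515138) (.leaf 62277038092)) (.node (.leaf 74088220676) (.leaf 218506487946)))) (.node (.node (.node (.leaf 6979327236) (.leaf 122943449996)) (.node (.leaf 44560314370) (.leaf 121332839692))) (.node (.node (.leaf 23085465864) (.leaf 38654714507)) (.node (.leaf 135828381184) (.leaf 132607168002))))) (.node (.node (.node (.node (.leaf 13958647175) (.leaf 121869747079)) (.node (.leaf 105226707588) (.leaf 197031662476))) (.node (.node (.leaf 20937979648) (.leaf 175556814092)) (.node (.leaf 63350805384) (.leaf 129385921541)))) (.node (.node (.node (.leaf 10737426314) (.leaf 95026192524)) (.node (.leaf 49929026952) (.leaf 97173661825))) (.node (.node (.leaf 78383171713) (.leaf 75698818568)) (.node (.leaf 75161971076) (.leaf 225485825926)))))) (.node (.node (.node (.node (.node (.leaf 2147485828) (.leaf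 83215039876)) (.node (.leaf 97173643394) (.leaf 182536154764))) (.node (.node (.leaf 18790494849) (.leaf 76772559363)) (.node (.leaf 63350803461) (.leaf 212064060674)))) (.node (.node (.node (.leaf 10737424772) (.leaf 77846300803)) (.node (.leaf 127775307393) (.leaf 200252897923))) (.node (.node (.leaf 1073743116) (.leaf 202937232652)) (.node (.leaf 175556805122) (.leaf 222801472138))))) (.node (.node (.node (.node (.leaf 19327356291) (.leaf 88046834188)) (.node (.leaf 40265345416) (.leaf 86436237443))) (.node (.node (.leaf 64424514566) (.leaf 10737421446)) (.node (.leaf 65498290440) (.leaf 218506500866)))) (.node (.node (.node (.leaf 15032395524) (.leaf 4831853964)) (.node (.leaf 110595441792) (.leaf 212600931713))) (.node (.node (.leaf 83751882113) (.leaf 104152974722)) (.node (.leaf 189515450626) (.leaf 220117128202))))))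
def dF_17 : BT := .node dF_15 dF_16
def dF_18 : BT := .node (.node (.node (.node (.node (.node (.node (.leaf 1610612870) (.leaf 228170192138)) (.leaf 79456941320)) (.node (.leaf 32212276102) (.leaf 151934478604))) (.node (.node (.leaf 15569267590) (.leaf 194347298060)) (.node (.leaf 145492031106) (.leaf 217432770433)))) (.node (.node (.node (.leaf 16643002248) (.leaf 77846300811)) (.node (.leaf 117574739978) (.leaf 185220488842))) (.node (.node (.leaf 34359754502) (.leaf 112206030216)) (.node (.leaf 169114359814) (.leaf 133144038656))))) (.node (.node (.node (.node (.leaf 13958645762) (.leaf 208305934468)) (.node (.leaf 36507246726) (.leaf 42949716748))) (.node (.node (.leaf 58518934148) (.leaf 74088221068)) (.node (.leaf 62813934214) (.leaf 134754650752)))) (.node (.node (.node (.leaf 10737426054) (.leaf 111669183500)) (.node (.leaf 66572024710) (.leaf 113816642316))) (.node (.node (.leaf 76772546694) (.leaf 106837328140)) (.node (.leaf 179851773322) (.leaf 179851809024)))))) (.node (.node (.node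 (.node (.node (.leaf 1610614538) (.leaf 201326611716)) (.node (.leaf 95563030532) (.leaf 129385908227))) (.node (.node (.leaf 52076482694) (.leaf 114353509388)) (.node (.leaf 59592706820) (.leaf 156766358025)))) (.node (.node (.node (.leaf 26306676744) (.leaf 3221255180)) (.node (.leaf 56908346630) (.leaf 143881441925))) (.node (.node (.leaf 74625063558) (.leaf 18253617546)) (.node (.leaf 173409321226) (.leaf 222264609792))))) (.node (.node (.node (.node (.leaf 18253612166) (.leaf 86973106571)) (.node (.leaf 39191603076) (.leaf 117574749315))) (.node (.node (.leaf 21474851584) (.leaf 137975838471)) (.node (.leaf 65498289792) (.leaf 161061289480)))) (.node (.node (.node (.leaf 40802192518) (.leaf 80530649227)) (.node (.leaf 53687124868) (.leaf 97173666315))) (.node (.node (.leaf 27380435978) (.leaf 102005487879)) (.node (.leaf 77309456008) (.leaf 227096449415))))))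
def dF_19 : BT := .node (.node (.node (.node (.node (.node (.leaf 4831838472) (.leaf 197568526464)) (.node (.leaf 33822889601) (.leaf 119185354114))) (.node (.node (.leaf 48318388356) (.leaf 70330097292)) (.node (.leaf 143344568448) (.leaf 219580240514)))) (.node (.node (.node (.leaf 23622323208) (.leaf 19864251532)) (.node (.leaf 121869707778) (.leaf 144955183360))) (.node (.node (.leaf 24159208196) (.leaf 85899352972)) (.node (.leaf 171261837572) (.leaf 150860779012))))) (.node (.node (.node (.node (.leaf 16106128386) (.leaf 168040624642)) (.node (.leaf 107374191370) (.leaf 155155708553))) (.node (.node (.leaf 60666417926) (.leaf 21474846343)) (.node (.leaf 158913805190) (.leaf 165356263819)))) (.node (.node (.node (.leaf 35970354050) (.leaf 94489303047)) (.node (.leaf 51002769154) (.leaf 95563045129))) (.node (.node (.leaf 79993772294) (.leaf 28991049221)) (.node (.leaf 76772584330) (.leaf 179851809412)))))) (.node (.node (.node (.node (.node (.leaf 10200547850) (.leaf 205084708354)) (.node (.leaf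 99321127178) (.leaf 183073029123))) (.node (.node (.leaf 56371450248) (.leaf 137975859468)) (.node (.leaf 153008224644) (.leaf 212600903947)))) (.node (.node (.node (.leaf 9126812426) (.leaf 41339073292)) (.node (.leaf 129385901446) (.leaf 177704310916))) (.node (.node (.leaf 67645742978) (.leaf 29527907080)) (.node (.leaf 177167418120) (.leaf 161061326850))))) (.node (.node (.node (.node (.leaf 5905584900) (.leaf 19327360010)) (.node (.leaf 41339087626) (.leaf 75161939333))) (.node (.node (.leaf 64961385730) (.leaf 106300449804)) (.node (.leaf 165356272390) (.leaf 166430024970)))) (.node (.node (.node (.leaf 15032395776) (.leaf 117037894412)) (.node (.leaf 143344567686) (.leaf 214748386696))) (.node (.node (.leaf 85899352840) (.leaf 161598160140)) (.node (.leaf 78920069761) (.leaf 221190870152))))))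
def dF_20 : BT := .node dF_18 dF_19
def dF_21 : BT := .node dF_17 dF_20
def dF_22 : BT := .node (.node (.node (.node (.node (.node (.node (.leaf 536870922) (.leaf 228707061766)) (.leaf 79456941058)) (.node (.leaf 88583711618) (.leaf 162671906187))) (.node (.node (.leaf 45634038273) (.leaf 39728450188)) (.node (.leaf 62277060224) (.leaf 213137803784)))) (.node (.node (.node (.leaf 16643003520) (.leaf 188441736588)) (.node (.leaf 117037869062) (.leaf 127238436482))) (.node (.node (.leaf 23085465216) (.leaf 49392140428)) (.node (.leaf 67108904200) (.leaf 126164716804))))) (.node (.node (.node (.node (.leaf 12884902662) (.leaf 184683643142)) (.node (.leaf 37580988162) (.leaf 117574773888))) (.node (.node (.leaf 57982066049) (.leaf 41339101964)) (.node (.leaf 156229450376) (.leaf 133144038409)))) (.node (.node (.node (.leaf 31675386246) (.leaf 20401100162)) (.node (.leaf 49929026304) (.leaf 176093690380))) (.node (.node (.leaf 29527918208) (.leaf 104152994956)) (.node (.leaf 179314904961) (.leaf 224412083586))))))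 (.node (.node (.node (.node (.node (.leaf 1610614408) (.leaf 126701582982)) (.node (.leaf 95026167936) (.leaf 48855272712))) (.node (.node (.leaf 51002748673) (.leaf 16643002752)) (.node (.leaf 73014479234) (.leaf 156766358017)))) (.node (.node (.node (.leaf 8053069832) (.leaf 13958648330)) (.node (.leaf 125627804804) (.leaf 157303211525))) (.node (.node (.leaf 27917305096) (.leaf 130996543500)) (.node (.leaf 172872455816) (.leaf 222264591754))))) (.node (.node (.node (.node (.leaf 11811164160) (.leaf 191126063746)) (.node (.leaf 110058546184) (.leaf 48855296012))) (.node (.node (.leaf 62277031426) (.leaf 137438967175)) (.node (.leaf 64424547716) (.leaf 133680896897)))) (.node (.node (.node (.leaf 13421782274) (.leaf 50465873418)) (.node (.leaf 51539640840) (.leaf 96099901573))) (.node (.node (.leaf 81067514498) (.leaf 102005507457)) (.node (.leaf 186294224900) (.leaf 227096449410))))))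
def dF_23 : BT := .node (.node (.node (.node (.node (.node (.node (.leaf 1073742852) (.leaf 229243933066)) (.leaf 196494773002)) (.node (.leaf 91268062852) (.leaf 41875945863))) (.node (.node (.leaf 48318385928) (.leaf 17716743173)) (.node (.leaf 146565773574) (.leaf 219043376512)))) (.node (.node (.node (.leaf 23085450762) (.leaf 14495525004)) (.node (.leaf 120795965828) (.leaf 47781521797))) (.node (.node (.leaf 70866977153) (.leaf 59055817995)) (.node (.leaf 68182646536) (.leaf 221190851718))))) (.node (.node (.node (.node (.leaf 4831841794) (.leaf 210453426560)) (.node (.leaf 106300449418) (.leaf 155155730828))) (.node (.node (.leaf 60129547010) (.leaf 108447939334)) (.node (.leaf 158376940546) (.leaf 132607138314)))) (.node (.node (.node (.leaf 11811168394) (.leaf 34359746439)) (.node (.leaf 135291482240) (.leaf 108984818435))) (.node (.node (.leaf 78920030466) (.leaf 83215011205)) (.node (.leaf 182536140160) (.leaf 225485827466)))))) (.node (.node (.node (.node (.node (.leaf 9663677186) (.leaf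 204010966408)) (.node (.leaf 98247385224) (.leaf 200789764743))) (.node (.node (.leaf 55297708420) (.leaf 10737443980)) (.node (.leaf 61740191105) (.leaf 211527189890)))) (.node (.node (.node (.leaf 9126812296) (.leaf 33822883596)) (.node (.leaf 128312159618) (.leaf 186294253833))) (.node (.node (.leaf 30601652099) (.leaf 204010964876)) (.node (.leaf 176093676290) (.leaf 223338335368))))) (.node (.node (.node (.node (.leaf 19864225667) (.leaf 116501027844)) (.node (.leaf 40265345546) (.leaf 183073000705))) (.node (.node (.leaf 64424517256) (.leaf 108447933448)) (.node (.leaf 164819402502) (.leaf 212064049926)))) (.node (.node (.node (.leaf 14495524872) (.leaf 6979334284)) (.node (.leaf 142807692298) (.leaf 213674644868))) (.node (.node (.leaf 84825611012) (.leaf 36507230731)) (.node (.leaf 78383198602) (.leaf 228170190852))))))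
def dF_24 : BT := .node dF_22 dF_23
def dF_25 : BT := .node (.node (.node (.node (.node (.node (.node (.leaf 2147483778) (.leaf 223875224962)) (.leaf 79993812488)) (.node (.leaf 32212276232) (.leaf 153545090828))) (.node (.node (.leaf 47244643976) (.leaf 77846292740)) (.node (.leaf 146028902022) (.leaf 212064061323)))) (.node (.node (.node (.leaf 22548579848) (.leaf 187904864010)) (.node (.leaf 118648499848) (.leaf 44560309888))) (.node (.node (.leaf 68719482244) (.leaf 71940728192)) (.node (.leaf 69793258880) (.leaf 220653983624))))) (.node (.node (.node (.node (.leaf 3758099841) (.leaf 209379676930)) (.node (.leaf 104152965892) (.leaf 117037877130))) (.node (.node (.leaf 59055805064) (.leaf 40265340172)) (.node (.leaf 157840063488) (.leaf 134754620807)))) (.node (.node (.node (.leaf 10737426184) (.leaf 64961396996)) (.node (.leaf 133680868996) (.leaf 94489306506))) (.node (.node (.leaf 26306693130) (.leaf 37044104712)) (.node (.leaf 180925527430) (.leaf 201863516548)))))) (.node (.node (.node (.node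 (.node (.leaf 8053065099) (.leaf 82678168712)) (.node (.leaf 96636772486) (.leaf 117574760585))) (.node (.node (.leaf 53150224650) (.leaf 6442455430)) (.node (.leaf 60129577985) (.leaf 213674674691)))) (.node (.node (.node (.leaf 26843547658) (.leaf 26843552003)) (.node (.leaf 48318412298) (.leaf 126701583104))) (.node (.node (.leaf 60666427531) (.leaf 205084706444)) (.node (.leaf 174483063552) (.leaf 222801481216))))) (.node (.node (.node (.node (.leaf 18790483082) (.leaf 57982065676)) (.node (.leaf 40265345154) (.leaf 77309430920))) (.node (.node (.leaf 63887653633) (.leaf 24159194240)) (.node (.leaf 65498290180) (.leaf 150860742147)))) (.node (.node (.node (.leaf 41875934472) (.leaf 136365230213)) (.node (.leaf 141733933576) (.leaf 90194363658))) (.node (.node (.leaf 28454178058) (.leaf 73014452742)) (.node (.leaf 188441708676) (.leaf 224948966272))))))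
def dF_26 : BT := .node (.node (.node (.node (.node (.node (.leaf 1610614146) (.leaf 82141296900)) (.node (.leaf 93952417670) (.leaf 143881453836))) (.node (.node (.leaf 48855256842) (.leaf 72477579660)) (.node (.leaf 147102647944) (.leaf 144955198599)))) (.node (.node (.node (.leaf 6979327626) (.leaf 8589945484)) (.node (.leaf 122943449610) (.leaf 144955161224))) (.node (.node (.leaf 24159208456) (.leaf 12348039040)) (.node (.leaf 95563063296) (.leaf 221727737349))))) (.node (.node (.node (.node (.leaf 4294971270) (.leaf 210990313991)) (.node (.leaf 38654731522) (.leaf 126164711436))) (.node (.node (.leaf 61203288840) (.leaf 18790484613)) (.node (.leaf 63887676552) (.leaf 134217775363)))) (.node (.node (.node (.leaf 37044095878) (.leaf 61203300611)) (.node (.leaf 99321151360) (.leaf 96636787209))) (.node (.node (.leaf 27380435718) (.leaf 19864232325)) (.node (.leaf 184683637514) (.leaf 226559578112)))))) (.node (.node (.node (.node (.node (.leaf 11274289798) (.leaf 84825653120)) (.node (.leaf 100931740036)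 (.leaf 181462396295))) (.node (.node (.leaf 56908321536) (.leaf 12884906120)) (.node (.leaf 154081966472) (.leaf 218506511623)))) (.node (.node (.node (.leaf 29527903234) (.leaf 92341802380)) (.node (.leaf 49392155010) (.leaf 177704314249))) (.node (.node (.leaf 28454176134) (.leaf 100931736204)) (.node (.leaf 177704289034) (.leaf 223875222016))))) (.node (.node (.node (.node (.leaf 20937967234) (.leaf 148176378124)) (.node (.leaf 44023442304) (.leaf 163208772876))) (.node (.node (.leaf 65498256394) (.leaf 28991041548)) (.node (.leaf 66572032772) (.leaf 161061305093)))) (.node (.node (.node (.leaf 44023418374) (.leaf 23622324364)) (.node (.leaf 61203318144) (.leaf 215822129546))) (.node (.node (.leaf 86973094914) (.leaf 128312184203)) (.node (.leaf 78920069894) (.leaf 226022704643))))))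
def dF_27 : BT := .node dF_25 dF_26
def dF_28 : BT := .node dF_24 dF_27
def dF_29 : BT := .node dF_21 dF_28
def dF_30 : BT := .node dF_14 dF_29
def dF_31 : BT := .node (.node (.node (.node (.node (.node (.node (.leaf 2) (.leaf 226022706443)) (.leaf 79993811714)) (.node (.leaf 87509966208) (.leaf 163745670796))) (.node (.node (.leaf 18253621506) (.leaf 53687093900)) (.node (.leaf 57445222022) (.leaf 102005525002)))) (.node (.node (.node (.leaf 21474838018) (.leaf 149250158860)) (.node (.leaf 42412829824) (.leaf 201326635660))) (.node (.node (.leaf 66035134593) (.leaf 108447950090)) (.node (.leaf 166966869512) (.leaf 132070284041))))) (.node (.node (.node (.node (.leaf 11811160836) (.leaf 83751911562)) (.node (.leaf 101468611202) (.leaf 143881422338))) (.node (.node (.leaf 57445192576) (.leaf 39191582348)) (.node (.leaf 62813933696) (.leaf 214211546115)))) (.node (.node (.node (.leaf 10200554625) (.leaf 93952417804)) (.node (.leaf 130996514308) (.leaf 108984821127))) (.node (.node (.leaf 25769821830)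 (.leaf 102542352780)) (.node (.leaf 178241185291) (.leaf 156766359680)))))) (.node (.node (.node (.node (.node (.leaf 2147485062) (.leaf 199179127944)) (.node (.leaf 93952417800) (.leaf 143881425025))) (.node (.node (.leaf 49392132737) (.leaf 11274293633)) (.node (.leaf 62277060868) (.leaf 157303229570)))) (.node (.node (.node (.leaf 24696063746) (.leaf 59592716940)) (.node (.leaf 46170928136) (.leaf 155692603271))) (.node (.node (.leaf 73551320836) (.leaf 36507237260)) (.node (.leaf 93952450688) (.leaf 161061326470))))) (.node (.node (.node (.node (.leaf 11274293120) (.leaf 189515446156)) (.node (.leaf 108984804356) (.leaf 180925527692))) (.node (.node (.leaf 20401109386) (.leaf 26843559816)) (.node (.leaf 159450678658) (.leaf 213674654855)))) (.node (.node (.node (.leaf 12884910986) (.leaf 95026167944)) (.node (.leaf 51539640580) (.leaf 96099901576))) (.node (.node (.leaf 80530643458) (.leaf 101468620036)) (.node (.leaf 185220485254) (.leaf 222264611587))))))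
def dF_32 : BT := .node (.node (.node (.node (.node (.node (.node (.leaf 536871688) (.leaf 229243932932)) (.leaf 80530683524)) (.node (.leaf 90194334724) (.leaf 44023429504))) (.node (.node (.leaf 47781517824) (.leaf 38117842444)) (.node (.leaf 125627828224) (.leaf 112206072714)))) (.node (.node (.node (.leaf 22548579972) (.leaf 125090933260)) (.node (.leaf 44560314240) (.leaf 120795966604))) (.node (.node (.leaf 69256355840) (.leaf 38654714506)) (.node (.leaf 169651224330) (.leaf 162671938952))))) (.node (.node (.node (.node (.leaf 14495517959) (.leaf 116501037955)) (.node (.leaf 37044118020) (.leaf 25769813771))) (.node (.node (.leaf 25769817858) (.leaf 27380422279)) (.node (.leaf 89657479944) (.leaf 133144017029)))) (.node (.node (.node (.leaf 11811168002) (.leaf 67108872064)) (.node (.leaf 134217743872) (.leaf 97173661065))) (.node (.node (.leaf 26843564289) (.leaf 75698818563)) (.node (.leaf 181462386178) (.leaf 225485836545)))))) (.node (.node (.node (.node (.node (.leaf 8589936513) (.leaf 202937224578))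 (.node (.leaf 34896632450) (.leaf 117574760584))) (.node (.node (.leaf 18790494720) (.leaf 76772559362)) (.node (.leaf 150323870469) (.leaf 211527190272)))) (.node (.node (.node (.leaf 27380419076) (.leaf 67108877954)) (.node (.leaf 48855283457) (.leaf 126701555849))) (.node (.node (.leaf 1610614540) (.leaf 206158448268)) (.node (.leaf 70867002242) (.leaf 222801481606))))) (.node (.node (.node (.node (.leaf 19327354886) (.leaf 121869724812)) (.node (.leaf 112742901126) (.leaf 207769063564))) (.node (.node (.leaf 21474851846) (.leaf 27380429196)) (.node (.leaf 163745643782) (.leaf 133680909184)))) (.node (.node (.node (.leaf 41875934724) (.leaf 15032424844)) (.node (.leaf 142270804618) (.leaf 91804976641))) (.node (.node (.leaf 28991049217) (.leaf 104152972417)) (.node (.leaf 78383198338) (.leaf 227633319178))))))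
def dF_33 : BT := .node dF_31 dF_32
def dF_34 : BT := .node (.node (.node (.node (.node (.node (.node (.leaf 1610612993) (.leaf 228707062922)) (.leaf 193810418182)) (.node (.leaf 89120592513) (.leaf 151397625100))) (.node (.node (.leaf 15569267458) (.leaf 79456904966)) (.node (.leaf 58518964098) (.leaf 217432744202)))) (.node (.node (.node (.leaf 11274294408) (.leaf 188978607628)) (.node (.leaf 42949701002) (.leaf 163745665282))) (.node (.node (.leaf 67645743110) (.leaf 112206030469)) (.node (.leaf 67645775240) (.leaf 220117121280))))) (.node (.node (.node (.node (.leaf 3758099712) (.leaf 86436266500)) (.node (.leaf 103079223810) (.leaf 117574764039))) (.node (.node (.leaf 19864237700) (.leaf 110595430540)) (.node (.leaf 156766321284) (.leaf 134754649996)))) (.node (.node (.node (.leaf 32212262405) (.leaf 61203324684)) (.node (.leaf 132607131142) (.leaf 177167426051))) (.node (.node (.leaf 26306692998) (.leaf 37580986369)) (.node (.leaf 74625099658) (.leaf 224412094728)))))) (.node (.node (.node (.node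 (.node (.leaf 3221227136) (.leaf 82678168452)) (.node (.leaf 34359761156) (.leaf 129385908226))) (.node (.node (.leaf 17716752518) (.leaf 113279800716)) (.node (.leaf 148713256834) (.leaf 156766358024)))) (.node (.node (.node (.leaf 8589940872) (.leaf 77846327052)) (.node (.leaf 125627823368) (.leaf 157303197195))) (.node (.node (.leaf 74625062792) (.leaf 37044124300)) (.node (.leaf 69793259914) (.leaf 222264601733))))) (.node (.node (.node (.node (.leaf 4831842566) (.leaf 86973106570)) (.node (.leaf 110595417098) (.leaf 117574749314))) (.node (.node (.leaf 62813901706) (.leaf 137975838470)) (.node (.leaf 161061289098) (.leaf 161061305472)))) (.node (.node (.node (.leaf 13421782534) (.leaf 140660198156)) (.node (.leaf 52076512010) (.leaf 97173666314))) (.node (.node (.leaf 28454177666) (.leaf 102005487878)) (.node (.leaf 186831097984) (.leaf 227096448136))))))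
def dF_35 : BT := .node (.node (.node (.node (.node (.node (.leaf 1073742984) (.leaf 82141296640)) (.node (.leaf 33822889472) (.leaf 119185376769))) (.node (.node (.leaf 48318386178) (.leaf 52613352460)) (.node (.leaf 59055835268) (.leaf 219580231428)))) (.node (.node (.node (.leaf 23622323204) (.leaf 19327362956)) (.node (.leaf 45097185666) (.leaf 155155728140))) (.node (.node (.leaf 71403837058) (.leaf 84825624076)) (.node (.leaf 68719517576) (.leaf 150860779014))))) (.node (.node (.node (.node (.leaf 4294971138) (.leaf 121869736964)) (.node (.leaf 37580989450) (.leaf 155155708552))) (.node (.node (.leaf 20401109126) (.leaf 21474846342)) (.node (.leaf 63887676422) (.leaf 165356263818)))) (.node (.node (.node (.leaf 12348039554) (.leaf 94489303043)) (.node (.leaf 135828352778) (.leaf 97173657863))) (.node (.node (.leaf 26843564678) (.leaf 28991049220)) (.node (.leaf 76235713281) (.leaf 179851809286)))))) (.node (.node (.node (.node (.node (.leaf 2147486090) (.leaf 83751911170)) (.node (.leaf 35433503882)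 (.leaf 183073028871))) (.node (.node (.leaf 18790495368) (.leaf 137438987916)) (.node (.leaf 61740191364) (.leaf 212600903946)))) (.node (.node (.node (.leaf 9663683204) (.leaf 39728460940)) (.node (.leaf 48855283846) (.leaf 164282515723))) (.node (.node (.leaf 64424524811) (.leaf 28991078284)) (.node (.leaf 71940744456) (.leaf 220653998090))))) (.node (.node (.node (.node (.leaf 8053068419) (.leaf 19864269196)) (.node (.leaf 114353514118) (.leaf 75161939332))) (.node (.node (.leaf 64961388294) (.leaf 32212263943)) (.node (.leaf 165356272896) (.leaf 165356292740)))) (.node (.node (.node (.leaf 42949683204) (.leaf 115427265036)) (.node (.leaf 143344547080) (.leaf 91804977160))) (.node (.node (.leaf 28991049736) (.leaf 162135031052)) (.node (.leaf 78920069632) (.leaf 228170190849))))))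
def dF_36 : BT := .node dF_34 dF_35
def dF_37 : BT := .node dF_33 dF_36
def dF_38 : BT := .node (.node (.node (.node (.node (.node (.node (.leaf 138) (.leaf 228707062276)) (.leaf 192736676234)) (.node (.leaf 31138534016) (.leaf 162671906186))) (.node (.node (.leaf 15569267329) (.leaf 55834576396)) (.node (.leaf 144418303234) (.leaf 214748416514)))) (.node (.node (.node (.leaf 22011710080) (.leaf 187904864780)) (.node (.leaf 42949700870) (.leaf 127238436484))) (.node (.node (.leaf 66571998474) (.leaf 34359761932)) (.node (.leaf 168040611840) (.leaf 133144017931))))) (.node (.node (.node (.node (.leaf 3221228550) (.leaf 207232216070)) (.node (.leaf 102005482242) (.leaf 143881452553))) (.node (.node (.leaf 57982063114) (.leaf 40802191884)) (.node (.leaf 156229450370) (.leaf 219043363849)))) (.node (.node (.node (.leaf 10200554886) (.leaf 63350775685)) (.node (.leaf 131533398656) (.leaf 112206051847))) (.node (.node (.leaf 29527918212) (.leaf 103616103436)) (.node (.leaf 179314902282) (.leaf 224412078602))))))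 (.node (.node (.node (.node (.node (.leaf 2684356096) (.leaf 200252880390)) (.node (.leaf 34359761024) (.leaf 202400345484))) (.node (.node (.leaf 17716752257) (.leaf 11274315785)) (.node (.leaf 147639518210) (.leaf 156766357132)))) (.node (.node (.node (.leaf 16106133376) (.leaf 26843564428)) (.node (.leaf 47781541124) (.leaf 162671923841))) (.node (.node (.leaf 27917305088) (.leaf 130459646092)) (.node (.leaf 172872450310) (.leaf 143344586506))))) (.node (.node (.node (.node (.leaf 4831842308) (.leaf 192736678156)) (.node (.leaf 38654731912) (.leaf 199179126796))) (.node (.node (.leaf 62277032840) (.leaf 137438967174)) (.node (.leaf 63887676682) (.leaf 133680908039)))) (.node (.node (.node (.leaf 39191585793) (.leaf 90731196172)) (.node (.leaf 52076511618) (.leaf 96099901572))) (.node (.node (.leaf 81067515648) (.leaf 102005487872)) (.node (.leaf 77309455748) (.leaf 227096443652))))))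
def dF_39 : BT := .node (.node (.node (.node (.node (.node (.node (.leaf 3758097286) (.leaf 229243933953)) (.leaf 80530683658)) (.node (.leaf 32749147396) (.leaf 41875945862))) (.node (.node (.leaf 16106138888) (.leaf 17716743172)) (.node (.leaf 58518964360) (.leaf 219043369478)))) (.node (.node (.node (.leaf 6442456458) (.leaf 118111603980)) (.node (.leaf 44560314500) (.leaf 47781521796))) (.node (.node (.leaf 24159207937) (.leaf 59055817994)) (.node (.leaf 69256388226) (.leaf 221190851716))))) (.node (.node (.node (.node (.leaf 15032386690) (.leaf 210453418246)) (.node (.leaf 37044118282) (.leaf 119722257546))) (.node (.node (.leaf 20401108994) (.leaf 37044115596)) (.node (.leaf 158376934528) (.leaf 216359009164)))) (.node (.node (.node (.leaf 34359741066) (.leaf 34359746438)) (.node (.leaf 135291481862) (.leaf 108447947397))) (.node (.node (.leaf 26843564418) (.leaf 117037878659)) (.node (.leaf 182536128006) (.leaf 179851809282)))))) (.node (.node (.node (.node (.node (.leaf 9663676936) (.leaf 83215040008))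 (.node (.leaf 34896632712) (.leaf 182536128521))) (.node (.node (.leaf 18790495108) (.leaf 77846300809)) (.node (.leaf 61740190976) (.leaf 211527189896)))) (.node (.node (.node (.leaf 27917289606) (.leaf 63887654533)) (.node (.leaf 48855283586) (.leaf 198642281865))) (.node (.node (.leaf 42412809347) (.leaf 83215005063)) (.node (.leaf 71940744194) (.leaf 150860779528))))) (.node (.node (.node (.node (.leaf 19864228353) (.leaf 116500998658)) (.node (.leaf 41339087236) (.leaf 183073028736))) (.node (.node (.leaf 32749141000) (.leaf 108447934080)) (.node (.leaf 164819385730) (.leaf 166430033286)))) (.node (.node (.node (.leaf 42412805386) (.leaf 3221257740)) (.node (.leaf 142807676034) (.leaf 91804976900))) (.node (.node (.leaf 28991049476) (.leaf 104152976263)) (.node (.leaf 79456940288) (.leaf 228170191616))))))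
def dF_40 : BT := .node dF_38 dF_39
def dF_41 : BT := .node (.node (.node (.node (.node (.node (.node (.leaf 536871426) (.leaf 228707062277)) (.leaf 149250160000)) (.node (.leaf 32749147008) (.leaf 153008216332))) (.node (.node (.leaf 15569267720) (.leaf 117037873029)) (.node (.leaf 58518964230) (.leaf 214211544459)))) (.node (.node (.node (.leaf 6442456328) (.leaf 187904838017)) (.node (.leaf 118648482052) (.leaf 101468646538))) (.node (.node (.leaf 23085465604) (.leaf 11274292355)) (.node (.leaf 94489320834) (.leaf 220653997446))))) (.node (.node (.node (.node (.leaf 8589937922) (.leaf 86973137664)) (.node (.leaf 104152965640) (.leaf 115964123148))) (.node (.node (.leaf 19864237832) (.leaf 9126838924)) (.node (.leaf 157840063238) (.leaf 134754620806)))) (.node (.node (.node (.leaf 11274296962) (.leaf 41339064707)) (.node (.leaf 49929026692) (.leaf 40265327371))) (.node (.node (.leaf 75698816896) (.leaf 130996525313)) (.node (.leaf 180925540353) (.leaf 224948960260)))))) (.node (.node (.node (.node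 (.node (.leaf 2147485568) (.leaf 201863493120)) (.node (.leaf 96636787073) (.leaf 200789770881))) (.node (.node (.leaf 18253623690) (.leaf 18790515596)) (.node (.leaf 149786998664) (.leaf 213674674690)))) (.node (.node (.node (.leaf 8589941002) (.leaf 63887678604)) (.node (.leaf 126164675722) (.leaf 208842814988))) (.node (.node (.leaf 58518943370) (.leaf 20937972487)) (.node (.leaf 70330131076) (.leaf 150860779392))))) (.node (.node (.node (.node (.leaf 4831842698) (.leaf 45097206668)) (.node (.leaf 39728474113) (.leaf 75161947271))) (.node (.node (.leaf 21474851713) (.leaf 29527912457)) (.node (.leaf 162671901954) (.leaf 150860742146)))) (.node (.node (.node (.leaf 13958653704) (.leaf 136365230212)) (.node (.leaf 53687125000) (.leaf 130996527625))) (.node (.node (.leaf 82141256202) (.leaf 25232941571)) (.node (.leaf 77846327172) (.leaf 227096449411))))))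
def dF_42 : BT := .node (.node (.node (.node (.node (.node (.leaf 5368709386) (.leaf 198105386114)) (.node (.leaf 33822889862) (.leaf 119185363072))) (.node (.node (.leaf 16106139018) (.leaf 71940748940)) (.node (.leaf 147102643974) (.leaf 144955198598)))) (.node (.node (.node (.leaf 12884907524) (.leaf 8053074444)) (.node (.leaf 45097185930) (.leaf 144955161219))) (.node (.node (.leaf 72477578886) (.leaf 63887653771)) (.node (.leaf 171798708356) (.leaf 221727737348))))) (.node (.node (.node (.node (.leaf 9126809344) (.leaf 210990289162)) (.node (.leaf 70330115206) (.leaf 155692595338))) (.node (.node (.leaf 20401109256) (.leaf 18790484612)) (.node (.leaf 80530674696) (.leaf 198642269443)))) (.node (.node (.node (.leaf 12348039814) (.leaf 61203300610)) (.node (.leaf 136902094730) (.leaf 96636787205))) (.node (.node (.leaf 79993784458) (.leaf 19864232324)) (.node (.leaf 77309455360) (.leaf 226559572234)))))) (.node (.node (.node (.node (.node (.leaf 2684357254) (.leaf 205621607808)) (.node (.leaf 35970375172)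 (.leaf 181462416393))) (.node (.node (.leaf 56908330242) (.leaf 140123344908)) (.node (.leaf 61740191624) (.leaf 213674648075)))) (.node (.node (.node (.leaf 29527902470) (.leaf 64961421196)) (.node (.leaf 129922772360) (.leaf 177704314241))) (.node (.node (.leaf 28454176128) (.leaf 100394865420)) (.node (.leaf 71940744586) (.leaf 223875223302))))) (.node (.node (.node (.node (.leaf 20937966984) (.leaf 59592689932)) (.node (.leaf 115427264386) (.leaf 162671906949))) (.node (.node (.leaf 21474852106) (.leaf 179314898700)) (.node (.leaf 165893127682) (.leaf 132070282757)))) (.node (.node (.node (.leaf 15032396038) (.leaf 20937998732)) (.node (.leaf 57445221764) (.leaf 96099944714))) (.node (.node (.leaf 30064791810) (.leaf 151934498699)) (.node (.leaf 121869742731) (.leaf 226022704642))))))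
def dF_43 : BT := .node dF_41 dF_42
def dF_44 : BT := .node dF_40 dF_43
def dF_45 : BT := .node dF_37 dF_44
def dF_46 : BT := .node (.node (.node (.node (.node (.node (.node (.leaf 6) (.leaf 221727741186)) (.leaf 191126090506)) (.node (.leaf 30064792074) (.leaf 163745645579))) (.node (.node (.leaf 44560289290) (.leaf 41339075596)) (.node (.leaf 144418309764) (.leaf 216895899650)))) (.node (.node (.node (.leaf 22011708934) (.leaf 26843559809)) (.node (.leaf 116500998662) (.leaf 183073000709))) (.node (.node (.leaf 51002752391) (.leaf 159987547020)) (.node (.leaf 167503740546) (.leaf 132070275851))))) (.node (.node (.node (.node (.leaf 2684357514) (.leaf 86436266240)) (.node (.leaf 35970375432) (.leaf 184683621772))) (.node (.node (.leaf 42949686658) (.leaf 13421814275)) (.node (.leaf 155692601473) (.leaf 200789773323)))) (.node (.node (.node (.leaf 10200554754) (.leaf 10737458700)) (.node (.leaf 49392155272) (.leaf 130996529287))) (.node (.node (.leaf 75698805636) (.leaf 36507237121)) (.node (.leaf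 178778031114) (.leaf 223875218059)))))) (.node (.node (.node (.node (.node (.leaf 6442451332) (.leaf 82678168193)) (.node (.leaf 33822889992) (.leaf 143881448455))) (.node (.node (.leaf 49928998922) (.leaf 11274322821)) (.node (.leaf 147639514890) (.leaf 216895892871)))) (.node (.node (.node (.leaf 25232934788) (.leaf 10200548236)) (.node (.leaf 46707799178) (.leaf 164282538247))) (.node (.node (.leaf 74088191878) (.leaf 34359747200)) (.node (.leaf 92878708870) (.leaf 161061326471))))) (.node (.node (.node (.node (.leaf 17179870216) (.leaf 78920074380)) (.node (.leaf 38654731782) (.leaf 198105394572))) (.node (.node (.leaf 20937980422) (.leaf 137438981378)) (.node (.leaf 64961418368) (.leaf 133680889097)))) (.node (.node (.node (.leaf 13421782016) (.leaf 168577488897)) (.node (.leaf 139049578502) (.leaf 97710528908))) (.node (.node (.leaf 27380435848) (.leaf 101468616840)) (.node (.leaf 77309455618) (.leaf 222801482505))))))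
def dF_47 : BT := .node (.node (.node (.node (.node (.node (.node (.leaf 1073742722) (.leaf 229243934088)) (.leaf 195957904646)) (.node (.leaf 32212276362) (.leaf 26843560324))) (.node (.node (.leaf 16643009666) (.leaf 17716743168)) (.node (.leaf 146028902536) (.leaf 117574781956)))) (.node (.node (.node (.leaf 17179874560) (.leaf 46707780106)) (.node (.leaf 120259094920) (.leaf 44560296323))) (.node (.node (.leaf 69793224072) (.leaf 20937985932)) (.node (.leaf 68182646406) (.leaf 221190847362))))) (.node (.node (.node (.node (.leaf 3758099976) (.leaf 209916555655)) (.node (.leaf 37044118152) (.leaf 158376938378))) (.node (.node (.leaf 19864237962) (.leaf 178241158028)) (.node (.leaf 158376934152) (.leaf 186294238339)))) (.node (.node (.node (.leaf 33822870026) (.leaf 168577507596)) (.node (.leaf 134754610824) (.leaf 98247402883))) (.node (.node (.leaf 78383167366) (.leaf 75698818569)) (.node (.leaf 181999257092) (.leaf 225485827467)))))) (.node (.node (.node (.node (.node (.leaf 9126806020) (.leaf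 203474095492)) (.node (.leaf 34896632580) (.leaf 182536138114))) (.node (.node (.leaf 18790494978) (.leaf 117037877769)) (.node (.leaf 61203319946) (.leaf 212064060676)))) (.node (.node (.node (.leaf 10737424768) (.leaf 13421806860)) (.node (.leaf 127775296646) (.leaf 127238453897))) (.node (.node (.leaf 1610613131) (.leaf 203474095500)) (.node (.leaf 73014485888) (.leaf 222801472139))))) (.node (.node (.node (.node (.leaf 8589939206) (.leaf 78920034955)) (.node (.leaf 113279772040) (.leaf 181999269889))) (.node (.node (.leaf 64424514690) (.leaf 10737421447)) (.node (.leaf 164282514696) (.leaf 218506492804)))) (.node (.node (.node (.leaf 26306684674) (.leaf 41875977356)) (.node (.leaf 54760867080) (.leaf 91804976770))) (.node (.node (.leaf 28991049346) (.leaf 104152974723)) (.node (.leaf 78383198468) (.leaf 217432773762))))))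
def dF_48 : BT := .node dF_46 dF_47
def dF_49 : BT := .node (.node (.node (.node (.node (.node (.node (.leaf 536871302) (.leaf 223338353926)) (.leaf 79993812356)) (.node (.leaf 89657449990) (.leaf 61740173186))) (.node (.node (.leaf 46707773062) (.leaf 117037877761)) (.node (.leaf 145492032388) (.leaf 217432770055)))) (.node (.node (.node (.leaf 17179873286) (.leaf 149250132481)) (.node (.leaf 43486572033) (.leaf 119722237580))) (.node (.node (.leaf 23085465474) (.leaf 112206030217)) (.node (.leaf 169114377472) (.leaf 126701587844))))) (.node (.node (.node (.node (.leaf 13958644612) (.leaf 86436266632)) (.node (.leaf 103616094726) (.leaf 41875949324))) (.node (.node (.leaf 58518942976) (.leaf 27917293186)) (.node (.leaf 157303192198) (.leaf 134754651138)))) (.node (.node (.node (.leaf 32749128198) (.leaf 39728451977)) (.node (.leaf 49929026562) (.leaf 107374192012))) (.node (.node (.leaf 76772558724) (.leaf 60666424834)) (.node (.leaf 75161970688) (.leaf 157303230856)))))) (.node (.node (.node (.node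 (.node (.leaf 7516193162) (.leaf 82678168582)) (.node (.leaf 34896632192) (.leaf 119185390345))) (.node (.node (.leaf 17716752648) (.leaf 13421780620)) (.node (.leaf 149250127748) (.leaf 216895883013)))) (.node (.node (.node (.leaf 26306680832) (.leaf 3758096906)) (.node (.leaf 60666443008) (.leaf 208842814979))) (.node (.node (.leaf 74625068288) (.leaf 18253617547)) (.node (.leaf 70330130946) (.leaf 220117126920))))) (.node (.node (.node (.node (.leaf 18253615368) (.leaf 45634048268)) (.node (.leaf 111132304768) (.leaf 75161958017))) (.node (.node (.leaf 63350775298) (.leaf 137975842440)) (.node (.leaf 65498289921) (.leaf 161061289481)))) (.node (.node (.node (.leaf 13421782664) (.leaf 188441722636)) (.node (.leaf 141197062660) (.leaf 158376941573))) (.node (.node (.leaf 81604385162) (.leaf 35970359691)) (.node (.leaf 187367966728) (.leaf 227096449931))))))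
def dF_50 : BT := .node (.node (.node (.node (.node (.node (.leaf 4831838976) (.leaf 197568525958)) (.node (.leaf 33822889732) (.leaf 119185354115))) (.node (.node (.leaf 26306686212) (.leaf 70866981772)) (.node (.leaf 61203318918) (.leaf 219580240512)))) (.node (.node (.node (.leaf 23622323200) (.leaf 1610633868)) (.node (.leaf 45097185796) (.leaf 144955161217))) (.node (.node (.leaf 71940707972) (.leaf 71940711814)) (.node (.leaf 69793259396) (.leaf 133680909962))))) (.node (.node (.node (.node (.leaf 16106129412) (.leaf 122406608002)) (.node (.leaf 38117860480) (.leaf 155692601609))) (.node (.node (.leaf 60666419716) (.leaf 173946178188)) (.node (.leaf 158913827584) (.leaf 165356272387)))) (.node (.node (.node (.leaf 12348039684) (.leaf 32212287116)) (.node (.leaf 136365223810) (.leaf 96636786947))) (.node (.node (.leaf 79993780096) (.leaf 56908325249)) (.node (.leaf 184146741130) (.leaf 226022696836)))))) (.node (.node (.node (.node (.node (.leaf 2684357122) (.leaf 83751911300)) (.node (.leaf 35970374912)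 (.leaf 201863506563))) (.node (.node (.leaf 19327366404) (.leaf 138512728204)) (.node (.leaf 61740191494) (.leaf 217969641228)))) (.node (.node (.node (.leaf 28991031434) (.leaf 21474841988)) (.node (.leaf 129385909376) (.leaf 177704310917))) (.node (.node (.leaf 33822883586) (.leaf 29527907081)) (.node (.leaf 177167418372) (.leaf 155692617860))))) (.node (.node (.node (.node (.leaf 20401096068) (.leaf 19327360011)) (.node (.leaf 41875958662) (.leaf 162671936012))) (.node (.node (.leaf 22548593794) (.leaf 74088203266)) (.node (.leaf 132070283782) (.leaf 166430024971)))) (.node (.node (.node (.leaf 14495525002) (.leaf 118648490124)) (.node (.leaf 143344567682) (.leaf 95563073674))) (.node (.node (.leaf 29527920778) (.leaf 65498266881)) (.node (.leaf 191662961153) (.leaf 223338353796))))))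
def dF_51 : BT := .node dF_49 dF_50
def dF_52 : BT := .node dF_48 dF_51
def dF_53 : BT := .node (.node (.node (.node (.node (.node (.node (.leaf 536871168) (.leaf 228707062408)) (.leaf 193273547266)) (.node (.leaf 46707790466) (.leaf 152471357324))) (.node (.node (.leaf 45634037638) (.leaf 79456905473)) (.node (.leaf 57445222154) (.leaf 216895899272)))) (.node (.node (.node (.leaf 11274294404) (.leaf 77846288646)) (.node (.leaf 117037869312) (.leaf 126164694402))) (.node (.node (.leaf 23085465345) (.leaf 105763581452)) (.node (.leaf 168577482376) (.leaf 220117104004))))) (.node (.node (.node (.node (.leaf 3221228682) (.leaf 86436266370)) (.node (.leaf 35970375562) (.leaf 117574748161))) (.node (.node (.leaf 57982065799) (.leaf 108447950476)) (.node (.leaf 62813933960) (.leaf 133144033543)))) (.node (.node (.node (.leaf 10737425921) (.leaf 20401100163)) (.node (.leaf 49929026433) (.leaf 130996519682))) (.node (.node (.leaf 25769821962) (.leaf 104689836556)) (.node (.leaf 179314904583) (.leaf 177704325378))))))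 (.node (.node (.node (.node (.node (.leaf 6979322248) (.leaf 82678168322)) (.node (.leaf 95026167430) (.leaf 48855272713))) (.node (.node (.leaf 17716752386) (.leaf 49392157836)) (.node (.leaf 59592706560) (.leaf 156766328194)))) (.node (.node (.node (.leaf 25769805704) (.leaf 13958648331)) (.node (.leaf 125627823362) (.leaf 157303226508))) (.node (.node (.leaf 74088192520) (.leaf 49392129414)) (.node (.leaf 92878709000) (.leaf 222264601985))))) (.node (.node (.node (.node (.leaf 4294971530) (.leaf 191126063747)) (.node (.leaf 110058546816) (.leaf 127238436230))) (.node (.node (.leaf 23622334978) (.leaf 137438971784)) (.node (.leaf 160524424450) (.leaf 133680901507)))) (.node (.node (.node (.leaf 13421782404) (.leaf 50465873419)) (.node (.leaf 51539640970) (.leaf 95563047425))) (.node (.node (.leaf 81067515652) (.leaf 102005487364)) (.node (.leaf 77309455878) (.leaf 227096449414))))))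
def dF_54 : BT := .node (.node (.node (.node (.node (.node (.node (.leaf 4294967556) (.leaf 224948966794)) (.leaf 81067554698)) (.node (.leaf 33286018442) (.leaf 117037873544))) (.node (.node (.leaf 48318393606) (.leaf 17716741766)) (.node (.leaf 146565773568) (.leaf 156766358534)))) (.node (.node (.node (.leaf 6979327494) (.leaf 14495518091)) (.node (.leaf 44560314630) (.leaf 56908327302))) (.node (.node (.leaf 70866969478) (.leaf 83215024140)) (.node (.leaf 170724966658) (.leaf 221190863882))))) (.node (.node (.node (.node (.leaf 3758100106) (.leaf 210453418370)) (.node (.leaf 37580989318) (.leaf 155155708546))) (.node (.node (.leaf 60129547268) (.leaf 108447939335)) (.node (.leaf 90194350978) (.leaf 132607138315)))) (.node (.node (.node (.leaf 34896612106) (.leaf 34359746569)) (.node (.leaf 66035154432) (.leaf 95563045511))) (.node (.node (.leaf 26843564548) (.leaf 76772560264)) (.node (.leaf 75161971336) (.leaf 225485825928)))))) (.node (.node (.node (.node (.node (.leaf 9663678730) (.leaf 83215040138))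 (.node (.leaf 35433503750) (.leaf 185220494729))) (.node (.node (.leaf 18790495238) (.leaf 32212257802)) (.node (.leaf 61740191234) (.leaf 211527189892)))) (.node (.node (.node (.leaf 28454160520) (.leaf 93415553804)) (.node (.leaf 48855283716) (.leaf 164282540428))) (.node (.node (.leaf 57982069379) (.leaf 17716747010)) (.node (.leaf 71940744326) (.leaf 223338337794))))) (.node (.node (.node (.node (.leaf 19864225671) (.leaf 116501033610)) (.node (.leaf 113816642954) (.leaf 181999250828))) (.node (.node (.leaf 21474851976) (.leaf 108447933449)) (.node (.leaf 136365250950) (.leaf 132070284040)))) (.node (.node (.node (.leaf 42949676424) (.leaf 18253623180)) (.node (.leaf 124554085642) (.leaf 91804977030))) (.node (.node (.leaf 28991049606) (.leaf 69793227526)) (.node (.leaf 190589192458) (.leaf 228170191878))))))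
def dF_55 : BT := .node dF_53 dF_54
def dF_56 : BT := .node (.node (.node (.node (.node (.node (.node (.leaf 536871556) (.leaf 229243932802)) (.leaf 195421031048)) (.node (.leaf 90194320904) (.leaf 154081979660))) (.node (.node (.leaf 16106138758) (.leaf 77846292741)) (.node (.leaf 146028905732) (.leaf 105226750730)))) (.node (.node (.node (.leaf 22548581126) (.leaf 188441725697)) (.node (.leaf 44023443210) (.leaf 44560300161))) (.node (.node (.leaf 23085465734) (.leaf 71940711809)) (.node (.leaf 94489320838) (.leaf 220653984002))))) (.node (.node (.node (.node (.leaf 14495517953) (.leaf 86973137793)) (.node (.leaf 37580988676) (.leaf 117037877131))) (.node (.node (.leaf 59055814016) (.leaf 176630539660)) (.node (.leaf 157840069506) (.leaf 134754649482)))) (.node (.node (.node (.leaf 33285999112) (.leaf 64961396997)) (.node (.leaf 49929026822) (.leaf 94489306507))) (.node (.node (.leaf 77309417610) (.leaf 37044104713)) (.node (.leaf 126164707462) (.leaf 220653998464)))))) (.node (.node (.node (.node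 (.node (.leaf 5905581963) (.leaf 202400353544)) (.node (.leaf 34896632326) (.leaf 117574774402))) (.node (.node (.leaf 53150230017) (.leaf 6442455431)) (.node (.leaf 150323890049) (.leaf 213674644872)))) (.node (.node (.node (.leaf 9126812034) (.leaf 67645770764)) (.node (.leaf 126701546762) (.leaf 126701565443))) (.node (.node (.leaf 73551319820) (.leaf 83751876358)) (.node (.leaf 70330131208) (.leaf 222801480962))))) (.node (.node (.node (.node (.leaf 5905584640) (.leaf 123480328588)) (.node (.leaf 112206030210) (.leaf 77309430921))) (.node (.node (.leaf 63887644547) (.leaf 24159200257)) (.node (.leaf 163208772868) (.leaf 165356293000)))) (.node (.node (.node (.leaf 41875934720) (.leaf 193810438533)) (.node (.leaf 141733934208) (.leaf 211527160842))) (.node (.node (.leaf 82678127242) (.leaf 73014452743)) (.node (.leaf 188441709056) (.leaf 212600935426))))))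
def dF_57 : BT := .node (.node (.node (.node (.node (.node (.leaf 5905580418) (.leaf 198642257028)) (.node (.leaf 93952417794) (.leaf 119185360902))) (.node (.node (.leaf 16643010058) (.leaf 73014481932)) (.node (.leaf 147102644736) (.leaf 127238458506)))) (.node (.node (.node (.leaf 24159192714) (.leaf 30064774412)) (.node (.leaf 45634056970) (.leaf 144955161225))) (.node (.node (.leaf 73014449800) (.leaf 12348036481)) (.node (.leaf 69256388744) (.leaf 221727737088))))) (.node (.node (.node (.node (.leaf 16642999302) (.leaf 192199836801)) (.node (.leaf 108447933442) (.leaf 126164695168))) (.node (.node (.leaf 61203288964) (.leaf 18790484616)) (.node (.leaf 159450680198) (.leaf 134217760133)))) (.node (.node (.node (.leaf 12348039944) (.leaf 111669162504)) (.node (.leaf 51539640320) (.leaf 96099916684))) (.node (.node (.leaf 80530643334) (.leaf 101468616832)) (.node (.leaf 77309455489) (.leaf 222264611586)))))) (.node (.node (.node (.node (.node (.leaf 2684357384) (.leaf 83751911432)) (.node (.leaf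 35970375302) (.leaf 117574772999))) (.node (.node (.leaf 19327366536) (.leaf 12884906121)) (.node (.leaf 62277062666) (.leaf 211527191431)))) (.node (.node (.node (.leaf 12884908930) (.leaf 92878683788)) (.node (.leaf 130459643394) (.leaf 177167426054))) (.node (.node (.leaf 25232950794) (.leaf 101468637196)) (.node (.leaf 73014486534) (.leaf 223875223688))))) (.node (.node (.node (.node (.leaf 6979326850) (.leaf 79993784460)) (.node (.leaf 41875958794) (.leaf 65498266885))) (.node (.node (.leaf 22011723146) (.leaf 112742908684)) (.node (.leaf 166429998596) (.leaf 132607167113)))) (.node (.node (.node (.leaf 44023425288) (.leaf 24159210252)) (.node (.leaf 56908350986) (.leaf 96636815754))) (.node (.node (.leaf 30064791942) (.leaf 163745667201)) (.node (.leaf 192199805318) (.leaf 226022708359))))))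
def dF_58 : BT := .node dF_56 dF_57
def dF_59 : BT := .node dF_55 dF_58
def dF_60 : BT := .node dF_52 dF_59
def dF_61 : BT := .node dF_45 dF_60
def dF_62 : BT := .node dF_30 dF_61
def dF : BT := dF_62
def dP_0 : BT := .node (.node (.node (.node (.node (.node (.node (.leaf 0) (.leaf 12288)) (.node (.leaf 5508) (.leaf 19976))) (.node (.node (.leaf 2698) (.leaf 16516)) (.leaf 8706))) (.node (.node (.node (.leaf 1032) (.leaf 14858)) (.node (.leaf 6920) (.leaf 35976))) (.node (.node (.leaf 4226) (.leaf 18568)) (.leaf 10626)))) (.node (.node (.node (.node (.leaf 513) (.leaf 13958)) (.node (.leaf 6282) (.leaf 21896))) (.node (.node (.leaf 3464) (.leaf 17920)) (.leaf 9473))) (.node (.node (.node (.leaf 1928) (.leaf 15620)) (.leaf 8072)) (.node (.node (.leaf 4866) (.leaf 19584)) (.leaf 11652))))) (.node (.node (.node (.node (.node (.leaf 260) (.leaf 12808)) (.node (.leaf 5768) (.leaf 20742))) (.node (.node (.leaf 3200) (.leaf 17154)) (.leaf 8970))) (.node (.node (.node (.leaf 1538) (.leaf 15238)) (.node (.leaf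 7688) (.leaf 50690))) (.node (.node (.leaf 4486) (.leaf 18946)) (.leaf 11016)))) (.node (.node (.node (.node (.leaf 774) (.leaf 14337)) (.node (.leaf 6538) (.leaf 28036))) (.node (.node (.leaf 3720) (.leaf 18432)) (.leaf 9994))) (.node (.node (.node (.leaf 2432) (.leaf 16002)) (.leaf 8454)) (.node (.node (.leaf 5126) (.leaf 19718)) (.leaf 11906)))))) (.node (.node (.node (.node (.node (.node (.leaf 130) (.leaf 12296)) (.node (.leaf 5761) (.leaf 20612))) (.node (.node (.leaf 2948) (.leaf 16770)) (.leaf 8836))) (.node (.node (.node (.leaf 1408) (.leaf 14980)) (.node (.leaf 7178) (.leaf 42881))) (.node (.node (.leaf 4480) (.leaf 18816)) (.leaf 10756)))) (.node (.node (.node (.node (.leaf 642) (.leaf 14208)) (.node (.leaf 6404) (.leaf 24330))) (.node (.node (.leaf 3712) (.leaf 17926)) (.leaf 9610))) (.node (.node (.node (.leaf 2182) (.leaf 15872)) (.leaf 8321)) (.node (.node (.leaf 4998) (.leaf 19712)) (.leaf 11780))))) (.node (.node (.node (.node (.node (.leaf 388) (.leaf 13578)) (.node (.leaf 6026) (.leaf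 21889))) (.node (.node (.leaf 3206) (.leaf 17414)) (.leaf 9222))) (.node (.node (.node (.leaf 1670) (.leaf 15498)) (.leaf 8064)) (.node (.node (.leaf 4618) (.leaf 19080)) (.leaf 11530)))) (.node (.node (.node (.node (.leaf 904) (.leaf 14722)) (.node (.leaf 6913) (.leaf 31618))) (.node (.node (.leaf 3978) (.leaf 18438)) (.leaf 10369))) (.node (.node (.node (.leaf 2561) (.leaf 16138)) (.leaf 8580)) (.node (.node (.leaf 5386) (.leaf 19848)) (.leaf 12038))))))
def dP_1 : BT := .node (.node (.node (.node (.node (.node (.node (.leaf 128) (.leaf 12292)) (.node (.leaf 5512) (.leaf 20608))) (.node (.node (.leaf 2944) (.leaf 16646)) (.leaf 8712))) (.node (.node (.node (.leaf 1158) (.leaf 14977)) (.node (.leaf 7170) (.leaf 37386))) (.node (.node (.leaf 4232) (.leaf 18692)) (.leaf 10630)))) (.node (.node (.node (.node (.leaf 520) (.leaf 14086)) (.node (.leaf 6401) (.leaf 22922))) (.node (.node (.leaf 3590) (.leaf 17922)) (.leaf 9606))) (.node (.node (.node (.leaf 2058) (.leaf 15624)) (.leaf 8196)) (.node (.node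 (.leaf 4872) (.leaf 19588)) (.leaf 11656))))) (.node (.node (.node (.node (.node (.leaf 266) (.leaf 13064)) (.node (.leaf 6022) (.leaf 21514))) (.node (.node (.leaf 3202) (.leaf 17160)) (.leaf 9218))) (.node (.node (.node (.leaf 1544) (.leaf 15242)) (.node (.leaf 7812) (.leaf 52866))) (.node (.node (.leaf 4612) (.leaf 18952)) (.leaf 11396)))) (.node (.node (.node (.node (.leaf 896) (.leaf 14720)) (.node (.leaf 6794) (.leaf 30084))) (.node (.node (.leaf 3848) (.leaf 18434)) (.leaf 10246))) (.node (.node (.node (.leaf 2434) (.leaf 16008)) (.leaf 8576)) (.node (.node (.leaf 5130) (.leaf 19842)) (.leaf 11910)))))) (.node (.node (.node (.node (.node (.node (.leaf 136) (.leaf 12426)) (.node (.leaf 5764) (.leaf 20736))) (.node (.node (.leaf 2952) (.leaf 16776)) (.leaf 8842))) (.node (.node (.node (.leaf 1412) (.leaf 15110)) (.node (.leaf 7425) (.leaf 47370))) (.node (.node (.leaf 4482) (.leaf 18822)) (.leaf 10890)))) (.node (.node (.node (.node (.leaf 648) (.leaf 14212)) (.node (.leaf 6534) (.leaf 25098)))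 (.node (.node (.leaf 3714) (.leaf 18177)) (.leaf 9866))) (.node (.node (.node (.leaf 2186) (.leaf 15876)) (.leaf 8324)) (.node (.node (.leaf 5120) (.leaf 19714)) (.leaf 11904))))) (.node (.node (.node (.node (.node (.leaf 394) (.leaf 13706)) (.node (.leaf 6154) (.leaf 21892))) (.node (.node (.leaf 3336) (.leaf 17674)) (.leaf 9226))) (.node (.node (.node (.leaf 1794) (.leaf 15617)) (.leaf 8068)) (.node (.node (.leaf 4744) (.leaf 19210)) (.leaf 11649)))) (.node (.node (.node (.node (.leaf 1026) (.leaf 14726)) (.node (.leaf 6916) (.leaf 34186))) (.node (.node (.leaf 4224) (.leaf 18562)) (.leaf 10506))) (.node (.node (.node (.leaf 2568) (.leaf 16264)) (.leaf 8584)) (.node (.node (.leaf 5505) (.leaf 19970)) (.leaf 12162))))))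
def dP_2 : BT := .node dP_0 dP_1
def dP_3 : BT := .node (.node (.node (.node (.node (.node (.node (.leaf 10) (.leaf 12289)) (.node (.leaf 5510) (.leaf 19978))) (.node (.node (.leaf 2826) (.leaf 16520)) (.leaf 8710))) (.node (.node (.node (.leaf 1034) (.leaf 14976)) (.node (.leaf 7050) (.leaf 37124))) (.node (.node (.leaf 4230) (.leaf 18690)) (.leaf 10628)))) (.node (.node (.node (.node (.leaf 516) (.leaf 13960)) (.node (.leaf 6400) (.leaf 22794))) (.node (.node (.leaf 3466) (.leaf 17921)) (.leaf 9602))) (.node (.node (.node (.leaf 2056) (.leaf 15622)) (.leaf 8192)) (.node (.node (.leaf 4870) (.leaf 19586)) (.leaf 11654))))) (.node (.node (.node (.node (.node (.leaf 264) (.leaf 12938)) (.node (.leaf 5892) (.leaf 20746))) (.node (.node (.leaf 3201) (.leaf 17158)) (.leaf 9088))) (.node (.node (.node (.leaf 1542) (.leaf 15240)) (.node (.leaf 7690) (.leaf 51842))) (.node (.node (.leaf 4488) (.leaf 18950)) (.leaf 11146)))) (.node (.node (.node (.node (.leaf 778) (.leaf 14602)) (.node (.leaf 6666) (.leaf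 28420))) (.node (.node (.leaf 3846) (.leaf 18433)) (.leaf 10112))) (.node (.node (.node (.leaf 2433) (.leaf 16004)) (.leaf 8458)) (.node (.node (.leaf 5128) (.leaf 19720)) (.leaf 11908)))))) (.node (.node (.node (.node (.node (.node (.leaf 132) (.leaf 12298)) (.node (.leaf 5762) (.leaf 20616))) (.node (.node (.leaf 2950) (.leaf 16772)) (.leaf 8840))) (.node (.node (.node (.leaf 1409) (.leaf 14982)) (.node (.leaf 7424) (.leaf 42884))) (.node (.node (.leaf 4481) (.leaf 18817)) (.leaf 10762)))) (.node (.node (.node (.node (.leaf 646) (.leaf 14210)) (.node (.leaf 6406) (.leaf 24842))) (.node (.node (.leaf 3713) (.leaf 17928)) (.leaf 9862))) (.node (.node (.node (.leaf 2184) (.leaf 15874)) (.leaf 8322)) (.node (.node (.leaf 5002) (.leaf 19713)) (.leaf 11784))))) (.node (.node (.node (.node (.node (.leaf 392) (.leaf 13702)) (.node (.leaf 6150) (.leaf 21890))) (.node (.node (.leaf 3208) (.leaf 17418)) (.leaf 9224))) (.node (.node (.node (.leaf 1674) (.leaf 15616)) (.leaf 8065)) (.node (.node (.leaf 4740)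 (.leaf 19204)) (.leaf 11648)))) (.node (.node (.node (.node (.leaf 906) (.leaf 14724)) (.node (.leaf 6914) (.leaf 31882))) (.node (.node (.leaf 4106) (.leaf 18440)) (.leaf 10500))) (.node (.node (.node (.leaf 2566) (.leaf 16262)) (.leaf 8582)) (.node (.node (.leaf 5504) (.leaf 19850)) (.leaf 12042))))))
def dP_4 : BT := .node (.node (.node (.node (.node (.node (.node (.leaf 129) (.leaf 12294)) (.node (.leaf 5760) (.leaf 20610))) (.node (.node (.leaf 2946) (.leaf 16650)) (.leaf 8714))) (.node (.node (.node (.leaf 1162) (.leaf 14978)) (.node (.leaf 7174) (.leaf 37512))) (.node (.node (.leaf 4362) (.leaf 18698)) (.leaf 10754)))) (.node (.node (.node (.node (.leaf 522) (.leaf 14090)) (.node (.leaf 6402) (.leaf 23050))) (.node (.node (.leaf 3594) (.leaf 17924)) (.leaf 9608))) (.node (.node (.node (.leaf 2178) (.leaf 15746)) (.leaf 8320)) (.node (.node (.leaf 4874) (.leaf 19592)) (.leaf 11778))))) (.node (.node (.node (.node (.node (.leaf 386) (.leaf 13576)) (.node (.leaf 6024) (.leaf 21888))) (.node (.node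 (.leaf 3204) (.leaf 17162)) (.leaf 9220))) (.node (.node (.node (.leaf 1546) (.leaf 15364)) (.node (.leaf 7946) (.leaf 53378))) (.node (.node (.leaf 4616) (.leaf 19076)) (.leaf 11402)))) (.node (.node (.node (.node (.leaf 897) (.leaf 14721)) (.node (.leaf 6912) (.leaf 30212))) (.node (.node (.leaf 3850) (.leaf 18436)) (.leaf 10250))) (.node (.node (.node (.leaf 2438) (.leaf 16136)) (.leaf 8577)) (.node (.node (.leaf 5258) (.leaf 19844)) (.leaf 11912)))))) (.node (.node (.node (.node (.node (.node (.leaf 258) (.leaf 12804)) (.node (.leaf 5766) (.leaf 20737))) (.node (.node (.leaf 3082) (.leaf 16898)) (.leaf 8966))) (.node (.node (.node (.leaf 1416) (.leaf 15112)) (.node (.leaf 7686) (.leaf 47876))) (.node (.node (.leaf 4484) (.leaf 18826)) (.leaf 11009)))) (.node (.node (.node (.node (.leaf 650) (.leaf 14216)) (.node (.leaf 6536) (.leaf 26762))) (.node (.node (.leaf 3718) (.leaf 18314)) (.leaf 9990))) (.node (.node (.node (.leaf 2310) (.leaf 15880)) (.leaf 8328)) (.node (.node (.leaf 5121) (.leaf 19716))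 (.leaf 11905))))) (.node (.node (.node (.node (.node (.leaf 512) (.leaf 13954)) (.node (.leaf 6278) (.leaf 21894))) (.node (.node (.leaf 3338) (.leaf 17802)) (.leaf 9348))) (.node (.node (.node (.leaf 1924) (.leaf 15618)) (.leaf 8070)) (.node (.node (.leaf 4746) (.leaf 19338)) (.leaf 11650)))) (.node (.node (.node (.node (.leaf 1030) (.leaf 14728)) (.node (.leaf 6918) (.leaf 35968))) (.node (.node (.leaf 4225) (.leaf 18564)) (.leaf 10624))) (.node (.node (.node (.leaf 2570) (.leaf 16392)) (.leaf 8586)) (.node (.node (.leaf 5506) (.leaf 19972)) (.leaf 12170))))))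
def dP_5 : BT := .node dP_3 dP_4
def dP_6 : BT := .node dP_2 dP_5
def dP : BT := dP_6
def dRels : List (List ℕ) := [[], [0, 1], [1, 0], [2, 3], [3, 2], [4, 5], [5, 4], [6, 7], [7, 6], [8, 9], [9, 8], [10, 11], [11, 10], [0, 0, 0], [1, 1, 1], [2, 2], [3, 3], [4, 4], [5, 5], [6, 6], [7, 7], [8, 8], [9, 9], [0, 2, 0, 2, 0, 2], [3, 1, 3, 1, 3, 1], [2, 4, 2, 4, 2, 4], [5, 3, 5, 3, 5, 3], [4, 6, 4, 6, 4, 6], [7, 5, 7, 5, 7, 5], [6, 8, 6, 8, 6, 8], [9, 7, 9, 7, 9, 7], [0, 4, 0, 4], [5, 1, 5, 1], [0, 6, 0, 6], [7, 1, 7, 1], [0, 8, 0, 8], [9, 1, 9, 1], [2, 6, 2, 6], [7, 3, 7, 3], [2, 8, 2, 8], [9, 3, 9, 3], [4, 8, 4, 8], [9, 5, 9, 5], [10, 10], [11, 11], [10, 1, 6, 11, 7, 0], [1, 6, 10, 7, 0, 11], [10, 4, 6, 4, 8, 6, 4, 11, 5, 7, 9, 5, 7, 5], [4, 6, 4, 8, 6, 4, 10, 5, 7, 9, 5, 7, 5, 11], [10, 0, 2, 0, 4, 2, 1, 11, 0, 3, 5, 1, 3, 1], [0, 2, 0, 4, 2, 1, 10, 0, 3, 5, 1, 3, 1, 11], [10, 0, 10, 0, 10, 0, 10, 0], [1, 11, 1, 11, 1, 11, 1, 11], [10, 1, 2, 10, 1, 2, 10, 1, 2], [3, 0, 11, 3, 0, 11, 3, 0, 11], [10, 2,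 8, 10, 2, 8, 10, 2, 8], [9, 3, 11, 9, 3, 11, 9, 3, 11], [10, 0, 2, 10, 0, 2, 10, 0, 2, 10, 0, 2, 10, 0, 2], [3, 1, 11, 3, 1, 11, 3, 1, 11, 3, 1, 11, 3, 1, 11]]
def dD : Data := ⟨6, dF, dP, dRels, [0, 2, 4, 6, 8]⟩
def dJ0 : List (List ℕ) := [[1, 0], [1, 0], [1, 0], [1, 0], [1, 0], [0, 0], [45, 1, 10], [0, 0], [0, 0], [16, 1, 15, 16], [47, 2, 11, 7, 0, 10, 16], [21, 1, 20], [35, 3, 19, 20, 14], [0, 0], [17, 1, 26], [0, 0], [19, 1, 30], [0, 0], [23, 1, 34], [0, 0], [17, 1, 38], [39, 1, 40, 24, 38], [0, 0], [19, 1, 44], [33, 2, 32, 14, 44], [0, 0], [23, 1, 50], [37, 2, 36, 14, 50], [0, 0], [45, 1, 56], [0, 0], [17, 1, 60], [39, 1, 28, 22, 60], [21, 1, 64], [0, 0], [19, 1, 68], [33, 2, 46, 19, 68], [15, 2, 72, 48], [0, 0], [23, 1, 76], [37, 2, 52, 19, 76], [15, 2, 80, 54], [0, 0], [45, 1, 84], [53, 7, 86, 17, 12, 0, 10, 14, 56], [0, 0], [56, 2, 61, 17, 11, 3, 0, 13, 29, 90], [46, 1, 92], [0, 0], [16, 1, 91, 96], [0, 0], [19, 1, 100], [0, 0], [23, 1, 104], [41, 2, 36, 26, 104], [57, 3, 108, 36, 12, 2, 8,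 10, 26, 104], [17, 1, 108], [0, 0], [45, 1, 114], [0, 0], [17, 1, 118], [0, 0], [21, 1, 122], [0, 0], [23, 1, 126], [43, 2, 36, 30, 126], [19, 1, 130], [0, 0], [45, 1, 134], [0, 0], [21, 1, 138], [0, 0], [45, 1, 142], [0, 0], [25, 1, 97, 28, 14, 38, 146], [51, 4, 40, 15, 11, 0, 3, 5, 1, 3, 1, 10, 14, 38, 146], [19, 1, 150], [17, 1, 148], [0, 0], [16, 1, 147, 156], [34, 2, 158, 153, 156], [36, 2, 147, 43, 156], [22, 1, 162], [0, 0], [23, 1, 166], [41, 2, 52, 38, 166], [17, 1, 170], [0, 0], [45, 1, 174], [0, 0], [17, 1, 178], [27, 1, 154, 150, 40, 44, 178], [19, 1, 182], [33, 0, 182, 97, 100], [0, 0], [21, 1, 188], [29, 2, 190, 46, 24, 44, 188], [35, 0, 190, 48, 122], [0, 0], [23, 1, 196], [43, 2, 52, 44, 196], [19, 1, 200], [33, 0, 200, 54, 132], [0, 0], [45, 1, 206], [0, 0], [21, 1, 210], [31, 1, 212, 52, 24, 50, 210], [35, 0, 212, 54, 138], [0, 0], [45, 1, 218], [0, 0], [25, 1, 157, 40, 19, 60, 222], [35, 1, 97, 66, 222], [51, 9, 160, 158, 155, 98, 95, 222, 224, 157, 152, 148, 98, 92, 222], [21, 1,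 226], [0, 0], [16, 1, 223, 232], [26, 2, 91, 27, 16, 63, 232], [36, 2, 91, 65, 232], [47, 2, 92, 67, 90, 95, 232], [18, 1, 236], [0, 0], [19, 1, 244], [0, 0], [23, 1, 248], [41, 2, 78, 60, 248], [17, 1, 252], [0, 0], [17, 1, 256], [0, 0], [21, 1, 260], [29, 2, 124, 32, 22, 68, 260], [35, 2, 124, 74, 260], [15, 2, 266, 194], [19, 1, 264], [49, 4, 124, 32, 11, 5, 7, 9, 5, 7, 5, 10, 30, 122, 270], [23, 1, 272], [37, 3, 268, 272, 194], [31, 4, 198, 188, 276, 190, 196], [29, 4, 212, 202, 278, 200, 210], [0, 0], [23, 1, 282], [31, 2, 128, 122, 274, 262, 282], [37, 2, 128, 74, 282], [43, 2, 78, 68, 282], [19, 1, 290], [33, 0, 290, 80, 202], [21, 1, 286], [0, 0], [45, 1, 298], [0, 0], [21, 1, 302], [29, 2, 140, 132, 296, 290, 302], [31, 1, 140, 36, 22, 76, 302], [35, 2, 140, 82, 302], [15, 2, 310, 216], [19, 1, 306], [0, 0], [45, 1, 316], [0, 0], [17, 1, 320], [0, 0], [19, 1, 324], [33, 2, 102, 90, 324], [15, 2, 328, 186], [0, 0], [23, 1, 332], [37, 2, 106, 90, 332], [0, 0], [23, 1, 338], [37, 2, 334, 99,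 338], [15, 2, 342, 336], [0, 0], [45, 1, 346], [0, 0], [17, 1, 350], [27, 1, 120, 32, 26, 100, 350], [19, 1, 354], [25, 0, 352, 186, 180, 48, 118], [0, 0], [21, 1, 360], [0, 0], [23, 1, 364], [43, 2, 106, 100, 364], [19, 1, 368], [0, 0], [45, 1, 372], [0, 0], [21, 1, 376], [39, 2, 140, 112, 376], [17, 1, 380], [0, 0], [0, 0], [16, 1, 385, 386], [0, 0], [17, 1, 390], [0, 0], [21, 1, 394], [0, 0]]
def dJ1 : List (List ℕ) := [[16, 1, 359, 398], [34, 2, 400, 357, 398], [0, 0], [21, 1, 404], [39, 2, 124, 118, 404], [17, 1, 408], [0, 0], [23, 1, 412], [41, 2, 128, 118, 412], [17, 1, 416], [0, 0], [45, 1, 420], [0, 0], [45, 1, 424], [0, 0], [45, 1, 428], [0, 0], [0, 0], [17, 1, 434], [0, 0], [19, 1, 438], [0, 0], [21, 1, 442], [0, 0], [23, 1, 446], [0, 0], [45, 1, 450], [0, 0], [0, 0], [16, 1, 455, 456], [0, 0], [0, 0], [19, 1, 462], [0, 0], [21, 1, 466], [0, 0], [23, 1, 470], [0, 0], [23, 1, 474], [37, 2, 168, 146, 474], [41, 2, 340, 154, 474], [43, 2, 168, 152, 474], [19, 1, 482], [17, 1, 480], [0, 0],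 [45, 1, 488], [0, 0], [23, 1, 492], [37, 2, 476, 159, 492], [43, 2, 494, 161, 492], [33, 0, 498, 496, 482], [0, 0], [45, 1, 502], [0, 0], [21, 1, 506], [31, 1, 508, 168, 42, 166, 506], [39, 2, 212, 172, 506], [17, 1, 512], [0, 0], [45, 1, 516], [0, 0], [0, 0], [16, 1, 521, 522], [47, 2, 489, 164, 157, 174, 522], [21, 1, 526], [0, 0], [0, 0], [21, 1, 532], [35, 2, 528, 523, 532], [0, 0], [23, 1, 538], [0, 0], [21, 1, 542], [35, 2, 362, 186, 542], [39, 2, 190, 178, 542], [17, 1, 548], [41, 3, 548, 276, 550], [0, 0], [23, 1, 554], [31, 2, 556, 542, 552, 544, 554], [37, 2, 366, 186, 554], [41, 2, 198, 178, 554], [43, 2, 340, 184, 554], [19, 1, 564], [27, 0, 564, 486, 482, 170, 202], [0, 0], [45, 1, 570], [0, 0], [45, 1, 574], [47, 1, 444, 135, 125, 194, 574], [0, 0], [45, 1, 580], [0, 0], [0, 0], [16, 1, 585, 586], [0, 0], [17, 1, 590], [0, 0], [21, 1, 594], [0, 0], [23, 1, 598], [0, 0], [45, 1, 602], [47, 1, 468, 143, 141, 216, 602], [48, 3, 457, 143, 55, 210, 602], [0, 0], [0, 0], [0, 0], [17, 1, 614],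 [0, 0], [19, 1, 618], [0, 0], [21, 1, 622], [0, 0], [23, 1, 626], [0, 0], [19, 1, 630], [27, 2, 632, 224, 161, 229, 630], [33, 2, 246, 222, 630], [0, 0], [23, 1, 638], [37, 2, 250, 222, 638], [41, 2, 494, 229, 638], [17, 1, 644], [0, 0], [45, 1, 648], [47, 1, 396, 115, 65, 222, 648], [48, 3, 387, 115, 96, 230, 648], [22, 1, 654], [0, 0], [19, 1, 658], [33, 2, 632, 235, 658], [15, 2, 662, 636], [0, 0], [23, 1, 666], [37, 2, 640, 235, 666], [41, 2, 334, 237, 666], [17, 1, 672], [25, 0, 672, 336, 108, 82, 254], [0, 0], [45, 1, 678], [0, 0], [17, 1, 682], [27, 1, 258, 70, 60, 244, 682], [19, 1, 686], [0, 0], [21, 1, 690], [29, 2, 362, 102, 66, 244, 690], [19, 1, 694], [0, 0], [23, 1, 698], [43, 2, 250, 244, 698], [19, 1, 702], [0, 0], [45, 1, 706], [0, 0], [21, 1, 710], [31, 1, 378, 106, 66, 248, 710], [39, 2, 304, 254, 710], [17, 1, 716], [0, 0], [45, 1, 720], [0, 0], [25, 1, 399, 120, 74, 256, 724], [17, 1, 726], [0, 0], [16, 1, 725, 730], [26, 2, 331, 179, 73, 259, 730], [18, 1, 734], [0, 0], [21, 1,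 738], [39, 2, 262, 256, 738], [17, 1, 742], [41, 3, 742, 272, 410], [23, 1, 746], [0, 0], [23, 1, 750], [31, 2, 414, 404, 746, 740, 750], [41, 2, 284, 256, 750], [17, 1, 756], [39, 3, 756, 286, 418], [0, 0], [45, 1, 762], [0, 0], [45, 1, 766], [47, 1, 596, 207, 191, 268, 766], [48, 3, 587, 207, 73, 260, 766], [22, 1, 772], [0, 0], [45, 1, 776], [0, 0], [0, 0], [16, 1, 781, 782], [47, 2, 425, 123, 74, 298, 782], [21, 1, 786], [0, 0], [17, 1, 790], [0, 0], [19, 1, 794], [0, 0]]
def dJ2 : List (List ℕ) := [[21, 1, 798], [35, 2, 788, 783, 798], [0, 0], [23, 1, 804], [0, 0], [0, 0], [16, 1, 809, 810], [47, 2, 451, 139, 82, 316, 810], [0, 0], [17, 1, 816], [0, 0], [19, 1, 820], [0, 0], [21, 1, 824], [0, 0], [23, 1, 828], [0, 0], [19, 1, 832], [0, 0], [21, 1, 836], [35, 2, 544, 330, 836], [15, 2, 840, 546], [37, 3, 840, 552, 546], [23, 1, 844], [0, 0], [23, 1, 848], [31, 2, 366, 360, 844, 838, 848], [37, 2, 556, 330, 848], [43, 2, 334, 324, 848], [49, 0, 660, 240, 324, 848, 852, 368, 111, 369, 853, 849, 325,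 241, 661], [47, 3, 691, 664, 858, 665, 690], [51, 11, 637, 635, 663, 858, 662, 634, 636, 246, 62, 18, 59, 88, 323, 835], [8, 0, 835, 862, 246], [6, 0, 323, 865, 62], [3, 0, 88, 867, 18], [14, 0, 84, 867], [14, 0, 56, 869], [56, 6, 387, 115, 27, 14, 872, 41, 146, 491], [18, 1, 874], [40, 3, 529, 874, 656], [51, 0, 733, 737, 328, 102, 28, 16, 870, 17, 29, 103, 329, 736, 732], [47, 3, 739, 724, 880, 725, 738], [55, 5, 422, 398, 728, 880, 725, 258, 298, 782], [17, 1, 884], [19, 1, 856], [33, 0, 856, 336, 370], [35, 3, 854, 558, 560], [0, 0], [45, 1, 894], [0, 0], [21, 1, 898], [29, 2, 378, 370, 892, 856, 898], [47, 3, 899, 336, 110, 337, 898], [19, 1, 902], [35, 0, 900, 336, 376], [0, 0], [45, 1, 910], [0, 0], [21, 1, 914], [29, 2, 916, 566, 558, 564, 914], [35, 2, 378, 344, 914], [15, 2, 920, 908], [0, 0], [45, 1, 924], [0, 0], [0, 0], [16, 1, 929, 930], [47, 2, 679, 238, 99, 346, 930], [21, 1, 934], [0, 0], [17, 1, 938], [0, 0], [19, 1, 942], [0, 0], [21, 1, 946], [35, 2, 936, 931, 946], [53, 0, 950,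 680, 233, 93, 99, 346, 928], [45, 1, 952], [0, 0], [21, 1, 956], [35, 2, 406, 358, 956], [39, 2, 362, 350, 956], [17, 1, 962], [0, 0], [23, 1, 966], [37, 2, 414, 358, 966], [41, 2, 366, 350, 966], [43, 2, 414, 356, 966], [19, 1, 974], [27, 0, 974, 416, 130, 112, 370], [0, 0], [45, 1, 980], [0, 0], [45, 1, 984], [0, 0], [45, 1, 988], [0, 0], [0, 0], [16, 1, 993, 994], [0, 0], [17, 1, 998], [0, 0], [19, 1, 1002], [0, 0], [21, 1, 1006], [0, 0], [23, 1, 1010], [0, 0], [45, 1, 1014], [0, 0], [17, 1, 1018], [0, 0], [21, 1, 1022], [35, 2, 396, 384, 1022], [15, 2, 1026, 653], [0, 0], [45, 1, 1030], [0, 0], [25, 1, 536, 877, 387, 390, 1034], [17, 1, 1036], [0, 0], [16, 1, 1035, 1040], [0, 0], [21, 1, 1044], [35, 2, 958, 401, 1044], [15, 2, 1048, 960], [0, 0], [23, 1, 1052], [37, 2, 968, 401, 1052], [43, 2, 1054, 403, 1052], [33, 0, 1058, 1056, 974], [0, 0], [45, 1, 1062], [0, 0], [19, 1, 1066], [0, 0], [45, 1, 1070], [0, 0], [0, 0], [0, 0], [19, 1, 1078], [0, 0], [21, 1, 1082], [39, 2, 788, 884, 1082], [17,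 1, 1086], [57, 2, 426, 410, 746, 883, 742, 272, 424, 1088], [23, 1, 1090], [0, 0], [23, 1, 1094], [0, 0], [15, 1, 802, 1098], [35, 1, 785, 786, 1098], [21, 1, 1102], [0, 0], [19, 1, 1106], [0, 0], [0, 0], [16, 1, 1111, 1112], [47, 2, 429, 287, 288, 428, 1112], [21, 1, 1116], [35, 3, 1115, 1116, 1110], [0, 0], [17, 1, 1122], [0, 0], [19, 1, 1126], [0, 0], [23, 1, 1130], [0, 0], [35, 2, 444, 432, 1134], [0, 0], [45, 1, 1138], [0, 0], [0, 0], [0, 0], [19, 1, 1146], [0, 0], [21, 1, 1150], [39, 2, 444, 434, 1150], [17, 1, 1154], [0, 0], [23, 1, 1158], [41, 2, 448, 434, 1158], [17, 1, 1162], [0, 0], [0, 0], [17, 1, 1168], [0, 0], [21, 1, 1172], [0, 0], [23, 1, 1176], [43, 2, 448, 438, 1176], [19, 1, 1180], [0, 0], [0, 0], [19, 1, 1186], [0, 0], [23, 1, 1190], [0, 0], [45, 1, 1194], [0, 0]]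
def dJ3 : List (List ℕ) := [[21, 1, 1198], [0, 0], [45, 1, 1202], [0, 0], [35, 1, 813, 814, 1206], [21, 1, 1208], [0, 0], [17, 1, 1212], [0, 0], [19, 1, 1216], [33, 2, 464, 454, 1216], [0, 0], [21, 1, 1222], [0, 0], [23, 1, 1226], [37, 2, 472, 454, 1226], [0, 0], [45, 1, 1232], [0, 0], [33, 2, 1218, 459, 1236], [15, 2, 1238, 1220], [0, 0], [0, 0], [17, 1, 1244], [0, 0], [21, 1, 1248], [0, 0], [23, 1, 1252], [43, 2, 472, 462, 1252], [19, 1, 1256], [0, 0], [45, 1, 1260], [0, 0], [21, 1, 1264], [0, 0], [0, 0], [21, 1, 1270], [39, 2, 916, 486, 1270], [25, 0, 1274, 920, 380, 216, 514], [0, 0], [45, 1, 1278], [0, 0], [15, 1, 536, 1282], [35, 1, 525, 526, 1282], [21, 1, 1286], [0, 0], [21, 1, 1290], [35, 2, 508, 500, 1290], [37, 3, 1294, 510, 1276], [0, 0], [45, 1, 1298], [0, 0], [0, 0], [19, 1, 1304], [43, 1, 1306, 510, 1304], [0, 0], [45, 1, 1310], [0, 0], [0, 0], [57, 2, 518, 170, 52, 873, 38, 166, 516, 1316], [23, 1, 1318], [0, 0], [19, 1, 1322], [0, 0], [21, 1, 1326], [0, 0], [17, 1, 1330], [0, 0], [19,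 1, 1334], [0, 0], [45, 1, 1338], [0, 0], [0, 0], [0, 0], [41, 2, 540, 530, 1346], [0, 0], [45, 1, 1350], [0, 0], [19, 1, 1354], [27, 2, 1356, 548, 192, 550, 1354], [29, 1, 632, 226, 184, 542, 1354], [43, 1, 1356, 552, 1354], [21, 1, 1360], [35, 0, 1360, 636, 690], [0, 0], [45, 1, 1368], [0, 0], [45, 1, 1372], [0, 0], [0, 0], [16, 1, 1377, 1378], [47, 2, 985, 361, 186, 570, 1378], [21, 1, 1382], [0, 0], [17, 1, 1386], [0, 0], [19, 1, 1390], [0, 0], [21, 1, 1394], [35, 2, 1384, 1379, 1394], [0, 0], [23, 1, 1400], [0, 0], [17, 1, 1404], [0, 0], [19, 1, 1408], [33, 2, 1188, 579, 1408], [0, 0], [23, 1, 1414], [37, 2, 1192, 579, 1414], [0, 0], [0, 0], [16, 1, 1421, 1422], [47, 2, 777, 297, 204, 580, 1422], [21, 1, 1426], [0, 0], [17, 1, 1430], [0, 0], [19, 1, 1434], [0, 0], [21, 1, 1438], [35, 2, 1428, 1423, 1438], [0, 0], [23, 1, 1444], [0, 0], [21, 1, 1448], [35, 2, 596, 584, 1448], [15, 2, 1452, 771], [0, 0], [45, 1, 1456], [0, 0], [17, 1, 1460], [0, 0], [45, 1, 1464], [53, 7, 1466, 587, 208, 48, 134,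 432, 1138], [0, 0], [0, 0], [0, 0], [0, 0], [21, 1, 1476], [39, 2, 596, 590, 1476], [17, 1, 1480], [0, 0], [0, 0], [45, 1, 1486], [0, 0], [0, 0], [19, 1, 1492], [33, 2, 620, 610, 1492], [0, 0], [23, 1, 1498], [37, 2, 628, 610, 1498], [0, 0], [45, 1, 1504], [53, 7, 1506, 613, 220, 54, 142, 454, 1232], [0, 0], [23, 1, 1510], [41, 2, 628, 614, 1510], [57, 3, 1348, 540, 176, 40, 50, 218, 614, 1510], [45, 1, 1516], [0, 0], [23, 1, 1520], [31, 2, 1522, 1364, 1362, 1360, 1520], [41, 2, 1522, 634, 1520], [43, 2, 640, 630, 1520], [19, 1, 1528], [33, 0, 1528, 642, 704], [0, 0], [45, 1, 1534], [0, 0], [21, 1, 1538], [29, 2, 1540, 1530, 1524, 1528, 1538], [31, 1, 916, 340, 230, 638, 1538], [39, 2, 1292, 646, 1538], [25, 0, 1546, 1294, 512, 312, 718], [0, 0], [45, 1, 1550], [0, 0], [17, 1, 1554], [27, 1, 737, 326, 237, 658, 1554], [33, 0, 1558, 731, 688], [0, 0], [21, 1, 1562], [29, 2, 838, 326, 239, 658, 1562], [35, 2, 692, 664, 1562], [15, 2, 1568, 1366], [33, 3, 1568, 694, 842], [43, 1, 694, 844, 1572], [23,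 1, 1574], [0, 0], [31, 2, 700, 690, 1576, 1564, 1578], [37, 2, 700, 664, 1578], [43, 2, 668, 658, 1578], [19, 1, 1584], [33, 0, 1584, 670, 1530], [21, 1, 1580], [0, 0], [21, 1, 1592], [31, 1, 900, 334, 239, 666, 1592], [35, 2, 712, 676, 1592]]
def dJ4 : List (List ℕ) := [[39, 2, 900, 674, 1592], [27, 5, 1600, 902, 380, 314, 718], [0, 0], [45, 1, 1604], [55, 1, 818, 318, 83, 112, 110, 337, 674, 1604], [57, 1, 830, 318, 254, 250, 93, 237, 666, 1604], [17, 1, 1610], [0, 0], [0, 0], [17, 1, 1616], [0, 0], [19, 1, 1620], [0, 0], [23, 1, 1624], [0, 0], [16, 1, 1561, 1628], [26, 2, 1630, 1555, 665, 685, 1628], [34, 2, 725, 687, 1628], [20, 1, 1634], [0, 0], [45, 1, 1638], [0, 0], [0, 0], [0, 0], [17, 1, 1646], [0, 0], [19, 1, 1650], [0, 0], [21, 1, 1654], [0, 0], [23, 1, 1658], [0, 0], [48, 3, 1609, 1605, 677, 710, 1662], [0, 0], [0, 0], [16, 1, 1667, 1668], [0, 0], [17, 1, 1672], [57, 2, 722, 252, 78, 871, 60, 248, 720, 1672], [23, 1, 1676], [0, 0], [19, 1, 1680], [0, 0], [21, 1, 1684], [0, 0], [21, 1, 1688],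 [35, 2, 740, 724, 1688], [39, 2, 1046, 728, 1688], [17, 1, 1694], [37, 3, 1692, 748, 1050], [0, 0], [23, 1, 1700], [31, 2, 1054, 1044, 1698, 1690, 1700], [37, 2, 752, 724, 1700], [41, 2, 1054, 728, 1700], [17, 1, 1708], [35, 3, 1706, 754, 1060], [0, 0], [21, 1, 1714], [35, 2, 1690, 733, 1714], [39, 2, 838, 735, 1714], [41, 3, 1720, 846, 964], [0, 0], [31, 2, 968, 956, 1722, 1716, 1724], [37, 2, 1702, 733, 1724], [41, 2, 850, 735, 1724], [17, 1, 1730], [25, 0, 1730, 854, 562, 294, 758], [39, 3, 1730, 852, 978], [0, 0], [0, 0], [27, 2, 1068, 408, 270, 744, 1740], [0, 0], [45, 1, 1744], [0, 0], [0, 0], [0, 0], [17, 1, 1752], [0, 0], [19, 1, 1756], [0, 0], [21, 1, 1760], [0, 0], [23, 1, 1764], [0, 0], [17, 1, 1768], [39, 1, 1462, 773, 1768], [21, 1, 1772], [0, 0], [15, 1, 1442, 1776], [35, 1, 1425, 1426, 1776], [21, 1, 1780], [0, 0], [17, 1, 1784], [0, 0], [19, 1, 1788], [0, 0], [23, 1, 1792], [0, 0], [17, 1, 1796], [0, 0], [33, 2, 796, 780, 1800], [0, 0], [23, 1, 1804], [37, 2, 806, 780, 1804], [0, 0],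 [31, 2, 1096, 1082, 1090, 788, 1810], [37, 2, 1806, 785, 1810], [41, 2, 1096, 886, 1810], [17, 1, 1816], [15, 2, 1814, 1808], [21, 1, 1812], [0, 0], [45, 1, 1824], [53, 7, 1826, 783, 300, 72, 206, 584, 1456], [0, 0], [39, 2, 800, 790, 1830], [17, 1, 1832], [0, 0], [41, 2, 806, 790, 1836], [17, 1, 1838], [0, 0], [43, 2, 806, 794, 1842], [19, 1, 1844], [0, 0], [19, 1, 1848], [33, 0, 1850, 802, 1106], [0, 0], [23, 1, 1854], [37, 0, 1856, 802, 1092], [48, 5, 1051, 406, 420, 1085, 1858], [47, 2, 1860, 1045, 399, 420, 1076], [0, 0], [21, 1, 1864], [31, 1, 1862, 1856, 800, 804, 1864], [23, 1, 1868], [37, 0, 1868, 1077, 1094], [0, 0], [45, 1, 1874], [0, 0], [17, 1, 1878], [0, 0], [33, 2, 822, 808, 1882], [0, 0], [37, 2, 830, 808, 1886], [0, 0], [17, 1, 1890], [25, 0, 1892, 811, 816, 1609, 1610], [56, 2, 1891, 811, 317, 253, 676, 1607, 1613, 1894], [0, 0], [17, 1, 1898], [0, 0], [21, 1, 1902], [0, 0], [23, 1, 1906], [43, 2, 830, 820, 1906], [19, 1, 1910], [0, 0], [45, 1, 1914], [0, 0], [21, 1, 1918], [47, 3,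 1919, 1894, 1897, 1895, 1918], [0, 0], [45, 1, 1924], [0, 0], [45, 1, 1928], [47, 1, 1008, 373, 363, 842, 1928], [48, 3, 995, 373, 329, 836, 1928], [22, 1, 1934], [0, 0], [45, 1, 1938], [0, 0], [0, 0], [16, 1, 1943, 1944], [47, 2, 1369, 543, 330, 894, 1944], [21, 1, 1948], [0, 0], [17, 1, 1952], [0, 0], [19, 1, 1956], [0, 0], [21, 1, 1960], [35, 2, 1950, 1945, 1960], [0, 0], [23, 1, 1966], [0, 0], [0, 0], [45, 1, 1972], [48, 3, 1971, 911, 343, 914, 1972], [0, 0], [53, 2, 1971, 912, 336, 110, 344, 924, 1978], [0, 0], [16, 1, 1979, 1982], [47, 2, 1015, 377, 344, 924, 1982], [21, 1, 1986], [0, 0], [17, 1, 1990], [0, 0], [19, 1, 1994], [0, 0]]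
def dJ5 : List (List ℕ) := [[21, 1, 1998], [35, 2, 1988, 1983, 1998], [0, 0], [23, 1, 2004], [0, 0], [0, 0], [19, 1, 2010], [33, 2, 944, 928, 2010], [0, 0], [0, 0], [17, 1, 2018], [0, 0], [33, 2, 2012, 933, 2022], [15, 2, 2024, 2014], [0, 0], [45, 1, 2028], [53, 7, 2030, 931, 348, 97, 114, 384, 1030], [0, 0], [0, 0], [16, 1, 2035, 2036], [60, 2, 1331, 521, 175, 39, 15, 11, 3, 1, 13, 29, 96, 349, 941, 2036], [46, 1, 2040], [0, 0], [21, 1, 2044], [39, 2, 948, 938, 2044], [17, 1, 2048], [55, 3, 2035, 940, 348, 98, 237, 678, 951, 2050], [45, 1, 2052], [0, 0], [45, 1, 2056], [0, 0], [17, 1, 2060], [0, 0], [21, 1, 2064], [0, 0], [0, 0], [19, 1, 2070], [33, 0, 2072, 950, 1620], [0, 0], [23, 1, 2076], [37, 0, 2078, 950, 1624], [0, 0], [19, 1, 2082], [29, 1, 1068, 406, 356, 956, 2082], [33, 0, 2084, 960, 1066], [0, 0], [45, 1, 2090], [0, 0], [45, 1, 2094], [0, 0], [15, 1, 1398, 2098], [35, 1, 1381, 1382, 2098], [0, 0], [17, 1, 2104], [0, 0], [19, 1, 2108], [0, 0], [23, 1, 2112], [0, 0], [0, 0], [16, 1, 2117,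 2118], [47, 2, 1373, 559, 560, 988, 2118], [21, 1, 2122], [0, 0], [17, 1, 2126], [0, 0], [19, 1, 2130], [0, 0], [21, 1, 2134], [35, 2, 2124, 2119, 2134], [0, 0], [23, 1, 2140], [0, 0], [17, 1, 2144], [0, 0], [19, 1, 2148], [33, 2, 1004, 992, 2148], [0, 0], [23, 1, 2154], [0, 0], [45, 1, 2158], [0, 0], [17, 1, 2162], [0, 0], [19, 1, 2166], [33, 2, 2150, 997, 2166], [15, 2, 2170, 2152], [0, 0], [23, 1, 2174], [0, 0], [45, 1, 2178], [0, 0], [15, 1, 2002, 2182], [35, 1, 1985, 1986, 2182], [21, 1, 2186], [0, 0], [17, 1, 2190], [0, 0], [19, 1, 2194], [0, 0], [23, 1, 2198], [0, 0], [25, 1, 1041, 392, 384, 1018, 2202], [0, 0], [26, 2, 1283, 874, 388, 1021, 2206], [18, 1, 2208], [40, 0, 2208, 1289, 1333], [22, 1, 2212], [0, 0], [21, 1, 2216], [35, 2, 2215, 2207, 2216], [39, 2, 1024, 1018, 2216], [17, 1, 2222], [51, 4, 1798, 781, 299, 72, 181, 185, 98, 242, 234, 648, 1028, 2224, 2220], [27, 4, 1336, 1330, 2226, 1798, 1800], [17, 1, 2228], [0, 0], [45, 1, 2232], [48, 3, 2039, 2040, 2221, 2218, 2232], [36, 3,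 2236, 2035, 2047], [60, 13, 932, 955, 2049, 2238, 2233, 1019, 385, 115, 27, 16, 870, 63, 232, 681, 1619], [6, 0, 1619, 2240, 2018], [5, 0, 2021, 2242], [25, 0, 2239, 2048, 950, 2244, 931, 938], [4, 0, 2238, 2247, 2034], [14, 0, 2235, 2247, 2056], [5, 0, 2049, 2249], [6, 0, 2050, 2249], [14, 0, 2054, 2249], [13, 0, 2059, 2250], [14, 0, 2056, 2250], [56, 2, 2260, 939, 928, 955, 2253, 2039, 2040, 1331, 525], [4, 0, 2203, 2263, 523], [3, 0, 2207, 2263, 524], [6, 0, 1021, 2263, 879], [14, 0, 2259, 2263, 1342], [6, 0, 2205, 2265, 530], [6, 0, 2210, 2267, 1330], [14, 0, 651, 2268, 1030], [14, 0, 1342, 2270], [3, 0, 1043, 2273, 1344], [5, 0, 1333, 2274], [7, 0, 2227, 2274], [13, 0, 2040, 2274], [14, 0, 2043, 2274], [4, 0, 2033, 2276, 235], [13, 0, 1033, 2276], [14, 0, 1030, 2276], [3, 0, 1344, 2280], [14, 0, 2031, 2291, 678], [4, 0, 930, 2299, 1614], [3, 0, 933, 2299, 951], [6, 0, 2244, 2299], [8, 0, 2023, 2299, 1620], [10, 0, 936, 2299], [4, 0, 1614, 2300], [3, 0, 951, 2302], [6, 0, 2254, 2302, 2008], [8,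 0, 2071, 2302, 2010], [9, 0, 949, 2302], [10, 0, 946, 2302], [12, 0, 2077, 2302, 2016], [14, 0, 952, 2302], [4, 0, 2026, 2307], [3, 0, 2038, 2315], [4, 0, 2034, 2315], [13, 0, 2314, 2256, 2315], [4, 0, 2074, 2317], [4, 0, 2080, 2323], [53, 5, 525, 2279, 2331, 2332, 2328, 2289, 1284, 1350], [14, 0, 1353, 2338, 1338], [13, 0, 1341, 2340], [14, 0, 1338, 2340], [54, 7, 491, 537, 2344, 521, 175, 156, 505, 1302], [4, 0, 1302, 2346, 159], [14, 0, 502, 2349], [60, 2, 2344, 2283, 1283, 489, 155, 98, 92, 61, 18, 872, 41, 156, 2350, 225, 223], [4, 0, 537, 2353, 222], [3, 0, 1284, 2353, 232], [6, 0, 1039, 2353, 62], [10, 0, 535, 2353, 64], [14, 0, 2343, 2353, 93], [10, 0, 529, 2355, 226], [14, 0, 491, 2355, 2292], [8, 0, 2285, 2357, 658], [14, 0, 2287, 2357, 678], [4, 0, 2297, 2359, 17], [14, 0, 177, 2361, 114], [8, 0, 1335, 2363, 324], [14, 0, 2278, 2365, 346], [13, 0, 2294, 2366], [14, 0, 2292, 2366], [6, 0, 1799, 2369, 1554], [3, 0, 2328, 2371, 2313], [12, 0, 1347, 2373, 34], [13, 0, 117, 2374], [14, 0, 114,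 2374], [6, 0, 2231, 2377, 735], [6, 0, 938, 2379], [4, 0, 1630, 2384, 785]]
def dJ6 : List (List ℕ) := [[3, 0, 1560, 2384, 781], [5, 0, 1557, 2384], [6, 0, 2008, 2387], [14, 0, 1519, 2389, 142], [4, 0, 1803, 2395, 731], [8, 0, 1800, 2395], [6, 0, 2398, 1632, 2399, 884], [8, 0, 1636, 2399, 2413, 1078], [6, 0, 685, 2401, 790], [6, 0, 1515, 2407, 460], [12, 0, 1513, 2407, 470], [7, 0, 797, 2409], [8, 0, 794, 2409], [12, 0, 1843, 2409, 750], [4, 0, 782, 2413, 1074], [3, 0, 785, 2413, 1076], [6, 0, 886, 2413], [10, 0, 787, 2413, 1082], [12, 0, 1811, 2413, 1094], [14, 0, 1825, 2413, 422], [7, 0, 1081, 2414], [8, 0, 1078, 2414], [5, 0, 793, 2416], [6, 0, 790, 2416], [10, 0, 1831, 2416, 690], [12, 0, 1837, 2416, 698], [3, 0, 1502, 2419, 1242], [12, 0, 626, 2419], [5, 0, 617, 2421], [6, 0, 614, 2421], [7, 0, 1845, 2427], [8, 0, 1846, 2427], [4, 0, 1074, 2428], [3, 0, 1076, 2430], [10, 0, 1863, 2430, 1104], [12, 0, 1871, 2430, 1804], [6, 0, 1088, 2434], [9, 0, 1085, 2434], [10, 0, 1082, 2434], [12, 0, 1092,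 2434], [4, 0, 1820, 2437], [6, 0, 1818, 2437], [10, 0, 1822, 2437], [3, 0, 1828, 2439, 398], [6, 0, 1834, 2449], [5, 0, 1839, 2451], [6, 0, 1840, 2451], [11, 0, 1501, 2453], [12, 0, 1498, 2453], [11, 0, 1857, 2469], [14, 0, 1861, 2469], [4, 0, 1872, 2471], [9, 0, 1867, 2471], [14, 0, 1459, 2487, 1062], [13, 0, 1065, 2506], [14, 0, 1062, 2506], [47, 1, 1453, 1450, 2510, 1047, 1048, 2090], [14, 0, 2093, 2512, 1490], [14, 0, 1490, 2514], [51, 5, 1462, 588, 2510, 399, 119, 31, 16, 63, 232, 678, 2311, 2397, 928, 2010], [4, 0, 2335, 2518], [7, 0, 2013, 2518], [8, 0, 2010, 2518], [30, 5, 1775, 2524, 2320, 945, 2067], [20, 1, 2526], [49, 11, 2528, 2065, 943, 348, 184, 542, 1354, 1362, 1360, 632, 2381, 153, 43, 169], [6, 0, 1771, 2531, 170], [8, 0, 2526, 2531, 484], [10, 0, 1773, 2531, 506], [4, 0, 1455, 2533, 54], [3, 0, 771, 2533, 81], [10, 0, 774, 2533, 210], [14, 0, 769, 2533, 218], [10, 0, 2067, 2535, 1270], [3, 0, 2521, 2537, 1295], [8, 0, 2523, 2537, 1304], [10, 0, 1451, 2539, 138], [6, 0, 1483, 2541,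 254], [10, 0, 597, 2541, 302], [14, 0, 2516, 2541, 316], [14, 0, 1465, 2543, 602], [4, 0, 267, 2545, 610], [3, 0, 268, 2545, 612], [6, 0, 745, 2545, 2459], [8, 0, 265, 2545, 618], [10, 0, 263, 2545, 622], [12, 0, 273, 2545, 2455], [4, 0, 1276, 2546], [6, 0, 1275, 2546, 2060], [9, 0, 1273, 2546], [12, 0, 1297, 2546, 2068], [4, 0, 2327, 2549], [7, 0, 1623, 2549], [8, 0, 1620, 2549], [7, 0, 1307, 2550], [8, 0, 1304, 2550], [12, 0, 2551, 1309, 2550, 2016], [14, 0, 2509, 2553, 450], [10, 0, 1479, 2555, 710], [3, 0, 311, 2556], [4, 0, 312, 2556], [7, 0, 307, 2556], [8, 0, 314, 2556], [9, 0, 305, 2556], [10, 0, 302, 2556], [12, 0, 309, 2556, 598], [4, 0, 961, 2559, 808], [3, 0, 1048, 2559, 810], [6, 0, 963, 2559, 816], [8, 0, 2083, 2559, 820], [10, 0, 959, 2559, 824], [12, 0, 1723, 2559, 828], [3, 0, 1468, 2561, 606], [4, 0, 610, 2562], [7, 0, 1493, 2562], [8, 0, 1494, 2562], [11, 0, 2496, 2562], [12, 0, 2494, 2562], [3, 0, 612, 2564], [14, 0, 1505, 2564, 574], [3, 0, 1692, 2567, 1231], [8, 0, 1741, 2567,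 1258], [10, 0, 741, 2567, 1264], [12, 0, 749, 2567, 472], [14, 0, 2566, 882, 2567, 1268], [3, 0, 1496, 2568, 2626], [9, 0, 625, 2570], [10, 0, 622, 2570], [3, 0, 1243, 2572, 2626], [5, 0, 2063, 2576], [6, 0, 2060, 2576], [12, 0, 2068, 2580], [3, 0, 2337, 2592, 929], [12, 0, 2016, 2592], [4, 0, 1207, 2594, 399], [13, 0, 453, 2594], [14, 0, 450, 2594], [4, 0, 1549, 2596, 1470], [3, 0, 1598, 2596, 1472], [8, 0, 2676, 1603, 2596, 1474], [12, 0, 715, 2596, 1484], [14, 0, 1663, 2596, 1486], [11, 0, 601, 2610], [12, 0, 598, 2610], [4, 0, 812, 2612, 2647, 454], [3, 0, 808, 2612, 2647, 456], [5, 0, 1879, 2612, 2647], [6, 0, 1880, 2612, 2647], [8, 0, 1883, 2612, 2647, 462], [10, 0, 2668, 1211, 2612, 2647, 466], [12, 0, 1887, 2612, 2647, 470], [6, 0, 2640, 1697, 2615, 2689, 1212], [10, 0, 1047, 2615, 2689, 1222], [14, 0, 2500, 2615, 2689, 1232], [4, 0, 1608, 2616, 842], [5, 0, 819, 2616], [6, 0, 816, 2616], [10, 0, 2682, 1664, 2616, 362], [3, 0, 2088, 2619, 1885, 2697], [10, 0, 2716, 2087, 2619, 1902], [9, 0,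 827, 2620], [10, 0, 824, 2620], [4, 0, 2702, 2640, 1719, 2623, 1894], [10, 0, 1717, 2623, 1918], [14, 0, 1141, 2625, 2698, 420], [3, 0, 2707, 1508, 2639, 578], [9, 0, 1691, 2641, 2703], [10, 0, 1688, 2641, 2703], [5, 0, 2642, 1742, 2717, 1247], [9, 0, 1267, 2644], [10, 0, 1264, 2644], [6, 0, 409, 2647, 2692], [14, 0, 1268, 2648], [7, 0, 2630, 2651], [8, 0, 2628, 2651], [11, 0, 2634, 2657], [12, 0, 2632, 2657], [11, 0, 1627, 2665], [12, 0, 1624, 2665], [5, 0, 1547, 2675], [7, 0, 2674, 1543, 2675], [9, 0, 1541, 2675], [10, 0, 1538, 2675], [11, 0, 1545, 2675], [5, 0, 1601, 2677], [9, 0, 1595, 2677], [10, 0, 1592, 2677], [11, 0, 1597, 2677], [8, 0, 1474, 2678], [12, 0, 1484, 2680], [3, 0, 456, 2690], [4, 0, 459, 2690], [8, 0, 1237, 2690, 820], [10, 0, 608, 2690, 2723], [9, 0, 469, 2698], [10, 0, 466, 2698], [3, 0, 1889, 2701], [3, 0, 1231, 2703], [11, 0, 1229, 2703], [12, 0, 1226, 2703]]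
def dJ7 : List (List ℕ) := [[9, 0, 1225, 2704], [10, 0, 1222, 2704], [14, 0, 1235, 2706, 2731, 1194], [5, 0, 1611, 2709], [6, 0, 1612, 2709], [14, 0, 1607, 2709, 1928], [14, 0, 1489, 2715, 372], [10, 0, 1905, 2718, 1248], [4, 0, 1894, 2724], [13, 0, 2725, 1896, 2724], [9, 0, 1921, 2726], [14, 0, 2727, 1922, 2726, 1738], [3, 0, 432, 2729, 2467], [10, 0, 1135, 2729, 2477], [4, 0, 1101, 2731, 579], [12, 0, 2828, 2499, 2731, 1190], [7, 0, 1257, 2737], [8, 0, 1258, 2737], [11, 0, 1255, 2737], [12, 0, 1252, 2737], [5, 0, 2694, 2742], [6, 0, 2692, 2742], [3, 0, 1239, 2785], [4, 0, 1240, 2785], [14, 0, 605, 2787, 980], [13, 0, 1197, 2804], [14, 0, 1194, 2804], [3, 0, 1933, 2810, 677], [10, 0, 1936, 2810, 2773], [13, 0, 1931, 2810], [14, 0, 1928, 2810], [4, 0, 1471, 2813, 992], [6, 0, 593, 2813, 998], [8, 0, 2857, 2776, 2813, 1002], [12, 0, 2778, 2813, 1010], [9, 0, 1251, 2814], [10, 0, 1248, 2814], [14, 0, 1738, 2822], [3, 0, 2467, 2824], [4, 0, 780, 2824], [6, 0, 2403, 2824, 434], [8, 0, 2410, 2824, 438],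 [12, 0, 1805, 2824, 446], [3, 0, 1137, 2827], [3, 0, 803, 2829], [6, 0, 2488, 2829, 1404], [8, 0, 1849, 2829, 1408], [9, 0, 801, 2829], [10, 0, 798, 2829], [3, 0, 1418, 2830, 578], [13, 0, 983, 2848], [14, 0, 980, 2848], [9, 0, 1009, 2855], [10, 0, 1006, 2855], [6, 0, 2769, 2856, 2162], [9, 0, 2771, 2856], [10, 0, 2773, 2856], [12, 0, 2775, 2856, 2174], [6, 0, 2759, 2863, 2144], [8, 0, 2862, 2761, 2863, 2148], [9, 0, 2763, 2863], [10, 0, 2765, 2863], [12, 0, 2767, 2863, 2154], [5, 0, 1001, 2864], [6, 0, 998, 2864], [4, 0, 2173, 2866, 995], [11, 0, 1013, 2868], [12, 0, 1010, 2868], [4, 0, 663, 2881, 1142], [3, 0, 664, 2881, 1144], [8, 0, 661, 2881, 1146], [10, 0, 1563, 2881, 1150], [12, 0, 1579, 2881, 1158], [14, 0, 2880, 859, 2881, 1166], [3, 0, 730, 2883], [4, 0, 733, 2883], [6, 0, 736, 2883, 1168], [10, 0, 2821, 2883, 1172], [12, 0, 1725, 2883, 1176], [14, 0, 2882, 2874, 2883, 1184], [3, 0, 1809, 2885], [4, 0, 2503, 2885], [10, 0, 2505, 2885, 1198], [5, 0, 1407, 2890], [6, 0, 1404, 2890], [4, 0,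 1852, 2893], [11, 0, 1417, 2899], [12, 0, 1414, 2899], [5, 0, 2165, 2908], [6, 0, 2162, 2908], [11, 0, 2177, 2914], [12, 0, 2174, 2914], [5, 0, 2147, 2916], [6, 0, 2144, 2916], [8, 0, 2148, 2918], [11, 0, 2157, 2924], [12, 0, 2154, 2924], [7, 0, 2169, 2931], [8, 0, 2166, 2931], [4, 0, 1142, 2936], [3, 0, 1144, 2938], [7, 0, 1149, 2940], [8, 0, 1146, 2940], [3, 0, 1569, 2943], [4, 0, 1570, 2943], [7, 0, 1567, 2943], [8, 0, 1572, 2943], [11, 0, 1575, 2943], [12, 0, 1576, 2943], [3, 0, 1583, 2945], [4, 0, 1588, 2945], [7, 0, 1585, 2945], [8, 0, 1586, 2945], [9, 0, 1581, 2945], [10, 0, 1590, 2945], [14, 0, 1166, 2946], [5, 0, 1171, 2952], [6, 0, 1168, 2952], [9, 0, 1175, 2954], [10, 0, 1172, 2954], [3, 0, 1729, 2957], [4, 0, 1734, 2957], [5, 0, 1731, 2957], [6, 0, 1732, 2957], [9, 0, 1727, 2957], [10, 0, 1736, 2957], [14, 0, 1184, 2958], [9, 0, 1201, 2964], [10, 0, 1198, 2964], [54, 7, 763, 2949, 3052, 2950, 881, 725, 765, 1750], [4, 0, 1750, 3058, 1748], [4, 0, 1748, 3060], [60, 7, 1535, 635, 2998, 3030,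 435, 2878, 299, 259, 2949, 3052, 3033, 331, 573, 1389], [54, 7, 3064, 1535, 2998, 3030, 3001, 709, 1644], [46, 1, 3066], [36, 3, 1761, 3062, 1763], [38, 3, 1765, 3062, 1767], [47, 3, 1925, 3038, 2948, 762, 3062, 1760], [13, 0, 1927, 3075], [14, 0, 1924, 3075], [55, 3, 2160, 993, 2929, 208, 73, 256, 762, 3062, 1752], [13, 0, 2161, 3081], [14, 0, 2158, 3081], [60, 10, 923, 904, 2978, 996, 3083, 1753, 3062, 763, 257, 75, 137, 437, 3001, 709, 1649], [6, 0, 1649, 3086, 2658], [4, 0, 2582, 3088, 1642], [3, 0, 2575, 3088, 1644], [5, 0, 2660, 3088], [6, 0, 2658, 3088], [8, 0, 945, 3088, 1650], [10, 0, 2579, 3088, 1654], [12, 0, 2662, 3088, 1658], [4, 0, 1642, 3090], [3, 0, 1644, 3092], [14, 0, 3068, 3092, 1310], [7, 0, 1653, 3098], [8, 0, 1650, 3098], [9, 0, 1657, 3100], [10, 0, 1654, 3100], [11, 0, 1661, 3102], [12, 0, 1658, 3102], [4, 0, 3065, 3109], [5, 0, 1389, 3109], [6, 0, 1386, 3109], [55, 2, 3124, 572, 187, 350, 2903, 217, 382, 1014, 2003], [3, 0, 2003, 3128], [3, 0, 2184, 3128, 3122], [9, 0, 2001,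 3128], [10, 0, 1998, 3128], [4, 0, 2182, 3133], [9, 0, 2187, 3133], [10, 0, 2188, 3133], [57, 3, 990, 978, 968, 2903, 514, 510, 1310, 3124, 1400], [12, 0, 1403, 3144, 2140], [11, 0, 2143, 3146], [12, 0, 2140, 3146], [40, 0, 1395, 3125, 3136, 1993], [5, 0, 1993, 3152], [6, 0, 1990, 3152], [42, 2, 2127, 3149, 3125], [24, 1, 3158], [38, 1, 2199, 3131, 3158], [58, 0, 3156, 925, 339, 149, 2382, 641, 647, 1301], [41, 2, 2006, 3157, 3165], [17, 1, 3166], [41, 1, 3154, 2004, 3168], [55, 2, 3168, 1300, 501, 170, 218, 2637, 550, 1368, 1965], [5, 0, 3169, 3173], [11, 0, 2007, 3173], [12, 0, 2004, 3173], [32, 3, 1967, 1963, 3178, 3135, 3158], [38, 2, 1965, 3178, 1982], [24, 1, 3182], [22, 1, 3180], [40, 1, 2135, 2129, 3180], [18, 1, 3188], [42, 2, 1953, 1969, 3188], [24, 1, 3192], [32, 1, 3164, 1395, 3150, 2137, 3192], [22, 1, 3196]]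
def dJ8 : List (List ℕ) := [[47, 5, 3123, 1312, 1295, 1292, 1301, 3198], [5, 0, 1955, 3200], [6, 0, 1952, 3200], [10, 0, 3198, 3200, 3140], [11, 0, 3192, 3200], [12, 0, 3195, 3200], [3, 0, 1984, 3206], [4, 0, 1978, 3206], [9, 0, 3142, 3206], [10, 0, 3140, 3206], [14, 0, 1981, 3206, 1300], [4, 0, 1970, 3221, 496], [10, 0, 1976, 3221, 1290], [14, 0, 913, 3223, 1278], [13, 0, 1975, 3225], [14, 0, 1972, 3225], [13, 0, 1281, 3226], [14, 0, 1278, 3226], [51, 1, 1706, 756, 288, 130, 112, 337, 3234, 478, 173, 201, 205, 417, 971, 2094], [13, 0, 2097, 3236], [14, 0, 2094, 3236], [53, 4, 1983, 926, 342, 3232, 478, 516, 1314], [59, 11, 1674, 722, 676, 672, 3232, 478, 170, 218, 2627, 2840, 144, 82, 254, 720, 1666], [5, 0, 1675, 3245], [6, 0, 1672, 3245], [11, 0, 1677, 3245], [12, 0, 1678, 3245], [38, 2, 1670, 3252, 1668], [55, 0, 1670, 3246, 722, 643, 644, 1298, 3214, 3157], [45, 1, 3256], [53, 7, 2100, 3256, 1669, 722, 676, 2858, 840, 1368], [3, 0, 2101, 3261], [3, 0, 2098, 3261, 1965], [10, 0, 2103, 3261, 1950],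 [3, 0, 1965, 3264], [6, 0, 3175, 3264, 2104], [10, 0, 1963, 3264, 1384], [12, 0, 3177, 3264, 2112], [3, 0, 1947, 3266, 1377], [9, 0, 1949, 3266], [10, 0, 1950, 3266], [5, 0, 2107, 3270], [6, 0, 2104, 3270], [4, 0, 1381, 3272], [9, 0, 1383, 3272], [10, 0, 1384, 3272], [11, 0, 2115, 3274], [12, 0, 2112, 3274], [4, 0, 1942, 3277], [26, 5, 3131, 3126, 3296, 3203, 3138, 2193], [6, 0, 2190, 3298], [34, 3, 1391, 3296, 1959], [38, 3, 2117, 3149, 3296, 1969], [3, 0, 2120, 3305], [4, 0, 2116, 3305], [51, 11, 3296, 3203, 3138, 1016, 908, 2976, 995, 2994, 2979, 909, 1017, 3139, 3204, 1959], [3, 0, 3303, 3310, 3296], [7, 0, 1393, 3313], [8, 0, 1390, 3313], [51, 10, 2195, 3131, 3126, 3296, 896, 328, 350, 401, 403, 728, 725, 765, 3063, 1755], [7, 0, 2197, 3319], [8, 0, 2194, 3319], [28, 5, 1755, 3322, 3300, 3321, 1753, 1759], [8, 0, 1756, 3324], [44, 3, 1765, 3326, 1767], [44, 0, 1967, 3316, 3150, 2133], [7, 0, 2133, 3330], [8, 0, 2130, 3330], [34, 2, 3307, 3334, 2118], [33, 3, 3287, 3314, 1376], [51, 2, 3287, 3314,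 3127, 3122, 1535, 636, 2446, 2423, 2949, 3033, 331, 570, 1376], [39, 2, 3281, 3340, 3278], [41, 2, 3185, 3342, 3183], [55, 8, 3258, 3263, 3342, 1370, 841, 2806, 3079, 3070], [57, 3, 1154, 2972, 576, 550, 552, 1368, 3342, 3183], [59, 11, 1154, 2853, 2783, 2713, 984, 3268, 3342, 1370, 546, 2710, 318, 80, 172, 516, 1314], [3, 0, 1314, 3350, 3008], [13, 0, 3243, 3350], [3, 0, 3008, 3352], [4, 0, 1366, 3352], [6, 0, 3353, 1359, 3352, 1316], [8, 0, 1357, 3352, 1322], [10, 0, 1361, 3352, 1326], [6, 0, 1316, 3360], [12, 0, 1320, 3360], [7, 0, 1325, 3362], [8, 0, 1322, 3362], [9, 0, 1329, 3364], [10, 0, 1326, 3364], [59, 6, 1552, 642, 252, 316, 2780, 2843, 424, 2886, 1156, 3354, 1983, 3157, 3256, 1669, 3249], [3, 0, 1670, 3378], [4, 0, 1666, 3378], [5, 0, 3247, 3378], [6, 0, 3249, 3378], [11, 0, 3251, 3378], [12, 0, 3253, 3378], [26, 4, 3381, 3386, 1668, 3347, 3070], [40, 2, 1753, 1763, 3392], [42, 0, 3392, 3254, 3347], [32, 3, 1765, 1763, 3396, 1761, 1767], [22, 1, 3394], [36, 1, 1685, 1668, 3394], [34, 2,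 3138, 3321, 3402], [60, 2, 2179, 2977, 909, 1017, 3300, 3131, 1311, 515, 217, 2671, 727, 725, 765, 1755, 3402], [13, 0, 2181, 3407], [14, 0, 2178, 3407], [20, 1, 3404], [26, 4, 2139, 3190, 3308, 2129, 3162], [36, 3, 3180, 3308, 2137], [16, 2, 2139, 3416, 3162], [3, 0, 3162, 3418], [6, 0, 3415, 3418], [11, 0, 2201, 3418], [12, 0, 2198, 3418], [26, 4, 3307, 3188, 3416, 2127, 2118], [32, 4, 2125, 3426, 1987, 3182, 3279], [24, 1, 3430], [44, 2, 1995, 3294, 2111], [24, 1, 3434], [57, 6, 1876, 2493, 700, 706, 3094, 2990, 3085, 1754, 1764], [13, 0, 1877, 3439], [14, 0, 1874, 3439], [49, 1, 1762, 3327, 1764, 3399, 3329, 3442, 2461, 761, 413, 355, 2722, 823, 1914], [50, 7, 1761, 1767, 3328, 3398, 3328, 3442, 2463, 754, 976, 968, 2720, 820, 1914], [30, 0, 3446, 1761, 3326, 1763, 3445], [34, 3, 3446, 3070, 3445], [44, 0, 3446, 3396, 3445], [49, 2, 1188, 2972, 2894, 2425, 765, 3326, 1763, 3396, 3445, 3448, 3446, 3076, 1912], [21, 1, 3454], [49, 12, 1217, 2850, 1186, 3456, 1910, 830, 2723, 354, 423, 2441, 2733,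 2798, 1219], [49, 4, 3456, 1910, 3077, 3445, 3448, 3452, 3446, 1761, 3326, 764, 2422, 2897, 1408], [32, 3, 2838, 2871, 1909, 3457, 3461], [36, 3, 3457, 1413, 3462], [22, 1, 3462], [40, 0, 3462, 1245, 2871, 1901], [5, 0, 1901, 3468], [6, 0, 1898, 3468], [26, 4, 1413, 3472, 2846, 1247, 3464], [51, 1, 2960, 2493, 1532, 1528, 644, 501, 519, 3356, 1157, 1189, 1413, 3472, 2846, 1260], [14, 0, 1263, 3476, 1202], [13, 0, 1205, 3478], [14, 0, 1202, 3478], [47, 0, 2845, 2870, 3482, 3055, 2481], [54, 3, 2845, 1917, 3450, 1915, 2846, 3482, 2962], [58, 3, 1123, 429, 127, 121, 423, 1097, 2482, 3486], [24, 1, 3488], [38, 1, 2838, 1221, 3488], [42, 3, 3488, 1123, 1133], [44, 1, 2798, 1219, 3488], [20, 1, 3496], [28, 3, 1127, 1125, 3496, 1213, 1219], [30, 0, 3496, 2734, 2442, 2475, 1109], [34, 3, 3496, 2816, 1911], [22, 1, 3502], [32, 0, 3502, 3490, 3458, 3488, 3506], [40, 3, 3502, 1123, 1117], [18, 1, 3510], [28, 0, 3510, 1107, 2472, 1109, 3512], [42, 0, 3510, 3508, 3512], [38, 2, 1131, 1112, 3516, 1114], [6, 0, 3495,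 3519], [11, 0, 1133, 3519], [12, 0, 1130, 3519], [42, 0, 3524, 1125, 3490, 3500], [5, 0, 3500, 3526], [7, 0, 1129, 3526], [8, 0, 1126, 3526], [38, 1, 3461, 2970, 3508], [26, 2, 3504, 1123, 1112, 3510, 3534], [51, 0, 1412, 3475, 3465, 2832, 2456, 2637, 577, 2888, 2472, 1109, 3534, 3536, 3504], [52, 13, 1412, 3475, 3465, 2832, 2456, 2637, 574, 2888, 2472, 1109, 3534, 3536, 3504], [50, 7, 2484, 1095, 2441, 2733, 3498, 3540, 1410, 2894, 2425, 750, 754, 976, 3241], [50, 12, 3240, 974, 760, 2460, 806, 2897, 1408, 3541, 3496, 2734, 1703, 3542, 2484], [42, 0, 3536, 1907, 3471], [0, 0], [45, 1, 3548], [0, 0], [0, 0], [16, 1, 3553, 3554], [0, 0], [17, 1, 3558], [0, 0], [19, 1, 3562], [0, 0], [21, 1, 3566], [0, 0], [23, 1, 3570], [0, 0], [45, 1, 3574], [0, 0], [45, 1, 3578], [0, 0], [45, 1, 3582], [0, 0], [45, 1, 3586], [57, 1, 3572, 1072, 416, 128, 134, 434, 1158, 3586], [59, 1, 3560, 1072, 1060, 1710, 3238, 970, 416, 428, 1110, 3528, 3487, 2963, 1164, 3586], [17, 1, 3590], [41, 3, 3590, 3572, 3558], [23, 1,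 3596]]
def dJ9 : List (List ℕ) := [[0, 0], [45, 1, 3600], [47, 1, 3568, 1071, 755, 3043, 3600], [48, 3, 3555, 1071, 971, 3051, 3600], [22, 1, 3606], [54, 1, 3553, 1071, 971, 3239, 3041, 3603, 3604], [46, 1, 3610], [0, 0], [45, 1, 3614], [0, 0], [45, 1, 3618], [0, 0], [19, 1, 3622], [29, 1, 1682, 1684, 3413, 3219, 3622], [33, 2, 1996, 3215, 3622], [21, 1, 3626], [0, 0], [19, 1, 3632], [27, 2, 3413, 3202, 3314, 3127, 3632], [33, 2, 3413, 3123, 3632], [15, 2, 3638, 3403], [35, 3, 3638, 1686, 3383], [47, 4, 3638, 3408, 996, 2920, 1553], [53, 0, 3638, 3408, 995, 374, 186, 570, 1376], [45, 1, 3646], [51, 2, 3638, 3413, 3202, 3286, 3649, 3638, 3637, 3633, 3122, 3204, 3286, 3646, 3638], [49, 1, 3642, 3634, 3161, 3187, 3332, 989, 371, 379, 2934, 2996, 2912, 3023, 3586], [30, 2, 1995, 3135, 3635, 3643, 3653], [22, 1, 3654], [36, 3, 3593, 3654, 3629, 3631], [4, 0, 3592, 3659], [5, 0, 3561, 3659], [6, 0, 3558, 3659], [11, 0, 3597, 3659], [12, 0, 3598, 3659], [44, 1, 3390, 1683, 3668], [28, 5, 3591, 3670, 3386,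 1683, 3664, 3565], [5, 0, 3595, 3673], [6, 0, 3590, 3673], [11, 0, 3573, 3673], [12, 0, 3570, 3673], [51, 8, 3676, 3670, 3382, 3385, 3382, 722, 676, 672, 336, 370, 978, 1057, 3551], [25, 5, 3682, 3674, 3661, 3662, 3552], [33, 3, 3682, 3564, 3552], [37, 3, 3682, 3678, 3552], [23, 1, 3688], [57, 1, 3688, 3550, 1710, 1702, 880, 726, 1052, 3548], [19, 1, 3686], [55, 1, 3556, 3684, 3550, 1061, 416, 428, 1112, 3513, 3574], [13, 0, 3577, 3696], [14, 0, 3574, 3696], [54, 4, 3683, 3549, 1061, 1073, 3554, 3700, 3534, 3617], [13, 0, 3617, 3702], [14, 0, 3614, 3702], [48, 3, 3682, 3706, 1413, 3467, 3618], [22, 1, 3708], [47, 5, 1746, 1707, 1704, 3551, 3710], [40, 3, 3631, 3664, 3569], [18, 1, 3714], [56, 8, 3716, 3605, 3601, 3046, 854, 1375, 3422, 3420], [46, 1, 3718], [58, 3, 1431, 581, 197, 181, 573, 3150, 2129, 3718], [24, 1, 3722], [32, 1, 3434, 3656, 3667, 3627, 3722], [38, 1, 3434, 3629, 3722], [42, 3, 3714, 3722, 1431, 1447], [3, 0, 3604, 3731], [5, 0, 3716, 3731], [6, 0, 3715, 3731], [9, 0, 3569, 3731],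 [10, 0, 3566, 3731], [13, 0, 3612, 3731], [14, 0, 3611, 3731], [44, 1, 3171, 3625, 3722], [20, 1, 3746], [28, 3, 1435, 1433, 3746, 3156, 1997], [30, 0, 3746, 1395, 3315, 3290, 2111], [51, 8, 1423, 1433, 3746, 3263, 3343, 3269, 986, 842, 2806, 2817, 3497, 1124, 1112, 3585], [13, 0, 3585, 3754], [14, 0, 3582, 3754], [47, 1, 1777, 1428, 3758, 1119, 1110, 3578], [13, 0, 3581, 3760], [14, 0, 3578, 3760], [56, 0, 1425, 3758, 3510, 2971, 3539, 1123, 1110, 3763], [18, 1, 3766], [26, 4, 1779, 3766, 1421, 1433, 3728], [18, 1, 3770], [28, 2, 3736, 3623, 3284, 2111, 3770], [20, 1, 3774], [30, 4, 1435, 1441, 3774, 3740, 3565], [34, 1, 1789, 1443, 3774], [44, 0, 3774, 1445, 1437], [24, 1, 3782], [32, 1, 3680, 3739, 1445, 1441, 3784], [38, 1, 1793, 1443, 3784], [42, 1, 3436, 3770, 3784], [51, 8, 3789, 3790, 1995, 1982, 3345, 3213, 1300, 496, 480, 342, 888, 3047, 3042, 1747], [3, 0, 3788, 3793], [11, 0, 1795, 3793], [12, 0, 1792, 3793], [58, 2, 1639, 699, 2446, 299, 285, 757, 1747, 3798, 1787], [5, 0, 1787, 3800],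 [6, 0, 1784, 3800], [37, 3, 3712, 3796, 1776], [23, 1, 3806], [37, 0, 3808, 1778, 3783], [25, 1, 3781, 3734, 3628, 3791, 3810], [33, 1, 1423, 1434, 3810], [19, 1, 3814], [29, 3, 3686, 3709, 3814, 1426, 1788], [21, 1, 3818], [31, 5, 3818, 3688, 3709, 3808, 1780], [35, 0, 3818, 3557, 3607], [33, 3, 3824, 1790, 1776], [47, 0, 3504, 3503, 3699, 3608, 3824], [48, 5, 3504, 3503, 3701, 3608, 3824], [59, 2, 3620, 3493, 1124, 430, 204, 568, 1372, 3420, 2128, 990, 890, 3047, 3600, 3824], [51, 10, 3713, 3833, 3825, 3602, 3040, 1708, 1056, 974, 416, 289, 779, 1776, 3766], [20, 1, 3834], [49, 10, 3827, 1783, 3834, 1746, 2460, 3054, 1182, 1178, 3039, 1912, 3829, 1789, 1427], [24, 1, 3838], [38, 2, 3825, 3840, 1424], [44, 3, 3840, 3815, 3807], [58, 8, 3842, 3813, 3619, 2838, 1247, 3621, 3807, 3766], [47, 0, 1779, 1780, 3846, 1781, 1778], [56, 8, 1431, 1420, 3846, 3768, 1778, 3849, 3772, 3729], [0, 0], [19, 1, 3852], [29, 1, 3854, 3281, 3338, 3278, 3852], [33, 2, 2110, 3268, 3852], [15, 2, 3858, 3729], [0, 0], [19,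 1, 3862], [29, 1, 3864, 2124, 3337, 2122, 3862], [43, 1, 3320, 3427, 3862], [51, 5, 3072, 3442, 2481, 2482, 3544, 3041, 3046, 891, 988, 3309, 3191, 2138, 3862], [28, 3, 3328, 3871, 3863, 3422, 3865], [41, 3, 3870, 1766, 1752], [0, 0], [17, 1, 3876], [25, 2, 3802, 1776, 3769, 1425, 3876], [27, 1, 3802, 1788, 3832, 3814, 3876], [39, 1, 3802, 1428, 3876], [55, 3, 3416, 2128, 990, 561, 562, 580, 1422, 3876], [45, 1, 3886], [21, 1, 3884], [19, 1, 3882], [0, 0], [45, 1, 3894], [49, 1, 3607, 3845, 3806, 3711, 3694, 3743, 3776, 1439, 1447, 3776, 1439, 1437, 3894], [50, 7, 3608, 3840, 3815, 3708, 3687, 3743, 3775, 1440, 1434, 3785, 1440, 1434, 3894], [53, 1, 3550, 1056, 3241, 1706, 1744, 3794, 3894], [15, 2, 3902, 3682], [35, 3, 3902, 3709, 3712], [37, 3, 3902, 3690, 3557], [47, 4, 3902, 3550, 1061, 760, 1747], [23, 1, 3908], [0, 0], [45, 1, 3914], [47, 1, 3655, 3587, 3028, 1532, 3914], [49, 1, 1986, 3323, 3874, 3866, 3864, 1373, 567, 917, 2992, 2988, 2922, 1529, 3914], [50, 7, 1989, 3425, 3865, 3867, 3863,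 1373, 564, 914, 918, 2990, 2920, 1530, 3914], [51, 1, 3737, 3732, 3845, 3769, 1421, 581, 294, 757, 2462, 2961, 1163, 3020, 3914], [37, 3, 3924, 3725, 3860], [23, 1, 3926], [0, 0], [15, 1, 3880, 3930], [25, 1, 3858, 3773, 1442, 3805, 3930], [33, 1, 3932, 3882, 3930], [35, 1, 3932, 3884, 3930], [47, 0, 3308, 2134, 3887, 3891, 3930], [48, 5, 3308, 2134, 3888, 3891, 3930], [51, 9, 3853, 3269, 3283, 3214, 926, 342, 674, 670, 1530, 1526, 1533, 1641, 3930], [0, 0], [23, 1, 3946], [41, 2, 3796, 3805, 3946], [57, 3, 3870, 1766, 764, 258, 282, 776, 3805, 3946], [45, 1, 3952], [17, 1, 3950], [0, 0], [19, 1, 3958], [29, 1, 3920, 1986, 3323, 3395, 3958], [33, 2, 3652, 3380, 3958], [43, 1, 3960, 3255, 3958], [31, 0, 3966, 3962, 3928, 3856, 3926], [37, 0, 3966, 3964, 3669], [47, 0, 3307, 3181, 3718, 3631, 3970], [48, 5, 3307, 3181, 3721, 3631, 3970], [0, 0], [45, 1, 3976], [57, 1, 3453, 1916, 3473, 3460, 3707, 3674, 3669, 3976], [17, 1, 3980], [39, 3, 3980, 3449, 3982], [41, 3, 3980, 3453, 3982], [51, 1, 3980, 3451,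 3444, 3346, 3381, 1551, 642, 255, 291, 295, 563, 855, 1938], [0, 0], [23, 1, 3990], [43, 2, 3211, 3405, 3990], [19, 1, 3994], [33, 0, 3994, 2138, 3862]]
def dJ10 : List (List ℕ) := [[0, 0], [16, 1, 3989, 4000], [47, 2, 1939, 893, 890, 1938, 4000], [54, 1, 3629, 3720, 3421, 1373, 855, 1941, 4000], [55, 2, 1940, 891, 978, 3241, 3041, 3044, 1938, 4000], [17, 1, 4008], [55, 3, 3629, 3737, 3742, 3553, 3665, 3976, 3989, 4010], [57, 2, 1940, 3047, 1178, 3053, 3035, 848, 1938, 4010], [23, 1, 4014], [48, 1, 4012, 3656, 3661, 3979, 3989], [0, 0], [19, 1, 4020], [0, 0], [45, 1, 4024], [59, 1, 3950, 1746, 3043, 3044, 1938, 3988, 3980, 1916, 2844, 3521, 3765, 1778, 3771, 4024], [25, 5, 4028, 3950, 3794, 3751, 3919], [37, 3, 4028, 3948, 3930], [56, 0, 4028, 3955, 3872, 3073, 3442, 2491, 1532, 3917], [28, 2, 4031, 3922, 3345, 3921, 4034], [44, 0, 4036, 4033, 3937], [0, 0], [19, 1, 4040], [27, 2, 3994, 3189, 3332, 2126, 4040], [29, 1, 3994, 2136, 3335, 3181, 4040], [33, 2, 3864, 3420, 4040], [43, 1, 3634, 3161, 4040],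 [49, 9, 3991, 3404, 3217, 3625, 3719, 4040, 4046, 3994, 3211, 3219, 3622, 3720, 4043], [49, 7, 4041, 3180, 1967, 3316, 1397, 3748, 3851, 3749, 1396, 3317, 1966, 3181, 4040], [58, 3, 3651, 3410, 2981, 2978, 3409, 3993, 4045, 4054], [60, 3, 3999, 3953, 3957, 3713, 3619, 1245, 1221, 3485, 2482, 2480, 3441, 3871, 4049, 4054], [37, 0, 4050, 3638, 3990], [0, 0], [17, 1, 4062], [55, 3, 3861, 1432, 582, 205, 418, 1070, 3554, 4062], [45, 1, 4066], [0, 0], [17, 1, 4070], [25, 2, 4035, 3924, 3737, 3732, 4070], [27, 1, 3950, 3835, 3767, 3826, 4070], [39, 1, 4064, 3607, 4070], [41, 1, 3878, 3841, 4070], [51, 6, 3955, 3998, 4045, 4041, 3421, 3422, 2139, 3888, 3880, 3802, 1776, 3826, 4070], [23, 1, 4080], [43, 0, 4080, 3882, 3946], [51, 10, 4021, 4000, 4011, 4000, 4012, 3919, 4030, 4028, 4086, 4072, 3733, 3744, 3557, 4065], [5, 0, 4065, 4088], [6, 0, 4062, 4088], [10, 0, 4078, 4088], [13, 0, 4067, 4088], [14, 0, 4068, 4088], [22, 1, 4094], [0, 0], [17, 1, 4102], [27, 1, 4008, 4020, 4090, 3901, 4102], [39, 1, 3950,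 3906, 4102], [41, 1, 4090, 3908, 4102], [51, 6, 4098, 3858, 3770, 3774, 3780, 3813, 3811, 3894, 3902, 3692, 3557, 3901, 4102], [55, 3, 4082, 3950, 1746, 1707, 1708, 3548, 3903, 4102], [45, 1, 4114], [47, 2, 4117, 4100, 4113, 4114, 4082], [57, 8, 4114, 4072, 3839, 3756, 3513, 3509, 3701, 4093], [49, 8, 4019, 4015, 4107, 4119, 4077, 4116, 4106, 4004, 4020, 4120, 4108, 4086, 4115], [0, 0], [17, 1, 4124], [25, 2, 4090, 3555, 3665, 3970, 4124], [27, 1, 3980, 3444, 3346, 3958, 4124], [39, 1, 4035, 3968, 4124], [41, 1, 4126, 3966, 4124], [51, 10, 3989, 4009, 4002, 3978, 3970, 4124, 4128, 4022, 4010, 4002, 3977, 3970, 4127], [51, 6, 4117, 4074, 4031, 3922, 3213, 3284, 1399, 3256, 1669, 3387, 3380, 3958, 4124], [55, 3, 3999, 3870, 3440, 2961, 1164, 3586, 3965, 4124], [59, 6, 4128, 4090, 3698, 2971, 3470, 1914, 3451, 3982, 3978, 3970, 4124, 4140, 4060, 4044], [48, 3, 4028, 3955, 4049, 4046, 4142]]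
def dJS : List (List ℕ) := List.flatten [dJ0, dJ1, dJ2, dJ3, dJ4, dJ5, dJ6, dJ7, dJ8, dJ9, dJ10]
def dLive_0 : BT := .node (.node (.node (.node (.node (.node (.node (.leaf 0) (.leaf 270)) (.leaf 83)) (.node (.node (.leaf 36) (.leaf 411)) (.leaf 156))) (.node (.node (.node (.leaf 18) (.leaf 345)) (.leaf 122)) (.node (.leaf 55) (.leaf 218)))) (.node (.node (.node (.node (.leaf 8) (.leaf 305)) (.leaf 110)) (.node (.node (.leaf 47) (.leaf 419)) (.leaf 181))) (.node (.node (.node (.leaf 27) (.leaf 396)) (.leaf 141)) (.node (.leaf 69) (.leaf 246))))) (.node (.node (.node (.node (.node (.leaf 4) (.leaf 293)) (.leaf 92)) (.node (.node (.leaf 40) (.leaf 415)) (.leaf 176))) (.node (.node (.node (.leaf 23) (.leaf 374)) (.leaf 136)) (.node (.leaf 64) (.leaf 236)))) (.node (.node (.node (.node (.leaf 13) (.leaf 330)) (.leaf 115)) (.node (.node (.leaf 51) (.leaf 423)) (.leaf 196))) (.node (.node (.node (.leaf 32) (.leaf 407)) (.leaf 151)) (.node (.leaf 77) (.leaf 250)))))) (.node (.node (.node (.node (.node (.node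 (.leaf 2) (.leaf 290)) (.leaf 90)) (.node (.node (.leaf 38) (.leaf 413)) (.leaf 168))) (.node (.node (.node (.leaf 21) (.leaf 370)) (.leaf 130)) (.node (.leaf 62) (.leaf 222)))) (.node (.node (.node (.node (.leaf 11) (.leaf 308)) (.leaf 113)) (.node (.node (.leaf 49) (.leaf 421)) (.leaf 190))) (.node (.node (.node (.leaf 30) (.leaf 404)) (.leaf 144)) (.node (.leaf 72) (.leaf 248))))) (.node (.node (.node (.node (.node (.leaf 6) (.leaf 300)) (.leaf 106)) (.node (.node (.leaf 43) (.leaf 417)) (.leaf 179))) (.node (.node (.node (.leaf 25) (.leaf 394)) (.leaf 139)) (.node (.leaf 67) (.leaf 241)))) (.node (.node (.node (.node (.leaf 16) (.leaf 335)) (.leaf 118)) (.node (.node (.leaf 53) (.leaf 426)) (.leaf 203))) (.node (.node (.node (.leaf 34) (.leaf 409)) (.leaf 154)) (.node (.leaf 80) (.leaf 267))))))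
def dLive_1 : BT := .node (.node (.node (.node (.node (.node (.node (.leaf 1) (.leaf 281)) (.leaf 89)) (.node (.node (.leaf 37) (.leaf 412)) (.leaf 161))) (.node (.node (.node (.leaf 20) (.leaf 347)) (.leaf 124)) (.node (.leaf 60) (.leaf 219)))) (.node (.node (.node (.node (.leaf 9) (.leaf 306)) (.leaf 111)) (.node (.node (.leaf 48) (.leaf 420)) (.leaf 189))) (.node (.node (.node (.leaf 28) (.leaf 398)) (.leaf 143)) (.node (.leaf 70) (.leaf 247))))) (.node (.node (.node (.node (.node (.leaf 5) (.leaf 295)) (.leaf 93)) (.node (.node (.leaf 42) (.leaf 416)) (.leaf 178))) (.node (.node (.node (.leaf 24) (.leaf 376)) (.leaf 138)) (.node (.leaf 65) (.leaf 237)))) (.node (.node (.node (.node (.leaf 15) (.leaf 331)) (.leaf 117)) (.node (.node (.leaf 52) (.leaf 425)) (.leaf 202))) (.node (.node (.node (.leaf 33) (.leaf 408)) (.leaf 153)) (.node (.leaf 78) (.leaf 251)))))) (.node (.node (.node (.node (.node (.node (.leaf 3) (.leaf 292)) (.leaf 91)) (.node (.node (.leaf 39) (.leaf 414)) (.leaf 171))) (.node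 (.node (.node (.leaf 22) (.leaf 373)) (.leaf 134)) (.node (.leaf 63) (.leaf 235)))) (.node (.node (.node (.node (.leaf 12) (.leaf 310)) (.leaf 114)) (.node (.node (.leaf 50) (.leaf 422)) (.leaf 194))) (.node (.node (.node (.leaf 31) (.leaf 405)) (.leaf 145)) (.node (.leaf 75) (.leaf 249))))) (.node (.node (.node (.node (.node (.leaf 7) (.leaf 303)) (.leaf 107)) (.node (.node (.leaf 45) (.leaf 418)) (.leaf 180))) (.node (.node (.node (.leaf 26) (.leaf 395)) (.leaf 140)) (.node (.leaf 68) (.leaf 244)))) (.node (.node (.node (.node (.leaf 17) (.leaf 341)) (.leaf 121)) (.node (.node (.leaf 54) (.leaf 427)) (.leaf 209))) (.node (.node (.node (.leaf 35) (.leaf 410)) (.leaf 155)) (.node (.leaf 82) (.leaf 268))))))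
def dLive_2 : BT := .node dLive_0 dLive_1
def dLive : BT := dLive_2
def dPos_0 : BT := .node (.node (.node (.node (.node (.node (.node (.leaf 0) (.leaf 0)) (.node (.leaf 0) (.leaf 0))) (.node (.node (.leaf 52) (.leaf 0)) (.leaf 0))) (.node (.node (.node (.leaf 28) (.leaf 0)) (.node (.leaf 0) (.leaf 165))) (.node (.node (.leaf 0) (.leaf 0)) (.leaf 0)))) (.node (.node (.node (.node (.leaf 14) (.leaf 0)) (.node (.leaf 90) (.leaf 0))) (.node (.node (.leaf 62) (.leaf 0)) (.leaf 0))) (.node (.node (.node (.leaf 41) (.leaf 0)) (.leaf 100)) (.node (.node (.leaf 0) (.leaf 0)) (.leaf 0))))) (.node (.node (.node (.node (.node (.leaf 8) (.leaf 0)) (.node (.leaf 84) (.leaf 0))) (.node (.node (.leaf 58) (.leaf 0)) (.leaf 0))) (.node (.node (.node (.leaf 36) (.leaf 0)) (.node (.leaf 98) (.leaf 0))) (.node (.node (.leaf 0) (.leaf 0)) (.leaf 0)))) (.node (.node (.node (.node (.leaf 21) (.leaf 0)) (.node (.leaf 0) (.leaf 157))) (.node (.node (.leaf 0) (.leaf 0)) (.leaf 0))) (.node (.node (.node (.leaf 0) (.leaf 0))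 (.leaf 0)) (.node (.node (.leaf 0) (.leaf 149)) (.leaf 122)))))) (.node (.node (.node (.node (.node (.node (.leaf 4) (.leaf 0)) (.node (.leaf 0) (.leaf 0))) (.node (.node (.leaf 55) (.leaf 0)) (.leaf 108))) (.node (.node (.node (.leaf 32) (.leaf 131)) (.node (.leaf 0) (.leaf 169))) (.node (.node (.leaf 0) (.leaf 0)) (.leaf 0)))) (.node (.node (.node (.node (.leaf 17) (.leaf 0)) (.node (.leaf 0) (.leaf 154))) (.node (.node (.leaf 0) (.leaf 0)) (.leaf 0))) (.node (.node (.node (.leaf 45) (.leaf 138)) (.leaf 103)) (.node (.node (.leaf 0) (.leaf 0)) (.leaf 119))))) (.node (.node (.node (.node (.node (.leaf 11) (.leaf 127)) (.node (.leaf 87) (.leaf 152))) (.node (.node (.leaf 0) (.leaf 0)) (.leaf 0))) (.node (.node (.node (.leaf 0) (.leaf 134)) (.leaf 0)) (.node (.node (.leaf 0) (.leaf 0)) (.leaf 116)))) (.node (.node (.node (.node (.leaf 25) (.leaf 0)) (.node (.leaf 96) (.leaf 161))) (.node (.node (.leaf 68) (.leaf 0)) (.leaf 0))) (.node (.node (.node (.leaf 49) (.leaf 0)) (.leaf 0)) (.node (.node (.leaf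 81) (.leaf 0)) (.leaf 0))))))
def dPos_1 : BT := .node (.node (.node (.node (.node (.node (.node (.leaf 2) (.leaf 0)) (.node (.leaf 82) (.leaf 0))) (.node (.node (.leaf 0) (.leaf 0)) (.leaf 107))) (.node (.node (.node (.leaf 30) (.leaf 130)) (.node (.leaf 0) (.leaf 167))) (.node (.node (.leaf 0) (.leaf 0)) (.leaf 0)))) (.node (.node (.node (.node (.leaf 16) (.leaf 0)) (.node (.leaf 0) (.leaf 0))) (.node (.node (.leaf 63) (.leaf 0)) (.leaf 0))) (.node (.node (.node (.leaf 43) (.leaf 137)) (.leaf 101)) (.node (.node (.leaf 75) (.leaf 146)) (.leaf 0))))) (.node (.node (.node (.node (.node (.leaf 0) (.leaf 0)) (.node (.leaf 85) (.leaf 150))) (.node (.node (.leaf 0) (.leaf 140)) (.leaf 109))) (.node (.node (.node (.leaf 37) (.leaf 0)) (.node (.leaf 0) (.leaf 174))) (.node (.node (.leaf 70) (.leaf 0)) (.leaf 0)))) (.node (.node (.node (.node (.leaf 23) (.leaf 0)) (.node (.leaf 94) (.leaf 159))) (.node (.node (.leaf 66) (.leaf 0)) (.leaf 112))) (.node (.node (.node (.leaf 0) (.leaf 0)) (.leaf 0)) (.node (.node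 (.leaf 80) (.leaf 0)) (.leaf 124)))))) (.node (.node (.node (.node (.node (.node (.leaf 6) (.leaf 0)) (.node (.leaf 83) (.leaf 0))) (.node (.node (.leaf 57) (.leaf 0)) (.leaf 0))) (.node (.node (.node (.leaf 34) (.leaf 0)) (.node (.leaf 0) (.leaf 171))) (.node (.node (.leaf 0) (.leaf 0)) (.leaf 0)))) (.node (.node (.node (.node (.leaf 19) (.leaf 0)) (.node (.leaf 0) (.leaf 0))) (.node (.node (.leaf 0) (.leaf 0)) (.leaf 0))) (.node (.node (.node (.leaf 47) (.leaf 139)) (.leaf 0)) (.node (.node (.leaf 78) (.leaf 148)) (.leaf 120))))) (.node (.node (.node (.node (.node (.leaf 0) (.leaf 128)) (.node (.leaf 0) (.leaf 153))) (.node (.node (.leaf 61) (.leaf 0)) (.leaf 0))) (.node (.node (.node (.leaf 0) (.leaf 0)) (.leaf 0)) (.node (.node (.leaf 72) (.leaf 0)) (.leaf 0)))) (.node (.node (.node (.node (.leaf 26) (.leaf 0)) (.node (.leaf 0) (.leaf 163))) (.node (.node (.leaf 0) (.leaf 0)) (.leaf 114))) (.node (.node (.node (.leaf 50) (.leaf 0)) (.leaf 106)) (.node (.node (.leaf 0) (.leaf 0)) (.leaf 0))))))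
def dPos_2 : BT := .node dPos_0 dPos_1
def dPos_3 : BT := .node (.node (.node (.node (.node (.node (.node (.leaf 1) (.leaf 0)) (.node (.leaf 0) (.leaf 0))) (.node (.node (.leaf 53) (.leaf 0)) (.leaf 0))) (.node (.node (.node (.leaf 29) (.leaf 0)) (.node (.leaf 97) (.leaf 166))) (.node (.node (.leaf 0) (.leaf 0)) (.leaf 0)))) (.node (.node (.node (.node (.leaf 15) (.leaf 0)) (.node (.leaf 91) (.leaf 0))) (.node (.node (.leaf 0) (.leaf 0)) (.leaf 111))) (.node (.node (.node (.leaf 42) (.leaf 136)) (.leaf 0)) (.node (.node (.leaf 74) (.leaf 0)) (.leaf 118))))) (.node (.node (.node (.node (.node (.leaf 9) (.leaf 0)) (.node (.leaf 0) (.leaf 0))) (.node (.node (.leaf 0) (.leaf 0)) (.leaf 0))) (.node (.node (.node (.leaf 0) (.leaf 0)) (.node (.leaf 0) (.leaf 173))) (.node (.node (.leaf 0) (.leaf 0)) (.leaf 0)))) (.node (.node (.node (.node (.leaf 22) (.leaf 129)) (.node (.leaf 93) (.leaf 158))) (.node (.node (.leaf 65) (.leaf 144)) (.leaf 0))) (.node (.node (.node (.leaf 0) (.leaf 0)) (.leaf 0)) (.node (.node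 (.leaf 79) (.leaf 0)) (.leaf 123)))))) (.node (.node (.node (.node (.node (.node (.leaf 5) (.leaf 0)) (.node (.leaf 0) (.leaf 0))) (.node (.node (.leaf 56) (.leaf 0)) (.leaf 0))) (.node (.node (.node (.leaf 33) (.leaf 132)) (.node (.leaf 0) (.leaf 170))) (.node (.node (.leaf 0) (.leaf 0)) (.leaf 0)))) (.node (.node (.node (.node (.leaf 18) (.leaf 0)) (.node (.leaf 0) (.leaf 155))) (.node (.node (.leaf 0) (.leaf 143)) (.leaf 0))) (.node (.node (.node (.leaf 46) (.leaf 0)) (.leaf 104)) (.node (.node (.leaf 77) (.leaf 147)) (.leaf 0))))) (.node (.node (.node (.node (.node (.leaf 12) (.leaf 0)) (.node (.leaf 88) (.leaf 0))) (.node (.node (.leaf 60) (.leaf 0)) (.leaf 0))) (.node (.node (.node (.leaf 39) (.leaf 0)) (.leaf 0)) (.node (.node (.leaf 0) (.leaf 0)) (.leaf 117)))) (.node (.node (.node (.node (.leaf 0) (.leaf 0)) (.node (.leaf 0) (.leaf 162))) (.node (.node (.leaf 69) (.leaf 0)) (.leaf 0))) (.node (.node (.node (.leaf 0) (.leaf 0)) (.leaf 105)) (.node (.node (.leaf 0) (.leaf 0)) (.leaf 0))))))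
def dPos_4 : BT := .node (.node (.node (.node (.node (.node (.node (.leaf 3) (.leaf 0)) (.node (.leaf 0) (.leaf 0))) (.node (.node (.leaf 54) (.leaf 0)) (.leaf 0))) (.node (.node (.node (.leaf 31) (.leaf 0)) (.node (.leaf 0) (.leaf 168))) (.node (.node (.leaf 0) (.leaf 0)) (.leaf 0)))) (.node (.node (.node (.node (.leaf 0) (.leaf 0)) (.node (.leaf 0) (.leaf 0))) (.node (.node (.leaf 64) (.leaf 0)) (.leaf 0))) (.node (.node (.node (.leaf 44) (.leaf 0)) (.leaf 102)) (.node (.node (.leaf 76) (.leaf 0)) (.leaf 0))))) (.node (.node (.node (.node (.node (.leaf 10) (.leaf 126)) (.node (.leaf 86) (.leaf 151))) (.node (.node (.leaf 59) (.leaf 141)) (.leaf 110))) (.node (.node (.node (.leaf 38) (.leaf 0)) (.node (.leaf 99) (.leaf 175))) (.node (.node (.leaf 71) (.leaf 0)) (.leaf 115)))) (.node (.node (.node (.node (.leaf 24) (.leaf 0)) (.node (.leaf 95) (.leaf 160))) (.node (.node (.leaf 67) (.leaf 145)) (.leaf 113))) (.node (.node (.node (.leaf 0) (.leaf 0)) (.leaf 0)) (.node (.node (.leaf 0) (.leaf 0)) (.leaf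 125)))))) (.node (.node (.node (.node (.node (.node (.leaf 7) (.leaf 0)) (.node (.leaf 0) (.leaf 0))) (.node (.node (.leaf 0) (.leaf 0)) (.leaf 0))) (.node (.node (.node (.leaf 35) (.leaf 133)) (.node (.leaf 0) (.leaf 172))) (.node (.node (.leaf 0) (.leaf 0)) (.leaf 0)))) (.node (.node (.node (.node (.leaf 20) (.leaf 0)) (.node (.leaf 92) (.leaf 156))) (.node (.node (.leaf 0) (.leaf 0)) (.leaf 0))) (.node (.node (.node (.leaf 48) (.leaf 0)) (.leaf 0)) (.node (.node (.leaf 0) (.leaf 0)) (.leaf 121))))) (.node (.node (.node (.node (.node (.leaf 13) (.leaf 0)) (.node (.leaf 89) (.leaf 0))) (.node (.node (.leaf 0) (.leaf 142)) (.leaf 0))) (.node (.node (.node (.leaf 40) (.leaf 135)) (.leaf 0)) (.node (.node (.leaf 73) (.leaf 0)) (.leaf 0)))) (.node (.node (.node (.node (.leaf 27) (.leaf 0)) (.node (.leaf 0) (.leaf 164))) (.node (.node (.leaf 0) (.leaf 0)) (.leaf 0))) (.node (.node (.node (.leaf 51) (.leaf 0)) (.leaf 0)) (.node (.node (.leaf 0) (.leaf 0)) (.leaf 0))))))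
def dPos_5 : BT := .node dPos_3 dPos_4
def dPos_6 : BT := .node dPos_2 dPos_5
def dPos : BT := dPos_6
def dFin_0 : BT := .node (.node (.node (.node (.node (.node (.node (.leaf 0) (.leaf 4120)) (.leaf 3013)) (.node (.leaf 340) (.leaf 3380))) (.node (.node (.leaf 2605) (.leaf 1160)) (.node (.leaf 3356) (.leaf 3996)))) (.node (.node (.node (.leaf 248) (.leaf 995)) (.node (.leaf 3533) (.leaf 3806))) (.node (.node (.leaf 235) (.leaf 3338)) (.node (.leaf 3017) (.leaf 3998))))) (.node (.node (.node (.node (.leaf 32) (.leaf 3292)) (.node (.leaf 908) (.leaf 3545))) (.node (.node (.leaf 554) (.leaf 1294)) (.node (.leaf 1434) (.leaf 3669)))) (.node (.node (.node (.leaf 344) (.leaf 1108)) (.node (.leaf 2799) (.leaf 1983))) (.node (.node (.leaf 290) (.leaf 3723)) (.node (.leaf 3063) (.leaf 4086)))))) (.node (.node (.node (.node (.node (.node (.leaf 50) (.leaf 4076)) (.leaf 922)) (.node (.leaf 696) (.leaf 3255))) (.node (.node (.leaf 157) (.leaf 3497)) (.node (.leaf 556) (.leaf 3555)))) (.node (.node (.node (.leaf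 324) (.leaf 1054)) (.node (.leaf 579) (.leaf 3444))) (.node (.node (.leaf 698) (.leaf 1425)) (.node (.leaf 1680) (.leaf 3912))))) (.node (.node (.node (.node (.leaf 48) (.leaf 2108)) (.node (.leaf 414) (.leaf 3071))) (.node (.node (.leaf 2602) (.leaf 3161)) (.node (.leaf 670) (.leaf 3624)))) (.node (.node (.node (.leaf 2753) (.leaf 3505)) (.node (.leaf 482) (.leaf 3437))) (.node (.node (.leaf 328) (.leaf 3775)) (.node (.leaf 806) (.leaf 4060))))))
def dFin_1 : BT := .node (.node (.node (.node (.node (.node (.node (.leaf 30) (.leaf 4048)) (.leaf 850)) (.node (.leaf 401) (.leaf 3892))) (.node (.node (.leaf 470) (.leaf 3535)) (.node (.leaf 3370) (.leaf 3690)))) (.node (.node (.node (.leaf 80) (.leaf 3323)) (.node (.leaf 1158) (.leaf 3465))) (.node (.node (.leaf 3002) (.leaf 3165)) (.node (.leaf 3105) (.leaf 3882))))) (.node (.node (.node (.node (.leaf 36) (.leaf 970)) (.node (.leaf 403) (.leaf 3796))) (.node (.node (.leaf 294) (.leaf 3622)) (.node (.leaf 1520) (.leaf 3712)))) (.node (.node (.node (.leaf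 356) (.leaf 3522)) (.node (.leaf 2792) (.leaf 1996))) (.node (.node (.leaf 804) (.leaf 1442)) (.node (.leaf 1788) (.leaf 3966)))))) (.node (.node (.node (.node (.node (.node (.leaf 90) (.leaf 4110)) (.leaf 918)) (.node (.leaf 366) (.leaf 3403))) (.node (.node (.leaf 484) (.leaf 3491)) (.node (.leaf 2888) (.leaf 3564)))) (.node (.node (.node (.leaf 338) (.leaf 2963)) (.node (.leaf 1182) (.leaf 4016))) (.node (.node (.leaf 724) (.leaf 3816)) (.node (.leaf 1700) (.leaf 3932))))) (.node (.node (.node (.node (.leaf 202) (.leaf 3151)) (.node (.leaf 2886) (.leaf 3329))) (.node (.node (.leaf 214) (.leaf 3420)) (.node (.leaf 2587) (.leaf 4057)))) (.node (.node (.node (.leaf 2876) (.leaf 3010)) (.node (.leaf 494) (.leaf 3417))) (.node (.node (.leaf 888) (.leaf 1522)) (.node (.leaf 2817) (.leaf 4123))))))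
def dFin_2 : BT := .node dFin_0 dFin_1
def dFin_3 : BT := .node (.node (.node (.node (.node (.node (.node (.leaf 8) (.leaf 4037)) (.leaf 854)) (.node (.leaf 3110) (.leaf 3388))) (.node (.node (.leaf 454) (.leaf 1180)) (.node (.leaf 3369) (.leaf 3682)))) (.node (.node (.node (.leaf 70) (.leaf 2983)) (.node (.leaf 2999) (.leaf 1790))) (.node (.node (.leaf 638) (.leaf 1398)) (.node (.leaf 702) (.leaf 3868))))) (.node (.node (.node (.node (.leaf 82) (.leaf 2588)) (.node (.leaf 2932) (.leaf 3794))) (.node (.node (.leaf 192) (.leaf 3118)) (.node (.leaf 636) (.leaf 3845)))) (.node (.node (.node (.leaf 106) (.leaf 1115)) (.node (.leaf 464) (.leaf 3185))) (.node (.node (.leaf 2879) (.leaf 1436)) (.node (.leaf 1764) (.leaf 3964)))))) (.node (.node (.node (.node (.node (.node (.leaf 68) (.leaf 4139)) (.leaf 2980)) (.node (.leaf 890) (.leaf 1682))) (.node (.node (.leaf 492) (.leaf 1220)) (.node (.leaf 3317) (.leaf 3908)))) (.node (.node (.node (.leaf 97) (.leaf 3562)) (.node (.leaf 2972) (.leaf 3988))) (.node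 (.node (.leaf 704) (.leaf 3822)) (.node (.leaf 2951) (.leaf 3920))))) (.node (.node (.node (.node (.leaf 196) (.leaf 3309)) (.node (.leaf 2443) (.leaf 3397))) (.node (.node (.leaf 2601) (.leaf 3852)) (.node (.leaf 668) (.leaf 3638)))) (.node (.node (.node (.leaf 130) (.leaf 3489)) (.node (.leaf 496) (.leaf 3337))) (.node (.node (.leaf 848) (.leaf 3021)) (.node (.leaf 822) (.leaf 3992))))))
def dFin_4 : BT := .node (.node (.node (.node (.node (.node (.node (.leaf 19) (.leaf 4050)) (.leaf 3314)) (.node (.leaf 966) (.leaf 1669))) (.node (.node (.leaf 150) (.leaf 3547)) (.node (.leaf 560) (.leaf 3686)))) (.node (.node (.node (.leaf 78) (.leaf 1056)) (.node (.leaf 440) (.leaf 1908))) (.node (.node (.leaf 3000) (.leaf 1410)) (.node (.leaf 3121) (.leaf 3902))))) (.node (.node (.node (.node (.leaf 152) (.leaf 968)) (.node (.leaf 1060) (.leaf 3320))) (.node (.node (.leaf 198) (.leaf 3130)) (.node (.leaf 1530) (.leaf 3808)))) (.node (.node (.node (.leaf 194) (.leaf 3515)) (.node (.leaf 472) (.leaf 3729))) (.node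 (.node (.leaf 820) (.leaf 3783)) (.node (.leaf 2481) (.leaf 4137)))))) (.node (.node (.node (.node (.node (.node (.leaf 104) (.leaf 4130)) (.leaf 3215)) (.node (.leaf 2994) (.leaf 3990))) (.node (.node (.leaf 330) (.leaf 2832)) (.node (.leaf 2975) (.leaf 3661)))) (.node (.node (.node (.leaf 102) (.leaf 1096)) (.node (.leaf 2783) (.leaf 3332))) (.node (.node (.leaf 750) (.leaf 3860)) (.node (.leaf 2460) (.leaf 4032))))) (.node (.node (.node (.node (.leaf 222) (.leaf 2989)) (.node (.leaf 2479) (.leaf 1778))) (.node (.node (.leaf 2746) (.leaf 3424)) (.node (.leaf 3359) (.leaf 3854)))) (.node (.node (.node (.leaf 446) (.leaf 3018)) (.node (.leaf 2591) (.leaf 3159))) (.node (.node (.leaf 342) (.leaf 3405)) (.node (.leaf 830) (.leaf 4113))))))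
def dFin_5 : BT := .node dFin_3 dFin_4
def dFin_6 : BT := .node dFin_2 dFin_5
def dFin_7 : BT := .node (.node (.node (.node (.node (.node (.node (.leaf 4) (.leaf 4028)) (.leaf 846)) (.node (.leaf 928) (.leaf 3671))) (.node (.node (.leaf 2684) (.leaf 3040)) (.node (.leaf 3373) (.leaf 3211)))) (.node (.node (.node (.leaf 72) (.leaf 2997)) (.node (.leaf 3525) (.leaf 3781))) (.node (.node (.leaf 630) (.leaf 3433)) (.node (.leaf 1532) (.leaf 3864))))) (.node (.node (.node (.node (.leaf 126) (.leaf 2312)) (.node (.leaf 906) (.leaf 1702))) (.node (.node (.leaf 2636) (.leaf 2584)) (.node (.leaf 1444) (.leaf 3824)))) (.node (.node (.node (.leaf 370) (.leaf 3509)) (.node (.leaf 2847) (.leaf 3923))) (.node (.node (.leaf 284) (.leaf 3810)) (.node (.leaf 3327) (.leaf 3948)))))) (.node (.node (.node (.node (.node (.node (.leaf 17) (.leaf 4080)) (.leaf 902)) (.node (.leaf 844) (.leaf 3970))) (.node (.node (.leaf 161) (.leaf 2796)) (.node (.leaf 1376) (.leaf 3901)))) (.node (.node (.node (.leaf 332) (.leaf 3552))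 (.node (.leaf 1186) (.leaf 3453))) (.node (.node (.leaf 676) (.leaf 3837)) (.node (.leaf 3391) (.leaf 3924))))) (.node (.node (.node (.node (.leaf 46) (.leaf 3295)) (.node (.leaf 2465) (.leaf 3447))) (.node (.node (.leaf 2687) (.leaf 3262)) (.node (.leaf 3025) (.leaf 3725)))) (.node (.node (.node (.leaf 204) (.leaf 3499)) (.node (.leaf 476) (.leaf 2119))) (.node (.node (.leaf 326) (.leaf 1446)) (.node (.leaf 2844) (.leaf 3994))))))
def dFin_8 : BT := .node (.node (.node (.node (.node (.node (.node (.leaf 34) (.leaf 4042)) (.leaf 3297)) (.node (.leaf 354) (.leaf 3946))) (.node (.node (.leaf 159) (.leaf 1188)) (.node (.leaf 552) (.leaf 3557)))) (.node (.node (.node (.leaf 292) (.leaf 3427)) (.node (.leaf 2948) (.leaf 1910))) (.node (.node (.leaf 666) (.leaf 1412)) (.node (.leaf 3113) (.leaf 4084))))) (.node (.node (.node (.node (.leaf 146) (.leaf 974)) (.node (.leaf 1052) (.leaf 3640))) (.node (.node (.leaf 200) (.leaf 3170)) (.node (.leaf 642) (.leaf 3814)))) (.node (.node (.node (.leaf 412) (.leaf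 1113)) (.node (.leaf 2835) (.leaf 3435))) (.node (.node (.leaf 2780) (.leaf 3777)) (.node (.leaf 3799) (.leaf 4003)))))) (.node (.node (.node (.node (.node (.node (.leaf 100) (.leaf 4128)) (.leaf 2990)) (.node (.leaf 992) (.leaf 3413))) (.node (.node (.leaf 168) (.leaf 3493)) (.node (.leaf 1408) (.leaf 3678)))) (.node (.node (.node (.leaf 186) (.leaf 3543)) (.node (.leaf 448) (.leaf 3306))) (.node (.node (.leaf 2422) (.leaf 3841)) (.node (.leaf 3043) (.leaf 3936))))) (.node (.node (.node (.node (.leaf 52) (.leaf 997)) (.node (.leaf 1106) (.leaf 1766))) (.node (.node (.leaf 2627) (.leaf 3862)) (.node (.leaf 2757) (.leaf 3858)))) (.node (.node (.node (.leaf 438) (.leaf 3014)) (.node (.leaf 3106) (.leaf 4040))) (.node (.node (.leaf 334) (.leaf 3123)) (.node (.leaf 1912) (.leaf 4014))))))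
def dFin_9 : BT := .node dFin_7 dFin_8
def dFin_10 : BT := .node (.node (.node (.node (.node (.node (.node (.leaf 14) (.leaf 4039)) (.leaf 856)) (.node (.leaf 2754) (.leaf 3930))) (.node (.node (.leaf 462) (.leaf 1178)) (.node (.leaf 546) (.leaf 3694)))) (.node (.node (.node (.leaf 282) (.leaf 3139)) (.node (.leaf 3005) (.leaf 3843))) (.node (.node (.leaf 233) (.leaf 3747)) (.node (.leaf 700) (.leaf 3880))))) (.node (.node (.node (.node (.leaf 132) (.leaf 2667)) (.node (.leaf 399) (.leaf 3835))) (.node (.node (.leaf 276) (.leaf 3212)) (.node (.leaf 632) (.leaf 3839)))) (.node (.node (.node (.leaf 358) (.leaf 3530)) (.node (.leaf 2839) (.leaf 3919))) (.node (.node (.leaf 2425) (.leaf 3785)) (.node (.leaf 1776) (.leaf 3960)))))) (.node (.node (.node (.node (.node (.node (.leaf 76) (.leaf 4106)) (.leaf 920)) (.node (.leaf 368) (.leaf 3666))) (.node (.node (.leaf 500) (.leaf 1218)) (.node (.leaf 3148) (.leaf 3904)))) (.node (.node (.node (.leaf 184) (.leaf 3681)) (.node (.leaf 2960) (.leaf 4020))) (.node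 (.node (.leaf 250) (.leaf 1423)) (.node (.leaf 2440) (.leaf 3928))))) (.node (.node (.node (.node (.leaf 54) (.leaf 3335)) (.node (.leaf 1094) (.leaf 3073))) (.node (.node (.leaf 280) (.leaf 3183)) (.node (.leaf 2311) (.leaf 3634)))) (.node (.node (.node (.leaf 128) (.leaf 3006)) (.node (.leaf 498) (.leaf 3431))) (.node (.node (.leaf 336) (.leaf 1528)) (.node (.leaf 1906) (.leaf 4001))))))
def dFin_11 : BT := .node (.node (.node (.node (.node (.node (.node (.leaf 44) (.leaf 4074)) (.leaf 1966)) (.node (.leaf 842) (.leaf 3958))) (.node (.node (.leaf 474) (.leaf 2794)) (.node (.leaf 564) (.leaf 3688)))) (.node (.node (.node (.leaf 99) (.leaf 1058)) (.node (.leaf 1176) (.leaf 3451))) (.node (.node (.leaf 246) (.leaf 3460)) (.node (.leaf 3383) (.leaf 3898))))) (.node (.node (.node (.node (.leaf 166) (.leaf 3268)) (.node (.leaf 976) (.leaf 3874))) (.node (.node (.leaf 2598) (.leaf 3632)) (.node (.leaf 640) (.leaf 3628)))) (.node (.node (.node (.leaf 2749) (.leaf 3517)) (.node (.leaf 478) (.leaf 2110)))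 (.node (.node (.leaf 828) (.leaf 3732)) (.node (.leaf 2463) (.leaf 3986)))))) (.node (.node (.node (.node (.node (.node (.leaf 74) (.leaf 4134)) (.leaf 1994)) (.node (.leaf 2935) (.leaf 1706))) (.node (.node (.leaf 182) (.leaf 2836)) (.node (.leaf 1420) (.leaf 3652)))) (.node (.node (.node (.leaf 364) (.leaf 2971)) (.node (.leaf 1216) (.leaf 1968))) (.node (.node (.leaf 288) (.leaf 3749)) (.node (.leaf 752) (.leaf 4083))))) (.node (.node (.node (.node (.leaf 244) (.leaf 2993)) (.node (.leaf 1110) (.leaf 3826))) (.node (.node (.leaf 2750) (.leaf 3287)) (.node (.leaf 694) (.leaf 3926)))) (.node (.node (.node (.leaf 216) (.leaf 3022)) (.node (.leaf 510) (.leaf 2138))) (.node (.node (.leaf 566) (.leaf 3208)) (.node (.leaf 840) (.leaf 4022))))))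
def dFin_12 : BT := .node dFin_10 dFin_11
def dFin_13 : BT := .node dFin_9 dFin_12
def dFin_14 : BT := .node dFin_6 dFin_13
def dFin_15 : BT := .node (.node (.node (.node (.node (.node (.node (.leaf 2) (.leaf 4096)) (.leaf 838)) (.node (.leaf 924) (.leaf 3384))) (.node (.node (.leaf 140) (.leaf 3586)) (.node (.leaf 3367) (.leaf 2136)))) (.node (.node (.node (.leaf 93) (.leaf 2979)) (.node (.leaf 1118) (.leaf 3762))) (.node (.node (.leaf 224) (.leaf 3278)) (.node (.leaf 861) (.leaf 3870))))) (.node (.node (.node (.node (.leaf 122) (.leaf 926)) (.node (.leaf 380) (.leaf 1704))) (.node (.node (.leaf 570) (.leaf 2984)) (.node (.leaf 1438) (.leaf 3588)))) (.node (.node (.node (.leaf 108) (.leaf 3507)) (.node (.leaf 2850) (.leaf 3344))) (.node (.node (.leaf 286) (.leaf 3851)) (.node (.leaf 1752) (.leaf 4118)))))) (.node (.node (.node (.node (.node (.node (.leaf 873) (.leaf 4095)) (.leaf 2976)) (.node (.leaf 362) (.leaf 3258))) (.node (.node (.leaf 229) (.leaf 2732)) (.node (.leaf 1372) (.leaf 4093)))) (.node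 (.node (.node (.leaf 239) (.leaf 3548)) (.node (.leaf 1156) (.leaf 3449))) (.node (.node (.leaf 706) (.leaf 3767)) (.node (.leaf 1684) (.leaf 3896))))) (.node (.node (.node (.node (.leaf 178) (.leaf 3291)) (.node (.leaf 1070) (.leaf 3346))) (.node (.node (.leaf 2606) (.leaf 1312)) (.node (.leaf 672) (.leaf 3626)))) (.node (.node (.node (.leaf 424) (.leaf 1124)) (.node (.leaf 3114) (.leaf 4024))) (.node (.node (.leaf 3032) (.leaf 3738)) (.node (.leaf 3443) (.leaf 4059))))))
def dFin_16 : BT := .node (.node (.node (.node (.node (.node (.node (.leaf 22) (.leaf 4044)) (.leaf 1938)) (.node (.leaf 352) (.leaf 3890))) (.node (.node (.leaf 144) (.leaf 3475)) (.node (.leaf 544) (.leaf 3550)))) (.node (.node (.node (.leaf 254) (.leaf 1988)) (.node (.leaf 3031) (.leaf 3537))) (.node (.node (.leaf 240) (.leaf 3256)) (.node (.leaf 3094) (.leaf 3884))))) (.node (.node (.node (.node (.leaf 142) (.leaf 972)) (.node (.leaf 2800) (.leaf 1746))) (.node (.node (.leaf 568) (.leaf 3216)) (.node (.leaf 1534) (.leaf 3812))))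 (.node (.node (.node (.leaf 2788) (.leaf 3765)) (.node (.leaf 2456) (.leaf 3655))) (.node (.node (.leaf 300) (.leaf 3771)) (.node (.leaf 1428) (.leaf 3972)))))) (.node (.node (.node (.node (.node (.node (.leaf 28) (.leaf 4114)) (.leaf 916)) (.node (.leaf 988) (.leaf 3650))) (.node (.node (.leaf 506) (.leaf 3487)) (.node (.leaf 2969) (.leaf 3787)))) (.node (.node (.node (.leaf 346) (.leaf 2483)) (.node (.leaf 3057) (.leaf 1940))) (.node (.node (.leaf 258) (.leaf 1426)) (.node (.leaf 880) (.leaf 3934))))) (.node (.node (.node (.node (.leaf 210) (.leaf 990)) (.node (.leaf 2473) (.leaf 3399))) (.node (.node (.leaf 2900) (.leaf 3423)) (.node (.leaf 2309) (.leaf 3648)))) (.node (.node (.node (.leaf 434) (.leaf 1152)) (.node (.leaf 1298) (.leaf 2128))) (.node (.node (.leaf 898) (.leaf 3914)) (.node (.leaf 2809) (.leaf 4004))))))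
def dFin_17 : BT := .node dFin_15 dFin_16
def dFin_18 : BT := .node (.node (.node (.node (.node (.node (.node (.leaf 10) (.leaf 4145)) (.leaf 3047)) (.node (.leaf 2321) (.leaf 1552))) (.node (.node (.leaf 2843) (.leaf 3048)) (.node (.leaf 518) (.leaf 3692)))) (.node (.node (.node (.leaf 2652) (.leaf 3411)) (.node (.leaf 436) (.leaf 3818))) (.node (.node (.leaf 2383) (.leaf 3154)) (.node (.leaf 3029) (.leaf 3954))))) (.node (.node (.node (.node (.leaf 112) (.leaf 2318)) (.node (.leaf 1014) (.leaf 3956))) (.node (.node (.leaf 190) (.leaf 3228)) (.node (.leaf 634) (.leaf 3609)))) (.node (.node (.node (.leaf 110) (.leaf 3528)) (.node (.leaf 2873) (.leaf 3348))) (.node (.node (.leaf 2447) (.leaf 3779)) (.node (.leaf 764) (.leaf 4124)))))) (.node (.node (.node (.node (.node (.node (.leaf 20) (.leaf 4104)) (.leaf 905)) (.node (.leaf 978) (.leaf 3630))) (.node (.node (.leaf 2351) (.leaf 3521)) (.node (.leaf 1394) (.leaf 3698)))) (.node (.node (.node (.leaf 154) (.leaf 3741)) (.node (.leaf 2853) (.leaf 4010)))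 (.node (.node (.leaf 2904) (.leaf 3847)) (.node (.leaf 726) (.leaf 3968))))) (.node (.node (.node (.node (.leaf 206) (.leaf 2126)) (.node (.leaf 2477) (.leaf 3076))) (.node (.node (.leaf 514) (.leaf 3281)) (.node (.leaf 2858) (.leaf 3636)))) (.node (.node (.node (.leaf 296) (.leaf 3538)) (.node (.leaf 646) (.leaf 2122))) (.node (.node (.leaf 894) (.leaf 1526)) (.node (.leaf 2870) (.leaf 4142))))))
def dFin_19 : BT := .node (.node (.node (.node (.node (.node (.node (.leaf 38) (.leaf 4055)) (.leaf 3288)) (.node (.leaf 2903) (.leaf 3393))) (.node (.node (.leaf 163) (.leaf 3707)) (.node (.leaf 562) (.leaf 3820)))) (.node (.node (.node (.leaf 316) (.leaf 1710)) (.node (.leaf 3039) (.leaf 3831))) (.node (.node (.leaf 2444) (.leaf 3467)) (.node (.leaf 708) (.leaf 4102))))) (.node (.node (.node (.node (.leaf 42) (.leaf 3241)) (.node (.leaf 416) (.leaf 3395))) (.node (.node (.leaf 580) (.leaf 3124)) (.node (.leaf 2923) (.leaf 3620)))) (.node (.node (.node (.leaf 2840) (.leaf 1116)) (.node (.leaf 2745) (.leaf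 3773))) (.node (.node (.leaf 2723) (.leaf 3848)) (.node (.leaf 2493) (.leaf 3984)))))) (.node (.node (.node (.node (.node (.node (.leaf 2393) (.leaf 4132)) (.leaf 3157)) (.node (.leaf 2907) (.leaf 3408))) (.node (.node (.leaf 180) (.leaf 3463)) (.node (.leaf 576) (.leaf 3677)))) (.node (.node (.node (.leaf 360) (.leaf 3484)) (.node (.leaf 1212) (.leaf 3181))) (.node (.node (.leaf 762) (.leaf 1432)) (.node (.leaf 754) (.leaf 3940))))) (.node (.node (.node (.node (.leaf 62) (.leaf 2920)) (.node (.leaf 426) (.leaf 3769))) (.node (.node (.leaf 2655) (.leaf 1374)) (.node (.leaf 2966) (.leaf 3856)))) (.node (.node (.node (.leaf 136) (.leaf 1162)) (.node (.leaf 508) (.leaf 3721))) (.node (.node (.leaf 486) (.leaf 3219)) (.node (.leaf 3079) (.leaf 4090))))))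
def dFin_20 : BT := .node dFin_18 dFin_19
def dFin_21 : BT := .node dFin_17 dFin_20
def dFin_22 : BT := .node (.node (.node (.node (.node (.node (.node (.leaf 6) (.leaf 4035)) (.leaf 2861)) (.node (.leaf 2397) (.leaf 3642))) (.node (.node (.leaf 2673) (.leaf 3044)) (.node (.leaf 3377) (.leaf 3888)))) (.node (.node (.node (.leaf 256) (.leaf 2910)) (.node (.leaf 430) (.leaf 3832))) (.node (.node (.leaf 226) (.leaf 3646)) (.node (.leaf 2490) (.leaf 3866))))) (.node (.node (.node (.node (.leaf 134) (.leaf 2405)) (.node (.leaf 378) (.leaf 3238))) (.node (.node (.leaf 550) (.leaf 1292)) (.node (.leaf 582) (.leaf 4070)))) (.node (.node (.node (.leaf 376) (.leaf 3701)) (.node (.leaf 1244) (.leaf 1986))) (.node (.node (.leaf 776) (.leaf 3751)) (.node (.leaf 1760) (.leaf 3952)))))) (.node (.node (.node (.node (.node (.node (.leaf 60) (.leaf 4116)) (.leaf 900)) (.node (.leaf 984) (.leaf 3662))) (.node (.node (.leaf 165) (.leaf 2818)) (.node (.leaf 3127) (.leaf 3607)))) (.node (.node (.node (.leaf 95) (.leaf 3665))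 (.node (.leaf 444) (.leaf 1916))) (.node (.node (.leaf 252) (.leaf 1782)) (.node (.leaf 722) (.leaf 4030))))) (.node (.node (.node (.node (.leaf 188) (.leaf 986)) (.node (.leaf 2433) (.leaf 1762))) (.node (.node (.leaf 208) (.leaf 3342)) (.node (.leaf 2913) (.leaf 3719)))) (.node (.node (.node (.leaf 418) (.leaf 3503)) (.node (.leaf 3235) (.leaf 3429))) (.node (.node (.leaf 836) (.leaf 3742)) (.node (.leaf 3473) (.leaf 4053))))))
def dFin_23 : BT := .node (.node (.node (.node (.node (.node (.node (.leaf 12) (.leaf 4046)) (.leaf 3205)) (.node (.leaf 2720) (.leaf 1640))) (.node (.node (.leaf 148) (.leaf 3456)) (.node (.leaf 1368) (.leaf 3684)))) (.node (.node (.node (.leaf 2609) (.leaf 1016)) (.node (.leaf 3035) (.leaf 3454))) (.node (.node (.leaf 678) (.leaf 3470)) (.node (.leaf 3117) (.leaf 3886))))) (.node (.node (.node (.node (.leaf 40) (.leaf 3051)) (.node (.leaf 2670) (.leaf 1754))) (.node (.node (.leaf 278) (.leaf 1300)) (.node (.leaf 644) (.leaf 3711)))) (.node (.node (.node (.leaf 420) (.leaf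 3513)) (.node (.leaf 2741) (.leaf 4007))) (.node (.node (.leaf 2713) (.leaf 1440)) (.node (.leaf 778) (.leaf 3980)))))) (.node (.node (.node (.node (.node (.node (.leaf 66) (.leaf 4126)) (.leaf 3231)) (.node (.leaf 2929) (.leaf 1686))) (.node (.node (.leaf 516) (.leaf 1246)) (.node (.leaf 2894) (.leaf 3704)))) (.node (.node (.node (.leaf 350) (.leaf 2485)) (.node (.leaf 3483) (.leaf 3191))) (.node (.node (.leaf 2738) (.leaf 3756)) (.node (.leaf 756) (.leaf 3938))))) (.node (.node (.node (.node (.leaf 218) (.leaf 2987)) (.node (.leaf 2474) (.leaf 3440))) (.node (.node (.leaf 2459) (.leaf 2124)) (.node (.leaf 680) (.leaf 3945)))) (.node (.node (.node (.leaf 442) (.leaf 3354)) (.node (.leaf 512) (.leaf 3187))) (.node (.node (.leaf 3232) (.leaf 3202)) (.node (.leaf 3036) (.leaf 4012))))))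
def dFin_24 : BT := .node dFin_22 dFin_23
def dFin_25 : BT := .node (.node (.node (.node (.node (.node (.node (.leaf 26) (.leaf 4026)) (.leaf 852)) (.node (.leaf 348) (.leaf 3802))) (.node (.node (.leaf 2791) (.leaf 3600)) (.node (.leaf 548) (.leaf 3709)))) (.node (.node (.node (.leaf 298) (.leaf 3301)) (.node (.leaf 1150) (.leaf 3828))) (.node (.node (.leaf 243) (.leaf 1396)) (.node (.leaf 1638) (.leaf 3878))))) (.node (.node (.node (.node (.leaf 138) (.leaf 2325)) (.node (.leaf 728) (.leaf 3906))) (.node (.node (.leaf 574) (.leaf 3282)) (.node (.leaf 3374) (.leaf 3602)))) (.node (.node (.node (.leaf 120) (.leaf 1120)) (.node (.leaf 3480) (.leaf 3791))) (.node (.node (.leaf 2897) (.leaf 3894)) (.node (.leaf 3805) (.leaf 3962)))))) (.node (.node (.node (.node (.node (.node (.leaf 871) (.leaf 4108)) (.leaf 3097)) (.node (.leaf 892) (.leaf 3976))) (.node (.node (.leaf 170) (.leaf 3459)) (.node (.leaf 572) (.leaf 3674)))) (.node (.node (.node (.leaf 230) (.leaf 1072)) (.node (.leaf 1164) (.leaf 4018)))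 (.node (.node (.leaf 720) (.leaf 3876)) (.node (.leaf 2735) (.leaf 3916))))) (.node (.node (.node (.node (.leaf 172) (.leaf 2134)) (.node (.leaf 422) (.leaf 3873))) (.node (.node (.leaf 212) (.leaf 1370)) (.node (.leaf 2305) (.leaf 3645)))) (.node (.node (.node (.leaf 428) (.leaf 1154)) (.node (.leaf 1290) (.leaf 3975))) (.node (.node (.leaf 674) (.leaf 1524)) (.node (.leaf 1914) (.leaf 4008))))))
def dFin_26 : BT := .node (.node (.node (.node (.node (.node (.node (.leaf 24) (.leaf 4072)) (.leaf 896)) (.node (.leaf 2710) (.leaf 3401))) (.node (.node (.leaf 2380) (.leaf 1214)) (.node (.leaf 558) (.leaf 3745)))) (.node (.node (.node (.leaf 237) (.leaf 1712)) (.node (.leaf 3053) (.leaf 3982))) (.node (.node (.leaf 690) (.leaf 3541)) (.node (.leaf 3387) (.leaf 3911))))) (.node (.node (.node (.node (.leaf 2390) (.leaf 3285)) (.node (.leaf 760) (.leaf 3082))) (.node (.node (.leaf 2926) (.leaf 3134)) (.node (.leaf 1550) (.leaf 3737)))) (.node (.node (.node (.leaf 124) (.leaf 3759)) (.node (.leaf 480) (.leaf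 3727))) (.node (.node (.leaf 318) (.leaf 3734)) (.node (.leaf 3054) (.leaf 3978)))))) (.node (.node (.node (.node (.node (.node (.leaf 118) (.leaf 4140)) (.leaf 3137)) (.node (.leaf 374) (.leaf 1708))) (.node (.node (.leaf 542) (.leaf 3618)) (.node (.leaf 1430) (.leaf 3657)))) (.node (.node (.node (.leaf 372) (.leaf 3511)) (.node (.leaf 2803) (.leaf 3943))) (.node (.node (.leaf 758) (.leaf 3753)) (.node (.leaf 1744) (.leaf 3950))))) (.node (.node (.node (.node (.leaf 64) (.leaf 3085)) (.node (.leaf 1122) (.leaf 1780))) (.node (.node (.leaf 220) (.leaf 3340)) (.node (.leaf 692) (.leaf 4099)))) (.node (.node (.node (.leaf 382) (.leaf 3026)) (.node (.leaf 1310) (.leaf 3189))) (.node (.node (.leaf 914) (.leaf 1536)) (.node (.leaf 2806) (.leaf 4101))))))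
def dFin_27 : BT := .node dFin_25 dFin_26
def dFin_28 : BT := .node dFin_24 dFin_27
def dFin_29 : BT := .node dFin_21 dFin_28
def dFin_30 : BT := .node dFin_14 dFin_29
def dFin_31 : BT := .node (.node (.node (.node (.node (.node (.node (.leaf 1) (.leaf 4111)) (.leaf 3011)) (.node (.leaf 339) (.leaf 3382))) (.node (.node (.leaf 2603) (.leaf 1159)) (.node (.leaf 3358) (.leaf 3995)))) (.node (.node (.node (.leaf 251) (.leaf 996)) (.node (.leaf 3531) (.leaf 3809))) (.node (.node (.leaf 223) (.leaf 3339)) (.node (.leaf 3015) (.leaf 4049))))) (.node (.node (.node (.node (.leaf 31) (.leaf 3294)) (.node (.leaf 921) (.leaf 3542))) (.node (.node (.leaf 557) (.leaf 3104)) (.node (.leaf 1437) (.leaf 3667)))) (.node (.node (.node (.leaf 337) (.leaf 1107)) (.node (.leaf 2797) (.leaf 3213))) (.node (.node (.leaf 293) (.leaf 3724)) (.node (.leaf 3062) (.leaf 4077)))))) (.node (.node (.node (.node (.node (.node (.leaf 53) (.leaf 4087)) (.leaf 909)) (.node (.leaf 695) (.leaf 3254))) (.node (.node (.leaf 158) (.leaf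 3498)) (.node (.leaf 555) (.leaf 3556)))) (.node (.node (.node (.leaf 327) (.leaf 1053)) (.node (.leaf 2887) (.leaf 3446))) (.node (.node (.leaf 701) (.leaf 1421)) (.node (.leaf 1683) (.leaf 3909))))) (.node (.node (.node (.node (.leaf 73) (.leaf 2111)) (.node (.leaf 413) (.leaf 3070))) (.node (.node (.leaf 2604) (.leaf 3158)) (.node (.leaf 677) (.leaf 3623)))) (.node (.node (.node (.leaf 2751) (.leaf 3492)) (.node (.leaf 485) (.leaf 3434))) (.node (.node (.leaf 331) (.leaf 3776)) (.node (.leaf 805) (.leaf 3999))))))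
def dFin_32 : BT := .node (.node (.node (.node (.node (.node (.node (.leaf 33) (.leaf 4061)) (.leaf 849)) (.node (.leaf 359) (.leaf 3883))) (.node (.node (.leaf 473) (.leaf 1413)) (.node (.leaf 3372) (.leaf 3689)))) (.node (.node (.node (.leaf 83) (.leaf 3321)) (.node (.leaf 1161) (.leaf 3504))) (.node (.node (.leaf 3004) (.leaf 3171)) (.node (.leaf 3107) (.leaf 3893))))) (.node (.node (.node (.node (.leaf 35) (.leaf 1057)) (.node (.leaf 402) (.leaf 3798))) (.node (.node (.leaf 205) (.leaf 3625)) (.node (.leaf 1523) (.leaf 3811)))) (.node (.node (.node (.leaf 355) (.leaf 3524)) (.node (.leaf 2795) (.leaf 1995))) (.node (.node (.leaf 807) (.leaf 1779)) (.node (.leaf 1791) (.leaf 3967)))))) (.node (.node (.node (.node (.node (.node (.leaf 96) (.leaf 4121)) (.leaf 919)) (.node (.leaf 365) (.leaf 3639))) (.node (.node (.leaf 483) (.leaf 3488)) (.node (.leaf 578) (.leaf 3563)))) (.node (.node (.node (.leaf 341) (.leaf 2480)) (.node (.leaf 1181) (.leaf 4015))) (.node (.node (.leaf 2949) (.leaf 3815)) (.node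 (.leaf 1703) (.leaf 3931))))) (.node (.node (.node (.node (.leaf 201) (.leaf 3149)) (.node (.leaf 2889) (.leaf 3328))) (.node (.node (.leaf 215) (.leaf 2139)) (.node (.leaf 2585) (.leaf 4051)))) (.node (.node (.node (.leaf 2878) (.leaf 3012)) (.node (.leaf 493) (.leaf 3421))) (.node (.node (.leaf 857) (.leaf 1521)) (.node (.leaf 2793) (.leaf 4107))))))
def dFin_33 : BT := .node dFin_31 dFin_32
def dFin_34 : BT := .node (.node (.node (.node (.node (.node (.node (.leaf 9) (.leaf 4036)) (.leaf 891)) (.node (.leaf 3112) (.leaf 3390))) (.node (.node (.leaf 2781) (.leaf 1183)) (.node (.leaf 3368) (.leaf 3903)))) (.node (.node (.node (.leaf 69) (.leaf 2981)) (.node (.leaf 3001) (.leaf 1789))) (.node (.node (.leaf 641) (.leaf 3263)) (.node (.leaf 705) (.leaf 3875))))) (.node (.node (.node (.node (.leaf 55) (.leaf 2590)) (.node (.leaf 2934) (.leaf 3713))) (.node (.node (.leaf 193) (.leaf 3120)) (.node (.leaf 2998) (.leaf 3827)))) (.node (.node (.node (.leaf 105) (.leaf 1111)) (.node (.leaf 463) (.leaf 3182)))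 (.node (.node (.leaf 2464) (.leaf 1435)) (.node (.leaf 1767) (.leaf 3971)))))) (.node (.node (.node (.node (.node (.node (.leaf 71) (.leaf 4112)) (.leaf 2982)) (.node (.leaf 561) (.leaf 1681))) (.node (.node (.leaf 495) (.leaf 2845)) (.node (.leaf 3315) (.leaf 3913)))) (.node (.node (.node (.leaf 98) (.leaf 3565)) (.node (.leaf 2974) (.leaf 4000))) (.node (.node (.leaf 703) (.leaf 3842)) (.node (.leaf 725) (.leaf 3922))))) (.node (.node (.node (.node (.leaf 199) (.leaf 2118)) (.node (.leaf 2441) (.leaf 3396))) (.node (.node (.leaf 217) (.leaf 3855)) (.node (.leaf 667) (.leaf 3641)))) (.node (.node (.node (.leaf 133) (.leaf 3490)) (.node (.leaf 501) (.leaf 3336))) (.node (.node (.leaf 851) (.leaf 1533)) (.node (.leaf 821) (.leaf 3991))))))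
def dFin_35 : BT := .node (.node (.node (.node (.node (.node (.node (.leaf 15) (.leaf 4056)) (.leaf 3316)) (.node (.leaf 969) (.leaf 3381))) (.node (.node (.leaf 153) (.leaf 3461)) (.node (.leaf 855) (.leaf 3695)))) (.node (.node (.node (.leaf 77) (.leaf 1061)) (.node (.leaf 439) (.leaf 1907))) (.node (.node (.leaf 637) (.leaf 1409)) (.node (.leaf 3119) (.leaf 3905))))) (.node (.node (.node (.node (.leaf 151) (.leaf 967)) (.node (.leaf 971) (.leaf 3322))) (.node (.node (.leaf 197) (.leaf 3122)) (.node (.leaf 1529) (.leaf 3807)))) (.node (.node (.node (.leaf 2626) (.leaf 3514)) (.node (.leaf 471) (.leaf 3859))) (.node (.node (.leaf 823) (.leaf 3784)) (.node (.leaf 2961) (.leaf 4131)))))) (.node (.node (.node (.node (.node (.node (.leaf 107) (.leaf 4136)) (.leaf 1982)) (.node (.leaf 2996) (.leaf 3993))) (.node (.node (.leaf 187) (.leaf 2834)) (.node (.leaf 2973) (.leaf 3965)))) (.node (.node (.node (.leaf 101) (.leaf 1095)) (.node (.leaf 455) (.leaf 3334))) (.node (.node (.leaf 753) (.leaf 3728)) (.node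 (.leaf 2462) (.leaf 4038))))) (.node (.node (.node (.node (.leaf 232) (.leaf 2988)) (.node (.leaf 2478) (.leaf 1777))) (.node (.node (.leaf 2748) (.leaf 3426)) (.node (.leaf 3007) (.leaf 3853)))) (.node (.node (.node (.leaf 449) (.leaf 3020)) (.node (.leaf 2589) (.leaf 3160))) (.node (.node (.leaf 345) (.leaf 3412)) (.node (.leaf 829) (.leaf 4129))))))
def dFin_36 : BT := .node dFin_34 dFin_35
def dFin_37 : BT := .node dFin_33 dFin_36
def dFin_38 : BT := .node (.node (.node (.node (.node (.node (.node (.leaf 5) (.leaf 4075)) (.leaf 845)) (.node (.leaf 2310) (.leaf 3653))) (.node (.node (.leaf 2686) (.leaf 3042)) (.node (.leaf 3371) (.leaf 3209)))) (.node (.node (.node (.leaf 75) (.leaf 2995)) (.node (.leaf 3523) (.leaf 3825))) (.node (.node (.leaf 633) (.leaf 3430)) (.node (.leaf 3019) (.leaf 3863))))) (.node (.node (.node (.node (.leaf 129) (.leaf 929)) (.node (.leaf 903) (.leaf 1701))) (.node (.node (.leaf 195) (.leaf 2586)) (.node (.leaf 1447) (.leaf 3733)))) (.node (.node (.node (.leaf 369) (.leaf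 3508)) (.node (.leaf 1221) (.leaf 3921))) (.node (.node (.leaf 283) (.leaf 3795)) (.node (.leaf 3326) (.leaf 3947)))))) (.node (.node (.node (.node (.node (.node (.leaf 18) (.leaf 4085)) (.leaf 907)) (.node (.leaf 847) (.leaf 3660))) (.node (.node (.leaf 160) (.leaf 2798)) (.node (.leaf 3296) (.leaf 3899)))) (.node (.node (.node (.leaf 335) (.leaf 3554)) (.node (.leaf 1189) (.leaf 3452))) (.node (.node (.leaf 643) (.leaf 3834)) (.node (.leaf 3389) (.leaf 3918))))) (.node (.node (.node (.node (.leaf 45) (.leaf 3293)) (.node (.leaf 2877) (.leaf 3445))) (.node (.node (.leaf 2685) (.leaf 3269)) (.node (.leaf 3023) (.leaf 3722)))) (.node (.node (.node (.leaf 289) (.leaf 3496)) (.node (.leaf 475) (.leaf 3307))) (.node (.node (.leaf 325) (.leaf 1445)) (.node (.leaf 2846) (.leaf 3997))))))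
def dFin_39 : BT := .node (.node (.node (.node (.node (.node (.node (.leaf 37) (.leaf 4041)) (.leaf 3286)) (.node (.leaf 357) (.leaf 3949))) (.node (.node (.leaf 147) (.leaf 1187)) (.node (.leaf 553) (.leaf 3553)))) (.node (.node (.node (.leaf 291) (.leaf 3425)) (.node (.leaf 2950) (.leaf 1913))) (.node (.node (.leaf 669) (.leaf 2970)) (.node (.leaf 3111) (.leaf 4081))))) (.node (.node (.node (.node (.leaf 156) (.leaf 977)) (.node (.leaf 1055) (.leaf 3402))) (.node (.node (.leaf 203) (.leaf 3164)) (.node (.leaf 671) (.leaf 3817)))) (.node (.node (.node (.leaf 415) (.leaf 1114)) (.node (.leaf 2833) (.leaf 3436))) (.node (.node (.leaf 2782) (.leaf 3774)) (.node (.leaf 3797) (.leaf 3989)))))) (.node (.node (.node (.node (.node (.node (.leaf 103) (.leaf 4138)) (.leaf 2992)) (.node (.leaf 994) (.leaf 3404))) (.node (.node (.leaf 167) (.leaf 3464)) (.node (.leaf 1411) (.leaf 3680)))) (.node (.node (.node (.leaf 329) (.leaf 3544)) (.node (.leaf 447) (.leaf 3308))) (.node (.node (.leaf 2424) (.leaf 3838))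 (.node (.leaf 1707) (.leaf 3937))))) (.node (.node (.node (.node (.leaf 51) (.leaf 993)) (.node (.leaf 1109) (.leaf 1765))) (.node (.node (.leaf 2637) (.leaf 3865)) (.node (.leaf 2755) (.leaf 3861)))) (.node (.node (.node (.leaf 441) (.leaf 3016)) (.node (.leaf 1295) (.leaf 4043))) (.node (.node (.leaf 333) (.leaf 3138)) (.node (.leaf 1911) (.leaf 4017))))))
def dFin_40 : BT := .node dFin_38 dFin_39
def dFin_41 : BT := .node (.node (.node (.node (.node (.node (.node (.leaf 16) (.leaf 4033)) (.leaf 889)) (.node (.leaf 2756) (.leaf 3881))) (.node (.node (.leaf 465) (.leaf 1177)) (.node (.leaf 841) (.leaf 3687)))) (.node (.node (.node (.leaf 285) (.leaf 3131)) (.node (.leaf 3003) (.leaf 3823))) (.node (.node (.leaf 234) (.leaf 3748)) (.node (.leaf 699) (.leaf 3933))))) (.node (.node (.node (.node (.leaf 131) (.leaf 2666)) (.node (.leaf 400) (.leaf 3836))) (.node (.node (.leaf 277) (.leaf 3214)) (.node (.leaf 631) (.leaf 3840)))) (.node (.node (.node (.leaf 398) (.leaf 3532)) (.node (.leaf 2837) (.leaf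 3629))) (.node (.node (.leaf 2423) (.leaf 3782)) (.node (.leaf 1443) (.leaf 3959)))))) (.node (.node (.node (.node (.node (.node (.leaf 79) (.leaf 4122)) (.leaf 923)) (.node (.leaf 371) (.leaf 3668))) (.node (.node (.leaf 479) (.leaf 1217)) (.node (.leaf 3150) (.leaf 3683)))) (.node (.node (.node (.leaf 183) (.leaf 3679)) (.node (.leaf 2962) (.leaf 4023))) (.node (.node (.leaf 249) (.leaf 1424)) (.node (.leaf 2442) (.leaf 3927))))) (.node (.node (.node (.node (.leaf 81) (.leaf 3333)) (.node (.leaf 1097) (.leaf 3072))) (.node (.node (.leaf 281) (.leaf 3184)) (.node (.leaf 2313) (.leaf 3633)))) (.node (.node (.node (.leaf 127) (.leaf 3357)) (.node (.leaf 499) (.leaf 3432))) (.node (.node (.leaf 343) (.leaf 1531)) (.node (.leaf 1909) (.leaf 4002))))))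
def dFin_42 : BT := .node (.node (.node (.node (.node (.node (.node (.leaf 47) (.leaf 4082)) (.leaf 1969)) (.node (.leaf 547) (.leaf 3961))) (.node (.node (.leaf 477) (.leaf 2816)) (.node (.leaf 567) (.leaf 3691)))) (.node (.node (.node (.leaf 91) (.leaf 1059)) (.node (.leaf 1179) (.leaf 3450))) (.node (.node (.leaf 245) (.leaf 3546)) (.node (.leaf 1668) (.leaf 3900))))) (.node (.node (.node (.node (.leaf 169) (.leaf 1399)) (.node (.leaf 975) (.leaf 3869))) (.node (.node (.leaf 2600) (.leaf 3635)) (.node (.leaf 639) (.leaf 3925)))) (.node (.node (.node (.leaf 2747) (.leaf 3516)) (.node (.leaf 497) (.leaf 2109))) (.node (.node (.leaf 831) (.leaf 3780)) (.node (.leaf 2461) (.leaf 3987)))))) (.node (.node (.node (.node (.node (.node (.leaf 49) (.leaf 4135)) (.leaf 1997)) (.node (.leaf 2933) (.leaf 3041))) (.node (.node (.leaf 185) (.leaf 2838)) (.node (.leaf 1422) (.leaf 3670)))) (.node (.node (.node (.leaf 367) (.leaf 3534)) (.node (.leaf 1219) (.leaf 1967))) (.node (.node (.leaf 295) (.leaf 3746)) (.node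 (.leaf 751) (.leaf 4029))))) (.node (.node (.node (.node (.leaf 247) (.leaf 2991)) (.node (.leaf 1112) (.leaf 3844))) (.node (.node (.leaf 2752) (.leaf 1377)) (.node (.leaf 697) (.leaf 3929)))) (.node (.node (.node (.leaf 2599) (.leaf 3024)) (.node (.leaf 511) (.leaf 3416))) (.node (.node (.leaf 565) (.leaf 3210)) (.node (.leaf 843) (.leaf 4021))))))
def dFin_43 : BT := .node dFin_41 dFin_42
def dFin_44 : BT := .node dFin_40 dFin_43
def dFin_45 : BT := .node dFin_37 dFin_44
def dFin_46 : BT := .node (.node (.node (.node (.node (.node (.node (.leaf 3) (.leaf 4098)) (.leaf 837)) (.node (.leaf 927) (.leaf 3386))) (.node (.node (.leaf 139) (.leaf 3589)) (.node (.leaf 3366) (.leaf 2135)))) (.node (.node (.node (.leaf 94) (.leaf 2977)) (.node (.leaf 1117) (.leaf 3764))) (.node (.node (.leaf 228) (.leaf 3280)) (.node (.leaf 860) (.leaf 3872))))) (.node (.node (.node (.node (.leaf 125) (.leaf 925)) (.node (.leaf 383) (.leaf 1713))) (.node (.node (.leaf 573) (.leaf 2986)) (.node (.leaf 1441) (.leaf 3587))))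 (.node (.node (.node (.leaf 113) (.leaf 3502)) (.node (.leaf 2852) (.leaf 3345))) (.node (.node (.leaf 297) (.leaf 3850)) (.node (.leaf 1755) (.leaf 4109)))))) (.node (.node (.node (.node (.node (.node (.leaf 872) (.leaf 4100)) (.leaf 2978)) (.node (.leaf 361) (.leaf 3257))) (.node (.node (.leaf 225) (.leaf 2734)) (.node (.leaf 1375) (.leaf 4091)))) (.node (.node (.node (.leaf 241) (.leaf 3551)) (.node (.leaf 1155) (.leaf 3448))) (.node (.node (.leaf 709) (.leaf 3768)) (.node (.leaf 1687) (.leaf 3895))))) (.node (.node (.node (.node (.leaf 181) (.leaf 3289)) (.node (.leaf 1073) (.leaf 3392))) (.node (.node (.leaf 2608) (.leaf 1311)) (.node (.leaf 675) (.leaf 3631)))) (.node (.node (.node (.leaf 427) (.leaf 1123)) (.node (.leaf 3116) (.leaf 4027))) (.node (.node (.leaf 3034) (.leaf 3740)) (.node (.leaf 3441) (.leaf 4045))))))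
def dFin_47 : BT := .node (.node (.node (.node (.node (.node (.node (.leaf 21) (.leaf 4058)) (.leaf 1941)) (.node (.leaf 351) (.leaf 3885))) (.node (.node (.leaf 143) (.leaf 3536)) (.node (.leaf 543) (.leaf 3549)))) (.node (.node (.node (.leaf 253) (.leaf 1987)) (.node (.leaf 3030) (.leaf 3474))) (.node (.node (.leaf 238) (.leaf 3259)) (.node (.leaf 3096) (.leaf 3891))))) (.node (.node (.node (.node (.leaf 145) (.leaf 979)) (.node (.leaf 2802) (.leaf 1745))) (.node (.node (.leaf 563) (.leaf 3218)) (.node (.leaf 1537) (.leaf 3833)))) (.node (.node (.node (.leaf 2790) (.leaf 3763)) (.node (.leaf 2458) (.leaf 3656))) (.node (.node (.leaf 299) (.leaf 3772)) (.node (.leaf 1427) (.leaf 3974)))))) (.node (.node (.node (.node (.node (.node (.leaf 27) (.leaf 4117)) (.leaf 915)) (.node (.leaf 991) (.leaf 3637))) (.node (.node (.leaf 509) (.leaf 3485)) (.node (.leaf 2967) (.leaf 3778)))) (.node (.node (.node (.leaf 349) (.leaf 2482)) (.node (.leaf 3055) (.leaf 1939))) (.node (.node (.leaf 257) (.leaf 1429)) (.node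 (.leaf 881) (.leaf 3944))))) (.node (.node (.node (.node (.leaf 213) (.leaf 989)) (.node (.leaf 2472) (.leaf 3398))) (.node (.node (.leaf 2902) (.leaf 3422)) (.node (.leaf 2308) (.leaf 3647)))) (.node (.node (.node (.leaf 437) (.leaf 1151)) (.node (.leaf 1301) (.leaf 2127))) (.node (.node (.leaf 901) (.leaf 3917)) (.node (.leaf 2807) (.leaf 4019))))))
def dFin_48 : BT := .node dFin_46 dFin_47
def dFin_49 : BT := .node (.node (.node (.node (.node (.node (.node (.leaf 13) (.leaf 4133)) (.leaf 3045)) (.node (.leaf 2319) (.leaf 1551))) (.node (.node (.leaf 2841) (.leaf 3050)) (.node (.leaf 517) (.leaf 3685)))) (.node (.node (.node (.leaf 2654) (.leaf 3409)) (.node (.leaf 435) (.leaf 3821))) (.node (.node (.leaf 2381) (.leaf 3156)) (.node (.leaf 3027) (.leaf 3953))))) (.node (.node (.node (.node (.leaf 109) (.leaf 2320)) (.node (.leaf 1017) (.leaf 3951))) (.node (.node (.leaf 189) (.leaf 3230)) (.node (.leaf 635) (.leaf 3606)))) (.node (.node (.node (.leaf 111) (.leaf 3520)) (.node (.leaf 2871) (.leaf 3355)))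 (.node (.node (.leaf 2445) (.leaf 3786)) (.node (.leaf 763) (.leaf 4127)))))) (.node (.node (.node (.node (.node (.node (.leaf 23) (.leaf 4103)) (.leaf 904)) (.node (.leaf 973) (.leaf 3627))) (.node (.node (.leaf 2350) (.leaf 3529)) (.node (.leaf 1397) (.leaf 3700)))) (.node (.node (.node (.leaf 149) (.leaf 3739)) (.node (.leaf 2851) (.leaf 4009))) (.node (.node (.leaf 2906) (.leaf 3846)) (.node (.leaf 729) (.leaf 3963))))) (.node (.node (.node (.node (.leaf 209) (.leaf 2129)) (.node (.leaf 2475) (.leaf 3078))) (.node (.node (.leaf 513) (.leaf 3279)) (.node (.leaf 2860) (.leaf 3651)))) (.node (.node (.node (.leaf 287) (.leaf 3540)) (.node (.leaf 645) (.leaf 2125))) (.node (.node (.leaf 897) (.leaf 1527)) (.node (.leaf 2872) (.leaf 4141))))))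
def dFin_50 : BT := .node (.node (.node (.node (.node (.node (.node (.leaf 41) (.leaf 4054)) (.leaf 3290)) (.node (.leaf 2901) (.leaf 3347))) (.node (.node (.leaf 164) (.leaf 3705)) (.node (.leaf 569) (.leaf 3819)))) (.node (.node (.node (.leaf 319) (.leaf 1709)) (.node (.leaf 3037) (.leaf 3829))) (.node (.node (.leaf 2446) (.leaf 3462)) (.node (.leaf 707) (.leaf 4105))))) (.node (.node (.node (.node (.leaf 43) (.leaf 3239)) (.node (.leaf 419) (.leaf 3400))) (.node (.node (.leaf 583) (.leaf 3126)) (.node (.leaf 2921) (.leaf 3619)))) (.node (.node (.node (.leaf 2842) (.leaf 1119)) (.node (.leaf 2744) (.leaf 3770))) (.node (.node (.leaf 2721) (.leaf 3849)) (.node (.leaf 2491) (.leaf 3985)))))) (.node (.node (.node (.node (.node (.node (.leaf 2391) (.leaf 4144)) (.leaf 3155)) (.node (.leaf 2905) (.leaf 3410))) (.node (.node (.leaf 179) (.leaf 3466)) (.node (.leaf 575) (.leaf 3675)))) (.node (.node (.node (.leaf 363) (.leaf 3486)) (.node (.leaf 1215) (.leaf 3186))) (.node (.node (.leaf 765) (.leaf 1431))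 (.node (.leaf 761) (.leaf 3942))))) (.node (.node (.node (.node (.leaf 61) (.leaf 2922)) (.node (.leaf 425) (.leaf 3766))) (.node (.node (.leaf 2653) (.leaf 1373)) (.node (.leaf 2968) (.leaf 3857)))) (.node (.node (.node (.leaf 135) (.leaf 1165)) (.node (.leaf 507) (.leaf 3718))) (.node (.node (.leaf 481) (.leaf 3217)) (.node (.leaf 3077) (.leaf 4092))))))
def dFin_51 : BT := .node dFin_49 dFin_50
def dFin_52 : BT := .node dFin_48 dFin_51
def dFin_53 : BT := .node (.node (.node (.node (.node (.node (.node (.leaf 7) (.leaf 4031)) (.leaf 2859)) (.node (.leaf 2396) (.leaf 3644))) (.node (.node (.leaf 2671) (.leaf 3046)) (.node (.leaf 3375) (.leaf 3887)))) (.node (.node (.node (.leaf 259) (.leaf 2912)) (.node (.leaf 429) (.leaf 3813))) (.node (.node (.leaf 231) (.leaf 3649)) (.node (.leaf 2492) (.leaf 3867))))) (.node (.node (.node (.node (.leaf 137) (.leaf 2404)) (.node (.leaf 377) (.leaf 3240))) (.node (.node (.leaf 549) (.leaf 1291)) (.node (.leaf 581) (.leaf 4073)))) (.node (.node (.node (.leaf 379)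 (.leaf 3699)) (.node (.leaf 1247) (.leaf 1989))) (.node (.node (.leaf 779) (.leaf 3790)) (.node (.leaf 1763) (.leaf 3955)))))) (.node (.node (.node (.node (.node (.node (.leaf 63) (.leaf 4115)) (.leaf 899)) (.node (.leaf 987) (.leaf 3664))) (.node (.node (.leaf 162) (.leaf 2819)) (.node (.leaf 3125) (.leaf 3608)))) (.node (.node (.node (.leaf 92) (.leaf 3663)) (.node (.leaf 443) (.leaf 1915))) (.node (.node (.leaf 255) (.leaf 1781)) (.node (.leaf 721) (.leaf 4034))))) (.node (.node (.node (.node (.leaf 191) (.leaf 985)) (.node (.leaf 2432) (.leaf 1761))) (.node (.node (.leaf 207) (.leaf 3343)) (.node (.leaf 2911) (.leaf 3720)))) (.node (.node (.node (.leaf 417) (.leaf 3506)) (.node (.leaf 3233) (.leaf 3428))) (.node (.node (.leaf 839) (.leaf 3744)) (.node (.leaf 3471) (.leaf 4047))))))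
def dFin_54 : BT := .node (.node (.node (.node (.node (.node (.node (.leaf 11) (.leaf 4052)) (.leaf 3203)) (.node (.leaf 2722) (.leaf 1639))) (.node (.node (.leaf 155) (.leaf 3455)) (.node (.leaf 1371) (.leaf 3693)))) (.node (.node (.node (.leaf 2607) (.leaf 1015)) (.node (.leaf 3033) (.leaf 3457))) (.node (.node (.leaf 681) (.leaf 3472)) (.node (.leaf 3115) (.leaf 3889))))) (.node (.node (.node (.node (.leaf 39) (.leaf 3049)) (.node (.leaf 2672) (.leaf 1753))) (.node (.node (.leaf 279) (.leaf 1299)) (.node (.leaf 647) (.leaf 3708)))) (.node (.node (.node (.leaf 423) (.leaf 3510)) (.node (.leaf 2739) (.leaf 4013))) (.node (.node (.leaf 2711) (.leaf 1439)) (.node (.leaf 777) (.leaf 3983)))))) (.node (.node (.node (.node (.node (.node (.leaf 65) (.leaf 4125)) (.leaf 3229)) (.node (.leaf 2927) (.leaf 1685))) (.node (.node (.leaf 519) (.leaf 1245)) (.node (.leaf 2896) (.leaf 3706)))) (.node (.node (.node (.leaf 353) (.leaf 2484)) (.node (.leaf 3481) (.leaf 3188))) (.node (.node (.leaf 2740) (.leaf 3758))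 (.node (.leaf 759) (.leaf 3939))))) (.node (.node (.node (.node (.leaf 221) (.leaf 2985)) (.node (.leaf 2476) (.leaf 3442))) (.node (.node (.leaf 2457) (.leaf 2123)) (.node (.leaf 679) (.leaf 3935)))) (.node (.node (.node (.leaf 445) (.leaf 3349)) (.node (.leaf 515) (.leaf 3180))) (.node (.node (.leaf 3234) (.leaf 3204)) (.node (.leaf 3038) (.leaf 4006))))))
def dFin_55 : BT := .node dFin_53 dFin_54
def dFin_56 : BT := .node (.node (.node (.node (.node (.node (.node (.leaf 29) (.leaf 4025)) (.leaf 893)) (.node (.leaf 347) (.leaf 3804))) (.node (.node (.leaf 2789) (.leaf 3603)) (.node (.leaf 551) (.leaf 3710)))) (.node (.node (.node (.leaf 301) (.leaf 3300)) (.node (.leaf 1153) (.leaf 3830))) (.node (.node (.leaf 236) (.leaf 1395)) (.node (.leaf 1641) (.leaf 3877))))) (.node (.node (.node (.node (.leaf 141) (.leaf 2324)) (.node (.leaf 727) (.leaf 3910))) (.node (.node (.leaf 577) (.leaf 3284)) (.node (.leaf 3376) (.leaf 3601)))) (.node (.node (.node (.leaf 119) (.leaf 1121)) (.node (.leaf 3482) (.leaf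 3750))) (.node (.node (.leaf 2895) (.leaf 3897)) (.node (.leaf 3803) (.leaf 3969)))))) (.node (.node (.node (.node (.node (.node (.leaf 870) (.leaf 4119)) (.leaf 3095)) (.node (.leaf 853) (.leaf 3979))) (.node (.node (.leaf 173) (.leaf 3458)) (.node (.leaf 571) (.leaf 3676)))) (.node (.node (.node (.leaf 227) (.leaf 1071)) (.node (.leaf 1163) (.leaf 4005))) (.node (.node (.leaf 723) (.leaf 3879)) (.node (.leaf 2733) (.leaf 3915))))) (.node (.node (.node (.node (.leaf 171) (.leaf 2137)) (.node (.leaf 421) (.leaf 3871))) (.node (.node (.leaf 211) (.leaf 1369)) (.node (.leaf 2304) (.leaf 3643)))) (.node (.node (.node (.leaf 431) (.leaf 1157)) (.node (.leaf 1293) (.leaf 3973))) (.node (.node (.leaf 673) (.leaf 1525)) (.node (.leaf 1917) (.leaf 4011))))))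
def dFin_57 : BT := .node (.node (.node (.node (.node (.node (.node (.leaf 25) (.leaf 4071)) (.leaf 895)) (.node (.leaf 2712) (.leaf 3394))) (.node (.node (.leaf 2382) (.leaf 1213)) (.node (.leaf 559) (.leaf 3743)))) (.node (.node (.node (.leaf 242) (.leaf 1705)) (.node (.leaf 3052) (.leaf 3981))) (.node (.node (.leaf 693) (.leaf 3539)) (.node (.leaf 3385) (.leaf 3907))))) (.node (.node (.node (.node (.leaf 2392) (.leaf 3283)) (.node (.leaf 755) (.leaf 3084))) (.node (.node (.leaf 2928) (.leaf 3136)) (.node (.leaf 1553) (.leaf 3735)))) (.node (.node (.node (.leaf 123) (.leaf 3757)) (.node (.leaf 487) (.leaf 3752))) (.node (.node (.leaf 317) (.leaf 3736)) (.node (.leaf 3056) (.leaf 3977)))))) (.node (.node (.node (.node (.node (.node (.leaf 121) (.leaf 4143)) (.leaf 3135)) (.node (.leaf 373) (.leaf 1711))) (.node (.node (.leaf 545) (.leaf 3621)) (.node (.leaf 1433) (.leaf 3654)))) (.node (.node (.node (.leaf 375) (.leaf 3512)) (.node (.leaf 2801) (.leaf 3941))) (.node (.node (.leaf 757) (.leaf 3726))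 (.node (.leaf 1747) (.leaf 3957))))) (.node (.node (.node (.node (.leaf 67) (.leaf 3083)) (.node (.leaf 1125) (.leaf 1783))) (.node (.node (.leaf 219) (.leaf 3341)) (.node (.leaf 691) (.leaf 4097)))) (.node (.node (.node (.leaf 381) (.leaf 3028)) (.node (.leaf 1313) (.leaf 3190))) (.node (.node (.leaf 917) (.leaf 1535)) (.node (.leaf 2808) (.leaf 4094))))))
def dFin_58 : BT := .node dFin_56 dFin_57
def dFin_59 : BT := .node dFin_55 dFin_58
def dFin_60 : BT := .node dFin_52 dFin_59
def dFin_61 : BT := .node dFin_45 dFin_60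
def dFin_62 : BT := .node dFin_30 dFin_61
def dFin : BT := dFin_62
theorem chk_all : chkAll dD dJS 0 = true := by decide +kernel
theorem chk_fin : chkFin dD 176 dJS.length dLive dPos dFin = true := by decide +kernel
end Cfsg.Agent.Lib.Helper66.M22Pres
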