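import Cfsg.Agent.Lib.Helper66.TCE

set_option autoImplicit false
set_option maxRecDepth 100000
namespace Cfsg.Agent.Lib.Helper66.M22Up
open Cfsg.Agent.Lib.Helper66.TCE
def dF_0 : BT := .node (.node (.node (.node (.node (.node (.node (.leaf 0) (.leaf 1014686421402)) (.leaf 830002527496)) (.node (.leaf 242665790873) (.leaf 1379758534529))) (.node (.node (.node (.leaf 253939969558) (.leaf 1328218852362)) (.leaf 658740880004)) (.node (.leaf 673236284173) (.leaf 1105417617416)))) (.node (.node (.node (.node (.leaf 15032387584) (.leaf 1573031899546)) (.leaf 979789648017)) (.node (.leaf 562103978903) (.leaf 955093720448))) (.node (.node (.leaf 399432001412) (.leaf 440234401690)) (.node (.leaf 766651844481) (.leaf 1354525541121))))) (.node (.node (.node (.node (.node (.leaf 17716764550) (.leaf 8053065625)) (.leaf 904090831381)) (.node (.leaf 293131587859) (.leaf 891206061442))) (.node (.node (.leaf 132070320280) (.leaf 1221381497610)) (.node (.leaf 53150232977) (.leaf 1813550286474)))) (.node (.node (.node (.node (.leaf 215285286927) (.leaf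 1234803292423)) (.leaf 1059783432983)) (.node (.leaf 264677503232) (.leaf 1032940027910))) (.node (.node (.leaf 486405162113) (.leaf 1307817728259)) (.node (.leaf 185757379861) (.leaf 629212926746)))))) (.node (.node (.node (.node (.node (.node (.leaf 53150222214) (.leaf 331786302745)) (.leaf 440771225096)) (.node (.leaf 59055814554) (.leaf 852014475136))) (.node (.node (.leaf 280246643723) (.leaf 686658177560)) (.node (.leaf 332323265154) (.leaf 1138703625624)))) (.node (.node (.node (.node (.leaf 185220475272) (.leaf 759135650585)) (.leaf 579820828800)) (.node (.leaf 223875223695) (.leaf 991064084760))) (.node (.node (.leaf 193810503700) (.leaf 765041267722)) (.node (.leaf 798327236497) (.leaf 1424855801370))))) (.node (.node (.node (.node (.node (.leaf 147102639106) (.leaf 817117722905)) (.leaf 513785686404)) (.node (.leaf 365609128458) (.leaf 1500017640456))) (.node (.node (.leaf 359703548297) (.leaf 1261646822658)) (.node (.leaf 733365840652) (.leaf 693100534042)))) (.node (.node (.node (.node (.leaf 246960677005) (.leaf 1228360978050))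 (.leaf 643708486144)) (.node (.leaf 278099284490) (.leaf 1672890014338))) (.node (.node (.leaf 534723481992) (.leaf 1343788212480)) (.node (.leaf 710280385940) (.leaf 344671301530))))))
def dF_1 : BT := .node (.node (.node (.node (.node (.node (.node (.leaf 25769809926) (.leaf 363998664090)) (.leaf 426275706008)) (.node (.leaf 598074279943) (.leaf 1396401442310))) (.node (.node (.node (.leaf 262529928471) (.leaf 1212791725449)) (.leaf 1156957091073)) (.node (.leaf 694711034883) (.leaf 1743757025671)))) (.node (.node (.node (.node (.leaf 45634048780) (.leaf 243202657025)) (.leaf 562104082952)) (.node (.leaf 336618142099) (.leaf 1573032004098))) (.node (.node (.leaf 418222521622) (.leaf 784368658690)) (.node (.leaf 374199212802) (.leaf 1335198211354))))) (.node (.node (.node (.node (.node (.leaf 121869704964) (.leaf 921807540616)) (.leaf 918049478423)) (.node (.leaf 476741483674) (.leaf 1478005972352))) (.node (.node (.leaf 146028969222) (.leaf 1240171983362)) (.node (.leaf 409095732496) (.leaf 1174673919770)))) (.node (.node (.node (.node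 (.leaf 230854545807) (.leaf 1130650297479)) (.leaf 1077500070536)) (.node (.leaf 621696664333) (.leaf 224949274906))) (.node (.node (.leaf 509490548235) (.leaf 795643008920)) (.node (.leaf 277025456661) (.leaf 331249564570)))))) (.node (.node (.node (.node (.node (.node (.leaf 79993769480) (.leaf 209916576665)) (.leaf 882615989633)) (.node (.leaf 397284521216) (.leaf 1439887992326))) (.node (.node (.leaf 118648542337) (.leaf 1203127890433)) (.node (.leaf 110595472154) (.leaf 1162325951129)))) (.node (.node (.node (.node (.leaf 70330135938) (.leaf 1104343678857)) (.leaf 1042066585227)) (.node (.leaf 426812476823) (.leaf 1622424136456))) (.node (.node (.leaf 206158541081) (.leaf 768262582400)) (.node (.leaf 30064940314) (.leaf 1084479524378))))) (.node (.node (.node (.node (.node (.leaf 174483057152) (.leaf 352724273285)) (.leaf 958314703104)) (.node (.leaf 198105415194) (.leaf 933082007304))) (.node (.node (.leaf 158913880449) (.leaf 762357001240)) (.node (.leaf 352724368385) (.leaf 896037765763)))) (.node (.node (.node (.node (.leaf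 54224017434) (.leaf 955093580167)) (.leaf 1009317581960)) (.node (.leaf 289373577748) (.leaf 1297617397768))) (.node (.node (.leaf 236760204548) (.leaf 816580982660)) (.node (.leaf 809601528339) (.leaf 893890249990))))))
def dF_2 : BT := .node dF_0 dF_1
def dF_3 : BT := .node (.node (.node (.node (.node (.node (.node (.leaf 536873617) (.leaf 54223975065)) (.leaf 839129435543)) (.node (.leaf 252329469574) (.leaf 1387811506954))) (.node (.node (.node (.leaf 258234952846) (.leaf 955093580165)) (.leaf 663035849240)) (.node (.leaf 309237808920) (.leaf 1115618167814)))) (.node (.node (.node (.node (.leaf 79993773069) (.leaf 860067542298)) (.leaf 989453223683)) (.node (.leaf 173946203393) (.leaf 962073045656))) (.node (.node (.leaf 408558807044) (.leaf 198642345099)) (.node (.leaf 774167942277) (.leaf 519154543770))))) (.node (.node (.node (.node (.node (.leaf 114890383107) (.leaf 1350767462426)) (.leaf 485868392729)) (.node (.leaf 276488585623) (.leaf 1468879029508))) (.node (.node (.leaf 331786258560) (.leaf 1230508423703)) (.node (.leaf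 675383768336) (.leaf 1498943825690)))) (.node (.node (.node (.node (.leaf 220653958537) (.leaf 1751273071770)) (.leaf 625454867338)) (.node (.leaf 610959161864) (.leaf 1041529965194))) (.node (.node (.leaf 498753128715) (.leaf 1316944636825)) (.node (.leaf 355945499541) (.leaf 893890281625)))))) (.node (.node (.node (.node (.node (.node (.leaf 9126821518) (.leaf 710280342016)) (.leaf 818191478018)) (.node (.leaf 6442452495) (.leaf 1429150690695))) (.node (.node (.leaf 288299709187) (.leaf 1189706106628)) (.node (.leaf 127238479002) (.leaf 1775969400193)))) (.node (.node (.node (.node (.leaf 92341843208) (.leaf 712964776075)) (.leaf 603443151618)) (.node (.leaf 361851045895) (.leaf 1001801505538))) (.node (.node (.leaf 198642344964) (.leaf 1058709589513)) (.node (.leaf 729607669893) (.leaf 941671804169))))) (.node (.node (.node (.node (.node (.leaf 37044131346) (.leaf 1460826162458)) (.leaf 947577385615)) (.node (.leaf 287226033434) (.leaf 1508607622417))) (.node (.node (.leaf 153545168904) (.leaf 1273994855044)) (.node (.leaf 743566297088)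 (.leaf 1682553723778)))) (.node (.node (.node (.node (.leaf 252866259332) (.leaf 1363115570585)) (.leaf 650150939136)) (.node (.leaf 285078608144) (.leaf 1068910386840))) (.node (.node (.leaf 546534713747) (.leaf 813359754880)) (.node (.leaf 744103168641) (.leaf 1170915496858))))))
def dF_4 : BT := .node (.node (.node (.node (.node (.node (.node (.leaf 39191579136) (.leaf 947577343879)) (.leaf 428423191960)) (.node (.leaf 60666421914) (.leaf 1407138861194))) (.node (.node (.leaf 251255651353) (.leaf 1006633238406)) (.node (.leaf 707595939477) (.leaf 1130650558616)))) (.node (.node (.node (.node (.leaf 43486585873) (.leaf 1134945527450)) (.leaf 1009854320776)) (.node (.leaf 208305957761) (.leaf 981937276936))) (.node (.node (.leaf 430570516491) (.leaf 1064078213914)) (.node (.leaf 790274170899) (.leaf 224948981128))))) (.node (.node (.node (.node (.node (.leaf 30601674388) (.leaf 428959929347)) (.leaf 497679556234)) (.node (.leaf 19) (.leaf 1309965380610))) (.node (.node (.leaf 350039870613) (.leaf 1251983265299)) (.node (.leaf 406948323718)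 (.leaf 941671859736)))) (.node (.node (.node (.node (.leaf 64961436676) (.leaf 1133871596679)) (.leaf 633507935498)) (.node (.leaf 629212858903) (.leaf 889595226368))) (.node (.node (.leaf 520228036608) (.leaf 885300335363)) (.node (.leaf 534186684821) (.leaf 1364726088715)))))) (.node (.node (.node (.node (.node (.node (.leaf 91268059651) (.leaf 1040992963610)) (.leaf 893890281621)) (.node (.leaf 146565793939) (.leaf 1446330445062))) (.node (.node (.leaf 307090222469) (.leaf 1210644077450)) (.node (.leaf 185757437978) (.leaf 1174673984920)))) (.node (.node (.node (.node (.leaf 206158477964) (.leaf 855772403843)) (.leaf 616328058008)) (.node (.leaf 496605679750) (.leaf 1634772168968))) (.node (.node (.leaf 474057064968) (.leaf 1297617178378)) (.node (.leaf 118111670938) (.leaf 266825037210))))) (.node (.node (.node (.node (.node (.leaf 89657453338) (.leaf 792958457857)) (.leaf 526670595456)) (.node (.leaf 482647064973) (.leaf 1001801486212))) (.node (.node (.leaf 173946268294) (.leaf 916975704843)) (.node (.leaf 758598779543) (.leaf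 1801739145112)))) (.node (.node (.node (.node (.leaf 207769086860) (.leaf 1338956474249)) (.leaf 1128502926093)) (.node (.leaf 663035734413) (.leaf 1101659518212))) (.node (.node (.leaf 241055174658) (.leaf 828391965573)) (.node (.leaf 819801980032) (.leaf 403727121050))))))
def dF_5 : BT := .node dF_3 dF_4
def dF_6 : BT := .node dF_2 dF_5
def dF_7 : BT := .node (.node (.node (.node (.node (.node (.node (.leaf 4294968324) (.leaf 1184874463258)) (.leaf 478889052806)) (.node (.leaf 587336912909) (.leaf 1383516538498))) (.node (.node (.node (.leaf 256087466771) (.leaf 1508607661828)) (.leaf 659277751704)) (.node (.leaf 679678647554) (.leaf 1111860069892)))) (.node (.node (.node (.node (.leaf 536871190) (.leaf 1115081150105)) (.leaf 554051016200)) (.node (.leaf 146028922903) (.leaf 1551020293384))) (.node (.node (.leaf 402653227527) (.leaf 440234318617)) (.node (.leaf 769873071383) (.leaf 1411433948442))))) (.node (.node (.node (.node (.node (.leaf 23622346137) (.leaf 496605680265)) (.leaf 906775186581)) (.node (.leaf 44023425293) (.leaf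 1463510455063))) (.node (.node (.leaf 139049643673) (.leaf 1227823949578)) (.node (.leaf 208305963537) (.leaf 1075889589636)))) (.node (.node (.node (.node (.leaf 191126055440) (.leaf 1478542844058)) (.leaf 624917995782)) (.node (.leaf 606127324544) (.leaf 1238024717578))) (.node (.node (.leaf 492847613463) (.leaf 1312649691779)) (.node (.leaf 267898730010) (.leaf 947577587610)))))) (.node (.node (.node (.node (.node (.node (.leaf 55834589184) (.leaf 309774590089)) (.leaf 445066193416)) (.node (.leaf 37044101775) (.leaf 1421097622658))) (.node (.node (.leaf 284004778895) (.leaf 1184337397505)) (.node (.leaf 335544491528) (.leaf 1773284942464)))) (.node (.node (.node (.node (.leaf 190052337686) (.leaf 645855911560)) (.leaf 599685054342)) (.node (.leaf 341449934858) (.leaf 1604707538177))) (.node (.node (.leaf 198105472642) (.leaf 753230069120)) (.node (.leaf 389231602826) (.leaf 197568543130))))) (.node (.node (.node (.node (.node (.leaf 153008246551) (.leaf 649613958425)) (.leaf 942208573320)) (.node (.leaf 374199082119) (.leaf 923955198082)))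 (.node (.node (.leaf 153008297241) (.leaf 1269163016324)) (.node (.leaf 345208172802) (.leaf 690953099526)))) (.node (.node (.node (.node (.leaf 250718742278) (.leaf 1343788152448)) (.leaf 645855970692)) (.node (.leaf 286689220358) (.leaf 1065689160200))) (.node (.node (.leaf 542776614799) (.leaf 807991043992)) (.node (.leaf 772557426580) (.leaf 1424855613338))))))
def dF_8 : BT := .node (.node (.node (.node (.node (.node (.node (.leaf 31675386113) (.leaf 28454165145)) (.leaf 851477368326)) (.node (.leaf 70330106394) (.leaf 1403380898573))) (.node (.node (.node (.leaf 110058600468) (.leaf 1817308470417)) (.leaf 675383884936)) (.node (.leaf 701690357890) (.leaf 1277216316166)))) (.node (.node (.node (.node (.leaf 64961404815) (.leaf 1390495875210)) (.leaf 563714697092)) (.node (.leaf 185757379855) (.leaf 1579474599699))) (.node (.node (.leaf 423591250455) (.leaf 1057099081352)) (.node (.leaf 788126671115) (.leaf 411243314714))))) (.node (.node (.node (.node (.node (.leaf 128849049355) (.leaf 370977980425)) (.leaf 496605813512)) (.node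 (.leaf 505732520986) (.leaf 906775324162))) (.node (.node (.leaf 345208041866) (.leaf 1245540693255)) (.node (.leaf 373662243856) (.leaf 1173600119942)))) (.node (.node (.node (.node (.leaf 218506516752) (.leaf 1127429218689)) (.leaf 1081795038086)) (.node (.leaf 625454761615) (.leaf 1120449963392))) (.node (.node (.leaf 222801551238) (.leaf 845571897730)) (.node (.leaf 454729812230) (.leaf 877247425690)))))) (.node (.node (.node (.node (.node (.node (.leaf 86973107851) (.leaf 1313723242266)) (.leaf 457414229145)) (.node (.leaf 263603674522) (.leaf 1443109228932))) (.node (.node (.leaf 302795265295) (.leaf 1207959722754)) (.node (.leaf 272730570906) (.leaf 1796370350598)))) (.node (.node (.node (.node (.leaf 202400346123) (.leaf 1389959122567)) (.leaf 1038845464454)) (.node (.leaf 462782773898) (.leaf 1628866732545))) (.node (.node (.leaf 469762155533) (.leaf 1293322210314)) (.node (.leaf 184146822170) (.leaf 879931627546))))) (.node (.node (.node (.node (.node (.leaf 6442480794) (.leaf 241055110667)) (.leaf 963146542468)) (.node (.leaf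 436476155533) (.leaf 940061330200))) (.node (.node (.leaf 163208848516) (.leaf 985158382490)) (.node (.leaf 755377458050) (.leaf 673236286347)))) (.node (.node (.node (.node (.leaf 65498267027) (.leaf 905701499268)) (.leaf 1125818570899)) (.node (.leaf 658740678918) (.leaf 1699733567753))) (.node (.node (.leaf 560493289233) (.leaf 817654725768)) (.node (.leaf 816043890310) (.leaf 43486554265))))))
def dF_9 : BT := .node dF_7 dF_8
def dF_10 : BT := .node (.node (.node (.node (.node (.node (.node (.leaf 18253611530) (.leaf 37044131610)) (.leaf 841813790739)) (.node (.leaf 594316212493) (.leaf 1390495993621))) (.node (.node (.node (.leaf 260382442253) (.leaf 1138703437961)) (.leaf 1150514523400)) (.node (.leaf 690416157455) (.leaf 1125281845762)))) (.node (.node (.node (.node (.leaf 43486564630) (.leaf 905701581338)) (.leaf 994821933828)) (.node (.leaf 296352814103) (.leaf 1556389146752))) (.node (.node (.leaf 184146821640) (.leaf 829465754521)) (.node (.leaf 778999780489) (.leaf 575525752986))))) (.node (.node (.node (.node (.node (.leaf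 28454185876) (.leaf 127775562266)) (.leaf 914828252183)) (.node (.leaf 403727022093) (.leaf 1473710889601))) (.node (.node (.leaf 336081270016) (.leaf 1235340144646)) (.node (.leaf 361314209937) (.leaf 684510637722)))) (.node (.node (.node (.node (.leaf 54224016537) (.leaf 992674732698)) (.leaf 1073742079744)) (.node (.leaf 615791082895) (.leaf 1048509288600))) (.node (.node (.leaf 503048129801) (.leaf 1323923857416)) (.node (.leaf 284541651221) (.leaf 426275701257)))))) (.node (.node (.node (.node (.node (.node (.leaf 9663694104) (.leaf 272193699098)) (.leaf 877784048900)) (.node (.leaf 110595434255) (.leaf 1434519281926))) (.node (.node (.leaf 291520934535) (.leaf 700079954824)) (.node (.leaf 7516204314) (.leaf 1151588531210)))) (.node (.node (.node (.node (.leaf 77846282522) (.leaf 645855861123)) (.leaf 1038308488839)) (.node (.leaf 514859327375) (.leaf 1615981684231))) (.node (.node (.leaf 199179217547) (.leaf 1075352646016)) (.node (.leaf 8053254682) (.leaf 968515352090))))) (.node (.node (.node (.node (.node (.leaf 168040628358)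 (.leaf 839129568282)) (.leaf 952945992836)) (.node (.leaf 133680934937) (.leaf 928787038852))) (.node (.node (.leaf 373125322631) (.leaf 761283258504)) (.node (.leaf 746250745615) (.leaf 1663226480410)))) (.node (.node (.node (.node (.leaf 87509985154) (.leaf 1386200821402)) (.leaf 1116154892175)) (.node (.leaf 649613903488) (.leaf 1078037193752))) (.node (.node (.leaf 550292768781) (.leaf 815507240072)) (.node (.leaf 806917173137) (.leaf 795642842754))))))
def dF_11 : BT := .node (.node (.node (.node (.node (.node (.node (.leaf 7516203786) (.leaf 690953028491)) (.leaf 860067305096)) (.node (.leaf 267898648979) (.leaf 1413044442630))) (.node (.node (.leaf 112206086036) (.leaf 682363208842)) (.node (.leaf 712427782144) (.leaf 1760399991170)))) (.node (.node (.node (.node (.leaf 179851797248) (.leaf 762356881546)) (.leaf 616328048898)) (.node (.leaf 214748416013) (.leaf 1593970092806))) (.node (.node (.leaf 434328648855) (.leaf 848256244506)) (.node (.leaf 794569039876) (.leaf 278099234569))))) (.node (.node (.node (.node (.node (.leaf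 141197058058) (.leaf 530428553859)) (.leaf 930934382720)) (.node (.leaf 581968209306) (.leaf 1494111966216))) (.node (.node (.leaf 151934552970) (.leaf 751082705433)) (.node (.leaf 340376331650) (.leaf 1083942530309)))) (.node (.node (.node (.node (.leaf 241055096833) (.leaf 1738388290842)) (.leaf 1094143071108)) (.node (.leaf 632970871426) (.leaf 1526324366725))) (.node (.node (.leaf 527207361165) (.leaf 805306687384)) (.node (.leaf 567472689300) (.leaf 525596853274)))))) (.node (.node (.node (.node (.node (.node (.leaf 16643021202) (.leaf 370977888665)) (.leaf 898722120977)) (.node (.leaf 375272858266) (.leaf 1450625414026))) (.node (.node (.leaf 314069514891) (.leaf 723165408392)) (.node (.leaf 28991036177) (.leaf 1807644791553)))) (.node (.node (.node (.node (.leaf 52613399696) (.leaf 906238438682)) (.leaf 1057635902081)) (.node (.leaf 520764837898) (.leaf 1642288401286))) (.node (.node (.leaf 208842899480) (.leaf 774705036808)) (.node (.leaf 375272956826) (.leaf 1625645362439))))) (.node (.node (.node (.node (.node (.leaf 126164696971)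 (.leaf 840740181914)) (.leaf 973883960842)) (.node (.leaf 505732519703) (.leaf 1535451034250))) (.node (.node (.leaf 393526458515) (.leaf 602369344773)) (.node (.leaf 762356876813) (.leaf 1629403600394)))) (.node (.node (.node (.node (.leaf 117037901454) (.leaf 1752346949641)) (.leaf 657667137432)) (.node (.leaf 667867486080) (.leaf 1712618472453))) (.node (.node (.leaf 243202659842) (.leaf 1375463478528)) (.node (.leaf 408022089860) (.leaf 922344313498))))))
def dF_12 : BT := .node dF_10 dF_11
def dF_13 : BT := .node dF_9 dF_12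
def dF_14 : BT := .node dF_6 dF_13
def dF_15 : BT := .node (.node (.node (.node (.node (.node (.node (.leaf 1610612759) (.leaf 1774358564378)) (.leaf 832686898438)) (.node (.leaf 585189427981) (.leaf 830002759430))) (.node (.node (.node (.leaf 127238466952) (.leaf 926102744602)) (.leaf 659277751430)) (.node (.leaf 675920549384) (.leaf 1721208408068)))) (.node (.node (.node (.node (.leaf 30601649430) (.leaf 331249417734)) (.leaf 535260533640)) (.node (.leaf 571767657613) (.leaf 956167463430))) (.node (.node (.leaf 401042650255) (.leaf 874026061571)) (.node (.leaf 768799329297) (.leaf 1258962636568))))) (.node (.node (.node (.node (.node (.leaf 105226715532) (.leaf 710280385945)) (.leaf 905701444500)) (.node (.leaf 309237719063) (.leaf 892816674952))) (.node (.node (.leaf 321585716102) (.leaf 727460377624)) (.node (.leaf 278099284634) (.leaf 1815160840322)))) (.node (.node (.node (.node (.leaf 120795984154) (.leaf 1515050012058)) (.leaf 1063004554116)) (.node (.leaf 264677503624) (.leaf 1036698125062))) (.node (.node (.leaf 209916643609)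 (.leaf 792421778432)) (.node (.leaf 53687104021) (.leaf 1058172785178)))))) (.node (.node (.node (.node (.node (.node (.leaf 8053077136) (.leaf 768799256320)) (.leaf 867583503622)) (.node (.leaf 245350023562) (.leaf 1211717868806))) (.node (.node (.leaf 282394165773) (.leaf 1182189913088)) (.node (.leaf 332323265688) (.leaf 1771137411208)))) (.node (.node (.node (.node (.leaf 187904847104) (.leaf 574988804489)) (.leaf 599148182666)) (.node (.leaf 224948965779) (.leaf 993748440196))) (.node (.node (.leaf 197568600840) (.leaf 1256278114074)) (.node (.leaf 382789151256) (.leaf 409632586138))))) (.node (.node (.node (.node (.node (.leaf 36507258114) (.leaf 9126807705)) (.leaf 940597960458)) (.node (.leaf 370977874433) (.leaf 1500017686147))) (.node (.node (.leaf 153008296322) (.leaf 753767062410)) (.node (.leaf 738197586823) (.leaf 1182726975769)))) (.node (.node (.node (.node (.leaf 248571290124) (.leaf 1228897944836)) (.leaf 1103269877640)) (.node (.leaf 278636156176) (.leaf 1059246708632))) (.node (.node (.leaf 225485911562) (.leaf 1345398805635))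 (.node (.leaf 407485119380) (.leaf 486405132442))))))
def dF_16 : BT := .node (.node (.node (.node (.node (.node (.node (.leaf 6442457990) (.leaf 892816581510)) (.leaf 848256242560)) (.node (.leaf 600758691589) (.leaf 1401233280906))) (.node (.node (.node (.leaf 110058599944) (.leaf 1816771599375)) (.leaf 1160715077512)) (.node (.leaf 697932317184) (.leaf 1745904474754)))) (.node (.node (.node (.node (.leaf 138512726925) (.leaf 1018981128090)) (.leaf 562640954521)) (.node (.leaf 184146766739) (.leaf 1577863842946))) (.node (.node (.leaf 420906839943) (.leaf 599148087045)) (.node (.leaf 785979104392) (.leaf 1372779031706))))) (.node (.node (.node (.node (.node (.leaf 125090930055) (.leaf 933618680730)) (.leaf 920733730953)) (.node (.leaf 218506497553) (.leaf 906238452742))) (.node (.node (.leaf 146028969744) (.leaf 1242856337924)) (.node (.leaf 567472689296) (.leaf 996969507847)))) (.node (.node (.node (.node (.leaf 232465141004) (.leaf 1253057013530)) (.leaf 1078573827848)) (.node (.leaf 624381019533) (.leaf 519691405338))) (.node (.node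 (.leaf 219580325122) (.leaf 1334661277835)) (.node (.leaf 624380977671) (.leaf 761283170714)))))) (.node (.node (.node (.node (.node (.node (.leaf 15032405529) (.leaf 686658060185)) (.leaf 456340486424)) (.node (.leaf 212600931994) (.leaf 1440961741063))) (.node (.node (.leaf 119185414169) (.leaf 1205812238468)) (.node (.leaf 285078608154) (.leaf 1793685994760)))) (.node (.node (.node (.node (.leaf 198642248450) (.leaf 753767024002)) (.leaf 1044750940675)) (.node (.leaf 441307994903) (.leaf 1625108635527))) (.node (.node (.leaf 204011058178) (.leaf 768262582920)) (.node (.leaf 37580965529) (.leaf 1426466268032))))) (.node (.node (.node (.node (.node (.leaf 35970361868) (.leaf 426275929099)) (.leaf 523986239129)) (.node (.leaf 44560313600) (.leaf 1521492431234))) (.node (.node (.leaf 380641566099) (.leaf 1286342887558)) (.node (.leaf 753230069137) (.leaf 1560147100680)))) (.node (.node (.node (.node (.leaf 36507236371) (.leaf 1115081150091)) (.leaf 1124744717186)) (.node (.leaf 657130152978) (.leaf 1695438599812))) (.node (.node (.leaf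 558345837574) (.leaf 1368484149512)) (.node (.leaf 812822754573) (.leaf 309774680218))))))
def dF_17 : BT := .node dF_15 dF_16
def dF_18 : BT := .node (.node (.node (.node (.node (.node (.node (.leaf 16106129164) (.leaf 761820106138)) (.leaf 840740048663)) (.node (.leaf 592705554816) (.leaf 1389958990980))) (.node (.node (.node (.leaf 259308694401) (.leaf 1584306360090)) (.leaf 1146756541463)) (.node (.leaf 687731802253) (.leaf 1709397396888)))) (.node (.node (.node (.node (.leaf 11811164694) (.leaf 1664836874778)) (.leaf 992674552973)) (.node (.leaf 285615393303) (.leaf 965294271896))) (.node (.node (.leaf 180925595648) (.leaf 406948249351)) (.node (.leaf 775778652815) (.leaf 885300340250))))) (.node (.node (.node (.node (.node (.leaf 19327353106) (.leaf 630823472007)) (.leaf 913217607046)) (.node (.leaf 278636069783) (.leaf 1385664174726))) (.node (.node (.leaf 144955225876) (.leaf 737124056196)) (.node (.leaf 621159793296) (.leaf 1809792029082)))) (.node (.node (.node (.node (.leaf 54224015620) (.leaf 1132261001498)) (.leaf 625991738756))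 (.node (.leaf 272193698698) (.leaf 1663763206152))) (.node (.node (.leaf 500900679319) (.leaf 789200555289)) (.node (.leaf 375272856981) (.leaf 43486873754)))))) (.node (.node (.node (.node (.node (.node (.leaf 9126822425) (.leaf 389231504025)) (.leaf 450434903812)) (.node (.leaf 110058543748) (.leaf 1432371798150))) (.node (.node (.leaf 289910352907) (.leaf 693100632066)) (.node (.leaf 127238436485) (.leaf 1147830434072)))) (.node (.node (.node (.node (.leaf 70330093720) (.leaf 1041529757696)) (.leaf 603980023046)) (.node (.leaf 363998565133) (.leaf 997506539018))) (.node (.node (.leaf 454192839683) (.leaf 1283121740291)) (.node (.leaf 338228866074) (.leaf 966368054810))))) (.node (.node (.node (.node (.node (.leaf 37581003012) (.leaf 506269492250)) (.leaf 950798508938)) (.node (.leaf 118648499855) (.leaf 927176425480))) (.node (.node (.leaf 157840136715) (.leaf 759672644996)) (.node (.leaf 745176939522) (.leaf 1191316864256)))) (.node (.node (.node (.node (.leaf 1073744666) (.leaf 1277753002522)) (.leaf 649077198338)) (.node (.leaf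 647466474259) (.leaf 1685238049284))) (.node (.node (.leaf 548682198669) (.leaf 1358820471944)) (.node (.leaf 486942099329) (.leaf 782221107738))))))
def dF_19 : BT := .node (.node (.node (.node (.node (.node (.node (.leaf 7516203136) (.leaf 1324997630618)) (.leaf 858456782726)) (.node (.leaf 111132305050) (.leaf 1410360089862))) (.node (.node (.leaf 112206085380) (.leaf 1170378867215)) (.node (.leaf 710280385935) (.leaf 1133871785098)))) (.node (.node (.node (.node (.leaf 178778055168) (.leaf 1048509302794)) (.leaf 1011465039373)) (.node (.leaf 487478905626) (.leaf 1592359359752))) (.node (.node (.leaf 186294309634) (.leaf 1080721296282)) (.node (.leaf 792958526093) (.leaf 653908908167))))) (.node (.node (.node (.node (.node (.leaf 138512704390) (.leaf 403190199434)) (.leaf 505732620424)) (.node (.leaf 568546431514) (.leaf 1492501353092))) (.node (.node (.leaf 352724244618) (.leaf 1253057007377)) (.node (.leaf 336618234904) (.leaf 1593969963674)))) (.node (.node (.node (.node (.leaf 237833870344) (.leaf 1269699972738)) (.leaf 634581677952))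 (.node (.leaf 277025541002) (.leaf 1208496789258))) (.node (.node (.leaf 223875295361) (.leaf 1337882631700)) (.node (.leaf 606127404180) (.leaf 693100513050)))))) (.node (.node (.node (.node (.node (.node (.leaf 16643020678) (.leaf 370977847557)) (.leaf 473520358410)) (.node (.leaf 157840085775) (.leaf 1448477931268))) (.node (.node (.leaf 127775351042) (.leaf 1212791679379)) (.node (.leaf 52613399706) (.leaf 1178432082050)))) (.node (.node (.node (.node (.leaf 208305963393) (.leaf 1265941790234)) (.leaf 861678065433)) (.node (.leaf 515396198423) (.leaf 1018444510596))) (.node (.node (.leaf 477278340225) (.leaf 1299227791624)) (.node (.leaf 362388049306) (.leaf 441307987078))))) (.node (.node (.node (.node (.node (.leaf 111669176587) (.leaf 242128919322)) (.leaf 972273453463)) (.node (.leaf 53150232979) (.leaf 1531692937354))) (.node (.node (.leaf 173946268816) (.leaf 1032402945306)) (.node (.leaf 761283134733) (.leaf 1621887301018)))) (.node (.node (.node (.node (.leaf 206158477970) (.leaf 1744293773978)) (.leaf 1130650410256)) (.node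 (.leaf 665720088576) (.leaf 1102196389896))) (.node (.node (.leaf 569620172289) (.leaf 913754546305)) (.node (.leaf 407485218312) (.leaf 285615480602))))))
def dF_20 : BT := .node dF_18 dF_19
def dF_21 : BT := .node dF_17 dF_20
def dF_22 : BT := .node (.node (.node (.node (.node (.node (.node (.leaf 9126805640) (.leaf 1428613761539)) (.leaf 838055693453)) (.node (.leaf 589484398477) (.leaf 1385127167494))) (.node (.node (.node (.leaf 89120632704) (.leaf 1369021224711)) (.leaf 675920750464)) (.node (.leaf 309237808132) (.leaf 1727650860298)))) (.node (.node (.node (.node (.leaf 17716742287) (.leaf 838055824922)) (.leaf 987305793799)) (.node (.leaf 151934504339) (.leaf 1110249416578))) (.node (.node (.leaf 405337582089) (.leaf 879394661656)) (.node (.leaf 772557426573) (.leaf 426812768282))))) (.node (.node (.node (.node (.node (.leaf 28454185096) (.leaf 193810445465)) (.leaf 909459440772)) (.node (.leaf 144955180815) (.leaf 895501030786))) (.node (.node (.leaf 328565030793) (.leaf 1228897810578)) (.node (.leaf 277562327697) (.leaf 209916770586))))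 (.node (.node (.node (.node (.leaf 217969604487) (.leaf 1137629876506)) (.leaf 625454866820)) (.node (.leaf 267898730004) (.leaf 1040993093378))) (.node (.node (.leaf 214211612056) (.leaf 785442457738)) (.node (.leaf 118111628821) (.leaf 1598801812762)))))) (.node (.node (.node (.node (.node (.node (.leaf 62813899527) (.leaf 173946216985)) (.leaf 871878468101)) (.node (.leaf 305479622170) (.leaf 857383186306))) (.node (.node (.leaf 285615367818) (.leaf 690953146634)) (.node (.leaf 721017728898) (.leaf 1711008003994)))) (.node (.node (.node (.node (.leaf 192199821975) (.leaf 1135482249625)) (.leaf 636729147776)) (.node (.leaf 352724273295) (.leaf 1606318006148))) (.node (.node (.leaf 447213576215) (.leaf 851477465227)) (.node (.leaf 805306560015) (.leaf 624917950618))))) (.node (.node (.node (.node (.node (.leaf 157840056966) (.leaf 505732586371)) (.leaf 944356057098)) (.node (.leaf 375809728019) (.leaf 1506460000003))) (.node (.node (.leaf 153545168514) (.leaf 1271310500360)) (.node (.leaf 345208173192) (.leaf 1489817067650)))) (.node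 (.node (.node (.node (.leaf 251792484236) (.leaf 1066762707211)) (.leaf 1107564846208)) (.node (.leaf 284541736842) (.leaf 1087700868102))) (.node (.node (.leaf 544387228687) (.leaf 1351841149446)) (.node (.leaf 436476155540) (.leaf 277025668634))))))
def dF_23 : BT := .node (.node (.node (.node (.node (.node (.node (.leaf 36507228928) (.leaf 487478844547)) (.leaf 853624852356)) (.node (.leaf 112206047375) (.leaf 1404991377418))) (.node (.node (.node (.leaf 267898611464) (.leaf 1817845341184)) (.leaf 675383885209)) (.node (.leaf 704374713219) (.leaf 1750199442944)))) (.node (.node (.node (.node (.leaf 46707780366) (.leaf 1421634474887)) (.leaf 1007169966338)) (.node (.leaf 452582286874) (.leaf 1583769433734))) (.node (.node (.leaf 185757437184) (.leaf 145492307354)) (.node (.leaf 374736084740) (.leaf 562640954266))))) (.node (.node (.node (.node (.node (.leaf 30601673601) (.leaf 214748416025)) (.leaf 497142684804)) (.node (.leaf 554587785370) (.leaf 907312195978))) (.node (.node (.leaf 347355515913) (.leaf 1249298790274)) (.node (.leaf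 721554677775) (.leaf 694711188102)))) (.node (.node (.node (.node (.leaf 234612612992) (.leaf 1251983147657)) (.leaf 632971063944)) (.node (.leaf 627602244865) (.leaf 1502702050176))) (.node (.node (.leaf 517006742145) (.leaf 899795846275)) (.node (.leaf 665720089620) (.leaf 264677422745)))))) (.node (.node (.node (.node (.node (.node (.leaf 16106148616) (.leaf 515933002881)) (.leaf 462246068106)) (.node (.leaf 248571290138) (.leaf 1445256735369))) (.node (.node (.leaf 304942707473) (.leaf 892279651846)) (.node (.leaf 358629925894) (.leaf 1306744228482)))) (.node (.node (.node (.node (.leaf 204010993815) (.leaf 1206349131787)) (.leaf 1049582779659)) (.node (.leaf 485868291213) (.leaf 1631550942854))) (.node (.node (.leaf 472446501261) (.leaf 1296006690583)) (.node (.leaf 53687143962) (.leaf 336618142087))))) (.node (.node (.node (.node (.node (.leaf 6979323916) (.leaf 65498263938)) (.leaf 525596853272)) (.node (.leaf 259845571226) (.leaf 1526324366741))) (.node (.node (.leaf 168577558425) (.leaf 554587768344)) (.node (.leaf 355945595288)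 (.leaf 1787780445850)))) (.node (.node (.node (.node (.leaf 230854545810) (.leaf 1577863929607)) (.leaf 1127429184021)) (.node (.leaf 660351292171) (.leaf 1702954794632))) (.node (.node (.leaf 563177644672) (.leaf 1372779127816)) (.node (.leaf 817117722899) (.leaf 390305384858))))))
def dF_24 : BT := .node dF_22 dF_23
def dF_25 : BT := .node (.node (.node (.node (.node (.node (.node (.leaf 22548580619) (.leaf 696858736410)) (.leaf 426275705346)) (.node (.leaf 259845663624) (.leaf 1394253958534))) (.node (.node (.node (.leaf 261456170376) (.leaf 1714229157250)) (.leaf 669478302214)) (.node (.leaf 692026679810) (.leaf 1138703619200)))) (.node (.node (.node (.node (.leaf 66035137807) (.leaf 1367410511130)) (.leaf 561567211530)) (.node (.leaf 406948248333) (.leaf 1568200164998))) (.node (.node (.leaf 416611872643) (.leaf 866509940505)) (.node (.leaf 782221008256) (.leaf 653372130074))))) (.node (.node (.node (.node (.node (.leaf 119185361291) (.leaf 996432650394)) (.leaf 916438763010)) (.node (.leaf 193810445453) (.leaf 1475321482496)))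 (.node (.node (.leaf 338228735751) (.leaf 1237487747217)) (.node (.leaf 712964741125) (.leaf 689879208586)))) (.node (.node (.node (.node (.leaf 54760887810) (.leaf 839666524442)) (.leaf 1075352693139)) (.node (.leaf 620085968906) (.leaf 1669131915906))) (.node (.node (.leaf 506269390593) (.leaf 1327682081793)) (.node (.leaf 223875223701) (.leaf 526133665306)))))) (.node (.node (.node (.node (.node (.node (.leaf 15032404226) (.leaf 118111671066)) (.leaf 452045517834)) (.node (.leaf 336081284890) (.leaf 1437203637378))) (.node (.node (.leaf 293668458775) (.leaf 1200980399620)) (.node (.leaf 272193617297) (.leaf 1156957240968)))) (.node (.node (.node (.node (.leaf 122943457688) (.leaf 603979952139)) (.leaf 1040456075537)) (.node (.leaf 415001258890) (.leaf 1004485862534))) (.node (.node (.leaf 200252960390) (.leaf 1287416630144)) (.node (.leaf 35970386714) (.leaf 845571883546))))) (.node (.node (.node (.node (.node (.leaf 171261831178) (.leaf 907848942722)) (.leaf 520228141592)) (.node (.leaf 335544413850) (.leaf 935766361348))) (.node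 (.node (.leaf 376346547080) (.leaf 1282047919620)) (.node (.leaf 351650625944) (.leaf 1675037642754)))) (.node (.node (.node (.node (.leaf 88046874394) (.leaf 1641751640218)) (.leaf 1119376007554)) (.node (.leaf 652835098505) (.leaf 1081258419846))) (.node (.node (.leaf 437549924744) (.leaf 1363115570579)) (.node (.leaf 807990915213) (.leaf 144955180825))))))
def dF_26 : BT := .node (.node (.node (.node (.node (.node (.node (.leaf 7516204562) (.leaf 1282047927558)) (.leaf 439697482521)) (.node (.leaf 272730450058) (.leaf 1415728797576))) (.node (.node (.leaf 276488582790) (.leaf 686658176896)) (.node (.leaf 713501521162) (.leaf 1763084346118)))) (.node (.node (.node (.node (.leaf 181999267077) (.leaf 905701444505)) (.leaf 1018444257162)) (.node (.leaf 519691172634) (.leaf 1597191198982))) (.node (.node (.leaf 193810503048) (.leaf 1067836535938)) (.node (.leaf 796179652106) (.leaf 621696718342))))) (.node (.node (.node (.node (.node (.leaf 34896643736) (.leaf 1344325063578)) (.leaf 934155609613)) (.node (.leaf 340913110415) (.leaf 1496796459543)))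 (.node (.node (.leaf 151934553368) (.leaf 752156447876)) (.node (.leaf 730681411716) (.leaf 982474081664)))) (.node (.node (.node (.node (.leaf 244813152523) (.leaf 1612760490240)) (.leaf 1096827425802)) (.node (.leaf 277562413076) (.leaf 1671279542296))) (.node (.node (.leaf 530965385480) (.leaf 1341640728975)) (.node (.leaf 506269390740) (.leaf 922344443802)))))) (.node (.node (.node (.node (.node (.node (.leaf 98784262284) (.leaf 648003345305)) (.leaf 901943245318)) (.node (.leaf 28991036175) (.leaf 888521706250))) (.node (.node (.leaf 315680170259) (.leaf 884763553544)) (.node (.leaf 208306027290) (.leaf 1811402738952)))) (.node (.node (.node (.node (.leaf 213674637318) (.leaf 1445793582338)) (.leaf 621159897606)) (.node (.leaf 529891716503) (.leaf 1028645059976))) (.node (.node (.leaf 483183935895) (.leaf 795643002758)) (.node (.leaf 264140632090) (.leaf 395137357978))))) (.node (.node (.node (.node (.node (.leaf 74088191002) (.leaf 1576790220314)) (.leaf 531502435844)) (.node (.leaf 554050913299) (.leaf 951872493952))) (.node (.node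 (.leaf 396210774921) (.leaf 865436118426)) (.node (.leaf 764504297222) (.leaf 1421634436099)))) (.node (.node (.node (.node (.leaf 253403098510) (.leaf 1328755686810)) (.leaf 1134945378575)) (.node (.leaf 297426645256) (.leaf 1104343874826))) (.node (.node (.leaf 577136289547) (.leaf 826781532952)) (.node (.leaf 827318172806) (.leaf 721554718853))))))
def dF_27 : BT := .node dF_25 dF_26
def dF_28 : BT := .node dF_24 dF_27
def dF_29 : BT := .node dF_21 dF_28
def dF_30 : BT := .node dF_14 dF_29
def dF_31 : BT := .node (.node (.node (.node (.node (.node (.node (.leaf 536871191) (.leaf 1309428438042)) (.leaf 831076269446)) (.node (.leaf 583578739721) (.leaf 1380295373848))) (.node (.node (.node (.leaf 255013739136) (.leaf 1747514983450)) (.leaf 1137092862739)) (.node (.leaf 297963517081) (.leaf 1107028230528)))) (.node (.node (.node (.node (.leaf 83215021466) (.leaf 603443097739)) (.leaf 980863294980)) (.node (.leaf 567472689293) (.leaf 1545651590272))) (.node (.node (.leaf 389768377344) (.leaf 198105471640)) (.node (.leaf 768262361476)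 (.leaf 1705639230848))))) (.node (.node (.node (.node (.node (.leaf 103616090377) (.leaf 340376239371)) (.leaf 905164573461)) (.node (.leaf 138512726938) (.leaf 1459215483648))) (.node (.node (.leaf 163745704326) (.leaf 1222992226561)) (.node (.leaf 54223975057) (.leaf 1814623977731)))) (.node (.node (.node (.node (.leaf 6979363098) (.leaf 1326071468825)) (.leaf 621696769304)) (.node (.leaf 264677503362) (.leaf 1035624382848))) (.node (.node (.leaf 488552579976) (.leaf 1308354668800)) (.node (.leaf 200252897941) (.leaf 1056025301402)))))) (.node (.node (.node (.node (.node (.node (.leaf 54760845964) (.leaf 565861998618)) (.leaf 440771225241)) (.node (.leaf 5905581338) (.leaf 1418413154051))) (.node (.node (.leaf 281320423699) (.leaf 1180579416973)) (.node (.leaf 332323265416) (.leaf 1768989926660)))) (.node (.node (.node (.node (.leaf 186294250767) (.leaf 739271400714)) (.leaf 582505183872)) (.node (.leaf 224412094735) (.leaf 992674697860))) (.node (.node (.leaf 439697324034) (.leaf 772557534979)) (.node (.leaf 799400878089) (.leaf 891206057626)))))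 (.node (.node (.node (.node (.node (.leaf 35970386708) (.leaf 272730488345)) (.leaf 515396299394)) (.node (.leaf 352187402255) (.leaf 1490354009497))) (.node (.node (.leaf 360777290376) (.leaf 1263794306436)) (.node (.leaf 341450075540) (.leaf 1192927256218)))) (.node (.node (.node (.node (.leaf 66035181316) (.leaf 1228897810585)) (.leaf 1102733006724)) (.node (.leaf 639413400576) (.leaf 1059246708490))) (.node (.node (.leaf 224949040280) (.leaf 807454172170)) (.node (.leaf 599684951700) (.leaf 428960060677))))))
def dF_32 : BT := .node (.node (.node (.node (.node (.node (.node (.leaf 27380423042) (.leaf 872952357761)) (.leaf 847182501139)) (.node (.leaf 272193695232) (.leaf 1398548926212))) (.node (.node (.node (.leaf 157840110864) (.leaf 630823472005)) (.leaf 1158567588362)) (.node (.leaf 311385294980) (.leaf 1744830880017)))) (.node (.node (.node (.node (.leaf 137975855886) (.leaf 506269390725)) (.leaf 999653773061)) (.node (.leaf 198105413779) (.leaf 973884209922))) (.node (.node (.leaf 419833153165) (.leaf 1071594586778)) (.node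 (.leaf 785442330752) (.leaf 1413581510810))))) (.node (.node (.node (.node (.node (.leaf 124017187855) (.leaf 739271436163)) (.leaf 488552749322)) (.node (.leaf 209379705615) (.leaf 905701581336))) (.node (.node (.leaf 146028969482) (.leaf 1241782715535)) (.node (.leaf 691489899536) (.leaf 941134946058)))) (.node (.node (.node (.node (.leaf 231391416855) (.leaf 905164662042)) (.leaf 1078036943874)) (.node (.leaf 275951797396) (.leaf 514322557338))) (.node (.node (.leaf 511101228815) (.leaf 1332513793922)) (.node (.leaf 297963427221) (.leaf 110058600602)))))) (.node (.node (.node (.node (.node (.node (.leaf 15032405010) (.leaf 629212858905)) (.leaf 884226501378)) (.node (.leaf 202400382234) (.leaf 1382979812612))) (.node (.node (.leaf 118648542856) (.leaf 1204201742739)) (.node (.leaf 44560330266) (.leaf 1165010306177)))) (.node (.node (.node (.node (.leaf 196494765577) (.leaf 1714766046234)) (.leaf 1043677198848)) (.node (.leaf 428959960973) (.leaf 1007707089048))) (.node (.node (.leaf 446676710037) (.leaf 767725711768)) (.node (.leaf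 153008296986) (.leaf 1085016387482))))) (.node (.node (.node (.node (.node (.leaf 536888090) (.leaf 127238436505)) (.leaf 959925315594)) (.node (.leaf 394600214423) (.leaf 1520418761090))) (.node (.node (.leaf 158913880578) (.leaf 762893872408)) (.node (.leaf 752156327063) (.leaf 1461363053081)))) (.node (.node (.node (.node (.leaf 35970361874) (.leaf 1526324385542)) (.leaf 1123134104197)) (.node (.leaf 656593281935) (.leaf 1311576041734))) (.node (.node (.leaf 236760205080) (.leaf 1366336665738)) (.node (.leaf 811212141453) (.leaf 175020163226))))))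
def dF_33 : BT := .node dF_31 dF_32
def dF_34 : BT := .node (.node (.node (.node (.node (.node (.node (.leaf 1073745408) (.leaf 696321680154)) (.leaf 839666306583)) (.node (.leaf 252329469712) (.leaf 1388885380503))) (.node (.node (.node (.leaf 258771825807) (.leaf 1625645362458)) (.leaf 1145682799233)) (.node (.leaf 686658060183) (.leaf 1731945828998)))) (.node (.node (.node (.node (.leaf 132070277260) (.leaf 1508070741914)) (.leaf 991063836036)) (.node (.leaf 284541651213) (.leaf 1559073361796))) (.node (.node (.leaf 180388724372) (.leaf 822486528538)) (.node (.leaf 774704910739) (.leaf 847182698778))))) (.node (.node (.node (.node (.node (.leaf 49392135834) (.leaf 806917229062)) (.leaf 912143862424)) (.node (.leaf 277562327703) (.leaf 1470489643010))) (.node (.node (.leaf 144955225611) (.leaf 1231582158104)) (.node (.leaf 634044698256) (.leaf 681826330906)))) (.node (.node (.node (.node (.leaf 53687144217) (.leaf 1270773681306)) (.leaf 1069447027587)) (.node (.leaf 612569775121) (.leaf 1659468385280))) (.node (.node (.leaf 500363741834)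 (.leaf 789200555014)) (.node (.leaf 331786302741) (.leaf 1458141651590)))))) (.node (.node (.node (.node (.node (.node (.leaf 68182608521) (.leaf 389231785349)) (.leaf 446139936153)) (.node (.leaf 127775307533) (.leaf 1053341070347))) (.node (.node (.leaf 253403139344) (.leaf 692026889752)) (.node (.leaf 45634074138) (.leaf 1777042992514)))) (.node (.node (.node (.node (.leaf 105763586458) (.leaf 647466569866)) (.leaf 1035087365135)) (.node (.leaf 362924823055) (.leaf 1611149849475))) (.node (.node (.leaf 452045355650) (.leaf 921270737412)) (.node (.leaf 6442483610) (.leaf 1168768207111))))) (.node (.node (.node (.node (.node (.leaf 162671917696) (.leaf 219043553434)) (.leaf 519154398080)) (.node (.leaf 117574757783) (.leaf 926102683272))) (.node (.node (.leaf 154618911001) (.leaf 1275605468291)) (.node (.leaf 474057192582) (.leaf 1495722613131)))) (.node (.node (.node (.node (.leaf 15032393498) (.leaf 1343788187786)) (.leaf 648540327044)) (.node (.leaf 646392646537) (.leaf 1075889709056))) (.node (.node (.leaf 547608456589) (.leaf 1356673117697))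 (.node (.leaf 490163261190) (.leaf 792958694554))))))
def dF_35 : BT := .node (.node (.node (.node (.node (.node (.node (.leaf 41339068417) (.leaf 374199114905)) (.leaf 857383050899)) (.node (.leaf 128312178458) (.leaf 845035151384))) (.node (.node (.leaf 271656708228) (.leaf 1169305086980)) (.node (.leaf 327491425560) (.leaf 1754494411906)))) (.node (.node (.node (.node (.leaf 43486586133) (.leaf 1404991446682)) (.leaf 1010391297299)) (.node (.leaf 476204641050) (.leaf 982474148232))) (.node (.node (.leaf 431644314895) (.leaf 278099281163)) (.node (.leaf 791347900039) (.leaf 1582158814746))))) (.node (.node (.node (.node (.node (.leaf 30601674777) (.leaf 1115617963290)) (.leaf 497679556376)) (.node (.leaf 240518225939) (.leaf 911070293249))) (.node (.node (.leaf 351650483462) (.leaf 1252520136339)) (.node (.leaf 724239032977) (.leaf 1330903265178)))) (.node (.node (.node (.node (.leaf 64961436939) (.leaf 1134945308035)) (.leaf 1089311340173)) (.node (.leaf 277025540872) (.leaf 1454920542234))) (.node (.node (.leaf 522375451520) (.leaf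 805306686848)) (.node (.leaf 637265924500) (.leaf 127775440154)))))) (.node (.node (.node (.node (.node (.node (.leaf 16106149529) (.leaf 925565639561)) (.leaf 462782939782)) (.node (.leaf 152471375373) (.leaf 874026189834))) (.node (.node (.leaf 308163934727) (.leaf 1212254690947)) (.node (.leaf 177704314257) (.leaf 1176821469064)))) (.node (.node (.node (.node (.leaf 46707818643) (.leaf 1422708204297)) (.leaf 1054414619015)) (.node (.leaf 497679454093) (.leaf 1635846058502))) (.node (.node (.leaf 475130870287) (.leaf 1298154101504)) (.node (.leaf 352187497114) (.leaf 462245952261))))) (.node (.node (.node (.node (.node (.leaf 1610612751) (.leaf 690952984581)) (.leaf 529891821440)) (.node (.leaf 503585000977) (.leaf 1284732457222))) (.node (.node (.leaf 173946268554) (.leaf 797790393220)) (.node (.leaf 358629950344) (.leaf 1604707541402)))) (.node (.node (.node (.node (.leaf 190589208723) (.leaf 1363115578243)) (.leaf 1129039684618)) (.node (.leaf 296352901913) (.leaf 1707249820166))) (.node (.node (.leaf 568009559168) (.leaf 985158338059))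 (.node (.leaf 407485218050) (.leaf 45634073882))))))
def dF_36 : BT := .node dF_34 dF_35
def dF_37 : BT := .node dF_33 dF_36
def dF_38 : BT := .node (.node (.node (.node (.node (.node (.node (.leaf 6979323393) (.leaf 449897931545)) (.leaf 836981951383)) (.node (.leaf 246960759816) (.leaf 1029181868313))) (.node (.node (.node (.leaf 257161209741) (.leaf 1432908757514)) (.leaf 661425235586)) (.node (.leaf 681289260683) (.leaf 1726040247812)))) (.node (.node (.node (.node (.leaf 21474846599) (.leaf 1259499407883)) (.leaf 684510647943)) (.node (.leaf 151397633299) (.leaf 959925560960))) (.node (.node (.leaf 404263858059) (.leaf 630286659200)) (.node (.leaf 771483587074) (.leaf 224412282394))))) (.node (.node (.node (.node (.node (.leaf 28454184836) (.leaf 1148903841306)) (.leaf 907312057621)) (.node (.leaf 264677422743) (.leaf 1464584196480))) (.node (.node (.leaf 133680935065) (.leaf 1228360939541)) (.node (.leaf 223338352657) (.leaf 1685775095429)))) (.node (.node (.node (.node (.leaf 53150271890) (.leaf 482647303962)) (.leaf 1066762653312))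 (.node (.leaf 606664194442) (.leaf 1039919351425))) (.node (.node (.leaf 493921353104) (.leaf 1313186438024)) (.node (.leaf 277025541274) (.leaf 632971040154)))))) (.node (.node (.node (.node (.node (.node (.leaf 61740163982) (.leaf 403190302362)) (.leaf 870804725510)) (.node (.leaf 285078549530) (.leaf 1422708120836))) (.node (.node (.leaf 117037926792) (.leaf 927713218434)) (.node (.leaf 720480933760) (.leaf 1343251341978)))) (.node (.node (.node (.node (.leaf 190589208726) (.leaf 1125281699865)) (.leaf 1031866098432)) (.node (.leaf 350576789143) (.leaf 1605244409619))) (.node (.node (.leaf 198105472904) (.leaf 1263794428160)) (.node (.leaf 803695946903) (.leaf 462246050714))))) (.node (.node (.node (.node (.node (.leaf 36507259154) (.leaf 753766940185)) (.leaf 762893790727)) (.node (.leaf 374735985943) (.leaf 1504849522073))) (.node (.node (.leaf 366682919063) (.leaf 1269700009621)) (.node (.leaf 740345164183) (.leaf 1596654472962)))) (.node (.node (.node (.node (.leaf 251255613199) (.leaf 1202054231687)) (.leaf 645855970824)) (.node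 (.leaf 422517502213) (.leaf 1066226031257))) (.node (.node (.leaf 543313485843) (.leaf 1349693665796)) (.node (.leaf 752156327060) (.leaf 634044698265))))))
def dF_39 : BT := .node (.node (.node (.node (.node (.node (.node (.leaf 6442459156) (.leaf 309237675784)) (.leaf 852551110154)) (.node (.leaf 270583004314) (.leaf 1403917635714))) (.node (.node (.node (.leaf 110058600729) (.leaf 1328219069572)) (.leaf 1165010156813)) (.node (.leaf 702764099721) (.leaf 1748588831872)))) (.node (.node (.node (.node (.leaf 158913827735) (.leaf 284541648388)) (.leaf 563714697369)) (.node (.leaf 197568542735) (.leaf 1581085069061))) (.node (.node (.leaf 425201808773) (.leaf 110595553818)) (.node (.leaf 784905460762) (.leaf 441307998618))))) (.node (.node (.node (.node (.node (.leaf 30064802328) (.leaf 151934504345)) (.leaf 922881216138)) (.node (.leaf 219043453721) (.leaf 906775324554))) (.node (.node (.leaf 346281776386) (.leaf 1247688215809)) (.node (.leaf 721017728905) (.leaf 298500362648)))) (.node (.node (.node (.node (.leaf 60129597841) (.leaf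 1467805344904)) (.leaf 1083405718916)) (.node (.leaf 625991632659) (.leaf 950261639681))) (.node (.node (.leaf 515933000970) (.leaf 406948346650)) (.node (.leaf 691489899540) (.leaf 847182501131)))))) (.node (.node (.node (.node (.node (.node (.leaf 88046833412) (.leaf 629212782599)) (.leaf 462246067592)) (.node (.leaf 536871053) (.leaf 1376000491656))) (.node (.node (.leaf 303869007379) (.leaf 872415430148)) (.node (.leaf 127775307537) (.leaf 1797444096387)))) (.node (.node (.node (.node (.leaf 203474122767) (.leaf 1212791582852)) (.leaf 1048509141137)) (.node (.leaf 474593999373) (.leaf 1629940332934))) (.node (.node (.leaf 206158542726) (.leaf 1294395952649)) (.node (.leaf 45634038421) (.leaf 847182645402))))) (.node (.node (.node (.node (.node (.leaf 536873230) (.leaf 311385289992)) (.leaf 965294025096)) (.node (.leaf 206158477978) (.leaf 1525787356299))) (.node (.node (.leaf 163208848920) (.leaf 992137596289)) (.node (.leaf 755914424337) (.leaf 1699196863233)))) (.node (.node (.node (.node (.leaf 246423805971) (.leaf 1230508398595))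 (.leaf 1126892201729)) (.node (.leaf 659277637133) (.leaf 1701344181634))) (.node (.node (.leaf 562103902212) (.leaf 818191596934)) (.node (.leaf 816580753410) (.leaf 340376314010))))))
def dF_40 : BT := .node dF_38 dF_39
def dF_41 : BT := .node (.node (.node (.node (.node (.node (.node (.leaf 1073746708) (.leaf 157840136986)) (.leaf 842350661777)) (.node (.leaf 594853083543) (.leaf 838592696449))) (.node (.node (.node (.leaf 93952471816) (.leaf 1125818545282)) (.leaf 1140850962560)) (.node (.leaf 310311552004) (.leaf 1125818716932)))) (.node (.node (.node (.node (.leaf 145492037894) (.leaf 753766940165)) (.leaf 995358804994)) (.node (.leaf 297963427213) (.leaf 1566052815626))) (.node (.node (.leaf 184146821899) (.leaf 1081795145600)) (.node (.leaf 370977986324) (.leaf 223875583258))))) (.node (.node (.node (.node (.node (.leaf 53150248320) (.leaf 992674552985)) (.leaf 915365087513)) (.node (.leaf 185220532609) (.leaf 1473710958984))) (.node (.node (.leaf 337155013005) (.leaf 1236413886474)) (.node (.leaf 647466474256) (.leaf 664646323211))))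 (.node (.node (.node (.node (.leaf 228707061655) (.leaf 1251446276616)) (.leaf 1074815715846)) (.node (.leaf 617938484742) (.leaf 1668058174210))) (.node (.node (.leaf 504658745608) (.leaf 1325534471175)) (.node (.leaf 440771065995) (.leaf 223875341978)))))) (.node (.node (.node (.node (.node (.node (.leaf 76235684737) (.leaf 146029280410)) (.leaf 879394661512)) (.node (.leaf 278099200026) (.leaf 882079250819))) (.node (.node (.leaf 253940011153) (.leaf 1198296161301)) (.node (.leaf 185220565786) (.leaf 1154272886144)))) (.node (.node (.node (.node (.leaf 59055804312) (.leaf 1040456003974)) (.leaf 613643700230)) (.node (.leaf 460098481303) (.leaf 1002338378393))) (.node (.node (.leaf 459561548292) (.leaf 1207959757721)) (.node (.leaf 164282536474) (.leaf 1385664168858))))) (.node (.node (.node (.node (.node (.leaf 169651218058) (.leaf 520228037785)) (.leaf 520228141450)) (.node (.leaf 407485120666) (.leaf 1516123805569))) (.node (.node (.leaf 158377008386) (.leaf 1280437430423)) (.node (.leaf 747324487169) (.leaf 1302449143045)))) (.node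 (.node (.node (.node (.leaf 16643011994) (.leaf 1337882504713)) (.leaf 653372166529)) (.node (.leaf 650687613707) (.leaf 1688996171289))) (.node (.node (.leaf 232465236240) (.leaf 1362578625546)) (.node (.leaf 807454044174) (.leaf 757524941722))))))
def dF_42 : BT := .node (.node (.node (.node (.node (.node (.node (.leaf 7516204174) (.leaf 917512578314)) (.leaf 860604176523)) (.node (.leaf 264140551699) (.leaf 1414118184712))) (.node (.node (.leaf 112206086297) (.leaf 684510692868)) (.node (.leaf 712964741133) (.leaf 1760936862084)))) (.node (.node (.node (.node (.leaf 180925540375) (.leaf 740345382810)) (.leaf 572841505418)) (.node (.leaf 515396205082) (.leaf 1595043836184))) (.node (.node (.leaf 190589277574) (.leaf 825170792960)) (.node (.leaf 795642781192) (.leaf 1413581313306))))) (.node (.node (.node (.node (.node (.leaf 142270800138) (.leaf 224412094731)) (.leaf 932544996503)) (.node (.leaf 192736693018) (.leaf 1495185709062))) (.node (.node (.leaf 356482356359) (.leaf 1257351855872)) (.node (.leaf 339839461144) (.leaf 632970928260))))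 (.node (.node (.node (.node (.leaf 243202538760) (.leaf 1125818580228)) (.leaf 1095216812426)) (.node (.leaf 634044698255) (.leaf 1670742607360))) (.node (.node (.leaf 229780876441) (.leaf 1340566859652)) (.node (.leaf 515396198420) (.leaf 223338701594)))))) (.node (.node (.node (.node (.node (.node (.leaf 97710511237) (.leaf 648003360259)) (.leaf 474594100865)) (.node (.leaf 158377009177) (.leaf 1452772899840))) (.node (.node (.leaf 315143299213) (.leaf 723702279704)) (.node (.leaf 110058563217) (.leaf 1809792126085)))) (.node (.node (.node (.node (.leaf 212064024195) (.leaf 1481764061850)) (.leaf 1058172749700)) (.node (.leaf 525596748183) (.leaf 1644972718981))) (.node (.node (.leaf 218506576130) (.leaf 775778778904)) (.node (.leaf 448824226202) (.leaf 1364726230682))))) (.node (.node (.node (.node (.node (.leaf 165893143322) (.leaf 740882035225)) (.leaf 975494679695)) (.node (.leaf 506806261783) (.leaf 1537061647622))) (.node (.node (.leaf 394600162054) (.leaf 623844143363)) (.node (.leaf 762893747863) (.leaf 1541893503360)))) (.node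 (.node (.node (.node (.leaf 112742918546) (.leaf 1251983265305)) (.leaf 1133871636501)) (.node (.leaf 669478186753) (.leaf 1714229085568))) (.node (.node (.leaf 242128918534) (.leaf 827318403458)) (.node (.leaf 826781301890) (.leaf 275951714585))))))
def dF_43 : BT := .node dF_41 dF_42
def dF_44 : BT := .node dF_40 dF_43
def dF_45 : BT := .node dF_37 dF_44
def dF_46 : BT := .node (.node (.node (.node (.node (.node (.node (.leaf 783) (.leaf 289373595034)) (.leaf 834297496074)) (.node (.leaf 585726299031) (.leaf 831076501386))) (.node (.node (.node (.leaf 255550595607) (.leaf 898722178312)) (.leaf 659277751562)) (.node (.leaf 678068033543) (.leaf 1722819021316)))) (.node (.node (.node (.node (.leaf 60666421910) (.leaf 659277751706)) (.leaf 984621384706)) (.node (.leaf 579820642826) (.leaf 956704334744))) (.node (.node (.leaf 401579521295) (.leaf 885837215770)) (.node (.leaf 769336200335) (.leaf 752693262746))))) (.node (.node (.node (.node (.node (.leaf 106837317514) (.leaf 761820005771)) (.leaf 906238315541)) (.node (.leaf 310311461143)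 (.leaf 1462436577414))) (.node (.node (.leaf 133144063366) (.leaf 728534119810)) (.node (.leaf 296889773466) (.leaf 1816234728328)))) (.node (.node (.node (.node (.leaf 56371447696) (.leaf 975494808218)) (.leaf 1064615189272)) (.node (.leaf 264677503892) (.leaf 1654099527560))) (.node (.node (.leaf 491773871373) (.leaf 782221231512)) (.node (.leaf 236760204954) (.leaf 630286707994)))))) (.node (.node (.node (.node (.node (.node (.leaf 8053077652) (.leaf 208306048026)) (.leaf 868657279256)) (.node (.leaf 156766343834) (.leaf 1420023900815))) (.node (.node (.leaf 282931036823) (.leaf 1183263772177)) (.node (.leaf 718333363972) (.leaf 1143535465098)))) (.node (.node (.node (.node (.leaf 44560330905) (.leaf 574988883865)) (.leaf 599685053824)) (.node (.leaf 339839368333) (.leaf 1603633796224))) (.node (.node (.leaf 197568601364) (.leaf 753230186906)) (.node (.leaf 802085310869) (.leaf 636729245210))))) (.node (.node (.node (.node (.node (.leaf 152471351808) (.leaf 842350796570)) (.leaf 941671804173)) (.node (.leaf 168577505434) (.leaf 1502165103751)))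 (.node (.node (.leaf 363998514824) (.leaf 1268089274370)) (.node (.leaf 738734551063) (.leaf 1194537965705)))) (.node (.node (.node (.node (.leaf 66035181714) (.leaf 1341103797914)) (.leaf 1104343729297)) (.node (.leaf 284541736580) (.leaf 1676111248897))) (.node (.node (.leaf 541165933577) (.leaf 1346472439942)) (.node (.leaf 739271422100) (.leaf 769336325530))))))
def dF_47 : BT := .node (.node (.node (.node (.node (.node (.node (.leaf 30064773248) (.leaf 277025497862)) (.leaf 426812577561)) (.node (.leaf 601832358021) (.leaf 1401770215047))) (.node (.node (.node (.leaf 264677386122) (.leaf 1406065351690)) (.leaf 1162862672513)) (.node (.leaf 311922166794) (.leaf 1276679445128)))) (.node (.node (.node (.node (.leaf 119185370766) (.leaf 997506392345)) (.leaf 563177825817)) (.node (.leaf 184683637783) (.leaf 1578400713860))) (.node (.node (.leaf 422517451910) (.leaf 1061930834827)) (.node (.leaf 787589718016) (.leaf 336618260250))))) (.node (.node (.node (.node (.node (.leaf 127238413318) (.leaf 762356781831)) (.leaf 921807474560)) (.node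 (.leaf 537407911194) (.leaf 967441736842))) (.node (.node (.leaf 146028970137) (.leaf 1243393328663)) (.node (.leaf 390305246096) (.leaf 948114162714)))) (.node (.node (.node (.node (.leaf 233001998336) (.leaf 740345259139)) (.leaf 630286707993)) (.node (.leaf 624917890575) (.leaf 950261743642))) (.node (.node (.leaf 262529998233) (.leaf 882079112326)) (.node (.leaf 445066092180) (.leaf 1068910386842)))))) (.node (.node (.node (.node (.node (.node (.leaf 85362483852) (.leaf 1033476752025)) (.leaf 887447726857)) (.node (.leaf 262529928474) (.leaf 869194350344))) (.node (.node (.leaf 119185414529) (.leaf 1206349226903)) (.node (.leaf 53687104017) (.leaf 1795296608390)))) (.node (.node (.node (.node (.leaf 200789732619) (.leaf 647466474245)) (.leaf 613106830986)) (.node (.leaf 452045415693) (.leaf 1626719104260))) (.node (.node (.leaf 468688412563) (.leaf 882616087321)) (.node (.leaf 175020011930) (.leaf 1456531023642))))) (.node (.node (.node (.node (.node (.leaf 1610613402) (.leaf 1238561348890)) (.leaf 525596852096)) (.node (.leaf 414464442899)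 (.leaf 1522566130950))) (.node (.node (.leaf 158913880968) (.leaf 1286879760256)) (.node (.leaf 753766940179) (.leaf 1590212022405)))) (.node (.node (.node (.node (.leaf 93415551250) (.leaf 772557510667)) (.leaf 1125281699861)) (.node (.leaf 657667024023) (.leaf 1090385227032))) (.node (.node (.leaf 237297076484) (.leaf 1369021152019)) (.node (.leaf 403190249240) (.leaf 44560330778))))))
def dF_48 : BT := .node dF_46 dF_47
def dF_49 : BT := .node (.node (.node (.node (.node (.node (.node (.leaf 17179871244) (.leaf 496605778458)) (.leaf 841276919700)) (.node (.leaf 593242451859) (.leaf 1115081215616))) (.node (.node (.node (.leaf 259308700183) (.leaf 1251446338714)) (.leaf 1148367041665)) (.node (.leaf 688805511687) (.leaf 1734630294535)))) (.node (.node (.node (.node (.leaf 65498267020) (.leaf 1048509096065)) (.leaf 555661630745)) (.node (.leaf 289373449610) (.leaf 966904884992))) (.node (.node (.leaf 180925595908) (.leaf 822486410009)) (.node (.leaf 777389167366) (.leaf 869731213338))))) (.node (.node (.node (.node (.node (.leaf 91268058898)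 (.leaf 6442452491)) (.leaf 914291346050)) (.node (.leaf 175019959055) (.leaf 1471026606726))) (.node (.node (.leaf 335007513731) (.leaf 1234803274112)) (.node (.leaf 530965458576) (.leaf 1620276632218)))) (.node (.node (.node (.node (.leaf 54224016146) (.leaf 817117797640)) (.leaf 1072668231940)) (.node (.leaf 614180388614) (.leaf 1665373819014))) (.node (.node (.leaf 501974421391) (.leaf 790274297601)) (.node (.leaf 445066138497) (.leaf 1035624328858)))))) (.node (.node (.node (.node (.node (.node (.leaf 71940704663) (.leaf 815507238682)) (.leaf 876710306818)) (.node (.leaf 338765626394) (.leaf 1432908805781))) (.node (.node (.leaf 290447192199) (.leaf 693100632473)) (.node (.leaf 311385295386) (.leaf 1149441047065)))) (.node (.node (.node (.node (.leaf 52076524809) (.leaf 841276873480)) (.leaf 1037234846720)) (.node (.leaf 389231504023) (.leaf 997506539160))) (.node (.node (.leaf 455803451778) (.leaf 1213865341187)) (.node (.leaf 28454235802) (.leaf 692563879962))))) (.node (.node (.node (.node (.node (.leaf 37581003541) (.leaf 1075352616960))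 (.leaf 951872353939)) (.node (.leaf 389768375059) (.leaf 1512902451206))) (.node (.node (.leaf 309774604807) (.leaf 1279363566338)) (.node (.leaf 351650625152) (.leaf 1186484936196)))) (.node (.node (.node (.node (.leaf 110058563470) (.leaf 653909008011)) (.leaf 1115081150101)) (.node (.leaf 648003345302) (.leaf 1076963451658))) (.node (.node (.leaf 549219070359) (.leaf 812822885144)) (.node (.leaf 488015778184) (.leaf 1492501387906))))))
def dF_50 : BT := .node (.node (.node (.node (.node (.node (.node (.leaf 45097158658) (.leaf 376346690951)) (.leaf 859530434180)) (.node (.leaf 28454165133) (.leaf 1411970702592))) (.node (.node (.leaf 273267354379) (.leaf 1171452492676)) (.node (.leaf 710817256975) (.leaf 1136556139912)))) (.node (.node (.node (.node (.leaf 179314919181) (.leaf 1240709027712)) (.leaf 568546537476)) (.node (.leaf 353798045961) (.leaf 1592896230916))) (.node (.node (.leaf 433254928151) (.leaf 819265208320)) (.node (.leaf 793495397133) (.leaf 1640141014042))))) (.node (.node (.node (.node (.node (.leaf 140123315462) (.leaf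 340913110425)) (.leaf 506269491714)) (.node (.leaf 574988887322) (.leaf 1388885405312))) (.node (.node (.leaf 151397681684) (.leaf 751082705028)) (.node (.leaf 726923388163) (.leaf 535260389376)))) (.node (.node (.node (.node (.leaf 239444443527) (.leaf 1269700009624)) (.leaf 1093069328648)) (.node (.leaf 277025541268) (.leaf 1542430466586))) (.node (.node (.leaf 223875295752) (.leaf 805306687236)) (.node (.leaf 608811759380) (.leaf 341450126746)))))) (.node (.node (.node (.node (.node (.node (.leaf 94489293334) (.leaf 785442367002)) (.leaf 473520358552)) (.node (.leaf 6979321991) (.leaf 1449551671816))) (.node (.node (.leaf 127775351568) (.leaf 1213865320088)) (.node (.leaf 240518225937) (.leaf 1806034178433)))) (.node (.node (.node (.node (.leaf 53687141122) (.leaf 1389959122584)) (.leaf 761283205017)) (.node (.leaf 519154295703) (.leaf 1020055123846))) (.node (.node (.leaf 478888915466) (.leaf 1301912145928)) (.node (.leaf 344671301402) (.leaf 877784195458))))) (.node (.node (.node (.node (.node (.leaf 15032392602) (.leaf 562103978905))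 (.leaf 972810324499)) (.node (.leaf 54223964042) (.leaf 946503783576))) (.node (.node (.leaf 392452679044) (.leaf 1034013559578)) (.node (.leaf 761820005773) (.leaf 1006096365193)))) (.node (.node (.node (.node (.leaf 190052337683) (.leaf 1770063818522)) (.leaf 1131724039554)) (.node (.leaf 666256960653) (.leaf 1711007859462))) (.node (.node (.leaf 241055175705) (.leaf 820339081222)) (.node (.leaf 441844956800) (.leaf 806917193603))))))
def dF_51 : BT := .node dF_49 dF_50
def dF_52 : BT := .node dF_48 dF_51
def dF_53 : BT := .node (.node (.node (.node (.node (.node (.node (.leaf 6979324294) (.leaf 1232119069978)) (.leaf 838592464514)) (.node (.leaf 590558067076) (.leaf 835908340632))) (.node (.node (.node (.leaf 257698081810) (.leaf 1369021224710)) (.leaf 1143535225217)) (.node (.leaf 683973615624) (.leaf 1115081296520)))) (.node (.node (.node (.node (.leaf 78920038401) (.leaf 1396938262170)) (.leaf 555661629570)) (.node (.leaf 153008218634) (.leaf 1555852133120))) (.node (.node (.leaf 180388723456) (.leaf 200252959897)) (.node (.leaf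 773094297613) (.leaf 972810333338))))) (.node (.node (.node (.node (.node (.leaf 112742918551) (.leaf 487478969728)) (.leaf 897648381824)) (.node (.leaf 268435520023) (.leaf 1467805372160))) (.node (.node (.leaf 330175687831) (.leaf 1229971433732)) (.node (.leaf 721017806737) (.leaf 923418103066)))) (.node (.node (.node (.node (.leaf 219580255247) (.leaf 656593346819)) (.leaf 625454867206)) (.node (.leaf 609348549126) (.leaf 1658394495242))) (.node (.node (.leaf 366682951302) (.leaf 788126812676)) (.node (.leaf 309237808794) (.leaf 462782938650)))))) (.node (.node (.node (.node (.node (.node (.leaf 9126821130) (.leaf 146028922905)) (.leaf 872952209290)) (.node (.leaf 321585753114) (.leaf 1427539959563))) (.node (.node (.leaf 286689095811) (.leaf 1188095493126)) (.node (.leaf 721017716996) (.leaf 1774358685826)))) (.node (.node (.node (.node (.leaf 45634073734) (.leaf 809601536131)) (.leaf 1033476752015)) (.node (.leaf 355945499535) (.leaf 995359054346))) (.node (.node (.leaf 448824188289) (.leaf 1068373322890)) (.node (.leaf 806380203401)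 (.leaf 847182503685))))) (.node (.node (.node (.node (.node (.leaf 37044130956) (.leaf 782221083650)) (.leaf 515933172100)) (.node (.leaf 117037869316) (.leaf 1506996870919))) (.node (.node (.leaf 368293532179) (.leaf 1272921235855)) (.node (.leaf 743029426048) (.leaf 1814624000024)))) (.node (.node (.node (.node (.leaf 252329347714) (.leaf 1363115492362)) (.leaf 1109175459585)) (.node (.leaf 284541737112) (.leaf 1680406297867))) (.node (.node (.leaf 545460971533) (.leaf 1353988633984)) (.node (.leaf 741418905882) (.leaf 555124579482))))))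
def dF_54 : BT := .node (.node (.node (.node (.node (.node (.node (.leaf 38117838475) (.leaf 947577292160)) (.leaf 428423191818)) (.node (.leaf 13958647194) (.leaf 1406065253779))) (.node (.node (.node (.leaf 268972390935) (.leaf 1817845341465)) (.leaf 1166620653451)) (.node (.leaf 705985325963) (.leaf 1130650558474)))) (.node (.node (.node (.node (.leaf 157840072585) (.leaf 656593281945)) (.leaf 566935923481)) (.node (.leaf 199179217689) (.leaf 1586453778566))) (.node (.node (.leaf 428423032070) (.leaf 334470642178)) (.node (.leaf 737123950488) (.leaf 1157493892378))))) (.node (.node (.node (.node (.node (.leaf 30601673990) (.leaf 240518225945)) (.leaf 924491930903)) (.node (.leaf 236760205081) (.leaf 909459680008))) (.node (.node (.leaf 191126127769) (.leaf 1251446394113)) (.node (.leaf 722628330369) (.leaf 986768859290)))) (.node (.node (.node (.node (.leaf 60666469136) (.leaf 1253056929413)) (.leaf 1086090006659)) (.node (.leaf 451508586763) (.leaf 1504849393287))) (.node (.node (.leaf 223338423170) (.leaf 849866755589)) (.node (.leaf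 657667024020) (.leaf 1172526356890)))))) (.node (.node (.node (.node (.node (.node (.leaf 89657453462) (.leaf 296352771717)) (.leaf 462246068248)) (.node (.leaf 348429305114) (.leaf 1445793710733))) (.node (.node (.leaf 306016479105) (.leaf 1209033464708)) (.node (.leaf 331249431697) (.leaf 1171452759064)))) (.node (.node (.node (.node (.leaf 205084735884) (.leaf 1204201635202)) (.leaf 615791186696)) (.node (.leaf 487478904339) (.leaf 1633698427013))) (.node (.node (.leaf 472983372311) (.leaf 772020680712)) (.node (.leaf 110595472282) (.leaf 335544373402))))) (.node (.node (.node (.node (.node (.leaf 1073744154) (.leaf 743566390425)) (.leaf 966904743055)) (.node (.leaf 474057128325) (.leaf 941671943960))) (.node (.node (.leaf 164819462552) (.leaf 917512624280)) (.node (.leaf 758061908503) (.leaf 1290101232390)))) (.node (.node (.node (.node (.leaf 152471394578) (.leaf 1337345657867)) (.leaf 1127966055057)) (.node (.leaf 661961905158) (.leaf 1100048905090))) (.node (.node (.leaf 240518303249) (.leaf 863825624838)) (.node (.leaf 403727121048)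 (.leaf 803695903491))))))
def dF_55 : BT := .node dF_53 dF_54
def dF_56 : BT := .node (.node (.node (.node (.node (.node (.node (.leaf 24159194251) (.leaf 376346681346)) (.leaf 845035016981)) (.node (.leaf 260382534790) (.leaf 1395327832975))) (.node (.node (.node (.leaf 159987594244) (.leaf 1403380860423)) (.leaf 1154809493379)) (.node (.leaf 311922164994) (.leaf 1126355588740)))) (.node (.node (.node (.node (.leaf 52076500620) (.leaf 649614011657)) (.leaf 997506392335)) (.node (.leaf 408558861459) (.leaf 971736725126))) (.node (.node (.leaf 417685669015) (.leaf 1076426435328)) (.node (.leaf 782757879424) (.leaf 1421634379010))))) (.node (.node (.node (.node (.node (.leaf 120259098625) (.leaf 350576789145)) (.leaf 917512607375)) (.node (.leaf 458487868314) (.leaf 1476932095489))) (.node (.node (.leaf 174483127193) (.leaf 739808411904)) (.node (.leaf 426812476816) (.leaf 565862059659)))) (.node (.node (.node (.node (.leaf 230317674765) (.leaf 1658394447898)) (.leaf 1076426329349)) (.node (.leaf 621159711360) (.leaf 1615444964480))) (.node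 (.node (.leaf 508416805896) (.leaf 1328218952983)) (.node (.leaf 243202581141) (.leaf 198105413771)))))) (.node (.node (.node (.node (.node (.node (.leaf 15032404486) (.leaf 285615393305)) (.leaf 881005303306)) (.node (.leaf 179851798413) (.leaf 1438814250244))) (.node (.node (.leaf 295279032837) (.leaf 1202054258579)) (.node (.leaf 358629889306) (.leaf 1159104725272)))) (.node (.node (.node (.node (.leaf 88046874649) (.leaf 403727114248)) (.leaf 1041529713928)) (.node (.leaf 419296282263) (.leaf 1006096475672))) (.node (.node (.leaf 463319707411) (.leaf 767188840456)) (.node (.leaf 536871061) (.leaf 1069447118490))))) (.node (.node (.node (.node (.node (.leaf 39191617808) (.leaf 647466717210)) (.leaf 775778695936)) (.node (.leaf 145492097945) (.leaf 1518271161856))) (.node (.node (.leaf 158377009305) (.leaf 772557548032)) (.node (.leaf 749471971857) (.leaf 1701344181658)))) (.node (.node (.node (.node (.leaf 8053086618) (.leaf 539018453402)) (.leaf 653909038082)) (.node (.leaf 653908898176) (.leaf 1083942774790))) (.node (.node (.leaf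 263066878745) (.leaf 816044111498)) (.node (.leaf 390305345926) (.leaf 462782914305))))))
def dF_57 : BT := .node (.node (.node (.node (.node (.node (.node (.leaf 7516205080) (.leaf 198642322313)) (.leaf 863825402376)) (.node (.leaf 194347286914) (.leaf 851477604096))) (.node (.node (.leaf 278099195520) (.leaf 1177358073732)) (.node (.leaf 714038392456) (.leaf 1764694958978)))) (.node (.node (.node (.node (.leaf 183609894401) (.leaf 686658096266)) (.leaf 575525860746)) (.node (.leaf 223338352663) (.leaf 990527213720))) (.node (.node (.leaf 437013026447) (.leaf 1222455256216)) (.node (.leaf 376346699526) (.leaf 632971237658))))) (.node (.node (.node (.node (.node (.leaf 35970385924) (.leaf 1411970746890)) (.leaf 935766120582)) (.node (.leaf 344671207703) (.leaf 1498943838087))) (.node (.node (.leaf 358629824778) (.leaf 1260036210178)) (.node (.leaf 731218356499) (.leaf 1447404352154)))) (.node (.node (.node (.node (.leaf 246423805965) (.leaf 1612760488585)) (.leaf 1099511780486)) (.node (.leaf 636729053453) (.leaf 1672353289621))) (.node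 (.node (.leaf 224412168344) (.leaf 1342714471055)) (.node (.leaf 487478904340) (.leaf 374735985945)))))) (.node (.node (.node (.node (.node (.node (.leaf 100394865158) (.leaf 341449981465)) (.leaf 903017089295)) (.node (.leaf 285078522259) (.leaf 1456530997401))) (.node (.node (.leaf 316217041430) (.leaf 724239151256)) (.node (.leaf 389231455241) (.leaf 1812476480906)))) (.node (.node (.node (.node (.leaf 60129593094) (.leaf 1198296209670)) (.leaf 1059246561937)) (.node (.leaf 530965458583) (.leaf 1029718802056))) (.node (.node (.leaf 484794484232) (.leaf 1306744111233)) (.node (.leaf 144955180821) (.leaf 888521590170))))) (.node (.node (.node (.node (.node (.leaf 7516196630) (.leaf 423054675354)) (.leaf 979252680838)) (.node (.leaf 3758098955) (.leaf 952409365386))) (.node (.node (.leaf 175556883224) (.leaf 459561610010)) (.node (.leaf 361851177224) (.leaf 1631014206345)))) (.node (.node (.node (.node (.leaf 253939996928) (.leaf 793495397120)) (.leaf 1135482249613)) (.node (.leaf 672162453507) (.leaf 1104880746120))) (.node (.node (.leaf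 242128919449) (.leaf 1378147958425)) (.node (.leaf 828928786180) (.leaf 857383191296))))))
def dF_58 : BT := .node dF_56 dF_57
def dF_59 : BT := .node dF_55 dF_58
def dF_60 : BT := .node dF_52 dF_59
def dF_61 : BT := .node dF_45 dF_60
def dF_62 : BT := .node dF_30 dF_61
def dF_63 : BT := .node (.node (.node (.node (.node (.node (.node (.leaf 8) (.leaf 682900084762)) (.leaf 830539398919)) (.node (.leaf 243202662026) (.leaf 828392146310))) (.node (.node (.node (.leaf 78920084753) (.leaf 1501091286170)) (.leaf 1137092748680)) (.node (.leaf 297963516948) (.leaf 1105417617546)))) (.node (.node (.node (.node (.leaf 15032387079) (.leaf 1102733116167)) (.leaf 534186791192)) (.node (.leaf 563714592013) (.leaf 955093720706))) (.node (.node (.leaf 399432026519) (.leaf 865436054146)) (.node (.leaf 767188716175) (.leaf 1459752329754))))) (.node (.node (.node (.node (.node (.leaf 17716764683) (.leaf 1483374545946)) (.leaf 905164573453)) (.node (.leaf 305479579281) (.leaf 1458141610520))) (.node (.node (.leaf 132070320409) (.leaf 726923506314)) (.node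 (.leaf 223875296154) (.leaf 1183800793472)))) (.node (.node (.node (.node (.leaf 215822120071) (.leaf 1467805423384)) (.leaf 1060857175055)) (.node (.leaf 602369306895) (.leaf 1036161253376))) (.node (.node (.leaf 487478838148) (.leaf 782758101507)) (.node (.leaf 440771125274) (.leaf 632970964250)))))) (.node (.node (.node (.node (.node (.node (.leaf 9126818308) (.leaf 1426466353304)) (.leaf 440771225240)) (.node (.leaf 552977171354) (.leaf 1417876282498))) (.node (.node (.leaf 280783514634) (.leaf 687731919626)) (.node (.leaf 715649094549) (.leaf 1767916334593)))) (.node (.node (.node (.node (.leaf 185757356554) (.leaf 423054346760)) (.leaf 1023276096514)) (.node (.leaf 529891720730) (.leaf 1598801812489))) (.node (.node (.leaf 258771884185) (.leaf 362924910211)) (.node (.leaf 798864007049) (.leaf 820338966298))))) (.node (.node (.node (.node (.node (.leaf 148176381187) (.leaf 613643702682)) (.leaf 938450476930)) (.node (.leaf 36507230735) (.leaf 1500554418948))) (.node (.node (.leaf 360240419337) (.leaf 753767061508)) (.node (.leaf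 734439489028) (.leaf 1595043761562)))) (.node (.node (.node (.node (.leaf 66035181186) (.leaf 1228360847115)) (.leaf 643708486274)) (.node (.leaf 638339580935) (.leaf 1085016512006))) (.node (.node (.leaf 224949040016) (.leaf 1343788213139)) (.node (.leaf 649613958420) (.leaf 761283136154))))))
def dF_64 : BT := .node (.node (.node (.node (.node (.node (.node (.leaf 3758102809) (.leaf 362388047104)) (.leaf 847182400898)) (.node (.leaf 264140631558) (.leaf 1397475184265))) (.node (.node (.node (.leaf 263066785030) (.leaf 1690606904965)) (.leaf 1157493846404)) (.node (.leaf 310848423944) (.leaf 1744830732808)))) (.node (.node (.node (.node (.leaf 52613371660) (.leaf 774704846859)) (.leaf 576062726656)) (.node (.leaf 199716089369) (.leaf 1574105747719))) (.node (.node (.leaf 184683693706) (.leaf 625991632643)) (.node (.leaf 784905460495) (.leaf 1336271843610))))) (.node (.node (.node (.node (.node (.leaf 28991058584) (.leaf 1238024499354)) (.leaf 487479007129)) (.node (.leaf 474057157146) (.leaf 1478542843520))) (.node (.node (.leaf 146028969352)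 (.leaf 1241245725062)) (.node (.leaf 363998565136) (.leaf 1013075686298)))) (.node (.node (.node (.node (.leaf 231391376136) (.leaf 907311998341)) (.leaf 1077500128920)) (.node (.leaf 275951797130) (.leaf 525596889498))) (.node (.node (.leaf 219043453849) (.leaf 798327363584)) (.node (.leaf 289373490581) (.leaf 397284798490)))))) (.node (.node (.node (.node (.node (.node (.leaf 80530644236) (.leaf 1280437308551)) (.leaf 883689629832)) (.node (.leaf 438623581447) (.leaf 1439888033026))) (.node (.node (.leaf 118648542596) (.leaf 713501729152)) (.node (.leaf 332323265562) (.leaf 1790464768896)))) (.node (.node (.node (.node (.leaf 195421023497) (.leaf 1584843175046)) (.leaf 608811862936)) (.node (.leaf 428423089933) (.leaf 1430224496518))) (.node (.node (.leaf 466004056591) (.leaf 767725711624)) (.node (.leaf 6442452501) (.leaf 630286649344))))) (.node (.node (.node (.node (.node (.leaf 88583709082) (.leaf 375809709194)) (.leaf 523986238856)) (.node (.leaf 333933750791) (.leaf 933082007448))) (.node (.node (.leaf 379567824015) (.leaf 762357001241))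 (.node (.leaf 752156327053) (.leaf 1456531214979)))) (.node (.node (.node (.node (.leaf 1610612755) (.leaf 1605244283274)) (.leaf 1009854452998)) (.node (.leaf 292594803466) (.leaf 1085016516736))) (.node (.node (.leaf 236760204816) (.leaf 1365799878538)) (.node (.leaf 394600313610) (.leaf 296352856602))))))
def dF_65 : BT := .node dF_63 dF_64
def dF_66 : BT := .node (.node (.node (.node (.node (.node (.node (.leaf 536874004) (.leaf 526133619225)) (.leaf 839666306575)) (.node (.leaf 591094939027) (.leaf 836982082954))) (.node (.node (.node (.leaf 258234952854) (.leaf 1333050715418)) (.leaf 663035849241)) (.node (.leaf 686657970306) (.leaf 1731408957958)))) (.node (.node (.node (.node (.leaf 81604386567) (.leaf 506269388675)) (.leaf 990526964998)) (.node (.leaf 173946216975) (.leaf 970126109445))) (.node (.node (.leaf 180388724104) (.leaf 830539397914)) (.node (.leaf 774704812676) (.leaf 576062755994))))) (.node (.node (.node (.node (.node (.leaf 12348033818) (.leaf 643708471808)) (.leaf 912143862410)) (.node (.leaf 277025456663) (.leaf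 1469952894872))) (.node (.node (.leaf 332323137290) (.leaf 1231582046986)) (.node (.leaf 534186684817) (.leaf 1005559336602)))) (.node (.node (.node (.node (.leaf 221727703429) (.leaf 658740880282)) (.leaf 1041529824130)) (.node (.leaf 612032904202) (.leaf 1661615866758))) (.node (.node (.leaf 499826870923) (.leaf 1317481532168)) (.node (.leaf 362924823061) (.leaf 893890418330)))))) (.node (.node (.node (.node (.node (.node (.leaf 9126821648) (.leaf 530428638874)) (.leaf 873489080841)) (.node (.leaf 309774591386) (.leaf 1429687561991))) (.node (.node (.leaf 117574798600) (.leaf 1190779848962)) (.node (.leaf 331786393882) (.leaf 1776506121346)))) (.node (.node (.node (.node (.leaf 105226715674) (.leaf 1243393369498)) (.leaf 603443151880)) (.node (.leaf 362387952015) (.leaf 996432796569))) (.node (.node (.leaf 451508484610) (.leaf 1096290655258)) (.node (.leaf 7516383642) (.leaf 1625645509530))))) (.node (.node (.node (.node (.node (.leaf 37044131608) (.leaf 613643607066)) (.leaf 947577385623)) (.node (.leaf 289373490714) (.leaf 926102683012)))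 (.node (.node (.leaf 369367274263) (.leaf 759672644354)) (.node (.leaf 743566390417) (.leaf 1282584890778)))) (.node (.node (.node (.node (.leaf 251255613189) (.leaf 1535451079834)) (.leaf 1111322988166)) (.node (.leaf 645855861135) (.leaf 1682553694474))) (.node (.node (.leaf 547071584783) (.leaf 818728464128)) (.node (.leaf 744103167641) (.leaf 721554786330))))))
def dF_67 : BT := .node (.node (.node (.node (.node (.node (.node (.leaf 40265326337) (.leaf 743566437274)) (.leaf 857382948746)) (.node (.leaf 255013713562) (.leaf 1407675795072))) (.node (.node (.leaf 271119874182) (.leaf 679678853256)) (.node (.leaf 324270199833) (.leaf 1131724300680)))) (.node (.node (.node (.node (.leaf 43486586003) (.leaf 658740766105)) (.leaf 1010391191690)) (.node (.leaf 208305963533) (.leaf 1589675004931))) (.node (.node (.leaf 431107387402) (.leaf 1063541537946)) (.node (.leaf 374736085272) (.leaf 225485907079))))) (.node (.node (.node (.node (.node (.leaf 136365230855) (.leaf 208305971206)) (.leaf 926102544017)) (.node (.leaf 563177726618) (.leaf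 1065689115783))) (.node (.node (.leaf 151397680897) (.leaf 1252520016388)) (.node (.leaf 336618234500) (.leaf 675383848984)))) (.node (.node (.node (.node (.leaf 234612644880) (.leaf 1393717158170)) (.leaf 634044806662)) (.node (.leaf 629749729933) (.leaf 960462273434))) (.node (.node (.leaf 521301710219) (.leaf 1336271903872)) (.node (.leaf 630286600980) (.leaf 224949200922)))))) (.node (.node (.node (.node (.node (.node (.leaf 91804930691) (.leaf 487478952839)) (.leaf 462782939522)) (.node (.leaf 365609178394) (.leaf 874026189704))) (.node (.node (.leaf 127238479508) (.leaf 1211717819658)) (.node (.leaf 200252960794) (.leaf 1801739060870)))) (.node (.node (.node (.node (.leaf 206158477974) (.leaf 1205812400903)) (.leaf 1053340876674)) (.node (.leaf 496605712019) (.leaf 1635309040256))) (.node (.node (.leaf 474593948042) (.leaf 772020680856)) (.node (.leaf 127775351706) (.leaf 180388723463))))) (.node (.node (.node (.node (.node (.leaf 66572007552) (.leaf 739271422089)) (.leaf 526670595714)) (.node (.leaf 483720775686) (.leaf 1529545453193)))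 (.node (.node (.leaf 389768323592) (.leaf 912680740619)) (.node (.leaf 759135650575) (.leaf 1617592191770)))) (.node (.node (.node (.node (.leaf 207769086870) (.leaf 1577864030090)) (.leaf 1128502926101)) (.node (.leaf 296352901780) (.leaf 1706712891912))) (.node (.node (.leaf 567472688000) (.leaf 850403675530)) (.node (.leaf 820338851200) (.leaf 112206086170))))))
def dF_68 : BT := .node dF_66 dF_67
def dF_69 : BT := .node dF_65 dF_68
def dF_70 : BT := .node (.node (.node (.node (.node (.node (.node (.leaf 5368710408) (.leaf 693100421401)) (.leaf 415001414534)) (.node (.leaf 587873783949) (.leaf 1030792480921))) (.node (.node (.node (.leaf 86973148949) (.leaf 1544577907211)) (.leaf 660888364544)) (.node (.leaf 680215518468) (.leaf 1112396941062)))) (.node (.node (.node (.node (.leaf 20401097741) (.leaf 1258425610372)) (.leaf 554051016330)) (.node (.leaf 351113669146) (.leaf 1552094035591))) (.node (.node (.leaf 394600216448) (.leaf 338765741722)) (.node (.leaf 770946716802) (.leaf 973884066569))))) (.node (.node (.node (.node (.node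 (.leaf 110058547458) (.leaf 296352814746)) (.leaf 907312057613)) (.node (.leaf 264677385866) (.leaf 1463510387080))) (.node (.node (.leaf 325880675589) (.leaf 1228360939533)) (.node (.leaf 209916576657) (.leaf 1190243157383)))) (.node (.node (.node (.node (.leaf 214211545348) (.leaf 992674668673)) (.leaf 1058709692672)) (.node (.leaf 606127404183) (.leaf 1039382480392))) (.node (.node (.leaf 493384484627) (.leaf 1312649566857)) (.node (.leaf 272730571034) (.leaf 1170915717658)))))) (.node (.node (.node (.node (.node (.node (.leaf 60666421902) (.leaf 184146822298)) (.leaf 446139935234)) (.node (.leaf 291520974874) (.leaf 1344325102598))) (.node (.node (.leaf 284541611270) (.leaf 1184874267524)) (.node (.leaf 710280388096) (.leaf 1261647066112)))) (.node (.node (.node (.node (.leaf 190589208716) (.leaf 613643653128)) (.leaf 1031329165450)) (.node (.leaf 341449981463) (.leaf 1605244264708))) (.node (.node (.leaf 198105472772) (.leaf 745713876363)) (.node (.leaf 803695857031) (.leaf 845571883545))))) (.node (.node (.node (.node (.node (.leaf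 36507258896) (.leaf 52613361945)) (.leaf 514859429386)) (.node (.leaf 374199114903) (.leaf 923955198218))) (.node (.node (.leaf 153545168256) (.leaf 1269700009613)) (.node (.leaf 740345164173) (.leaf 1596117650049)))) (.node (.node (.node (.node (.leaf 251255629571) (.leaf 809601595012)) (.leaf 1105417471377)) (.node (.leaf 420370016904) (.leaf 1066226031256))) (.node (.node (.leaf 289373550976) (.leaf 808527915142)) (.node (.leaf 761283134740) (.leaf 277025541402))))))
def dF_71 : BT := .node (.node (.node (.node (.node (.node (.node (.leaf 6442458898) (.leaf 449898246554)) (.leaf 852014239240)) (.node (.leaf 34896617754) (.leaf 1403380898581))) (.node (.node (.node (.leaf 266824886914) (.leaf 1817308470423)) (.leaf 675920755844)) (.node (.leaf 702227228805) (.leaf 1748051958789)))) (.node (.node (.node (.node (.leaf 53150242702) (.leaf 840740048665)) (.leaf 1005022510219)) (.node (.leaf 440234258970) (.leaf 1580011326731))) (.node (.node (.leaf 185220565777) (.leaf 1046361663105)) (.node (.leaf 721554693656) (.leaf 1376000402458)))))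 (.node (.node (.node (.node (.node (.leaf 129385897480) (.leaf 243202559238)) (.leaf 911607028486)) (.node (.leaf 219043384333) (.leaf 906775324424))) (.node (.node (.leaf 345744949647) (.leaf 745713994122)) (.node (.leaf 376346599056) (.leaf 1633161742106)))) (.node (.node (.node (.node (.leaf 233538897799) (.leaf 1487132696838)) (.leaf 1082868780298)) (.node (.leaf 276488668938) (.leaf 523986133888))) (.node (.node (.leaf 222801551368) (.leaf 821949467906)) (.node (.leaf 449897974424) (.leaf 1466194669850)))))) (.node (.node (.node (.node (.node (.node (.leaf 87509979393) (.leaf 224949001355)) (.leaf 460098583812)) (.node (.leaf 64961395863) (.leaf 1421097648134))) (.node (.node (.leaf 119185414918) (.leaf 1208496711057)) (.node (.leaf 293131674394) (.leaf 1185411401986)))) (.node (.node (.node (.node (.leaf 202937217034) (.leaf 1212791569536)) (.leaf 613643702404)) (.node (.leaf 462782836503) (.leaf 1629403462144))) (.node (.node (.leaf 470835898767) (.leaf 769336325386)) (.node (.leaf 44560296341) (.leaf 145492215450))))) (.node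 (.node (.node (.node (.node (.leaf 126164698522) (.leaf 241055083523)) (.leaf 525059981848)) (.node (.leaf 203474122778) (.leaf 940598201478))) (.node (.node (.leaf 163208848778) (.leaf 985158274456)) (.node (.leaf 755914328964) (.leaf 1798517979398)))) (.node (.node (.node (.node (.leaf 248034419090) (.leaf 905701499272)) (.leaf 1126355395456)) (.node (.leaf 658740766099) (.leaf 1095217065990))) (.node (.node (.leaf 561030160273) (.leaf 1371168504202)) (.node (.leaf 816043980820) (.leaf 6979330842))))))
def dF_72 : BT := .node dF_70 dF_71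
def dF_73 : BT := .node (.node (.node (.node (.node (.node (.node (.leaf 18790484374) (.leaf 127238811162)) (.leaf 842350561798)) (.node (.leaf 594853083524) (.leaf 1391032732810))) (.node (.node (.node (.leaf 260382442259) (.leaf 1637993529114)) (.leaf 668941430916)) (.node (.leaf 690953028492) (.leaf 1134408651392)))) (.node (.node (.node (.node (.leaf 174483081100) (.leaf 1108638683290)) (.leaf 994822037139)) (.node (.leaf 296889685143) (.leaf 967978627608))) (.node (.node (.leaf 209379754500) (.leaf 896574636442)) (.node (.leaf 779536727942) (.leaf 515396300570))))) (.node (.node (.node (.node (.node (.leaf 28991057154) (.leaf 310311461131)) (.leaf 486942135432)) (.node (.leaf 417148798234) (.leaf 985158474887))) (.node (.node (.leaf 145492097418) (.leaf 1235877015560)) (.node (.leaf 350576789136) (.leaf 1608465476762)))) (.node (.node (.node (.node (.leaf 228707061645) (.leaf 1475321447194)) (.leaf 1074278844930)) (.node (.leaf 616864742914) (.leaf 1667521302920))) (.node (.node (.leaf 504121848843) (.leaf 1324997599874)) (.node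 (.leaf 208305963541) (.leaf 175020060314)))))) (.node (.node (.node (.node (.node (.node (.leaf 75161937543) (.leaf 606664379034)) (.leaf 878320920453)) (.node (.leaf 275951715866) (.leaf 1435593023881))) (.node (.node (.leaf 118111670406) (.leaf 1198296161293)) (.node (.leaf 394600166533) (.leaf 1782948574599)))) (.node (.node (.node (.node (.leaf 167503734666) (.leaf 841813783047)) (.leaf 1039382333313)) (.node (.leaf 445066092173) (.leaf 1617055425926))) (.node (.node (.leaf 205084797721) (.leaf 869194258305)) (.node (.leaf 36507259290) (.leaf 1584843175431))))) (.node (.node (.node (.node (.node (.leaf 38117874946) (.leaf 1048509217818)) (.leaf 519691270296)) (.node (.leaf 43486554255) (.leaf 929860780928))) (.node (.node (.leaf 158377008257) (.leaf 1280437430415)) (.node (.leaf 351113754506) (.leaf 1038845608858)))) (.node (.node (.node (.node (.leaf 60129579290) (.leaf 1337882631834)) (.leaf 1117228522886)) (.node (.leaf 649613958423) (.leaf 1078574064768))) (.node (.node (.leaf 550292768790) (.leaf 1362578569218)) (.node (.leaf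 390305345537) (.leaf 877784286746))))))
def dF_74 : BT := .node (.node (.node (.node (.node (.node (.node (.leaf 46170909591) (.leaf 917512521091)) (.leaf 860067406099)) (.node (.leaf 264140515461) (.leaf 1414118318336))) (.node (.node (.leaf 274877938179) (.leaf 1173600093455)) (.node (.leaf 331786393606) (.leaf 1760400140179)))) (.node (.node (.node (.node (.leaf 44023457931) (.leaf 738734624902)) (.leaf 571767763353)) (.node (.leaf 214748483993) (.leaf 1594506926215))) (.node (.node (.leaf 434865520019) (.leaf 848256143236)) (.node (.leaf 795105910276) (.leaf 857919914497))))) (.node (.node (.node (.node (.node (.leaf 31138546712) (.leaf 530965424899)) (.leaf 506269492248)) (.node (.leaf 243202581143) (.leaf 915902132224))) (.node (.node (.leaf 302258408327) (.leaf 1249835782784)) (.node (.leaf 340913202690) (.leaf 874026210074)))) (.node (.node (.node (.node (.leaf 242128796932) (.leaf 1165010255622)) (.leaf 1094679941510)) (.node (.leaf 277562412680) (.leaf 1669668787590))) (.node (.node (.leaf 528281031555) (.leaf 1340030096512))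 (.node (.leaf 554587784340) (.leaf 710280589594)))))) (.node (.node (.node (.node (.node (.node (.leaf 16643021464) (.leaf 264140570119)) (.leaf 474057229720)) (.node (.leaf 158376956813) (.leaf 1379221719046))) (.node (.node (.leaf 314606428175) (.leaf 1216549659394)) (.node (.leaf 355945532570) (.leaf 1180579566745)))) (.node (.node (.node (.node (.leaf 211527188868) (.leaf 713501672581)) (.leaf 1057635901959)) (.node (.leaf 524523006095) (.leaf 1643898976779))) (.node (.node (.leaf 208842899609) (.leaf 774705036952)) (.node (.leaf 334470669978) (.leaf 815507115290))))) (.node (.node (.node (.node (.node (.leaf 37044107404) (.leaf 805306560025)) (.leaf 974957702790)) (.node (.leaf 506269390743) (.leaf 947577525913))) (.node (.node (.leaf 394063329555) (.leaf 448824187546)) (.node (.leaf 762356876823) (.leaf 1410897000858)))) (.node (.node (.node (.node (.leaf 127775307666) (.leaf 1389959150859)) (.leaf 1133871636493)) (.node (.leaf 297426644736) (.leaf 1713692214402))) (.node (.node (.leaf 241592047385) (.leaf 1375463491352)) (.node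 (.leaf 409632702722) (.leaf 1041529965338))))))
def dF_75 : BT := .node dF_73 dF_74
def dF_76 : BT := .node dF_72 dF_75
def dF_77 : BT := .node dF_69 dF_76
def dF_78 : BT := .node (.node (.node (.node (.node (.node (.node (.leaf 2147484163) (.leaf 1184874462106)) (.leaf 833760641024)) (.node (.leaf 246423888260) (.leaf 1381906055193))) (.node (.node (.node (.leaf 255550595599) (.leaf 1769526794394)) (.leaf 1138703475857)) (.node (.leaf 676994291463) (.leaf 1414655263616)))) (.node (.node (.node (.node (.leaf 60129550860) (.leaf 657130265626)) (.leaf 983547638923)) (.node (.leaf 574988883855) (.leaf 956167463562))) (.node (.node (.leaf 331249448322) (.leaf 451508647178)) (.node (.leaf 362388049032) (.leaf 752693386266))))) (.node (.node (.node (.node (.node (.leaf 105763586582) (.leaf 352187545498)) (.leaf 906238315533)) (.node (.leaf 309774590103) (.leaf 893890417028))) (.node (.node (.leaf 322122579968) (.leaf 728534119552)) (.node (.leaf 289373577114) (.leaf 1184874535814)))) (.node (.node (.node (.node (.leaf 175556830234) (.leaf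 1250909496201)) (.leaf 1064078296331)) (.node (.leaf 603979920019) (.leaf 1038845608964))) (.node (.node (.leaf 491237000333) (.leaf 782758102148)) (.node (.leaf 224412168218) (.leaf 278636156058)))))) (.node (.node (.node (.node (.node (.node (.leaf 8053077394) (.leaf 476741419546)) (.leaf 868120437130)) (.node (.leaf 9126807699) (.leaf 1419486894594))) (.node (.node (.leaf 113279829892) (.leaf 1182726901133)) (.node (.leaf 717796489099) (.leaf 1142998594052)))) (.node (.node (.node (.node (.leaf 188441702149) (.leaf 219043452676)) (.leaf 599148182808)) (.node (.leaf 225485836813) (.leaf 1603096780929))) (.node (.node (.leaf 197568601099) (.leaf 392452814722)) (.node (.leaf 801548363273) (.leaf 332323302170))))) (.node (.node (.node (.node (.node (.leaf 151934480768) (.leaf 117574757785)) (.leaf 514322558105)) (.node (.leaf 370977888653) (.leaf 1501628298374))) (.node (.node (.leaf 153008296582) (.leaf 755377675392)) (.node (.leaf 738734551053) (.leaf 1194537968257)))) (.node (.node (.node (.node (.leaf 249108161165) (.leaf 731218459907))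 (.leaf 1104343666816)) (.node (.leaf 278636156440) (.leaf 1675574378497))) (.node (.node (.leaf 540092191369) (.leaf 807991043460)) (.node (.leaf 782221105300) (.leaf 721554653830))))))
def dF_79 : BT := .node (.node (.node (.node (.node (.node (.node (.leaf 6442457998) (.leaf 298500425754)) (.leaf 848793013642)) (.node (.leaf 264140632216) (.leaf 1401233414419))) (.node (.node (.node (.leaf 264140548868) (.leaf 1816771599381)) (.leaf 673236400664)) (.node (.leaf 699006002183) (.leaf 1746441347200)))) (.node (.node (.node (.node (.leaf 128312178446) (.leaf 1605244411290)) (.leaf 563177825674)) (.node (.leaf 419296282394) (.leaf 1577863986579))) (.node (.node (.leaf 257698138265) (.leaf 1061393898266)) (.node (.leaf 786515975306) (.leaf 180388955930))))) (.node (.node (.node (.node (.node (.leaf 126164672646) (.leaf 488552711680)) (.leaf 921270666502)) (.node (.leaf 518080553754) (.leaf 906238452872))) (.node (.node (.leaf 146028970008) (.leaf 1243393328655)) (.node (.leaf 482647064976) (.leaf 957241002264)))) (.node (.node (.node (.node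 (.leaf 232465141014) (.leaf 1138703554432)) (.leaf 1079110683912)) (.node (.leaf 276488668676) (.leaf 523986236442))) (.node (.node (.leaf 512174970903) (.leaf 803696073732)) (.node (.leaf 624380949913) (.leaf 636728999050)))))) (.node (.node (.node (.node (.node (.node (.leaf 15569276676) (.leaf 892816599962)) (.leaf 886373984646)) (.node (.leaf 217432771354) (.leaf 1441498726027))) (.node (.node (.leaf 301721523213) (.leaf 1206349226895)) (.node (.leaf 53687127558) (.leaf 1794759742726)))) (.node (.node (.node (.node (.leaf 199715990278) (.leaf 285615479684)) (.leaf 1045287811589)) (.node (.leaf 449897931535) (.leaf 1019518249478))) (.node (.node (.leaf 322659529738) (.leaf 1291711597450)) (.node (.leaf 338765637402) (.leaf 406948248329))))) (.node (.node (.node (.node (.node (.leaf 47244644122) (.leaf 403727072134)) (.leaf 524523110278)) (.node (.leaf 44560296343) (.leaf 1522029260162))) (.node (.node (.leaf 381178437133) (.leaf 1286342941320)) (.node (.leaf 753766844552) (.leaf 1590212000649)))) (.node (.node (.node (.node (.leaf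 37044107411) (.leaf 1526324366728)) (.leaf 1125281699853)) (.node (.leaf 657666937090) (.leaf 1089311484936))) (.node (.node (.leaf 373662287878) (.leaf 1369021020426)) (.node (.leaf 403190249098) (.leaf 790274241818))))))
def dF_80 : BT := .node dF_78 dF_79
def dF_81 : BT := .node (.node (.node (.node (.node (.node (.node (.leaf 16643000204) (.leaf 721554595081)) (.leaf 841276873094)) (.node (.leaf 592705579799) (.leaf 1389959122577))) (.node (.node (.node (.leaf 259308700174) (.leaf 1586453816090)) (.leaf 665720204554)) (.node (.leaf 688268673293) (.leaf 1733556548230)))) (.node (.node (.node (.node (.leaf 54223966090) (.leaf 436476197761)) (.leaf 992674552981)) (.node (.leaf 288836579463) (.leaf 965831142914))) (.node (.node (.leaf 412316957463) (.leaf 821412667929)) (.node (.leaf 776852328832) (.leaf 603979877638))))) (.node (.node (.node (.node (.node (.leaf 57445189522) (.leaf 630286521856)) (.leaf 913754408202)) (.node (.leaf 336081271063) (.leaf 1472100333062))) (.node (.node (.leaf 334470642691) (.leaf 738734669186)) (.node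 (.leaf 625991632656) (.leaf 363461771545)))) (.node (.node (.node (.node (.leaf 54224015880) (.leaf 1712081690650)) (.leaf 625991739032)) (.node (.leaf 613643598739) (.leaf 1047972417049))) (.node (.node (.leaf 501437550349) (.leaf 1320702631816)) (.node (.leaf 627602266778) (.leaf 198105413765)))))) (.node (.node (.node (.node (.node (.node (.leaf 9663693582) (.leaf 1660542067482)) (.leaf 628676046744)) (.node (.leaf 110058563215) (.leaf 1432908805773))) (.node (.node (.leaf 289910361495) (.leaf 1195074815368)) (.node (.leaf 152471391130) (.leaf 1149441046920)))) (.node (.node (.node (.node (.leaf 167503765274) (.leaf 840740002696)) (.leaf 603980023178)) (.node (.leaf 389231479040) (.leaf 1612760604177))) (.node (.node (.leaf 204547925913) (.leaf 876710488960)) (.node (.leaf 6979331738) (.leaf 995358904064))))) (.node (.node (.node (.node (.node (.leaf 165356274561) (.leaf 505732520346)) (.leaf 951335380738)) (.node (.leaf 120796024969) (.leaf 1512365580674))) (.node (.node (.leaf 371514759567) (.leaf 1278289822853)) (.node (.leaf 745713780486)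 (.leaf 1240709036289)))) (.node (.node (.node (.node (.leaf 110058555652) (.leaf 1735166921626)) (.leaf 1115081150093)) (.node (.leaf 648003345292) (.leaf 1686311914246))) (.node (.node (.leaf 230854623108) (.leaf 812822884872)) (.node (.leaf 748935100698) (.leaf 1194001200794))))))
def dF_82 : BT := .node (.node (.node (.node (.node (.node (.node (.leaf 7516203396) (.leaf 1331976923034)) (.leaf 436476256258)) (.node (.leaf 251255613210) (.leaf 846108893828))) (.node (.node (.leaf 127238471042) (.leaf 690953142786)) (.node (.leaf 340913198464) (.leaf 1134945527174)))) (.node (.node (.node (.node (.leaf 117037901459) (.leaf 859530506753)) (.leaf 1012001804554)) (.node (.leaf 209916576655) (.leaf 1079110912772))) (.node (.node (.leaf 186294309766) (.leaf 892279668482)) (.node (.leaf 792958526103) (.leaf 1544041111450))))) (.node (.node (.node (.node (.node (.leaf 139049573634) (.leaf 389768375065)) (.leaf 928786899217)) (.node (.leaf 241055096983) (.leaf 1489280265728))) (.node (.node (.leaf 353261144207) (.leaf 749472092040)) (.node (.leaf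 726386424724) (.leaf 515933078552)))) (.node (.node (.node (.node (.leaf 238370701319) (.leaf 1269699977478)) (.leaf 634581678360)) (.node (.leaf 630823472019) (.leaf 1525787404803))) (.node (.node (.leaf 223875295622) (.leaf 805306687106)) (.node (.leaf 403190151061) (.leaf 1428076780442)))))) (.node (.node (.node (.node (.node (.node (.leaf 16643020808) (.leaf 505732620698)) (.leaf 486405260295)) (.node (.leaf 387084019994) (.leaf 877784286744))) (.node (.node (.leaf 127775351302) (.leaf 721017924120)) (.node (.leaf 8053065617) (.leaf 1178432082182)))) (.node (.node (.node (.node (.leaf 53150270082) (.leaf 1445793651713)) (.leaf 1056025266050)) (.node (.leaf 515933069459) (.leaf 1018444510856))) (.node (.node (.leaf 208842898824) (.leaf 773094423428)) (.node (.leaf 153008246421) (.leaf 445066193562))))) (.node (.node (.node (.node (.node (.leaf 119722220421) (.leaf 561567057543)) (.leaf 972810324493)) (.node (.leaf 229780803738) (.leaf 947577525122))) (.node (.node (.leaf 391915808005) (.leaf 1094143135386)) (.node (.leaf 761283134743)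 (.leaf 1785096210458)))) (.node (.node (.node (.node (.leaf 198105415186) (.leaf 657667137306)) (.leaf 657667136900)) (.node (.leaf 665720089623) (.leaf 1709934117514))) (.node (.node (.leaf 241055175576) (.leaf 1297080338442)) (.node (.leaf 407485218442) (.leaf 857383050905))))))
def dF_83 : BT := .node dF_81 dF_82
def dF_84 : BT := .node dF_80 dF_83
def dF_85 : BT := .node (.node (.node (.node (.node (.node (.node (.leaf 536873358) (.leaf 1202054312602)) (.leaf 838055693461)) (.node (.leaf 249108243846) (.leaf 833223985796))) (.node (.node (.node (.leaf 257698081804) (.leaf 1673963830019)) (.leaf 662498977926)) (.node (.leaf 683436744710) (.leaf 1728187731337)))) (.node (.node (.node (.node (.leaf 78383159949) (.leaf 839666354690)) (.leaf 554587887752)) (.node (.leaf 362387953306) (.leaf 1554778390155))) (.node (.node (.leaf 405874453128) (.leaf 887447727236)) (.node (.leaf 772557426583) (.leaf 845571941146))))) (.node (.node (.node (.node (.node (.leaf 28454185226) (.leaf 1300301635738)) (.leaf 485868392326)) (.node (.leaf 144955180823)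 (.leaf 897648514690))) (.node (.node (.leaf 138512773890) (.leaf 1228360939526)) (.node (.leaf 291520974729) (.leaf 915901833754)))) (.node (.node (.node (.node (.leaf 219043354634) (.leaf 1513439516546)) (.leaf 624917996184)) (.node (.leaf 608274807817) (.leaf 1657857624328))) (.node (.node (.leaf 214211612185) (.leaf 1315333922181)) (.node (.leaf 298500388634) (.leaf 277562413210)))))) (.node (.node (.node (.node (.node (.node (.leaf 8589949977) (.leaf 721017806745)) (.leaf 872415342208)) (.node (.leaf 127238436495) (.leaf 1426466217606))) (.node (.node (.leaf 286152264207) (.leaf 1187021752064)) (.node (.leaf 721017806743) (.leaf 1156957134986)))) (.node (.node (.node (.node (.leaf 192736693015) (.leaf 1132260954122)) (.leaf 637266018816)) (.node (.leaf 355945485446) (.leaf 994822183192))) (.node (.node (.leaf 198105473428) (.leaf 849866766872)) (.node (.leaf 389768474260) (.leaf 845571859082))))) (.node (.node (.node (.node (.node (.leaf 37044130827) (.leaf 514859327385)) (.leaf 945429835009)) (.node (.leaf 376346599059) (.leaf 1505386396313)))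 (.node (.node (.leaf 367756661143) (.leaf 758062031128)) (.node (.leaf 345208173464) (.leaf 1815697741978)))) (.node (.node (.node (.node (.leaf 251792484246) (.leaf 1276142426778)) (.leaf 647466584202)) (.node (.leaf 643708376979) (.leaf 1680406354177))) (.node (.node (.leaf 544924099727) (.leaf 1352914891401)) (.node (.leaf 408558861460) (.leaf 373662243865))))))
def dF_86 : BT := .node (.node (.node (.node (.node (.node (.node (.leaf 37044100096) (.leaf 992674698266)) (.leaf 428423191556)) (.node (.leaf 112206086169) (.leaf 1406065119364))) (.node (.node (.node (.leaf 268435515914) (.leaf 1817845341457)) (.leaf 1166083782664)) (.node (.leaf 704911584133) (.leaf 1751273332224)))) (.node (.node (.node (.node (.leaf 88046840206) (.leaf 613643787290)) (.leaf 1007706942095)) (.node (.leaf 198642284823) (.leaf 1585380036738))) (.node (.node (.leaf 427349290242) (.leaf 115964180993)) (.node (.leaf 789737200902) (.leaf 1010391299482))))) (.node (.node (.node (.node (.node (.leaf 30601673730) (.leaf 996969417498)) (.leaf 923955058712)) (.node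 (.leaf 236760128653) (.leaf 907849067160))) (.node (.node (.leaf 347892386952) (.leaf 747861478552)) (.node (.leaf 336081363092) (.leaf 1547799121304)))) (.node (.node (.node (.node (.leaf 234612626190) (.leaf 1252520018697)) (.leaf 632971064074)) (.node (.leaf 628139116813) (.leaf 1537598662144))) (.node (.node (.leaf 518080484353) (.leaf 819802085378)) (.node (.leaf 663035758976) (.leaf 1084479332378)))))) (.node (.node (.node (.node (.node (.node (.leaf 89120582294) (.leaf 515933035527)) (.leaf 892816539537)) (.node (.leaf 65498266895) (.leaf 1007707046409))) (.node (.node (.leaf 255013756048) (.leaf 885300331136)) (.node (.leaf 110058600346) (.leaf 1798517983745)))) (.node (.node (.node (.node (.leaf 204547864844) (.leaf 855772522887)) (.leaf 615791186566)) (.node (.leaf 486405162255) (.leaf 1013075800192))) (.node (.node (.leaf 472983323392) (.leaf 1296543437190)) (.node (.leaf 65498309658) (.leaf 406948248345))))) (.node (.node (.node (.node (.node (.leaf 41339084314) (.leaf 993748116122)) (.leaf 966367767687)) (.node (.leaf 52613361935)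 (.leaf 1526861098372))) (.node (.node (.leaf 387083967365) (.leaf 987305824517)) (.node (.leaf 758061908493) (.leaf 1619203096967)))) (.node (.node (.node (.node (.leaf 230317674771) (.leaf 1337882583050)) (.leaf 1127965942788)) (.node (.leaf 296352901124) (.leaf 1704028680704))) (.node (.node (.leaf 564251387275) (.leaf 1373315988484)) (.node (.leaf 817654503040) (.leaf 223875223691))))))
def dF_87 : BT := .node dF_85 dF_86
def dF_88 : BT := .node (.node (.node (.node (.node (.node (.node (.leaf 1610618384) (.leaf 1191316908954)) (.leaf 844498046592)) (.node (.leaf 351650589585) (.leaf 839666438916))) (.node (.node (.node (.leaf 94489342982) (.leaf 1243393366786)) (.leaf 669478302360)) (.node (.leaf 310311552264) (.leaf 1741072636297)))) (.node (.node (.node (.node (.leaf 97710520215) (.leaf 649613899778)) (.leaf 561567211673)) (.node (.leaf 407485119373) (.leaf 1568737036040))) (.node (.node (.leaf 417148749317) (.leaf 1061930910211)) (.node (.leaf 782221105299) (.leaf 242129021978))))) (.node (.node (.node (.node (.node (.leaf 119722241675)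 (.leaf 563177824282)) (.leaf 487479006856)) (.node (.leaf 193810503833) (.leaf 1475858353536))) (.node (.node (.leaf 338765625217) (.leaf 740345282688)) (.node (.leaf 441307994896) (.leaf 1499480696710)))) (.node (.node (.node (.node (.leaf 229780803727) (.leaf 1040455984643)) (.leaf 629212965386)) (.node (.leaf 620622840066) (.leaf 1668595177348))) (.node (.node (.leaf 507343064068) (.leaf 1328218952975)) (.node (.leaf 236760128661) (.leaf 603979882370)))))) (.node (.node (.node (.node (.node (.node (.leaf 15032404356) (.leaf 285078522265)) (.leaf 573378343961)) (.node (.leaf 331786302743) (.leaf 1378684844808))) (.node (.node (.leaf 294205320327) (.leaf 1202054141448)) (.node (.leaf 30064778257) (.leaf 1786169800452)))) (.node (.node (.node (.node (.leaf 116501015575) (.leaf 1322850322432)) (.leaf 606664378758)) (.node (.leaf 419296226314) (.leaf 1004485862681))) (.node (.node (.leaf 200252960651) (.leaf 1287953502722)) (.node (.leaf 58518931354) (.leaf 847182501386))))) (.node (.node (.node (.node (.node (.leaf 71403856789) (.leaf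 906238329993)) (.leaf 956167322261)) (.node (.leaf 145492051853) (.leaf 1517734336768))) (.node (.node (.leaf 377420289675) (.leaf 1282048043539)) (.node (.leaf 352187496970) (.leaf 1250909619587)))) (.node (.node (.node (.node (.leaf 7516214554) (.leaf 526133737370)) (.leaf 1119912878218)) (.node (.leaf 653372055693) (.leaf 1082332161796))) (.node (.node (.leaf 552440256913) (.leaf 816044111368)) (.node (.leaf 807990915221) (.leaf 688268726170))))))
def dF_89 : BT := .node (.node (.node (.node (.node (.node (.node (.leaf 7516204820) (.leaf 755914430106)) (.leaf 863288531462)) (.node (.leaf 272730488343) (.leaf 850403862278))) (.node (.node (.leaf 112742957700) (.leaf 1176821319692)) (.node (.leaf 713501612183) (.leaf 1763621217034)))) (.node (.node (.node (.node (.leaf 44023458456) (.leaf 738734622106)) (.leaf 1018444362899)) (.node (.leaf 520764908954) (.leaf 1597728070282))) (.node (.node (.leaf 436476113162) (.leaf 1207959844352)) (.node (.leaf 375809828504) (.leaf 1061930925850))))) (.node (.node (.node (.node (.node (.leaf 35970385793)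 (.leaf 1350230669978)) (.leaf 506806363786)) (.node (.leaf 344671171721) (.leaf 921270842392))) (.node (.node (.leaf 358092935815) (.leaf 1259499339138)) (.node (.leaf 731218263434) (.leaf 1495722729882)))) (.node (.node (.node (.node (.leaf 65498309913) (.leaf 1612760488709)) (.leaf 640487259905)) (.node (.leaf 636192097541) (.leaf 1672353143174))) (.node (.node (.leaf 224412168080) (.leaf 807454171778)) (.node (.leaf 497679454100) (.leaf 632970894874)))))) (.node (.node (.node (.node (.node (.node (.leaf 99321139214) (.leaf 520228141594)) (.leaf 902480116232)) (.node (.leaf 285078497156) (.leaf 890669190154))) (.node (.node (.leaf 316217041421) (.leaf 1219234013956)) (.node (.leaf 197568542737) (.leaf 1182727051140)))) (.node (.node (.node (.node (.leaf 213674659215) (.leaf 1445793629322)) (.leaf 1059246457480)) (.node (.leaf 530428587543) (.leaf 1028645060106))) (.node (.node (.leaf 209379771156) (.leaf 1306207209478)) (.node (.leaf 285078608410) (.leaf 537408156826))))) (.node (.node (.node (.node (.node (.leaf 1073741967) (.leaf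 419296326914)) (.leaf 534186790786)) (.node (.leaf 555661526413) (.leaf 952409364994))) (.node (.node (.leaf 175020012056) (.leaf 198642387226)) (.node (.leaf 765041231232) (.leaf 1576253238938)))) (.node (.node (.node (.node (.leaf 253403098518) (.leaf 793495387525)) (.leaf 1134945378583)) (.node (.leaf 671625581834) (.leaf 1104880745984))) (.node (.node (.leaf 578210030597) (.leaf 1378147828870)) (.node (.leaf 409632703236) (.leaf 779536713242))))))
def dF_90 : BT := .node dF_88 dF_89
def dF_91 : BT := .node dF_87 dF_90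
def dF_92 : BT := .node dF_84 dF_91
def dF_93 : BT := .node dF_77 dF_92
def dF_94 : BT := .node (.node (.node (.node (.node (.node (.node (.leaf 1610613122) (.leaf 691490018330)) (.leaf 832150011657)) (.node (.leaf 249108242457) (.leaf 829465888392))) (.node (.node (.node (.leaf 255013713555) (.leaf 1282048006922)) (.leaf 658740880266)) (.node (.leaf 675383768335) (.leaf 1107028230792)))) (.node (.node (.node (.node (.leaf 140123316234) (.leaf 285615526170)) (.leaf 981400155273)) (.node (.leaf 568009560333) (.leaf 1546725325323))) (.node (.node (.leaf 400505743877) (.leaf 198642303489)) (.node (.leaf 768799232390) (.leaf 1460289180568))))) (.node (.node (.node (.node (.node (.leaf 17716765075) (.leaf 449897898500)) (.leaf 905701444492)) (.node (.leaf 30601643530) (.leaf 892816674690))) (.node (.node (.leaf 321048838410) (.leaf 1222992229143)) (.node (.leaf 275951797274) (.leaf 1814623964808)))) (.node (.node (.node (.node (.leaf 39728456858) (.leaf 1741609459994)) (.leaf 621696769305)) (.node (.leaf 603443048973) (.leaf 1651952043274)))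 (.node (.node (.leaf 489626322315) (.leaf 782221230978)) (.node (.leaf 52613361941) (.leaf 826781377163)))))) (.node (.node (.node (.node (.node (.node (.leaf 55297706245) (.leaf 893890251776)) (.leaf 462246061824)) (.node (.leaf 573915141914) (.leaf 1418950109313))) (.node (.node (.leaf 281857294735) (.leaf 1181653041803)) (.node (.leaf 332323265552) (.leaf 1770063668488)))) (.node (.node (.node (.node (.leaf 186831088901) (.leaf 574988804741)) (.leaf 599148182532)) (.node (.leaf 534186688410) (.leaf 992674698120))) (.node (.node (.leaf 197568600710) (.leaf 747324487578)) (.node (.leaf 382252280216) (.leaf 462246184600))))) (.node (.node (.node (.node (.node (.leaf 35970386968) (.leaf 403190136322)) (.leaf 514322557832)) (.node (.leaf 358629854733) (.leaf 1501628161792))) (.node (.node (.leaf 153008296193) (.leaf 753230191256)) (.node (.leaf 737123844362) (.leaf 1195074739226)))) (.node (.node (.node (.node (.leaf 248034419087) (.leaf 1228897893768)) (.leaf 1102733116179)) (.node (.leaf 639950193542) (.leaf 1673963902737))) (.node (.node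 (.leaf 224949040409) (.leaf 807454172312)) (.node (.leaf 426812476821) (.leaf 909459489946))))))
def dF_95 : BT := .node (.node (.node (.node (.node (.node (.node (.leaf 28454159874) (.leaf 1654099543066)) (.leaf 847719271812)) (.node (.leaf 600221744395) (.leaf 1399622668673))) (.node (.node (.node (.leaf 263603655428) (.leaf 1816771462276)) (.leaf 1159641330314)) (.node (.leaf 311385295242) (.leaf 1128503073026)))) (.node (.node (.node (.node (.leaf 168040634381) (.leaf 936302922778)) (.leaf 1000727569792)) (.node (.leaf 413927585818) (.leaf 1576253229832))) (.node (.node (.leaf 184683693968) (.leaf 1033476651777)) (.node (.leaf 785442331539) (.leaf 856846042010))))) (.node (.node (.node (.node (.node (.leaf 124554058895) (.leaf 362924810503)) (.leaf 920733796611)) (.node (.leaf 496068840858) (.leaf 906238452481))) (.node (.node (.leaf 341986852365) (.leaf 1241782715543)) (.node (.leaf 658203895056) (.leaf 373662520602)))) (.node (.node (.node (.node (.leaf 54760888339) (.leaf 759135702145)) (.leaf 1078573829250)) (.node (.leaf 275951797529)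 (.leaf 519154296986))) (.node (.node (.leaf 511638099853) (.leaf 1333587535750)) (.node (.leaf 309774590101) (.leaf 1427540055194)))))) (.node (.node (.node (.node (.node (.node (.leaf 15032405268) (.leaf 686657985792)) (.leaf 884763372550)) (.node (.leaf 45634038415) (.leaf 1440424865049))) (.node (.node (.leaf 118648543124) (.leaf 1204738613633)) (.node (.leaf 43486554257) (.leaf 1792612252932)))) (.node (.node (.node (.node (.leaf 46170945536) (.leaf 1341103801475)) (.leaf 1044214172813)) (.node (.leaf 440234252815) (.leaf 1008780830977))) (.node (.node (.leaf 467077798675) (.leaf 1290101008771)) (.node (.leaf 158377009050) (.leaf 1424855796226))))) (.node (.node (.node (.node (.node (.leaf 17179870874) (.leaf 675383768345)) (.leaf 959925390598)) (.node (.leaf 257698081818) (.leaf 1520955517062))) (.node (.node (.leaf 380104695063) (.leaf 1285806016642)) (.node (.leaf 352724368774) (.leaf 1567126594306)))) (.node (.node (.node (.node (.leaf 46170909586) (.leaf 1474247761050)) (.leaf 1123671046408)) (.node (.leaf 657130152833) (.leaf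 1678258874886))) (.node (.node (.leaf 557808934795) (.leaf 1367410407682)) (.node (.leaf 811749012500) (.leaf 44560561946))))))
def dF_96 : BT := .node dF_94 dF_95
def dF_97 : BT := .node (.node (.node (.node (.node (.node (.node (.leaf 15569258124) (.leaf 223338334210)) (.leaf 840740048655)) (.node (.leaf 592168708751) (.leaf 838055824898))) (.node (.node (.node (.leaf 258771825815) (.leaf 1010391297280)) (.leaf 1146219670415)) (.node (.leaf 310848421888) (.leaf 1123671231746)))) (.node (.node (.node (.node (.leaf 8053067660) (.leaf 505732622340)) (.leaf 555124759576)) (.node (.leaf 285615353098) (.leaf 980863528066))) (.node (.node (.leaf 180925595417) (.leaf 336618159001)) (.node (.leaf 775241683592) (.leaf 428960011290))))) (.node (.node (.node (.node (.node (.leaf 81604398234) (.leaf 570693878170)) (.leaf 912680768015)) (.node (.leaf 278099198743) (.leaf 1471026514050))) (.node (.node (.leaf 332860044695) (.leaf 737124056064)) (.node (.leaf 637265924496) (.leaf 1807644710554)))) (.node (.node (.node (.node (.leaf 54224015361) (.leaf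 1125818600835)) (.leaf 625991738502)) (.node (.leaf 613106727693) (.leaf 1240172203147))) (.node (.node (.leaf 500900647046) (.leaf 789200555288)) (.node (.leaf 370977888661) (.leaf 427349449370)))))) (.node (.node (.node (.node (.node (.node (.leaf 69256350601) (.leaf 807454171802)) (.leaf 874026053133)) (.node (.leaf 127775351833) (.leaf 860067542274))) (.node (.node (.leaf 289373476609) (.leaf 1192390460678)) (.node (.leaf 9126821658) (.leaf 1147830433792)))) (.node (.node (.node (.node (.leaf 59592694426) (.leaf 1322850249114)) (.leaf 1035087365143)) (.node (.leaf 363461694093) (.leaf 997506538888))) (.node (.node (.leaf 453119098507) (.leaf 922344485891)) (.node (.leaf 41339100058) (.leaf 1372242372737))))) (.node (.node (.node (.node (.node (.leaf 163208788742) (.leaf 497679454089)) (.leaf 949724767108)) (.node (.leaf 297963428506) (.leaf 927176425345))) (.node (.node (.leaf 370977856138) (.leaf 1276679209734)) (.node (.leaf 350576883092) (.leaf 798327230470)))) (.node (.node (.node (.node (.leaf 181999260058) (.leaf 1527397960602))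 (.leaf 1113470536973)) (.node (.leaf 646929517577) (.leaf 1449014993030))) (.node (.node (.leaf 548145327631) (.leaf 1357746860033)) (.node (.leaf 488015778179) (.leaf 375809770500))))))
def dF_98 : BT := .node (.node (.node (.node (.node (.node (.node (.leaf 42412805376) (.leaf 721554669440)) (.leaf 857919820041)) (.node (.leaf 30064778263) (.leaf 845572022552))) (.node (.node (.leaf 271656744467) (.leaf 1169841958408)) (.node (.leaf 710280295560) (.leaf 1133871784833)))) (.node (.node (.node (.node (.leaf 43486586393) (.leaf 1727113916954)) (.leaf 1010928063365)) (.node (.leaf 479962737690) (.leaf 983011019416))) (.node (.node (.leaf 432181185933) (.leaf 908922602373)) (.node (.leaf 792421555590) (.leaf 958851771802))))) (.node (.node (.node (.node (.node (.leaf 137975855894) (.leaf 184146766745)) (.leaf 927176286086)) (.node (.leaf 567472694170) (.leaf 1491964483712))) (.node (.node (.leaf 352187354376) (.leaf 1253056887302)) (.node (.leaf 724775811464) (.leaf 1195611899776)))) (.node (.node (.node (.node (.leaf 237296999574) (.leaf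 1746978246275)) (.leaf 1089311340181)) (.node (.leaf 630286600975) (.leaf 1454920436482))) (.node (.node (.leaf 229244004121) (.leaf 1337882504710)) (.node (.leaf 624917890580) (.leaf 1799591485978)))))) (.node (.node (.node (.node (.node (.node (.leaf 16643020546) (.leaf 370977950208)) (.leaf 896574533384)) (.node (.leaf 157840063624) (.leaf 1447941106688))) (.node (.node (.leaf 308700847881) (.leaf 1212791677825)) (.node (.leaf 285078522247) (.leaf 1177895210880)))) (.node (.node (.node (.node (.leaf 207769087746) (.leaf 1204201742745)) (.leaf 908922705540)) (.node (.leaf 514322456333) (.leaf 1016297026692))) (.node (.node (.leaf 476741420544) (.leaf 925565637002)) (.node (.leaf 151934504341) (.leaf 408558874241))))) (.node (.node (.node (.node (.node (.leaf 73551324935) (.leaf 576062786714)) (.leaf 530428692610)) (.node (.leaf 502511258889) (.leaf 1530619195019))) (.node (.node (.leaf 390842117005) (.leaf 987305863939)) (.node (.leaf 358629950616) (.leaf 1604707544327)))) (.node (.node (.node (.node (.leaf 232465141011) (.leaf 1395327832965))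 (.leaf 657667136769)) (.node (.leaf 665183218575) (.leaf 1259499566731))) (.node (.node (.leaf 241055175179) (.leaf 835908142347)) (.node (.leaf 821949463428) (.leaf 110058563225))))))
def dF_99 : BT := .node dF_97 dF_98
def dF_100 : BT := .node dF_96 dF_99
def dF_101 : BT := .node (.node (.node (.node (.node (.node (.node (.leaf 8053063812) (.leaf 734976341530)) (.leaf 415001414681)) (.node (.leaf 588947526797) (.leaf 1384590280459))) (.node (.node (.node (.leaf 257161209747) (.leaf 1237487772554)) (.leaf 1141387739136)) (.node (.leaf 682363002882) (.leaf 1113470683270)))) (.node (.node (.node (.node (.leaf 16643000207) (.leaf 941671804185)) (.leaf 986768923271)) (.node (.leaf 151934480773) (.leaf 1553704684419))) (.node (.node (.leaf 404263893015) (.leaf 878321068672)) (.node (.leaf 772020555535) (.leaf 1345935578112))))) (.node (.node (.node (.node (.node (.leaf 111669156738) (.leaf 308164330266)) (.leaf 482647166488)) (.node (.leaf 144955156742) (.leaf 894964159616))) (.node (.node (.leaf 134217806232) (.leaf 1228897810572)) (.node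 (.leaf 225485836817) (.leaf 1683627462661)))) (.node (.node (.node (.node (.leaf 53150272152) (.leaf 966904728707)) (.leaf 1066762756497)) (.node (.leaf 606664275223) (.leaf 1656783882626))) (.node (.node (.leaf 214211611786) (.leaf 785442457606)) (.node (.leaf 112742918421) (.leaf 629749872154)))))) (.node (.node (.node (.node (.node (.node (.leaf 62277028102) (.leaf 264140530442)) (.leaf 871341599104)) (.node (.leaf 118111628815) (.leaf 1423781973384))) (.node (.node (.leaf 285078515588) (.leaf 692026888192)) (.node (.leaf 336081362822) (.leaf 1342714343429)))) (.node (.node (.node (.node (.leaf 45097202321) (.leaf 1128502926105)) (.leaf 620623020294)) (.node (.leaf 351113660175) (.leaf 994822182790))) (.node (.node (.leaf 198105473034) (.leaf 853088093697)) (.node (.leaf 389231603096) (.leaf 408558936713))))) (.node (.node (.node (.node (.node (.leaf 36507259416) (.leaf 1259499496218)) (.leaf 514859429529)) (.node (.leaf 375272856983) (.leaf 1505923128710))) (.node (.node (.leaf 367219755014) (.leaf 758062030724)) (.node (.leaf 740882035215)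 (.leaf 1284732449281)))) (.node (.node (.node (.node (.leaf 110058596871) (.leaf 1435056202138)) (.leaf 647466583810)) (.node (.leaf 435939284865) (.leaf 1678795741057))) (.node (.node (.leaf 543850357647) (.leaf 809064786440)) (.node (.leaf 441307994900) (.leaf 1066762756505))))))
def dF_102 : BT := .node (.node (.node (.node (.node (.node (.node (.leaf 6979330434) (.leaf 772557526298)) (.leaf 853087981826)) (.node (.leaf 264140553498) (.leaf 1404454506504))) (.node (.node (.node (.leaf 267361777811) (.leaf 1251983400198)) (.leaf 1165010156821)) (.node (.leaf 384936611591) (.leaf 1128503074200)))) (.node (.node (.node (.node (.leaf 153008246540) (.leaf 1475321498753)) (.leaf 1006633096323)) (.node (.leaf 197568601497) (.leaf 978716049920))) (.node (.node (.leaf 185220566169) (.leaf 267898834458)) (.node (.leaf 784905362569) (.leaf 1376537220250))))) (.node (.node (.node (.node (.node (.leaf 131533390336) (.leaf 185757363842)) (.leaf 923418150790)) (.node (.leaf 236223239430) (.leaf 907312195716))) (.node (.node (.leaf 146565841816)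 (.leaf 746787736321)) (.node (.leaf 345208078736) (.leaf 795643116442)))) (.node (.node (.node (.node (.leaf 60129597971) (.leaf 1127966022791)) (.leaf 632971063814)) (.node (.leaf 276488669204) (.leaf 1539746134426))) (.node (.node (.leaf 516469940367) (.leaf 406948248323)) (.node (.leaf 684510600320) (.leaf 857383146650)))))) (.node (.node (.node (.node (.node (.node (.leaf 88583704326) (.leaf 1187558643866)) (.leaf 891742694921)) (.node (.leaf 246423805978) (.leaf 1376537362694))) (.node (.node (.leaf 304405836433) (.leaf 886374071688)) (.node (.leaf 151934519194) (.leaf 1170379016729)))) (.node (.node (.node (.node (.leaf 204010995073) (.leaf 1206349152132)) (.leaf 613643702536)) (.node (.leaf 478888903306) (.leaf 1095217049217))) (.node (.node (.leaf 471909641879) (.leaf 769873196824)) (.node (.leaf 200252960922) (.leaf 724239032985))))) (.node (.node (.node (.node (.node (.leaf 61203293082) (.leaf 184146780294)) (.leaf 534723658498)) (.node (.leaf 46170909459) (.leaf 1526324366733))) (.node (.node (.leaf 163745720065) (.leaf 989453207066))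 (.node (.leaf 756451199880) (.leaf 1296006804992)))) (.node (.node (.node (.node (.leaf 236760128786) (.leaf 1757178914693)) (.leaf 1127429184013)) (.node (.leaf 293131675284) (.leaf 1702417923718))) (.node (.node (.leaf 562640773632) (.leaf 819802209926)) (.node (.leaf 817117624324) (.leaf 710280445338))))))
def dF_103 : BT := .node dF_101 dF_102
def dF_104 : BT := .node (.node (.node (.node (.node (.node (.node (.leaf 21474839820) (.leaf 361851110810)) (.leaf 423054479624)) (.node (.leaf 259308792464) (.leaf 838592696728))) (.node (.node (.node (.leaf 154618884870) (.leaf 758061970568)) (.leaf 668941431178)) (.node (.leaf 691489899539) (.leaf 1125281846296)))) (.node (.node (.node (.node (.leaf 87509969165) (.leaf 358629854745)) (.leaf 561567211400)) (.node (.leaf 298500298263) (.leaf 968515498904))) (.node (.node (.leaf 415538184855) (.leaf 1080184425370)) (.node (.leaf 781684136962) (.leaf 976568413210))))) (.node (.node (.node (.node (.node (.leaf 30064799236) (.leaf 917512694273)) (.leaf 486942135562)) (.node (.leaf 185220508815)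 (.leaf 905164709252))) (.node (.node (.leaf 145492097680) (.leaf 1237487628420)) (.node (.leaf 643708376976) (.leaf 768799427480)))) (.node (.node (.node (.node (.leaf 229243932684) (.leaf 1240708949146)) (.leaf 1075352587012)) (.node (.leaf 619012226827) (.leaf 1668595184131))) (.node (.node (.leaf 505195581191) (.leaf 792958653336)) (.node (.leaf 214748416021) (.leaf 173946301850)))))) (.node (.node (.node (.node (.node (.node (.leaf 76772546571) (.leaf 734439556890)) (.leaf 879931532550)) (.node (.leaf 112742918415) (.leaf 1436666766338))) (.node (.node (.leaf 293668449419) (.leaf 710817373569)) (.node (.leaf 65498309402) (.leaf 1784559187330)))) (.node (.node (.node (.node (.leaf 1073745177) (.leaf 710817264133)) (.leaf 606664378628)) (.node (.leaf 446139834263) (.leaf 1618666039298))) (.node (.node (.leaf 199716089232) (.leaf 990527139331)) (.node (.leaf 270583016730) (.leaf 828392131610))))) (.node (.node (.node (.node (.node (.leaf 38117875480) (.leaf 530428698138)) (.leaf 955093580177)) (.node (.leaf 180388669455) (.leaf 930397652230)))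 (.node (.node (.leaf 158377008646) (.leaf 1281511048582)) (.node (.leaf 351650625668) (.leaf 773094297605)))) (.node (.node (.node (.node (.leaf 78920030994) (.leaf 1234803447555)) (.leaf 653372166660)) (.node (.leaf 651761355787) (.leaf 1689533043720))) (.node (.node (.leaf 236223332738) (.leaf 1363115570176)) (.node (.leaf 807454044182) (.leaf 110595471898))))))
def dF_105 : BT := .node (.node (.node (.node (.node (.node (.node (.leaf 7516204175) (.leaf 762356876825)) (.leaf 861677918850)) (.node (.leaf 272193617293) (.leaf 849866991110))) (.node (.node (.leaf 252329394328) (.leaf 684510693144)) (.node (.leaf 606127429634) (.leaf 1762010603912)))) (.node (.node (.node (.node (.leaf 181999281281) (.leaf 1202054240779)) (.leaf 581968311042)) (.node (.leaf 222801481619) (.leaf 988916600450))) (.node (.node (.leaf 435402391827) (.leaf 1065689053057)) (.node (.leaf 795642881299) (.leaf 602369354888))))) (.node (.node (.node (.node (.node (.leaf 31675418008) (.leaf 806917073797)) (.leaf 933618636804)) (.node (.leaf 35970359695) (.leaf 918049616257)))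 (.node (.node (.leaf 298500312064) (.leaf 1257888846737)) (.node (.leaf 340376332170) (.leaf 799401166746)))) (.node (.node (.node (.node (.leaf 65498309522) (.leaf 1526324379402)) (.leaf 1095753683849)) (.node (.leaf 277562412810) (.leaf 1284195619842))) (.node (.node (.leaf 529891643650) (.leaf 1341103730568)) (.node (.leaf 525596748180) (.leaf 1075889423642)))))) (.node (.node (.node (.node (.node (.node (.leaf 98247391244) (.leaf 1202054177024)) (.leaf 474594100994)) (.node (.leaf 253403098522) (.leaf 887984834969))) (.node (.node (.leaf 315143299223) (.leaf 724239150854)) (.node (.leaf 117037886737) (.leaf 1182190179974)))) (.node (.node (.node (.node (.leaf 93415589401) (.leaf 992674668801)) (.leaf 914828286336)) (.node (.leaf 526133619223) (.leaf 1645509590283))) (.node (.node (.leaf 483183882891) (.leaf 1305133372420)) (.node (.leaf 389231602970) (.leaf 310311696538))))) (.node (.node (.node (.node (.node (.leaf 72477577754) (.leaf 753230016010)) (.leaf 975494679703)) (.node (.leaf 554050870784) (.leaf 1538135389574))) (.node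 (.node (.leaf 175020011659) (.leaf 199716027546)) (.node (.leaf 763967394945) (.leaf 973884078471)))) (.node (.node (.node (.node (.leaf 253403121408) (.leaf 1266478568218)) (.leaf 658204008712)) (.node (.leaf 297426645126) (.leaf 1714229230739))) (.node (.node (.leaf 576062546564) (.leaf 1376537346564)) (.node (.leaf 826781401619) (.leaf 689879480090))))))
def dF_106 : BT := .node dF_104 dF_105
def dF_107 : BT := .node dF_103 dF_106
def dF_108 : BT := .node dF_100 dF_107
def dF_109 : BT := .node (.node (.node (.node (.node (.node (.node (.leaf 3758097288) (.leaf 791884956570)) (.leaf 835371338255)) (.node (.leaf 246423888520) (.leaf 1382979797000))) (.node (.node (.node (.leaf 256087445768) (.leaf 1125818574086)) (.leaf 1139240346897)) (.node (.leaf 305479710858) (.leaf 1396401653000)))) (.node (.node (.node (.node (.leaf 8053086490) (.leaf 1105417471385)) (.leaf 985158255620)) (.node (.leaf 341449981594) (.leaf 957241205784))) (.node (.node (.leaf 394063345152) (.leaf 890669056026)) (.node (.leaf 363998661762) (.leaf 1012001901338)))))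 (.node (.node (.node (.node (.node (.leaf 107374187670) (.leaf 462782889861)) (.leaf 906775186573)) (.node (.leaf 311385203223) (.leaf 1462973448576))) (.node (.node (.leaf 133144063380) (.leaf 1226750207622)) (.node (.leaf 264677422737) (.leaf 1811402740486)))) (.node (.node (.node (.node (.leaf 154618831376) (.leaf 928786910340)) (.leaf 625454866434)) (.node (.leaf 264677504025) (.leaf 1654636400646))) (.node (.node (.leaf 210453515012) (.leaf 1310502208408)) (.node (.leaf 242128919194) (.leaf 1678795596186)))))) (.node (.node (.node (.node (.node (.node (.leaf 8589948932) (.leaf 185757495834)) (.leaf 869194213773)) (.node (.leaf 8589936282) (.leaf 1319629040390))) (.node (.node (.leaf 283467907859) (.leaf 1183800643223)) (.node (.leaf 718870231174) (.leaf 1145146077962)))) (.node (.node (.node (.node (.leaf 190052337676) (.leaf 941671816839)) (.leaf 1028644912660)) (.node (.leaf 340376239373) (.leaf 1604170667541))) (.node (.node (.leaf 443992292481) (.leaf 753767059866)) (.node (.leaf 385473506328) (.leaf 406948248858))))) (.node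 (.node (.node (.node (.node (.leaf 36507258506) (.leaf 838055825434)) (.leaf 941671804181)) (.node (.leaf 373662243855) (.leaf 1144072271750))) (.node (.node (.leaf 365072257419) (.leaf 1160715214208)) (.node (.leaf 739271422094) (.leaf 988916501888)))) (.node (.node (.node (.node (.leaf 68719536409) (.leaf 1695438533146)) (.leaf 840740111494)) (.node (.leaf 331249505926) (.leaf 1060857321753))) (.node (.node (.leaf 228707137796) (.leaf 807991043720)) (.node (.leaf 731218356500) (.leaf 278636069771))))))
def dF_110 : BT := .node (.node (.node (.node (.node (.node (.node (.leaf 31138520204) (.leaf 686121192602)) (.leaf 850403727374)) (.node (.leaf 275414843418) (.leaf 1127429249547))) (.node (.node (.node (.leaf 265214293647) (.leaf 1817308470413)) (.leaf 1163399427211)) (.node (.leaf 311922166937) (.leaf 1746978218240)))) (.node (.node (.node (.node (.leaf 112742918542) (.leaf 1390495870209)) (.leaf 579820824198)) (.node (.leaf 428423091098) (.leaf 1579474455688))) (.node (.node (.leaf 423591211147) (.leaf 1057099081344)) (.node (.leaf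 374199213465) (.leaf 440771127578))))) (.node (.node (.node (.node (.node (.leaf 128312167051) (.leaf 200252935042)) (.leaf 921807575699)) (.node (.leaf 8053065613) (.leaf 1482837675018))) (.node (.node (.leaf 344671163138) (.leaf 1244466951047)) (.node (.leaf 341449981456) (.leaf 1801202134298)))) (.node (.node (.node (.node (.leaf 233002012174) (.leaf 1272921195267)) (.leaf 1080721403543)) (.node (.leaf 276488668808) (.leaf 1119913095296))) (.node (.node (.leaf 513785515906) (.leaf 856846269700)) (.node (.leaf 632434041606) (.leaf 621696664345)))))) (.node (.node (.node (.node (.node (.node (.leaf 85899355030) (.leaf 690952952962)) (.leaf 889058339334)) (.node (.leaf 53687104023) (.leaf 869194350474))) (.node (.node (.leaf 302258394262) (.leaf 1207422851594)) (.node (.leaf 242128919066) (.leaf 1795833598210)))) (.node (.node (.node (.node (.leaf 46170946580) (.leaf 423054479109)) (.leaf 1046898528008)) (.node (.leaf 462245965453) (.leaf 1010391444632))) (.node (.node (.leaf 469225284367) (.leaf 1292248495627)) (.node (.leaf 144955225882)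 (.leaf 1458678475162))))) (.node (.node (.node (.node (.node (.leaf 73551333018) (.leaf 428423058947)) (.leaf 524523110552)) (.node (.leaf 423054379535) (.leaf 939524459144))) (.node (.node (.leaf 381715308183) (.leaf 988379568516)) (.node (.leaf 352724369176) (.leaf 1171989624986)))) (.node (.node (.node (.node (.leaf 54223975186) (.leaf 1135482195073)) (.leaf 1125818459648)) (.node (.leaf 658203895055) (.leaf 1698659970433))) (.node (.node (.leaf 559956493711) (.leaf 1369557891717)) (.node (.leaf 815507109775) (.leaf 394600365978))))))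
def dF_111 : BT := .node dF_109 dF_110
def dF_112 : BT := .node (.node (.node (.node (.node (.node (.node (.leaf 17716740360) (.leaf 666256872602)) (.leaf 841813690882)) (.node (.leaf 593779324815) (.leaf 1390495993613))) (.node (.node (.node (.leaf 259845571212) (.leaf 1138703437957)) (.leaf 666793946754)) (.node (.leaf 689879285505) (.leaf 1124208103553)))) (.node (.node (.node (.node (.leaf 43486564622) (.leaf 975494679705)) (.leaf 561567211009)) (.node (.leaf 289373490583) (.leaf 1563368326278))) (.node (.node (.leaf 413390699671) (.leaf 1219234052505)) (.node (.leaf 363998663956) (.leaf 998580259354))))) (.node (.node (.node (.node (.node (.leaf 111132305042) (.leaf 449898096776)) (.leaf 914291381133)) (.node (.leaf 403190151055) (.leaf 1472637204228))) (.node (.node (.leaf 335544398976) (.leaf 1234803392019)) (.node (.leaf 363461694096) (.leaf 692026975002)))) (.node (.node (.node (.node (.leaf 227096409739) (.leaf 506269426699)) (.leaf 1073205103360)) (.node (.leaf 615254138626) (.leaf 1049046159236))) (.node (.node (.leaf 502511225489)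 (.leaf 1322850115588)) (.node (.leaf 389231504021) (.leaf 185757438234)))))) (.node (.node (.node (.node (.node (.node (.leaf 73014447117) (.leaf 606127434394)) (.leaf 877247177734)) (.node (.leaf 110595434118) (.leaf 1433445539978))) (.node (.node (.leaf 117574799124) (.leaf 696858729112)) (.node (.leaf 144955225754) (.leaf 1150514789126)))) (.node (.node (.node (.node (.leaf 5368712587) (.leaf 807990923400)) (.leaf 606127507082)) (.node (.leaf 390305246099) (.leaf 999117152129))) (.node (.node (.leaf 456877193608) (.leaf 882079084164)) (.node (.leaf 30601650330) (.leaf 969589097498))))) (.node (.node (.node (.node (.node (.leaf 37581003801) (.leaf 436476301210)) (.leaf 952409224975)) (.node (.leaf 319438271258) (.leaf 1513439323015))) (.node (.node (.leaf 372588451591) (.leaf 1279900471555)) (.node (.leaf 746250651400) (.leaf 1804423416218)))) (.node (.node (.node (.node (.leaf 28454177042) (.leaf 907312057099)) (.leaf 1115617910024)) (.node (.leaf 285615479940) (.leaf 1687385621657))) (.node (.node (.leaf 549755897491) (.leaf 1360968086016))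 (.node (.leaf 497142515721) (.leaf 1305133492762))))))
def dF_113 : BT := .node (.node (.node (.node (.node (.node (.node (.leaf 7516203656) (.leaf 691489923713)) (.leaf 859530535059)) (.node (.leaf 331786319386) (.leaf 1412507706263))) (.node (.node (.leaf 273267359255) (.leaf 682363208582)) (.node (.leaf 711354037893) (.leaf 1134945527448)))) (.node (.node (.node (.node (.leaf 179314919190) (.leaf 653908906115)) (.leaf 568546537625)) (.node (.leaf 496605713050) (.leaf 985695374342))) (.node (.node (.leaf 433791799187) (.leaf 844498046234)) (.node (.leaf 793495397143) (.leaf 1417876228762))))) (.node (.node (.node (.node (.node (.leaf 135291503253) (.leaf 345208078745)) (.leaf 506269491844)) (.node (.leaf 242128839059) (.leaf 1493575095302))) (.node (.node (.leaf 354871710211) (.leaf 751082705288)) (.node (.leaf 350576878853) (.leaf 918049628442)))) (.node (.node (.node (.node (.leaf 239981354775) (.leaf 1252520214272)) (.leaf 636729162378)) (.node (.leaf 632434001155) (.leaf 1564979039360))) (.node (.node (.leaf 223875295882) (.leaf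 1338956373777)) (.node (.leaf 722628419860) (.leaf 227633497754)))))) (.node (.node (.node (.node (.node (.node (.leaf 95026164502) (.leaf 362924823064)) (.leaf 474057229578)) (.node (.leaf 6979323543) (.leaf 1450088679044))) (.node (.node (.leaf 127775351832) (.leaf 1214939049600)) (.node (.leaf 28454165137) (.leaf 1807107875586)))) (.node (.node (.node (.node (.leaf 210453419787) (.leaf 1562294693146)) (.leaf 621696768002)) (.node (.leaf 520228037773) (.leaf 1021665736966))) (.node (.node (.leaf 208842899216) (.leaf 1302449143055)) (.node (.leaf 157840085781) (.leaf 264677465754))))) (.node (.node (.node (.node (.node (.leaf 137975864858) (.leaf 857383255706)) (.leaf 534186789382)) (.node (.leaf 54223975063) (.leaf 1534377338891))) (.node (.node (.leaf 392989576193) (.leaf 908922605848)) (.node (.leaf 761820005783) (.leaf 1622424285323)))) (.node (.node (.node (.node (.leaf 185757379986) (.leaf 1198296293379)) (.leaf 1132260910594)) (.node (.leaf 666793831695) (.leaf 1103270132228))) (.node (.node (.leaf 572304528513) (.leaf 866509979652))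 (.node (.leaf 407485218585) (.leaf 1257888846745))))))
def dF_114 : BT := .node dF_112 dF_113
def dF_115 : BT := .node dF_111 dF_114
def dF_116 : BT := .node (.node (.node (.node (.node (.node (.node (.leaf 8589936270) (.leaf 341450075674)) (.leaf 839129435535)) (.node (.leaf 590558067095) (.leaf 836445211654))) (.node (.node (.node (.leaf 258234929672) (.leaf 1241782715529)) (.leaf 663035849090)) (.node (.leaf 684510576013) (.leaf 1115081296650)))) (.node (.node (.node (.node (.leaf 78920030991) (.leaf 1048509156506)) (.leaf 554587887882)) (.node (.leaf 153008246423) (.leaf 1556389004807))) (.node (.node (.leaf 336618158982) (.leaf 891205824281)) (.node (.leaf 773094297623) (.leaf 54224230042))))) (.node (.node (.node (.node (.node (.leaf 113816640151) (.leaf 363998565145)) (.leaf 911070053514)) (.node (.leaf 275951714583) (.leaf 1468342158594))) (.node (.node (.leaf 331249387268) (.leaf 1230508423695)) (.node (.leaf 710280385936) (.leaf 1293322308506)))) (.node (.node (.node (.node (.leaf 220117087368) (.leaf 656593281931)) (.leaf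 1068373369613)) (.node (.leaf 609885501453) (.leaf 1659468237188))) (.node (.node (.leaf 497679386628) (.leaf 1316407765784)) (.node (.leaf 127775307541) (.leaf 46170945541)))))) (.node (.node (.node (.node (.node (.node (.leaf 65498267031) (.leaf 340913154561)) (.leaf 872952311059)) (.node (.leaf 136902090890) (.leaf 1428613701888))) (.node (.node (.leaf 287762838147) (.leaf 692563759876)) (.node (.leaf 146565841562) (.leaf 1146756691328)))) (.node (.node (.node (.node (.leaf 45634073866) (.leaf 773094318211)) (.leaf 1033476752021)) (.node (.leaf 361314209935) (.leaf 995359054489))) (.node (.node (.leaf 449361060371) (.leaf 1066225885448)) (.node (.leaf 719943973765) (.leaf 869731221786))))) (.node (.node (.node (.node (.node (.leaf 159987541128) (.leaf 872952295558)) (.leaf 947040446602)) (.node (.leaf 117037886733) (.leaf 926102682882))) (.node (.node (.leaf 368830403213) (.leaf 1272921235863)) (.node (.leaf 743029455112) (.leaf 1333050792329)))) (.node (.node (.node (.node (.leaf 252329355406) (.leaf 1293859078810)) (.leaf 649077197184))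 (.node (.leaf 644782033927) (.leaf 1068910386694))) (.node (.node (.leaf 545997842575) (.leaf 1355062375937)) (.node (.leaf 616864742920) (.leaf 1190779992602))))))
def dF_117 : BT := .node (.node (.node (.node (.node (.node (.node (.leaf 38654714635) (.leaf 772557426585)) (.leaf 855772437777)) (.node (.leaf 360240467994) (.leaf 842350796296))) (.node (.node (.node (.leaf 110595472408) (.leaf 1253057142018)) (.leaf 699543076616)) (.node (.leaf 323733328522) (.leaf 1752347074577)))) (.node (.node (.node (.node (.leaf 175019928192) (.leaf 657130152985)) (.leaf 1009317449862)) (.node (.leaf 200252897935) (.leaf 1587527520523))) (.node (.node (.leaf 429496774155) (.leaf 639413404570)) (.node (.leaf 790274071818) (.leaf 1572495308570))))) (.node (.node (.node (.node (.node (.leaf 134754606216) (.leaf 374736079876)) (.leaf 925028700034)) (.node (.leaf 23622321050) (.leaf 1489816997642))) (.node (.node (.leaf 349502999573) (.leaf 1251983145474)) (.node (.leaf 336081363225) (.leaf 784905652890)))) (.node (.node (.node (.node (.leaf 60666469266)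 (.leaf 1756105097882)) (.leaf 1086626972544)) (.node (.leaf 629212774916) (.leaf 970662812163))) (.node (.node (.leaf 519691165440) (.leaf 820338949122)) (.node (.leaf 758061908501) (.leaf 1362041835802)))))) (.node (.node (.node (.node (.node (.node (.leaf 90731195532) (.leaf 1115618076186)) (.leaf 893890281613)) (.node (.leaf 344671229338) (.leaf 1445793710741))) (.node (.node (.leaf 306553351563) (.leaf 1210107206534)) (.node (.leaf 199716089242) (.leaf 1800128447755)))) (.node (.node (.node (.node (.leaf 205621606935) (.leaf 1204201742728)) (.leaf 616328057864)) (.node (.leaf 488552646419) (.leaf 1634772316673))) (.node (.node (.leaf 473520194054) (.leaf 1297080432655)) (.node (.leaf 115964124290) (.leaf 446139834265))))) (.node (.node (.node (.node (.node (.leaf 90194315034) (.leaf 506806259591)) (.leaf 966904743063)) (.node (.leaf 474057128343) (.leaf 1528471711110))) (.node (.node (.leaf 388694595712) (.leaf 784905491992)) (.node (.leaf 758598779533) (.leaf 1809255282821)))) (.node (.node (.node (.node (.leaf 213674659218) (.leaf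 1338956317450)) (.leaf 658204007040)) (.node (.leaf 662498776072) (.leaf 1101659518082))) (.node (.node (.leaf 565861999745) (.leaf 828392024449)) (.node (.leaf 406948346626) (.leaf 1041529831962))))))
def dF_118 : BT := .node dF_116 dF_117
def dF_119 : BT := .node (.node (.node (.node (.node (.node (.node (.leaf 25232938880) (.leaf 376346599065)) (.leaf 845571788672)) (.node (.leaf 352187460752) (.leaf 1395327832983))) (.node (.node (.node (.leaf 262529928065) (.leaf 1714229109640)) (.leaf 671088915608)) (.node (.leaf 693637292803) (.leaf 1736777815938)))) (.node (.node (.node (.node (.leaf 94489293335) (.leaf 855772533767)) (.leaf 997506392343)) (.node (.leaf 335544400019) (.leaf 1571958262146))) (.node (.node (.leaf 418222521613) (.leaf 984621402648)) (.node (.leaf 783831621505) (.leaf 855235429146))))) (.node (.node (.node (.node (.node (.leaf 120795962885) (.leaf 792958559386)) (.leaf 917512607383)) (.node (.leaf 7516194573) (.leaf 1477469019274))) (.node (.node (.leaf 146028969090) (.leaf 739808412292)) (.node (.leaf 459561610256)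 (.leaf 522912342538)))) (.node (.node (.node (.node (.leaf 54760888070) (.leaf 1477469012747)) (.leaf 1076963258880)) (.node (.leaf 621159793303) (.leaf 1609539377924))) (.node (.node (.leaf 507880004096) (.leaf 1329292567302)) (.node (.leaf 272193617301) (.leaf 872952311065)))))) (.node (.node (.node (.node (.node (.node (.leaf 79456902038) (.leaf 809601657882)) (.leaf 881542145930)) (.node (.leaf 599684871690) (.leaf 1439351122840))) (.node (.node (.leaf 118111671193) (.leaf 1202591012747)) (.node (.leaf 311385203217) (.leaf 1159641596440)))) (.node (.node (.node (.node (.leaf 45634073995) (.leaf 1202054380551)) (.leaf 1041529817619)) (.node (.leaf 426275605783) (.leaf 1621887266306))) (.node (.node (.leaf 200252960916) (.leaf 769336324102)) (.node (.leaf 115964148762) (.leaf 474593988482))))) (.node (.node (.node (.node (.node (.leaf 173946185860) (.leaf 621159799691)) (.leaf 957777831691)) (.node (.leaf 331249431699) (.leaf 1518808172183))) (.node (.node (.leaf 379030952973) (.leaf 1283121661446)) (.node (.leaf 750008748553) (.leaf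 462782836483)))) (.node (.node (.node (.node (.leaf 6979323922) (.leaf 562103967754)) (.leaf 1121523562244)) (.node (.leaf 653908926743) (.leaf 1692217470594))) (.node (.node (.leaf 554050871558) (.leaf 816044111640)) (.node (.leaf 809601428360) (.leaf 789200423962))))))
def dF_120 : BT := .node (.node (.node (.node (.node (.node (.node (.leaf 52076481923) (.leaf 355945499545)) (.leaf 440771224964)) (.node (.leaf 52076490778) (.leaf 1416802674304))) (.node (.node (.leaf 279172901515) (.leaf 686658177418)) (.node (.leaf 715112199810) (.leaf 1137629883528)))) (.node (.node (.node (.node (.leaf 52613393284) (.leaf 806917129738)) (.leaf 576599603074)) (.node (.leaf 525596753178) (.leaf 1598264941574))) (.node (.node (.leaf 437549849986) (.leaf 1083942544651)) (.node (.leaf 376346699658) (.leaf 278636105606))))) (.node (.node (.node (.node (.node (.leaf 146565767810) (.leaf 1363115653658)) (.leaf 513785686144)) (.node (.leaf 345208078739) (.leaf 1500017547910))) (.node (.node (.leaf 359166725647) (.leaf 1261109952258)) (.node (.leaf 340913203736)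 (.leaf 1195611832963)))) (.node (.node (.node (.node (.leaf 246423805974) (.leaf 1389959124739)) (.leaf 1100585522699)) (.node (.leaf 637265924493) (.leaf 1084479640968))) (.node (.node (.leaf 533649740933) (.leaf 1343251341440)) (.node (.leaf 482647064980) (.leaf 344671191690)))))) (.node (.node (.node (.node (.node (.node (.leaf 17179893397) (.leaf 224412094745)) (.leaf 478889069056)) (.node (.leaf 292594675217) (.leaf 1457067936514))) (.node (.node (.leaf 132070320004) (.leaf 1220844626694)) (.node (.leaf 52613361937) (.leaf 1182727051417)))) (.node (.node (.node (.node (.leaf 214748387210) (.leaf 1657857691655)) (.leaf 621696768644)) (.node (.leaf 534186684823) (.leaf 1029718802200))) (.node (.node (.leaf 485331357443) (.leaf 1307280879876)) (.node (.leaf 184146766741) (.leaf 519154545562))))) (.node (.node (.node (.node (.node (.leaf 1610613002) (.leaf 1257888739338)) (.leaf 534186791050)) (.node (.leaf 561567107863) (.leaf 1542430497793))) (.node (.node (.leaf 398895155471) (.leaf 864899145496)) (.node (.leaf 361851177354) (.leaf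 816044199322)))) (.node (.node (.node (.node (.leaf 253939969550) (.leaf 1328218955264)) (.leaf 1135482249621)) (.node (.leaf 672699323778) (.leaf 1155883482762))) (.node (.node (.leaf 580357515147) (.leaf 1378684699655)) (.node (.leaf 409095832708) (.leaf 602369229059))))))
def dF_121 : BT := .node dF_119 dF_120
def dF_122 : BT := .node dF_118 dF_121
def dF_123 : BT := .node dF_115 dF_122
def dF_124 : BT := .node dF_108 dF_123
def dF_125 : BT := .node dF_93 dF_124
def dF_126 : BT := .node dF_62 dF_125
def dF_127 : BT := .node (.node (.node (.node (.node (.node (.node (.leaf 4) (.leaf 785442365338)) (.leaf 409095832984)) (.node (.leaf 243202661894) (.leaf 1379758441481))) (.node (.node (.node (.leaf 254476867969) (.leaf 1328218952984)) (.leaf 759135740544)) (.node (.leaf 673773065610) (.leaf 1717987182084)))) (.node (.node (.node (.node (.leaf 78920052634) (.leaf 1350230538505)) (.leaf 979789648021)) (.node (.leaf 563177720975) (.leaf 1544040977542))) (.node (.node (.leaf 399432026511) (.leaf 441844840346)) (.node (.leaf 361851177497)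 (.leaf 1622961174025))))) (.node (.node (.node (.node (.node (.leaf 102542359692) (.leaf 816043980825)) (.leaf 904627601418)) (.node (.leaf 305479579782) (.leaf 891206061572))) (.node (.node (.leaf 318364490644) (.leaf 1221918368777)) (.node (.leaf 222801551770) (.leaf 1813550286616)))) (.node (.node (.node (.node (.leaf 215285286935) (.leaf 1234803392025)) (.leaf 621696769030)) (.node (.leaf 602369229062) (.leaf 1649267694600))) (.node (.node (.leaf 486941967234) (.leaf 1076963361287)) (.node (.leaf 146028922901) (.leaf 1380295302938)))))) (.node (.node (.node (.node (.node (.node (.leaf 53687093128) (.leaf 496605806722)) (.leaf 865436081024)) (.node (.leaf 512711843354) (.leaf 1417339538072))) (.node (.node (.leaf 112742958489) (.leaf 1179505557510)) (.node (.leaf 445066156678) (.leaf 1139240496640)))) (.node (.node (.node (.node (.leaf 45634071684) (.leaf 840740112922)) (.leaf 688268753030)) (.node (.leaf 223875223703) (.leaf 1598801932162))) (.node (.node (.leaf 193810503832) (.leaf 771483674266)) (.node (.leaf 798327236503) (.leaf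 1426466362138))))) (.node (.node (.node (.node (.node (.leaf 147639510147) (.leaf 272193633792)) (.leaf 513785686534)) (.node (.leaf 153545117338) (.leaf 1500554418824))) (.node (.node (.leaf 360240420613) (.leaf 752693319688)) (.node (.leaf 733902618114) (.leaf 1495185724169)))) (.node (.node (.node (.node (.leaf 246960677007) (.leaf 1228360939524)) (.leaf 1101659303814)) (.node (.leaf 637802795535) (.leaf 1672890067481))) (.node (.node (.leaf 224949039883) (.leaf 1343788213135)) (.node (.leaf 648003345300) (.leaf 1280437523482))))))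
def dF_128 : BT := .node (.node (.node (.node (.node (.node (.node (.leaf 3758102680) (.leaf 724239283738)) (.leaf 426275706009)) (.node (.leaf 598611149446) (.leaf 1396938313226))) (.node (.node (.node (.leaf 102542406916) (.leaf 1212791679384)) (.leaf 1156957091214)) (.node (.leaf 310848423814) (.leaf 1744293861892)))) (.node (.node (.node (.node (.leaf 93952422295) (.leaf 994822037145)) (.leaf 998580030596)) (.node (.leaf 447213576218) (.leaf 1573568875018))) (.node (.node (.leaf 184683693576) (.leaf 1070520843290)) (.node (.leaf 784905405574) (.leaf 803695899264))))) (.node (.node (.node (.node (.node (.leaf 28991058323) (.leaf 792958556806)) (.leaf 918586247300)) (.node (.leaf 490163259674) (.leaf 905701581064))) (.node (.node (.leaf 340376219652) (.leaf 740345283458)) (.node (.leaf 362387952016) (.leaf 1175747420058)))) (.node (.node (.node (.node (.leaf 230854545814) (.leaf 1273458072090)) (.leaf 1077500072322)) (.node (.leaf 621696664339) (.leaf 514859327363))) (.node (.node (.leaf 510027419275) (.leaf 1330903209611)) (.node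 (.leaf 278099198741) (.leaf 115964439834)))))) (.node (.node (.node (.node (.node (.node (.leaf 79993773078) (.leaf 1280437308544)) (.leaf 883152758918)) (.node (.leaf 188978606234) (.leaf 1439887992584))) (.node (.node (.leaf 118648542466) (.leaf 739271532679)) (.node (.leaf 331249522330) (.leaf 1789927897866)))) (.node (.node (.node (.node (.leaf 51539654025) (.leaf 1401233433242)) (.leaf 1042603463168)) (.node (.leaf 427349347855) (.leaf 1622961007234))) (.node (.node (.leaf 465467129097) (.leaf 870268055704)) (.node (.leaf 130996534682) (.leaf 879931628160))))) (.node (.node (.node (.node (.node (.leaf 8589943834) (.leaf 296352771720)) (.leaf 958851573766)) (.node (.leaf 332323173773) (.leaf 1519345042944))) (.node (.node (.leaf 379567824013) (.leaf 1284195403656)) (.node (.leaf 352724368514) (.leaf 1456531131657)))) (.node (.node (.node (.node (.leaf 65498310810) (.leaf 1683090691864)) (.leaf 1122060446854)) (.node (.leaf 289373577880) (.leaf 1692754295302))) (.node (.node (.leaf 236760204680) (.leaf 816580982790)) (.node (.leaf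 809601528343) (.leaf 1426466370458))))))
def dF_129 : BT := .node dF_127 dF_128
def dF_130 : BT := .node (.node (.node (.node (.node (.node (.node (.leaf 11811161099) (.leaf 525596748185)) (.leaf 839666206344)) (.node (.leaf 591094939021) (.leaf 1388348378115))) (.node (.node (.node (.leaf 258234952850) (.leaf 773094341001)) (.leaf 1144608942858)) (.node (.leaf 309237808921) (.leaf 1730872153216)))) (.node (.node (.node (.node (.leaf 79993773071) (.leaf 506269390729)) (.leaf 555124759042)) (.node (.leaf 390305246234) (.leaf 963146787585))) (.node (.node (.leaf 409095677958) (.leaf 823560059290)) (.node (.leaf 362924921113) (.leaf 520228042138))))) (.node (.node (.node (.node (.node (.leaf 77309411482) (.leaf 1365799850010)) (.leaf 912143795458)) (.node (.leaf 277025456655) (.leaf 1469415900555))) (.node (.node (.leaf 267898664194) (.leaf 1231045175819)) (.node (.leaf 514859327376) (.leaf 1004485834394)))) (.node (.node (.node (.node (.leaf 221190829705) (.leaf 358630130074)) (.leaf 1068910240655)) (.node (.leaf 611496033163) (.leaf 1041529965336)))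 (.node (.node (.leaf 499289999883) (.leaf 1317481406084)) (.node (.leaf 361314209941) (.leaf 1318018370330)))))) (.node (.node (.node (.node (.node (.node (.leaf 67108866441) (.leaf 224412082690)) (.leaf 872952297608)) (.node (.leaf 6442452503) (.leaf 858456929176))) (.node (.node (.leaf 288299748375) (.leaf 1190242976900)) (.node (.leaf 370977931802) (.leaf 1151588529667)))) (.node (.node (.node (.node (.leaf 194347292168) (.leaf 1241245796634)) (.leaf 603443151750)) (.node (.leaf 361851080975) (.leaf 1610076102794))) (.node (.node (.leaf 198642345094) (.leaf 1059246460550)) (.node (.leaf 701690290586) (.leaf 562103978887))))) (.node (.node (.node (.node (.node (.leaf 37044131347) (.leaf 860067543322)) (.leaf 947577385619)) (.node (.leaf 117574757765) (.leaf 1508607622421))) (.node (.node (.leaf 369367274255) (.leaf 1274531725960)) (.node (.leaf 743566390413) (.leaf 1568200219521)))) (.node (.node (.node (.node (.leaf 252866226967) (.leaf 1237487747209)) (.leaf 1110786071434)) (.node (.leaf 645855775114) (.leaf 1682016822283))) (.node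 (.node (.leaf 229780880776) (.leaf 1356136117258)) (.node (.leaf 744103197699) (.leaf 375272956954))))))
def dF_131 : BT := .node (.node (.node (.node (.node (.node (.node (.leaf 6979331474) (.leaf 350576758661)) (.leaf 856846077830)) (.node (.leaf 253939969562) (.leaf 1399085932160))) (.node (.node (.leaf 271119838336) (.leaf 1168231344391)) (.node (.leaf 324270199832) (.leaf 1131187429634)))) (.node (.node (.node (.node (.leaf 43486586002) (.leaf 658203895065)) (.leaf 568009665668)) (.node (.leaf 473520286106) (.leaf 983011018754))) (.node (.node (.leaf 185757438361) (.leaf 1063004622490)) (.node (.leaf 374736085140) (.leaf 535260567322))))) (.node (.node (.node (.node (.node (.leaf 136365232128) (.leaf 208305963545)) (.leaf 926102544013)) (.node (.leaf 561567113498) (.leaf 1490890776711))) (.node (.node (.leaf 350576755202) (.leaf 1251983265303)) (.node (.leaf 723702069634) (.leaf 1632624718471)))) (.node (.node (.node (.node (.leaf 236223257350) (.leaf 1198296145921)) (.leaf 1088237490310)) (.node (.leaf 629749645830) (.leaf 1452773059482)))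 (.node (.node (.leaf 223338423562) (.leaf 803696073864)) (.node (.leaf 621696664340) (.leaf 916975873818)))))) (.node (.node (.node (.node (.node (.node (.leaf 91268066838) (.leaf 1505923267098)) (.leaf 462782939393)) (.node (.leaf 354871757594) (.leaf 1446330563970))) (.node (.node (.leaf 307090234519) (.leaf 1211180950912)) (.node (.leaf 197568601242) (.leaf 1174673984921)))) (.node (.node (.node (.node (.leaf 206158477966) (.leaf 855772403849)) (.leaf 616864929030)) (.node (.leaf 496605712013) (.leaf 1016297026182))) (.node (.node (.leaf 209379768704) (.leaf 774168164487)) (.node (.leaf 28991036181) (.leaf 180388706689))))) (.node (.node (.node (.node (.node (.leaf 55297705870) (.leaf 506269491866)) (.leaf 968515356033)) (.node (.leaf 482647064979) (.leaf 1529008582026))) (.node (.node (.leaf 184683686528) (.leaf 799401005574)) (.node (.leaf 759135555076) (.leaf 1615981874692)))) (.node (.node (.node (.node (.leaf 207769086862) (.leaf 1577864030091)) (.leaf 1128502926097)) (.node (.leaf 296352901648) (.leaf 1350230750464))) (.node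 (.node (.leaf 241055174788) (.leaf 828391969049)) (.node (.leaf 406948346888) (.leaf 267898778650))))))
def dF_132 : BT := .node dF_130 dF_131
def dF_133 : BT := .node dF_129 dF_132
def dF_134 : BT := .node (.node (.node (.node (.node (.node (.node (.leaf 1304) (.leaf 1191316864282)) (.leaf 836444979842)) (.node (.leaf 587336912919) (.leaf 1031329351816))) (.node (.node (.node (.leaf 86973148948) (.leaf 1673963902745)) (.leaf 1139777103625)) (.node (.leaf 566935845126) (.leaf 1112396940932)))) (.node (.node (.node (.node (.leaf 63887679242) (.leaf 749472092186)) (.leaf 985695126912)) (.node (.leaf 149250125575) (.leaf 958851818762))) (.node (.node (.leaf 403190097798) (.leaf 441308038787)) (.node (.leaf 770409845763) (.leaf 426275751194))))) (.node (.node (.node (.node (.node (.leaf 26306700824) (.leaf 462245926019)) (.leaf 482647166214)) (.node (.leaf 44023425299) (.leaf 1096827622151))) (.node (.node (.leaf 325343805443) (.leaf 728534120345)) (.node (.leaf 208842868617) (.leaf 1190243068416)))) (.node (.node (.node (.node (.leaf 53150271761)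 (.leaf 906775186842)) (.leaf 1066225877892)) (.node (.leaf 606127404175) (.leaf 1655173415936))) (.node (.node (.leaf 493384484621) (.leaf 1312649692037)) (.node (.leaf 110595434261) (.leaf 947577563290)))))) (.node (.node (.node (.node (.node (.node (.leaf 60666415112) (.leaf 1321776585882)) (.leaf 869731021465)) (.node (.leaf 37044101783) (.leaf 1421634511616))) (.node (.node (.leaf 284004778903) (.leaf 690416275225)) (.node (.leaf 719407102212) (.leaf 1146219820036)))) (.node (.node (.node (.node (.leaf 190589188226) (.leaf 994821937025)) (.leaf 1030792294024)) (.node (.leaf 341449981455) (.leaf 994822182658))) (.node (.node (.leaf 445066062986) (.leaf 668941335690)) (.node (.leaf 803695946893) (.leaf 446139900550))))) (.node (.node (.node (.node (.node (.leaf 154081988235) (.leaf 809601528345)) (.leaf 942208675213)) (.node (.leaf 374199114895) (.leaf 1503775781657))) (.node (.node (.leaf 366145999370) (.leaf 755914546826)) (.node (.leaf 345208172932) (.leaf 1187021943450)))) (.node (.node (.node (.node (.leaf 110595467654) (.leaf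 1104343725698)) (.leaf 1105417471373)) (.node (.leaf 284541736721) (.leaf 1677185071748))) (.node (.node (.leaf 542776614807) (.leaf 808527915010)) (.node (.leaf 761820005780) (.leaf 833223858458))))))
def dF_135 : BT := .node (.node (.node (.node (.node (.node (.node (.leaf 32212257281) (.leaf 613106831002)) (.leaf 428423190786)) (.node (.leaf 295279072154) (.leaf 1403380898577))) (.node (.node (.node (.leaf 110058600600) (.leaf 1817308470419)) (.leaf 1164473174022)) (.node (.leaf 316754005401) (.leaf 1747515087498)))) (.node (.node (.node (.node (.leaf 45634048783) (.leaf 1390495993624)) (.leaf 1005022481670)) (.node (.leaf 185757379863) (.leaf 1579474599703))) (.node (.node (.leaf 424128067077) (.leaf 1072131456260)) (.node (.leaf 376346697219) (.leaf 1379758439834))))) (.node (.node (.node (.node (.node (.leaf 128849026071) (.leaf 243202559363)) (.leaf 922344345344)) (.node (.leaf 506806263066) (.leaf 906775324294))) (.node (.node (.leaf 345744912779) (.leaf 1246077564042)) (.node (.leaf 375272856976) (.leaf 1632624868634)))) (.node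 (.node (.node (.node (.leaf 60129597840) (.leaf 1487132697348)) (.leaf 1082331909000)) (.node (.leaf 625454761623) (.leaf 1524713548186))) (.node (.node (.leaf 514859258240) (.leaf 821949567514)) (.node (.leaf 639413363458) (.leaf 1464583937306)))))) (.node (.node (.node (.node (.node (.node (.leaf 35970371851) (.leaf 534186791194)) (.leaf 890132081672)) (.node (.leaf 64961395855) (.leaf 882616123394))) (.node (.node (.leaf 119185414788) (.leaf 1208496630532)) (.node (.leaf 118111628807) (.leaf 1796370350976)))) (.node (.node (.node (.node (.leaf 46170946841) (.leaf 1363115540614)) (.leaf 1047972166530)) (.node (.leaf 462782836495) (.leaf 1616518704391))) (.node (.node (.leaf 470299026701) (.leaf 1293322212226)) (.node (.leaf 185220565914) (.leaf 336618104840))))) (.node (.node (.node (.node (.node (.leaf 124554083866) (.leaf 242128996762)) (.leaf 525059981702)) (.node (.leaf 436476155539) (.leaf 940598201216))) (.node (.node (.leaf 163208848648) (.leaf 992137703706)) (.node (.leaf 665183240070) (.leaf 1161788933387)))) (.node (.node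 (.node (.node (.leaf 194347316626) (.leaf 1125281702278)) (.leaf 1125818570903)) (.node (.leaf 658740766093) (.leaf 1700270439432))) (.node (.node (.leaf 263603751449) (.leaf 860067527808)) (.node (.leaf 816043980816) (.leaf 721017924122))))))
def dF_136 : BT := .node dF_134 dF_135
def dF_137 : BT := .node (.node (.node (.node (.node (.node (.node (.leaf 1073746318) (.leaf 790274170905)) (.leaf 841813790743)) (.node (.leaf 259308792328) (.leaf 1115618086656))) (.node (.node (.node (.leaf 260382442255) (.leaf 1018444391169)) (.leaf 1151051394699)) (.node (.leaf 310311551873) (.leaf 1125281845894)))) (.node (.node (.node (.node (.leaf 145492058775) (.leaf 907312196122)) (.leaf 994822037135)) (.node (.leaf 296889685135) (.leaf 1564442068360))) (.node (.node (.leaf 414464388226) (.leaf 1044751084928)) (.node (.leaf 370977986050) (.leaf 241055165961))))) (.node (.node (.node (.node (.node (.leaf 115964125314) (.leaf 310311476232)) (.leaf 914828216472)) (.node (.leaf 403727022099) (.leaf 1309965376644))) (.node (.node (.leaf 175019997442)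 (.leaf 1203128008320)) (.node (.leaf 488552646416) (.leaf 568546457498)))) (.node (.node (.node (.node (.leaf 228170151690) (.leaf 1478005889030)) (.leaf 909459580930)) (.node (.leaf 616327953793) (.leaf 1048509288601))) (.node (.node (.leaf 218506581258) (.leaf 1324460728587)) (.node (.leaf 285615393301) (.leaf 44023807386)))))) (.node (.node (.node (.node (.node (.node (.leaf 74625066375) (.leaf 112206047385)) (.leaf 450971775512)) (.node (.leaf 110595434263) (.leaf 1435056152842))) (.node (.node (.leaf 117574799385) (.leaf 710280502282)) (.node (.leaf 35970359697) (.leaf 1153199144074)))) (.node (.node (.node (.node (.leaf 137438961802) (.leaf 1605244390785)) (.leaf 606664378240)) (.node (.leaf 514859327383) (.leaf 1002338378113))) (.node (.node (.leaf 199179217688) (.leaf 866509906690)) (.node (.leaf 191258) (.leaf 1544040970631))))) (.node (.node (.node (.node (.node (.leaf 168040634390) (.leaf 419296282265)) (.leaf 519691270154)) (.node (.leaf 43486552458) (.leaf 928787038984))) (.node (.node (.leaf 234612677528) (.leaf 1280437306882))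 (.node (.leaf 352187496192) (.leaf 1661615722394)))) (.node (.node (.node (.node (.leaf 87509969170) (.leaf 414464521354)) (.leaf 1116691652359)) (.node (.leaf 649613958415) (.leaf 1687922492553))) (.node (.node (.leaf 550292768787) (.leaf 1362041698816)) (.node (.leaf 806917173141) (.leaf 277562327705))))))
def dF_138 : BT := .node (.node (.node (.node (.node (.node (.node (.leaf 46707773195) (.leaf 555661526405)) (.leaf 860067406095)) (.node (.leaf 179851816858) (.leaf 1413581313546))) (.node (.node (.leaf 112206086168) (.leaf 682363208984)) (.node (.leaf 712427779973) (.leaf 1760400140175)))) (.node (.node (.node (.node (.leaf 44023457802) (.leaf 740882108546)) (.leaf 571767763352)) (.node (.leaf 214748416019) (.leaf 985695374489))) (.node (.node (.leaf 434865520013) (.leaf 185757437316)) (.node (.leaf 375272956953) (.leaf 856309312001))))) (.node (.node (.node (.node (.node (.leaf 141197081869) (.leaf 530965509248)) (.leaf 931471153034)) (.node (.leaf 243202581135) (.leaf 1494111966340))) (.node (.node (.leaf 355945487105) (.leaf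 1256814984202)) (.node (.leaf 727997037954) (.leaf 1781338041882)))) (.node (.node (.node (.node (.leaf 241591926018) (.leaf 1791538503962)) (.leaf 636729162521)) (.node (.leaf 277562412550) (.leaf 1051730514689))) (.node (.node (.leaf 527744160387) (.leaf 806917300226)) (.node (.leaf 561567107860) (.leaf 223875223705)))))) (.node (.node (.node (.node (.node (.node (.leaf 16643021331) (.leaf 606127584137)) (.leaf 898722120981)) (.node (.leaf 376346600346) (.leaf 886911092737))) (.node (.node (.leaf 128312222976) (.leaf 830002719872)) (.node (.leaf 310311461137) (.leaf 1180579566744)))) (.node (.node (.node (.node (.leaf 211527183232) (.leaf 1475858373786)) (.leaf 1057635878148)) (.node (.leaf 523986135055) (.leaf 1023813220994))) (.node (.node (.leaf 481036387847) (.leaf 1303522759172)) (.node (.leaf 376346699802) (.leaf 1209570440964))))) (.node (.node (.node (.node (.node (.leaf 60129562394) (.leaf 423054379545)) (.leaf 974420832391)) (.node (.leaf 506269390735) (.leaf 947577525912))) (.node (.node (.leaf 394063329549) (.leaf 767725548034))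 (.node (.leaf 762356876817) (.leaf 1604170648473)))) (.node (.node (.node (.node (.leaf 117037901462) (.leaf 1230508498571)) (.leaf 658204008450)) (.node (.leaf 668404443905) (.leaf 1713155343368))) (.node (.node (.leaf 573915063427) (.leaf 1375463478532)) (.node (.leaf 408022089992) (.leaf 1288490494106))))))
def dF_139 : BT := .node dF_137 dF_138
def dF_140 : BT := .node dF_136 dF_139
def dF_141 : BT := .node dF_133 dF_140
def dF_142 : BT := .node (.node (.node (.node (.node (.node (.node (.leaf 2147483914) (.leaf 1430224374810)) (.leaf 833223754122)) (.node (.leaf 585189427987) (.leaf 1381905925640))) (.node (.node (.node (.leaf 255550595597) (.leaf 1768452998426)) (.leaf 1138703475853)) (.node (.leaf 676457420298) (.leaf 1108638843784)))) (.node (.node (.node (.node (.leaf 6442454550) (.leaf 340376223232)) (.leaf 535260533784)) (.node (.leaf 571767657623) (.leaf 1548335938306))) (.node (.node (.leaf 401042650263) (.leaf 878857892378)) (.node (.leaf 768799329303) (.leaf 1651952097050))))) (.node (.node (.node (.node (.node (.leaf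 105763574921) (.leaf 151397650436)) (.leaf 482647165954)) (.node (.leaf 309774590095) (.leaf 893890416898))) (.node (.node (.leaf 138512771993) (.leaf 1224065853191)) (.node (.leaf 112742918417) (.leaf 1815697719810)))) (.node (.node (.node (.node (.leaf 154618859674) (.leaf 1250909645978)) (.leaf 622233640728)) (.node (.leaf 603979920013) (.leaf 1038845608834))) (.node (.node (.leaf 490700064266) (.leaf 1310502082696)) (.node (.leaf 223338423962) (.leaf 1060320365210)))))) (.node (.node (.node (.node (.node (.node (.leaf 8053077265) (.leaf 755914546586)) (.leaf 441844967558)) (.node (.leaf 9126807693) (.leaf 924491999366))) (.node (.node (.leaf 282394165779) (.leaf 1182726783750)) (.node (.leaf 717796516359) (.leaf 1174137106820)))) (.node (.node (.node (.node (.leaf 44560330515) (.leaf 1234803274120)) (.leaf 1027034201607)) (.node (.leaf 224949040281) (.leaf 1602559909504))) (.node (.node (.leaf 441307937408) (.leaf 1245003823360)) (.node (.leaf 801011568789) (.leaf 716722764934))))) (.node (.node (.node (.node (.node (.leaf 36507258246)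 (.leaf 625991564805)) (.leaf 941134832260)) (.node (.leaf 370977874055) (.leaf 1500017685656))) (.node (.node (.leaf 153008296452) (.leaf 753767062552)) (.node (.leaf 344671301529) (.leaf 784905438592)))) (.node (.node (.node (.node (.leaf 66035181576) (.leaf 1792075278618)) (.leaf 1103806748810)) (.node (.leaf 278636156308) (.leaf 1059783579649))) (.node (.node (.leaf 539555321739) (.leaf 1261646963973)) (.node (.leaf 792958526100) (.leaf 797790531866))))))
def dF_143 : BT := .node (.node (.node (.node (.node (.node (.node (.leaf 29527902208) (.leaf 1623498032922)) (.leaf 428960060928)) (.node (.leaf 264140632084) (.leaf 1401233414415))) (.node (.node (.node (.leaf 264140515456) (.leaf 1816771462277)) (.leaf 673236400522)) (.node (.leaf 698469131143) (.leaf 1746441345670)))) (.node (.node (.node (.node (.leaf 127775307670) (.leaf 752156249355)) (.leaf 1001801256070)) (.node (.leaf 184146822297) (.leaf 1577863986575))) (.node (.node (.leaf 421443710982) (.leaf 1033476654857)) (.node (.leaf 376346696704) (.leaf 1373852983322))))) (.node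 (.node (.node (.node (.node (.leaf 125627801351) (.leaf 488552646407)) (.leaf 496605813250)) (.node (.leaf 502511293594) (.leaf 1481763933442))) (.node (.node (.leaf 146028969876) (.leaf 1243393208840)) (.node (.leaf 561567107856) (.leaf 956167259288)))) (.node (.node (.node (.node (.leaf 232465141006) (.leaf 1509144432410)) (.leaf 1079110742785)) (.node (.leaf 384936592778) (.leaf 515396198403))) (.node (.node (.leaf 512174970895) (.leaf 1335198160134)) (.node (.leaf 624380950411) (.leaf 278099280794)))))) (.node (.node (.node (.node (.node (.node (.leaf 84288741772) (.leaf 753767062554)) (.leaf 456340486425)) (.node (.leaf 370441017498) (.leaf 869194350214))) (.node (.node (.leaf 301184611083) (.leaf 1206349109382)) (.node (.leaf 185220508817) (.leaf 1794222865803)))) (.node (.node (.node (.node (.leaf 199179119364) (.leaf 1481763980426)) (.leaf 610422476184)) (.node (.leaf 443455479814) (.leaf 1010391443969))) (.node (.node (.leaf 468151541391) (.leaf 1291174726788)) (.node (.leaf 156766315269) (.leaf 1426466226314))))) (.node (.node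 (.node (.node (.node (.leaf 35970361878) (.leaf 403727070464)) (.leaf 960999160960)) (.node (.leaf 44560296335) (.leaf 938450717064))) (.node (.node (.leaf 158913880838) (.leaf 1286342889216)) (.node (.leaf 753230069143) (.leaf 1802276065411)))) (.node (.node (.node (.node (.leaf 9126809746) (.leaf 1252520136331)) (.leaf 1125281588100)) (.node (.leaf 503585072134) (.leaf 1695975470726))) (.node (.node (.leaf 558345880595) (.leaf 818191596164)) (.node (.leaf 813359525896) (.leaf 374735962758))))))
def dF_144 : BT := .node dF_142 dF_143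
def dF_145 : BT := .node (.node (.node (.node (.node (.node (.node (.leaf 1073745796) (.leaf 721554595073)) (.leaf 841276919553)) (.node (.leaf 592705579791) (.leaf 1389959122573))) (.node (.node (.node (.leaf 259308700172) (.leaf 1585380097562)) (.leaf 1147293297670)) (.node (.leaf 309774680330) (.leaf 1733019676032)))) (.node (.node (.node (.node (.leaf 14495519894) (.leaf 740882108545)) (.leaf 992674552977)) (.node (.leaf 287225981445) (.leaf 1560683971592))) (.node (.node (.leaf 412316957455) (.leaf 832150086400)) (.node (.leaf 776315425799) (.leaf 1374926806298))))) (.node (.node (.node (.node (.node (.leaf 40265320082) (.leaf 309237930500)) (.leaf 777389298329)) (.node (.leaf 336081271055) (.leaf 901943483144))) (.node (.node (.leaf 334470614017) (.leaf 737124056328)) (.node (.leaf 629212858896) (.leaf 689879306906)))) (.node (.node (.node (.node (.leaf 54224015750) (.leaf 1102733010049)) (.leaf 625991738888)) (.node (.leaf 613643598733) (.leaf 1047972417048))) (.node (.node (.leaf 361314243206) (.leaf 1320165782937)) (.node (.leaf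 376346599061) (.leaf 198642345114)))))) (.node (.node (.node (.node (.node (.node (.leaf 70866963848) (.leaf 1103806748570)) (.leaf 450434903942)) (.node (.leaf 264677422874) (.leaf 1432908669064))) (.node (.node (.leaf 289910361487) (.leaf 1194537944452)) (.node (.leaf 306016581786) (.leaf 1779190476171)))) (.node (.node (.node (.node (.leaf 137438987290) (.leaf 1398549136538)) (.leaf 1036161107213)) (.node (.leaf 363998565139) (.leaf 1612760604173))) (.node (.node (.leaf 454729710722) (.leaf 1280437371397)) (.node (.leaf 7516204826) (.leaf 526133720327))))) (.node (.node (.node (.node (.node (.leaf 37581003276) (.leaf 506806261785)) (.leaf 950798584577)) (.node (.leaf 118648499863) (.leaf 1511828709506))) (.node (.node (.leaf 371514759565) (.leaf 1277752951562)) (.node (.leaf 350576883225) (.leaf 1672353323531)))) (.node (.node (.node (.node (.leaf 6442470426) (.leaf 759135701514)) (.leaf 649614069380)) (.node (.leaf 285615479681) (.leaf 1685775009152))) (.node (.node (.leaf 548682198675) (.leaf 1358820569497)) (.node (.leaf 486942003480)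 (.leaf 1311575824538))))))
def dF_146 : BT := .node (.node (.node (.node (.node (.node (.node (.leaf 7516203265) (.leaf 792958694682)) (.leaf 858456792981)) (.node (.leaf 270583004165) (.leaf 846108893698))) (.node (.node (.leaf 272193579142) (.leaf 1170378867223)) (.node (.leaf 710280385943) (.leaf 1133871785240)))) (.node (.node (.node (.node (.leaf 121869739650) (.leaf 1403917627930)) (.leaf 1001801362944)) (.node (.leaf 209916539146) (.leaf 1592359381401))) (.node (.node (.leaf 432718056975) (.leaf 1081795145603)) (.node (.leaf 792958526097) (.leaf 653908898185))))) (.node (.node (.node (.node (.node (.leaf 38117867782) (.leaf 606664528666)) (.leaf 505732620554)) (.node (.leaf 241055096975) (.leaf 1492501446552))) (.node (.node (.leaf 353261115531) (.leaf 1253057007381)) (.node (.leaf 336618234905) (.leaf 515933133446)))) (.node (.node (.node (.node (.leaf 64961437073) (.leaf 1269699977988)) (.leaf 1090921844482)) (.node (.leaf 630823472013) (.leaf 1571958376326))) (.node (.node (.leaf 223875295492) (.leaf 805306686982)) (.node (.leaf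 613106727700) (.leaf 450971775514)))))) (.node (.node (.node (.node (.node (.node (.leaf 93952422284) (.leaf 774704890886)) (.leaf 897648281217)) (.node (.leaf 157840085783) (.leaf 877247415690))) (.node (.node (.leaf 127775351172) (.leaf 1212791679383)) (.node (.leaf 53150271770) (.leaf 1804423529728)))) (.node (.node (.node (.node (.leaf 208842797318) (.leaf 1390495947781)) (.leaf 620623026052)) (.node (.leaf 515933069453) (.leaf 1018444510726))) (.node (.node (.leaf 208842898692) (.leaf 773094423298)) (.node (.leaf 363461792538) (.leaf 621696769306))))) (.node (.node (.node (.node (.node (.leaf 111669156503) (.leaf 994822038042)) (.leaf 972810219012)) (.node (.leaf 228707061658) (.leaf 945966912392))) (.node (.node (.leaf 391378936709) (.leaf 636729118978)) (.node (.leaf 761283134737) (.leaf 1156957056515)))) (.node (.node (.node (.node (.leaf 204547864851) (.leaf 758598867461)) (.leaf 1130650410260)) (.node (.leaf 665720089615) (.leaf 1103270131714))) (.node (.node (.leaf 241055175444) (.leaf 1065688959499)) (.node (.leaf 822486432768)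 (.leaf 403190249242))))))
def dF_147 : BT := .node dF_145 dF_146
def dF_148 : BT := .node dF_144 dF_147
def dF_149 : BT := .node (.node (.node (.node (.node (.node (.node (.leaf 9663676811) (.leaf 1199906592410)) (.leaf 838055693457)) (.node (.leaf 589484398483) (.leaf 1385127281539))) (.node (.node (.node (.leaf 257698058758) (.leaf 1369021224707)) (.leaf 1142461459207)) (.node (.leaf 682899874176) (.leaf 1132261165337)))) (.node (.node (.node (.node (.leaf 78383159943) (.leaf 1347009384602)) (.leaf 554587887620)) (.node (.leaf 361314211226) (.leaf 1554778426114))) (.node (.node (.leaf 405874504192) (.leaf 884763371800)) (.node (.leaf 772557426577) (.leaf 821949709594))))) (.node (.node (.node (.node (.node (.leaf 112206027778) (.leaf 1163936321434)) (.leaf 909459541773)) (.node (.leaf 144955180819) (.leaf 896037901834))) (.node (.node (.leaf 134754677401) (.leaf 1228897810582)) (.node (.leaf 278636069777) (.leaf 365609334938)))) (.node (.node (.node (.node (.leaf 218506473990) (.leaf 1126355329946)) (.leaf 624917996042)) (.node (.leaf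 267898730136) (.leaf 1657320753414))) (.node (.node (.leaf 495531937168) (.leaf 785442457880)) (.node (.leaf 296889773594) (.leaf 1592896185626)))))) (.node (.node (.node (.node (.node (.node (.leaf 63350770567) (.leaf 345208173466)) (.leaf 446139935878)) (.node (.leaf 306016492954) (.leaf 1425929346692))) (.node (.node (.leaf 286152238731) (.leaf 1186484998423)) (.node (.leaf 721017806735) (.leaf 1340566943114)))) (.node (.node (.node (.node (.leaf 45097202580) (.leaf 1138703475865)) (.leaf 1032939778312)) (.node (.leaf 352724273303) (.leaf 994822183050))) (.node (.node (.leaf 447213574805) (.leaf 903017076634)) (.node (.leaf 805306560019) (.leaf 621696727578))))) (.node (.node (.node (.node (.node (.leaf 127238443776) (.leaf 514859278346)) (.leaf 944892928649)) (.node (.leaf 376346599053) (.leaf 925028940569))) (.node (.node (.leaf 367756661135) (.leaf 758062030986)) (.node (.leaf 345208173332) (.leaf 1814087129882)))) (.node (.node (.node (.node (.leaf 251792484238) (.leaf 1744830762501)) (.leaf 1108101716744)) (.node (.leaf 643708376973)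 (.leaf 1679869342976))) (.node (.node (.leaf 229244009352) (.leaf 1352378020362)) (.node (.leaf 428959960980) (.leaf 1172526145818))))))
def dF_150 : BT := .node (.node (.node (.node (.node (.node (.node (.leaf 6979330696) (.leaf 487478904345)) (.leaf 427886320536)) (.node (.leaf 112206047379) (.leaf 1405528248707))) (.node (.node (.node (.leaf 112206084480) (.leaf 1817845341453)) (.leaf 1166083782022)) (.node (.leaf 319438360601) (.leaf 1750736313604)))) (.node (.node (.node (.node (.leaf 88046840215) (.leaf 534186789378)) (.leaf 566935923338)) (.node (.leaf 198642284815) (.leaf 979789792257))) (.node (.node (.leaf 426812476673) (.leaf 608274888986)) (.node (.leaf 789200428813) (.leaf 567472785928))))) (.node (.node (.node (.node (.node (.leaf 132607124230) (.leaf 65498309786)) (.leaf 923954958216)) (.node (.leaf 555661527450) (.leaf 907312196120))) (.node (.node (.leaf 146565841945) (.leaf 1249835661323)) (.node (.leaf 721554677779) (.leaf 1541356770944)))) (.node (.node (.node (.node (.leaf 234612626188) (.leaf 1252520254215)) (.leaf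 1085016264322)) (.node (.leaf 276488669337) (.leaf 1502701906951))) (.node (.node (.leaf 517543613313) (.leaf 846645600898)) (.node (.leaf 666793795713) (.leaf 1668595184154)))))) (.node (.node (.node (.node (.node (.node (.leaf 89120575618) (.leaf 515933036037)) (.leaf 892816539533)) (.node (.leaf 65498253450) (.leaf 1445256756875))) (.node (.node (.leaf 305479579268) (.leaf 831076379780)) (.node (.leaf 358629854737) (.leaf 1170915887896)))) (.node (.node (.node (.node (.leaf 204547828610) (.leaf 1259499446682)) (.leaf 615791186434)) (.node (.leaf 485868291223) (.leaf 1012002058248))) (.node (.node (.leaf 207769155720) (.leaf 772020680580)) (.node (.leaf 8053065621) (.leaf 406948231552))))) (.node (.node (.node (.node (.node (.leaf 8589938330) (.leaf 65498263814)) (.leaf 966367769731)) (.node (.leaf 210453447578) (.leaf 941671943688))) (.node (.node (.leaf 386547096579) (.leaf 490163274884)) (.node (.leaf 758061884800) (.leaf 1788854272515)))) (.node (.node (.node (.node (.leaf 231391416851) (.leaf 1337882732420)) (.leaf 758598867462))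 (.node (.leaf 296352900994) (.leaf 1703491809536))) (.node (.node (.leaf 563714516362) (.leaf 1373315988360)) (.node (.leaf 817117722903) (.leaf 526133573892))))))
def dF_151 : BT := .node dF_149 dF_150
def dF_152 : BT := .node (.node (.node (.node (.node (.node (.node (.leaf 23085451659) (.leaf 769336119044)) (.leaf 426275705476)) (.node (.leaf 596463697302) (.leaf 1394790829448))) (.node (.node (.node (.leaf 261456185623) (.leaf 1403380898584)) (.leaf 1153198993935)) (.node (.leaf 692026770579) (.leaf 1740535765130)))) (.node (.node (.node (.node (.leaf 54760845967) (.leaf 285615471491)) (.leaf 561567211672)) (.node (.leaf 406948248339) (.leaf 969589240962))) (.node (.node (.leaf 417148743682) (.leaf 863288714649)) (.node (.leaf 782221105295) (.leaf 955093587098))))) (.node (.node (.node (.node (.node (.leaf 118648499991) (.leaf 743566336005)) (.leaf 916975736335)) (.node (.leaf 193810445459) (.leaf 905164709512))) (.node (.node (.leaf 145492097944) (.leaf 1237487747221)) (.node (.leaf 505732519696) (.leaf 1441498638080)))) (.node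 (.node (.node (.node (.leaf 229780803725) (.leaf 1041529726085)) (.leaf 1075352693143)) (.node (.leaf 272730571161) (.leaf 1669132048768))) (.node (.node (.leaf 506806193154) (.leaf 1328218825474)) (.node (.leaf 224948965781) (.leaf 428423191962)))))) (.node (.node (.node (.node (.node (.node (.leaf 78383159948) (.leaf 284541651225)) (.leaf 880468434946)) (.node (.leaf 331786302735) (.leaf 1437740509976))) (.node (.node (.leaf 294205290628) (.leaf 1201517270534)) (.node (.leaf 6442458650) (.leaf 1785632929536)))) (.node (.node (.node (.node (.leaf 60666451737) (.leaf 872952291330)) (.leaf 1040456075541)) (.node (.leaf 415001313935) (.leaf 1004485862680))) (.node (.node (.leaf 200252960522) (.leaf 1287953500806)) (.node (.leaf 46170946586) (.leaf 427349461146))))) (.node (.node (.node (.node (.node (.leaf 171798731275) (.leaf 482647166490)) (.leaf 520765012610)) (.node (.leaf 145492027527) (.leaf 1512902590728))) (.node (.node (.leaf 376883418379) (.leaf 1282048043535)) (.node (.leaf 748935006855) (.leaf 1234266621828)))) (.node (.node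 (.node (.node (.leaf 89120618266) (.leaf 1641214621699)) (.leaf 654445908610)) (.node (.leaf 653371968898) (.leaf 1081258419976))) (.node (.node (.leaf 236223333003) (.leaf 1363115570583)) (.node (.leaf 807990915217) (.leaf 1461362756890))))))
def dF_153 : BT := .node (.node (.node (.node (.node (.node (.node (.leaf 7516204691) (.leaf 1082331909018)) (.leaf 862751660546)) (.node (.leaf 272730488335) (.leaf 1415728798084))) (.node (.node (.leaf 112742957570) (.leaf 686658177025)) (.node (.leaf 713501612175) (.leaf 1763084346504)))) (.node (.node (.node (.node (.leaf 44023458324) (.leaf 907312057625)) (.leaf 1018444362895)) (.node (.leaf 223338368391) (.leaf 1597191320216))) (.node (.node (.leaf 435939226756) (.leaf 1224602838276)) (.node (.leaf 375809828372) (.leaf 826781610394))))) (.node (.node (.node (.node (.node (.leaf 144955172610) (.leaf 525596715652)) (.leaf 934155569418)) (.node (.leaf 340913110423) (.leaf 919123358466))) (.node (.node (.leaf 213674708249) (.leaf 752156448006)) (.node (.leaf 730681393159) (.leaf 982473956249))))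 (.node (.node (.node (.node (.leaf 245350023563) (.leaf 1612760518275)) (.leaf 640487259776)) (.node (.leaf 277562413208) (.leaf 1671816413337))) (.node (.node (.leaf 225485909636) (.leaf 806917300760)) (.node (.leaf 506806261780) (.leaf 909996544922)))))) (.node (.node (.node (.node (.node (.node (.leaf 98784262294) (.leaf 515396300826)) (.leaf 901943347213)) (.node (.leaf 28991036183) (.leaf 1455457254533))) (.node (.node (.leaf 128312223366) (.leaf 1219234013832)) (.node (.leaf 184683637777) (.leaf 1183263921924)))) (.node (.node (.node (.node (.leaf 213674659213) (.leaf 1445793582086)) (.leaf 633507928576)) (.node (.leaf 530428587535) (.leaf 1646583479552))) (.node (.node (.leaf 483720744195) (.leaf 1305670243338)) (.node (.leaf 110058563221) (.leaf 811212176651))))) (.node (.node (.node (.node (.node (.leaf 16643011482) (.leaf 1578937568154)) (.leaf 531502436120)) (.node (.leaf 554587784335) (.leaf 951872494086))) (.node (.node (.leaf 175020011924) (.leaf 445066134016)) (.node (.leaf 361851177092) (.leaf 1576253386753)))) (.node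 (.node (.node (.node (.leaf 253403098514) (.leaf 1327145083674)) (.leaf 1134945378579)) (.node (.leaf 671088800013) (.leaf 1104343874968))) (.node (.node (.leaf 577673159429) (.leaf 827318403972)) (.node (.leaf 827855043720) (.leaf 686658084506))))))
def dF_154 : BT := .node dF_152 dF_153
def dF_155 : BT := .node dF_151 dF_154
def dF_156 : BT := .node dF_148 dF_155
def dF_157 : BT := .node dF_141 dF_156
def dF_158 : BT := .node (.node (.node (.node (.node (.node (.node (.leaf 1610612875) (.leaf 782221105305)) (.leaf 409632704280)) (.node (.leaf 584115610760) (.leaf 1380832183176))) (.node (.node (.node (.leaf 255013713548) (.leaf 691490003595)) (.leaf 1137092862743)) (.node (.leaf 675383678468) (.leaf 1720134812033)))) (.node (.node (.node (.node (.leaf 137975834250) (.leaf 341450044552)) (.leaf 581968302468)) (.node (.leaf 567472689299) (.leaf 1546188454280))) (.node (.node (.leaf 399968872709) (.leaf 629212917530)) (.node (.leaf 768262458259) (.leaf 1340030008715))))) (.node (.node (.node (.node (.node (.leaf 17716764946) (.leaf 647466719258))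 (.leaf 482647165825)) (.node (.leaf 139586469018) (.leaf 1444719972102))) (.node (.node (.leaf 132607191688) (.leaf 1222992114948)) (.node (.leaf 506269322247) (.leaf 1814623977730)))) (.node (.node (.node (.node (.leaf 11274291738) (.leaf 1251446511112)) (.leaf 1061930812680)) (.node (.leaf 264677503492) (.leaf 1651415282566))) (.node (.node (.leaf 489089451147) (.leaf 781684359946)) (.node (.leaf 209379771162) (.leaf 857919819674)))))) (.node (.node (.node (.node (.node (.node (.leaf 8053076876) (.leaf 497679556378)) (.leaf 866509757190)) (.node (.leaf 565862076314) (.leaf 852014475545))) (.node (.node (.leaf 113279829633) (.leaf 1181116170500)) (.node (.leaf 716722777216) (.leaf 1769526797574)))) (.node (.node (.node (.node (.leaf 186294250775) (.leaf 1010391297305)) (.leaf 1025423580804)) (.node (.leaf 224412094743) (.leaf 992674697990))) (.node (.node (.leaf 440234194948) (.leaf 1248224955034)) (.node (.leaf 382252280064) (.leaf 200253056154))))) (.node (.node (.node (.node (.node (.leaf 35970386837) (.leaf 1040456223002)) (.leaf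 939524218630)) (.node (.leaf 352187402263) (.leaf 1501091289738))) (.node (.node (.leaf 233002061848) (.leaf 753230191114)) (.node (.leaf 341450075672) (.leaf 1194001220122)))) (.node (.node (.node (.node (.leaf 248034419085) (.leaf 1228360939544)) (.leaf 1102733116175)) (.node (.leaf 278099284889) (.leaf 1673963902733))) (.node (.node (.leaf 537407837191) (.leaf 1344325084181)) (.node (.leaf 803695946900) (.leaf 1417339500314))))))
def dF_159 : BT := .node (.node (.node (.node (.node (.node (.node (.leaf 5368715800) (.leaf 816581051674)) (.leaf 847182501143)) (.node (.leaf 599684873482) (.leaf 1399085797130))) (.node (.node (.node (.leaf 102542407056) (.leaf 1816771461250)) (.leaf 672699529089)) (.node (.leaf 311385295112) (.leaf 1744830880021)))) (.node (.node (.node (.node (.leaf 132607148302) (.leaf 738734457224)) (.leaf 1000190671232)) (.node (.leaf 198105473561) (.leaf 973884210052))) (.node (.node (.leaf 419833153171) (.leaf 613106730758)) (.node (.leaf 785442331535) (.leaf 850403870362))))) (.node (.node (.node (.node (.node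 (.leaf 60666442624) (.leaf 362924810755)) (.leaf 488552749464)) (.node (.leaf 209379705619) (.leaf 906238452352))) (.node (.node (.leaf 146028969611) (.leaf 1241782715539)) (.node (.leaf 656593281936) (.leaf 940598075160)))) (.node (.node (.node (.node (.leaf 231928247690) (.leaf 1484448228634)) (.leaf 630286707850)) (.node (.leaf 275951797528) (.leaf 958851715354))) (.node (.node (.leaf 511101228823) (.leaf 1333050664836)) (.node (.leaf 306016492821) (.leaf 179851852314)))))) (.node (.node (.node (.node (.node (.node (.leaf 15032405139) (.leaf 309774602891)) (.leaf 455803615129)) (.node (.leaf 45634073867) (.leaf 865436253578))) (.node (.node (.leaf 118648542992) (.leaf 1204201742743)) (.node (.leaf 7516194577) (.leaf 1792075382018)))) (.node (.node (.node (.node (.leaf 45634074516) (.leaf 647466583962)) (.leaf 609348733977)) (.node (.leaf 428959960979) (.leaf 1624034749195))) (.node (.node (.leaf 467077798669) (.leaf 1290101019009)) (.node (.leaf 146565841690) (.leaf 1100048565530))))) (.node (.node (.node (.node (.node (.leaf 61203323418)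 (.leaf 772557403395)) (.leaf 648003419650)) (.node (.leaf 395137085453) (.leaf 937913756042))) (.node (.node (.leaf 380104695055) (.leaf 1285269145483)) (.node (.leaf 752693102724) (.leaf 1458678615683)))) (.node (.node (.node (.node (.leaf 89120582290) (.leaf 1134945378571)) (.leaf 1123670974854)) (.node (.leaf 656593281943) (.leaf 1089311484417))) (.node (.node (.leaf 237297075993) (.leaf 1366873537155)) (.node (.leaf 811749012353) (.leaf 198642284811))))))
def dF_160 : BT := .node dF_158 dF_159
def dF_161 : BT := .node (.node (.node (.node (.node (.node (.node (.leaf 15032387094) (.leaf 1198832915866)) (.leaf 423054479104)) (.node (.leaf 592168683776) (.leaf 1226750365080))) (.node (.node (.node (.leaf 258771825811) (.leaf 1241782660354)) (.leaf 665183333258)) (.node (.leaf 687194841220) (.leaf 1731945830018)))) (.node (.node (.node (.node (.leaf 134217735317) (.leaf 506269390745)) (.leaf 555124759434)) (.node (.leaf 284541651219) (.leaf 1559610229510))) (.node (.node (.leaf 180388724504) (.leaf 336618159872)) (.node (.leaf 497679520128)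 (.leaf 848256293914))))) (.node (.node (.node (.node (.node (.leaf 62813911834) (.leaf 648003577882)) (.leaf 912680666372)) (.node (.leaf 278099198735) (.leaf 900869741064))) (.node (.node (.leaf 332860044685) (.leaf 1232119029003)) (.node (.leaf 629749729936) (.leaf 1000727538458)))) (.node (.node (.node (.node (.leaf 222264571784) (.leaf 1271847311130)) (.leaf 625991738496)) (.node (.leaf 613106646404) (.leaf 1662689610893))) (.node (.node (.leaf 215285355136) (.leaf 789200555146)) (.node (.leaf 344671207701) (.leaf 603443112346)))))) (.node (.node (.node (.node (.node (.node (.leaf 68719479561) (.leaf 185220743322)) (.leaf 874025952004)) (.node (.leaf 127775307539) (.leaf 858993800456))) (.node (.node (.leaf 117574798730) (.leaf 692026889753)) (.node (.leaf 64961417988) (.leaf 1777579866624)))) (.node (.node (.node (.node (.leaf 42949688218) (.leaf 1321239467930)) (.leaf 1035087365139)) (.node (.leaf 362924823063) (.leaf 1611686715778))) (.node (.node (.leaf 198642345354) (.leaf 1093069482119)) (.node (.leaf 536962586) (.leaf 1342714382720)))))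 (.node (.node (.node (.node (.node (.leaf 37581002752) (.leaf 506269490586)) (.leaf 519154398209)) (.node (.leaf 296889686426) (.leaf 926102683416))) (.node (.node (.leaf 233538935064) (.leaf 1276142338818)) (.node (.leaf 744103167626) (.leaf 773094431258)))) (.node (.node (.node (.node (.leaf 28454218650) (.leaf 1468342158596)) (.leaf 648540327176)) (.node (.leaf 646929519363) (.leaf 1684164452353))) (.node (.node (.leaf 230317751942) (.leaf 812286013440)) (.node (.leaf 497142580888) (.leaf 798327478810))))))
def dF_162 : BT := .node (.node (.node (.node (.node (.node (.node (.leaf 41875934336) (.leaf 375272856985)) (.leaf 857383050903)) (.node (.leaf 30064778255) (.leaf 845572022410))) (.node (.node (.leaf 271656744460) (.leaf 680752595334)) (.node (.leaf 709743424021) (.leaf 1132798042752)))) (.node (.node (.node (.node (.leaf 177704284161) (.leaf 838055693443)) (.leaf 1010391297303)) (.node (.leaf 208306027545) (.leaf 1591285617669))) (.node (.node (.leaf 431644314903) (.leaf 449897972610)) (.node (.leaf 791884684674) (.leaf 1079110870554)))))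 (.node (.node (.node (.node (.node (.leaf 31138545792) (.leaf 1323387052544)) (.leaf 505732620162)) (.node (.leaf 240518303513) (.leaf 919660227846))) (.node (.node (.leaf 151934551938) (.leaf 1252520136343)) (.node (.leaf 724239032983) (.leaf 666793762329)))) (.node (.node (.node (.node (.leaf 237296999565) (.leaf 1487132692098)) (.leaf 1089311340177)) (.node (.leaf 630286517122) (.leaf 1454383667201))) (.node (.node (.leaf 522912322560) (.leaf 1337882631553)) (.node (.leaf 603443048981) (.leaf 1511291806746)))))) (.node (.node (.node (.node (.node (.node (.leaf 92878680204) (.leaf 289373502723)) (.leaf 896037765775)) (.node (.leaf 152471375379) (.leaf 874563060870))) (.node (.node (.leaf 127238479769) (.leaf 1212791562122)) (.node (.leaf 389768326279) (.leaf 1803349675522)))) (.node (.node (.node (.node (.leaf 207232190339) (.leaf 1205812449667)) (.leaf 1054951491970)) (.node (.leaf 497679454099) (.leaf 1016297026562))) (.node (.node (.leaf 208306027412) (.leaf 795106130184)) (.node (.leaf 151397633301) (.leaf 892816646170))))) (.node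 (.node (.node (.node (.node (.leaf 72477582727) (.leaf 1081258274569)) (.leaf 529891821702)) (.node (.leaf 499826938259) (.leaf 1530619276551))) (.node (.node (.leaf 173946268683) (.leaf 911607043973)) (.node (.leaf 358629950484) (.leaf 563177824394)))) (.node (.node (.node (.node (.leaf 153008246546) (.leaf 1272921235864)) (.leaf 1129576556288)) (.node (.leaf 665183130754) (.leaf 1707786778253))) (.node (.node (.leaf 241055175050) (.leaf 835908246426)) (.node (.leaf 723702185222) (.leaf 536874266))))))
def dF_163 : BT := .node dF_161 dF_162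
def dF_164 : BT := .node dF_160 dF_163
def dF_165 : BT := .node (.node (.node (.node (.node (.node (.node (.leaf 7516192898) (.leaf 781147265434)) (.leaf 837518722186)) (.node (.leaf 588410654991) (.leaf 1384590327810))) (.node (.node (.node (.leaf 257161209743) (.leaf 1343788213124)) (.leaf 670015170176)) (.node (.leaf 681826131722) (.leaf 1112933812234)))) (.node (.node (.node (.node (.leaf 95026164378) (.leaf 272730488329)) (.leaf 986768869121)) (.node (.leaf 151397681817) (.leaf 1392106645126))) (.node (.node (.leaf 404263893007) (.leaf 452045458176)) (.node (.leaf 772020457990) (.leaf 223338533274))))) (.node (.node (.node (.node (.node (.leaf 28454184966) (.leaf 152471424922)) (.leaf 482647166344)) (.node (.leaf 174483081114) (.leaf 894427288712))) (.node (.node (.leaf 134217806088) (.leaf 731218475137)) (.node (.leaf 224412094737) (.leaf 1685775009161)))) (.node (.node (.node (.node (.leaf 53150272020) (.leaf 905164594309)) (.leaf 1066762756493)) (.node (.leaf 606664275215) (.leaf 1039919351558))) (.node (.node (.leaf 493921322902)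 (.leaf 785442457474)) (.node (.leaf 278099284762) (.leaf 1075352767110)))))) (.node (.node (.node (.node (.node (.node (.leaf 61203298711) (.leaf 806380202778)) (.leaf 445603064712)) (.node (.leaf 293131587994) (.leaf 1423244991883))) (.node (.node (.leaf 285078515840) (.leaf 1185411138438)) (.node (.leaf 720480844676) (.leaf 1349157009050)))) (.node (.node (.node (.node (.leaf 191126056198) (.leaf 1127429184025)) (.leaf 1031866098201)) (.node (.leaf 351113617923) (.leaf 1605244409623))) (.node (.node (.leaf 446139833088) (.leaf 1257888846851)) (.node (.leaf 389231602964) (.leaf 716722772762))))) (.node (.node (.node (.node (.node (.leaf 36507259155) (.leaf 1460826174746)) (.leaf 943282320512)) (.node (.leaf 375272856975) (.leaf 925028940288))) (.node (.node (.leaf 367219791233) (.leaf 755914546968)) (.node (.leaf 740881940870) (.leaf 1496796531207)))) (.node (.node (.node (.node (.leaf 251255613207) (.leaf 806917240457)) (.leaf 645855970968)) (.node (.leaf 389768383239) (.leaf 1678258725258))) (.node (.node (.leaf 229244009090) (.leaf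 1350230536580)) (.node (.leaf 753766940180) (.leaf 112742918425))))))
def dF_166 : BT := .node (.node (.node (.node (.node (.node (.node (.leaf 6442459417) (.leaf 693100421402)) (.leaf 852551211541)) (.node (.leaf 78383159962) (.leaf 1403917738378))) (.node (.node (.node (.leaf 267361757954) (.leaf 1817308454918)) (.leaf 1165010156817)) (.node (.leaf 319438360321) (.leaf 1128503074058)))) (.node (.node (.node (.node (.leaf 158913827727) (.leaf 1263794428168)) (.leaf 1006096326146)) (.node (.leaf 443455484826) (.leaf 977642307992))) (.node (.node (.leaf 425201807369) (.leaf 110058785818)) (.node (.leaf 784905363073) (.leaf 1219770913690))))) (.node (.node (.node (.node (.node (.leaf 130996510856) (.leaf 713501612185)) (.leaf 496605813784)) (.node (.leaf 220117110279) (.leaf 906775324696))) (.node (.node (.leaf 146565841684) (.leaf 905701526023)) (.node (.leaf 613106727683) (.leaf 789737536026)))) (.node (.node (.node (.node (.leaf 234075754765) (.leaf 905164538631)) (.leaf 632971063681)) (.node (.leaf 276488669072) (.leaf 951335382144)))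 (.node (.node (.leaf 516469871883) (.leaf 409632702746)) (.node (.leaf 688268673300) (.leaf 1258962633472)))))) (.node (.node (.node (.node (.node (.node (.leaf 88046840214) (.leaf 309237734403)) (.leaf 891205823626)) (.node (.leaf 536871059) (.leaf 1444182960776))) (.node (.node (.leaf 303869007382) (.leaf 822486448516)) (.node (.leaf 151397681562) (.leaf 1797444241935)))) (.node (.node (.node (.node (.leaf 203474122774) (.leaf 1204738530586)) (.leaf 1048509141141)) (.node (.leaf 475667727233) (.leaf 1012002057858))) (.node (.node (.leaf 471909641871) (.leaf 769873196674)) (.node (.leaf 198105473434) (.leaf 1086626939162))))) (.node (.node (.node (.node (.node (.leaf 98784256666) (.leaf 127775350788)) (.leaf 965294129933)) (.node (.leaf 46170909453) (.leaf 941671943554))) (.node (.node (.leaf 384399649685) (.leaf 992137663491)) (.node (.leaf 755914424343) (.leaf 1294932913177)))) (.node (.node (.node (.node (.leaf 157840104082) (.leaf 1760400013831)) (.leaf 1127429071874)) (.node (.leaf 659277637139) (.leaf 1701881052804))) (.node (.node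 (.leaf 240518302726) (.leaf 818191597080)) (.node (.leaf 816580851863) (.leaf 331249406081))))))
def dF_167 : BT := .node dF_165 dF_166
def dF_168 : BT := .node (.node (.node (.node (.node (.node (.node (.leaf 1073746968) (.leaf 621159793305)) (.leaf 842350661781)) (.node (.leaf 260382534144) (.leaf 838592696584))) (.node (.node (.node (.leaf 260919314316) (.leaf 1579474465924)) (.leaf 1152125136646)) (.node (.leaf 691489899533) (.leaf 1125281846154)))) (.node (.node (.node (.node (.leaf 43486564623) (.leaf 758598902810)) (.leaf 995358908177)) (.node (.leaf 298500298255) (.leaf 968515498760))) (.node (.node (.leaf 415538184845) (.leaf 1081795038475)) (.node (.leaf 370977986456) (.leaf 225486010650))))) (.node (.node (.node (.node (.node (.leaf 118111607560) (.leaf 65498301082)) (.leaf 488552748162)) (.node (.leaf 423054379674) (.leaf 905164709122))) (.node (.node (.leaf 337155013011) (.leaf 1236950758273)) (.node (.leaf 419296282257) (.leaf 1467268633345)))) (.node (.node (.node (.node (.leaf 54760887681) (.leaf 505732579851)) (.leaf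 629212965256)) (.node (.leaf 618475355656) (.leaf 1050119901697))) (.node (.node (.leaf 261993125401) (.leaf 792958653194)) (.node (.leaf 209379705621) (.leaf 146029011866)))))) (.node (.node (.node (.node (.node (.node (.leaf 76235679623) (.leaf 45634038411)) (.leaf 460098581250)) (.node (.leaf 112742898314) (.leaf 862751898118))) (.node (.node (.leaf 293131578506) (.leaf 710280502424)) (.node (.leaf 53687143706) (.leaf 1257888972166)))) (.node (.node (.node (.node (.leaf 109521671706) (.leaf 648003345562)) (.leaf 1039919101186)) (.node (.leaf 446139834255) (.leaf 1003948991366))) (.node (.node (.leaf 460098419208) (.leaf 918049495320)) (.node (.leaf 177704462618) (.leaf 1086627040538))))) (.node (.node (.node (.node (.node (.leaf 38117875349) (.leaf 975494823834)) (.leaf 955093580173)) (.node (.leaf 180388636938) (.leaf 930397652098))) (.node (.node (.leaf 158377008516) (.leaf 761283258634)) (.node (.leaf 747324403075) (.leaf 1666984491777)))) (.node (.node (.node (.node (.leaf 1610613786) (.leaf 1337345760664)) (.leaf 1118302335879))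 (.node (.leaf 651224484747) (.leaf 1078574065028))) (.node (.node (.leaf 550829670665) (.leaf 816044111236)) (.node (.leaf 807454044178) (.leaf 46170909465))))))
def dF_169 : BT := .node (.node (.node (.node (.node (.node (.node (.leaf 47781519750) (.leaf 917512607385)) (.leaf 439697482241)) (.node (.leaf 264140632217) (.leaf 848256378137))) (.node (.node (.leaf 275414805640) (.leaf 1175210589576)) (.node (.leaf 712964741139) (.leaf 1761473732998)))) (.node (.node (.node (.node (.leaf 44023458194) (.leaf 1202054172673)) (.leaf 1016833644038)) (.node (.leaf 222801481613) (.leaf 1595580663302))) (.node (.node (.leaf 435402391821) (.leaf 1205275367560)) (.node (.leaf 795642881295) (.leaf 1280437316741))))) (.node (.node (.node (.node (.node (.leaf 142807696010) (.leaf 423054706842)) (.leaf 933081867393)) (.node (.leaf 35970352903) (.leaf 1315334090888))) (.node (.node (.leaf 356482370451) (.leaf 751619576601)) (.node (.leaf 729070783109) (.leaf 947577394712)))) (.node (.node (.node (.node (.leaf 243739410187) (.leaf 1125281709320)) (.leaf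 1095753738753)) (.node (.leaf 634044698263) (.leaf 1670742583449))) (.node (.node (.leaf 529354773635) (.leaf 1340566986895)) (.node (.leaf 526133619220) (.leaf 331249522586)))))) (.node (.node (.node (.node (.node (.node (.leaf 97710520214) (.leaf 436476220928)) (.leaf 900332718086)) (.node (.leaf 287762852485) (.leaf 887984834968))) (.node (.node (.leaf 315143299219) (.leaf 724239150722)) (.node (.leaf 284541736730) (.leaf 1182190179842)))) (.node (.node (.node (.node (.leaf 212600895234) (.leaf 966904846593)) (.leaf 1058172819861)) (.node (.leaf 526133619215) (.leaf 1645509596673))) (.node (.node (.leaf 482647011978) (.leaf 775778778905)) (.node (.leaf 145492051861) (.leaf 311922355866))))) (.node (.node (.node (.node (.node (.leaf 8589936268) (.leaf 1263794502554)) (.leaf 975494679699)) (.node (.leaf 551366508817) (.leaf 1537598518793))) (.node (.node (.leaf 175020011530) (.leaf 620622917912)) (.node (.leaf 763430523905) (.leaf 1574642626202)))) (.node (.node (.node (.node (.leaf 253403089286) (.leaf 1251983230346)) (.leaf 658204008582))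 (.node (.leaf 297426644996) (.leaf 1714229230735))) (.node (.node (.leaf 242128918664) (.leaf 1376537215496)) (.node (.leaf 826781401615) (.leaf 520764858906))))))
def dF_170 : BT := .node dF_168 dF_169
def dF_171 : BT := .node dF_167 dF_170
def dF_172 : BT := .node dF_164 dF_171
def dF_173 : BT := .node (.node (.node (.node (.node (.node (.node (.leaf 3758097284) (.leaf 313532775450)) (.leaf 834834367625)) (.node (.leaf 586263170070) (.leaf 1382979799042))) (.node (.node (.node (.leaf 117037919744) (.leaf 898722178308)) (.leaf 1139240346893)) (.node (.leaf 299037259782) (.leaf 1110249456902)))) (.node (.node (.node (.node (.leaf 137975833492) (.leaf 1104343729305)) (.leaf 781684282630)) (.node (.leaf 339839390874) (.leaf 1549946551303))) (.node (.node (.leaf 401579521303) (.leaf 200253062810)) (.node (.leaf 769336200339) (.leaf 1262183755418))))) (.node (.node (.node (.node (.node (.leaf 18253636633) (.leaf 629212795019)) (.leaf 482647166084)) (.node (.leaf 311385203215) (.leaf 893890417288))) (.node (.node (.leaf 323733191938) (.leaf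 1226213336708)) (.node (.leaf 118648499857) (.leaf 1188095760008)))) (.node (.node (.node (.node (.leaf 120795962128) (.leaf 1578400702746)) (.leaf 1065152038530)) (.node (.leaf 264677504024) (.leaf 1039382480130))) (.node (.node (.leaf 210453514882) (.leaf 1310502208899)) (.node (.leaf 240518303386) (.leaf 112742958362)))))) (.node (.node (.node (.node (.node (.node (.leaf 8053077913) (.leaf 389768675098)) (.leaf 445066193284)) (.node (.leaf 234612626202) (.leaf 1420560636936))) (.node (.node (.leaf 283467907853) (.leaf 1183800525578)) (.node (.leaf 339839458560) (.leaf 1772211303061)))) (.node (.node (.node (.node (.leaf 190052313604) (.leaf 1605244264713)) (.leaf 1028644912513)) (.node (.leaf 340376202244) (.leaf 994285311494))) (.node (.node (.leaf 197568601365) (.leaf 752693317786)) (.node (.leaf 802622105473) (.leaf 145492347290))))) (.node (.node (.node (.node (.node (.leaf 37044129284) (.leaf 841277053338)) (.leaf 941671804177)) (.node (.leaf 37580965514) (.leaf 922881456002))) (.node (.node (.leaf 364535386123) (.leaf 1268626238596))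 (.node (.leaf 739271421953) (.leaf 373662320009)))) (.node (.node (.node (.node (.leaf 249645032343) (.leaf 1694364918682)) (.leaf 1104343729301)) (.node (.leaf 642634560646) (.leaf 1676111240454))) (.node (.node (.leaf 225485912217) (.leaf 1346472568343)) (.node (.leaf 740345164180) (.leaf 636728988058))))))
def dF_174 : BT := .node (.node (.node (.node (.node (.node (.node (.leaf 6442458379) (.leaf 630823579546)) (.leaf 427349448705)) (.node (.leaf 601832355977) (.leaf 1402307156493))) (.node (.node (.node (.leaf 265214257035) (.leaf 1243393465482)) (.leaf 673773271960)) (.node (.leaf 700616614920) (.leaf 1746978216584)))) (.node (.node (.node (.node (.leaf 112742918550) (.leaf 857383110170)) (.leaf 1003411898625)) (.node (.leaf 426812478106) (.leaf 1578937584774))) (.node (.node (.leaf 423054340234) (.leaf 1057099081353)) (.node (.leaf 787589760774) (.leaf 336618259994))))) (.node (.node (.node (.node (.node (.leaf 30064801546) (.leaf 1081258419994)) (.leaf 921807575695)) (.node (.leaf 227633280778) (.leaf 907849065602))) (.node (.node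 (.leaf 146565841158) (.leaf 1243930079754)) (.node (.leaf 423054379536) (.leaf 981400340890)))) (.node (.node (.node (.node (.leaf 233002012172) (.leaf 841813838091)) (.leaf 630823579137)) (.node (.leaf 624917890583) (.leaf 1119376081664))) (.node (.node (.leaf 513248644881) (.leaf 856846185864)) (.node (.leaf 451508587777) (.leaf 1059246708634)))))) (.node (.node (.node (.node (.node (.node (.leaf 15569276939) (.leaf 616328057626)) (.leaf 457414228868)) (.node (.leaf 53687104015) (.leaf 1442035516440))) (.node (.node (.leaf 302258394255) (.leaf 1206885980296)) (.node (.leaf 536871057) (.leaf 1621887453192)))) (.node (.node (.node (.node (.leaf 201326603787) (.leaf 1115081216666)) (.leaf 613106831128)) (.node (.leaf 456877255055) (.leaf 1627255977344))) (.node (.node (.leaf 204547929344) (.leaf 768262583192)) (.node (.leaf 110058600474) (.leaf 891206144794))))) (.node (.node (.node (.node (.node (.leaf 72477590938) (.leaf 1363115639834)) (.leaf 962072903040)) (.node (.leaf 423054322826) (.leaf 998043388424))) (.node (.node (.leaf 381715308175)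 (.leaf 765578227332)) (.node (.leaf 352724369044) (.leaf 1684701344513)))) (.node (.node (.node (.node (.leaf 93952422291) (.leaf 1478005891482)) (.leaf 656593393800)) (.node (.leaf 658203808004) (.leaf 1090922098048))) (.node (.node (.leaf 237297076616) (.leaf 1369021152023)) (.node (.leaf 814970141191) (.leaf 179852000794))))))
def dF_175 : BT := .node dF_173 dF_174
def dF_176 : BT := .node (.node (.node (.node (.node (.node (.node (.leaf 15569260559) (.leaf 665183170202)) (.leaf 645855907718)) (.node (.leaf 257161308422) (.leaf 1390495861896))) (.node (.node (.node (.leaf 259845543686) (.leaf 1234803331203)) (.leaf 666257075722)) (.node (.leaf 689342325632) (.leaf 1122597490696)))) (.node (.node (.node (.node (.leaf 149250122132) (.leaf 1402843898138)) (.leaf 993748194562)) (.node (.leaf 289373490575) (.leaf 1562831455364))) (.node (.node (.leaf 413390699663) (.leaf 1220844666648)) (.node (.leaf 363998663818) (.leaf 1409286316698))))) (.node (.node (.node (.node (.node (.leaf 104152961170) (.leaf 613106727691)) (.leaf 914291348488))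 (.node (.leaf 175019959063) (.leaf 1472637219458))) (.node (.node (.leaf 145492097156) (.leaf 1234803392015)) (.node (.leaf 530428587536) (.leaf 496605728024)))) (.node (.node (.node (.node (.leaf 54224016147) (.leaf 758599014298)) (.leaf 1072668291736)) (.node (.leaf 614717259655) (.leaf 1665910689928))) (.node (.node (.leaf 501974421399) (.leaf 1322313244674)) (.node (.leaf 445066049176) (.leaf 374736047642)))))) (.node (.node (.node (.node (.node (.node (.leaf 9663693714) (.leaf 403727022105)) (.leaf 455803613316)) (.node (.leaf 179314919194) (.leaf 860067542660))) (.node (.node (.leaf 290447232279) (.leaf 1196148558980)) (.node (.leaf 370977888657) (.leaf 1780801089541)))) (.node (.node (.node (.node (.leaf 97710520090) (.leaf 1638530401306)) (.leaf 1026497431048)) (.node (.leaf 390305246093) (.leaf 998580281112))) (.node (.node (.leaf 456340322694) (.leaf 877247326465)) (.node (.leaf 6442529178) (.leaf 523986350874))))) (.node (.node (.node (.node (.node (.leaf 37581003672) (.leaf 1066762682370)) (.leaf 952409121798)) (.node (.leaf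 562640788737) (.leaf 928787038593))) (.node (.node (.leaf 372051580551) (.leaf 761283258369)) (.node (.leaf 745713795464) (.leaf 1235877190667)))) (.node (.node (.node (.node (.leaf 110058563478) (.leaf 1476395224346)) (.leaf 839129501312)) (.node (.leaf 285615479810) (.leaf 1077500322694))) (.node (.node (.leaf 549755897485) (.leaf 814433497992)) (.node (.leaf 497142649344) (.leaf 913217727514))))))
def dF_177 : BT := .node (.node (.node (.node (.node (.node (.node (.leaf 35970361870) (.leaf 127775351834)) (.leaf 859530535055)) (.node (.leaf 28454165139) (.leaf 847182635914))) (.node (.node (.leaf 273267359247) (.leaf 1171452552450)) (.node (.leaf 710817256983) (.leaf 1134945527306)))) (.node (.node (.node (.node (.leaf 179314919183) (.leaf 941671967002)) (.leaf 1014149288842)) (.node (.leaf 494458227994) (.leaf 1592896254616))) (.node (.node (.leaf 433791799181) (.leaf 824633922052)) (.node (.leaf 793495397137) (.leaf 1602560064538))))) (.node (.node (.node (.node (.node (.leaf 140123340044) (.leaf 740345283866)) (.leaf 929860641303))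 (.node (.leaf 242128839053) (.leaf 1493038337416))) (.node (.node (.leaf 151397681816) (.leaf 751082705158)) (.node (.leaf 726923388172) (.leaf 535260388504)))) (.node (.node (.node (.node (.leaf 64961437593) (.leaf 1746978364184)) (.leaf 1093069328772)) (.node (.leaf 277025541400) (.leaf 1410897124353))) (.node (.node (.leaf 526133547522) (.leaf 1338956373773)) (.node (.leaf 608274888340) (.leaf 1388348505370)))))) (.node (.node (.node (.node (.node (.node (.leaf 16643020939) (.leaf 1300301745178)) (.leaf 898185220619)) (.node (.leaf 6979323535) (.leaf 879394899590))) (.node (.node (.leaf 127775351700) (.leaf 721554795398)) (.node (.leaf 243202581137) (.leaf 1806570900232)))) (.node (.node (.node (.node (.leaf 209916548874) (.leaf 1198296208129)) (.leaf 1056562102792)) (.node (.leaf 519691166735) (.leaf 1640677750530))) (.node (.node (.leaf 479425786379) (.leaf 1302449017098)) (.node (.leaf 146565793941) (.leaf 1427540102938))))) (.node (.node (.node (.node (.node (.leaf 124017187853) (.leaf 898722257050)) (.leaf 972810324503)) (.node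 (.leaf 54223975055) (.leaf 946503783577))) (.node (.node (.leaf 255550647705) (.leaf 908922661249)) (.node (.leaf 761820005777) (.leaf 1621350580360)))) (.node (.node (.node (.node (.leaf 145492058770) (.leaf 1768453055753)) (.leaf 657667137160)) (.node (.leaf 296889773322) (.leaf 1711544730376))) (.node (.node (.leaf 241592046720) (.leaf 1374389741316)) (.node (.leaf 823560077056) (.leaf 1257888759684))))))
def dF_178 : BT := .node dF_176 dF_177
def dF_179 : BT := .node dF_175 dF_178
def dF_180 : BT := .node (.node (.node (.node (.node (.node (.node (.leaf 2684354574) (.leaf 222801552026)) (.leaf 839129335428)) (.node (.leaf 590558067087) (.leaf 1386737781382))) (.node (.node (.node (.leaf 257698081814) (.leaf 1369021121665)) (.leaf 1143535203846)) (.node (.leaf 309237808522) (.leaf 1729261473540)))) (.node (.node (.node (.node (.leaf 78920030989) (.leaf 859530535065)) (.leaf 988379538698)) (.node (.leaf 153008246415) (.leaf 961536174474))) (.node (.node (.leaf 407485119233) (.leaf 890668953241)) (.node (.leaf 773094297617) (.leaf 222801792922)))))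 (.node (.node (.node (.node (.node (.leaf 113816660235) (.leaf 792958526105)) (.leaf 910533182600)) (.node (.leaf 275951714575) (.leaf 1250909574918))) (.node (.node (.leaf 330712558991) (.leaf 1230508304648)) (.node (.leaf 336081271056) (.leaf 306016776218)))) (.node (.node (.node (.node (.leaf 53687143696) (.leaf 758061949210)) (.leaf 1068373361928)) (.node (.leaf 268435601410) (.leaf 1658931366533))) (.node (.node (.leaf 497142515714) (.leaf 1316407664392)) (.node (.leaf 310311552666) (.leaf 334470612762)))))) (.node (.node (.node (.node (.node (.node (.leaf 66035126411) (.leaf 340376283528)) (.leaf 872952311055)) (.node (.leaf 326417592474) (.leaf 1428076830594))) (.node (.node (.leaf 117037927448) (.leaf 1188632364040)) (.node (.leaf 551366508826) (.leaf 1146219820296)))) (.node (.node (.node (.node (.leaf 193810414722) (.leaf 1352378130842)) (.leaf 1033476752019)) (.node (.leaf 355945499543) (.leaf 995359054488))) (.node (.node (.leaf 198105473689) (.leaf 1034550494088)) (.node (.leaf 719944062848) (.leaf 847182501641))))) (.node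 (.node (.node (.node (.node (.leaf 159450670089) (.leaf 647466583834)) (.leaf 515933172230)) (.node (.leaf 284541678490) (.leaf 926102682753))) (.node (.node (.leaf 153545168774) (.leaf 1272921235859)) (.node (.leaf 473520321538) (.leaf 1334124406682)))) (.node (.node (.node (.node (.leaf 252329355404) (.leaf 1280437419530)) (.leaf 1109712329604)) (.node (.leaf 644782034818) (.leaf 1680943174400))) (.node (.node (.leaf 545460971543) (.leaf 1354525504394)) (.node (.leaf 739808199049) (.leaf 64961711002))))))
def dF_181 : BT := .node (.node (.node (.node (.node (.node (.node (.leaf 37580972951) (.leaf 947577385625)) (.leaf 855772437773)) (.node (.leaf 17716742298) (.leaf 1406065253783))) (.node (.node (.node (.leaf 110595472276) (.leaf 1744830897418)) (.leaf 678605111044)) (.node (.leaf 706522197126) (.leaf 1752347074573)))) (.node (.node (.node (.node (.leaf 43486585608) (.leaf 1127966202906)) (.leaf 1008780578946)) (.node (.leaf 462782836634) (.leaf 1586990649480))) (.node (.node (.leaf 428959902984) (.leaf 608274807304)) (.node (.leaf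 375809826690) (.leaf 1570884481306))))) (.node (.node (.node (.node (.node (.leaf 134217736960) (.leaf 926102683418)) (.leaf 924491929752)) (.node (.leaf 237833851652) (.leaf 910533421828))) (.node (.node (.leaf 348966128785) (.leaf 898722205062)) (.node (.leaf 722628328329) (.leaf 784905652378)))) (.node (.node (.node (.node (.leaf 235149497623) (.leaf 1128502877831)) (.leaf 633507935236)) (.node (.leaf 628675987713) (.leaf 911070165123))) (.node (.node (.leaf 223338423300) (.leaf 853087992324)) (.node (.leaf 658740766100) (.leaf 1173599902746)))))) (.node (.node (.node (.node (.node (.node (.leaf 90194317078) (.leaf 630286539787)) (.leaf 462246068249)) (.node (.leaf 45097165210) (.leaf 1445793710737))) (.node (.node (.leaf 246960692487) (.leaf 716186085002)) (.node (.leaf 180388724250) (.leaf 1799591659394)))) (.node (.node (.node (.node (.leaf 46707818374) (.leaf 1204201634950)) (.leaf 1051193392768)) (.node (.leaf 488552646413) (.leaf 1014686413312))) (.node (.node (.leaf 258235021442) (.leaf 1297080359552)) (.node (.leaf 112742958234)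 (.leaf 198105471642))))) (.node (.node (.node (.node (.node (.leaf 16106135942) (.leaf 375272952195)) (.leaf 966904743059)) (.node (.leaf 474057128335) (.leaf 941671943961))) (.node (.node (.leaf 173946268162) (.leaf 916975705480)) (.node (.leaf 358629950082) (.leaf 1809255289481)))) (.node (.node (.node (.node (.leaf 152471394579) (.leaf 1338956270466)) (.leaf 1127966055061)) (.node (.leaf 355945572480) (.leaf 1705102278919))) (.node (.node (.leaf 565325128705) (.leaf 908922651546)) (.node (.leaf 818728237579) (.leaf 803695946905))))))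
def dF_182 : BT := .node dF_180 dF_181
def dF_183 : BT := .node (.node (.node (.node (.node (.node (.node (.leaf 24696065419) (.leaf 792958653338)) (.leaf 426275705736)) (.node (.leaf 597537409416) (.leaf 1395327832979))) (.node (.node (.node (.leaf 152471401489) (.leaf 1243393318789)) (.leaf 671088915466)) (.node (.leaf 693100421386) (.leaf 1127429330816)))) (.node (.node (.node (.node (.leaf 49392145676) (.leaf 1363115493632)) (.leaf 997506392339)) (.node (.leaf 335544400013) (.leaf 972273596289))) (.node (.node (.leaf 184683693444) (.leaf 984621509376)) (.node (.leaf 783294749706) (.leaf 851477523354))))) (.node (.node (.node (.node (.node (.leaf 28991057935) (.leaf 1302985792922)) (.leaf 917512607379)) (.node (.leaf 202400346122) (.leaf 1477468965762))) (.node (.node (.leaf 339302496257) (.leaf 1238561370250)) (.node (.leaf 428423089936) (.leaf 1196685491098)))) (.node (.node (.node (.node (.leaf 230317674767) (.leaf 1272921235847)) (.leaf 629749836548)) (.node (.leaf 621159793295) (.leaf 1605781280648))) (.node (.node (.leaf 508953677067)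 (.leaf 1328755696388)) (.node (.leaf 267898648981) (.leaf 1068910392474)))))) (.node (.node (.node (.node (.node (.node (.leaf 79456899072) (.leaf 807454044185)) (.leaf 452045517977)) (.node (.leaf 179851798419) (.leaf 1439351121288))) (.node (.node (.leaf 295279030921) (.leaf 1202054258583)) (.node (.leaf 6979323537) (.leaf 1159641596290)))) (.node (.node (.node (.node (.leaf 183609872793) (.leaf 1202054172418)) (.leaf 1041529817615)) (.node (.leaf 426275605775) (.leaf 1007170217606))) (.node (.node (.leaf 200252960784) (.leaf 1288490372224)) (.node (.leaf 112743060506) (.leaf 1674500780698))))) (.node (.node (.node (.node (.node (.leaf 42412843416) (.leaf 624918061466)) (.leaf 520765013016)) (.node (.leaf 331249431693) (.leaf 932545136266))) (.node (.node (.leaf 378494031626) (.leaf 1282584790410)) (.node (.leaf 749471971863) (.leaf 1465120931994)))) (.node (.node (.node (.node (.leaf 536871186) (.leaf 242128835082)) (.leaf 653909038214)) (.node (.leaf 653908926735) (.leaf 1692217430660))) (.node (.node (.leaf 553513967493) (.leaf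 1364189312661)) (.node (.leaf 809064657293) (.leaf 893890375578))))))
def dF_184 : BT := .node (.node (.node (.node (.node (.node (.node (.leaf 51539610883) (.leaf 357556063642)) (.leaf 441308095620)) (.node (.leaf 425738734618) (.leaf 850403862408))) (.node (.node (.leaf 278636030216) (.leaf 1177894944898)) (.node (.leaf 714575266560) (.leaf 1765231829892)))) (.node (.node (.node (.node (.leaf 184146733442) (.leaf 390305468570)) (.leaf 576062731928)) (.node (.leaf 523986140186) (.leaf 1598265061122))) (.node (.node (.leaf 437013026455) (.leaf 1083942662810)) (.node (.leaf 797790365459) (.leaf 901943282458))))) (.node (.node (.node (.node (.node (.leaf 35970386056) (.leaf 643708376963)) (.leaf 936302991748)) (.node (.leaf 345208078733) (.leaf 1499480676994))) (.node (.node (.leaf 359166695691) (.leaf 1260573080714)) (.node (.leaf 340913203604) (.leaf 1075352662659)))) (.node (.node (.node (.node (.leaf 246423805967) (.leaf 1579474599704)) (.leaf 1100048651400)) (.node (.leaf 278099284360) (.leaf 1297617393024))) (.node (.node (.leaf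 230317748377) (.leaf 1257888866954)) (.node (.leaf 414464442900) (.leaf 157840308250)))))) (.node (.node (.node (.node (.node (.node (.leaf 17179893268) (.leaf 530965564698)) (.leaf 477815327128)) (.node (.leaf 292594677892) (.leaf 891206061313))) (.node (.node (.leaf 316753869570) (.leaf 724239151257)) (.node (.leaf 208842899226) (.leaf 1813013353984)))) (.node (.node (.node (.node (.leaf 214211506568) (.leaf 1401233367428)) (.leaf 1059246561941)) (.node (.leaf 534186684815) (.leaf 1647657074692))) (.node (.node (.leaf 260382507929) (.leaf 1176284479751)) (.node (.leaf 180388669461) (.leaf 522912613402))))) (.node (.node (.node (.node (.node (.leaf 46170909580) (.leaf 1341103731204)) (.leaf 534723661828)) (.node (.leaf 561567107855) (.leaf 953483107328))) (.node (.node (.leaf 178778108806) (.leaf 460098482458)) (.node (.leaf 765578102272) (.leaf 1709397309210)))) (.node (.node (.node (.node (.leaf 253939969548) (.leaf 793495397127)) (.leaf 1135482249617)) (.node (.leaf 672162542103) (.leaf 1716376569346))) (.node (.node (.leaf 242665790474)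 (.leaf 827318404120)) (.node (.leaf 828928885775) (.leaf 1425929321626))))))
def dF_185 : BT := .node dF_183 dF_184
def dF_186 : BT := .node dF_182 dF_185
def dF_187 : BT := .node dF_179 dF_186
def dF_188 : BT := .node dF_172 dF_187
def dF_189 : BT := .node dF_157 dF_188
def dF_190 : BT := .node (.node (.node (.node (.node (.node (.node (.leaf 267) (.leaf 686121211930)) (.leaf 409095832985)) (.node (.leaf 583041868553) (.leaf 1380295331714))) (.node (.node (.node (.leaf 255013702278) (.leaf 906775190155)) (.leaf 1137092862735)) (.node (.leaf 297963517080) (.leaf 1105417617688)))) (.node (.node (.node (.node (.leaf 15032387087) (.leaf 1363115508489)) (.leaf 534723662214)) (.node (.leaf 566935818255) (.leaf 955093720836))) (.node (.node (.leaf 253940036610) (.leaf 865436016536)) (.node (.leaf 767725587073) (.leaf 1342177492867))))) (.node (.node (.node (.node (.node (.leaf 103079230870) (.leaf 653909038618)) (.leaf 905164573457)) (.node (.leaf 306016450186) (.leaf 1458678480390))) (.node (.node (.leaf 132607191426) (.leaf 726923506456))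 (.node (.leaf 224949040026) (.leaf 1183800793601)))) (.node (.node (.node (.node (.leaf 76772540570) (.leaf 1250909523225)) (.leaf 621696769162)) (.node (.leaf 602369306903) (.leaf 1035087511818))) (.node (.node (.leaf 488015709062) (.leaf 1307817797893)) (.node (.leaf 198105413781) (.leaf 634581500186)))))) (.node (.node (.node (.node (.node (.node (.leaf 8053076747) (.leaf 214748483994)) (.leaf 865972929921)) (.node (.leaf 560493365914) (.leaf 852014475544))) (.node (.node (.leaf 281320423693) (.leaf 688268790658)) (.node (.leaf 716185875844) (.leaf 1768453055746)))) (.node (.node (.node (.node (.leaf 186294227467) (.leaf 1115081228936)) (.leaf 1023812967946)) (.node (.leaf 530965462810) (.leaf 992674697730))) (.node (.node (.leaf 439160452359) (.leaf 1226750217987)) (.node (.leaf 799400960002) (.leaf 887447722778))))) (.node (.node (.node (.node (.node (.leaf 148713252227) (.leaf 616328058010)) (.leaf 513785686664)) (.node (.leaf 36507230743) (.leaf 923955197312))) (.node (.node (.leaf 152471425049) (.leaf 1263257435402)) (.node (.leaf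 734976359942) (.leaf 1447404209667)))) (.node (.node (.node (.node (.leaf 247497548047) (.leaf 1228897718410)) (.leaf 1102196245133)) (.node (.leaf 638876451975) (.leaf 1058172966538))) (.node (.node (.leaf 224949040148) (.leaf 1343788213143)) (.node (.leaf 645855861140) (.leaf 428960055809))))))
def dF_191 : BT := .node (.node (.node (.node (.node (.node (.node (.leaf 4294973842) (.leaf 362387931908)) (.leaf 847182501135)) (.node (.leaf 599148033922) (.leaf 1398012055298))) (.node (.node (.node (.leaf 263066803222) (.leaf 1081258419866)) (.leaf 1158030717318)) (.node (.leaf 695784776324) (.leaf 1744830880013)))) (.node (.node (.node (.node (.leaf 140123340046) (.leaf 1326071451011)) (.leaf 999116901258)) (.node (.leaf 198105413773) (.leaf 1574642752518))) (.node (.node (.leaf 184683693835) (.leaf 1033476752922)) (.node (.leaf 374199212932) (.leaf 1336808822810))))) (.node (.node (.node (.node (.node (.leaf 28991058713) (.leaf 739271541274)) (.leaf 919123117700)) (.node (.leaf 482647065114) (.leaf 905701581194))) (.node (.node (.leaf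 340913064068) (.leaf 1241782595978)) (.node (.leaf 690953028496) (.leaf 1014149223962)))) (.node (.node (.node (.node (.leaf 231391416844) (.leaf 1137092889984)) (.leaf 630286707718)) (.node (.leaf 275951797264) (.leaf 223338522778))) (.node (.node (.leaf 219580324864) (.leaf 1331977050113)) (.node (.leaf 296352814101) (.leaf 814970368282)))))) (.node (.node (.node (.node (.node (.node (.leaf 15032404877) (.leaf 151397681818)) (.leaf 456877356802)) (.node (.leaf 51539653896) (.leaf 1439887994008))) (.node (.node (.leaf 118648542726) (.leaf 1204201742735)) (.node (.leaf 145492051857) (.leaf 1162862822297)))) (.node (.node (.node (.node (.leaf 195957894537) (.leaf 1105417387144)) (.leaf 608811862937)) (.node (.leaf 428423089939) (.leaf 1007707088902))) (.node (.node (.leaf 466540927638) (.leaf 1035087425794)) (.node (.leaf 151934553242) (.leaf 277025741594))))) (.node (.node (.node (.node (.node (.leaf 29527907738) (.leaf 358629950618)) (.leaf 959388445184)) (.node (.leaf 394600214415) (.leaf 936840103940))) (.node (.node (.leaf 379567824023)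 (.leaf 1284732274306)) (.node (.leaf 752156327057) (.leaf 1806034095234)))) (.node (.node (.node (.node (.leaf 88046840210) (.leaf 1605244409624)) (.leaf 1122597232906)) (.node (.leaf 293131674496) (.leaf 1693291214210))) (.node (.node (.leaf 236760204948) (.leaf 817654724610)) (.node (.leaf 394600313624) (.leaf 663035690010))))))
def dF_192 : BT := .node dF_190 dF_191
def dF_193 : BT := .node (.node (.node (.node (.node (.node (.node (.leaf 536874264) (.leaf 729607650586)) (.leaf 839666306579)) (.node (.leaf 591094939030) (.leaf 1388885342087))) (.node (.node (.node (.leaf 258771825805) (.leaf 1010391246724)) (.leaf 1145145928333)) (.node (.leaf 686658060175) (.leaf 1536524962948)))) (.node (.node (.node (.node (.leaf 83215024011) (.leaf 1507533816730)) (.leaf 555124759304)) (.node (.leaf 173946216983) (.leaf 1558536487431))) (.node (.node (.leaf 180388724240) (.leaf 821412785690)) (.node (.leaf 774704910735) (.leaf 1422171384858))))) (.node (.node (.node (.node (.node (.leaf 33286004634) (.leaf 606664370818)) (.leaf 770946847104))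 (.node (.leaf 277562327695) (.leaf 1381369207042))) (.node (.node (.leaf 332323141767) (.leaf 1202591136512)) (.node (.leaf 625454761616) (.leaf 309238010266)))) (.node (.node (.node (.node (.leaf 221727700745) (.leaf 758061884290)) (.leaf 1068910233736)) (.node (.leaf 268435601945) (.leaf 1662152593284))) (.node (.node (.leaf 214748484121) (.leaf 789200554882)) (.node (.leaf 363998565141) (.leaf 603443212698)))))) (.node (.node (.node (.node (.node (.node (.leaf 67645737481) (.leaf 531502256410)) (.leaf 873489117827)) (.node (.leaf 311385204378) (.leaf 1430224450573))) (.node (.node (.leaf 288836601728) (.leaf 1191316718730)) (.node (.leaf 146565793937) (.leaf 1147293562498)))) (.node (.node (.node (.node (.leaf 70867006723) (.leaf 1236413854362)) (.leaf 1035087262340)) (.node (.leaf 362387952023) (.leaf 997506538625))) (.node (.node (.leaf 198642345224) (.leaf 1068373369605)) (.node (.leaf 150323930906) (.leaf 864362328452))))) (.node (.node (.node (.node (.node (.leaf 162135025544) (.leaf 1200980641434)) (.leaf 948114154123)) (.node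 (.leaf 117574757775) (.leaf 926102683142))) (.node (.node (.leaf 369904095760) (.leaf 1275068596874)) (.node (.leaf 743566390423) (.leaf 1495722759834)))) (.node (.node (.node (.node (.leaf 114890393882) (.leaf 947577431178)) (.leaf 648540326913)) (.node (.leaf 645855861143) (.leaf 1075352838026))) (.node (.node (.leaf 547071584791) (.leaf 1356136118168)) (.node (.leaf 490163228930) (.leaf 792421745434))))))
def dF_194 : BT := .node (.node (.node (.node (.node (.node (.node (.leaf 40802192256) (.leaf 744103308442)) (.leaf 857383050895)) (.node (.leaf 15032387098) (.leaf 1408212668288))) (.node (.node (.leaf 271656741632) (.leaf 680752595074)) (.node (.leaf 709206552965) (.leaf 1137093009794)))) (.node (.node (.node (.node (.leaf 177167412993) (.leaf 1139240497434)) (.leaf 1010391297295)) (.node (.leaf 475667770010) (.leaf 982474148102))) (.node (.node (.leaf 186294309376) (.leaf 724775904003)) (.node (.leaf 791347814402) (.leaf 680752443015))))) (.node (.node (.node (.node (.node (.leaf 30601674648) (.leaf 428960134298)) (.leaf 926102544021))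 (.node (.leaf 240518225933) (.leaf 1066225986691))) (.node (.node (.leaf 351113637379) (.leaf 1252520136335)) (.node (.leaf 724239032973) (.leaf 737124036250)))) (.node (.node (.node (.node (.leaf 64961436810) (.leaf 839129505801)) (.leaf 634044806794)) (.node (.leaf 629749687050) (.leaf 1453846799770))) (.node (.node (.leaf 521838580352) (.leaf 1336271910406)) (.node (.leaf 602369306900) (.leaf 687731847450)))))) (.node (.node (.node (.node (.node (.node (.leaf 92341801987) (.leaf 497679555738)) (.leaf 462782939652)) (.node (.leaf 352187449498) (.leaf 874563060612))) (.node (.node (.leaf 127238479640) (.leaf 1212254693121)) (.node (.leaf 389231511066) (.leaf 1802275931786)))) (.node (.node (.node (.node (.leaf 206695312906) (.leaf 1422708261511)) (.leaf 617938670986)) (.node (.leaf 497142583053) (.leaf 1027034444546))) (.node (.node (.leaf 475130818955) (.leaf 1298154049414)) (.node (.leaf 130996509832) (.leaf 180388669465))))) (.node (.node (.node (.node (.node (.leaf 66571995279) (.leaf 505732520090)) (.leaf 526670595846)) (.node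 (.leaf 260919314330) (.leaf 942745686274))) (.node (.node (.leaf 175020010244) (.leaf 912680740632)) (.node (.leaf 759135650579) (.leaf 996969522586)))) (.node (.node (.node (.node (.leaf 190589208722) (.leaf 1272921265033)) (.leaf 659277748992)) (.node (.leaf 296352901912) (.leaf 1101659518488))) (.node (.node (.leaf 241055174920) (.leaf 1211717851649)) (.node (.leaf 820875722497) (.leaf 599148182810))))))
def dF_195 : BT := .node dF_193 dF_194
def dF_196 : BT := .node dF_192 dF_195
def dF_197 : BT := .node (.node (.node (.node (.node (.node (.node (.leaf 536872448) (.leaf 449897890563)) (.leaf 836981951373)) (.node (.leaf 587873783955) (.leaf 1384053457026))) (.node (.node (.node (.leaf 257161187720) (.leaf 1432908691842)) (.leaf 1140313974660)) (.node (.leaf 680752389384) (.leaf 1725503483392)))) (.node (.node (.node (.node (.leaf 21474851713) (.leaf 1259499459848)) (.leaf 986232028551)) (.node (.leaf 151397633293) (.leaf 1552630906505))) (.node (.node (.leaf 403726987146) (.leaf 334470625291)) (.node (.leaf 362388049433) (.leaf 519691222282)))))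 (.node (.node (.node (.node (.node (.leaf 28454184705) (.leaf 296889888266)) (.leaf 907312057617)) (.node (.leaf 264677422735) (.leaf 1464047258393))) (.node (.node (.leaf 326417547141) (.leaf 1228360939537)) (.node (.leaf 217432804617) (.leaf 1188095673733)))) (.node (.node (.node (.node (.leaf 213674674064) (.leaf 906775207041)) (.leaf 624917995912)) (.node (.leaf 599148082312) (.leaf 1655710286976))) (.node (.node (.leaf 213674740738) (.leaf 784905586436)) (.node (.leaf 275951797402) (.leaf 1693291288346)))))) (.node (.node (.node (.node (.node (.node (.leaf 61203292943) (.leaf 185220566042)) (.leaf 870267854594)) (.node (.leaf 304405879834) (.leaf 1422171249922))) (.node (.node (.leaf 284541611394) (.leaf 1184874384640)) (.node (.leaf 719943973002) (.leaf 1348620004250)))) (.node (.node (.node (.node (.leaf 190589208718) (.leaf 1403380813960)) (.leaf 599685054617)) (.node (.leaf 350576789135) (.leaf 1605244409615))) (.node (.node (.leaf 445602961920) (.leaf 1154272760838)) (.node (.leaf 803695946897) (.leaf 180388724506))))) (.node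 (.node (.node (.node (.node (.leaf 36507259025) (.leaf 151397633305)) (.leaf 942745503367)) (.node (.leaf 374735985935) (.leaf 1504849504647))) (.node (.node (.leaf 366682919055) (.leaf 1269700009617)) (.node (.leaf 740345164177) (.leaf 1596654376064)))) (.node (.node (.node (.node (.leaf 251255613196) (.leaf 860067601178)) (.leaf 1105417471381)) (.node (.leaf 418759404679) (.leaf 1677721854598))) (.node (.node (.leaf 543313485837) (.leaf 808527915272)) (.node (.leaf 759135650580) (.leaf 630286600985))))))
def dF_198 : BT := .node (.node (.node (.node (.node (.node (.node (.leaf 6442459027) (.leaf 449897985434)) (.leaf 428960061826)) (.node (.leaf 79993773082) (.leaf 841813924742))) (.node (.node (.node (.leaf 266824871045) (.leaf 1817308470425)) (.leaf 675383885066)) (.node (.leaf 317290876441) (.leaf 1748588829446)))) (.node (.node (.node (.node (.leaf 52613371663) (.leaf 710817485700)) (.leaf 563714697368)) (.node (.leaf 441844866074) (.leaf 1580548198144))) (.node (.node (.leaf 424664936329) (.leaf 1046361553689)) (.node (.leaf 374736084489)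 (.leaf 1652488931482))))) (.node (.node (.node (.node (.node (.leaf 129922768649) (.leaf 582505117978)) (.leaf 909996415769)) (.node (.leaf 219043384339) (.leaf 1484985159044))) (.node (.node (.leaf 345744949655) (.leaf 1247151307783)) (.node (.leaf 613643598736) (.leaf 298500363146)))) (.node (.node (.node (.node (.leaf 233538883606) (.leaf 1467805344900)) (.leaf 632971063552)) (.node (.leaf 625991632653) (.leaf 949724768513))) (.node (.node (.leaf 515396129280) (.leaf 407485218842)) (.node (.leaf 449897931540) (.leaf 847182447366)))))) (.node (.node (.node (.node (.node (.node (.leaf 87509969174) (.leaf 629212783104)) (.leaf 890668952710)) (.node (.leaf 26306681114) (.leaf 1443646089862))) (.node (.node (.leaf 303869007373) (.leaf 827855154054)) (.node (.leaf 6442452497) (.leaf 1170379016728)))) (.node (.node (.node (.node (.leaf 203474122765) (.leaf 1212791677826)) (.leaf 1048509141133)) (.node (.leaf 473520257295) (.leaf 1629403606413))) (.node (.node (.leaf 471372770445) (.leaf 769336325528)) (.node (.leaf 35970359701) (.leaf 198105472794)))))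 (.node (.node (.node (.node (.node (.leaf 98247385626) (.leaf 298500334344)) (.leaf 964757154180)) (.node (.leaf 204547864858) (.leaf 940598201624))) (.node (.node (.leaf 383862793600) (.leaf 765041181955)) (.node (.leaf 755914424333) (.leaf 1698659992458)))) (.node (.node (.node (.node (.leaf 249108161171) (.leaf 1737314564634)) (.leaf 1126355394823)) (.node (.leaf 293131675144) (.leaf 1700807443072))) (.node (.node (.leaf 561567031298) (.leaf 1360431217921)) (.node (.leaf 436476246022) (.leaf 35970359705))))))
def dF_199 : BT := .node dF_197 dF_198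
def dF_200 : BT := .node (.node (.node (.node (.node (.node (.node (.leaf 19327355660) (.leaf 438623940378)) (.leaf 842350661773)) (.node (.leaf 594853083535) (.leaf 838055825432))) (.node (.node (.node (.leaf 260382442263) (.leaf 1018444334343)) (.leaf 1151588265984)) (.node (.leaf 690953028498) (.leaf 1738388281352)))) (.node (.node (.node (.node (.leaf 43486564620) (.leaf 686658228122)) (.leaf 994822037143)) (.node (.leaf 297426556175) (.leaf 1566052681218))) (.node (.node (.leaf 184146821770) (.leaf 894963920649)) (.node (.leaf 686658082310) (.leaf 971736776346))))) (.node (.node (.node (.node (.node (.leaf 28991057286) (.leaf 309237719065)) (.leaf 915365021446)) (.node (.leaf 430570574234) (.leaf 1473710912024))) (.node (.node (.leaf 145492097547) (.leaf 1235877134093)) (.node (.leaf 414464442897) (.leaf 668404475290)))) (.node (.node (.node (.node (.leaf 228707061647) (.leaf 975494627845)) (.leaf 916438902912)) (.node (.leaf 617401613828) (.leaf 1049046159641))) (.node (.node (.leaf 218506581528) (.leaf 792421782168)) (.node (.leaf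 341449981461) (.leaf 722628327706)))))) (.node (.node (.node (.node (.node (.node (.leaf 75698808583) (.leaf 733902632858)) (.leaf 451508646532)) (.node (.leaf 277025457946) (.leaf 1436129907461))) (.node (.node (.leaf 292594707720) (.leaf 1198296161297)) (.node (.leaf 394600214417) (.leaf 1783485444993)))) (.node (.node (.node (.node (.leaf 150323866136) (.leaf 1272921125387)) (.leaf 1039382231942)) (.node (.leaf 446676646026) (.leaf 1617592296970))) (.node (.node (.leaf 459024678149) (.leaf 862751809668)) (.node (.leaf 37580973978) (.leaf 1602559916825))))) (.node (.node (.node (.node (.node (.leaf 38117875220) (.leaf 515396198425)) (.leaf 520228141318)) (.node (.leaf 43486554263) (.leaf 1511291978626))) (.node (.node (.leaf 374199082246) (.leaf 1280437430419)) (.node (.leaf 351113754648) (.leaf 1662152654082)))) (.node (.node (.node (.node (.leaf 60666451482) (.leaf 1337882504707)) (.leaf 1117765465094)) (.node (.leaf 650150742536) (.leaf 1078574064897))) (.node (.node (.leaf 550292799761) (.leaf 1362578699533)) (.node (.leaf 807454044172)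 (.leaf 756451162394))))))
def dF_201 : BT := .node (.node (.node (.node (.node (.node (.node (.leaf 47244651275) (.leaf 917512521094)) (.leaf 860067406103)) (.node (.leaf 264140551693) (.leaf 1414118186756))) (.node (.node (.leaf 274877934601) (.leaf 1174136847622)) (.node (.leaf 712964667272) (.leaf 1760400140183)))) (.node (.node (.node (.node (.leaf 180925540365) (.leaf 345208172546)) (.leaf 1015760007553)) (.node (.leaf 215822142857) (.leaf 988916600192))) (.node (.node (.leaf 434865520022) (.leaf 849329885444)) (.node (.leaf 555124712576) (.leaf 428960073498))))) (.node (.node (.node (.node (.node (.leaf 141733940619) (.leaf 975494744602)) (.leaf 506806363264)) (.node (.leaf 190052337690) (.leaf 1166620848135))) (.node (.node (.leaf 356482336523) (.leaf 1256815102616)) (.node (.leaf 728533908618) (.leaf 629212831875)))) (.node (.node (.node (.node (.leaf 242665667846) (.leaf 1746978225409)) (.leaf 1094680036608)) (.node (.leaf 634044613508) (.leaf 1670205658500))) (.node (.node (.leaf 528817902594) (.leaf 1340030096260)) (.node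 (.leaf 555661526420) (.leaf 712428073498)))))) (.node (.node (.node (.node (.node (.node (.leaf 97173649164) (.leaf 272193846170)) (.leaf 474594100736)) (.node (.leaf 158376956819) (.leaf 1452236145792))) (.node (.node (.leaf 314606428183) (.leaf 723702279562)) (.node (.leaf 153008246417) (.leaf 1809255255046)))) (.node (.node (.node (.node (.leaf 52613399827) (.leaf 1394790859911)) (.leaf 621159897474)) (.node (.leaf 525596748175) (.leaf 1644435847936))) (.node (.node (.leaf 209379770630) (.leaf 1304059630469)) (.node (.leaf 150323864323) (.leaf 816043911562))))) (.node (.node (.node (.node (.node (.leaf 37044107414) (.leaf 738734551065)) (.leaf 975494573706)) (.node (.leaf 506806261775) (.leaf 1536524776582))) (.node (.node (.leaf 394063329558) (.leaf 449897974170)) (.node (.leaf 762893652106) (.leaf 1643362063386)))) (.node (.node (.node (.node (.leaf 118648499986) (.leaf 1508607622425)) (.leaf 1133871636497)) (.node (.leaf 668941315863) (.leaf 1104343874692))) (.node (.node (.leaf 242128918402) (.leaf 1376000344582)) (.node (.leaf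 826244431619) (.leaf 275951715082))))))
def dF_202 : BT := .node dF_200 dF_201
def dF_203 : BT := .node dF_199 dF_202
def dF_204 : BT := .node dF_196 dF_203
def dF_205 : BT := .node (.node (.node (.node (.node (.node (.node (.leaf 2684355200) (.leaf 1314260179866)) (.leaf 413927671961)) (.node (.leaf 585726299023) (.leaf 1210107365124))) (.node (.node (.node (.leaf 255550595603) (.leaf 898722178306)) (.leaf 1138703475861)) (.node (.leaf 677531162503) (.leaf 1722282218116)))) (.node (.node (.node (.node (.leaf 60666450954) (.leaf 658204008986)) (.leaf 538481759370)) (.node (.leaf 574988883863) (.leaf 1549409680387))) (.node (.node (.leaf 401579484936) (.leaf 451508484377)) (.node (.leaf 769336103682) (.leaf 1261646890250))))) (.node (.node (.node (.node (.node (.leaf 106300445206) (.leaf 520227995010)) (.leaf 906238315537)) (.node (.leaf 310311461135) (.leaf 1461899706880))) (.node (.node (.leaf 133144063233) (.leaf 1225139713153)) (.node (.leaf 291521060890) (.leaf 1816234656002)))) (.node (.node (.node (.node (.leaf 191126090394) (.leaf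 1322850198403)) (.leaf 624381124484)) (.node (.leaf 264677503760) (.leaf 1653562657024))) (.node (.node (.leaf 491237000343) (.leaf 782221231370)) (.node (.leaf 225485911962) (.leaf 276488925722)))))) (.node (.node (.node (.node (.node (.node (.leaf 8053077523) (.leaf 208305984522)) (.leaf 868657340930)) (.node (.leaf 150323891354) (.leaf 1420023779457))) (.node (.node (.leaf 282931036815) (.leaf 1183263654664)) (.node (.leaf 335544491266) (.leaf 1771674289544)))) (.node (.node (.node (.node (.leaf 188978573316) (.leaf 972810229632)) (.leaf 1027571119875)) (.node (.leaf 225485836819) (.leaf 993748440345))) (.node (.node (.leaf 197568601232) (.leaf 352724368282)) (.node (.leaf 383862893336) (.leaf 845572015258))))) (.node (.node (.node (.node (.node (.leaf 36507258376) (.leaf 118111628825)) (.leaf 941671702404)) (.node (.leaf 370977888659) (.leaf 1501628298375))) (.node (.node (.leaf 363461658752) (.leaf 1145682828422)) (.node (.leaf 738734551057) (.leaf 1194538136967)))) (.node (.node (.node (.node (.leaf 249108161167) (.leaf 1228897691908))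 (.leaf 1104343729293)) (.node (.leaf 642097677577) (.leaf 1098438285447))) (.node (.node (.leaf 540629062537) (.leaf 1345935677184)) (.node (.leaf 793495397140) (.leaf 912680732058))))))
def dF_206 : BT := .node (.node (.node (.node (.node (.node (.node (.leaf 6442458120) (.leaf 568546367002)) (.leaf 849329885440)) (.node (.leaf 601832389122) (.leaf 1401233414423))) (.node (.node (.node (.leaf 179851818498) (.leaf 1816771599383)) (.leaf 673773271680)) (.node (.leaf 311922166662) (.leaf 1276679445124)))) (.node (.node (.node (.node (.leaf 118648499990) (.leaf 994821933960)) (.leaf 563177825816)) (.node (.leaf 184683637775) (.leaf 1577863986583))) (.node (.node (.leaf 421980582023) (.leaf 441308037899)) (.node (.leaf 787052846976) (.leaf 827855119002))))) (.node (.node (.node (.node (.node (.leaf 126701543687) (.leaf 920196930458)) (.leaf 496605813380)) (.node (.leaf 528817974554) (.leaf 1482300804482))) (.node (.node (.leaf 343597419525) (.leaf 1243393328659)) (.node (.leaf 338765626256) (.leaf 518080593286)))) (.node (.node (.node (.node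 (.leaf 233001990152) (.leaf 1394790899738)) (.leaf 1079110698251)) (.node (.leaf 624917889664) (.leaf 519154225280))) (.node (.node (.leaf 512711773841) (.leaf 1335735032838)) (.node (.leaf 627602202246) (.leaf 625454809606)))))) (.node (.node (.node (.node (.node (.node (.leaf 84825612822) (.leaf 752156352132)) (.leaf 456877357720)) (.node (.leaf 16643000218) (.leaf 1441498645400))) (.node (.node (.leaf 301721523219) (.leaf 1206349226899)) (.node (.leaf 8053077146) (.leaf 1192390723464)))) (.node (.node (.node (.node (.leaf 200252861192) (.leaf 649614214170)) (.leaf 1045824682505)) (.node (.leaf 449897931543) (.leaf 1626182233346))) (.node (.node (.leaf 468688412557) (.leaf 1287416754946)) (.node (.leaf 266824920218) (.leaf 197568604954))))) (.node (.node (.node (.node (.node (.leaf 66572009114) (.leaf 285615575066)) (.leaf 961536032000)) (.node (.leaf 414464442893) (.leaf 939524459012))) (.node (.node (.leaf 381178437139) (.leaf 765041356424)) (.node (.leaf 753766940175) (.leaf 1314260371736)))) (.node (.node (.node (.node (.leaf 93415588228)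 (.leaf 1738925068186)) (.leaf 1125281699857)) (.node (.leaf 657667024015) (.leaf 1089311485080))) (.node (.node (.leaf 558882751629) (.leaf 1369021152015)) (.node (.leaf 814433367297) (.leaf 426812577033))))))
def dF_207 : BT := .node dF_205 dF_206
def dF_208 : BT := .node (.node (.node (.node (.node (.node (.node (.leaf 1073745926) (.leaf 1177358020378)) (.leaf 841276919696)) (.node (.leaf 593242451853) (.leaf 1389959122581))) (.node (.node (.node (.leaf 259308700179) (.leaf 1253056942209)) (.leaf 1147830283535)) (.node (.leaf 309774680464) (.leaf 1734093419776)))) (.node (.node (.node (.node (.leaf 54223975190) (.leaf 839129435545)) (.leaf 555661630744)) (.node (.leaf 288836578705) (.leaf 965831143064))) (.node (.node (.leaf 412853828493) (.leaf 821949538969)) (.node (.leaf 363461792665) (.leaf 264677570202))))) (.node (.node (.node (.node (.node (.leaf 68719478930) (.leaf 630286521350)) (.leaf 486405264280)) (.node (.leaf 395137085594) (.leaf 1470489735688))) (.node (.node (.leaf 179314964377) (.leaf 738734669316)) (.node (.leaf 520228037776)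 (.leaf 1003948857223)))) (.node (.node (.node (.node (.leaf 54224016016) (.leaf 790274252037)) (.leaf 625991739033)) (.node (.leaf 272193698832) (.leaf 1664836948098))) (.node (.node (.leaf 215285355396) (.leaf 1320702737689)) (.node (.leaf 448824145539) (.leaf 603443015430)))))) (.node (.node (.node (.node (.node (.node (.leaf 71940707723) (.leaf 1103269918746)) (.leaf 876173536896)) (.node (.leaf 110058563223) (.leaf 1432908805777))) (.node (.node (.leaf 117574798992) (.leaf 1195611686666)) (.node (.leaf 158377008922) (.leaf 1149441047064)))) (.node (.node (.node (.node (.leaf 193273564186) (.leaf 1400159539098)) (.leaf 606127506948)) (.node (.leaf 389231504015) (.leaf 1612760604181))) (.node (.node (.leaf 455266581763) (.leaf 876710488710)) (.node (.leaf 168346) (.leaf 1581085086338))))) (.node (.node (.node (.node (.node (.leaf 37581003412) (.leaf 1235340218522)) (.leaf 519154398745)) (.node (.leaf 389768375053) (.leaf 927176425625))) (.node (.node (.leaf 371514759575) (.leaf 1278826693510)) (.node (.leaf 745713874573) (.leaf 1186484899584))))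 (.node (.node (.node (.node (.leaf 110058563468) (.leaf 1606854795546)) (.leaf 1115081150097)) (.node (.leaf 648003345294) (.leaf 1686311879576))) (.node (.node (.leaf 549219070351) (.leaf 812822885002)) (.node (.leaf 748398166025) (.leaf 991063836058))))))
def dF_209 : BT := .node (.node (.node (.node (.node (.node (.node (.leaf 7516203526) (.leaf 773094397338)) (.leaf 858993664013)) (.node (.leaf 113279789338) (.leaf 846108893958))) (.node (.node (.leaf 272730483466) (.leaf 1170915738113)) (.node (.leaf 710817166474) (.leaf 1758252541312)))) (.node (.node (.node (.node (.leaf 179314895110) (.leaf 1432371769498)) (.leaf 568546537346)) (.node (.leaf 209916576663) (.leaf 1592896301574))) (.node (.node (.leaf 433254928143) (.leaf 877784150406)) (.node (.leaf 375272956682) (.leaf 242128916615))))) (.node (.node (.node (.node (.node (.leaf 31138546180) (.leaf 394600214425)) (.leaf 929323670273)) (.node (.leaf 571767661722) (.leaf 1493038224134))) (.node (.node (.leaf 353261144215) (.leaf 749472092184)) (.node (.leaf 339839460609) (.leaf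 1315333968666)))) (.node (.node (.node (.node (.leaf 238907572487) (.leaf 1269699923208)) (.leaf 1092532457730)) (.node (.leaf 277025541136) (.leaf 1411970730754))) (.node (.node (.leaf 525596676482) (.leaf 1338419375624)) (.node (.leaf 712964741140) (.leaf 710817292186)))))) (.node (.node (.node (.node (.node (.node (.leaf 94489284740) (.leaf 1505386258586)) (.leaf 775241810968)) (.node (.leaf 38117843738) (.leaf 1449551672069))) (.node (.node (.leaf 127775351432) (.leaf 721554795136)) (.node (.leaf 219043384337) (.leaf 1180042695040)))) (.node (.node (.node (.node (.leaf 209379668232) (.leaf 1198296161305)) (.leaf 908922705792)) (.node (.leaf 519154295693) (.leaf 1018444511000))) (.node (.node (.leaf 214211607938) (.leaf 1301375275014)) (.node (.leaf 331786394010) (.leaf 1066225920666))))) (.node (.node (.node (.node (.node (.leaf 119722220303) (.leaf 561567031305)) (.leaf 972810229768)) (.node (.leaf 230854545818) (.leaf 1533303550723))) (.node (.node (.leaf 392452681728) (.leaf 1057635840282)) (.node (.leaf 761819910276) (.leaf 1785096061062))))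 (.node (.node (.node (.node (.leaf 179314919186) (.leaf 1403380898570)) (.leaf 657667137030)) (.node (.leaf 296889773192) (.leaf 1710470988546))) (.node (.node (.leaf 570693914369) (.leaf 827855273728)) (.node (.leaf 823023304335) (.leaf 390305346202))))))
def dF_210 : BT := .node dF_208 dF_209
def dF_211 : BT := .node dF_207 dF_210
def dF_212 : BT := .node (.node (.node (.node (.node (.node (.node (.leaf 8589936271) (.leaf 733365865242)) (.leaf 647466519686)) (.node (.leaf 251255727624) (.leaf 834297727745))) (.node (.node (.node (.leaf 257698081806) (.leaf 1369021152025)) (.leaf 678605105280)) (.node (.leaf 683436833939) (.leaf 1115081296386)))) (.node (.node (.node (.node (.leaf 78383159951) (.leaf 839666319238)) (.leaf 988379481478)) (.node (.leaf 363461695386) (.leaf 1555315261824))) (.node (.node (.leaf 179851852441) (.leaf 887447908231)) (.node (.leaf 362924920842) (.leaf 939524230298))))) (.node (.node (.node (.node (.node (.leaf 113279781131) (.leaf 209916612737)) (.leaf 909996312192)) (.node (.leaf 268435482378) (.leaf 1467268509592)))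 (.node (.node (.leaf 139049644928) (.leaf 1229434562818)) (.node (.leaf 296889685137) (.leaf 776852373786)))) (.node (.node (.node (.node (.leaf 219580225547) (.leaf 293131879834)) (.leaf 1067836393605)) (.node (.leaf 268435601152) (.leaf 1041529964548))) (.node (.node (.leaf 214748483200) (.leaf 786516199816)) (.node (.leaf 306016582298) (.leaf 452045517594)))))) (.node (.node (.node (.node (.node (.node (.leaf 9126820998) (.leaf 6979323531)) (.leaf 866509859968)) (.node (.leaf 127238436503) (.leaf 1427003088520))) (.node (.node (.leaf 286152264215) (.leaf 1187558622210)) (.node (.leaf 712964743040) (.leaf 1774358637446)))) (.node (.node (.node (.node (.leaf 45097202713) (.leaf 740882124293)) (.leaf 1033476649226)) (.node (.leaf 355945450890) (.leaf 995359054212))) (.node (.node (.leaf 198105473560) (.leaf 899795851288)) (.node (.leaf 389768474392) (.leaf 1099511832346))))) (.node (.node (.node (.node (.node (.leaf 158913827724) (.leaf 979789792922)) (.leaf 515933171970)) (.node (.leaf 392452705281) (.leaf 1506997008898))) (.node (.node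 (.leaf 368293532173) (.leaf 758598902144)) (.node (.leaf 350576882694) (.leaf 1331977015051)))) (.node (.node (.node (.node (.leaf 78383213320) (.leaf 1127965967107)) (.leaf 1108638635648)) (.node (.leaf 284541736980) (.leaf 1680406355204))) (.node (.node (.leaf 544924099735) (.leaf 811212270856)) (.node (.leaf 395137085460) (.leaf 236760205082))))))
def dF_213 : BT := .node (.node (.node (.node (.node (.node (.node (.leaf 6979330826) (.leaf 127238605850)) (.leaf 428423191688)) (.node (.leaf 221727739674) (.leaf 1406065253775))) (.node (.node (.node (.leaf 268972386827) (.leaf 1817845341461)) (.leaf 676457627288)) (.node (.leaf 705448455049) (.leaf 1130650558344)))) (.node (.node (.node (.node (.leaf 93952445829) (.leaf 1125281846298)) (.leaf 566935923480)) (.node (.leaf 456877258394) (.leaf 1585916907652))) (.node (.node (.leaf 427886161156) (.leaf 266824907264)) (.node (.leaf 789737287563) (.leaf 686121390106))))) (.node (.node (.node (.node (.node (.leaf 30601673860) (.leaf 240518286986)) (.leaf 497142684938)) (.node (.leaf 236760128659)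 (.leaf 1488743269507))) (.node (.node (.leaf 348429257745) (.leaf 749472091392)) (.node (.leaf 336081363224) (.leaf 985158489242)))) (.node (.node (.node (.node (.leaf 234612626198) (.leaf 358629947913)) (.leaf 632971064216)) (.node (.leaf 628139074699) (.leaf 1419486922778))) (.node (.node (.leaf 222801552153) (.leaf 850403727364)) (.node (.leaf 657130152980) (.leaf 1171452642714)))))) (.node (.node (.node (.node (.node (.node (.leaf 16106148747) (.leaf 691489899545)) (.leaf 892816539541)) (.node (.leaf 65498266903) (.leaf 1445793574148))) (.node (.node (.leaf 127238479114) (.leaf 716186084872)) (.node (.leaf 110595434257) (.leaf 1799054786560)))) (.node (.node (.node (.node (.leaf 204547864855) (.leaf 1205275401498)) (.leaf 1050656522112)) (.node (.leaf 487478904333) (.leaf 1013612671242))) (.node (.node (.leaf 472983372303) (.leaf 1296543441416)) (.node (.leaf 21) (.leaf 144955358362))))) (.node (.node (.node (.node (.node (.leaf 6979323926) (.leaf 561567107865)) (.leaf 966904637962)) (.node (.leaf 52613361943) (.leaf 941671943818)))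 (.node (.node (.leaf 164282591513) (.leaf 1286879812359)) (.node (.leaf 758061908497) (.leaf 1807107913355)))) (.node (.node (.node (.node (.leaf 228707061651) (.leaf 1482837777818)) (.leaf 1127966055053)) (.node (.leaf 661425034624) (.leaf 1704565407874))) (.node (.node (.leaf 240518303248) (.leaf 828928839946)) (.node (.leaf 403727120904) (.leaf 428423089945))))))
def dF_214 : BT := .node dF_212 dF_213
def dF_215 : BT := .node (.node (.node (.node (.node (.node (.node (.leaf 1610618517) (.leaf 918049441946)) (.leaf 845034917126)) (.node (.leaf 597000537992) (.leaf 1395327700362))) (.node (.node (.node (.leaf 261993057164) (.leaf 1243393373825)) (.leaf 670552044298)) (.node (.leaf 692563550850) (.leaf 1741609507074)))) (.node (.node (.node (.node (.leaf 70866985612) (.leaf 1115081209754)) (.leaf 997506288514)) (.node (.leaf 408558861453) (.leaf 1569273907332))) (.node (.node (.leaf 184146822425) (.leaf 1032939886617)) (.node (.leaf 373662341384) (.leaf 1024886804122))))) (.node (.node (.node (.node (.node (.leaf 119722220311) (.leaf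 1245003779226)) (.leaf 917512505092)) (.node (.leaf 448824189594) (.leaf 1476395223818))) (.node (.node (.leaf 338765587843) (.leaf 1238024499336)) (.node (.leaf 462245965456) (.leaf 996969641882)))) (.node (.node (.node (.node (.leaf 54760887940) (.leaf 1040455984264)) (.leaf 629212965528)) (.node (.leaf 275951796868) (.leaf 1615444964228))) (.node (.node (.leaf 507879934982) (.leaf 1328218952979)) (.node (.leaf 241055096981) (.leaf 1035087462170)))))) (.node (.node (.node (.node (.node (.node (.leaf 78920030988) (.leaf 648540327322)) (.leaf 881005275017)) (.node (.leaf 403190196506) (.leaf 1438277385217))) (.node (.node (.leaf 294742159881) (.leaf 1202054258575)) (.node (.leaf 352187433242) (.leaf 1158030983320)))) (.node (.node (.node (.node (.leaf 86973130137) (.leaf 1322850121992)) (.leaf 1040992844672)) (.node (.leaf 419296282255) (.leaf 1620813523208))) (.node (.node (.leaf 463319707405) (.leaf 768799453064)) (.node (.leaf 69793220762) (.leaf 622233695130))))) (.node (.node (.node (.node (.node (.leaf 38654746776) (.leaf 576062731930))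 (.leaf 956704089350)) (.node (.leaf 145492051859) (.leaf 932545136136))) (.node (.node (.leaf 377957160715) (.leaf 1282048043543)) (.node (.leaf 749471971853) (.leaf 1680943220227)))) (.node (.node (.node (.node (.leaf 86973098131) (.leaf 225485920538)) (.leaf 1120449749634)) (.node (.leaf 289373577476) (.leaf 1691680501640))) (.node (.node (.leaf 552977096453) (.leaf 1363652441216)) (.node (.leaf 390305345796) (.leaf 1180042428698))))))
def dF_216 : BT := .node (.node (.node (.node (.node (.node (.node (.leaf 7516204949) (.leaf 370978102810)) (.leaf 456340481024)) (.node (.leaf 406411377178) (.leaf 1416265796121))) (.node (.node (.leaf 112742957830) (.leaf 690416273411)) (.node (.leaf 714038395520) (.leaf 1764158088201)))) (.node (.node (.node (.node (.leaf 183073023361) (.leaf 1726577007386)) (.leaf 1018444362903)) (.node (.leaf 223338352655) (.leaf 1211181158424))) (.node (.node (.leaf 437012984075) (.leaf 795106112266)) (.node (.leaf 797253394439) (.leaf 850403734279))))) (.node (.node (.node (.node (.node (.leaf 145492027523) (.leaf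 643708376985)) (.leaf 506806363928)) (.node (.leaf 344671207695) (.leaf 1498943929985))) (.node (.node (.leaf 213674708376) (.leaf 752156448136)) (.node (.leaf 731218356495) (.leaf 1233729630082)))) (.node (.node (.node (.node (.leaf 245886894474) (.leaf 1612760518279)) (.leaf 640487260034)) (.node (.leaf 278099284228) (.leaf 1672353246976))) (.node (.node (.leaf 224412168212) (.leaf 1342714413702)) (.node (.leaf 486405162260) (.leaf 158377009178)))))) (.node (.node (.node (.node (.node (.node (.leaf 99857993990) (.leaf 223338373643)) (.leaf 903016987658)) (.node (.leaf 285078522253) (.leaf 1455994126232))) (.node (.node (.leaf 316217041427) (.leaf 724239151114)) (.node (.leaf 200252897937) (.leaf 1190243243904)))) (.node (.node (.node (.node (.leaf 213674659223) (.leaf 905164594312)) (.leaf 1059246561933)) (.node (.leaf 530965458575) (.leaf 1647120350741))) (.node (.node (.leaf 209379771288) (.leaf 1176821350534)) (.node (.leaf 117037886741) (.leaf 966368015625))))) (.node (.node (.node (.node (.node (.leaf 7516196623) (.leaf 841813987610))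 (.leaf 534186790920)) (.node (.leaf 555661526419) (.leaf 951872494360))) (.node (.node (.leaf 175020012185) (.leaf 629749788570)) (.node (.leaf 765041232015) (.leaf 973884075656)))) (.node (.node (.node (.node (.leaf 117574790148) (.leaf 793495524506)) (.leaf 658204008842)) (.node (.leaf 671625671055) (.leaf 1715839788043))) (.node (.node (.leaf 578746901637) (.leaf 1378147877770)) (.node (.leaf 828391914634) (.leaf 352724369178))))))
def dF_217 : BT := .node dF_215 dF_216
def dF_218 : BT := .node dF_214 dF_217
def dF_219 : BT := .node dF_211 dF_218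
def dF_220 : BT := .node dF_204 dF_219
def dF_221 : BT := .node (.node (.node (.node (.node (.node (.node (.leaf 1610613126) (.leaf 783294818458)) (.leaf 413927671684)) (.node (.leaf 584652481801) (.leaf 1381369184024))) (.node (.node (.node (.leaf 255013713558) (.leaf 1767916184730)) (.leaf 658740880408)) (.node (.leaf 675383768343) (.leaf 1108101972610)))) (.node (.node (.node (.node (.leaf 140123315477) (.leaf 613643598745)) (.leaf 981937025666)) (.node (.leaf 568546353290) (.leaf 956167463297))) (.node (.node (.leaf 401042650242) (.leaf 452045563802)) (.node (.leaf 768799329293) (.leaf 1459215439492))))) (.node (.node (.node (.node (.node (.leaf 17716765208) (.leaf 675383863686)) (.leaf 905701444496)) (.node (.leaf 309237719055) (.leaf 892816674820))) (.node (.node (.leaf 321585708928) (.leaf 727460377476)) (.node (.leaf 277025541146) (.leaf 1183800793734)))) (.node (.node (.node (.node (.leaf 56371459354) (.leaf 928786946306)) (.leaf 1062467683202)) (.node (.leaf 603443048979) (.leaf 1630477353607))) (.node (.node (.leaf 490163193355)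 (.leaf 782221231110)) (.node (.leaf 53150232981) (.leaf 851477617562)))))) (.node (.node (.node (.node (.node (.node (.leaf 55834577285) (.leaf 893890251785)) (.leaf 867046628106)) (.node (.leaf 580894465434) (.leaf 1418950158740))) (.node (.node (.leaf 281857294743) (.leaf 690416274692)) (.node (.leaf 717259645190) (.leaf 1770600539531)))) (.node (.node (.node (.node (.leaf 187367959941) (.leaf 574988902663)) (.leaf 1026497428482)) (.node (.leaf 224948965773) (.leaf 992674698264))) (.node (.node (.leaf 440771066368) (.leaf 1245540812698)) (.node (.leaf 800474697748) (.leaf 462246027905))))) (.node (.node (.node (.node (.node (.leaf 150323865475) (.leaf 331249500058)) (.leaf 515396299652)) (.node (.leaf 358629854739) (.leaf 1501628161029))) (.node (.node (.leaf 361851046022) (.leaf 753767062278)) (.node (.leaf 737660715783) (.leaf 1185411209498)))) (.node (.node (.node (.node (.leaf 66035181446) (.leaf 1230508423704)) (.leaf 1102733116183)) (.node (.leaf 278636156042) (.leaf 1673963902741))) (.node (.node (.leaf 225485911430) (.leaf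 807991043329)) (.node (.leaf 406948248842) (.leaf 912680698498))))))
def dF_222 : BT := .node (.node (.node (.node (.node (.node (.node (.leaf 28991030788) (.leaf 892816531072)) (.leaf 426812577288)) (.node (.leaf 264140631952) (.leaf 841277053060))) (.node (.node (.node (.leaf 263603674519) (.leaf 1816771599368)) (.leaf 673236400388)) (.node (.leaf 697395480975) (.leaf 1745367604227)))) (.node (.node (.node (.node (.leaf 168040634391) (.leaf 488552717195)) (.leaf 562640954520)) (.node (.leaf 184146766733) (.leaf 975494823169))) (.node (.node (.leaf 184683693969) (.leaf 1033476650117)) (.node (.leaf 375272954752) (.leaf 857919979034))))) (.node (.node (.node (.node (.node (.leaf 29527929996) (.leaf 506806305793)) (.leaf 920733796615)) (.node (.leaf 218506499333) (.leaf 906238452612))) (.node (.node (.leaf 341986852371) (.leaf 1242319467397)) (.node (.leaf 659277637136) (.leaf 1603096910746)))) (.node (.node (.node (.node (.leaf 232465119234) (.leaf 1251983270682)) (.leaf 692563733656)) (.node (.leaf 624380936578) (.leaf 1119913093530)))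 (.node (.node (.leaf 511638099859) (.leaf 798327364376)) (.node (.leaf 311385203221) (.leaf 1460289180570)))))) (.node (.node (.node (.node (.node (.node (.leaf 15032405400) (.leaf 624917905286)) (.leaf 456340486280)) (.node (.leaf 45634038423) (.leaf 866509995530))) (.node (.node (.leaf 118648543256) (.leaf 1205275367554)) (.node (.leaf 389768382874) (.leaf 1793149123846)))) (.node (.node (.node (.node (.leaf 198105413633) (.leaf 1401233433344)) (.leaf 821412744331)) (.node (.leaf 441307994895) (.leaf 1610613123331))) (.node (.node (.leaf 203474187156) (.leaf 768262582790)) (.node (.leaf 37580967168) (.leaf 1424855655303))))) (.node (.node (.node (.node (.node (.leaf 63887679642) (.leaf 1203127898114)) (.leaf 523986239128)) (.node (.leaf 430570574103) (.leaf 1520955522946))) (.node (.node (.leaf 380641566093) (.leaf 1086090161536)) (.node (.leaf 753230069133) (.leaf 1560147283457)))) (.node (.node (.node (.node (.leaf 7516196626) (.leaf 992674532099)) (.leaf 654445909770)) (.node (.leaf 657130116358) (.leaf 1694901728898))) (.node (.node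 (.leaf 237297076224) (.leaf 1367947278598)) (.node (.leaf 395137185030) (.leaf 1035087425818))))))
def dF_223 : BT := .node dF_221 dF_222
def dF_224 : BT := .node (.node (.node (.node (.node (.node (.node (.leaf 1073745666) (.leaf 519691078938)) (.leaf 840740048659)) (.node (.leaf 592168708759) (.leaf 1107028151814))) (.node (.node (.node (.leaf 102542405890) (.leaf 1010391297289)) (.leaf 665720204290)) (.node (.leaf 687731712136) (.leaf 1732482699914)))) (.node (.node (.node (.node (.leaf 9126809740) (.leaf 505732451336)) (.leaf 555661630602)) (.node (.leaf 285615393295) (.leaf 1560147100426))) (.node (.node (.leaf 411780033291) (.leaf 828928885889)) (.node (.leaf 363461792394) (.leaf 408559052570))))) (.node (.node (.node (.node (.node (.leaf 96099916314) (.leaf 413927530650)) (.leaf 486405264008)) (.node (.leaf 278636069775) (.leaf 1471563384836))) (.node (.node (.leaf 204011025927) (.leaf 1232655903366)) (.node (.leaf 603443048977) (.leaf 1808718285850)))) (.node (.node (.node (.node (.leaf 54224015490) (.leaf 1740535685786)) (.leaf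 625991738626)) (.node (.leaf 613106727699) (.leaf 1663226481793))) (.node (.node (.leaf 500900679311) (.leaf 1319628890373)) (.node (.leaf 374199114901) (.leaf 850403634818)))))) (.node (.node (.node (.node (.node (.node (.leaf 9126822296) (.leaf 1569273801114)) (.leaf 874562822920)) (.node (.leaf 411243216794) (.leaf 1431834927234))) (.node (.node (.leaf 229243948423) (.leaf 693100631808)) (.node (.leaf 64961395857) (.leaf 1778653755393)))) (.node (.node (.node (.node (.leaf 24696063258) (.leaf 390305341446)) (.leaf 603443152010)) (.node (.leaf 363461694099) (.leaf 1612223586818))) (.node (.node (.leaf 453655968515) (.leaf 921270731649)) (.node (.leaf 50466033690) (.leaf 525596778633))))) (.node (.node (.node (.node (.node (.leaf 37581002882) (.leaf 1120986662810)) (.leaf 950261638024)) (.node (.leaf 118648478474) (.leaf 1511291896453))) (.node (.node (.leaf 370977875335) (.leaf 1277216080648)) (.node (.leaf 350576883224) (.leaf 1698123051531)))) (.node (.node (.node (.node (.leaf 111132305159) (.leaf 941671795594)) (.leaf 648540327320))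 (.node (.leaf 647466474253) (.leaf 1684701178370))) (.node (.node (.leaf 548145327639) (.leaf 1358283601154)) (.node (.leaf 766651778458) (.leaf 311385302682))))))
def dF_225 : BT := .node (.node (.node (.node (.node (.node (.node (.leaf 6979332121) (.leaf 691489957146)) (.leaf 436476256128)) (.node (.leaf 266824870916) (.leaf 846108893569))) (.node (.node (.leaf 271656744470) (.leaf 682363208192)) (.node (.leaf 710280295684) (.leaf 1756641894408)))) (.node (.node (.node (.node (.leaf 178778024196) (.leaf 625454812683)) (.leaf 1011464933638)) (.node (.leaf 486405163546) (.leaf 983011019417))) (.node (.node (.leaf 432181185939) (.leaf 1063541485187)) (.node (.leaf 792958426504) (.leaf 1120449860378))))) (.node (.node (.node (.node (.node (.leaf 138512728193) (.leaf 423054479770)) (.leaf 927713056516)) (.node (.leaf 241055112455) (.leaf 912680906248))) (.node (.node (.leaf 152471422978) (.leaf 1253057007373)) (.node (.leaf 336618234772) (.leaf 629212934426)))) (.node (.node (.node (.node (.leaf 64961437072) (.leaf 1487132728986)) (.leaf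 634044806936)) (.node (.leaf 630286600983) (.leaf 1454920400409))) (.node (.node (.leaf 523449193600) (.leaf 1337882631696)) (.node (.leaf 630823472020) (.leaf 691490163610)))))) (.node (.node (.node (.node (.node (.node (.leaf 93415551244) (.leaf 370977949187)) (.leaf 897111404811)) (.node (.leaf 370977888794) (.leaf 876710544648))) (.node (.node (.leaf 127775350913) (.leaf 1212791679375)) (.node (.leaf 209379739654) (.leaf 1803886544906)))) (.node (.node (.node (.node (.leaf 184146772371) (.leaf 1105417471367)) (.leaf 1055488419459)) (.node (.leaf 515396198415) (.leaf 1018444510466))) (.node (.node (.leaf 259308764185) (.leaf 1298690920330)) (.node (.leaf 152471375381) (.leaf 408558861465))))) (.node (.node (.node (.node (.node (.leaf 74088195974) (.leaf 243202581131)) (.leaf 529891821962)) (.node (.leaf 53150232973) (.leaf 945430041090))) (.node (.node (.leaf 390842117011) (.leaf 1092532523290)) (.node (.leaf 361314305282) (.leaf 1524176901766)))) (.node (.node (.node (.node (.leaf 203474122770) (.leaf 1272921235845)) (.leaf 1130650410252))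 (.node (.leaf 296889773060) (.leaf 1708323649153))) (.node (.node (.leaf 569083302287) (.leaf 1225139639179)) (.node (.leaf 821949562253) (.leaf 284541737114))))))
def dF_226 : BT := .node dF_224 dF_225
def dF_227 : BT := .node dF_223 dF_226
def dF_228 : BT := .node (.node (.node (.node (.node (.node (.node (.leaf 8589934726) (.leaf 736587215642)) (.leaf 838055648512)) (.node (.leaf 588947526807) (.leaf 833223985664))) (.node (.node (.node (.leaf 257161209751) (.leaf 1673963799680)) (.leaf 661962106760)) (.node (.leaf 682363091855) (.leaf 1117228779650)))) (.node (.node (.node (.node (.leaf 103079230746) (.leaf 979789648025)) (.leaf 554587887489)) (.node (.leaf 151934504333) (.leaf 959925561224))) (.node (.node (.leaf 404800714241) (.leaf 879394690570)) (.node (.leaf 772557328904) (.leaf 1345398707204))))) (.node (.node (.node (.node (.node (.leaf 28454184974) (.leaf 712964741145)) (.leaf 908922569858)) (.node (.leaf 332323173914) (.leaf 1465657803394))) (.node (.node (.leaf 328028159893) (.leaf 1228897810574)) (.node (.leaf 276488585617)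 (.leaf 1683627581443)))) (.node (.node (.node (.node (.leaf 93952461465) (.leaf 482647166089)) (.leaf 1066762756501)) (.node (.leaf 607201144704) (.leaf 1656783945866))) (.node (.node (.leaf 494995043083) (.leaf 990527145988)) (.node (.leaf 117574757781) (.leaf 1689532949018)))))) (.node (.node (.node (.node (.node (.node (.leaf 62277035023) (.leaf 175019959065)) (.leaf 446139935620)) (.node (.leaf 118111628823) (.leaf 857383186177))) (.node (.node (.leaf 118111668610) (.leaf 1185948126720)) (.node (.leaf 721017728904) (.leaf 1708323561606)))) (.node (.node (.node (.node (.leaf 45097202450) (.leaf 1133871636505)) (.leaf 1032402907396)) (.node (.leaf 352724225290) (.leaf 994822182920))) (.node (.node (.leaf 198105473163) (.leaf 853088077831)) (.node (.leaf 805306460938) (.leaf 1069447053831))))) (.node (.node (.node (.node (.node (.leaf 36507259545) (.leaf 525596769690)) (.leaf 943819186182)) (.node (.leaf 375809728013) (.leaf 925565811330))) (.node (.node (.leaf 367219790103) (.leaf 1270773629696)) (.node (.leaf 740882035219) (.leaf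 1568200362392)))) (.node (.node (.node (.node (.leaf 251792476420) (.leaf 1343788097799)) (.leaf 647466583940)) (.node (.leaf 394600224273) (.leaf 1067299773441))) (.node (.node (.leaf 229244009220) (.leaf 1351304278410)) (.node (.leaf 462245965460) (.leaf 276488585625))))))
def dF_229 : BT := .node (.node (.node (.node (.node (.node (.node (.leaf 6979330564) (.leaf 236760128665)) (.leaf 427349449369)) (.node (.leaf 272730488474) (.leaf 842887666690))) (.node (.node (.node (.leaf 111132342552) (.leaf 1817845234436)) (.leaf 675383885208)) (.node (.leaf 703837909377) (.leaf 1130113687046)))) (.node (.node (.node (.node (.leaf 139049597975) (.leaf 905701461126)) (.leaf 566935923208)) (.node (.leaf 450971678106) (.leaf 1583232696833))) (.node (.node (.leaf 425738679556) (.leaf 115964262170)) (.node (.leaf 788663557633) (.leaf 1526861098266))))) (.node (.node (.node (.node (.node (.leaf 30601673472) (.leaf 214748414854)) (.leaf 923418185609)) (.node (.leaf 236223238929) (.leaf 907312195848))) (.node (.node (.leaf 347355518723) (.leaf 1248762038150))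 (.node (.leaf 721554585866) (.leaf 797253463322)))) (.node (.node (.node (.node (.leaf 234612603014) (.leaf 658203954311)) (.leaf 1084479393282)) (.node (.leaf 276488669336) (.leaf 1540819734682))) (.node (.node (.leaf 516469940375) (.leaf 411243216643)) (.node (.leaf 675383768340) (.leaf 264677406850)))))) (.node (.node (.node (.node (.node (.node (.leaf 88583711254) (.leaf 375272953991)) (.leaf 462246067972)) (.node (.leaf 247497548058) (.leaf 872952447489))) (.node (.node (.leaf 254476884889) (.leaf 886374071812)) (.node (.leaf 36507230737) (.leaf 1797981112576)))) (.node (.node (.node (.node (.leaf 204010993807) (.leaf 713501781018)) (.leaf 613643702680)) (.node (.leaf 479962679176) (.leaf 1631014071940))) (.node (.node (.leaf 472446452102) (.leaf 1296006565387)) (.node (.leaf 52613399962) (.leaf 336081436314))))) (.node (.node (.node (.node (.node (.leaf 6979322118) (.leaf 184146753162)) (.leaf 965830896010)) (.node (.leaf 476741469313) (.leaf 1526324366737))) (.node (.node (.leaf 163745720216) (.leaf 918586262682)) (.node (.leaf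 355945595156) (.leaf 1296006657923)))) (.node (.node (.node (.node (.leaf 229780803730) (.leaf 1760400139397)) (.leaf 1127429184017)) (.node (.leaf 293131675416) (.leaf 1675574522240))) (.node (.node (.leaf 240518302856) (.leaf 1372779133056)) (.node (.leaf 817117722895) (.leaf 389231642778))))))
def dF_230 : BT := .node dF_228 dF_229
def dF_231 : BT := .node (.node (.node (.node (.node (.node (.node (.leaf 22011708810) (.leaf 361314209945)) (.leaf 423054479768)) (.node (.leaf 259308792596) (.leaf 1393717087618))) (.node (.node (.node (.leaf 151934530321) (.leaf 1251983382784)) (.leaf 1152662122903)) (.node (.leaf 310311552134) (.leaf 1125818717318)))) (.node (.node (.node (.node (.leaf 44023435670) (.leaf 1048509141145)) (.leaf 995895676034)) (.node (.leaf 468151541402) (.leaf 969052369920))) (.node (.node (.leaf 416075001347) (.leaf 630823472001)) (.node (.leaf 373662341252) (.leaf 978179184154))))) (.node (.node (.node (.node (.node (.leaf 28991057546) (.leaf 563177670279)) (.leaf 915901958552)) (.node (.leaf 185220508823) (.leaf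 1474784611456))) (.node (.node (.leaf 145492097812) (.leaf 1237487747213)) (.node (.leaf 642634634889) (.leaf 774705007640)))) (.node (.node (.node (.node (.leaf 229243932687) (.leaf 792958605450)) (.leaf 1075352693135)) (.node (.leaf 619549097867) (.leaf 1634235453955))) (.node (.node (.leaf 219043452672) (.leaf 793495524352)) (.node (.leaf 222801481621) (.leaf 223875204997)))))) (.node (.node (.node (.node (.node (.node (.leaf 77309417867) (.leaf 536871065)) (.leaf 879931634573)) (.node (.leaf 112742918423) (.leaf 862751898248))) (.node (.node (.leaf 293668458767) (.leaf 1200443528706)) (.node (.leaf 236760128657) (.leaf 1784559274890)))) (.node (.node (.node (.node (.leaf 23622326425) (.leaf 426812551691)) (.leaf 1040456075533)) (.node (.leaf 413927571853) (.leaf 1003948991498))) (.node (.node (.leaf 461709032583) (.leaf 767188840196)) (.node (.leaf 44023458330) (.leaf 280246930842))))) (.node (.node (.node (.node (.node (.leaf 170724970635) (.leaf 53687104025)) (.leaf 955093580181)) (.node (.leaf 180388669463) (.leaf 1517197420416)))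 (.node (.node (.leaf 375809694976) (.leaf 761820129800)) (.node (.leaf 477815289986) (.leaf 1301912272005)))) (.node (.node (.node (.node (.leaf 6442454546) (.leaf 1614907946778)) (.leaf 653372166792)) (.node (.leaf 652298227089) (.leaf 1690069976832))) (.node (.node (.leaf 551366530952) (.leaf 1363115570575)) (.node (.leaf 390305345666) (.leaf 144955193354))))))
def dF_232 : BT := .node (.node (.node (.node (.node (.node (.node (.leaf 48318384643) (.leaf 1282047990403)) (.leaf 862214790530)) (.node (.leaf 272193617299) (.leaf 1415191927040))) (.node (.node (.leaf 112742957441) (.leaf 1175747460875)) (.node (.leaf 403190224904) (.leaf 1762547474955)))) (.node (.node (.node (.node (.leaf 181999265667) (.leaf 972810329729)) (.leaf 574988989441)) (.node (.leaf 222801552025) (.leaf 988916600580))) (.node (.node (.leaf 435402391830) (.leaf 1224602804377)) (.node (.leaf 555661583616) (.leaf 804769895706))))) (.node (.node (.node (.node (.node (.leaf 32212289040) (.leaf 807454044163)) (.leaf 934155507720)) (.node (.leaf 35970359703) (.leaf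 918049616386))) (.node (.node (.leaf 151934553236) (.leaf 752156447745)) (.node (.leaf 730144540677) (.leaf 916975645315)))) (.node (.node (.node (.node (.leaf 65498309523) (.leaf 1526324379403)) (.leaf 1096290554884)) (.node (.leaf 277562412944) (.leaf 1671279401986))) (.node (.node (.leaf 530428514566) (.leaf 806917300618)) (.node (.leaf 520764908820) (.leaf 788126670874)))))) (.node (.node (.node (.node (.node (.node (.leaf 98247391254) (.leaf 1202054236675)) (.leaf 901406374404)) (.node (.leaf 254476841114) (.leaf 1453846641542))) (.node (.node (.leaf 315680170253) (.leaf 1218697181316)) (.node (.leaf 199716026897) (.leaf 1188095760000)))) (.node (.node (.node (.node (.leaf 53150271236) (.leaf 855772449796)) (.leaf 761820076441)) (.node (.leaf 526670490253) (.leaf 1646046461320))) (.node (.node (.leaf 483183935887) (.leaf 1305133377288)) (.node (.leaf 173946216981) (.leaf 519154496154))))) (.node (.node (.node (.node (.node (.leaf 73014448922) (.leaf 414464470662)) (.leaf 976031445129)) (.node (.leaf 554050870279) (.leaf 950798752024)))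 (.node (.node (.leaf 395673956365) (.leaf 864899247130)) (.node (.leaf 361851176962) (.leaf 1012002036743)))) (.node (.node (.node (.node (.leaf 253403098508) (.leaf 753766847242)) (.leaf 1134945265156)) (.node (.leaf 670551840258) (.leaf 1714229230743))) (.node (.node (.leaf 242128918794) (.leaf 826781532810)) (.node (.leaf 826781401623) (.leaf 309774680730))))))
def dF_233 : BT := .node dF_231 dF_232
def dF_234 : BT := .node dF_230 dF_233
def dF_235 : BT := .node dF_227 dF_234
def dF_236 : BT := .node (.node (.node (.node (.node (.node (.node (.leaf 4294968320) (.leaf 785442504858)) (.leaf 835908209153)) (.node (.leaf 586800041103) (.leaf 831076501529))) (.node (.node (.node (.leaf 256087466764) (.leaf 1202054258584)) (.leaf 1139240346901)) (.node (.leaf 569620199559) (.leaf 1723892818304)))) (.node (.node (.node (.node (.leaf 536871180) (.leaf 838055693465)) (.leaf 985158358419)) (.node (.leaf 146028922895) (.leaf 957241205785))) (.node (.node (.leaf 402116356358) (.leaf 183073187994)) (.node (.leaf 769872974218) (.leaf 581968192538)))))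 (.node (.node (.node (.node (.node (.leaf 107911071756) (.leaf 214748416009)) (.leaf 906775186577)) (.node (.leaf 411243162250) (.leaf 1463510319242))) (.node (.node (.leaf 133144063640) (.leaf 1227287078536)) (.node (.leaf 284541651217) (.leaf 1811939584538)))) (.node (.node (.node (.node (.leaf 175556798608) (.leaf 1478006036103)) (.leaf 1065688909314)) (.node (.leaf 606127323526) (.leaf 1654636545295))) (.node (.node (.leaf 492847613455) (.leaf 782758102680)) (.node (.leaf 65498266901) (.leaf 629212875674)))))) (.node (.node (.node (.node (.node (.node (.leaf 60129550863) (.leaf 1035087365123)) (.leaf 869194150425)) (.node (.leaf 158913827738) (.leaf 1420560747544))) (.node (.node (.leaf 113279830152) (.leaf 1183800537218)) (.node (.leaf 718870232320) (.leaf 1146219819906)))) (.node (.node (.node (.node (.leaf 190052337678) (.leaf 752156557338)) (.leaf 1029181681282)) (.node (.leaf 340376239379) (.leaf 994285311640))) (.node (.node (.leaf 197568601625) (.leaf 1264868046490)) (.node (.leaf 803159075713) (.leaf 446139934234))))) (.node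 (.node (.node (.node (.node (.leaf 153545101067) (.leaf 1113470683546)) (.leaf 534186781952)) (.node (.leaf 373662243863) (.leaf 1503238773771))) (.node (.node (.leaf 365609128459) (.leaf 755914546696)) (.node (.leaf 739271422098) (.leaf 1596117649690)))) (.node (.node (.node (.node (.leaf 78383212928) (.leaf 1696512274330)) (.leaf 1104880490882)) (.node (.leaf 284541736712) (.leaf 1676648203394))) (.node (.node (.leaf 228707137926) (.leaf 807991043850)) (.node (.leaf 762356876820) (.leaf 1426466357658))))))
def dF_237 : BT := .node (.node (.node (.node (.node (.node (.node (.leaf 6442458508) (.leaf 1089311340185)) (.leaf 427349448836)) (.node (.leaf 115964144794) (.leaf 841813924612))) (.node (.node (.node (.leaf 265214293655) (.leaf 1817308454919)) (.leaf 675383884802)) (.node (.leaf 701153488130) (.leaf 1128503073540)))) (.node (.node (.node (.node (.leaf 53687113742) (.leaf 1390495866502)) (.leaf 1003948739842)) (.node (.leaf 185757346186) (.leaf 1579474599695))) (.node (.node (.leaf 423591250447) (.leaf 1057099077762)) (.node (.leaf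 788126686733) (.leaf 446140018458))))) (.node (.node (.node (.node (.node (.leaf 127775307671) (.leaf 243202662426)) (.leaf 921807575703)) (.node (.leaf 8053065619) (.leaf 1483374560392))) (.node (.node (.leaf 258771861768) (.leaf 743029639192)) (.node (.leaf 686658060176) (.leaf 514859368202)))) (.node (.node (.node (.node (.leaf 233002012182) (.leaf 817117799171)) (.leaf 1081258167172)) (.node (.leaf 625454760704) (.leaf 1119912953350))) (.node (.node (.leaf 514322386820) (.leaf 845571897094)) (.node (.leaf 628139074712) (.leaf 450971715074)))))) (.node (.node (.node (.node (.node (.node (.leaf 16106148096) (.leaf 690952952968)) (.leaf 889595210506)) (.node (.leaf 557272063754) (.leaf 1442572484495))) (.node (.node (.leaf 119185414658) (.leaf 713501729945)) (.node (.leaf 65498266897) (.leaf 1795833597448)))) (.node (.node (.node (.node (.leaf 46170946581) (.leaf 1115081084294)) (.leaf 1047435397504)) (.node (.leaf 462245965459) (.leaf 1011465186570))) (.node (.node (.leaf 469225284375) (.leaf 1292785339396)) (.node (.leaf 180388724378)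 (.leaf 200252955396))))) (.node (.node (.node (.node (.node (.leaf 111669176858) (.leaf 567472795034)) (.leaf 525059981570)) (.node (.leaf 423054379543) (.leaf 1169305209472))) (.node (.node (.leaf 382252165524) (.leaf 1286879812355)) (.node (.leaf 352724369177) (.leaf 1173063103258)))) (.node (.node (.node (.node (.leaf 102542359699) (.leaf 1761473730586)) (.leaf 1125818570895)) (.node (.leaf 658203895063) (.leaf 1699196696835))) (.node (.node (.leaf 559956493719) (.leaf 1370094762372)) (.node (.leaf 816043980673) (.leaf 397284516634))))))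
def dF_238 : BT := .node dF_236 dF_237
def dF_239 : BT := .node (.node (.node (.node (.node (.node (.node (.leaf 17716742294) (.leaf 375809704578)) (.leaf 841813790735)) (.node (.leaf 593779324823) (.leaf 1390495993617))) (.node (.node (.node (.leaf 259845571222) (.leaf 1137092825223)) (.leaf 666793946884)) (.node (.leaf 310311551744) (.leaf 1736240798978)))) (.node (.node (.node (.node (.leaf 145492058767) (.leaf 972810474906)) (.leaf 994285166100)) (.node (.leaf 296352814095) (.leaf 1563905197446))) (.node (.node (.leaf 413927517186) (.leaf 1218697181336)) (.node (.leaf 363998664088) (.leaf 240518531738))))) (.node (.node (.node (.node (.node (.leaf 110058564357) (.leaf 298500499610)) (.leaf 486942135300)) (.node (.leaf 403190151063) (.leaf 1473173998082))) (.node (.node (.leaf 145492097288) (.leaf 1234803392023)) (.node (.leaf 497679454096) (.leaf 697395439386)))) (.node (.node (.node (.node (.leaf 227633280779) (.leaf 1137092889882)) (.leaf 628676093956)) (.node (.leaf 272193699097) (.leaf 1666447560842))) (.node (.node (.leaf 261456253977)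 (.leaf 1323386986502)) (.node (.leaf 264140551701) (.leaf 426275676803)))))) (.node (.node (.node (.node (.node (.node (.leaf 73551320715) (.leaf 272193727258)) (.leaf 450971775368)) (.node (.leaf 268435520154) (.leaf 1433982411141))) (.node (.node (.leaf 117574799256) (.leaf 696858729113)) (.node (.leaf 145492097690) (.leaf 1781874831369)))) (.node (.node (.node (.node (.leaf 27917287834) (.leaf 1260036294042)) (.leaf 1037771718151)) (.node (.leaf 514859273601) (.leaf 1000190894210))) (.node (.node (.leaf 200252959108) (.leaf 1214939084293)) (.node (.leaf 156229527706) (.leaf 1563905313306))))) (.node (.node (.node (.node (.node (.leaf 38117874816) (.leaf 710817232134)) (.leaf 519691270024)) (.node (.leaf 323733238810) (.leaf 928787038722))) (.node (.node (.leaf 234612677401) (.leaf 1279900470937)) (.node (.leaf 746250744960) (.leaf 1804960402586)))) (.node (.node (.node (.node (.leaf 16106139162) (.leaf 1253056979722)) (.leaf 649614069642)) (.node (.leaf 285615480070) (.leaf 1450088735616))) (.node (.node (.leaf 232465236104) (.leaf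 1361504827268)) (.node (.leaf 806917173133) (.leaf 1282048043545))))))
def dF_240 : BT := .node (.node (.node (.node (.node (.node (.node (.leaf 45634029698) (.leaf 691489921161)) (.leaf 859530535063)) (.node (.leaf 267898648973) (.leaf 1412507571481))) (.node (.node (.leaf 273804195971) (.leaf 682363208712)) (.node (.leaf 711890908933) (.leaf 1135482398464)))) (.node (.node (.node (.node (.leaf 44023457672) (.leaf 1253056929416)) (.leaf 1014686160010)) (.node (.leaf 497679455130) (.leaf 1489280289817))) (.node (.node (.leaf 190052406402) (.leaf 185757537690)) (.node (.leaf 794032168837) (.leaf 112743101850))))) (.node (.node (.node (.node (.node (.leaf 31138546580) (.leaf 272730576538)) (.leaf 507343233664)) (.node (.leaf 242665725184) (.leaf 1493575183897))) (.node (.node (.leaf 151397681945) (.leaf 751082705432)) (.node (.leaf 727460166790) (.leaf 737123921155)))) (.node (.node (.node (.node (.leaf 65498308608) (.leaf 1793149222682)) (.leaf 636729162520)) (.node (.leaf 277025541401) (.leaf 1059783553411))) (.node (.node (.leaf 223875296011)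 (.leaf 1338956373781)) (.node (.leaf 721554677780) (.leaf 146029114906)))))) (.node (.node (.node (.node (.node (.node (.leaf 95563026693) (.leaf 1141387815322)) (.leaf 898722120973)) (.node (.leaf 374199116186) (.leaf 1450088543128))) (.node (.node (.leaf 128312222745) (.leaf 1215475917440)) (.node (.leaf 117574798618) (.leaf 1618129359618)))) (.node (.node (.node (.node (.leaf 210453447567) (.leaf 1562831394970)) (.leaf 1057098973706)) (.node (.leaf 520228037779) (.leaf 1022202607874))) (.node (.node (.leaf 208842899348) (.leaf 774705036674)) (.node (.leaf 374199213338) (.leaf 978179191962))))) (.node (.node (.node (.node (.node (.leaf 80530644122) (.leaf 1445793778330)) (.leaf 973347089928)) (.node (.leaf 505732519695) (.leaf 947577525638))) (.node (.node (.leaf 393526458509) (.leaf 1031866041626)) (.node (.leaf 762356781192) (.leaf 1629403643650)))) (.node (.node (.node (.node (.leaf 117037901452) (.leaf 1228361064457)) (.leaf 657667137290)) (.node (.leaf 667330615040) (.leaf 1712081601290))) (.node (.node (.leaf 241592047112) (.leaf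 1374926601610)) (.node (.leaf 408022089729) (.leaf 486942034074))))))
def dF_241 : BT := .node dF_239 dF_240
def dF_242 : BT := .node dF_238 dF_241
def dF_243 : BT := .node (.node (.node (.node (.node (.node (.node (.leaf 536873488) (.leaf 225485912090)) (.leaf 839129435539)) (.node (.leaf 252329469440) (.leaf 1387274703115))) (.node (.node (.node (.leaf 258234952844) (.leaf 1545114712474)) (.leaf 1144072186253)) (.node (.leaf 309237808788) (.leaf 1115081296792)))) (.node (.node (.node (.node (.leaf 79993780353) (.leaf 436476155523)) (.leaf 988916455701)) (.node (.leaf 163745720217) (.leaf 961536174616))) (.node (.node (.leaf 408021936130) (.leaf 725849570202)) (.node (.leaf 773631071237) (.leaf 531502566298))))) (.node (.node (.node (.node (.node (.leaf 28454185746) (.leaf 408558850442)) (.leaf 485868392728)) (.node (.leaf 276488585615) (.leaf 898722256776))) (.node (.node (.leaf 144955225352) (.leaf 1230508423699)) (.node (.leaf 606127404177) (.leaf 309774827290)))) (.node (.node (.node (.node (.leaf 53687143697) (.leaf 1130113532698))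 (.leaf 1060857176832)) (.node (.leaf 610422290948) (.leaf 1041529965062))) (.node (.node (.leaf 498216257544) (.leaf 1316944535424)) (.node (.leaf 352187402261) (.leaf 893890307866)))))) (.node (.node (.node (.node (.node (.node (.leaf 66572008715) (.leaf 340913154567)) (.leaf 872952311063)) (.node (.leaf 6442452487) (.leaf 858456929034))) (.node (.node (.leaf 178778082329) (.leaf 1189169234954)) (.node (.leaf 344671207697) (.leaf 1159104722306)))) (.node (.node (.node (.node (.leaf 194347295234) (.leaf 739271450759)) (.leaf 1033476752006)) (.node (.leaf 361314209943) (.leaf 1609539231622))) (.node (.node (.leaf 198642344833) (.leaf 1087163849242)) (.node (.leaf 730681485210) (.leaf 846645625353))))) (.node (.node (.node (.node (.node (.leaf 37044131217) (.leaf 807991135258)) (.leaf 947577282696)) (.node (.leaf 286689162394) (.leaf 1508607622413))) (.node (.node (.leaf 368830403219) (.leaf 1273458106753)) (.node (.leaf 743566296712) (.leaf 1333587714689)))) (.node (.node (.node (.node (.leaf 252329355414) (.leaf 769336197770)) (.leaf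 1110249200520)) (.node (.leaf 645318905986) (.leaf 1681479957888))) (.node (.node (.leaf 546534713741) (.leaf 1355599246344)) (.node (.leaf 745177003290) (.leaf 514322417306))))))
def dF_244 : BT := .node (.node (.node (.node (.node (.node (.node (.leaf 38654713217) (.leaf 947577349381)) (.leaf 855772437781)) (.node (.leaf 42412812314) (.leaf 1105954414080))) (.node (.node (.node (.leaf 270583003265) (.leaf 1817845234437)) (.leaf 679678852992)) (.node (.leaf 323733328664) (.leaf 1752347074581)))) (.node (.node (.node (.node (.leaf 175556799745) (.leaf 657667024025)) (.leaf 998043266048)) (.node (.leaf 200252897943) (.leaf 981937276801))) (.node (.node (.leaf 430033645451) (.leaf 407485218074)) (.node (.leaf 790274170895) (.leaf 525596889754))))) (.node (.node (.node (.node (.node (.leaf 135291477387) (.leaf 755914424327)) (.leaf 925565570950)) (.node (.leaf 13) (.leaf 1490353868676))) (.node (.node (.leaf 192736740761) (.leaf 1251983265295)) (.node (.leaf 723165216000) (.leaf 374199153803)))) (.node (.node (.node (.node (.leaf 235686368791)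 (.leaf 1133871566341)) (.leaf 633507935368)) (.node (.leaf 629212858895) (.leaf 958314790042))) (.node (.node (.leaf 223338423432) (.leaf 826781401605)) (.node (.leaf 653372055700) (.leaf 1622961178394)))))) (.node (.node (.node (.node (.node (.node (.leaf 16106149007) (.leaf 436476256666)) (.leaf 893890281617)) (.node (.leaf 146565793933) (.leaf 1365263073928))) (.node (.node (.leaf 242665725312) (.leaf 890669131520)) (.node (.leaf 184146822042) (.leaf 1800665319044)))) (.node (.node (.node (.node (.leaf 206158441352) (.leaf 1204201703947)) (.leaf 1052267238144)) (.node (.leaf 494458194833) (.leaf 1634772177922))) (.node (.node (.leaf 208842897664) (.leaf 795106129926)) (.node (.leaf 122943446148) (.leaf 334470687258))))) (.node (.node (.node (.node (.node (.leaf 45097165196) (.leaf 506806328201)) (.leaf 967441509513)) (.node (.leaf 482110162961) (.leaf 1528471711496))) (.node (.node (.leaf 388694624015) (.leaf 916975705475)) (.node (.leaf 758598779537) (.leaf 1438814275482)))) (.node (.node (.node (.node (.leaf 214748416146) (.leaf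 1760400039681)) (.leaf 1128502813704)) (.node (.leaf 296352901514) (.leaf 1705639206918))) (.node (.node (.leaf 240518303641) (.leaf 828391933059)) (.node (.leaf 406948346756) (.leaf 1362041825434))))))
def dF_245 : BT := .node dF_243 dF_244
def dF_246 : BT := .node (.node (.node (.node (.node (.node (.node (.leaf 3758102544) (.leaf 761819972226)) (.leaf 426275705866)) (.node (.leaf 260382534928) (.leaf 1395864571525))) (.node (.node (.node (.leaf 262529912327) (.leaf 1212791725448)) (.leaf 671625786624)) (.node (.leaf 694174163843) (.leaf 1743757137793)))) (.node (.node (.node (.node (.leaf 64961404812) (.leaf 567472689305)) (.leaf 998043159430)) (.node (.leaf 336618142093) (.leaf 1572495133062))) (.node (.node (.leaf 418222521619) (.leaf 1074815752216)) (.node (.leaf 784368492545) (.leaf 826781532314))))) (.node (.node (.node (.node (.node (.leaf 121332833925) (.leaf 921807544962)) (.leaf 487479006986)) (.node (.leaf 7516194579) (.leaf 905701580932))) (.node (.node (.leaf 339839323396) (.leaf 740345283208)) (.node (.leaf 406948248336)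 (.leaf 520764858905)))) (.node (.node (.node (.node (.leaf 230854545805) (.leaf 1130650297731)) (.leaf 1076963257880)) (.node (.leaf 621696581896) (.leaf 1522029260186))) (.node (.node (.leaf 506269391120) (.leaf 793495525144)) (.node (.leaf 275951714581) (.leaf 197568542855)))))) (.node (.node (.node (.node (.node (.node (.leaf 15032404494) (.leaf 761283134731)) (.leaf 455803614592)) (.node (.leaf 405874455809) (.leaf 1379758587014))) (.node (.node (.leaf 295815901960) (.leaf 712964857994)) (.node (.leaf 309774590097) (.leaf 1162325951128)))) (.node (.node (.node (.node (.leaf 194884162328) (.leaf 1713692270874)) (.leaf 1041529817623)) (.node (.leaf 426812476815) (.leaf 1007170217752))) (.node (.node (.leaf 200252961048) (.leaf 1289027265922)) (.node (.leaf 122943470746) (.leaf 1083942655642))))) (.node (.node (.node (.node (.node (.leaf 43486585478) (.leaf 352187442308)) (.leaf 523986238596)) (.node (.leaf 440771130010) (.leaf 1518808108418))) (.node (.node (.leaf 379030952979) (.leaf 762357001098)) (.node (.leaf 750545619593) (.leaf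 462782836489)))) (.node (.node (.node (.node (.leaf 93952461210) (.leaf 1544040970650)) (.leaf 972810359936)) (.node (.leaf 654445710728) (.leaf 1692217423896))) (.node (.node (.leaf 236760204418) (.leaf 1364726063495)) (.node (.leaf 809601528335) (.leaf 355945688218))))))
def dF_247 : BT := .node (.node (.node (.node (.node (.node (.node (.leaf 52613351298) (.leaf 110595434265)) (.leaf 864899209984)) (.node (.leaf 484794549274) (.leaf 1416802674564))) (.node (.node (.leaf 279709772683) (.leaf 1178431932815)) (.node (.leaf 715112134537) (.leaf 1138703625482)))) (.node (.node (.node (.node (.leaf 184683604358) (.leaf 758061908505)) (.leaf 576599603206)) (.node (.leaf 526670490394) (.leaf 1598264993803))) (.node (.node (.leaf 437549839879) (.leaf 1083942560921)) (.node (.leaf 798327236493) (.leaf 642097950234))))) (.node (.node (.node (.node (.node (.leaf 35970386188) (.leaf 816043939721)) (.leaf 524523104386)) (.node (.leaf 232465141018) (.leaf 925565809920))) (.node (.node (.leaf 359166725655) (.leaf 752156448409)) (.node (.leaf 341450074752)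 (.leaf 1195611737862)))) (.node (.node (.node (.node (.leaf 246960678273) (.leaf 1228360980250)) (.leaf 642634744202)) (.node (.leaf 637265924503) (.leaf 1672890020486))) (.node (.node (.leaf 534186611076) (.leaf 807454172040)) (.node (.leaf 478888967700) (.leaf 738197764378)))))) (.node (.node (.node (.node (.node (.node (.leaf 17179893528) (.leaf 53150272154)) (.leaf 904090814982)) (.node (.leaf 293131587853) (.leaf 1457067868441))) (.node (.node (.leaf 132070320136) (.leaf 890669134084)) (.node (.leaf 53150256521) (.leaf 1813550222854)))) (.node (.node (.node (.node (.leaf 215285258123) (.leaf 1367947378202)) (.leaf 621159897866)) (.node (.leaf 539018449418) (.leaf 1030255673240))) (.node (.node (.leaf 209916642432) (.leaf 878321123718)) (.node (.leaf 184683637781) (.leaf 1385664033153))))) (.node (.node (.node (.node (.node (.leaf 31138520206) (.leaf 576062865946)) (.leaf 979789648013)) (.node (.leaf 562103978895) (.leaf 953483107608))) (.node (.node (.leaf 398895155479) (.leaf 197568561538)) (.node (.leaf 361851177496) (.leaf 1551020387738))))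 (.node (.node (.node (.node (.leaf 253939969554) (.leaf 1328218952966)) (.leaf 658204008984)) (.node (.leaf 297963516678) (.leaf 1716913440130))) (.node (.node (.leaf 580894385287) (.leaf 827855275146)) (.node (.leaf 724239058048) (.leaf 602369306905))))))
def dF_248 : BT := .node dF_246 dF_247
def dF_249 : BT := .node dF_245 dF_248
def dF_250 : BT := .node dF_242 dF_249
def dF_251 : BT := .node dF_235 dF_250
def dF_252 : BT := .node dF_220 dF_251
def dF_253 : BT := .node dF_189 dF_252
def dF_254 : BT := .node dF_126 dF_253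
def dF_255 : BT := .node (.node (.node (.node (.node (.node (.node (.leaf 2) (.leaf 784905438106)) (.leaf 724775929088)) (.node (.leaf 581431256327) (.leaf 1379758442245))) (.node (.node (.node (.leaf 78920084752) (.leaf 1328218852363)) (.leaf 1136555877764)) (.node (.leaf 297963516810) (.leaf 1717987181960)))) (.node (.node (.node (.node (.leaf 78383179802) (.leaf 1350230538504)) (.leaf 979789648019)) (.node (.leaf 563177720973) (.leaf 955093720577))) (.node (.node (.leaf 399432026509) (.leaf 441308143642)) (.node (.leaf 766651781511) (.leaf 1706713016216))))) (.node (.node (.node (.node (.node (.leaf 102542348422) (.leaf 1362578569242)) (.leaf 478889069208)) (.node (.leaf 293131587863) (.leaf 1457604739481))) (.node (.node (.leaf 318364483457) (.leaf 724776022552)) (.node (.leaf 217432839194) (.leaf 1813550373137)))) (.node (.node (.node (.node (.leaf 215285286934) (.leaf 1467805367811)) (.leaf 621159898008)) (.node (.leaf 602369229568) (.leaf 1649267687942))) (.node (.node (.leaf 209916642690) (.leaf 1307817798407)) (.node (.leaf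 341450075546) (.leaf 1464584036634)))))) (.node (.node (.node (.node (.node (.node (.leaf 8053076488) (.leaf 185757406490)) (.leaf 865436015240)) (.node (.leaf 510027488154) (.leaf 851477604356))) (.node (.node (.leaf 113279829273) (.leaf 687195048582)) (.node (.leaf 715649031814) (.leaf 1766842443143)))) (.node (.node (.node (.node (.leaf 185220475524) (.leaf 1250909419778)) (.leaf 1022739251462)) (.node (.leaf 223875223699) (.leaf 1598801834624))) (.node (.node (.leaf 438086711175) (.leaf 914828216458)) (.node (.leaf 798327236499) (.leaf 1425392475802))))) (.node (.node (.node (.node (.node (.leaf 35970386320) (.leaf 1360967843354)) (.leaf 937913605764)) (.node (.leaf 365609178259) (.leaf 921807713672))) (.node (.node (.leaf 152471424920) (.leaf 752693319558)) (.node (.leaf 341450075010) (.leaf 799401073025)))) (.node (.node (.node (.node (.leaf 246960677006) (.leaf 1228360978051)) (.leaf 1101659304320)) (.node (.leaf 637802709770) (.leaf 1672890067972))) (.node (.node (.leaf 224949039754) (.leaf 1343788213133)) (.node (.leaf 710817256980)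 (.leaf 361314305946))))))
def dF_256 : BT := .node (.node (.node (.node (.node (.node (.node (.leaf 25769809928) (.leaf 769336200345)) (.leaf 846645530881)) (.node (.leaf 263066889602) (.leaf 839666439434))) (.node (.node (.node (.leaf 94489343121) (.leaf 1406065253785)) (.leaf 1156957091212)) (.node (.leaf 310311552793) (.leaf 1127429331076)))) (.node (.node (.node (.node (.leaf 93415551255) (.leaf 574989128858)) (.leaf 998580030344)) (.node (.leaf 336618142103) (.leaf 972810467722))) (.node (.node (.leaf 190052402566) (.leaf 1074815752217)) (.node (.leaf 784905362562) (.leaf 1412507571738))))) (.node (.node (.node (.node (.node (.leaf 121869704965) (.leaf 921807540617)) (.leaf 487479007128)) (.node (.leaf 481036451994) (.leaf 906775322752))) (.node (.node (.leaf 340376193030) (.leaf 740882154242)) (.node (.leaf 336618142097) (.leaf 1175210791066)))) (.node (.node (.node (.node (.leaf 230854545815) (.leaf 817117946266)) (.leaf 1077500130432)) (.node (.leaf 621696664335) (.leaf 289373784218))) (.node (.node (.leaf 219043453720) (.leaf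 1330903227649)) (.node (.leaf 277562327701) (.leaf 268435779226)))))) (.node (.node (.node (.node (.node (.node (.leaf 79993773068) (.leaf 153008246425)) (.leaf 455803614854)) (.node (.leaf 425201808644) (.leaf 1439888115716))) (.node (.node (.leaf 296889684993) (.leaf 1203127890055)) (.node (.leaf 267898648977) (.leaf 1162862822154)))) (.node (.node (.node (.node (.leaf 70330135939) (.leaf 841276919683)) (.leaf 608811862794)) (.node (.leaf 427349347853) (.leaf 1007707088770))) (.node (.node (.leaf 200252961177) (.leaf 864899346562)) (.node (.leaf 130459638810) (.leaf 985158469402))))) (.node (.node (.node (.node (.node (.leaf 45097191706) (.leaf 753767061530)) (.leaf 523986238726)) (.node (.leaf 332323129098) (.leaf 1519344903432))) (.node (.node (.leaf 379567825153) (.leaf 1284195439745)) (.node (.leaf 751619456012) (.leaf 891205926403)))) (.node (.node (.node (.node (.leaf 102542401050) (.leaf 955093580161)) (.leaf 653909038344)) (.node (.leaf 654982582027) (.leaf 1083942774920))) (.node (.node (.leaf 555124579460) (.leaf 1365262923908))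 (.node (.leaf 809601528341) (.leaf 893890249991))))))
def dF_257 : BT := .node dF_255 dF_256
def dF_258 : BT := .node (.node (.node (.node (.node (.node (.node (.leaf 536873746) (.leaf 816044111642)) (.leaf 419296382472)) (.node (.leaf 591094939016) (.leaf 836445211928))) (.node (.node (.node (.leaf 258234952851) (.leaf 773094341000)) (.leaf 1144609002752)) (.node (.leaf 686121100289) (.leaf 1730872086664)))) (.node (.node (.node (.node (.leaf 79993773070) (.leaf 1203127918746)) (.leaf 554587888025)) (.node (.leaf 389231552410) (.leaf 1557462885888))) (.node (.node (.leaf 180388723974) (.leaf 820875722010)) (.node (.leaf 774168039695) (.leaf 289373549082))))) (.node (.node (.node (.node (.node (.leaf 111132306177) (.leaf 403727173658)) (.leaf 486405263746)) (.node (.leaf 277025456653) (.leaf 898722257048))) (.node (.node (.leaf 331786287490) (.leaf 731218475672)) (.node (.leaf 666793831696) (.leaf 563714576769)))) (.node (.node (.node (.node (.leaf 53687143956) (.leaf 1751809980698)) (.leaf 1068910134922)) (.node (.leaf 268435601812)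 (.leaf 1660541979146))) (.node (.node (.leaf 214748483860) (.leaf 788663683844)) (.node (.leaf 358629854741) (.leaf 1317481328410)))))) (.node (.node (.node (.node (.node (.node (.leaf 67108878464) (.leaf 224412124801)) (.leaf 816580865288)) (.node (.leaf 6442452499) (.leaf 1429150691968))) (.node (.node (.leaf 288299723397) (.leaf 692026889348)) (.node (.leaf 37044131098) (.leaf 1775969251459)))) (.node (.node (.node (.node (.leaf 89120617752) (.leaf 1526324386842)) (.leaf 1034013520386)) (.node (.leaf 361851080973) (.leaf 996432796568))) (.node (.node (.leaf 450971613444) (.leaf 1088774462106)) (.node (.leaf 729607650585) (.leaf 997506538778))))) (.node (.node (.node (.node (.node (.leaf 161061283209) (.leaf 859530672026)) (.leaf 947577385617)) (.node (.leaf 117037886743) (.leaf 1508607622419))) (.node (.node (.leaf 369367274253) (.leaf 758598902536)) (.node (.leaf 743566326146) (.leaf 1197759405826)))) (.node (.node (.node (.node (.leaf 252866226951) (.leaf 1363115540615)) (.leaf 648003455626)) (.node (.leaf 285078608266) (.leaf 1682016963330)))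 (.node (.node (.leaf 546534713751) (.leaf 811749142282)) (.node (.leaf 744103197698) (.leaf 374199153306))))))
def dF_259 : BT := .node (.node (.node (.node (.node (.node (.node (.leaf 6979331345) (.leaf 350576758660)) (.leaf 428960062982)) (.node (.leaf 122943468314) (.leaf 1407138995861))) (.node (.node (.leaf 110595472537) (.leaf 679678853121)) (.node (.leaf 324270199681) (.leaf 1752883797888)))) (.node (.node (.node (.node (.leaf 176093670785) (.leaf 1135482399130)) (.leaf 1009854320900)) (.node (.leaf 208305963525) (.leaf 1589138133890))) (.node (.node (.leaf 186294309145) (.leaf 1062467642138)) (.node (.leaf 790274170903) (.leaf 224948981129))))) (.node (.node (.node (.node (.node (.leaf 30601674517) (.leaf 474057229722)) (.leaf 926102441866)) (.node (.leaf 23) (.leaf 909996551306))) (.node (.node (.leaf 151397680768) (.leaf 1251983265301)) (.node (.leaf 336618234370) (.leaf 942208730777)))) (.node (.node (.node (.node (.leaf 236223216772) (.leaf 1756641824154)) (.leaf 633507935640)) (.node (.leaf 277025540742) (.leaf 1455457167386)))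 (.node (.node (.leaf 225485907072) (.leaf 847182496256)) (.node (.leaf 519154295701) (.leaf 535260582042)))))) (.node (.node (.node (.node (.node (.node (.leaf 91268066828) (.leaf 1430761391745)) (.leaf 893890281623)) (.node (.leaf 146565793943) (.leaf 1446330449792))) (.node (.node (.leaf 307090192518) (.leaf 718333569030)) (.node (.leaf 44560296337) (.leaf 1801202190085)))) (.node (.node (.node (.node (.leaf 206158477967) (.leaf 855772403848)) (.leaf 1052804006272)) (.node (.leaf 496605679751) (.leaf 1634235445768))) (.node (.node (.leaf 474057128064) (.leaf 1297617178887)) (.node (.leaf 118648543130) (.leaf 405874603162))))) (.node (.node (.node (.node (.node (.leaf 55297718272) (.leaf 1326071514778)) (.leaf 526670595585)) (.node (.leaf 482647064975) (.leaf 942208815114))) (.node (.node (.leaf 389231452678) (.leaf 912680740618)) (.node (.leaf 358629950212) (.leaf 1802276016152)))) (.node (.node (.node (.node (.leaf 207769086861) (.leaf 1338956430727)) (.leaf 1128502926095)) (.node (.leaf 663035734423) (.leaf 1706176021248))) (.node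 (.node (.leaf 566935740546) (.leaf 828391969048)) (.node (.leaf 819802078095) (.leaf 710817374234))))))
def dF_260 : BT := .node dF_258 dF_259
def dF_261 : BT := .node dF_257 dF_260
def dF_262 : BT := .node (.node (.node (.node (.node (.node (.node (.leaf 1172) (.leaf 1187558819610)) (.leaf 415001414402)) (.node (.leaf 587336912911) (.leaf 1383516586120))) (.node (.node (.node (.leaf 256087466775) (.leaf 1673963863300)) (.leaf 1139777103624)) (.node (.leaf 679678709766) (.leaf 1724429634436)))) (.node (.node (.node (.node (.leaf 14495540250) (.leaf 209379705625)) (.leaf 985695126536)) (.node (.leaf 147639512326) (.leaf 965294269568))) (.node (.node (.leaf 179851851654) (.leaf 441308038786)) (.node (.leaf 362388049300) (.leaf 1411970887322))))) (.node (.node (.node (.node (.node (.leaf 108984801041) (.leaf 462245926018)) (.leaf 906775186583)) (.node (.leaf 44023425295) (.leaf 1178432000776))) (.node (.node (.leaf 133144063769) (.leaf 1227823949579)) (.node (.leaf 208842868616) (.leaf 1075889589637)))) (.node (.node (.node (.node (.leaf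 195421022864) (.leaf 1474784631962)) (.leaf 1066225780230)) (.node (.leaf 606127404173) (.leaf 1039382480260))) (.node (.node (.leaf 210453515144) (.leaf 1312649692036)) (.node (.leaf 268435601818) (.leaf 557272243226)))))) (.node (.node (.node (.node (.node (.node (.leaf 8589949064) (.leaf 363461694105)) (.leaf 869730983810)) (.node (.leaf 37044101779) (.leaf 855772572672))) (.node (.node (.leaf 284004778899) (.leaf 1184337514255)) (.node (.leaf 719407103360) (.leaf 1707786793863)))) (.node (.node (.node (.node (.leaf 45097202056) (.leaf 645855911561)) (.leaf 599685054472)) (.node (.leaf 341449981453) (.leaf 994285311641))) (.node (.node (.leaf 445066033282) (.leaf 753766940160)) (.node (.leaf 803695848074) (.leaf 1372242426010))))) (.node (.node (.node (.node (.node (.leaf 36507258764) (.leaf 807990915225)) (.leaf 942208606592)) (.node (.leaf 374199114893) (.leaf 1503775645064))) (.node (.node (.leaf 366145999499) (.leaf 756451417604)) (.node (.leaf 739808199042) (.leaf 690953099527)))) (.node (.node (.node (.node (.leaf 250718742166)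 (.leaf 1343788292871)) (.leaf 1105417361796)) (.node (.leaf 284541736720) (.leaf 1677184983426))) (.node (.node (.leaf 542776614803) (.leaf 1348083053187)) (.node (.leaf 768799329300) (.leaf 1039919196826))))))
def dF_263 : BT := .node (.node (.node (.node (.node (.node (.node (.leaf 6442458640) (.leaf 624917890585)) (.leaf 851477368578)) (.node (.leaf 162135054234) (.leaf 1403380898575))) (.node (.node (.node (.leaf 266288015875) (.leaf 1817308356352)) (.leaf 1164473169160)) (.node (.leaf 701690374036) (.leaf 1127966202762)))) (.node (.node (.node (.node (.leaf 53687113743) (.leaf 1390495875211)) (.leaf 563714697222)) (.node (.leaf 185757379859) (.leaf 1579474599701))) (.node (.node (.leaf 185220565776) (.leaf 1072131460864)) (.node (.leaf 722628435467) (.leaf 1378684610970))))) (.node (.node (.node (.node (.node (.leaf 128849026441) (.leaf 243202559362)) (.leaf 922344345224)) (.node (.leaf 506269392026) (.leaf 1483911416962))) (.node (.node (.leaf 146565841419) (.leaf 743566510218)) (.node (.leaf 374735985936) (.leaf 1173600119943))))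 (.node (.node (.node (.node (.leaf 218506516753) (.leaf 1487132724864)) (.leaf 630823579656)) (.node (.leaf 625454761619) (.leaf 951872465306))) (.node (.node (.leaf 514859257734) (.leaf 886374077314)) (.node (.leaf 629749688193) (.leaf 878321104026)))))) (.node (.node (.node (.node (.node (.node (.leaf 86973098134) (.leaf 514859367834)) (.leaf 459561712904)) (.node (.leaf 64961395853) (.leaf 1443109318424))) (.node (.node (.leaf 302795265303) (.leaf 716186084742)) (.node (.leaf 112206047377) (.leaf 1796370499844)))) (.node (.node (.node (.node (.leaf 46707817625) (.leaf 1393717299719)) (.leaf 613643702274)) (.node (.leaf 462782836493) (.leaf 1628866732423))) (.node (.node (.leaf 204547929608) (.leaf 1293322210823)) (.node (.leaf 184683694106) (.leaf 462245965465))))) (.node (.node (.node (.node (.node (.leaf 124017211418) (.leaf 241055096985)) (.leaf 529891819780)) (.node (.leaf 436476155535) (.leaf 1523639872649))) (.node (.node (.leaf 382789036565) (.leaf 989990144154)) (.node (.leaf 755377531782) (.leaf 1161789082778)))) (.node (.node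 (.node (.node (.leaf 70330106387) (.leaf 905701499269)) (.leaf 1125818570901)) (.node (.leaf 658740729088) (.leaf 1095217065858))) (.node (.node (.leaf 560493289232) (.leaf 1370631633288)) (.node (.leaf 816043980814) (.leaf 146565841818))))))
def dF_264 : BT := .node dF_262 dF_263
def dF_265 : BT := .node (.node (.node (.node (.node (.node (.node (.leaf 18253611286) (.leaf 158376956825)) (.leaf 841813790741)) (.node (.leaf 594316212495) (.leaf 1390495993623))) (.node (.node (.node (.leaf 260382442252) (.leaf 1018444298752)) (.leaf 666793947160)) (.node (.leaf 690416157463) (.leaf 1737314539522)))) (.node (.node (.node (.node (.leaf 145492058774) (.leaf 906775324698)) (.leaf 994822037133)) (.node (.leaf 296889685133) (.leaf 967978627336))) (.node (.node (.leaf 414464387976) (.leaf 1217086606488)) (.node (.leaf 363998664089) (.leaf 241055165960))))) (.node (.node (.node (.node (.node (.leaf 28454186008) (.leaf 310311476864)) (.leaf 914828216473)) (.node (.leaf 403727022095) (.leaf 1473710962688))) (.node (.node (.leaf 336081232642) (.leaf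 1235340145152)) (.node (.leaf 487478904336) (.leaf 686121250330)))) (.node (.node (.node (.node (.leaf 228170151819) (.leaf 906775240858)) (.leaf 629212964864)) (.node (.leaf 272730570241) (.leaf 1666984432005))) (.node (.node (.leaf 503048096529) (.leaf 790274298264)) (.node (.leaf 285078522261) (.leaf 426275605785)))))) (.node (.node (.node (.node (.node (.node (.leaf 10200565138) (.leaf 272730571162)) (.leaf 452045517188)) (.node (.leaf 110595434259) (.leaf 860067543178))) (.node (.node (.leaf 253403139993) (.leaf 1197759171592)) (.node (.leaf 43486585754) (.leaf 1782411702410)))) (.node (.node (.node (.node (.leaf 144418278938) (.leaf 1605244264704)) (.leaf 1038308588809)) (.node (.leaf 514859327379) (.leaf 1001801507097))) (.node (.node (.leaf 457950936843) (.leaf 1078037001088)) (.node (.leaf 9126996634) (.leaf 1123134191238))))) (.node (.node (.node (.node (.node (.leaf 168040634380) (.leaf 839666439578)) (.leaf 520228140932)) (.node (.leaf 134754677273) (.leaf 1514513064196))) (.node (.node (.leaf 373125372695) (.leaf 1280437306632))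 (.node (.leaf 389768460034) (.leaf 1656783884288)))) (.node (.node (.node (.node (.leaf 87509986564) (.leaf 414464641178)) (.leaf 649614069784)) (.node (.leaf 649613958413) (.leaf 1687922549633))) (.node (.node (.leaf 550292768783) (.leaf 1362041698184)) (.node (.leaf 806917173139) (.leaf 795642842755))))))
def dF_266 : BT := .node (.node (.node (.node (.node (.node (.node (.leaf 7516203915) (.leaf 488552748186)) (.leaf 860067406093)) (.node (.leaf 267898648983) (.leaf 848256377994))) (.node (.node (.leaf 274341063561) (.leaf 1173063105418)) (.node (.leaf 712427870082) (.leaf 1760400140173)))) (.node (.node (.node (.node (.leaf 45634070400) (.leaf 762356881547)) (.leaf 1014686170626)) (.node (.leaf 214748416015) (.leaf 1593969973001))) (.node (.node (.leaf 190052406536) (.leaf 849329986458)) (.node (.leaf 794569039877) (.leaf 623844338586))))) (.node (.node (.node (.node (.node (.leaf 141197069579) (.leaf 973884013978)) (.leaf 506269492106)) (.node (.leaf 243202581133) (.leaf 1494112057856))) (.node (.node (.leaf 355945465610) (.leaf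 751619576458)) (.node (.leaf 339839460872) (.leaf 1150514601217)))) (.node (.node (.node (.node (.leaf 65498308866) (.leaf 1791001778970)) (.leaf 1094143071109)) (.node (.leaf 632970956173) (.leaf 1588064526859))) (.node (.node (.leaf 223875296144) (.leaf 1339493117707)) (.node (.leaf 574988883860) (.leaf 526133724442)))))) (.node (.node (.node (.node (.node (.node (.leaf 96099897861) (.leaf 606127584136)) (.leaf 898722120979)) (.node (.leaf 375809729306) (.leaf 885300479882))) (.node (.node (.leaf 314069514762) (.leaf 1216012788480)) (.node (.leaf 293131587857) (.leaf 1180579566602)))) (.node (.node (.node (.node (.leaf 52613399826) (.leaf 1480690205850)) (.leaf 1057635845378)) (.node (.leaf 523986135053) (.leaf 1023276349952))) (.node (.node (.leaf 481036388995) (.leaf 1303522759048)) (.node (.leaf 375809828378) (.leaf 682363116186))))) (.node (.node (.node (.node (.node (.leaf 36507236364) (.leaf 841813925146)) (.leaf 530428693400)) (.node (.leaf 506269390733) (.leaf 1535451174419))) (.node (.node (.leaf 174483140360) (.leaf 868657283610))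 (.node (.leaf 762356876815) (.leaf 1604170673546)))) (.node (.node (.node (.node (.leaf 117037901463) (.leaf 1752346942467)) (.leaf 1133334652675)) (.node (.leaf 296889773720) (.leaf 1103270132632))) (.node (.node (.leaf 241592047256) (.leaf 1375463479170)) (.node (.leaf 825170689028) (.leaf 278099198745))))))
def dF_267 : BT := .node dF_265 dF_266
def dF_268 : BT := .node dF_264 dF_267
def dF_269 : BT := .node dF_261 dF_268
def dF_270 : BT := .node (.node (.node (.node (.node (.node (.node (.leaf 525) (.leaf 1429687408154)) (.leaf 413927671818)) (.node (.leaf 585189427983) (.leaf 1381905925382))) (.node (.node (.node (.leaf 86973148676) (.leaf 1139240346753)) (.leaf 1138703361542)) (.node (.leaf 298500388362) (.leaf 1108101972740)))) (.node (.node (.node (.node (.leaf 6442454540) (.leaf 331249417735)) (.leaf 983010767496)) (.node (.leaf 571767657615) (.leaf 1548335938182))) (.node (.node (.leaf 401042650259) (.leaf 629749730560)) (.node (.leaf 768799329299) (.leaf 1705102316682))))) (.node (.node (.node (.node (.node (.leaf 17716765337)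 (.leaf 151397650689)) (.leaf 905701444502)) (.node (.leaf 309774590093) (.leaf 1460825964424))) (.node (.node (.leaf 321585716103) (.leaf 1224065853315)) (.node (.leaf 278636156186) (.leaf 1183800793880)))) (.node (.node (.node (.node (.leaf 147639536154) (.leaf 1326071421193)) (.leaf 622233640584)) (.node (.leaf 603979839112) (.leaf 1652488914310))) (.node (.node (.leaf 490700064395) (.leaf 782221231240)) (.node (.leaf 222801551898) (.leaf 1058709610522)))))) (.node (.node (.node (.node (.node (.node (.leaf 56371448325) (.leaf 1292785245466)) (.leaf 460635449350)) (.node (.leaf 66035137818) (.leaf 1418950037656))) (.node (.node (.leaf 282394165775) (.leaf 690416274822)) (.node (.leaf 717796519425) (.leaf 1771137416704)))) (.node (.node (.node (.node (.leaf 187904830981) (.leaf 1018444363290)) (.leaf 1027034201985)) (.node (.leaf 224948965783) (.leaf 1602559909252))) (.node (.node (.leaf 441307936776) (.leaf 352724368410)) (.node (.leaf 801011492357) (.leaf 1209033341594))))) (.node (.node (.node (.node (.node (.leaf 151397605890) (.leaf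 625991564804)) (.leaf 514322558104)) (.node (.leaf 370977874054) (.leaf 921807713945))) (.node (.node (.leaf 362387902082) (.leaf 1266478661130)) (.node (.leaf 738197608585) (.leaf 376346674561)))) (.node (.node (.node (.node (.leaf 248571290134) (.leaf 1229434666266)) (.leaf 643708486680)) (.node (.leaf 641023935497) (.leaf 1674500627717))) (.node (.node (.leaf 225485911691) (.leaf 1258962609411)) (.node (.leaf 406948248341) (.leaf 799400952602))))))
def dF_271 : BT := .node (.node (.node (.node (.node (.node (.node (.leaf 29527901702) (.leaf 892816581511)) (.leaf 848256243213)) (.node (.leaf 600758613896) (.leaf 1401233414413))) (.node (.node (.node (.leaf 264140514952) (.leaf 1816771599377)) (.leaf 695248107784)) (.node (.leaf 311385295508) (.leaf 1127966202502)))) (.node (.node (.node (.node (.leaf 132607154197) (.leaf 752156249354)) (.leaf 563177825542)) (.node (.leaf 184146766743) (.leaf 1577863986573))) (.node (.node (.leaf 184683694232) (.leaf 1033476654856)) (.node (.leaf 785979201792) (.leaf 1373315903130))))) (.node (.node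 (.node (.node (.node (.leaf 29527930130) (.leaf 488552646403)) (.leaf 488552749465)) (.node (.leaf 499826938394) (.leaf 1481763933190))) (.node (.node (.leaf 342523677061) (.leaf 740882155016)) (.node (.leaf 574988883856) (.leaf 1547799271578)))) (.node (.node (.node (.node (.leaf 232465141007) (.leaf 1253593665050)) (.leaf 630286707992)) (.node (.leaf 624380962442) (.leaf 940598110618))) (.node (.node (.leaf 512174970893) (.leaf 803696073602)) (.node (.leaf 624380950410) (.leaf 911606924442)))))) (.node (.node (.node (.node (.node (.node (.leaf 15569276546) (.leaf 753230191258)) (.leaf 885837114119)) (.node (.leaf 260382442266) (.leaf 894427282951))) (.node (.node (.leaf 118648543385) (.leaf 713501729670)) (.node (.leaf 179851798417) (.leaf 1165010306840)))) (.node (.node (.node (.node (.leaf 46170945924) (.leaf 753767024003)) (.leaf 609885605145)) (.node (.leaf 441844807690) (.leaf 1614371219847))) (.node (.node (.leaf 468151541389) (.leaf 1291174726536)) (.node (.leaf 115964194202) (.leaf 1426466353282))))) (.node (.node (.node (.node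 (.node (.leaf 45097176730) (.leaf 403727118729)) (.leaf 524523110148)) (.node (.leaf 44560296333) (.leaf 938450716928))) (.node (.node (.leaf 380641566103) (.leaf 1286342925828)) (.node (.leaf 753230069139) (.leaf 1560147100441)))) (.node (.node (.node (.node (.leaf 8053067666) (.leaf 1714229230730)) (.leaf 656593393668)) (.node (.leaf 657130152982) (.leaf 1089311484806))) (.node (.node (.leaf 558345880589) (.leaf 1368484149764)) (.node (.leaf 395137185160) (.leaf 363461771546))))))
def dF_272 : BT := .node dF_270 dF_271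
def dF_273 : BT := .node (.node (.node (.node (.node (.node (.node (.leaf 16106129174) (.leaf 762893715994)) (.leaf 423054479233)) (.node (.leaf 592705579789) (.leaf 1389958991232))) (.node (.node (.node (.leaf 259308700165) (.leaf 1584843146522)) (.leaf 665720204422)) (.node (.leaf 311922163840) (.leaf 1119376264728)))) (.node (.node (.node (.node (.leaf 14495519884) (.leaf 1665373745178)) (.leaf 992674552975)) (.node (.leaf 286689110277) (.leaf 1560683975171))) (.node (.node (.leaf 412316957453) (.leaf 406948248856)) (.node (.leaf 363461792532) (.leaf 886374082330))))) (.node (.node (.node (.node (.node (.leaf 33285998098) (.leaf 630823472025)) (.leaf 913217638400)) (.node (.leaf 336081271053) (.leaf 1385664174720))) (.node (.node (.leaf 144955226008) (.leaf 1233192660612)) (.node (.leaf 624917890576) (.leaf 127775646618)))) (.node (.node (.node (.node (.leaf 224412054148) (.leaf 1102733122816)) (.leaf 1071057618692)) (.node (.leaf 613643517322) (.leaf 1663763206402))) (.node (.node (.leaf 500900679318) (.leaf 789737426308)) (.node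 (.leaf 375809728021) (.leaf 336081520922)))))) (.node (.node (.node (.node (.node (.node (.leaf 70866963849) (.leaf 818191462810)) (.leaf 875099794944)) (.node (.leaf 110058543749) (.leaf 859530671752))) (.node (.node (.leaf 289910361485) (.leaf 693100632196)) (.node (.leaf 30064801946) (.leaf 1779190476170)))) (.node (.node (.node (.node (.leaf 83751870618) (.leaf 1398012141466)) (.leaf 1036161004166)) (.node (.leaf 363998565135) (.leaf 1612760457482))) (.node (.node (.leaf 198642345880) (.leaf 1093069482113)) (.node (.leaf 334470745370) (.leaf 526133720326))))) (.node (.node (.node (.node (.node (.leaf 37581003144) (.leaf 505732519705)) (.leaf 950798611861)) (.node (.leaf 118648499859) (.leaf 1511828709256))) (.node (.node (.leaf 371514727051) (.leaf 759135774218)) (.node (.leaf 745176939523) (.leaf 1489817091329)))) (.node (.node (.node (.node (.leaf 78920053146) (.leaf 1573568824090)) (.leaf 1114544168066)) (.node (.leaf 647466474263) (.leaf 1075889709574))) (.node (.node (.leaf 548682198671) (.leaf 1358820472194)) (.node (.leaf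 486942036359) (.leaf 1194538062874))))))
def dF_274 : BT := .node (.node (.node (.node (.node (.node (.node (.leaf 43486552459) (.leaf 1303522813850)) (.leaf 858456792973)) (.node (.leaf 334470658074) (.leaf 855772569990))) (.node (.node (.leaf 112206085510) (.leaf 1170378809220)) (.node (.leaf 710280385939) (.leaf 1757178765322)))) (.node (.node (.node (.node (.leaf 44560328320) (.leaf 1048509302795)) (.leaf 1011465039375)) (.node (.leaf 488552647578) (.leaf 1592359382276))) (.node (.node (.leaf 432718056973) (.leaf 630823472003)) (.node (.leaf 792958526095) (.leaf 653908898184))))) (.node (.node (.node (.node (.node (.leaf 138512726934) (.leaf 403190199435)) (.leaf 928249927432)) (.node (.leaf 241055096973) (.leaf 1492501446553))) (.node (.node (.leaf 151397681419) (.leaf 1253057007379)) (.node (.leaf 725849553803) (.leaf 515933079297)))) (.node (.node (.node (.node (.leaf 237833870345) (.leaf 1269699972739)) (.leaf 634581678082)) (.node (.leaf 630823387658) (.leaf 1373853038593))) (.node (.node (.leaf 524523005953) (.leaf 1337882631702))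 (.node (.leaf 599148080660) (.leaf 449897974426)))))) (.node (.node (.node (.node (.node (.node (.leaf 93952413574) (.leaf 497679557146)) (.leaf 897648277770)) (.node (.leaf 157840085779) (.leaf 883689866500))) (.node (.node (.leaf 310311417602) (.leaf 1212791679381)) (.node (.leaf 209379705617) (.leaf 1804423416194)))) (.node (.node (.node (.node (.leaf 52613399174) (.leaf 753766940167)) (.leaf 861678065432)) (.node (.leaf 515932999562) (.leaf 1637993395332))) (.node (.node (.leaf 477278291584) (.leaf 773094423169)) (.node (.leaf 362924920986) (.leaf 441307987079))))) (.node (.node (.node (.node (.node (.leaf 111669156493) (.leaf 65498266905)) (.leaf 530428692996)) (.node (.leaf 53150232983) (.leaf 945966912256))) (.node (.node (.leaf 391378936708) (.leaf 603443210138)) (.node (.leaf 761283134735) (.leaf 1011465161610)))) (.node (.node (.node (.node (.leaf 206158477971) (.leaf 758598867460)) (.leaf 1130650410258)) (.node (.leaf 665720089613) (.leaf 1709397246850))) (.node (.node (.leaf 241055175313) (.leaf 913754550658)) (.node (.leaf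 822486334344) (.leaf 117037886745))))))
def dF_275 : BT := .node dF_273 dF_274
def dF_276 : BT := .node dF_272 dF_275
def dF_277 : BT := .node (.node (.node (.node (.node (.node (.node (.leaf 536873228) (.leaf 1199369812378)) (.leaf 838055693455)) (.node (.leaf 589484398479) (.leaf 1385127281538))) (.node (.node (.node (.leaf 88046891014) (.leaf 1241782737283)) (.leaf 661962106904)) (.node (.leaf 682899873796) (.leaf 1727650866562)))) (.node (.node (.node (.node (.leaf 78383159942) (.leaf 1108101972634)) (.leaf 782758025095)) (.node (.leaf 151934504343) (.leaf 959925561368))) (.node (.node (.leaf 179851852312) (.leaf 879394661657)) (.node (.leaf 772557426575) (.leaf 185757596570))))) (.node (.node (.node (.node (.node (.leaf 112206027400) (.leaf 209916576643)) (.leaf 909459441152)) (.node (.leaf 333396932250) (.leaf 1466194674178))) (.node (.node (.leaf 140660257305) (.leaf 1228897810580)) (.node (.leaf 278099198737) (.leaf 486942055450)))) (.node (.node (.node (.node (.leaf 53687143302) (.leaf 1513439515034)) (.leaf 1059246563712))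 (.node (.leaf 607737936777) (.leaf 1040456222598))) (.node (.node (.leaf 495531940103) (.leaf 1314797050762)) (.node (.leaf 296352901786) (.leaf 1672890117658)))))) (.node (.node (.node (.node (.node (.node (.leaf 8589949715) (.leaf 340913203738)) (.leaf 445603064857)) (.node (.leaf 127238436489) (.leaf 857383186436))) (.node (.node (.leaf 117037927051) (.leaf 1186484880266)) (.node (.leaf 721017806733) (.leaf 1708860375815)))) (.node (.node (.node (.node (.leaf 45097202451) (.leaf 1137092862745)) (.leaf 602369409544)) (.node (.leaf 352724273299) (.leaf 995895924740))) (.node (.node (.leaf 443455479942) (.leaf 851477465226)) (.node (.leaf 805306560017) (.leaf 1108638680454))))) (.node (.node (.node (.node (.node (.leaf 157840063616) (.leaf 941671859738)) (.leaf 515396300824)) (.node (.leaf 375809728023) (.leaf 1506460136201))) (.node (.node (.leaf 367756661133) (.leaf 1271310500736)) (.node (.leaf 741418811784) (.leaf 1489817063047)))) (.node (.node (.node (.node (.leaf 251792484239) (.leaf 1252520222211)) (.leaf 647466584072)) (.node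 (.leaf 643708291338) (.leaf 1067299773574))) (.node (.node (.leaf 544387228691) (.leaf 809601657738)) (.node (.leaf 427349347860) (.leaf 309237719706))))))
def dF_278 : BT := .node (.node (.node (.node (.node (.node (.node (.leaf 8053072384) (.leaf 490163192730)) (.leaf 428960062212)) (.node (.leaf 273804306202) (.leaf 841813925144))) (.node (.node (.node (.leaf 267898648064) (.leaf 1817845206786)) (.leaf 675920756230)) (.node (.leaf 704374728583) (.leaf 1130650558084)))) (.node (.node (.node (.node (.leaf 46707780367) (.leaf 1017370615450)) (.leaf 568009665026)) (.node (.leaf 198642284813) (.leaf 979789792128))) (.node (.node (.leaf 185757437313) (.leaf 334470723610)) (.node (.leaf 789200329988) (.leaf 566935914633))))) (.node (.node (.node (.node (.node (.leaf 132607146753) (.leaf 921807575705)) (.leaf 923954958084)) (.node (.leaf 555124656410) (.leaf 1487669513482))) (.node (.node (.leaf 190589256601) (.leaf 746787736600)) (.node (.leaf 721554677777) (.leaf 1195611899674)))) (.node (.node (.node (.node (.leaf 234612626189) (.leaf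 1252520254214)) (.leaf 1085016264072)) (.node (.leaf 627602240519) (.leaf 1502701906950))) (.node (.node (.leaf 222801551892) (.leaf 1218160301210)) (.node (.leaf 666793831700) (.leaf 1581085078170)))))) (.node (.node (.node (.node (.node (.node (.leaf 89120575240) (.leaf 515933036036)) (.leaf 892816436874)) (.node (.leaf 249108161178) (.leaf 1445256707974))) (.node (.node (.leaf 127238478980) (.leaf 892279653888)) (.node (.leaf 358629925895) (.leaf 1171989629572)))) (.node (.node (.node (.node (.leaf 46707818114) (.leaf 1206349226904)) (.leaf 613643702681)) (.node (.leaf 485868291215) (.leaf 1631550945664))) (.node (.node (.leaf 472446501267) (.leaf 769873196825)) (.node (.leaf 54224016282) (.leaf 336618142105))))) (.node (.node (.node (.node (.node (.leaf 15569280282) (.leaf 65498263939)) (.leaf 966367769730)) (.node (.leaf 490163193354) (.leaf 1526324366743))) (.node (.node (.leaf 163745720345) (.leaf 554587768345)) (.node (.leaf 358629949952) (.leaf 1295469787264)))) (.node (.node (.node (.node (.leaf 231391416850) (.leaf 1757178813978))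 (.leaf 1127429184023)) (.node (.leaf 293131675417) (.leaf 1098438292100))) (.node (.node (.leaf 240518302986) (.leaf 819802210056)) (.node (.leaf 817117722901) (.leaf 964757121690))))))
def dF_279 : BT := .node dF_277 dF_278
def dF_280 : BT := .node (.node (.node (.node (.node (.node (.node (.leaf 1610618254) (.leaf 957241002266)) (.leaf 843961175298)) (.node (.leaf 596463645192) (.leaf 839129568008))) (.node (.node (.node (.leaf 261456170377) (.leaf 1403380860418)) (.leaf 1153198993664)) (.node (.leaf 692026770573) (.leaf 1125818717450)))) (.node (.node (.node (.node (.leaf 54760845966) (.leaf 285615471490)) (.leaf 996432546570)) (.node (.leaf 406948248335) (.leaf 1568200165122))) (.node (.node (.leaf 184146822296) (.leaf 863288714648)) (.node (.leaf 782221105293) (.leaf 653909004314))))) (.node (.node (.node (.node (.node (.leaf 119185370764) (.leaf 743566336004)) (.leaf 487479006726)) (.node (.leaf 193810445455) (.leaf 1247688351232))) (.node (.node (.leaf 145492097813) (.leaf 1237487747219)) (.node (.leaf 403190151045) (.leaf 689879208587))))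 (.node (.node (.node (.node (.leaf 229780763394) (.leaf 1041529726084)) (.leaf 1075352693141)) (.node (.leaf 620085968907) (.leaf 1604170683012))) (.node (.node (.leaf 219043452930) (.leaf 793495524610)) (.node (.leaf 224412094741) (.leaf 526670418074)))))) (.node (.node (.node (.node (.node (.node (.leaf 78383156738) (.leaf 28991036185)) (.leaf 880468403466)) (.node (.leaf 331786302733) (.leaf 863288769284))) (.node (.node (.leaf 118111670800) (.leaf 710817373958)) (.node (.leaf 118111670426) (.leaf 1156957241112)))) (.node (.node (.node (.node (.leaf 130996521624) (.leaf 643708411905)) (.leaf 1040456075539)) (.node (.leaf 415001313933) (.leaf 1619739780998))) (.node (.node (.leaf 462245902982) (.leaf 767188840326)) (.node (.leaf 45634074522) (.leaf 850403875098))))) (.node (.node (.node (.node (.node (.leaf 38654746636) (.leaf 907848942723)) (.leaf 955630348041)) (.node (.leaf 145492027526) (.leaf 1517197420424))) (.node (.node (.leaf 158377008912) (.leaf 1282048043533)) (.node (.leaf 748935007490) (.leaf 1659468283270)))) (.node (.node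 (.node (.node (.leaf 35970396954) (.leaf 1641214621698)) (.leaf 1119376118413)) (.node (.leaf 289373577346) (.leaf 1690606759686))) (.node (.node (.leaf 236223332874) (.leaf 1363115570581)) (.node (.leaf 807990915215) (.leaf 44560445850))))))
def dF_281 : BT := .node (.node (.node (.node (.node (.node (.node (.leaf 49392126723) (.leaf 1282047927559)) (.leaf 440234353538)) (.node (.leaf 272730488333) (.leaf 1415728798080))) (.node (.node (.leaf 264677425542) (.leaf 1176284447362)) (.node (.leaf 713501612173) (.leaf 1763084346500)))) (.node (.node (.node (.node (.leaf 44023458195) (.leaf 906775186585)) (.leaf 1018444362893)) (.node (.leaf 223338368390) (.leaf 1597191276032))) (.node (.node (.leaf 193810503172) (.leaf 1225139610754)) (.node (.leaf 796179752335) (.leaf 621696718343))))) (.node (.node (.node (.node (.node (.leaf 35970385664) (.leaf 972810325914)) (.leaf 934155609615)) (.node (.leaf 340913110419) (.leaf 918049616518))) (.node (.node (.leaf 357556064775) (.leaf 1258962467972)) (.node (.leaf 730681411717) (.leaf 1590748868762))))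 (.node (.node (.node (.node (.leaf 65498309784) (.leaf 1612760497409)) (.leaf 639950388760)) (.node (.leaf 635655226501) (.leaf 1056562353418))) (.node (.node (.leaf 530965385732) (.leaf 1341640673920)) (.node (.leaf 505732519700) (.leaf 1318018305946)))))) (.node (.node (.node (.node (.node (.node (.leaf 98784268174) (.leaf 613643647386)) (.leaf 901943330816)) (.node (.leaf 28991036179) (.leaf 888521706392))) (.node (.node (.leaf 315680170263) (.leaf 724239150984)) (.node (.leaf 184146766737) (.leaf 1811402739204)))) (.node (.node (.node (.node (.leaf 213674645376) (.leaf 1445793582339)) (.leaf 1058709586566)) (.node (.leaf 530428587533) (.leaf 1646583332360))) (.node (.node (.leaf 209379771024) (.leaf 777389391882)) (.node (.leaf 264677503898) (.leaf 1353451768602))))) (.node (.node (.node (.node (.node (.leaf 1073743873) (.leaf 1577326955802)) (.leaf 531502435974)) (.node (.leaf 554587784333) (.leaf 1539209136130))) (.node (.node (.leaf 175020011793) (.leaf 198105573018)) (.node (.leaf 497142646790) (.leaf 1421634436105)))) (.node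 (.node (.node (.node (.leaf 253403098515) (.leaf 1263794316058)) (.leaf 1134945378577)) (.node (.leaf 671088711298) (.leaf 1714765956234))) (.node (.node (.leaf 242128919056) (.leaf 1377610957827)) (.node (.leaf 408558961416) (.leaf 1466194534554))))))
def dF_282 : BT := .node dF_280 dF_281
def dF_283 : BT := .node dF_279 dF_282
def dF_284 : BT := .node dF_276 dF_283
def dF_285 : BT := .node dF_269 dF_284
def dF_286 : BT := .node (.node (.node (.node (.node (.node (.node (.leaf 396) (.leaf 1309965114778)) (.leaf 409632704138)) (.node (.leaf 243202662424) (.leaf 828392146440))) (.node (.node (.node (.leaf 255013713549) (.leaf 691490003594)) (.leaf 1137092862741)) (.node (.leaf 298500388100) (.leaf 1107028230657)))) (.node (.node (.node (.node (.leaf 83751892506) (.leaf 341450044544)) (.leaf 980863284616)) (.node (.leaf 567472689295) (.leaf 955093721096))) (.node (.node (.leaf 178778109072) (.leaf 277025497857)) (.node (.leaf 768262458253) (.leaf 1340030143514))))) (.node (.node (.node (.node (.node (.leaf 103616090262) (.leaf 340376239385))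 (.leaf 905164573463)) (.node (.leaf 139049597978) (.leaf 1459215483270))) (.node (.node (.leaf 132607191556) (.leaf 1222992229122)) (.node (.leaf 506269322246) (.leaf 1814623966598)))) (.node (.node (.node (.node (.leaf 7516242202) (.leaf 1513976288008)) (.leaf 1061930817024)) (.node (.leaf 602906097282) (.leaf 1035624382977))) (.node (.node (.leaf 209916643216) (.leaf 1308354724377)) (.node (.leaf 208842899354) (.leaf 602369470234)))))) (.node (.node (.node (.node (.node (.node (.leaf 54223975191) (.leaf 496605712025)) (.leaf 441308096262)) (.node (.leaf 1073741978) (.leaf 1418413152905))) (.node (.node (.leaf 281320423703) (.leaf 688268790788)) (.node (.leaf 716722746760) (.leaf 1139240497158)))) (.node (.node (.node (.node (.leaf 186294250774) (.leaf 739271400715)) (.leaf 582505184004)) (.node (.leaf 224412094739) (.leaf 1600412425348))) (.node (.node (.leaf 197568600580) (.leaf 768262567427)) (.node (.leaf 376346699929) (.leaf 200253178778))))) (.node (.node (.node (.node (.node (.leaf 149250123395) (.leaf 606127404185)) (.leaf 514322557702))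 (.node (.leaf 352187402259) (.leaf 921807713802))) (.node (.node (.leaf 360777338775) (.leaf 753230190984)) (.node (.leaf 736050102155) (.leaf 1193464224538)))) (.node (.node (.node (.node (.leaf 248034377092) (.leaf 1577863903368)) (.leaf 1102733116173)) (.node (.leaf 639413323015) (.leaf 1673963756170))) (.node (.node (.leaf 537407837190) (.leaf 1344324956170)) (.node (.leaf 805306560020) (.leaf 428959960985))))))
def dF_287 : BT := .node (.node (.node (.node (.node (.node (.node (.leaf 27380423044) (.leaf 818191664666)) (.leaf 847182501141)) (.node (.leaf 264140631690) (.leaf 840740181770))) (.node (.node (.node (.leaf 157840110865) (.leaf 1237487885314)) (.leaf 1158567588363)) (.node (.leaf 696321647108) (.leaf 1744830880019)))) (.node (.node (.node (.node (.leaf 137975855887) (.leaf 1234803393178)) (.leaf 562640954244)) (.node (.leaf 198105413783) (.leaf 1575179488002))) (.node (.node (.leaf 419833153167) (.leaf 613106730753)) (.node (.leaf 785442331533) (.leaf 849867056154))))) (.node (.node (.node (.node (.node (.leaf 124017187854)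 (.leaf 362924810754)) (.leaf 920196859658)) (.node (.leaf 483720834330) (.leaf 1479616450048))) (.node (.node (.leaf 341449945354) (.leaf 1241782715537)) (.node (.leaf 657130152976) (.leaf 941134946059)))) (.node (.node (.node (.node (.leaf 54760888338) (.leaf 1600949328538)) (.leaf 639950384130)) (.node (.leaf 623307195521) (.leaf 515396299418))) (.node (.node (.leaf 511101228819) (.leaf 798327363972)) (.node (.leaf 298500298261) (.leaf 117037927450)))))) (.node (.node (.node (.node (.node (.node (.leaf 81604383233) (.leaf 309774602890)) (.leaf 884226501379)) (.node (.leaf 16106129178) (.leaf 1036161203458))) (.node (.node (.leaf 299037126280) (.leaf 1204201742741)) (.node (.leaf 46170946330) (.leaf 1165010306306)))) (.node (.node (.node (.node (.leaf 45634074387) (.leaf 285615589786)) (.leaf 1043677198855)) (.node (.leaf 428959960975) (.leaf 1624034834689))) (.node (.node (.leaf 203474187016) (.leaf 1290100985344)) (.node (.leaf 36507230741) (.leaf 1089848266266))))) (.node (.node (.node (.node (.node (.leaf 60666451098) (.leaf 772557403394))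 (.leaf 959925419543)) (.node (.leaf 395137032970) (.leaf 1144072137098))) (.node (.node (.leaf 380104695053) (.leaf 1285269191680)) (.node (.leaf 352724368644) (.leaf 1805497307522)))) (.node (.node (.node (.node (.leaf 35970361875) (.leaf 1758789378330)) (.leaf 654445909638)) (.node (.leaf 656593281939) (.leaf 1089311484288))) (.node (.node (.leaf 557272063755) (.leaf 816580983064)) (.node (.leaf 395137184769) (.leaf 198642284807))))))
def dF_288 : BT := .node dF_286 dF_287
def dF_289 : BT := .node (.node (.node (.node (.node (.node (.node (.leaf 15032387084) (.leaf 696858774170)) (.leaf 419296382616)) (.node (.leaf 255550695302) (.leaf 1226750365081))) (.node (.node (.node (.leaf 258771825806) (.leaf 1627792846106)) (.leaf 1145682685699)) (.node (.leaf 309774680068) (.leaf 1731945928584)))) (.node (.node (.node (.node (.leaf 132070253332) (.leaf 1510218174234)) (.leaf 555661630212)) (.node (.leaf 284541651215) (.leaf 965294271622))) (.node (.node (.leaf 410706291211) (.leaf 409095732993)) (.node (.leaf 774704910743) (.leaf 803696001562)))))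 (.node (.node (.node (.node (.node (.leaf 57445201434) (.leaf 806917229063)) (.leaf 486405263876)) (.node (.leaf 278099198733) (.leaf 901943482754))) (.node (.node (.leaf 332860008203) (.leaf 733365959576)) (.node (.leaf 602369306896) (.leaf 995359034650)))) (.node (.node (.node (.node (.leaf 222264574469) (.leaf 1271310618010)) (.leaf 1069447006344)) (.node (.leaf 272193698564) (.leaf 1047972416640))) (.node (.node (.leaf 500363809171) (.leaf 1318555148038)) (.node (.leaf 340913110421) (.leaf 895500935450)))))) (.node (.node (.node (.node (.node (.node (.leaf 9126821906) (.leaf 184683728922)) (.leaf 449898032644)) (.node (.leaf 127775307535) (.leaf 858993800324))) (.node (.node (.leaf 253403139345) (.leaf 1191853590279)) (.node (.leaf 193810445457) (.leaf 1147293562776)))) (.node (.node (.node (.node (.leaf 35433500058) (.leaf 647466569867)) (.leaf 1035087365137)) (.node (.leaf 362924823059) (.leaf 997506538758))) (.node (.node (.leaf 200252957954) (.leaf 921270744073)) (.node (.leaf 36507389466) (.leaf 808527825281))))) (.node (.node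 (.node (.node (.node (.leaf 162671896584) (.leaf 1505922960410)) (.leaf 948651124994)) (.node (.leaf 296352815386) (.leaf 1510218096264))) (.node (.node (.leaf 370441017495) (.leaf 759135773826)) (.node (.leaf 350576882954) (.leaf 1299764847258)))) (.node (.node (.node (.node (.leaf 251792483994) (.leaf 1468342294554)) (.leaf 1112933665933)) (.node (.leaf 285078608536) (.leaf 1075889709185))) (.node (.node (.leaf 547608456599) (.leaf 1356672989067)) (.node (.leaf 490163261191) (.leaf 376346673946))))))
def dF_290 : BT := .node (.node (.node (.node (.node (.node (.node (.leaf 6979331861) (.leaf 793495525146)) (.leaf 857383050901)) (.node (.leaf 30064778253) (.leaf 1408749474951))) (.node (.node (.leaf 271656744461) (.leaf 1009317593348)) (.node (.leaf 709743423881) (.leaf 1138703622658)))) (.node (.node (.node (.node (.leaf 43486586264) (.leaf 749471971865)) (.leaf 1010391297301)) (.node (.leaf 208305963543) (.leaf 982474148376))) (.node (.node (.leaf 431644314899) (.leaf 278099280792)) (.node (.leaf 375272956290) (.leaf 1581085233818)))))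 (.node (.node (.node (.node (.node (.leaf 137438961931) (.leaf 1321776439815)) (.leaf 926639413257)) (.node (.leaf 240518225943) (.leaf 1491427682457))) (.node (.node (.leaf 351650483586) (.leaf 1252520136341)) (.node (.leaf 724239032979) (.leaf 666793762328)))) (.node (.node (.node (.node (.leaf 237296967563) (.leaf 1487132838426)) (.leaf 1089311340175)) (.node (.leaf 630286516744) (.leaf 1453846696833))) (.node (.node (.leaf 223338424088) (.leaf 805306686977)) (.node (.leaf 603979920021) (.leaf 1171452613402)))))) (.node (.node (.node (.node (.node (.node (.leaf 92878673027) (.leaf 289373502722)) (.leaf 896037662470)) (.node (.leaf 152471375375) (.leaf 1447404187146))) (.node (.node (.leaf 255013756697) (.leaf 721017923978)) (.node (.leaf 389768326278) (.leaf 1803349673992)))) (.node (.node (.node (.node (.leaf 48318431504) (.leaf 1422708204289)) (.leaf 620623025792)) (.node (.leaf 497679454095) (.leaf 1634235446150))) (.node (.node (.leaf 208306027280) (.leaf 795643001092)) (.node (.leaf 352724369050) (.leaf 462245965449))))) (.node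 (.node (.node (.node (.node (.leaf 1073767706) (.leaf 1314796979994)) (.leaf 529891821569)) (.node (.leaf 499826870922) (.leaf 942745686424))) (.node (.node (.leaf 390305213962) (.leaf 797790393221)) (.node (.leaf 759672425992) (.leaf 940598223386)))) (.node (.node (.node (.node (.leaf 232465141010) (.leaf 1395327832984)) (.leaf 657130265624)) (.node (.leaf 296889772930) (.leaf 1102196389504))) (.node (.node (.leaf 243202658560) (.leaf 901943441418)) (.node (.leaf 821412667910) (.leaf 599148019226))))))
def dF_291 : BT := .node dF_289 dF_290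
def dF_292 : BT := .node dF_288 dF_291
def dF_293 : BT := .node (.node (.node (.node (.node (.node (.node (.leaf 536872706) (.leaf 780073644442)) (.leaf 415001414680)) (.node (.leaf 588410654989) (.leaf 831613372824))) (.node (.node (.node (.leaf 257161209740) (.leaf 1432908757515)) (.leaf 1140850847620)) (.node (.leaf 306016582424) (.leaf 1114544424836)))) (.node (.node (.node (.node (.leaf 16643012608) (.leaf 272730488323)) (.leaf 554051016472)) (.node (.leaf 151397633303) (.leaf 1553167880326))) (.node (.node (.leaf 404263893005) (.leaf 450971716096)) (.node (.leaf 362924920582) (.leaf 951872369434))))) (.node (.node (.node (.node (.node (.leaf 111132285572) (.leaf 296889685145)) (.leaf 907312057623)) (.node (.leaf 338765587846) (.leaf 895501030400))) (.node (.node (.leaf 326954418181) (.leaf 1228360939543)) (.node (.leaf 223875223697) (.leaf 1449014993417)))) (.node (.node (.node (.node (.leaf 216358991239) (.leaf 905164594308)) (.leaf 1066762651268)) (.node (.leaf 606664275213) (.leaf 1656247044481))) (.node (.node (.leaf 493921322903)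 (.leaf 785442457352)) (.node (.leaf 277562413082) (.leaf 1075352767105)))))) (.node (.node (.node (.node (.node (.node (.leaf 61740163983) (.leaf 403727318554)) (.leaf 870804728064)) (.node (.leaf 292594717210) (.leaf 855772573080))) (.node (.node (.leaf 285078482184) (.leaf 690953146374)) (.node (.leaf 720480845825) (.leaf 808527866754)))) (.node (.node (.node (.node (.leaf 45097202192) (.leaf 1125818570905)) (.leaf 1031866040838)) (.node (.leaf 351113617922) (.leaf 1605244409621))) (.node (.node (.leaf 446139775112) (.leaf 1258425717635)) (.node (.leaf 426812566663) (.leaf 828928785562))))) (.node (.node (.node (.node (.node (.leaf 155692574085) (.leaf 892816519297)) (.leaf 514859429528)) (.node (.leaf 375272856973) (.leaf 1416265824651))) (.node (.node (.leaf 153545168385) (.leaf 1269700009623)) (.node (.leaf 345208173062) (.leaf 1187021805319)))) (.node (.node (.node (.node (.leaf 251255613206) (.leaf 806917240456)) (.leaf 1105954232712)) (.node (.leaf 422517500689) (.leaf 1066762902282))) (.node (.node (.leaf 543313485847) (.leaf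 809064786308)) (.node (.leaf 753230069140) (.leaf 28454186010))))))
def dF_294 : BT := .node (.node (.node (.node (.node (.node (.node (.leaf 6442459288) (.leaf 309237675785)) (.leaf 852551211535)) (.node (.leaf 280246683034) (.leaf 842350795650))) (.node (.node (.node (.leaf 267361741953) (.leaf 1817308470408)) (.leaf 1165010156815)) (.node (.leaf 702764116372) (.leaf 1739999042688)))) (.node (.node (.node (.node (.leaf 158376956940) (.leaf 284541648389)) (.leaf 566935922944)) (.node (.leaf 197568542739) (.leaf 977642307844))) (.node (.node (.leaf 425201807368) (.leaf 28454407066)) (.node (.leaf 784905459968) (.leaf 1066762847514))))) (.node (.node (.node (.node (.node (.leaf 130996519296) (.leaf 755914424345)) (.leaf 922881255815)) (.node (.leaf 220117110278) (.leaf 1485522029706))) (.node (.node (.leaf 346281773448) (.leaf 1247688215431)) (.node (.leaf 713501612176) (.leaf 557272232090)))) (.node (.node (.node (.node (.leaf 60129597970) (.leaf 905164538630)) (.leaf 914828292354)) (.node (.leaf 625991632663) (.leaf 1537598663322)))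 (.node (.node (.leaf 222801551627) (.leaf 180388669443)) (.node (.leaf 686658060180) (.leaf 847182501145)))))) (.node (.node (.node (.node (.node (.node (.leaf 88046840204) (.leaf 309237734402)) (.leaf 460098584074)) (.node (.leaf 536871055) (.leaf 870268092680))) (.node (.node (.leaf 303869007383) (.leaf 886374073088)) (.node (.leaf 241055096977) (.leaf 1797444173957)))) (.node (.node (.node (.node (.leaf 203474122775) (.leaf 1212791582853)) (.leaf 1048509141139)) (.node (.leaf 474593999375) (.leaf 1023813217798))) (.node (.node (.leaf 471909641869) (.leaf 769873196545)) (.node (.leaf 197568601370) (.leaf 603443118746))))) (.node (.node (.node (.node (.node (.leaf 60666450827) (.leaf 311385289993)) (.leaf 965294027266)) (.node (.leaf 46170900234) (.leaf 940598201625))) (.node (.node (.leaf 384399648903) (.leaf 992137663490)) (.node (.leaf 755914424339) (.leaf 1777043027482)))) (.node (.node (.node (.node (.leaf 241055098386) (.leaf 1577863903749)) (.leaf 657130265090)) (.node (.leaf 659277637135) (.leaf 1097901420804))) (.node (.node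 (.leaf 562103902592) (.leaf 1371705375238)) (.node (.leaf 816580851853) (.leaf 340913255706))))))
def dF_295 : BT := .node dF_293 dF_294
def dF_296 : BT := .node (.node (.node (.node (.node (.node (.node (.leaf 1073746837) (.leaf 193810503834)) (.leaf 842350661779)) (.node (.leaf 594853083542) (.leaf 1392106505089))) (.node (.node (.node (.leaf 260919285640) (.leaf 1125818545283)) (.leaf 668941431046)) (.node (.leaf 691489808644) (.leaf 1134945522432)))) (.node (.node (.node (.node (.leaf 87509993222) (.leaf 758062031130)) (.leaf 995358908173)) (.node (.leaf 298500298253) (.leaf 1532229956234))) (.node (.node (.leaf 415538135435) (.leaf 1081795038474)) (.node (.leaf 780610394763) (.leaf 224949068186))))) (.node (.node (.node (.node (.node (.leaf 28991057416) (.leaf 306016463770)) (.leaf 915365087512)) (.node (.leaf 414464456858) (.leaf 1473710965764))) (.node (.node (.leaf 337155013007) (.leaf 738734669848)) (.node (.leaf 649613958416) (.leaf 663035710488)))) (.node (.node (.node (.node (.leaf 228707061654) (.leaf 505732579850)) (.leaf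 1074815822093)) (.node (.leaf 272730570760) (.leaf 1050119901576))) (.node (.node (.leaf 504658743312) (.leaf 792421782169)) (.node (.leaf 208842834581) (.leaf 145492051865)))))) (.node (.node (.node (.node (.node (.node (.leaf 76235679622) (.leaf 9126822298)) (.leaf 879394663554)) (.node (.leaf 278636071066) (.leaf 1436130027655))) (.node (.node (.leaf 118111670538) (.leaf 1198296161303)) (.node (.leaf 45634038417) (.leaf 1784022340486)))) (.node (.node (.node (.node (.leaf 8589944729) (.leaf 1040456003975)) (.leaf 606664378498)) (.node (.leaf 446139834253) (.leaf 1003948991233))) (.node (.node (.leaf 199716088968) (.leaf 1209570370841)) (.node (.leaf 51539683738) (.leaf 277025733018))))) (.node (.node (.node (.node (.node (.leaf 169651239693) (.leaf 530428587545)) (.leaf 955093476490)) (.node (.leaf 408558862618) (.leaf 1253057070089))) (.node (.node (.leaf 374735934338) (.leaf 762357000322)) (.node (.leaf 747324403074) (.leaf 1300301745176)))) (.node (.node (.node (.node (.leaf 17716756506) (.leaf 1337882631705)) (.leaf 1118302376193))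 (.node (.leaf 285615480468) (.leaf 1450625606918))) (.node (.node (.leaf 550829669766) (.leaf 1052267312394)) (.node (.leaf 807454044176) (.leaf 46170909447))))))
def dF_297 : BT := .node (.node (.node (.node (.node (.node (.node (.leaf 47781513603) (.leaf 917512578315)) (.leaf 436476256665)) (.node (.leaf 264140551703) (.leaf 1414118184713))) (.node (.node (.leaf 275414809218) (.leaf 684510693000)) (.node (.leaf 712964741135) (.leaf 1135482398854)))) (.node (.node (.node (.node (.leaf 44023458064) (.leaf 1670205583898)) (.leaf 573378376454)) (.node (.leaf 515933069594) (.leaf 988916600321))) (.node (.node (.leaf 435402355848) (.leaf 1205275485210)) (.node (.leaf 795642881293) (.leaf 1280437316740))))) (.node (.node (.node (.node (.node (.leaf 31675417877) (.leaf 419296422554)) (.leaf 506806363393)) (.node (.leaf 35970352902) (.leaf 1495185803032))) (.node (.node (.leaf 356482370447) (.leaf 1257351973515)) (.node (.leaf 729070783108) (.leaf 1534914292506)))) (.node (.node (.node (.node (.leaf 65498309392) (.leaf 1125818580229)) (.leaf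 637266033816)) (.node (.leaf 634044698259) (.leaf 1670742530052))) (.node (.node (.leaf 223875296537) (.leaf 1340566860032)) (.node (.leaf 520228037780) (.leaf 1454383469978)))))) (.node (.node (.node (.node (.node (.node (.leaf 97710520204) (.leaf 817654568449)) (.leaf 900332733953)) (.node (.leaf 392989601178) (.leaf 1438277519616))) (.node (.node (.leaf 315143299215) (.leaf 1217623401475)) (.node (.leaf 270583004177) (.leaf 1181116437913)))) (.node (.node (.node (.node (.leaf 52613400088) (.leaf 966904728576)) (.leaf 1058172819859)) (.node (.leaf 526133619213) (.leaf 1027034447000))) (.node (.node (.leaf 209379770762) (.leaf 1304596501387)) (.node (.leaf 336618234778) (.leaf 1185948225690))))) (.node (.node (.node (.node (.node (.leaf 536875290) (.leaf 617401616666)) (.leaf 975494679697)) (.node (.leaf 551366509190) (.leaf 950261880856))) (.node (.node (.leaf 193810493312) (.leaf 620622923015)) (.node (.leaf 361314305812) (.leaf 1541893653123)))) (.node (.node (.node (.node (.leaf 78920084486) (.leaf 1251983376538)) (.leaf 1133871636503))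 (.node (.leaf 669478186894) (.leaf 1714229230733))) (.node (.node (.leaf 575525675398) (.leaf 826781532680)) (.node (.leaf 826781401613) (.leaf 522912442138))))))
def dF_298 : BT := .node dF_296 dF_297
def dF_299 : BT := .node dF_295 dF_298
def dF_300 : BT := .node dF_292 dF_299
def dF_301 : BT := .node (.node (.node (.node (.node (.node (.node (.leaf 912) (.leaf 370977907738)) (.leaf 414464543128)) (.node (.leaf 246423888390) (.leaf 831076501528))) (.node (.node (.node (.leaf 255550595606) (.leaf 898722178313)) (.leaf 1139240232458)) (.node (.leaf 298500388761) (.leaf 1110249456772)))) (.node (.node (.node (.node (.leaf 41339070234) (.leaf 293131587865)) (.leaf 984621438982)) (.node (.leaf 581968207373) (.leaf 1549946633985))) (.node (.node (.leaf 401579521299) (.leaf 887447829786)) (.node (.leaf 769336200337) (.leaf 752693245978))))) (.node (.node (.node (.node (.node (.leaf 106837316364) (.leaf 629212795018)) (.leaf 906238315543)) (.node (.leaf 311385203213) (.leaf 1462436577920))) (.node (.node (.leaf 323733191686) (.leaf 728534119940))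 (.node (.leaf 298500388506) (.leaf 1810866019200)))) (.node (.node (.node (.node (.leaf 67645737104) (.leaf 1486595826586)) (.leaf 624381124616)) (.node (.leaf 605053581323) (.leaf 1654099528192))) (.node (.node (.leaf 491773871375) (.leaf 1311575825029)) (.node (.leaf 64961395861) (.leaf 634044806938)))))) (.node (.node (.node (.node (.node (.node (.leaf 8053077784) (.leaf 296352814105)) (.leaf 623844206854)) (.node (.leaf 233002012186) (.leaf 854698830600))) (.node (.node (.leaf 113279830022) (.leaf 690416275082)) (.node (.leaf 718333451533) (.leaf 1772211153162)))) (.node (.node (.node (.node (.leaf 45097201924) (.leaf 1605244264712)) (.leaf 599685053953)) (.node (.leaf 339839368343) (.leaf 994822182272))) (.node (.node (.leaf 443455421441) (.leaf 352724273281)) (.node (.leaf 384936635288) (.leaf 724239056282))))) (.node (.node (.node (.node (.node (.leaf 152471347844) (.leaf 1105417617690)) (.leaf 941671804175)) (.node (.leaf 169114376474) (.leaf 1502165167257))) (.node (.node (.leaf 153008296848) (.leaf 755914546566)) (.node (.leaf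 345208172673) (.leaf 373662320008)))) (.node (.node (.node (.node (.leaf 249644990474) (.leaf 1693827920410)) (.leaf 1104343729299)) (.node (.leaf 642634549508) (.leaf 1676111380483))) (.node (.node (.leaf 231391492121) (.leaf 1346472549514)) (.node (.leaf 738734551060) (.leaf 408559073050))))))
def dF_302 : BT := .node (.node (.node (.node (.node (.node (.node (.leaf 6442458250) (.leaf 277025497863)) (.leaf 427349448576)) (.node (.leaf 601832355976) (.leaf 841813924352))) (.node (.node (.node (.leaf 110058600203) (.leaf 1395327933446)) (.leaf 1162862672652)) (.node (.leaf 311922166936) (.leaf 1127966202632)))) (.node (.node (.node (.node (.leaf 118648499982) (.leaf 898722120985)) (.leaf 563714696833)) (.node (.leaf 426275607066) (.leaf 975494823558))) (.node (.node (.leaf 185220565514) (.leaf 1033476757657)) (.node (.leaf 787589814913) (.leaf 822486564890))))) (.node (.node (.node (.node (.node (.leaf 64961410688) (.leaf 1283658661914)) (.leaf 921807575693)) (.node (.leaf 541166008474) (.leaf 1482300818584))) (.node (.node (.leaf 344134290565)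 (.leaf 740882155146)) (.node (.leaf 710817256976) (.leaf 537407946113)))) (.node (.node (.node (.node (.leaf 233002012173) (.leaf 841813838090)) (.leaf 630823579008)) (.node (.leaf 624917890579) (.leaf 951335485594))) (.node (.node (.leaf 220117196313) (.leaf 882079112712)) (.node (.leaf 639413408661) (.leaf 625454761625)))))) (.node (.node (.node (.node (.node (.node (.leaf 85362483862) (.leaf 617938670874)) (.leaf 457414228736)) (.node (.leaf 53687104013) (.leaf 1442035516441))) (.node (.node (.leaf 302258394253) (.leaf 713501729800)) (.node (.leaf 922) (.leaf 1795296608642)))) (.node (.node (.node (.node (.leaf 46170946450) (.leaf 841277053082)) (.leaf 1046361553674)) (.node (.leaf 452582226186) (.leaf 1010391444358))) (.node (.node (.leaf 468688412567) (.leaf 1291711721218)) (.node (.leaf 43486554261) (.leaf 1457067984282))))) (.node (.node (.node (.node (.node (.leaf 71403831450) (.leaf 816043930881)) (.leaf 524523110408)) (.node (.leaf 414464442903) (.leaf 1522566138368))) (.node (.node (.leaf 381715308173) (.leaf 1286879758596))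 (.node (.leaf 753766940183) (.leaf 1772748035203)))) (.node (.node (.node (.node (.leaf 93415551251) (.leaf 1759863086234)) (.leaf 1125281699863)) (.node (.leaf 293131674884) (.leaf 1697586084097))) (.node (.node (.leaf 559419622669) (.leaf 1369021152021)) (.node (.leaf 814970237697) (.leaf 185757379865))))))
def dF_303 : BT := .node dF_301 dF_302
def dF_304 : BT := .node (.node (.node (.node (.node (.node (.node (.leaf 17179871254) (.leaf 774705083802)) (.leaf 841276919702)) (.node (.leaf 593242451863) (.leaf 838055825160))) (.node (.node (.node (.leaf 93415600646) (.leaf 1234803331202)) (.leaf 1148367154581)) (.node (.leaf 309774680596) (.leaf 1584843345799)))) (.node (.node (.node (.node (.leaf 65498267030) (.leaf 1402307108762)) (.leaf 561567210880)) (.node (.leaf 289373490573) (.leaf 966904885124))) (.node (.node (.leaf 413390699661) (.leaf 830002625560)) (.node (.leaf 777389265933) (.leaf 883689670298))))) (.node (.node (.node (.node (.node (.leaf 96099897234) (.leaf 6442452505)) (.leaf 914291347975)) (.node (.leaf 175019959059)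 (.leaf 902480354182))) (.node (.node (.leaf 335007528851) (.leaf 1234803392013)) (.node (.leaf 525596748176) (.leaf 565862161306)))) (.node (.node (.node (.node (.leaf 226559538571) (.leaf 817117797641)) (.leaf 1072668232192)) (.node (.leaf 272193698964) (.leaf 1048509288328))) (.node (.node (.leaf 501974421395) (.leaf 790274297730)) (.node (.leaf 445066049675) (.leaf 1180042484506)))))) (.node (.node (.node (.node (.node (.node (.leaf 9663693583) (.leaf 817117854618)) (.leaf 876710307972)) (.node (.leaf 334470657939) (.leaf 1432908805783))) (.node (.node (.leaf 290447223817) (.leaf 695784987160)) (.node (.leaf 309774680474) (.leaf 1149977918104)))) (.node (.node (.node (.node (.leaf 92878680090) (.leaf 841276873481)) (.leaf 1037234846728)) (.node (.leaf 390305194506) (.leaf 1613297328899))) (.node (.node (.leaf 199179217158) (.leaf 877247359619)) (.node (.leaf 28991107098) (.leaf 198642443162))))) (.node (.node (.node (.node (.node (.leaf 166430015628) (.leaf 1075352597761)) (.leaf 519691269894)) (.node (.leaf 389768375063) (.leaf 935766360320)))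 (.node (.node (.leaf 157840136852) (.leaf 1279363588740)) (.node (.leaf 413927650952) (.leaf 1473174212608)))) (.node (.node (.node (.node (.leaf 110058563471) (.leaf 1487669512986)) (.leaf 1115081150103)) (.node (.leaf 419296336774) (.leaf 1686848750617))) (.node (.node (.leaf 232465235968) (.leaf 1360431085062)) (.node (.leaf 498216324890) (.leaf 1492501387907))))))
def dF_305 : BT := .node (.node (.node (.node (.node (.node (.node (.leaf 8589945346) (.leaf 692026692122)) (.leaf 859530535053)) (.node (.leaf 28454165135) (.leaf 1411970761227))) (.node (.node (.leaf 273267359245) (.leaf 927176344320)) (.node (.leaf 710817256979) (.leaf 1758252507908)))) (.node (.node (.node (.node (.leaf 179314919180) (.leaf 1240708898433)) (.leaf 568546537624)) (.node (.leaf 214211530759) (.leaf 1592896254617))) (.node (.node (.leaf 186294309896) (.leaf 824633917442)) (.node (.leaf 793495397135) (.leaf 1581622098842))))) (.node (.node (.node (.node (.node (.leaf 140123317120) (.leaf 738734669850)) (.leaf 929860540422)) (.node (.leaf 576599497114) (.leaf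 1388885405320))) (.node (.node (.leaf 354334839171) (.leaf 1254667500800)) (.node (.leaf 726923298437) (.leaf 535260486273)))) (.node (.node (.node (.node (.leaf 102542401305) (.leaf 1252520136345)) (.leaf 1093069423616)) (.node (.leaf 631897130115) (.leaf 1410896984064))) (.node (.node (.leaf 526133547144) (.leaf 1338956246532)) (.node (.leaf 606664275220) (.leaf 836445074311)))))) (.node (.node (.node (.node (.node (.node (.leaf 17716762628) (.leaf 1299764662298)) (.leaf 898185220618)) (.node (.leaf 6979323533) (.leaf 1449551671817))) (.node (.node (.leaf 312458901643) (.leaf 721554795268)) (.node (.leaf 242128839057) (.leaf 1180042695304)))) (.node (.node (.node (.node (.leaf 52613399434) (.leaf 1198296206985)) (.leaf 620623026184)) (.node (.leaf 519691166733) (.leaf 1021128865794))) (.node (.node (.leaf 208842899083) (.leaf 773094423832)) (.node (.leaf 345208173338) (.leaf 857919919360))))) (.node (.node (.node (.node (.node (.leaf 124017211147) (.leaf 926102544025)) (.leaf 972810324501)) (.node (.leaf 54223975053) (.leaf 1533840421637)))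 (.node (.node (.leaf 392452679045) (.leaf 264677565082)) (.node (.leaf 761820005775) (.leaf 1787243652616)))) (.node (.node (.node (.node (.leaf 179314919187) (.leaf 1768453055752)) (.leaf 658740878850)) (.node (.leaf 299037256832) (.leaf 1102733261320))) (.node (.node (.leaf 571230708992) (.leaf 1374389730310)) (.node (.leaf 407485218584) (.leaf 806917173145))))))
def dF_306 : BT := .node dF_304 dF_305
def dF_307 : BT := .node dF_303 dF_306
def dF_308 : BT := .node (.node (.node (.node (.node (.node (.node (.leaf 2684355354) (.leaf 518080803866)) (.leaf 419296382340)) (.node (.leaf 590558067085) (.leaf 1386737765376))) (.node (.node (.node (.leaf 257698081815) (.leaf 1673963830017)) (.leaf 1143535315212)) (.node (.leaf 683973616256) (.leaf 1729261540096)))) (.node (.node (.node (.node (.leaf 78920052363) (.leaf 1460826016263)) (.leaf 795642927242)) (.node (.leaf 153008246413) (.leaf 1551020435712))) (.node (.node (.leaf 180388723585) (.leaf 890668953240)) (.node (.leaf 773094297615) (.leaf 973347020954))))) (.node (.node (.node (.node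 (.node (.leaf 28454185484) (.leaf 487478874625)) (.leaf 485868392456)) (.node (.leaf 275951714573) (.leaf 1467805371654))) (.node (.node (.leaf 139049645062) (.leaf 731218475528)) (.node (.leaf 712964741136) (.leaf 1285269126298)))) (.node (.node (.node (.node (.leaf 219580255255) (.leaf 1125281846938)) (.leaf 1068373264006)) (.node (.leaf 268435601286) (.leaf 1040456223000))) (.node (.node (.leaf 214748483330) (.leaf 1316407664132)) (.node (.leaf 309774680602) (.leaf 200252897945)))))) (.node (.node (.node (.node (.node (.node (.leaf 9126821259) (.leaf 340376283521)) (.leaf 872952311053)) (.node (.leaf 324806979354) (.leaf 858456928770))) (.node (.node (.leaf 117037927316) (.leaf 691490018056)) (.node (.leaf 719407103366) (.leaf 1349157024898)))) (.node (.node (.node (.node (.leaf 193810410118) (.leaf 1351841157146)) (.leaf 1033476752017)) (.node (.leaf 355945499539) (.leaf 1608465489674))) (.node (.node (.leaf 204011053593) (.leaf 872415486730)) (.node (.leaf 720480935578) (.leaf 847182501640))))) (.node (.node (.node (.node (.node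 (.leaf 159450698635) (.leaf 782221083651)) (.leaf 946503540868)) (.node (.leaf 117037869317) (.leaf 926102682624))) (.node (.node (.leaf 368293532183) (.leaf 1272921235857)) (.node (.leaf 743029455106) (.leaf 1331440179336)))) (.node (.node (.node (.node (.leaf 252329355405) (.leaf 1363115492363)) (.leaf 648003455364)) (.node (.leaf 644782065792) (.leaf 1068910386560))) (.node (.node (.leaf 545460971535) (.leaf 811212270986)) (.node (.leaf 739808199048) (.leaf 555661630746))))))
def dF_309 : BT := .node (.node (.node (.node (.node (.node (.node (.leaf 38117843724) (.leaf 947577349377)) (.leaf 855772335882)) (.node (.leaf 245350065434) (.leaf 1406065253781))) (.node (.node (.node (.leaf 110595472144) (.leaf 1817845324042)) (.leaf 676457627289)) (.node (.leaf 322659586566) (.leaf 1752346926346)))) (.node (.node (.node (.node (.leaf 151934490501) (.leaf 1127429331354)) (.leaf 567472794498)) (.node (.leaf 462245967770) (.leaf 979789792776))) (.node (.node (.leaf 185757437832) (.leaf 334470642179)) (.node (.leaf 737123950489) (.leaf 1570347696282)))))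 (.node (.node (.node (.node (.node (.leaf 134217735302) (.leaf 925028940570)) (.leaf 924491929753)) (.node (.leaf 237833870337) (.leaf 1489280126980))) (.node (.node (.leaf 147639584025) (.leaf 1251446310150)) (.node (.leaf 722628342275) (.leaf 981400307328)))) (.node (.node (.node (.node (.leaf 235149511556) (.leaf 1128502877830)) (.leaf 632971064217)) (.node (.leaf 277025540481) (.leaf 911607035531))) (.node (.node (.leaf 519154225154) (.leaf 853088094106)) (.node (.leaf 658203895060) (.leaf 673236281498)))))) (.node (.node (.node (.node (.node (.node (.leaf 16106148877) (.leaf 630286539786)) (.leaf 893353308423)) (.node (.leaf 349503047194) (.leaf 1445793710735))) (.node (.node (.leaf 306016478727) (.leaf 716722955780)) (.node (.leaf 117037927194) (.leaf 1799591657601)))) (.node (.node (.node (.node (.leaf 205084735887) (.leaf 1204201635203)) (.leaf 1051193392520)) (.node (.leaf 487478904343) (.leaf 1013612671385))) (.node (.node (.leaf 472983372310) (.leaf 1297080307464)) (.node (.leaf 112206086042) (.leaf 869731021466))))) (.node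 (.node (.node (.node (.node (.leaf 63887678347) (.leaf 375272952194)) (.leaf 966904743057)) (.node (.leaf 474057128333) (.leaf 1527934840453))) (.node (.node (.leaf 388157709193) (.leaf 993211405958)) (.node (.leaf 656593306118) (.leaf 1807107797382)))) (.node (.node (.node (.node (.leaf 219043384466) (.leaf 1477469069082)) (.leaf 1127966055059)) (.node (.leaf 661961905664) (.leaf 1099512034328))) (.node (.node (.leaf 240518303380) (.leaf 985158338058)) (.node (.leaf 818728237578) (.leaf 389231603098))))))
def dF_310 : BT := .node dF_308 dF_309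
def dF_311 : BT := .node (.node (.node (.node (.node (.node (.node (.leaf 1610618649) (.leaf 376346681347)) (.leaf 803695956736)) (.node (.leaf 597537387142) (.leaf 1395327832977))) (.node (.node (.node (.leaf 152471401488) (.leaf 1243393366791)) (.leaf 1154809491974)) (.node (.leaf 310311552394) (.leaf 1126355588872)))) (.node (.node (.node (.node (.leaf 91268066839) (.leaf 1116154802330)) (.leaf 997506392337)) (.node (.leaf 408558861463) (.leaf 972273596160))) (.node (.node (.leaf 207769142552) (.leaf 984621509274)) (.node (.leaf 373662341514) (.leaf 428423131777))))) (.node (.node (.node (.node (.node (.leaf 120259091333) (.leaf 793495397145)) (.leaf 917512607377)) (.node (.leaf 464930320794) (.leaf 905701580802))) (.node (.node (.leaf 145492098073) (.leaf 739271541130)) (.node (.leaf 426275605776) (.leaf 1191853652634)))) (.node (.node (.node (.node (.leaf 230317674764) (.leaf 1272921340186)) (.leaf 629212965529)) (.node (.leaf 621159793293) (.leaf 1605781295620))) (.node (.node (.leaf 219043453456) (.leaf 793495524740)) (.node (.leaf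 627602245780) (.leaf 198105413785)))))) (.node (.node (.node (.node (.node (.node (.leaf 79456898566) (.leaf 403190151065)) (.leaf 881005303307)) (.node (.leaf 179851798415) (.leaf 864899382408))) (.node (.node (.leaf 295279030920) (.leaf 1202054258581)) (.node (.leaf 152471375377) (.leaf 1787780413568)))) (.node (.node (.node (.node (.leaf 183073024791) (.leaf 403727114249)) (.leaf 1041529817613)) (.node (.leaf 426275605773) (.leaf 1621350394625))) (.node (.node (.leaf 463319707415) (.leaf 1288490372230)) (.node (.leaf 28454327066) (.leaf 642097763482))))) (.node (.node (.node (.node (.node (.leaf 172872451968) (.leaf 277562672538)) (.leaf 520765012872)) (.node (.leaf 331249431683) (.leaf 1305670419975))) (.node (.node (.leaf 378494031755) (.leaf 761820129930)) (.node (.leaf 749471971859) (.leaf 1096827534723)))) (.node (.node (.node (.node (.leaf 9126830362) (.leaf 944356068250)) (.leaf 1120986620162)) (.node (.leaf 653908926733) (.leaf 1692217373062))) (.node (.node (.leaf 236223333273) (.leaf 1364189181962)) (.node (.leaf 809064617856)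 (.leaf 1181116195226))))))
def dF_312 : BT := .node (.node (.node (.node (.node (.node (.node (.leaf 51539610882) (.leaf 351650505370)) (.leaf 863825402628)) (.node (.leaf 194347286915) (.leaf 1372779259650))) (.node (.node (.leaf 112742957960) (.leaf 686658177288)) (.node (.leaf 331786394004) (.leaf 1137629883396)))) (.node (.node (.node (.node (.leaf 44560329602) (.leaf 686658096267)) (.leaf 576062731786)) (.node (.leaf 223338424089) (.leaf 1598264963584))) (.node (.node (.leaf 437013026451) (.leaf 1222455256217)) (.node (.leaf 797790264966) (.leaf 899795858330))))) (.node (.node (.node (.node (.node (.leaf 146028896644) (.leaf 1411970746891)) (.leaf 507343235080)) (.node (.leaf 345208031370) (.leaf 921807713410))) (.node (.node (.leaf 152471424651) (.leaf 752156448266)) (.node (.leaf 731218356503) (.leaf 1075352662658)))) (.node (.node (.node (.node (.leaf 246423805964) (.leaf 1612760604184)) (.leaf 640487260296)) (.node (.leaf 603443056896) (.leaf 1672353196440))) (.node (.node (.leaf 533112869893) (.leaf 1342714450826)) (.node (.leaf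 488552646420) (.leaf 712964831130)))))) (.node (.node (.node (.node (.node (.node (.leaf 100394875532) (.leaf 530428693402)) (.leaf 474594101529)) (.node (.leaf 285078522263) (.leaf 1456530997400))) (.node (.node (.leaf 132070319874) (.leaf 1220307756037)) (.node (.leaf 389231504017) (.leaf 1182727051416)))) (.node (.node (.node (.node (.leaf 53150271368) (.leaf 1401233366022)) (.leaf 1059246561939)) (.node (.leaf 534186684813) (.leaf 1647657074440))) (.node (.node (.leaf 484794484233) (.leaf 1306744080263)) (.node (.leaf 179851798421) (.leaf 655519650563))))) (.node (.node (.node (.node (.node (.leaf 46170902282) (.leaf 1341103886467)) (.leaf 979252670980)) (.node (.leaf 561567107853) (.leaf 1541356752001))) (.node (.node (.leaf 398358259089) (.leaf 46171008538)) (.node (.leaf 765578006792) (.leaf 1624034915714)))) (.node (.node (.node (.node (.leaf 253939969549) (.leaf 1329292567322)) (.leaf 1135482249615)) (.node (.leaf 672162542095) (.leaf 1716376569096))) (.node (.node (.leaf 579283772677) (.leaf 1378147958424)) (.node (.leaf 828928786181)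 (.leaf 857383167258))))))
def dF_313 : BT := .node dF_311 dF_312
def dF_314 : BT := .node dF_310 dF_313
def dF_315 : BT := .node dF_307 dF_314
def dF_316 : BT := .node dF_300 dF_315
def dF_317 : BT := .node dF_285 dF_316
def dF_318 : BT := .node (.node (.node (.node (.node (.node (.node (.leaf 138) (.leaf 683436821018)) (.leaf 830539496587)) (.node (.leaf 243202662160) (.leaf 1380295374212))) (.node (.node (.node (.leaf 79993826694) (.leaf 906775190154)) (.leaf 1137092862733)) (.node (.leaf 674309937029) (.leaf 1718524052874)))) (.node (.node (.node (.node (.leaf 79993795482) (.leaf 1363115508488)) (.leaf 980326413445)) (.node (.leaf 566935818253) (.leaf 1544577841538))) (.node (.node (.leaf 399432026518) (.leaf 865436054147)) (.node (.leaf 362388048641) (.leaf 1342177492866))))) (.node (.node (.node (.node (.node (.leaf 103079230860) (.leaf 966904743065)) (.leaf 905164573455)) (.node (.leaf 586263170074) (.leaf 891206061702))) (.node (.node (.leaf 318901354497) (.leaf 1222455239946)) (.node (.leaf 224412168090) (.leaf 1814087244175))))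 (.node (.node (.node (.node (.leaf 214211545349) (.leaf 1253057007385)) (.leaf 639950380032)) (.node (.leaf 602369306899) (.leaf 1032940028042))) (.node (.node (.leaf 209916642950) (.leaf 1307817728009)) (.node (.leaf 197568542741) (.leaf 633507864858)))))) (.node (.node (.node (.node (.node (.node (.leaf 8053076618) (.leaf 214748481178)) (.leaf 865972891136)) (.node (.leaf 557272139674) (.leaf 855235700866))) (.node (.node (.leaf 113279829504) (.leaf 1180042428554)) (.node (.leaf 332323265284) (.leaf 1139240496898)))) (.node (.node (.node (.node (.leaf 44560330123) (.leaf 423054346761)) (.leaf 581968312714)) (.node (.leaf 530428591770) (.leaf 992674697600))) (.node (.node (.leaf 193810503961) (.leaf 1226213346179)) (.node (.leaf 376346699928) (.leaf 409095830554))))) (.node (.node (.node (.node (.node (.leaf 35970386578) (.leaf 272193617305)) (.leaf 514859428354)) (.node (.leaf 36507230739) (.leaf 922344584580))) (.node (.node (.leaf 233002061721) (.leaf 752693319818)) (.node (.leaf 341450075270) (.leaf 956167450881)))) (.node (.node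 (.node (.node (.leaf 247497548045) (.leaf 1228897894146)) (.leaf 1102196135810)) (.node (.leaf 278099284756) (.leaf 1059246708226))) (.node (.node (.leaf 536334094983) (.leaf 1343788213141)) (.node (.leaf 419296282261) (.leaf 428960060672))))))
def dF_319 : BT := .node (.node (.node (.node (.node (.node (.node (.leaf 26843547025) (.leaf 362388009473)) (.leaf 847182501133)) (.node (.leaf 599148000774) (.leaf 840740181506))) (.node (.node (.node (.leaf 263066803212) (.leaf 1690606904969)) (.leaf 671625787014)) (.node (.leaf 695784776072) (.leaf 1744830733058)))) (.node (.node (.node (.node (.leaf 132607154196) (.leaf 1326071451010)) (.leaf 562104083082)) (.node (.leaf 446139839642) (.leaf 973884209792))) (.node (.node (.leaf 419296243722) (.leaf 1069983873818)) (.node (.leaf 554587839238) (.leaf 389231804570))))) (.node (.node (.node (.node (.node (.leaf 122943447172) (.leaf 798327236480)) (.leaf 488015878148)) (.node (.leaf 482110221466) (.leaf 907849064704))) (.node (.node (.leaf 340913063944) (.leaf 740345283722)) (.node (.leaf 352724273296)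 (.leaf 1013612559770)))) (.node (.node (.node (.node (.leaf 231391416845) (.leaf 1487132845466)) (.leaf 637266029442)) (.node (.leaf 622233452810) (.leaf 653372129178))) (.node (.node (.leaf 510564290315) (.leaf 798327363713)) (.node (.leaf 293131587861) (.leaf 194347593882)))))) (.node (.node (.node (.node (.node (.node (.leaf 80530644246) (.leaf 1041529817625)) (.leaf 883689630082)) (.node (.leaf 258771825818) (.leaf 1439887994009))) (.node (.node (.leaf 297963384452) (.leaf 1204201742733)) (.node (.leaf 144955180817) (.leaf 1790464918145)))) (.node (.node (.node (.node (.leaf 45634074257) (.leaf 1716913356314)) (.leaf 1043140327937)) (.node (.leaf 428423089935) (.leaf 1430224496519))) (.node (.node (.leaf 203474186886) (.leaf 1289564177410)) (.node (.leaf 151397681690) (.leaf 1075352787610))))) (.node (.node (.node (.node (.node (.leaf 10200549658) (.leaf 375809709195)) (.leaf 959388444680)) (.node (.leaf 394600214413) (.leaf 1519881774848))) (.node (.node (.leaf 379567824019) (.leaf 762893872258)) (.node (.leaf 752156327055) (.leaf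 1806034178714)))) (.node (.node (.node (.node (.leaf 88046857472) (.leaf 1605244283275)) (.leaf 653909038474)) (.node (.leaf 656056324369) (.leaf 1084479645956))) (.node (.node (.leaf 556198321547) (.leaf 1365799925783)) (.node (.leaf 810675181701) (.leaf 118648573466))))))
def dF_320 : BT := .node dF_318 dF_319
def dF_321 : BT := .node (.node (.node (.node (.node (.node (.node (.leaf 536874133) (.leaf 289373577882)) (.leaf 839666306577)) (.node (.leaf 591094939031) (.leaf 1388885248906))) (.node (.node (.node (.leaf 89120633094) (.leaf 1626182288538)) (.leaf 665183332992)) (.node (.leaf 686658060173) (.leaf 1731409057540)))) (.node (.node (.node (.node (.leaf 83214999686) (.leaf 219043384345)) (.leaf 990527068813)) (.node (.leaf 173946216979) (.leaf 963683658648))) (.node (.node (.leaf 409632548872) (.leaf 832150203546)) (.node (.leaf 774704910733) (.leaf 582505307034))))) (.node (.node (.node (.node (.node (.leaf 19864228378) (.leaf 816044033946)) (.leaf 767188750730)) (.node (.leaf 277562327693) (.leaf 1418413299968))) (.node (.node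 (.leaf 332323142145) (.leaf 1231582165781)) (.node (.leaf 621696664336) (.leaf 311385357338)))) (.node (.node (.node (.node (.leaf 221727700744) (.leaf 1737851494554)) (.leaf 1039919211400)) (.node (.leaf 612032904203) (.leaf 1047435545604))) (.node (.node (.leaf 215285354905) (.leaf 789200554752)) (.node (.leaf 363461694101) (.leaf 789200522138)))))) (.node (.node (.node (.node (.node (.node (.leaf 67645737480) (.leaf 530965509914)) (.leaf 873489117826)) (.node (.leaf 310311462426) (.leaf 858993800192))) (.node (.node (.leaf 288836578696) (.leaf 692026889610)) (.node (.leaf 35970386330) (.leaf 1776506271383)))) (.node (.node (.node (.node (.leaf 70867006722) (.leaf 1243930004890)) (.leaf 1035087262216)) (.node (.leaf 362387952019) (.leaf 997506538496))) (.node (.node (.leaf 199716086914) (.leaf 1060857074693)) (.node (.leaf 149250205594) (.leaf 309238075034))))) (.node (.node (.node (.node (.node (.leaf 162135046656) (.leaf 436476256282)) (.leaf 515933172504)) (.node (.leaf 117574757773) (.leaf 1509144354436))) (.node (.node (.leaf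 154618910872) (.leaf 758598902666)) (.node (.leaf 743566390419) (.leaf 1812476380570)))) (.node (.node (.node (.node (.leaf 110595467781) (.leaf 1766305526426)) (.leaf 648540326784)) (.node (.leaf 645855861139) (.leaf 1682553750297))) (.node (.node (.leaf 547071584787) (.leaf 1356136118169)) (.node (.leaf 490163324954) (.leaf 375273171226))))))
def dF_322 : BT := .node (.node (.node (.node (.node (.node (.node (.leaf 6979331603) (.leaf 744103308314)) (.leaf 857383050893)) (.node (.leaf 136902115354) (.leaf 845035151242))) (.node (.node (.leaf 111132343560) (.leaf 1168768137730)) (.node (.leaf 325880812696) (.leaf 1753957540610)))) (.node (.node (.node (.node (.leaf 43486586132) (.leaf 1138703625626)) (.leaf 1010391297293)) (.node (.leaf 208305963535) (.leaf 981937277081))) (.node (.node (.leaf 431107445015) (.leaf 407485119363)) (.node (.leaf 791347896320) (.leaf 680752443014))))) (.node (.node (.node (.node (.node (.leaf 134217747221) (.leaf 208305971207)) (.leaf 926102544019)) (.node (.leaf 563714592154) (.leaf 1490890776835))) (.node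 (.node (.leaf 351113660033) (.leaf 1252520136333)) (.node (.leaf 724238940548) (.leaf 487479153178)))) (.node (.node (.node (.node (.leaf 234612644881) (.leaf 839129505800)) (.leaf 1088774360710)) (.node (.leaf 278099282562) (.leaf 1452772917657))) (.node (.node (.leaf 223338423824) (.leaf 882616097926)) (.node (.leaf 634044698260) (.leaf 374199261850)))))) (.node (.node (.node (.node (.node (.node (.leaf 16106149400) (.leaf 785442331527)) (.leaf 894963920642)) (.node (.leaf 60129550874) (.leaf 1446867316356))) (.node (.node (.leaf 307627063687) (.leaf 718333569304)) (.node (.leaf 46170909457) (.leaf 1175210856074)))) (.node (.node (.node (.node (.leaf 46707818642) (.leaf 1394790916871)) (.leaf 617938670850)) (.node (.leaf 496605712023) (.leaf 1635309042818))) (.node (.node (.leaf 208306027147) (.leaf 772557551878)) (.node (.leaf 30064778261) (.leaf 44023458458))))) (.node (.node (.node (.node (.node (.leaf 66571995278) (.leaf 739271422105)) (.leaf 969052121730)) (.node (.leaf 483720775687) (.leaf 942208815257))) (.node (.node (.leaf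 389768323844) (.leaf 912680740633)) (.node (.leaf 759135650577) (.leaf 996432651802)))) (.node (.node (.node (.node (.leaf 207769086871) (.leaf 1395327803785)) (.leaf 1128502926103)) (.node (.leaf 664109389697) (.leaf 1706712892288))) (.node (.node (.leaf 242128916608) (.leaf 850403675531)) (.node (.leaf 406948347032) (.leaf 267898730138))))))
def dF_323 : BT := .node dF_321 dF_322
def dF_324 : BT := .node dF_320 dF_323
def dF_325 : BT := .node (.node (.node (.node (.node (.node (.node (.leaf 1433) (.leaf 449897890562)) (.leaf 836981865984)) (.node (.leaf 587873783951) (.leaf 831613372680))) (.node (.node (.node (.leaf 87510019976) (.leaf 1544577955482)) (.leaf 1140313976706)) (.node (.leaf 306016582152) (.leaf 1725503376390)))) (.node (.node (.node (.node (.leaf 12884905114) (.leaf 1258425610373)) (.leaf 986231997450)) (.node (.leaf 352724273434) (.leaf 959388689944))) (.node (.node (.leaf 179851851786) (.leaf 334470625290)) (.node (.leaf 770946716803) (.leaf 530428596506))))) (.node (.node (.node (.node (.node (.leaf 44023441026) (.leaf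 296889685129)) (.leaf 907312057615)) (.node (.leaf 264677422733) (.leaf 894427288450))) (.node (.node (.leaf 133680934936) (.leaf 1228360939535)) (.node (.leaf 214748416017) (.leaf 1449014874757)))) (.node (.node (.node (.node (.leaf 215822157576) (.leaf 1600412404506)) (.leaf 1034550501636)) (.node (.leaf 599148082304) (.leaf 1655710140424))) (.node (.node (.leaf 493384484631) (.leaf 782758102681)) (.node (.leaf 112206047381) (.leaf 633508106138)))))) (.node (.node (.node (.node (.node (.node (.leaf 8589949194) (.leaf 184683694234)) (.leaf 445603064450)) (.node (.leaf 300647782554) (.leaf 855772572802))) (.node (.node (.leaf 284541644800) (.leaf 1184874323970)) (.node (.leaf 335544491658) (.leaf 1773821814146)))) (.node (.node (.node (.node (.leaf 190589208719) (.leaf 613643653129)) (.leaf 1031329165451)) (.node (.leaf 350576789133) (.leaf 1605244409613))) (.node (.node (.leaf 445602904196) (.leaf 1259499434752)) (.node (.leaf 803695946895) (.leaf 183073304986))))) (.node (.node (.node (.node (.node (.leaf 154618832005) (.leaf 352187497242))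 (.leaf 942745444234)) (.node (.leaf 374735985933) (.leaf 924492069249))) (.node (.node (.leaf 366682919053) (.leaf 1269700009615)) (.node (.leaf 740345164175) (.leaf 1596117601924)))) (.node (.node (.node (.node (.leaf 251255613063) (.leaf 809601595013)) (.leaf 1105417471379)) (.node (.leaf 389231511056) (.leaf 1677721943685))) (.node (.node (.leaf 228707138056) (.leaf 1349156794630)) (.node (.leaf 758598779540) (.leaf 1078573824922))))))
def dF_326 : BT := .node (.node (.node (.node (.node (.node (.node (.leaf 33285999361) (.leaf 696858866202)) (.leaf 852014239618)) (.node (.leaf 313532687514) (.leaf 1403380898583))) (.node (.node (.node (.leaf 266824886915) (.leaf 1817308371202)) (.leaf 695784979590)) (.node (.leaf 702227245204) (.leaf 1128503073926)))) (.node (.node (.node (.node (.leaf 53150242703) (.leaf 841813790745)) (.leaf 1005022510218)) (.node (.leaf 441308001050) (.leaf 976568565784))) (.node (.node (.leaf 185220565908) (.leaf 1046361554181)) (.node (.leaf 788126588169) (.leaf 276488628378))))) (.node (.node (.node (.node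 (.node (.leaf 30064802066) (.leaf 243202559239)) (.leaf 909996415768)) (.node (.leaf 219043384335) (.leaf 1484985158792))) (.node (.node (.leaf 345744949651) (.leaf 1247151306378)) (.node (.leaf 613106727696) (.leaf 1633698346266)))) (.node (.node (.node (.node (.leaf 233538898825) (.leaf 1487132696839)) (.leaf 1082868780299)) (.node (.leaf 625991549322) (.leaf 1387274665227))) (.node (.node (.leaf 515396128648) (.leaf 821949467907)) (.node (.leaf 639413363459) (.leaf 1458141585050)))))) (.node (.node (.node (.node (.node (.node (.leaf 87509969164) (.leaf 224948965785)) (.leaf 460098583942)) (.node (.leaf 5368712459) (.leaf 870268092550))) (.node (.node (.leaf 303868964614) (.leaf 827318283016)) (.node (.leaf 118111628817) (.leaf 1170379016586)))) (.node (.node (.node (.node (.leaf 46707817856) (.leaf 1206349239194)) (.leaf 1048509037444)) (.node (.leaf 473520257293) (.leaf 1629403459335))) (.node (.node (.leaf 205621671688) (.leaf 1293859081354)) (.node (.leaf 146028969882) (.leaf 46171069210))))) (.node (.node (.node (.node (.node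 (.leaf 60129578635) (.leaf 567472752538)) (.leaf 525596852868)) (.node (.leaf 448824189459) (.leaf 1525250485254))) (.node (.node (.leaf 383862742154) (.leaf 985158274457)) (.node (.leaf 755914405120) (.leaf 1779190559232)))) (.node (.node (.node (.node (.leaf 249108161170) (.leaf 905701499273)) (.leaf 928786946311)) (.node (.leaf 658740766103) (.leaf 1700807310342))) (.node (.node (.leaf 240518302466) (.leaf 1371168632327)) (.node (.leaf 816043980822) (.leaf 146028970010))))))
def dF_327 : BT := .node dF_325 dF_326
def dF_328 : BT := .node (.node (.node (.node (.node (.node (.node (.leaf 1073746450) (.leaf 372588818074)) (.leaf 842350614912)) (.node (.leaf 594853083533) (.leaf 1391032852871))) (.node (.node (.node (.leaf 260382442258) (.leaf 1018444334342)) (.leaf 1151588265732)) (.node (.leaf 690953028494) (.leaf 1125281846024)))) (.node (.node (.node (.node (.leaf 174483081101) (.leaf 374736218778)) (.leaf 994822037141)) (.node (.leaf 297426556173) (.leaf 968515498626))) (.node (.node (.leaf 185220563458) (.leaf 894963920648)) (.node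 (.leaf 779536750099) (.leaf 970125898138))))) (.node (.node (.node (.node (.node (.leaf 117037865730) (.leaf 310311461145)) (.leaf 915365021064)) (.node (.leaf 421443766554) (.leaf 1473710912899))) (.node (.node (.leaf 336618103434) (.leaf 1235877015808)) (.node (.leaf 474057128336) (.leaf 1609002347546)))) (.node (.node (.node (.node (.leaf 228707061644) (.leaf 975494627844)) (.leaf 1074278845828)) (.node (.leaf 272730570500) (.leaf 1667521302921))) (.node (.node (.leaf 504121871889) (.leaf 792958652930)) (.node (.leaf 340376239381) (.leaf 177704282266)))))) (.node (.node (.node (.node (.node (.node (.leaf 10200565397) (.leaf 267898648985)) (.leaf 450971775513)) (.node (.leaf 276488586906) (.leaf 862751897985))) (.node (.node (.leaf 292594675206) (.leaf 1198296161295)) (.node (.leaf 175020011802) (.leaf 1153199144216)))) (.node (.node (.node (.node (.leaf 166966862744) (.leaf 1272921125386)) (.leaf 1039382333452)) (.node (.leaf 445066092175) (.leaf 1002338378392))) (.node (.node (.leaf 199179217817) (.leaf 1207959757720)) (.node (.leaf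 37044131482) (.leaf 1581621951232))))) (.node (.node (.node (.node (.node (.leaf 38117875076) (.leaf 1049046088858)) (.leaf 954019835008)) (.node (.leaf 43486554259) (.leaf 1515586807046))) (.node (.node (.leaf 374199114753) (.leaf 1280437430417)) (.node (.leaf 746787522314) (.leaf 1038845462403)))) (.node (.node (.node (.node (.leaf 536875546) (.leaf 1337882504706)) (.leaf 653372166400)) (.node (.leaf 285615480200) (.leaf 1688459301256))) (.node (.node (.leaf 233002107010) (.leaf 1362578579462)) (.node (.leaf 807454044033) (.leaf 355945522458))))))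
def dF_329 : BT := .node (.node (.node (.node (.node (.node (.node (.leaf 7516204044) (.leaf 488552749466)) (.leaf 860067406101)) (.node (.leaf 599684951834) (.leaf 1414118186753))) (.node (.node (.leaf 274877934600) (.leaf 683973821830)) (.node (.leaf 712964650246) (.leaf 1760400140181)))) (.node (.node (.node (.node (.leaf 180925518219) (.leaf 738734624903)) (.leaf 572304634392)) (.node (.leaf 215822142856) (.leaf 1594506963865))) (.node (.node (.leaf 434865520023) (.leaf 848256143237)) (.node (.leaf 795106010253) (.leaf 1418413152154))))) (.node (.node (.node (.node (.node (.leaf 141733929098) (.leaf 680752415258)) (.leaf 932008124801)) (.node (.leaf 243202662425) (.leaf 1494648891672))) (.node (.node (.leaf 151934553099) (.leaf 1256815102617)) (.node (.leaf 339839461002) (.leaf 629212831874)))) (.node (.node (.node (.node (.leaf 65498309126) (.leaf 1793685985306)) (.leaf 1094679942152)) (.node (.leaf 634044613256) (.leaf 1053877998468))) (.node (.node (.leaf 223875296408) (.leaf 1257888866308)) (.node (.leaf 555124655380) (.leaf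 710817460634)))))) (.node (.node (.node (.node (.node (.node (.leaf 97173640197) (.leaf 606127584129)) (.leaf 899258891273)) (.node (.leaf 158376956815) (.leaf 886911092870))) (.node (.node (.leaf 314606428179) (.leaf 724776021250)) (.node (.leaf 151934504337) (.leaf 1181116437766)))) (.node (.node (.node (.node (.leaf 211527188869) (.leaf 1394790859910)) (.leaf 620623026457)) (.node (.leaf 525596748173) (.leaf 1024886963076))) (.node (.node (.leaf 481573258887) (.leaf 1304059666177)) (.node (.leaf 150323864322) (.leaf 1362578746906))))) (.node (.node (.node (.node (.node (.leaf 60666433434) (.leaf 731218356505)) (.leaf 530965564554)) (.node (.leaf 506806261773) (.leaf 949725009670))) (.node (.node (.leaf 394063329559) (.leaf 445066237722)) (.node (.leaf 361314305674) (.leaf 1631551069210)))) (.node (.node (.node (.node (.leaf 112206080787) (.leaf 1744830823686)) (.leaf 1133871636495)) (.node (.leaf 668941315853) (.leaf 1713692284422))) (.node (.node (.leaf 574451934467) (.leaf 826781532550)) (.node (.leaf 408022090136) (.leaf 1059246561945))))))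
def dF_330 : BT := .node dF_328 dF_329
def dF_331 : BT := .node dF_327 dF_330
def dF_332 : BT := .node dF_324 dF_331
def dF_333 : BT := .node (.node (.node (.node (.node (.node (.node (.leaf 654) (.leaf 988916336154)) (.leaf 833760625799)) (.node (.leaf 585726299021) (.leaf 1381906055192))) (.node (.node (.node (.leaf 255550595598) (.leaf 926102594817)) (.leaf 1138703475859)) (.node (.leaf 298500388628) (.leaf 1109712585734)))) (.node (.node (.node (.node (.leaf 60129550870) (.leaf 657667137434)) (.leaf 535260533785)) (.node (.leaf 574988883859) (.leaf 956167463704))) (.node (.node (.leaf 179314980360) (.leaf 451508647179)) (.node (.leaf 769336103304) (.leaf 1261647031942))))) (.node (.node (.node (.node (.node (.leaf 18253636370) (.leaf 352724368666)) (.leaf 906238315535)) (.node (.leaf 310311461133) (.leaf 1461899706500))) (.node (.node (.leaf 133144063104) (.leaf 728534119681)) (.node (.leaf 117574757777) (.leaf 1816234578560)))) (.node (.node (.node (.node (.leaf 186831122074) (.leaf 1764695003162)) (.leaf 622233640729)) (.node (.leaf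 603979920023) (.leaf 1653562656644))) (.node (.node (.leaf 491237000335) (.leaf 792958649472)) (.node (.leaf 224949040154) (.leaf 1066762907930)))))) (.node (.node (.node (.node (.node (.node (.leaf 57445190405) (.leaf 300647739034)) (.leaf 445066193152)) (.node (.leaf 9126807703) (.leaf 852551346840))) (.node (.node (.leaf 282931036813) (.leaf 690416274952)) (.node (.leaf 332323265689) (.leaf 1771674282116)))) (.node (.node (.node (.node (.leaf 44560330776) (.leaf 219043452677)) (.leaf 1027571119874)) (.node (.leaf 225485836815) (.leaf 1603096785411))) (.node (.node (.leaf 442381680011) (.leaf 392452814723)) (.node (.leaf 801548439829) (.leaf 446139935642))))) (.node (.node (.node (.node (.node (.leaf 117574765952) (.leaf 293131675418)) (.leaf 514859429124)) (.node (.leaf 370977888655) (.leaf 1499480814872))) (.node (.node (.leaf 363461643910) (.leaf 1267552496390)) (.node (.leaf 738734551055) (.leaf 1194538091907)))) (.node (.node (.node (.node (.leaf 249108161164) (.leaf 1229971552410)) (.leaf 1104343666438)) (.node (.leaf 642097677576)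 (.leaf 1675574378247))) (.node (.node (.leaf 225485911956) (.leaf 1345935569028)) (.node (.leaf 785442331540) (.leaf 721554653831))))))
def dF_334 : BT := .node (.node (.node (.node (.node (.node (.node (.leaf 6442457999) (.leaf 570693978266)) (.leaf 426812577560)) (.node (.leaf 601832357888) (.leaf 1401233414421))) (.node (.node (.node (.leaf 252329391620) (.leaf 1816771501450)) (.leaf 1161788814471)) (.node (.leaf 311385295641) (.leaf 1737851558528)))) (.node (.node (.node (.node (.leaf 127775307662) (.leaf 1605781122330)) (.leaf 1002338126986)) (.node (.leaf 184683637773) (.leaf 1577863986581))) (.node (.node (.leaf 184683694361) (.leaf 441308037898)) (.node (.leaf 374199213332) (.leaf 827318246298))))) (.node (.node (.node (.node (.node (.leaf 29527930393) (.leaf 488552616705)) (.leaf 761283172870)) (.node (.leaf 522912393114) (.leaf 1482300804104))) (.node (.node (.leaf 343597419524) (.leaf 1243393328657)) (.node (.leaf 645855861136) (.leaf 957241002265)))) (.node (.node (.node (.node (.leaf 60129597704) (.leaf 1138703425153)) (.leaf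 1079110698250)) (.node (.leaf 624917807492) (.leaf 1551557266458))) (.node (.node (.leaf 220117196184) (.leaf 1335735020676)) (.node (.leaf 627602175363) (.leaf 636729053465)))))) (.node (.node (.node (.node (.node (.node (.leaf 84825612812) (.leaf 752156349466)) (.leaf 456877357578)) (.node (.leaf 227633321114) (.leaf 1441498645401))) (.node (.node (.leaf 301721523215) (.leaf 1206349226897)) (.node (.leaf 53687127559) (.leaf 1794759743112)))) (.node (.node (.node (.node (.leaf 46170946184) (.leaf 285615479685)) (.leaf 610959347224)) (.node (.leaf 449897931539) (.leaf 1010391444098))) (.node (.node (.leaf 204011058312) (.leaf 1291711625088)) (.node (.leaf 145492097818) (.leaf 200252959898))))) (.node (.node (.node (.node (.node (.leaf 55297717274) (.leaf 403727072135)) (.leaf 961535928454)) (.node (.leaf 414464393984) (.leaf 942208813442))) (.node (.node (.leaf 381178437135) (.leaf 990527139336)) (.node (.leaf 753766940173) (.leaf 1506997029129)))) (.node (.node (.node (.node (.leaf 93415582592) (.leaf 1298691004442)) (.leaf 1125281699855))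 (.node (.leaf 657667024013) (.leaf 1696512341640))) (.node (.node (.leaf 237297076354) (.leaf 1369021152013)) (.node (.leaf 814433269642) (.leaf 426812577032))))))
def dF_335 : BT := .node dF_333 dF_334
def dF_336 : BT := .node (.node (.node (.node (.node (.node (.node (.leaf 16643000214) (.leaf 721554677785)) (.leaf 841276919694)) (.node (.leaf 256087566470) (.leaf 1389959122579))) (.node (.node (.node (.leaf 259308700175) (.leaf 1586990687386)) (.leaf 1147830168586)) (.node (.leaf 688268673295) (.leaf 1119913135880)))) (.node (.node (.node (.node (.leaf 54223975180) (.leaf 1242856330778)) (.leaf 992674552983)) (.node (.leaf 288836578704) (.leaf 1561220877190))) (.node (.node (.leaf 180925595777) (.leaf 821949538968)) (.node (.leaf 776852296839) (.leaf 603979877639))))) (.node (.node (.node (.node (.node (.leaf 62813898770) (.leaf 630286535553)) (.leaf 913754510101)) (.node (.leaf 394600261786) (.leaf 1290638023426))) (.node (.node (.leaf 334470621959) (.leaf 1234266402818)) (.node (.leaf 515396198416) (.leaf 1618129272474)))) (.node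 (.node (.node (.node (.leaf 225485795976) (.leaf 790274252036)) (.leaf 1072131360907)) (.node (.leaf 613643598743) (.leaf 1048509288066))) (.node (.node (.leaf 501437550359) (.leaf 1320702633218)) (.node (.leaf 448824145538) (.leaf 767725548058)))))) (.node (.node (.node (.node (.node (.node (.leaf 71940711431) (.leaf 643708486298)) (.leaf 450434904072)) (.node (.leaf 110058563219) (.leaf 1432908805775))) (.node (.node (.leaf 224948981248) (.leaf 693100632472)) (.node (.leaf 6979331226) (.leaf 1779727347586)))) (.node (.node (.node (.node (.leaf 171261860762) (.leaf 840740002697)) (.leaf 1036697875082)) (.node (.leaf 389231504013) (.leaf 1612760604179))) (.node (.node (.leaf 198642346009) (.leaf 876710375041)) (.node (.leaf 9126973722) (.leaf 994285162247))))) (.node (.node (.node (.node (.node (.leaf 137975863828) (.leaf 773094297600)) (.leaf 951335380739)) (.node (.leaf 389768350080) (.leaf 1512365580675))) (.node (.node (.leaf 371514759571) (.leaf 759672645382)) (.node (.leaf 745713789570) (.leaf 1186485022234)))) (.node (.node (.node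 (.node (.leaf 110058555653) (.leaf 994822067610)) (.leaf 1115081150095)) (.node (.leaf 648003290758) (.leaf 1686311914240))) (.node (.node (.leaf 549219070349) (.leaf 1359357342984)) (.node (.leaf 748398136578) (.leaf 988379705242))))))
def dF_337 : BT := .node (.node (.node (.node (.node (.node (.node (.leaf 44560287492) (.leaf 1332513898778)) (.leaf 858993563266)) (.node (.leaf 280246643722) (.leaf 1411433829380))) (.node (.node (.leaf 112206085642) (.leaf 682363208321)) (.node (.leaf 331249522186) (.leaf 1758252507398)))) (.node (.node (.node (.node (.leaf 44023457542) (.leaf 1431834906650)) (.leaf 568009666328)) (.node (.leaf 209916576659) (.leaf 985158503304))) (.node (.node (.leaf 433254928141) (.leaf 879931634564)) (.node (.leaf 376346698372) (.leaf 242128916614))))) (.node (.node (.node (.node (.node (.leaf 139049597964) (.leaf 394600214411)) (.leaf 505732620696)) (.node (.leaf 241055175577) (.leaf 913754648198))) (.node (.node (.leaf 353261144211) (.leaf 1253593758216)) (.node (.leaf 338228847769) (.leaf 916975751834)))) (.node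 (.node (.node (.node (.leaf 64961437332) (.leaf 1269699977479)) (.leaf 636729162114)) (.node (.leaf 630823472023) (.leaf 1575179592474))) (.node (.node (.leaf 525596676230) (.leaf 1338419375618)) (.node (.leaf 394600214420) (.leaf 1428613867418)))))) (.node (.node (.node (.node (.node (.node (.leaf 94489284488) (.leaf 925565675290)) (.leaf 775241810969)) (.node (.leaf 166966863754) (.leaf 1449551672068))) (.node (.node (.leaf 311385159430) (.leaf 1213328433415)) (.node (.leaf 506269391130) (.leaf 1804960401152)))) (.node (.node (.node (.node (.leaf 52613399304) (.leaf 1389959076873)) (.leaf 763967559554)) (.node (.leaf 515933069463) (.leaf 1639067137160))) (.node (.node (.leaf 478352033666) (.leaf 773094423558)) (.node (.leaf 336081363098) (.leaf 1065688867866))))) (.node (.node (.node (.node (.node (.leaf 119722220302) (.leaf 561567031304)) (.leaf 972810324495)) (.node (.leaf 230317674778) (.leaf 945966912536))) (.node (.node (.leaf 173946269080) (.leaf 761283105025)) (.node (.leaf 361314305412) (.leaf 1620813559450)))) (.node (.node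 (.node (.node (.leaf 174483081106) (.leaf 657667024011)) (.leaf 1131187168388)) (.node (.leaf 297963514880) (.leaf 1102733261058))) (.node (.node (.leaf 570693837952) (.leaf 820339080964)) (.node (.leaf 823023205258) (.leaf 807454172314))))))
def dF_338 : BT := .node dF_336 dF_337
def dF_339 : BT := .node dF_335 dF_338
def dF_340 : BT := .node (.node (.node (.node (.node (.node (.node (.leaf 10200549377) (.leaf 648003455770)) (.leaf 838055693463)) (.node (.leaf 590021271053) (.leaf 1385664022532))) (.node (.node (.node (.leaf 257698081807) (.leaf 1673963830025)) (.leaf 1142998329606)) (.node (.leaf 683436745216) (.leaf 1728187735690)))) (.node (.node (.node (.node (.leaf 78383159950) (.leaf 839666354691)) (.leaf 988379481224)) (.node (.leaf 362924824346) (.leaf 960999303302))) (.node (.node (.leaf 405874453129) (.leaf 887447727237)) (.node (.leaf 363998662532) (.leaf 1575716502409))))) (.node (.node (.node (.node (.node (.leaf 28454185355) (.leaf 209916563072)) (.leaf 909996311686)) (.node (.leaf 144955226009) (.leaf 1467268510848)))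 (.node (.node (.leaf 329638816143) (.leaf 731218475266)) (.node (.leaf 296352814097) (.leaf 770947021210)))) (.node (.node (.node (.node (.leaf 53687143563) (.leaf 657130218394)) (.leaf 1067836395649)) (.node (.leaf 267898730137) (.leaf 1657857624580))) (.node (.node (.leaf 496068810887) (.leaf 785442457881)) (.node (.leaf 118648499861) (.leaf 277025797018)))))) (.node (.node (.node (.node (.node (.node (.leaf 64424512903) (.leaf 36507259418)) (.leaf 872415440017)) (.node (.leaf 127238436499) (.leaf 857383186696))) (.node (.node (.leaf 286152264211) (.leaf 691490017794)) (.node (.leaf 394600292226) (.leaf 1146219820166)))) (.node (.node (.node (.node (.leaf 45097202581) (.leaf 740882124292)) (.leaf 602369409674)) (.node (.leaf 355945485447) (.leaf 1607391748229))) (.node (.node (.leaf 448287259648) (.leaf 849866766873)) (.node (.leaf 805843332361) (.leaf 845571859083))))) (.node (.node (.node (.node (.node (.leaf 158913810315) (.leaf 972810467866)) (.leaf 945429901452)) (.node (.leaf 376346599063) (.leaf 925565811608))) (.node (.node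 (.leaf 153545168644) (.leaf 1272384242817)) (.node (.leaf 742492554123) (.leaf 1331977028098)))) (.node (.node (.node (.node (.leaf 250718775955) (.leaf 1127965967106)) (.leaf 1108638587658)) (.node (.leaf 643708376983) (.leaf 1680406243074))) (.node (.node (.leaf 544924099731) (.leaf 811212270726)) (.node (.leaf 403727022100) (.leaf 1489280193818))))))
def dF_341 : BT := .node (.node (.node (.node (.node (.node (.node (.leaf 9126814336) (.leaf 555661526425)) (.leaf 854698594052)) (.node (.leaf 194884187418) (.leaf 1406065253773))) (.node (.node (.node (.leaf 110595472011) (.leaf 1817845341459)) (.leaf 699543076356)) (.node (.leaf 320512102680) (.leaf 1131724300032)))) (.node (.node (.node (.node (.leaf 88046840207) (.leaf 1403380961178)) (.leaf 1007706896513)) (.node (.leaf 198642345881) (.leaf 979789792516))) (.node (.node (.leaf 185757437572) (.leaf 280246864666)) (.node (.leaf 789737201154) (.leaf 514859327369))))) (.node (.node (.node (.node (.node (.leaf 133143993474) (.leaf 562104083226)) (.leaf 497679555720)) (.node (.leaf 236760128655)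 (.leaf 1488743269506))) (.node (.node (.leaf 147639583896) (.leaf 1250372569475)) (.node (.leaf 722091459329) (.leaf 984621618202)))) (.node (.node (.node (.node (.leaf 234612626199) (.leaf 358629947912)) (.leaf 1085553134986)) (.node (.leaf 628139116815) (.leaf 852551235201))) (.node (.node (.leaf 228707132057) (.leaf 850403720066)) (.node (.leaf 663035734420) (.leaf 309237901594)))))) (.node (.node (.node (.node (.node (.node (.leaf 17716761346) (.leaf 515933069465)) (.leaf 892816539539)) (.node (.leaf 65498266899) (.leaf 872952447620))) (.node (.node (.leaf 255013756049) (.leaf 884763551104)) (.node (.leaf 264140551697) (.leaf 1171452758920)))) (.node (.node (.node (.node (.leaf 204547864847) (.leaf 713501646081)) (.leaf 1050656521606)) (.node (.leaf 486942033303) (.leaf 1632624832655))) (.node (.node (.leaf 472983372301) (.leaf 1296543473152)) (.node (.leaf 9126807701) (.leaf 35970577562))))) (.node (.node (.node (.node (.node (.leaf 41875955354) (.leaf 994822183194)) (.leaf 526133724298)) (.node (.leaf 52613361939) (.leaf 998580260358)))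 (.node (.node (.leaf 169114429593) (.leaf 988379568517)) (.node (.leaf 758061908495) (.leaf 1498407101465)))) (.node (.node (.node (.node (.leaf 229780803731) (.leaf 1337882583051)) (.leaf 1127966054400)) (.node (.leaf 661425034244) (.leaf 1098975163272))) (.node (.node (.leaf 564251462925) (.leaf 1093606245402)) (.node (.leaf 817654593933) (.leaf 855772573082))))))
def dF_342 : BT := .node dF_340 dF_341
def dF_343 : BT := .node (.node (.node (.node (.node (.node (.node (.leaf 23622322699) (.leaf 209916612890)) (.leaf 426275705606)) (.node (.leaf 259845663760) (.leaf 839129568138))) (.node (.node (.node (.leaf 261993027590) (.leaf 1243393318788)) (.leaf 1153735750144)) (.node (.leaf 692563550472) (.leaf 1126355588610)))) (.node (.node (.node (.node (.leaf 105763586583) (.leaf 649613899779)) (.leaf 562104082690)) (.node (.leaf 407485119375) (.leaf 971199853956))) (.node (.node (.leaf 207769142425) (.leaf 1032939886616)) (.node (.leaf 782221105303) (.leaf 1020055146394))))) (.node (.node (.node (.node (.node (.leaf 119722220933) (.leaf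 743566510362)) (.leaf 917512504840)) (.node (.leaf 443992350234) (.leaf 905164709642))) (.node (.node (.leaf 338765587842) (.leaf 739271541000)) (.node (.leaf 446139834256) (.leaf 921807595416)))) (.node (.node (.node (.node (.leaf 229780803735) (.leaf 740345405978)) (.leaf 1075889457674)) (.node (.leaf 620622922253) (.leaf 1635846052226))) (.node (.node (.leaf 219043453190) (.leaf 1328218952977)) (.node (.leaf 240518225941) (.leaf 603979882371)))))) (.node (.node (.node (.node (.node (.node (.leaf 78920027652) (.leaf 647466584346)) (.leaf 452045517976)) (.node (.leaf 175019978394) (.leaf 863288769418))) (.node (.node (.leaf 118111670932) (.leaf 1202054258573)) (.node (.leaf 241055175322) (.leaf 1158030983176)))) (.node (.node (.node (.node (.leaf 78383180952) (.leaf 1322850190081)) (.leaf 1040992843014)) (.node (.leaf 419296282253) (.leaf 1006096475528))) (.node (.node (.leaf 463319646219) (.leaf 775241904002)) (.node (.leaf 6979323541) (.leaf 621159934874))))) (.node (.node (.node (.node (.node (.leaf 108447941261) (.leaf 906238315545))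 (.leaf 520765012742)) (.node (.leaf 145492051855) (.leaf 1517734339462))) (.node (.node (.leaf 158377009176) (.leaf 1282048043541)) (.node (.leaf 749471877130) (.leaf 1655710293379)))) (.node (.node (.node (.node (.leaf 86973098130) (.leaf 520228157466)) (.leaf 653372167064)) (.node (.leaf 519154327686) (.leaf 1081795291016))) (.node (.node (.leaf 236223333144) (.leaf 1363652311048)) (.node (.leaf 807990915223) (.leaf 499827249562))))))
def dF_344 : BT := .node (.node (.node (.node (.node (.node (.node (.leaf 50465868803) (.leaf 151934678042)) (.leaf 863288632335)) (.node (.leaf 273804308356) (.leaf 1416265803264))) (.node (.node (.leaf 277562288388) (.leaf 1176821319700)) (.node (.leaf 331786393872) (.leaf 1137093012248)))) (.node (.node (.node (.node (.leaf 183072993280) (.leaf 1403380974490)) (.leaf 1018444362901)) (.node (.leaf 223338352653) (.leaf 1597728125952))) (.node (.node (.leaf 193810503435) (.leaf 795106112770)) (.node (.leaf 797253480067) (.leaf 474594089370))))) (.node (.node (.node (.node (.node (.leaf 145492051713) (.leaf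 1102733261594)) (.leaf 934692378634)) (.node (.leaf 344671207693) (.leaf 1498943915392))) (.node (.node (.leaf 358092983575) (.leaf 753230189826)) (.node (.leaf 731218356493) (.leaf 1496259459738)))) (.node (.node (.node (.node (.leaf 245886894603) (.leaf 1612760518278)) (.leaf 1098438147713)) (.node (.leaf 277562413209) (.leaf 1672353248388))) (.node (.node (.leaf 532039127685) (.leaf 1342714343426)) (.node (.leaf 774704910741) (.leaf 375809728025)))))) (.node (.node (.node (.node (.node (.node (.leaf 17179893005) (.leaf 223338373642)) (.leaf 474594101528)) (.node (.leaf 285078497157) (.leaf 1455994126233))) (.node (.node (.leaf 316217041423) (.leaf 724776021892)) (.node (.leaf 198642284817) (.leaf 1811939609988)))) (.node (.node (.node (.node (.leaf 213674659214) (.leaf 1445793629323)) (.leaf 1059246457604)) (.node (.leaf 530965458573) (.leaf 1647120203274))) (.node (.node (.leaf 484257613193) (.leaf 1306207240339)) (.node (.leaf 285615480474) (.leaf 528817973914))))) (.node (.node (.node (.node (.node (.leaf 7516196622) (.leaf 419296326915))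 (.leaf 978715799938)) (.node (.leaf 555661526415) (.leaf 951872494218))) (.node (.node (.leaf 397284521344) (.leaf 874026100762)) (.node (.leaf 765041232013) (.leaf 973884223514)))) (.node (.node (.node (.node (.leaf 93952470016) (.leaf 1329829438234)) (.leaf 659277750532)) (.node (.leaf 671625671053) (.leaf 1715839843853))) (.node (.node (.leaf 242128919320) (.leaf 1378147921664)) (.node (.leaf 408558961546) (.leaf 1178968686490))))))
def dF_345 : BT := .node dF_343 dF_344
def dF_346 : BT := .node dF_342 dF_345
def dF_347 : BT := .node dF_339 dF_346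
def dF_348 : BT := .node dF_332 dF_347
def dF_349 : BT := .node (.node (.node (.node (.node (.node (.node (.leaf 1610613124) (.leaf 296352814490)) (.leaf 409632704281)) (.node (.leaf 243202662553) (.leaf 1381369184025))) (.node (.node (.node (.leaf 255013713559) (.leaf 1282048006923)) (.leaf 1137629683969)) (.node (.leaf 675383768339) (.leaf 1720671537154)))) (.node (.node (.node (.node (.leaf 134217760410) (.leaf 1049045962778)) (.leaf 535260533378)) (.node (.leaf 568009560335) (.leaf 956167463168))) (.node (.node (.leaf 179314980228) (.leaf 450971821850)) (.node (.leaf 768799232642) (.leaf 1261110120448))))) (.node (.node (.node (.node (.node (.leaf 104689832585) (.leaf 449897898501)) (.leaf 905701444494)) (.node (.leaf 309237719053) (.leaf 1459752222594))) (.node (.node (.leaf 132607191960) (.leaf 726923506457)) (.node (.leaf 276488669082) (.leaf 1191316986374)))) (.node (.node (.node (.node (.leaf 48855264538) (.leaf 1742683296538)) (.leaf 622233640322)) (.node (.leaf 603443048975) (.leaf 1651952184967))) (.node (.node (.leaf 209916643480)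 (.leaf 1309428340866)) (.node (.leaf 214748483866) (.leaf 826781401625)))))) (.node (.node (.node (.node (.node (.node (.leaf 8053077006) (.leaf 893890251784)) (.leaf 441308096394)) (.node (.leaf 578746981274) (.leaf 1418950158734))) (.node (.node (.leaf 281857294739) (.leaf 688268790937)) (.node (.leaf 717259648385) (.leaf 1139240497432)))) (.node (.node (.node (.node (.leaf 44560330385) (.leaf 574988902662)) (.leaf 1026497326596)) (.node (.leaf 535260427034) (.leaf 1601486167176))) (.node (.node (.leaf 440771065862) (.leaf 754840802074)) (.node (.leaf 800474697095) (.leaf 1340029991819))))) (.node (.node (.node (.node (.node (.leaf 150323865474) (.leaf 403190136323)) (.leaf 940061089796)) (.node (.leaf 358629854735) (.leaf 1501628161028))) (.node (.node (.leaf 361851080833) (.leaf 1265404919559)) (.node (.leaf 344671301396) (.leaf 310311699994)))) (.node (.node (.node (.node (.leaf 248034419095) (.leaf 1230508506496)) (.leaf 1102733116181)) (.node (.leaf 639950279693) (.leaf 1673963902739))) (.node (.node (.leaf 537944708231) (.leaf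 1344861954561)) (.node (.leaf 426275605780) (.leaf 487479006234))))))
def dF_350 : BT := .node (.node (.node (.node (.node (.node (.node (.leaf 6442457860) (.leaf 606664517530)) (.leaf 847719371392)) (.node (.leaf 600221822605) (.leaf 841277052930))) (.node (.node (.node (.leaf 263603655429) (.leaf 1816771498886)) (.leaf 672699529368)) (.node (.leaf 697395388938) (.leaf 1127429331352)))) (.node (.node (.node (.node (.leaf 168040628501) (.leaf 488552717194)) (.leaf 783294899207)) (.node (.leaf 415001314074) (.leaf 975494823040))) (.node (.node (.leaf 420369968647) (.leaf 1033476650116)) (.node (.leaf 785442331543) (.leaf 857383107994))))) (.node (.node (.node (.node (.node (.leaf 124554058894) (.leaf 127775307545)) (.leaf 920733796614)) (.node (.leaf 233538883610) (.leaf 1480690328193))) (.node (.node (.leaf 341986852367) (.leaf 740345283864)) (.node (.leaf 658740766096) (.leaf 694711329306)))) (.node (.node (.node (.node (.leaf 60129597570) (.leaf 749472064256)) (.leaf 694711217288)) (.node (.leaf 276488668546) (.leaf 1119376222490)))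 (.node (.node (.leaf 511638099855) (.leaf 798327364232)) (.node (.leaf 310311461141) (.leaf 1342177472410)))))) (.node (.node (.node (.node (.node (.node (.leaf 82678125313) (.leaf 309774590085)) (.leaf 459561711622)) (.node (.leaf 45634038419) (.leaf 1440424865048))) (.node (.node (.leaf 300110869003) (.leaf 713501729410)) (.node (.leaf 177704366874) (.leaf 1165010306566)))) (.node (.node (.node (.node (.leaf 46170945665) (.leaf 1341103824774)) (.leaf 1044214119691)) (.node (.leaf 441307994893) (.leaf 1624571763715))) (.node (.node (.leaf 467077798679) (.leaf 1290101009028)) (.node (.leaf 37044101781) (.leaf 1424855655302))))) (.node (.node (.node (.node (.node (.leaf 6979336730) (.leaf 1048509288602)) (.leaf 838592593414)) (.node (.leaf 430570516490) (.leaf 1520955517440))) (.node (.node (.leaf 158913880708) (.leaf 1285806092568)) (.node (.leaf 753229973638) (.leaf 1560147242394)))) (.node (.node (.node (.node (.leaf 46170909587) (.leaf 992674532098)) (.leaf 1011465066116)) (.node (.leaf 657130152972) (.leaf 1089311484546))) (.node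 (.node (.leaf 557808934666) (.leaf 817117854214)) (.node (.leaf 395137184898) (.leaf 603443048963))))))
def dF_351 : BT := .node dF_349 dF_350
def dF_352 : BT := .node (.node (.node (.node (.node (.node (.node (.leaf 15569258134) (.leaf 223338334211)) (.leaf 840740048657)) (.node (.leaf 592168708755) (.leaf 1389422184198))) (.node (.node (.node (.leaf 258771825814) (.leaf 1010391297287)) (.leaf 1146219589761)) (.node (.leaf 309774680200) (.leaf 1119376264586)))) (.node (.node (.node (.node (.leaf 8053067670) (.leaf 505732622341)) (.leaf 992137578244)) (.node (.leaf 285615393293) (.leaf 965294271754))) (.node (.node (.leaf 180388724633) (.leaf 828928860800)) (.node (.leaf 498216391168) (.leaf 819802095002))))) (.node (.node (.node (.node (.node (.leaf 91268076954) (.leaf 208842899482)) (.leaf 487479005696)) (.node (.leaf 278636069773) (.leaf 901943483012))) (.node (.node (.leaf 205621638656) (.leaf 1232655903616)) (.node (.leaf 603979920017) (.leaf 1808181414938)))) (.node (.node (.node (.node (.leaf 223338352513) (.leaf 1739998975898))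 (.leaf 625991738503)) (.node (.leaf 613106727695) (.leaf 1047972416769))) (.node (.node (.leaf 500900679309) (.leaf 1319628890372)) (.node (.leaf 373662243861) (.leaf 849866766874)))))) (.node (.node (.node (.node (.node (.node (.leaf 9126822164) (.leaf 530428832794)) (.leaf 449898032776)) (.node (.leaf 177704314394) (.leaf 859530671490))) (.node (.node (.leaf 289373476231) (.leaf 1192390462338)) (.node (.leaf 236760204826) (.leaf 1147830433921)))) (.node (.node (.node (.node (.leaf 64424519578) (.leaf 1323923765274)) (.leaf 603980022788)) (.node (.leaf 363461694095) (.leaf 1612223586568))) (.node (.node (.leaf 198642345616) (.leaf 1086626945537)) (.node (.leaf 42412833562) (.leaf 525596778632))))) (.node (.node (.node (.node (.node (.leaf 132070283270) (.leaf 926102681882)) (.leaf 519154398472)) (.node (.leaf 298500299546) (.leaf 1511291896577))) (.node (.node (.leaf 370977875585) (.leaf 759135774088)) (.node (.leaf 744640039425) (.leaf 798327230471)))) (.node (.node (.node (.node (.leaf 111132305158) (.leaf 1479079587098)) (.leaf 650150939906))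 (.node (.leaf 285615479552) (.leaf 1075889709314))) (.node (.node (.leaf 548145327635) (.leaf 812286013702)) (.node (.leaf 488015778178) (.leaf 375809770501))))))
def dF_353 : BT := .node (.node (.node (.node (.node (.node (.node (.leaf 42412810369) (.leaf 791884779930)) (.leaf 428960063257)) (.node (.leaf 183073024794) (.leaf 1409823216776))) (.node (.node (.leaf 271656744471) (.leaf 1011465077128)) (.node (.leaf 710280385922) (.leaf 1133871784968)))) (.node (.node (.node (.node (.leaf 44023457412) (.leaf 625454812682)) (.leaf 568009666054)) (.node (.leaf 485868292506) (.leaf 1591822488585))) (.node (.node (.leaf 432181185935) (.leaf 1063541484033)) (.node (.leaf 375272956552) (.leaf 1119913094426))))) (.node (.node (.node (.node (.node (.leaf 31138545921) (.leaf 184683637785)) (.leaf 505732620292)) (.node (.leaf 241055112454) (.leaf 1491964594698))) (.node (.node (.leaf 352187354626) (.leaf 1253056922880)) (.node (.leaf 724775904013) (.leaf 1195611755137)))) (.node (.node (.node (.node (.leaf 237296999575) (.leaf 1487132780825)) (.leaf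 1089311340183)) (.node (.leaf 630286600979) (.leaf 1454920503687))) (.node (.node (.leaf 223338424217) (.leaf 1337882631694)) (.node (.leaf 629212858900) (.leaf 690953082394)))))) (.node (.node (.node (.node (.node (.node (.leaf 93415542658) (.leaf 370977949186)) (.leaf 462782940056)) (.node (.leaf 157840063625) (.leaf 879931769984))) (.node (.node (.leaf 127775350784) (.leaf 1212791677447)) (.node (.leaf 285078522257) (.leaf 1176821469194)))) (.node (.node (.node (.node (.leaf 184146772370) (.leaf 1717450311066)) (.leaf 620623025921)) (.node (.leaf 515396198413) (.leaf 1636919652996))) (.node (.node (.leaf 476741469441) (.leaf 772557552010)) (.node (.leaf 358629950490) (.leaf 828391969050))))) (.node (.node (.node (.node (.node (.leaf 74088201089) (.leaf 576062733082)) (.leaf 529891821832)) (.node (.leaf 261456185626) (.leaf 942745686425))) (.node (.node (.leaf 390842117007) (.leaf 987305863938)) (.node (.leaf 760746168203) (.leaf 1524176907546)))) (.node (.node (.node (.node (.leaf 204010993810) (.leaf 1395327916289)) (.leaf 1130650410113))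 (.node (.leaf 665183218583) (.leaf 1102196389633))) (.node (.node (.leaf 569083225611) (.leaf 914291455243)) (.node (.leaf 821949561728) (.leaf 28991058586))))))
def dF_354 : BT := .node dF_352 dF_353
def dF_355 : BT := .node dF_351 dF_354
def dF_356 : BT := .node (.node (.node (.node (.node (.node (.node (.leaf 536872966) (.leaf 735513473562)) (.leaf 419296382080)) (.node (.leaf 588947526799) (.leaf 831613372825))) (.node (.node (.node (.leaf 257161209746) (.leaf 1343788213122)) (.leaf 675383879424)) (.node (.leaf 682363091853) (.leaf 1727113990274)))) (.node (.node (.node (.node (.leaf 17716754560) (.leaf 972810324505)) (.leaf 554051016473)) (.node (.leaf 355945499674) (.leaf 1553704649606))) (.node (.node (.leaf 179851852048) (.leaf 879394810753)) (.node (.leaf 362924920712) (.leaf 1095216864538))))) (.node (.node (.node (.node (.node (.leaf 29527926786) (.leaf 127238479642)) (.leaf 485868392066)) (.node (.leaf 144955156743) (.leaf 894964159750))) (.node (.node (.leaf 328028159879) (.leaf 1228897691910)) (.node (.leaf 275951714577)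 (.leaf 1185411375109)))) (.node (.node (.node (.node (.leaf 217432733447) (.leaf 482647166088)) (.leaf 1066762756499)) (.node (.leaf 267898729872) (.leaf 1656783945867))) (.node (.node (.leaf 214211611915) (.leaf 1314260181504)) (.node (.leaf 289373577754) (.leaf 1688459254426)))))) (.node (.node (.node (.node (.node (.node (.leaf 62277035022) (.leaf 264140530443)) (.leaf 871341596548)) (.node (.leaf 118111628819) (.leaf 857383186048))) (.node (.node (.leaf 257161234820) (.leaf 690953146504)) (.node (.leaf 721017714950) (.leaf 1349157009152)))) (.node (.node (.node (.node (.leaf 191662927239) (.leaf 1130650410265)) (.leaf 602369409412)) (.node (.leaf 351113660179) (.leaf 1605781134982))) (.node (.node (.leaf 446676647434) (.leaf 853088077830)) (.node (.leaf 389768474122) (.leaf 1069447053830))))) (.node (.node (.node (.node (.node (.leaf 156766335616) (.leaf 272730570394)) (.leaf 515396300550)) (.node (.leaf 375809694848) (.leaf 1505923128834))) (.node (.node (.leaf 367219790095) (.leaf 1270773629444)) (.node (.leaf 740882035217) (.leaf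 1797444187274)))) (.node (.node (.node (.node (.leaf 78383213188) (.leaf 1343788097798)) (.leaf 1107027974914)) (.node (.leaf 394600224272) (.leaf 1678795596424))) (.node (.node (.leaf 543850357655) (.leaf 809064786570)) (.node (.leaf 446139834260) (.leaf 625991739034))))))
def dF_357 : BT := .node (.node (.node (.node (.node (.node (.node (.leaf 35970352770) (.leaf 64961437466)) (.leaf 853087981827)) (.node (.leaf 272193693338) (.leaf 1404454506754))) (.node (.node (.node (.leaf 267361777815) (.leaf 1817845206534)) (.leaf 1165010156823)) (.node (.leaf 319438360458) (.leaf 1749662571529)))) (.node (.node (.node (.node (.leaf 153545117327) (.leaf 907312073856)) (.leaf 571767761283)) (.node (.leaf 449897936154) (.leaf 978716050049))) (.node (.node (.leaf 425738679557) (.leaf 268435520538)) (.node (.leaf 374736084609) (.leaf 998580128256))))) (.node (.node (.node (.node (.node (.leaf 131533381896) (.leaf 185757363843)) (.leaf 923418150791)) (.node (.leaf 551903429274) (.leaf 1486595771652))) (.node (.node (.leaf 347355518722) (.leaf 1248762038913))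 (.node (.leaf 336081362954) (.leaf 375809797771)))) (.node (.node (.node (.node (.leaf 60666468998) (.leaf 658203954310)) (.leaf 1084479393158)) (.node (.leaf 627065291904) (.leaf 1540282863898))) (.node (.node (.leaf 516469940371) (.leaf 409632603523)) (.node (.leaf 562640849940) (.leaf 602369311258)))))) (.node (.node (.node (.node (.node (.node (.leaf 88583711244) (.leaf 375272953990)) (.leaf 460098584217)) (.node (.leaf 246960677018) (.leaf 872952447360))) (.node (.node (.leaf 304405836432) (.leaf 885300329862)) (.node (.leaf 153008296858) (.leaf 1170915887750)))) (.node (.node (.node (.node (.leaf 204010993805) (.leaf 1206349152133)) (.leaf 1049045908360)) (.node (.leaf 478888967695) (.leaf 1012002057988))) (.node (.node (.leaf 207769155590) (.leaf 1296006565386)) (.node (.leaf 46170909461) (.leaf 43486789658))))) (.node (.node (.node (.node (.node (.leaf 85899354906) (.leaf 184146780295)) (.leaf 525596853130)) (.node (.leaf 46170909463) (.leaf 1526324366735))) (.node (.node (.leaf 385473406593) (.leaf 487478920963)) (.node (.leaf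 756451276160) (.leaf 1296006654977)))) (.node (.node (.node (.node (.leaf 228707061650) (.leaf 1760400140185)) (.leaf 1127429184015)) (.node (.leaf 659814421131) (.leaf 1702417924096))) (.node (.node (.leaf 306553424896) (.leaf 1372779117446)) (.node (.leaf 817117722893) (.leaf 351113629978))))))
def dF_358 : BT := .node dF_356 dF_357
def dF_359 : BT := .node (.node (.node (.node (.node (.node (.node (.leaf 1073747097) (.leaf 762356912794)) (.leaf 842887432712)) (.node (.leaf 595389940609) (.leaf 839129567746))) (.node (.node (.node (.leaf 151934530320) (.leaf 758061970569)) (.leaf 1152662007562)) (.node (.leaf 691489899543) (.leaf 1739462023557)))) (.node (.node (.node (.node (.leaf 44023435662) (.leaf 1165010156825)) (.leaf 995895675656)) (.node (.leaf 319438268815) (.leaf 1567126565377))) (.node (.node (.leaf 184146822032) (.leaf 1079647554458)) (.node (.leaf 781684234253) (.leaf 977642313370))))) (.node (.node (.node (.node (.node (.leaf 53687119360) (.leaf 563177670278)) (.leaf 915901958553)) (.node (.leaf 185220508819) (.leaf 1474784611076)))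 (.node (.node (.leaf 337691838848) (.leaf 1237487746560)) (.node (.leaf 340376239377) (.leaf 768799427481)))) (.node (.node (.node (.node (.leaf 229243932685) (.leaf 1468342212742)) (.leaf 1075352693133)) (.node (.leaf 272730571028) (.leaf 1668595192329))) (.node (.node (.leaf 505195616392) (.leaf 1326608214149)) (.node (.leaf 219043384341) (.leaf 223875204996)))))) (.node (.node (.node (.node (.node (.node (.leaf 11811178514) (.leaf 1306)) (.leaf 879931534978)) (.node (.leaf 112742918419) (.leaf 1416265808392))) (.node (.node (.leaf 293668458765) (.leaf 710817373698)) (.node (.leaf 9126807697) (.leaf 1784559336973)))) (.node (.node (.node (.node (.leaf 15032393881) (.leaf 426812551690)) (.leaf 1040455972100)) (.node (.leaf 413927522944) (.leaf 1005022733186))) (.node (.node (.leaf 199716089368) (.leaf 1286342941315)) (.node (.leaf 43486586138) (.leaf 277562437274))))) (.node (.node (.node (.node (.node (.leaf 170724960138) (.leaf 53150232985)) (.leaf 955093580179)) (.node (.leaf 180388669459) (.leaf 1517197420420))) (.node (.node (.leaf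 375809676166) (.leaf 772020676992)) (.node (.leaf 747861294338) (.leaf 1333050792327)))) (.node (.node (.node (.node (.leaf 78920030995) (.leaf 1640677745306)) (.leaf 1118839136388)) (.node (.leaf 288836706186) (.leaf 1078574065158))) (.node (.node (.leaf 551366482946) (.leaf 1363115570573)) (.node (.leaf 643708416006) (.leaf 331786394138))))))
def dF_360 : BT := .node (.node (.node (.node (.node (.node (.node (.leaf 7516204304) (.leaf 1282047990402)) (.leaf 439697482520)) (.node (.leaf 272193617295) (.leaf 1415191926662))) (.node (.node (.leaf 112742957312) (.leaf 1175747460874)) (.node (.leaf 344671295488) (.leaf 1135482399128)))) (.node (.node (.node (.node (.leaf 181999265666) (.leaf 860067401728)) (.leaf 574988989312)) (.node (.leaf 222801481623) (.leaf 1596117457154))) (.node (.node (.leaf 435402391831) (.leaf 1227823960323)) (.node (.leaf 795642881303) (.leaf 602369354889))))) (.node (.node (.node (.node (.node (.leaf 143344566155) (.leaf 1341103859994)) (.leaf 506806363656)) (.node (.leaf 35970359699) (.leaf 1496259588353)))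 (.node (.node (.leaf 296889699335) (.leaf 1257888846741)) (.node (.leaf 340376332308) (.leaf 916975645314)))) (.node (.node (.node (.node (.leaf 244276281355) (.leaf 1407139036930)) (.leaf 639950388484)) (.node (.leaf 634581484170) (.leaf 1056562353286))) (.node (.node (.leaf 224412167686) (.leaf 1341103731200)) (.node (.leaf 530428587540) (.leaf 984621544730)))))) (.node (.node (.node (.node (.node (.node (.leaf 98247397134) (.leaf 1202054298753)) (.leaf 474594101124)) (.node (.leaf 119185370778) (.leaf 888521705990))) (.node (.node (.leaf 128312223234) (.leaf 1218697142918)) (.node (.leaf 180388669457) (.leaf 1810865868038)))) (.node (.node (.node (.node (.leaf 52613400217) (.leaf 1601486146330)) (.leaf 761820076440)) (.node (.leaf 526670418058) (.leaf 1028108188936))) (.node (.node (.leaf 483183935885) (.leaf 1305133376774)) (.node (.leaf 389768474266) (.leaf 451508725018))))) (.node (.node (.node (.node (.node (.leaf 40265333388) (.leaf 753230016011)) (.leaf 530965564696)) (.node (.leaf 554050870278) (.leaf 1538135493632))) (.node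 (.node (.leaf 395673923211) (.leaf 440771081858)) (.node (.leaf 361314305945) (.leaf 1012001901313)))) (.node (.node (.node (.node (.leaf 253403098509) (.leaf 777926131226)) (.leaf 1134945264904)) (.node (.leaf 670551840006) (.leaf 1714229230741))) (.node (.node (.leaf 243202660484) (.leaf 827855274498)) (.node (.leaf 826781401621) (.leaf 629212943642))))))
def dF_361 : BT := .node dF_359 dF_360
def dF_362 : BT := .node dF_358 dF_361
def dF_363 : BT := .node dF_355 dF_362
def dF_364 : BT := .node (.node (.node (.node (.node (.node (.node (.leaf 1042) (.leaf 1188095517082)) (.leaf 415001414273)) (.node (.leaf 586800041101) (.leaf 1382979797001))) (.node (.node (.node (.leaf 256087466765) (.leaf 1125818574087)) (.leaf 1139240346899)) (.node (.leaf 679141776656) (.leaf 1110786327936)))) (.node (.node (.node (.node (.leaf 9126830234) (.leaf 841276919705)) (.leaf 985158255872)) (.node (.leaf 146028922893) (.leaf 1550483422217))) (.node (.node (.leaf 179314980496) (.leaf 891205927834)) (.node (.leaf 362388049162) (.leaf 1263257394714)))))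 (.node (.node (.node (.node (.node (.leaf 19327378578) (.leaf 214748416003)) (.leaf 906775186575)) (.node (.leaf 86973098138) (.leaf 893890417418))) (.node (.node (.leaf 133144063498) (.leaf 728534120200)) (.node (.leaf 284541651209) (.leaf 1685238074778)))) (.node (.node (.node (.node (.leaf 159987540624) (.leaf 928786910341)) (.leaf 624917995650)) (.node (.leaf 267898729606) (.leaf 1654636545293))) (.node (.node (.leaf 492847613453) (.leaf 782758102538)) (.node (.leaf 243202662298) (.leaf 627602162074)))))) (.node (.node (.node (.node (.node (.node (.leaf 60129544196) (.leaf 1035087301761)) (.leaf 869194213775)) (.node (.leaf 377957160714) (.leaf 1420560747782))) (.node (.node (.leaf 283467907863) (.leaf 739271528066)) (.node (.leaf 718870243972) (.leaf 1772748024458)))) (.node (.node (.node (.node (.leaf 190052337679) (.leaf 807991057946)) (.leaf 599685054082)) (.node (.leaf 340376239375) (.leaf 995359053312))) (.node (.node (.leaf 203474181529) (.leaf 1260573060890)) (.node (.leaf 803158976384) (.leaf 145492142362))))) (.node (.node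 (.node (.node (.node (.leaf 36507258635) (.leaf 647466474265)) (.leaf 941671804183)) (.node (.leaf 373662243859) (.leaf 922881456152))) (.node (.node (.leaf 153008297112) (.leaf 1268626246280)) (.node (.leaf 739271422096) (.leaf 988916384897)))) (.node (.node (.node (.node (.leaf 250181861907) (.leaf 1695975497626)) (.leaf 645855970562)) (.node (.leaf 340376311424) (.leaf 1063541676422))) (.node (.node (.leaf 542239743757) (.leaf 1347009311234)) (.node (.leaf 713501612180) (.leaf 1680943033626))))))
def dF_365 : BT := .node (.node (.node (.node (.node (.node (.node (.leaf 30601649431) (.leaf 661961984794)) (.leaf 850403727382)) (.node (.leaf 130996533914) (.leaf 841813924481))) (.node (.node (.node (.leaf 265214293651) (.leaf 1817308456833)) (.leaf 673773271961)) (.node (.leaf 316754005248) (.leaf 1746978216708)))) (.node (.node (.node (.node (.leaf 45634048782) (.leaf 1390495993602)) (.leaf 563714696962)) (.node (.leaf 428959962138) (.leaf 1579474599693))) (.node (.node (.leaf 423591250445) (.leaf 1057099075329)) (.node (.leaf 374736084480)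 (.leaf 1440425002906))))) (.node (.node (.node (.node (.node (.leaf 128312178444) (.leaf 200252935043)) (.leaf 921807575701)) (.node (.leaf 8053065615) (.leaf 906238453144))) (.node (.node (.leaf 157840130306) (.leaf 743029639050)) (.node (.leaf 606664275216) (.leaf 1802812747162)))) (.node (.node (.node (.node (.leaf 233002012183) (.leaf 817117799170)) (.leaf 630823579396)) (.node (.leaf 625454678408) (.leaf 1119912953601))) (.node (.node (.leaf 222801551108) (.leaf 883689722758)) (.node (.leaf 461709134082) (.leaf 874026137498)))))) (.node (.node (.node (.node (.node (.node (.leaf 15569277080) (.leaf 690952952963)) (.leaf 457414229144)) (.node (.leaf 263066803226) (.leaf 1442572347786))) (.node (.node (.leaf 302258394263) (.leaf 1207422851595)) (.node (.leaf 243202662170) (.leaf 1663763384473)))) (.node (.node (.node (.node (.leaf 201863474955) (.leaf 841276919685)) (.leaf 613643702144)) (.node (.leaf 462245965455) (.leaf 1628329717131))) (.node (.node (.leaf 469225284371) (.leaf 768799454212)) (.node (.leaf 179851852186) (.leaf 462782972826)))))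 (.node (.node (.node (.node (.node (.leaf 74088204058) (.leaf 855772508954)) (.leaf 962609671296)) (.node (.leaf 423054379539) (.leaf 1523103015300))) (.node (.node (.leaf 163208848386) (.leaf 991064010371)) (.node (.leaf 754840586891) (.leaf 682363206042)))) (.node (.node (.node (.node (.leaf 54223975187) (.leaf 1760936807322)) (.leaf 1125818570893)) (.node (.leaf 658203895059) (.leaf 1090922098328))) (.node (.node (.leaf 559956493715) (.leaf 817654725636)) (.node (.leaf 403727120385) (.leaf 395137054234))))))
def dF_366 : BT := .node dF_364 dF_365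
def dF_367 : BT := .node (.node (.node (.node (.node (.node (.node (.leaf 17716742284) (.leaf 668404356250)) (.leaf 841813790733)) (.node (.leaf 593779324819) (.leaf 1390495993615))) (.node (.node (.node (.leaf 259845571214) (.leaf 1137092825222)) (.leaf 1149440781570)) (.node (.leaf 309774680729) (.leaf 1124744974592)))) (.node (.node (.node (.node (.leaf 145492058766) (.leaf 530428594944)) (.leaf 994285165953)) (.node (.leaf 296352814093) (.leaf 967978627206))) (.node (.node (.leaf 184146821510) (.leaf 829465754520)) (.node (.leaf 778462909449) (.leaf 563177709319))))) (.node (.node (.node (.node (.node (.leaf 110058564356) (.leaf 449898096777)) (.leaf 914291381135)) (.node (.leaf 403190151059) (.leaf 904090967042))) (.node (.node (.leaf 146028968064) (.leaf 1234803392021)) (.node (.leaf 496605712016) (.leaf 696858813466)))) (.node (.node (.node (.node (.leaf 54224016408) (.leaf 1136555937050)) (.leaf 1073205162776)) (.node (.leaf 615254130695) (.leaf 1048509288458))) (.node (.node (.leaf 502511225488) (.leaf 790274297990)) (.node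 (.leaf 389768375061) (.leaf 426275676802)))))) (.node (.node (.node (.node (.node (.node (.leaf 9663693973) (.leaf 606664325018)) (.leaf 877247279373)) (.node (.leaf 110595434119) (.leaf 859530672024))) (.node (.node (.leaf 290984063495) (.leaf 1196685429513)) (.node (.leaf 331786302737) (.leaf 1150514789272)))) (.node (.node (.node (.node (.leaf 26306700698) (.leaf 807990923401)) (.leaf 1037771617418)) (.node (.leaf 390305246103) (.leaf 999117152258))) (.node (.node (.leaf 456877193860) (.leaf 882079084165)) (.node (.leaf 34359739930) (.leaf 1734093276186))))) (.node (.node (.node (.node (.node (.leaf 167503734795) (.leaf 1200980406810)) (.leaf 939524323072)) (.node (.leaf 322659496858) (.leaf 1513439323014))) (.node (.node (.leaf 372588470153) (.leaf 1279900470936)) (.node (.leaf 746250666502) (.leaf 1656247158042)))) (.node (.node (.node (.node (.leaf 28454177043) (.leaf 1253057129114)) (.leaf 839666372352)) (.node (.leaf 649077000708) (.leaf 1687385621656))) (.node (.node (.leaf 549755897495) (.leaf 815507239940)) (.node (.leaf 390305345408)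 (.leaf 1672890067482))))))
def dF_368 : BT := .node (.node (.node (.node (.node (.node (.node (.leaf 45634029320) (.leaf 691489921160)) (.leaf 859530535061)) (.node (.leaf 267898648965) (.leaf 849330119554))) (.node (.node (.leaf 112206085904) (.leaf 1171989363590)) (.node (.leaf 331249522452) (.leaf 1759326249481)))) (.node (.node (.node (.node (.leaf 45097199360) (.leaf 1468342165120)) (.leaf 571767763210)) (.node (.leaf 497142584090) (.leaf 1593433177984))) (.node (.node (.leaf 433791799191) (.leaf 426812477082)) (.node (.leaf 375272956820) (.leaf 1420560584986))))) (.node (.node (.node (.node (.node (.leaf 31138546440) (.leaf 36507230745)) (.leaf 930397511680)) (.node (.leaf 242128839063) (.leaf 1493575186560))) (.node (.node (.leaf 232465189529) (.leaf 1255741242880)) (.node (.leaf 339839460742) (.leaf 737123921154)))) (.node (.node (.node (.node (.leaf 102542401432) (.leaf 1738388389638)) (.leaf 1093606199562)) (.node (.leaf 632434085135) (.leaf 1567663369355))) (.node (.node (.leaf 526670419466) (.leaf 1338956373779)) (.node (.leaf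 788126686741) (.leaf 224949340570)))))) (.node (.node (.node (.node (.node (.node (.leaf 16643021069) (.leaf 675383773466)) (.leaf 898722019722)) (.node (.leaf 373662245146) (.leaf 1450088543112))) (.node (.node (.leaf 313532643851) (.leaf 723165408260)) (.node (.leaf 272730488337) (.leaf 1807107920653)))) (.node (.node (.node (.node (.leaf 210453447565) (.leaf 907849093530)) (.leaf 620623026314)) (.node (.leaf 520228037775) (.leaf 1641751492610))) (.node (.node (.leaf 479962645639) (.leaf 773094423833)) (.node (.leaf 373662341658) (.leaf 997506392327))))) (.node (.node (.node (.node (.node (.leaf 140123341722) (.leaf 1426466344730)) (.leaf 530428693128)) (.node (.leaf 505732519693) (.leaf 947040654617))) (.node (.node (.leaf 174483140228) (.leaf 908922605849)) (.node (.leaf 361314305544) (.leaf 1785633040134)))) (.node (.node (.node (.node (.leaf 117037901453) (.leaf 1752347074565)) (.leaf 659277749890)) (.node (.leaf 296889773456) (.leaf 1102733261450))) (.node (.node (.leaf 241592046982) (.leaf 821949694090)) (.node (.leaf 408022089600)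 (.leaf 1280974177562))))))
def dF_369 : BT := .node dF_367 dF_368
def dF_370 : BT := .node dF_366 dF_369
def dF_371 : BT := .node (.node (.node (.node (.node (.node (.node (.leaf 10200548998) (.leaf 224412168346)) (.leaf 839129435537)) (.node (.leaf 590558067094) (.leaf 1387274636038))) (.node (.node (.node (.leaf 258234952845) (.leaf 1301912189338)) (.leaf 1144072071554)) (.node (.leaf 309237808656) (.leaf 1729798344330)))) (.node (.node (.node (.node (.leaf 78920030999) (.leaf 841813855514)) (.leaf 988916352138)) (.node (.leaf 153008297113) (.leaf 968515496327))) (.node (.node (.leaf 180388723714) (.leaf 411243291034)) (.node (.leaf 362924920980) (.leaf 530965610906))))) (.node (.node (.node (.node (.node (.leaf 28454185616) (.leaf 426275778714)) (.leaf 911070154903)) (.node (.leaf 276488585613) (.leaf 1468342158600))) (.node (.node (.leaf 331249387520) (.leaf 1230508423697)) (.node (.leaf 340913110416) (.leaf 1181116317338)))) (.node (.node (.node (.node (.leaf 220117087369) (.leaf 657667262490)) (.leaf 1068373369615)) (.node (.leaf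 268435601540) (.leaf 1048509286784))) (.node (.node (.leaf 214748483592) (.leaf 788126812806)) (.node (.leaf 350576789141) (.leaf 7516398874)))))) (.node (.node (.node (.node (.node (.node (.leaf 9126821388) (.leaf 340913154566)) (.leaf 872952311061)) (.node (.leaf 31138520218) (.leaf 1370631778944))) (.node (.node (.leaf 287762852613) (.leaf 691490018186)) (.node (.leaf 193810503578) (.leaf 1775432382338)))) (.node (.node (.node (.node (.leaf 194347291402) (.leaf 739271450758)) (.leaf 1033476752023)) (.node (.leaf 361314209939) (.leaf 995895925510))) (.node (.node (.leaf 198642344704) (.leaf 1066762756486)) (.node (.leaf 719943973017) (.leaf 846645625352))))) (.node (.node (.node (.node (.node (.leaf 159987541129) (.leaf 872952295559)) (.leaf 515933172360)) (.node (.leaf 117037886735) (.leaf 1508607483522))) (.node (.node (.leaf 368830403215) (.leaf 758598902273)) (.node (.leaf 350576882824) (.leaf 1548872898567)))) (.node (.node (.node (.node (.leaf 252329355415) (.leaf 1275068599450)) (.leaf 648003455496)) (.node (.leaf 285078608134)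 (.leaf 1681479951238))) (.node (.node (.leaf 229780880646) (.leaf 811749142152)) (.node (.leaf 616864742921) (.leaf 947577469210))))))
def dF_372 : BT := .node (.node (.node (.node (.node (.node (.node (.leaf 38654707968) (.leaf 947577349380)) (.leaf 855772437779)) (.node (.leaf 372588501914) (.leaf 1406601990280))) (.node (.node (.node (.leaf 270582967296) (.leaf 1508607696136)) (.leaf 696858722054)) (.node (.leaf 707059068437) (.leaf 1752347074579)))) (.node (.node (.node (.node (.leaf 43486585744) (.leaf 1130650558618)) (.leaf 1009317451776)) (.node (.leaf 200252897939) (.leaf 981937276672))) (.node (.node (.leaf 185757438100) (.leaf 336618142083)) (.node (.leaf 790274170893) (.leaf 525060081562))))) (.node (.node (.node (.node (.node (.leaf 30601674252) (.leaf 374736079877)) (.leaf 497679556102)) (.node (.leaf 139) (.leaf 909996551172))) (.node (.node (.leaf 349502999572) (.leaf 1251983265293)) (.node (.leaf 336618234240) (.leaf 374199153802)))) (.node (.node (.node (.node (.leaf 235686368781) (.leaf 1133871566340)) (.leaf 636729160710))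 (.node (.leaf 629212858893) (.leaf 1453309683994))) (.node (.node (.leaf 224412165120) (.leaf 831076369923)) (.node (.leaf 514859327380) (.leaf 1356136255898)))))) (.node (.node (.node (.node (.node (.node (.leaf 90731195542) (.leaf 1396401455002)) (.leaf 893890281615)) (.node (.leaf 345208078874) (.leaf 1445793710743))) (.node (.node (.leaf 306553363735) (.leaf 1210107243656)) (.node (.leaf 198105473306) (.leaf 1174673984776)))) (.node (.node (.node (.node (.leaf 46707818504) (.leaf 1204201703946)) (.leaf 1052267134472)) (.node (.leaf 488552646423) (.leaf 1634772169350))) (.node (.node (.leaf 473520257024) (.leaf 792421775364)) (.node (.leaf 115964124291) (.leaf 332323141658))))) (.node (.node (.node (.node (.node (.leaf 45097177354) (.leaf 506806328200)) (.leaf 526133724440)) (.node (.leaf 550829640090) (.leaf 1528471725316))) (.node (.node (.leaf 388694624013) (.leaf 784905491993)) (.node (.leaf 758598779535) (.leaf 1557999592730)))) (.node (.node (.node (.node (.leaf 215285286930) (.leaf 1338956317451)) (.leaf 657130265352)) (.node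 (.leaf 662498776704) (.leaf 1705639150082))) (.node (.node (.leaf 246423883545) (.leaf 828391933058)) (.node (.leaf 819265108738) (.leaf 1363652379290))))))
def dF_373 : BT := .node dF_371 dF_372
def dF_374 : BT := .node (.node (.node (.node (.node (.node (.node (.leaf 25232937738) (.leaf 761820005784)) (.leaf 845571888013)) (.node (.leaf 352187460753) (.leaf 839129568280))) (.node (.node (.node (.leaf 262529912326) (.leaf 1206349347976)) (.leaf 1155883233801)) (.node (.leaf 310311552660) (.leaf 1127429330945)))) (.node (.node (.node (.node (.leaf 102542359703) (.leaf 1010391444634)) (.leaf 562104082822)) (.node (.leaf 336618096522) (.leaf 972273596550))) (.node (.node (.leaf 418222521615) (.leaf 984621402649)) (.node (.leaf 373662341784) (.leaf 856309358234))))) (.node (.node (.node (.node (.node (.leaf 28991058193) (.leaf 497679697050)) (.leaf 488552748676)) (.node (.leaf 7516194575) (.leaf 1130113622026))) (.node (.node (.leaf 339839322114) (.leaf 1239635112328)) (.node (.leaf 716185967377) (.leaf 522912342539)))) (.node (.node (.node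 (.node (.leaf 230854505222) (.leaf 1130650297730)) (.leaf 1076963257881)) (.node (.leaf 275951797000) (.leaf 1528471850882))) (.node (.node (.leaf 219043453457) (.leaf 793495525000)) (.node (.leaf 272730488341) (.leaf 197568542854)))))) (.node (.node (.node (.node (.node (.node (.leaf 18790500864) (.leaf 390305246105)) (.leaf 881542145931)) (.node (.leaf 599684951693) (.leaf 865436253316))) (.node (.node (.leaf 295815903877) (.leaf 710817374233)) (.node (.leaf 309237808666) (.leaf 1788854155402)))) (.node (.node (.node (.node (.leaf 194884162315) (.leaf 1398548990345)) (.leaf 1041529817621)) (.node (.leaf 426812476813) (.leaf 1011465184898))) (.node (.node (.leaf 464393387017) (.leaf 767725711492)) (.node (.leaf 122406737050) (.leaf 879931627529))))) (.node (.node (.node (.node (.node (.leaf 173946186112) (.leaf 352187444864)) (.leaf 520765013017)) (.node (.leaf 331249431703) (.leaf 1251446457986))) (.node (.node (.leaf 379030952975) (.leaf 1283121699200)) (.node (.leaf 352187497240) (.leaf 896037901594)))) (.node (.node (.node (.node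 (.leaf 93415589146) (.leaf 562103967755)) (.leaf 952409265284)) (.node (.leaf 289373577608) (.leaf 1692217452043))) (.node (.node (.leaf 379030995974) (.leaf 1364726053504)) (.node (.leaf 809601528333) (.leaf 768799329305))))))
def dF_375 : BT := .node (.node (.node (.node (.node (.node (.node (.leaf 8053076226) (.leaf 110595434251)) (.leaf 864899144324)) (.node (.leaf 89120582298) (.leaf 1416802664194))) (.node (.node (.leaf 112742958228) (.leaf 1178431815562)) (.node (.leaf 715112199811) (.leaf 1765768790784)))) (.node (.node (.node (.node (.leaf 44560329734) (.leaf 806917129739)) (.leaf 1021665483010)) (.node (.leaf 526133624218) (.leaf 1598264993802))) (.node (.node (.leaf 437549839878) (.leaf 1083942560920)) (.node (.leaf 798327135882) (.leaf 278636105607))))) (.node (.node (.node (.node (.node (.leaf 37044127874) (.leaf 816043939720)) (.leaf 936839866498)) (.node (.leaf 345208078743) (.leaf 1500017637248))) (.node (.node (.leaf 359166725651) (.leaf 1261109952259)) (.node (.leaf 732292006789) (.leaf 1195611833220)))) (.node (.node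 (.node (.node (.leaf 66035181057) (.leaf 1399085930245)) (.leaf 640487260441)) (.node (.leaf 637265924495) (.leaf 1058172966408))) (.node (.node (.leaf 224949039492) (.leaf 808527913728)) (.node (.leaf 743566390421) (.leaf 344671191691)))))) (.node (.node (.node (.node (.node (.node (.leaf 101468607366) (.leaf 225485836825)) (.leaf 904090815360)) (.node (.leaf 293131546122) (.leaf 1457067868440))) (.node (.node (.leaf 317290748180) (.leaf 1220844666632)) (.node (.leaf 53150256520) (.leaf 1183263922438)))) (.node (.node (.node (.node (.leaf 53150271627) (.leaf 1401233414425)) (.leaf 634044799616)) (.node (.leaf 535260352906) (.leaf 1648193945733))) (.node (.node (.leaf 485331355272) (.leaf 1307280879896)) (.node (.leaf 340376332314) (.leaf 1022202454656))))) (.node (.node (.node (.node (.node (.leaf 20937970458) (.leaf 1257888739339)) (.leaf 979789541770)) (.node (.leaf 562103978893) (.leaf 1542430362374))) (.node (.node (.leaf 398895155475) (.leaf 864899145497)) (.node (.leaf 766114877706) (.leaf 1364189254298)))) (.node (.node (.node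 (.node (.leaf 253939969555) (.leaf 1328218828289)) (.leaf 1135482249623)) (.node (.leaf 672699413133) (.leaf 1105417617154))) (.node (.node (.leaf 242665790744) (.leaf 827318404121)) (.node (.leaf 829465656580) (.leaf 1033476757658))))))
def dF_376 : BT := .node dF_374 dF_375
def dF_377 : BT := .node dF_373 dF_376
def dF_378 : BT := .node dF_370 dF_377
def dF_379 : BT := .node dF_363 dF_378
def dF_380 : BT := .node dF_348 dF_379
def dF_381 : BT := .node dF_317 dF_380
def dF_382 : BT := .node (.node (.node (.node (.node (.node (.node (.leaf 6) (.leaf 537407836570)) (.leaf 830539398918)) (.node (.leaf 581968126598) (.leaf 827855275289))) (.node (.node (.node (.leaf 254476841111) (.leaf 1485522033306)) (.leaf 658740880136)) (.node (.leaf 673773155213) (.leaf 1105954488324)))) (.node (.node (.node (.node (.leaf 15032387078) (.leaf 1102733116185)) (.leaf 979789648023)) (.node (.leaf 563714514954) (.leaf 984084749830))) (.node (.node (.leaf 399432026515) (.leaf 197568574872)) (.node (.leaf 362388048512) (.leaf 1707249844739))))) (.node (.node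 (.node (.node (.node (.leaf 102542359702) (.leaf 1488743255450)) (.leaf 482647165696)) (.node (.leaf 305479579280) (.leaf 1458141610521))) (.node (.node (.leaf 137975900313) (.leaf 724776022553)) (.node (.leaf 223338423834) (.leaf 1192390727936)))) (.node (.node (.node (.node (.leaf 53150271760) (.leaf 1237487747224)) (.leaf 1060857070342)) (.node (.leaf 602369306893) (.leaf 1649267702656))) (.node (.node (.leaf 209916642820) (.leaf 1074815877637)) (.node (.leaf 193810445461) (.leaf 894427127578)))))) (.node (.node (.node (.node (.node (.node (.leaf 53687093380) (.leaf 496605806723)) (.leaf 460098577920)) (.node (.leaf 94489293338) (.leaf 851477604488))) (.node (.node (.leaf 280783514763) (.leaf 1179505559424)) (.node (.leaf 707059161729) (.leaf 1139240496769)))) (.node (.node (.node (.node (.leaf 44560329994) (.leaf 841276983322)) (.leaf 579820828930)) (.node (.leaf 223875296409) (.leaf 1598801812740))) (.node (.node (.leaf 438623581575) (.leaf 1225676378650)) (.node (.leaf 376346699796) (.leaf 411243291418))))) (.node (.node (.node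 (.node (.node (.leaf 35970386449) (.leaf 30064778265)) (.leaf 938450476678)) (.node (.leaf 36507230733) (.leaf 1500554511494))) (.node (.node (.leaf 360240419336) (.leaf 1262720564740)) (.node (.leaf 341450075140) (.leaf 535260517897)))) (.node (.node (.node (.node (.leaf 246960677015) (.leaf 1228360847114)) (.leaf 806917243398)) (.node (.leaf 278099284624) (.leaf 1672890067480))) (.node (.node (.leaf 535797225227) (.leaf 1343788213137)) (.node (.leaf 647466474260) (.leaf 761283134745))))))
def dF_383 : BT := .node (.node (.node (.node (.node (.node (.node (.leaf 26306675985) (.leaf 408558947610)) (.leaf 426812577026)) (.node (.leaf 598611149073) (.leaf 839666439576))) (.node (.node (.node (.leaf 263066771332) (.leaf 1406065327239)) (.leaf 671625786884)) (.node (.leaf 695247905158) (.leaf 1127429331208)))) (.node (.node (.node (.node (.leaf 53150242700) (.leaf 774704846858)) (.leaf 563177824772)) (.node (.leaf 460098483994) (.leaf 972810467864))) (.node (.node (.leaf 418759355400) (.leaf 1026497333018)) (.node (.leaf 784905460493) (.leaf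 1335735134362))))) (.node (.node (.node (.node (.node (.leaf 28991058452) (.leaf 792958556807)) (.leaf 918586247301)) (.node (.leaf 93415551258) (.leaf 1478542707592))) (.node (.node (.leaf 257698118916) (.leaf 740345283590)) (.node (.leaf 362924823056) (.leaf 1173600178458)))) (.node (.node (.node (.node (.leaf 54760888200) (.leaf 907311998340)) (.leaf 1077500128921)) (.node (.leaf 621696664343) (.leaf 222801551002))) (.node (.node (.leaf 219580324633) (.leaf 795643008921)) (.node (.leaf 278636069781) (.leaf 601832386586)))))) (.node (.node (.node (.node (.node (.node (.leaf 15032404747) (.leaf 1280437308550)) (.leaf 455803614984)) (.node (.leaf 258234952858) (.leaf 1439887998336))) (.node (.node (.leaf 297426513538) (.leaf 712964858136)) (.node (.leaf 44023458074) (.leaf 1162862822296)))) (.node (.node (.node (.node (.leaf 45634074128) (.leaf 1400696473481)) (.leaf 622233635591)) (.node (.leaf 427349347863) (.leaf 1622961091840))) (.node (.node (.leaf 203474186756) (.leaf 870268055705)) (.node (.leaf 30601643545) (.leaf 879931537921)))))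 (.node (.node (.node (.node (.node (.leaf 45097166987) (.leaf 296352771721)) (.leaf 958851574144)) (.node (.leaf 333396879622) (.leaf 934155749120))) (.node (.node (.leaf 379567791238) (.leaf 1284195403657)) (.node (.leaf 752156231810) (.leaf 1806570966147)))) (.node (.node (.node (.node (.leaf 70330149146) (.leaf 1683090691866)) (.leaf 1122060362116)) (.node (.leaf 655519508230) (.leaf 1692754295064))) (.node (.node (.leaf 555661450376) (.leaf 1365799794822)) (.node (.leaf 390305346200) (.leaf 427349347865))))))
def dF_384 : BT := .node dF_382 dF_383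
def dF_385 : BT := .node (.node (.node (.node (.node (.node (.node (.leaf 536873875) (.leaf 966904865946)) (.leaf 839666306573)) (.node (.leaf 591094939023) (.leaf 836445211929))) (.node (.node (.node (.leaf 258234952855) (.leaf 1626719053722)) (.leaf 1144608942859)) (.node (.leaf 309774679938) (.leaf 1118839393414)))) (.node (.node (.node (.node (.leaf 79993773079) (.leaf 506269388674)) (.leaf 555124759174)) (.node (.leaf 173946216973) (.leaf 1557999617925))) (.node (.node (.leaf 409095715200) (.leaf 828928977946)) (.node (.leaf 363461792132) (.leaf 243202649600))))) (.node (.node (.node (.node (.node (.leaf 1073767578) (.leaf 1366336766234)) (.leaf 912143896973)) (.node (.leaf 277025456659) (.leaf 899795998984))) (.node (.node (.leaf 144955225482) (.leaf 733365959434)) (.node (.leaf 653908926736) (.leaf 240518527002)))) (.node (.node (.node (.node (.leaf 53687144088) (.leaf 1129039648666)) (.leaf 1068910234114)) (.node (.leaf 268435601944) (.leaf 1047435545474))) (.node (.node (.leaf 214748483992) (.leaf 1317481531904)) (.node (.leaf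 362387952021) (.leaf 789200428824)))))) (.node (.node (.node (.node (.node (.node (.leaf 9126821519) (.leaf 224412082691)) (.leaf 446139936152)) (.node (.leaf 309237720346) (.leaf 1429687443841))) (.node (.node (.leaf 178778082456) (.leaf 692026889480)) (.node (.leaf 157840085777) (.leaf 1146756691590)))) (.node (.node (.node (.node (.leaf 45634073881) (.leaf 1114544182810)) (.leaf 1034550391302)) (.node (.leaf 362387952013) (.leaf 1610076102795))) (.node (.node (.leaf 451508484358) (.leaf 1059246460551)) (.node (.leaf 6979397786) (.leaf 995359056026))))) (.node (.node (.node (.node (.node (.leaf 37044131476) (.leaf 436476155545)) (.leaf 947577385621)) (.node (.leaf 288836619930) (.leaf 1508607622423))) (.node (.node (.leaf 369367274259) (.leaf 1274531726210)) (.node (.leaf 743566390415) (.leaf 1197759378438)))) (.node (.node (.node (.node (.leaf 78383213459) (.leaf 1234803402890)) (.leaf 648003455768)) (.node (.leaf 645855861133) (.leaf 1074815966986))) (.node (.node (.leaf 547071584781) (.leaf 1356136247061)) (.node (.leaf 744103167640)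 (.leaf 788663650586))))))
def dF_386 : BT := .node (.node (.node (.node (.node (.node (.node (.leaf 40265321216) (.leaf 743029476506)) (.leaf 428960063114)) (.node (.leaf 308163976969) (.leaf 842350796568))) (.node (.node (.leaf 271119875077) (.leaf 1006096367623)) (.node (.leaf 708669681291) (.leaf 1753420668932)))) (.node (.node (.node (.node (.leaf 176630565515) (.leaf 1137093012250)) (.leaf 567472794890)) (.node (.leaf 474593999514) (.leaf 981937277080))) (.node (.node (.leaf 431107387531) (.leaf 622233453831)) (.node (.leaf 790810943363) (.leaf 225485907078))))) (.node (.node (.node (.node (.node (.leaf 80530669319) (.leaf 118648499865)) (.leaf 926102544015)) (.node (.leaf 562103984538) (.leaf 1490890853760))) (.node (.node (.leaf 208305997442) (.leaf 749472091780)) (.node (.leaf 723702161933) (.leaf 1633161592089)))) (.node (.node (.node (.node (.leaf 235149515782) (.leaf 1445793636352)) (.leaf 1088237490311)) (.node (.leaf 629749646082) (.leaf 523986222213))) (.node (.node (.leaf 223338423691) (.leaf 1336271891592)) (.node (.leaf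 625454761620) (.leaf 982474148122)))))) (.node (.node (.node (.node (.node (.node (.leaf 16106149267) (.leaf 487478952838)) (.leaf 894427152513)) (.node (.leaf 357556112794) (.leaf 1371705524994))) (.node (.node (.leaf 127238479377) (.leaf 718333569162)) (.node (.leaf 198642345626) (.leaf 1175210855942)))) (.node (.node (.node (.node (.leaf 206158477975) (.leaf 1205812407561)) (.leaf 1053340876422)) (.node (.leaf 496605712015) (.leaf 1014686413574))) (.node (.node (.leaf 208306027018) (.leaf 772020680857)) (.node (.leaf 127238479514) (.leaf 180388723462))))) (.node (.node (.node (.node (.node (.leaf 55297705871) (.leaf 738734551322)) (.leaf 968515356172)) (.node (.leaf 482647064983) (.leaf 942208815256))) (.node (.node (.leaf 173946268424) (.leaf 912680740998)) (.node (.leaf 759135650573) (.leaf 1800665423622)))) (.node (.node (.node (.node (.leaf 207769086863) (.leaf 1338956373784)) (.leaf 1128502926099)) (.node (.leaf 663572518657) (.leaf 1101659518344))) (.node (.node (.leaf 567472611460) (.leaf 1085553186842)) (.node (.leaf 820338850568)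 (.leaf 112206214042))))))
def dF_387 : BT := .node dF_385 dF_386
def dF_388 : BT := .node dF_384 dF_387
def dF_389 : BT := .node (.node (.node (.node (.node (.node (.node (.leaf 5368710402) (.leaf 956167180826)) (.leaf 836445080333)) (.node (.leaf 246960759684) (.leaf 1030792480920))) (.node (.node (.node (.leaf 256624338199) (.leaf 1744830762500)) (.leaf 659277751705)) (.node (.leaf 306016582020) (.leaf 1724966651392)))) (.node (.node (.node (.node (.leaf 19327362439) (.leaf 352187402265)) (.leaf 795642926592)) (.node (.leaf 350576836634) (.leaf 958851818904))) (.node (.node (.leaf 403190101120) (.leaf 441308060568)) (.node (.leaf 362388049432) (.leaf 1575716515610))))) (.node (.node (.node (.node (.node (.leaf 28454184576) (.leaf 296889685125)) (.leaf 907311956358)) (.node (.leaf 44023425303) (.leaf 1463510367623))) (.node (.node (.leaf 133680934804) (.leaf 731218475008)) (.node (.leaf 208842834577) (.leaf 1190243213313)))) (.node (.node (.node (.node (.leaf 214211544848) (.leaf 1478005836680)) (.leaf 1066225782272)) (.node (.leaf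 606127404179) (.leaf 1040456222080))) (.node (.node (.leaf 493384484623) (.leaf 1312649596678)) (.node (.leaf 272193698970) (.leaf 222801601818)))))) (.node (.node (.node (.node (.node (.node (.leaf 60666421903) (.leaf 1323387198490)) (.leaf 869731021464)) (.node (.leaf 287762877594) (.leaf 1421634495494))) (.node (.node (.leaf 117037926662) (.leaf 690953146244)) (.node (.leaf 336081362436) (.leaf 1773821814144)))) (.node (.node (.node (.node (.leaf 190589208717) (.leaf 1605244411034)) (.leaf 599685054616)) (.node (.leaf 341449981459) (.leaf 1605244264066))) (.node (.node (.leaf 330175717002) (.leaf 745713876362)) (.node (.leaf 803695857409) (.leaf 446139900551))))) (.node (.node (.node (.node (.node (.leaf 154081960965) (.leaf 209379771290)) (.leaf 534723652992)) (.node (.leaf 374199114899) (.leaf 1503775781656))) (.node (.node (.leaf 366146049171) (.leaf 1269699887114)) (.node (.leaf 740345069956) (.leaf 1596117500800)))) (.node (.node (.node (.node (.leaf 78383213057) (.leaf 1104343725699)) (.leaf 1105417471375)) (.node (.leaf 643171452800)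 (.leaf 1066762902018))) (.node (.node (.leaf 542776614806) (.leaf 1348619923714)) (.node (.leaf 773094297620) (.leaf 1075352816410))))))
def dF_390 : BT := .node (.node (.node (.node (.node (.node (.node (.leaf 6442458769) (.leaf 625991632665)) (.leaf 427349449096)) (.node (.leaf 308163977114) (.leaf 1403380898579))) (.node (.node (.node (.leaf 266824870913) (.leaf 1817308470421)) (.leaf 1164473169284)) (.node (.leaf 317290876440) (.leaf 1127966202904)))) (.node (.node (.node (.node (.leaf 52613371662) (.leaf 1445793698560)) (.leaf 1005022485504)) (.node (.leaf 185757438233) (.leaf 975494823832))) (.node (.node (.leaf 424128065033) (.leaf 1046361657114)) (.node (.leaf 721554693657) (.leaf 408559054746))))) (.node (.node (.node (.node (.node (.leaf 30064801936) (.leaf 576062666906)) (.leaf 775241816832)) (.node (.leaf 219043344906) (.leaf 1484448287878))) (.node (.node (.leaf 345744949645) (.leaf 743566510360)) (.node (.leaf 375809728016) (.leaf 1013075571206)))) (.node (.node (.node (.node (.leaf 233538897798) (.leaf 1487132697349))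 (.leaf 630823579800)) (.node (.leaf 278636152448) (.leaf 1525250619290))) (.node (.node (.leaf 289910415232) (.leaf 408558960794)) (.node (.leaf 449897974425) (.leaf 1461899665434)))))) (.node (.node (.node (.node (.node (.node (.leaf 16106148225) (.leaf 224949001354)) (.leaf 890132081796)) (.node (.leaf 64961395859) (.leaf 1443109350278))) (.node (.node (.leaf 303332136333) (.leaf 870804816520)) (.node (.leaf 28991058074) (.leaf 1796370354178)))) (.node (.node (.node (.node (.leaf 202937217163) (.leaf 1212791690266)) (.leaf 1047972270093)) (.node (.leaf 462782836499) (.leaf 1011465186712))) (.node (.node (.leaf 205084800648) (.leaf 768799454361)) (.node (.leaf 185757438106) (.leaf 336618104841))))) (.node (.node (.node (.node (.node (.leaf 79456896538) (.leaf 241055083522)) (.leaf 963683412230)) (.node (.leaf 436476155543) (.leaf 940598201346))) (.node (.node (.leaf 383325907605) (.leaf 985158275202)) (.node (.leaf 355945594884) (.leaf 1284732516608)))) (.node (.node (.node (.node (.leaf 246423805970) (.leaf 1125281702279)) (.leaf 656593393930))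 (.node (.leaf 658740766095) (.leaf 1095217065864))) (.node (.node (.leaf 237833947801) (.leaf 817654725898)) (.node (.leaf 816043980818) (.leaf 336081271065))))))
def dF_391 : BT := .node dF_389 dF_390
def dF_392 : BT := .node (.node (.node (.node (.node (.node (.node (.leaf 18790485638) (.leaf 1203664989466)) (.leaf 423054479494)) (.node (.leaf 594853069312) (.leaf 838055825290))) (.node (.node (.node (.leaf 260382442254) (.leaf 1637456550042)) (.leaf 666793947161)) (.node (.leaf 690953028353) (.leaf 1737851410438)))) (.node (.node (.node (.node (.leaf 174483067139) (.leaf 482647064985)) (.leaf 994822037137)) (.node (.leaf 296889685139) (.leaf 967978627466))) (.node (.node (.leaf 414464393988) (.leaf 1082868887681)) (.node (.leaf 779536652674) (.leaf 514859429274))))) (.node (.node (.node (.node (.node (.leaf 28454186137) (.leaf 310311476233)) (.leaf 774168073216)) (.node (.leaf 403727022103) (.leaf 1281511218312))) (.node (.node (.leaf 146565839104) (.leaf 738734669576)) (.node (.leaf 413927571856) (.leaf 308164326042)))) (.node (.node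 (.node (.node (.leaf 54760887552) (.leaf 1478005889031)) (.leaf 629212964994)) (.node (.leaf 272730570370) (.leaf 1049046159640))) (.node (.node (.leaf 218506581387) (.leaf 791884911112)) (.node (.leaf 331249431701) (.leaf 173946568346)))))) (.node (.node (.node (.node (.node (.node (.leaf 10200565268) (.leaf 606127507226)) (.leaf 878320920452)) (.node (.leaf 110595472409) (.leaf 860067543320))) (.node (.node (.leaf 292057805575) (.leaf 1198296044938)) (.node (.leaf 394600166532) (.leaf 1782948574849)))) (.node (.node (.node (.node (.leaf 136902090008) (.leaf 841813783046)) (.leaf 606664378369)) (.node (.leaf 445066062987) (.leaf 1002338378246))) (.node (.node (.leaf 458487807109) (.leaf 1068373321474)) (.node (.leaf 161598237082) (.leaf 1022202601370))))) (.node (.node (.node (.node (.node (.leaf 137975864454) (.leaf 613643621889)) (.leaf 953482863626)) (.node (.leaf 43486554253) (.leaf 1515049935112))) (.node (.node (.leaf 158377008128) (.leaf 1280437430413)) (.node (.leaf 414464521990) (.leaf 1047435399043)))) (.node (.node (.node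 (.node (.leaf 87509969171) (.leaf 414464521355)) (.leaf 650150940806)) (.node (.leaf 649613958419) (.leaf 1078037193753))) (.node (.node (.leaf 550292768791) (.leaf 816044111106)) (.node (.leaf 806917173143) (.leaf 630823724954))))))
def dF_393 : BT := .node (.node (.node (.node (.node (.node (.node (.leaf 46707780364) (.leaf 917512521090)) (.leaf 860067406097)) (.node (.leaf 264140515460) (.leaf 848256378136))) (.node (.node (.leaf 274877938178) (.leaf 1173599977219)) (.node (.leaf 331249522585) (.leaf 1760400140177)))) (.node (.node (.node (.node (.leaf 180388647306) (.leaf 740882108547)) (.leaf 1015223031425)) (.node (.leaf 214748416023) (.leaf 987305987338))) (.node (.node (.leaf 434865520015) (.leaf 185757437317)) (.node (.leaf 375809827972) (.leaf 1377074085274))))) (.node (.node (.node (.node (.node (.leaf 141197082252) (.leaf 530965424898)) (.leaf 931471254415)) (.node (.leaf 243202581139) (.leaf 1494112054937))) (.node (.node (.leaf 355945486727) (.leaf 1256815104661)) (.node (.leaf 727997040644) (.leaf 1150514554136)))) (.node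 (.node (.node (.node (.leaf 65498308996) (.leaf 1792612243610)) (.leaf 637266033542)) (.node (.leaf 633507742342) (.leaf 1669668929025))) (.node (.node (.leaf 223875296276) (.leaf 1340029988738)) (.node (.leaf 554050913300) (.leaf 653372166938)))))) (.node (.node (.node (.node (.node (.node (.leaf 96636768901) (.leaf 264140570118)) (.leaf 898722120983)) (.node (.leaf 158376927882) (.leaf 1451699274886))) (.node (.node (.leaf 314606428173) (.leaf 723702279432)) (.node (.leaf 151397633297) (.leaf 1808718384259)))) (.node (.node (.node (.node (.leaf 211527153027) (.leaf 713501672580)) (.leaf 1057635878149)) (.node (.leaf 523986135063) (.leaf 1023813221144))) (.node (.node (.leaf 259845636121) (.leaf 792958647814)) (.node (.leaf 158376956821) (.leaf 403727257754))))) (.node (.node (.node (.node (.node (.leaf 36507236374) (.leaf 710817338778)) (.leaf 530965564422)) (.node (.leaf 506269390739) (.leaf 1535987905289))) (.node (.node (.leaf 394063329551) (.leaf 767725548035)) (.node (.leaf 762356876819) (.leaf 1643899100416)))) (.node (.node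 (.node (.node (.leaf 112206080786) (.leaf 1508607594123)) (.leaf 1133871523074)) (.node (.leaf 296889773721) (.leaf 1104343874562))) (.node (.node (.leaf 247497627289) (.leaf 849866981634)) (.node (.leaf 825707560322) (.leaf 363998695450))))))
def dF_394 : BT := .node dF_392 dF_393
def dF_395 : BT := .node dF_391 dF_394
def dF_396 : BT := .node dF_388 dF_395
def dF_397 : BT := .node (.node (.node (.node (.node (.node (.node (.leaf 2147484161) (.leaf 1430761391642)) (.leaf 413927671960)) (.node (.leaf 585189427991) (.leaf 1381906056962))) (.node (.node (.node (.leaf 255550595596) (.leaf 1768989869338)) (.leaf 1138703475855)) (.node (.leaf 298500388496) (.leaf 1721745279112)))) (.node (.node (.node (.node (.leaf 60129578762) (.leaf 656593394074)) (.leaf 983547638922)) (.node (.leaf 574988883853) (.leaf 956704334338))) (.node (.node (.leaf 401042650262) (.leaf 879394763930)) (.node (.leaf 363461790722) (.leaf 1345935781914))))) (.node (.node (.node (.node (.node (.leaf 105763586572) (.leaf 151397650437)) (.leaf 906238214530)) (.node (.leaf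 309774590099) (.leaf 1461362835586))) (.node (.node (.leaf 132607192089) (.leaf 727460377625)) (.node (.leaf 117574757769) (.leaf 1815697706763)))) (.node (.node (.node (.node (.leaf 159987570074) (.leaf 1251446317321)) (.leaf 1064078296330)) (.node (.leaf 603979920015) (.leaf 1653025785730))) (.node (.node (.leaf 210453514624) (.leaf 1310502082820)) (.node (.leaf 223875296282) (.leaf 636729085466)))))) (.node (.node (.node (.node (.node (.node (.leaf 56908319365) (.leaf 660888194970)) (.leaf 868120374528)) (.node (.leaf 9126807695) (.leaf 852551346690))) (.node (.node (.leaf 282394165783) (.leaf 1182726784128)) (.node (.leaf 717796489098) (.leaf 1142998593928)))) (.node (.node (.node (.node (.leaf 44560330644) (.leaf 1234803274121)) (.leaf 616328051847)) (.node (.leaf 539018524314) (.leaf 993748440344))) (.node (.node (.leaf 197568600970) (.leaf 1245003822105)) (.node (.leaf 383326022296) (.leaf 716722764935))))) (.node (.node (.node (.node (.node (.leaf 151934476806) (.leaf 25)) (.leaf 941134832261)) (.node (.leaf 370977837834) (.leaf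 1500017686146))) (.node (.node (.leaf 362924772996) (.leaf 1267015532297)) (.node (.leaf 345208172544) (.leaf 1194001164549)))) (.node (.node (.node (.node (.leaf 249108118920) (.leaf 731218459906)) (.leaf 645855970432)) (.node (.leaf 641560806537) (.leaf 1060857321610))) (.node (.node (.leaf 225485911824) (.leaf 1345398806277)) (.node (.leaf 798327236500) (.leaf 797790356890))))))
def dF_398 : BT := .node (.node (.node (.node (.node (.node (.node (.leaf 10200554368) (.leaf 833223757570)) (.leaf 426812577418)) (.node (.leaf 601295484937) (.leaf 1401233414417))) (.node (.node (.node (.leaf 264140531586) (.leaf 1816771599379)) (.leaf 1161251943178)) (.node (.leaf 311385295640) (.leaf 1746441381124)))) (.node (.node (.node (.node (.leaf 128312178445) (.leaf 242128839065)) (.leaf 581968307456)) (.node (.leaf 184683661569) (.leaf 1577863986577))) (.node (.node (.leaf 421443710983) (.leaf 867046671130)) (.node (.leaf 374199213194) (.leaf 829465669274))))) (.node (.node (.node (.node (.node (.leaf 29527930264) (.leaf 488552646425)) (.leaf 921270603394))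 (.node (.leaf 93952422298) (.leaf 907312194562))) (.node (.node (.leaf 343060548357) (.leaf 1243393328653)) (.node (.leaf 506806261776) (.leaf 956167259289)))) (.node (.node (.node (.node (.leaf 232465141015) (.leaf 1509681273626)) (.leaf 1079110686211)) (.node (.leaf 602906183046) (.leaf 958851604609))) (.node (.node (.leaf 512174970899) (.leaf 847182617478)) (.node (.leaf 624380949912) (.leaf 854698821146)))))) (.node (.node (.node (.node (.node (.node (.leaf 84288741782) (.leaf 352724273305)) (.leaf 456877357446)) (.node (.leaf 261993057178) (.leaf 1441498605958))) (.node (.node (.leaf 119185414400) (.leaf 1206349226893)) (.node (.leaf 209379771034) (.leaf 1167157790594)))) (.node (.node (.node (.node (.leaf 46170946054) (.leaf 1481763980427)) (.leaf 1045287811588)) (.node (.leaf 449897931533) (.leaf 1625645364614))) (.node (.node (.leaf 468151541398) (.leaf 768262583050)) (.node (.leaf 202400501658) (.leaf 1426466226315))))) (.node (.node (.node (.node (.node (.leaf 9663678465) (.leaf 817117922714)) (.leaf 525059981056)) (.node (.leaf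 44560296339) (.leaf 1522029259272))) (.node (.node (.leaf 381178403968) (.leaf 925565758980)) (.node (.leaf 352724368904) (.leaf 1735704088195)))) (.node (.node (.node (.node (.leaf 37044107410) (.leaf 1605244390790)) (.leaf 1125281588480)) (.node (.leaf 293131674754) (.leaf 1695975611136))) (.node (.node (.leaf 558345880598) (.leaf 817117854474)) (.node (.leaf 395137185304) (.leaf 374735962759))))))
def dF_399 : BT := .node dF_397 dF_398
def dF_400 : BT := .node (.node (.node (.node (.node (.node (.node (.leaf 16642998532) (.leaf 721554595080)) (.leaf 841276919692)) (.node (.leaf 592705579795) (.leaf 1389959122575))) (.node (.node (.node (.leaf 259308700173) (.leaf 1585916945562)) (.leaf 1147293299456)) (.node (.leaf 688268583050) (.leaf 1119913135746)))) (.node (.node (.node (.node (.leaf 50465877914) (.leaf 345208290714)) (.leaf 992674552979)) (.node (.leaf 288836579462) (.leaf 1560683971593))) (.node (.node (.leaf 412316957459) (.leaf 832150111489)) (.node (.leaf 363461792664) (.leaf 724239068314))))) (.node (.node (.node (.node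 (.node (.leaf 49392125714) (.leaf 309237930501)) (.leaf 486405264138)) (.node (.leaf 336081271059) (.leaf 1472100255752))) (.node (.node (.leaf 334470642690) (.leaf 1233729531528)) (.node (.leaf 630823472016) (.leaf 363461771544)))) (.node (.node (.node (.node (.leaf 224948925062) (.leaf 1710471141402)) (.leaf 1071594489608)) (.node (.leaf 613643598735) (.leaf 1664300077443))) (.node (.node (.leaf 215285355266) (.leaf 789737426440)) (.node (.leaf 717796558234) (.leaf 7516481178)))))) (.node (.node (.node (.node (.node (.node (.leaf 9663693452) (.leaf 1657857783066)) (.leaf 875636608256)) (.node (.leaf 110058563213) (.leaf 1432908669188))) (.node (.node (.leaf 289910361491) (.leaf 693100632328)) (.node (.leaf 127238436497) (.leaf 1779190626575)))) (.node (.node (.node (.node (.leaf 142270824346) (.leaf 1104343814298)) (.leaf 1036161107219)) (.node (.leaf 363998565143) (.leaf 1612760604175))) (.node (.node (.leaf 454729710723) (.leaf 1232655823002)) (.node (.leaf 8053231770) (.leaf 784368816282))))) (.node (.node (.node (.node (.node (.leaf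 165356250123) (.leaf 782221224858)) (.leaf 519154398744)) (.node (.leaf 118648543257) (.leaf 927176425624))) (.node (.node (.leaf 371514744967) (.leaf 759135774360)) (.node (.leaf 351113754246) (.leaf 1672353323530)))) (.node (.node (.node (.node (.leaf 79993796890) (.leaf 759135701515)) (.leaf 1115081039108)) (.node (.leaf 648003345153) (.leaf 1076963451528))) (.node (.node (.leaf 548682198679) (.leaf 822486561162)) (.node (.leaf 486942003481) (.leaf 784905556250))))))
def dF_401 : BT := .node (.node (.node (.node (.node (.node (.node (.leaf 44023425153) (.leaf 798327328410)) (.leaf 815507120006)) (.node (.leaf 270583003270) (.leaf 1410896958466))) (.node (.node (.leaf 272193582722) (.leaf 927176344068)) (.node (.leaf 331786392964) (.leaf 1757715636739)))) (.node (.node (.node (.node (.leaf 117037901458) (.leaf 860067406083)) (.leaf 568009666186)) (.node (.leaf 209916576653) (.leaf 1592359381400))) (.node (.node (.leaf 432718056983) (.leaf 822486433282)) (.node (.leaf 792958526099) (.leaf 1123134325530))))) (.node (.node (.node (.node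 (.node (.leaf 31138546050) (.leaf 805306687386)) (.leaf 928786798346)) (.node (.leaf 241055096979) (.leaf 1330903346694))) (.node (.node (.leaf 353261144205) (.leaf 1253057007383)) (.node (.leaf 338228847768) (.leaf 515933133447)))) (.node (.node (.node (.node (.leaf 64961437202) (.leaf 1269699977989)) (.leaf 634581678216)) (.node (.leaf 630823472015) (.leaf 1451162450050))) (.node (.node (.leaf 525059805316) (.leaf 1337345760646)) (.node (.leaf 613643598740) (.leaf 341450093850)))))) (.node (.node (.node (.node (.node (.node (.leaf 93952422294) (.leaf 774704890887)) (.leaf 897648280839)) (.node (.leaf 386010277914) (.leaf 1449014800650))) (.node (.node (.leaf 310848288516) (.leaf 1204738615687)) (.node (.leaf 54224016026) (.leaf 1662689644679)))) (.node (.node (.node (.node (.leaf 208842797442) (.leaf 1198296207109)) (.leaf 1056025231876)) (.node (.leaf 515933069455) (.leaf 1638530266246))) (.node (.node (.leaf 477815161476) (.leaf 1300301533186)) (.node (.leaf 363998663962) (.leaf 441307994905))))) (.node (.node (.node (.node (.node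 (.leaf 119722227713) (.leaf 561567057542)) (.leaf 972810219910)) (.node (.leaf 229243932698) (.leaf 1532766679682))) (.node (.node (.leaf 173946268948) (.leaf 636729118979)) (.node (.leaf 761283134739) (.leaf 1782948538906)))) (.node (.node (.node (.node (.leaf 203474122771) (.leaf 1755031274266)) (.leaf 1130650410262)) (.node (.leaf 665720089619) (.leaf 1102196390026))) (.node (.node (.leaf 570156966912) (.leaf 835371393163)) (.node (.leaf 409632701952) (.leaf 179851798425))))))
def dF_402 : BT := .node dF_400 dF_401
def dF_403 : BT := .node dF_399 dF_402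
def dF_404 : BT := .node (.node (.node (.node (.node (.node (.node (.leaf 9663676567) (.leaf 1201517295514)) (.leaf 838055693459)) (.node (.leaf 589484398487) (.leaf 899795978758))) (.node (.node (.node (.leaf 257698081805) (.leaf 1241782715545)) (.leaf 661962106905)) (.node (.leaf 309237808262) (.leaf 1113470683544)))) (.node (.node (.node (.node (.leaf 78383180043) (.leaf 839666314496)) (.leaf 987842610308)) (.node (.leaf 361851082266) (.leaf 1554778493319))) (.node (.node (.leaf 405874455937) (.leaf 884763371801)) (.node (.leaf 772557426579) (.leaf 845034959514))))) (.node (.node (.node (.node (.node (.leaf 30064797826) (.leaf 1013612442906)) (.leaf 909459541775)) (.node (.leaf 333933803290) (.leaf 1466731593089))) (.node (.node (.leaf 329101901833) (.leaf 731218475142)) (.node (.leaf 289373490577) (.leaf 763967547418)))) (.node (.node (.node (.node (.leaf 53687143434) (.leaf 1322850196762)) (.leaf 1067299522058)) (.node (.leaf 608274886784) (.leaf 1040456222728))) (.node (.node (.leaf 260919381401) (.leaf 1315334047104)) (.node (.leaf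 297963516954) (.leaf 1085016302874)))))) (.node (.node (.node (.node (.node (.node (.leaf 8589949848) (.leaf 146565793945)) (.leaf 872415338374)) (.node (.leaf 127238436493) (.leaf 857383186566))) (.node (.node (.leaf 286152264205) (.leaf 690953146776)) (.node (.leaf 721017806739) (.leaf 1709934130439)))) (.node (.node (.node (.node (.leaf 192736669447) (.leaf 1139240346905)) (.leaf 1032939778688)) (.node (.leaf 355945485825) (.leaf 1606854876810))) (.node (.node (.leaf 198105473296) (.leaf 849866767370)) (.node (.leaf 805306560023) (.leaf 1677184938394))))) (.node (.node (.node (.node (.node (.leaf 37044130698) (.leaf 514859278347)) (.leaf 515933171841)) (.node (.leaf 376346599055) (.leaf 1505923267329))) (.node (.node (.leaf 367756661139) (.leaf 1271847371274)) (.node (.leaf 741955683083) (.leaf 1334661519872)))) (.node (.node (.node (.node (.leaf 251792484247) (.leaf 1745904386842)) (.leaf 1108101717376)) (.node (.leaf 643708376975) (.leaf 1068373515544))) (.node (.node (.leaf 544924099725) (.leaf 809601657880)) (.node (.leaf 423054379540)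 (.leaf 373662317466))))))
def dF_405 : BT := .node (.node (.node (.node (.node (.node (.node (.leaf 37044094600) (.leaf 236760128645)) (.leaf 854161723652)) (.node (.leaf 112206047383) (.leaf 842350796164))) (.node (.node (.node (.leaf 110595471882) (.leaf 1817845341455)) (.leaf 1166083787652)) (.node (.leaf 319975231640) (.leaf 1130650558214)))) (.node (.node (.node (.node (.leaf 44560306700) (.leaf 534186789379)) (.leaf 1007706837002)) (.node (.leaf 198642284819) (.leaf 979789792386))) (.node (.node (.leaf 185757437442) (.leaf 268435482393)) (.node (.leaf 374736084870) (.leaf 567472785929))))) (.node (.node (.node (.node (.node (.leaf 37580995462) (.leaf 561567108250)) (.leaf 923955058713)) (.node (.leaf 236760087690) (.leaf 1488206384647))) (.node (.node (.leaf 347892389763) (.leaf 746787736601)) (.node (.leaf 721554677783) (.leaf 1541356625304)))) (.node (.node (.node (.node (.leaf 234612626191) (.leaf 1252520018696)) (.leaf 634044805762)) (.node (.leaf 277025540352) (.leaf 1536524779904))) (.node (.node (.leaf 222801552024) (.leaf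 846645600899)) (.node (.leaf 515933069461) (.leaf 1170378715802)))))) (.node (.node (.node (.node (.node (.node (.leaf 89120582284) (.leaf 515933035526)) (.leaf 892816539535)) (.node (.leaf 65498266893) (.leaf 892816671238))) (.node (.node (.leaf 305479605248) (.leaf 821949577350)) (.node (.leaf 309237719057) (.leaf 1798517835008)))) (.node (.node (.node (.node (.leaf 204547864845) (.leaf 855772522886)) (.leaf 1050119650690)) (.node (.leaf 486405162253) (.leaf 1632087813768))) (.node (.node (.leaf 472983323016) (.leaf 1296543436548)) (.node (.leaf 64961437338) (.leaf 406948248331))))) (.node (.node (.node (.node (.node (.leaf 40265342362) (.leaf 65498263815)) (.leaf 966367767686)) (.node (.leaf 52613361933) (.leaf 1526861107200))) (.node (.node (.leaf 164282591384) (.leaf 490163274885)) (.node (.leaf 758061884294) (.leaf 1651415351705)))) (.node (.node (.node (.node (.leaf 230854545811) (.leaf 1337882732421)) (.leaf 657130265220)) (.node (.leaf 660888163330) (.leaf 1098438292232))) (.node (.node (.leaf 240518303115) (.leaf 1373315998854))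 (.node (.leaf 403727120774) (.leaf 526133573893))))))
def dF_406 : BT := .node dF_404 dF_405
def dF_407 : BT := .node (.node (.node (.node (.node (.node (.node (.leaf 23085449869) (.leaf 769336119045)) (.leaf 844498046212)) (.node (.leaf 353798073222) (.leaf 1394790829572))) (.node (.node (.node (.leaf 93952471953) (.leaf 1243393328665)) (.leaf 670552044032)) (.node (.leaf 311385293954) (.leaf 1125818717592)))) (.node (.node (.node (.node (.leaf 92878680215) (.leaf 650150775322)) (.leaf 996969418499)) (.node (.leaf 406948248343) (.leaf 969589241096))) (.node (.node (.leaf 417148743683) (.leaf 1077500177665)) (.node (.leaf 782221105297) (.leaf 576062720513))))) (.node (.node (.node (.node (.node (.leaf 28991057804) (.leaf 1246614620954)) (.leaf 916975736343)) (.node (.leaf 193810445463) (.leaf 1475858352904))) (.node (.node (.leaf 338765581312) (.leaf 1237487747223)) (.node (.leaf 505732519686) (.leaf 1441498829570)))) (.node (.node (.node (.node (.leaf 229780803724) (.leaf 1040455984642)) (.leaf 630286707076)) (.node (.leaf 275951796738)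 (.leaf 1607928779270))) (.node (.node (.leaf 219043453060) (.leaf 1328218952973)) (.node (.leaf 225485836821) (.leaf 803696007194)))))) (.node (.node (.node (.node (.node (.node (.leaf 78383159958) (.leaf 645855970970)) (.leaf 573378343960)) (.node (.leaf 331786302739) (.leaf 864899382022))) (.node (.node (.leaf 294205290629) (.leaf 710817374088)) (.node (.leaf 127775351578) (.leaf 1157494112152)))) (.node (.node (.node (.node (.leaf 60129579545) (.leaf 872952291331)) (.leaf 1040456075543)) (.node (.leaf 415001313943) (.leaf 1620276652165))) (.node (.node (.leaf 462782775306) (.leaf 1287953501184)) (.node (.leaf 7516194581) (.leaf 185757686298))))) (.node (.node (.node (.node (.node (.leaf 171798708864) (.leaf 906238329992)) (.leaf 956167218434)) (.node (.leaf 336618142234) (.leaf 931471394176))) (.node (.node (.leaf 158377009044) (.leaf 1282048043537)) (.node (.leaf 748935036937) (.leaf 1654099674243)))) (.node (.node (.node (.node (.leaf 46170947738) (.leaf 340913420442)) (.leaf 653372166922)) (.node (.leaf 653372023686) (.leaf 1691143630852)))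 (.node (.node (.leaf 552440231179) (.leaf 817117853056)) (.node (.leaf 807990915219) (.leaf 1426466399258))))))
def dF_408 : BT := .node (.node (.node (.node (.node (.node (.node (.leaf 49928997763) (.leaf 755377420954)) (.leaf 440234353670)) (.node (.leaf 272730488339) (.leaf 1415728810136))) (.node (.node (.leaf 277025417474) (.leaf 1176821203715)) (.node (.leaf 713501612179) (.leaf 1137093012106)))) (.node (.node (.node (.node (.leaf 182536122112) (.leaf 740882060954)) (.leaf 1018444362897)) (.node (.leaf 520228043674) (.leaf 990527213578))) (.node (.node (.leaf 193810503306) (.leaf 1207959843972)) (.node (.leaf 796716523399) (.leaf 847182561281))))) (.node (.node (.node (.node (.node (.leaf 110595442434) (.leaf 525596715653)) (.leaf 765578143242)) (.node (.leaf 344671171720) (.leaf 921270842250))) (.node (.node (.leaf 151934553497) (.leaf 1259499338886)) (.node (.leaf 340913203466) (.leaf 535260678170)))) (.node (.node (.node (.node (.leaf 66035180697) (.leaf 1612760488708)) (.leaf 1097901276815)) (.node (.leaf 636192097540) (.leaf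 1058172966278))) (.node (.node (.leaf 224412167946) (.leaf 1342177473153)) (.node (.leaf 496605712020) (.leaf 850403595418)))))) (.node (.node (.node (.node (.node (.node (.leaf 17179892875) (.leaf 222801481625)) (.leaf 474594101384)) (.node (.leaf 592705579802) (.leaf 888521706393))) (.node (.node (.leaf 316216997766) (.leaf 1219234053382)) (.node (.leaf 185757379857) (.leaf 1188632631040)))) (.node (.node (.node (.node (.leaf 213674659212) (.leaf 1445793582087)) (.leaf 621159897736)) (.node (.leaf 530428587539) (.leaf 1030792543616))) (.node (.node (.leaf 483720742024) (.leaf 779536875648)) (.node (.leaf 284541736986) (.leaf 966367908608))))) (.node (.node (.node (.node (.node (.leaf 17716755994) (.leaf 972810469658)) (.leaf 978178928779)) (.node (.leaf 555124655373) (.leaf 1539746002690))) (.node (.node (.leaf 396747646217) (.leaf 450434761242)) (.node (.leaf 765041135876) (.leaf 1630477296393)))) (.node (.node (.node (.node (.leaf 253403098519) (.leaf 793495387524)) (.leaf 1134945378581)) (.node (.leaf 297426645386) (.leaf 1715302827649)))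 (.node (.node (.leaf 242128919188) (.leaf 1378147828356)) (.node (.leaf 827855043972) (.leaf 687194841242))))))
def dF_409 : BT := .node dF_407 dF_408
def dF_410 : BT := .node dF_406 dF_409
def dF_411 : BT := .node dF_403 dF_410
def dF_412 : BT := .node dF_396 dF_411
def dF_413 : BT := .node (.node (.node (.node (.node (.node (.node (.leaf 1610613120) (.leaf 554050904218)) (.leaf 832150011656)) (.node (.leaf 584115610761) (.leaf 1380832202754))) (.node (.node (.node (.leaf 255013713551) (.leaf 1749125736986)) (.leaf 759672611584)) (.node (.leaf 675383768333) (.leaf 1720134772355)))) (.node (.node (.node (.node (.leaf 166430014234) (.leaf 341450044553)) (.leaf 534723662360)) (.node (.leaf 567472689303) (.leaf 955093721240))) (.node (.node (.leaf 178778109204) (.leaf 630286659610)) (.node (.leaf 362388048902) (.leaf 1340030009241))))) (.node (.node (.node (.node (.node (.leaf 104152961545) (.leaf 1110786065050)) (.leaf 905701444353)) (.node (.leaf 140660211098) (.leaf 1459215400971))) (.node (.node (.leaf 132607191818) (.leaf 1222992114949))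 (.node (.leaf 506269390737) (.leaf 1183800793608)))) (.node (.node (.node (.node (.leaf 32749133338) (.leaf 1126355534362)) (.leaf 1061930812681)) (.node (.leaf 603442968196) (.leaf 1036161254026))) (.node (.node (.leaf 209916643348) (.leaf 1308891469834)) (.node (.leaf 209916643354) (.leaf 826781377162)))))) (.node (.node (.node (.node (.node (.node (.leaf 55297716875) (.leaf 774704910745)) (.leaf 866509858575)) (.node (.leaf 570693915674) (.leaf 852551346561))) (.node (.node (.leaf 281857294733) (.leaf 688268790936)) (.node (.leaf 716722838413) (.leaf 1139240497288)))) (.node (.node (.node (.node (.leaf 44560330256) (.leaf 574988804740)) (.leaf 582505184152)) (.node (.leaf 224948981120) (.leaf 1600949296262))) (.node (.node (.leaf 440234195328) (.leaf 744103381786)) (.node (.leaf 799937750786) (.leaf 462246050696))))) (.node (.node (.node (.node (.node (.leaf 149786994435) (.leaf 606664275225)) (.leaf 530428685056)) (.node (.leaf 358629805578) (.leaf 921807713944))) (.node (.node (.leaf 153008296064) (.leaf 1264868048266)) (.node (.leaf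 344671301258) (.leaf 1194538091674)))) (.node (.node (.node (.node (.leaf 248034419084) (.leaf 1577863986584)) (.leaf 1102733116177)) (.node (.leaf 278636155910) (.leaf 1673963902735))) (.node (.node (.leaf 230854620313) (.leaf 846108877824)) (.node (.leaf 428423089941) (.leaf 854698675354))))))
def dF_414 : BT := .node (.node (.node (.node (.node (.node (.node (.leaf 6442457730) (.leaf 1426466221313)) (.leaf 426812577156)) (.node (.leaf 264140631819) (.leaf 840740181912))) (.node (.node (.node (.leaf 263603674113) (.leaf 1816771525888)) (.leaf 672699529226)) (.node (.leaf 696858518024) (.leaf 1744830880023)))) (.node (.node (.node (.node (.leaf 163208797326) (.leaf 738734457225)) (.leaf 562640954378)) (.node (.leaf 184146735361) (.leaf 973884210184))) (.node (.node (.leaf 419833153175) (.leaf 613106730759)) (.node (.leaf 785442331537) (.leaf 852014394394))))) (.node (.node (.node (.node (.node (.leaf 29527929866) (.leaf 362924810502)) (.leaf 920733796610)) (.node (.leaf 209379705623) (.leaf 1480153438219))) (.node (.node (.leaf 341986816267)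 (.leaf 1241782715541)) (.node (.leaf 657667024016) (.leaf 1151051324954)))) (.node (.node (.node (.node (.leaf 231928288023) (.leaf 759135685888)) (.leaf 1078573812490)) (.node (.leaf 623844066561) (.leaf 653372025217))) (.node (.node (.leaf 219580324993) (.leaf 798327364102)) (.node (.leaf 309237719061) (.leaf 44023425305)))))) (.node (.node (.node (.node (.node (.node (.leaf 82141254273) (.leaf 309774590105)) (.leaf 456340486148)) (.node (.leaf 45634038413) (.leaf 1440424984066))) (.node (.node (.leaf 299573997707) (.leaf 713501729281)) (.node (.leaf 173946268826) (.leaf 1165010306436)))) (.node (.node (.node (.node (.leaf 197031636745) (.leaf 1341103801474)) (.leaf 609885604992)) (.node (.leaf 428959960983) (.leaf 1007707089049))) (.node (.node (.leaf 467077798671) (.leaf 1290101008770)) (.node (.leaf 157840136858) (.leaf 1424318743179))))) (.node (.node (.node (.node (.node (.leaf 61740163866) (.leaf 1165010268442)) (.leaf 959925345154)) (.node (.leaf 207769086874) (.leaf 936840104070))) (.node (.node (.leaf 380104695059) (.leaf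 765041356162)) (.node (.leaf 752693198093) (.leaf 1466194810245)))) (.node (.node (.node (.node (.leaf 89120582291) (.leaf 1599875533594)) (.leaf 1123671059972)) (.node (.leaf 293131674625) (.leaf 1694364998406))) (.node (.node (.leaf 236760205209) (.leaf 817117854082)) (.node (.leaf 811749012492) (.leaf 198642284825))))))
def dF_415 : BT := .node dF_413 dF_414
def dF_416 : BT := .node (.node (.node (.node (.node (.node (.node (.leaf 1073745537) (.leaf 331249431705)) (.leaf 840740048653)) (.node (.leaf 592168708749) (.leaf 1388885358723))) (.node (.node (.node (.leaf 258771825810) (.leaf 1241782660355)) (.leaf 1146219555722)) (.node (.leaf 687194930176) (.leaf 1731945891716)))) (.node (.node (.node (.node (.leaf 149250149274) (.leaf 1311038948890)) (.leaf 991600706826)) (.node (.leaf 284541651223) (.leaf 1559610233218))) (.node (.node (.leaf 411243162251) (.leaf 336618159000)) (.node (.leaf 363461792264) (.leaf 427349648282))))) (.node (.node (.node (.node (.node (.leaf 68719493274) (.leaf 670551871258)) (.leaf 912680767232)) (.node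 (.leaf 278099198739) (.leaf 1471026513672))) (.node (.node (.leaf 332860044694) (.leaf 733365959577)) (.node (.leaf 636729053456) (.leaf 1001264408986)))) (.node (.node (.node (.node (.leaf 54224015232) (.leaf 1125818600834)) (.leaf 1069983974016)) (.node (.leaf 613106727688) (.leaf 1662689510155))) (.node (.node (.leaf 500900647552) (.leaf 1319092018954)) (.node (.leaf 345208078741) (.leaf 893890288154)))))) (.node (.node (.node (.node (.node (.node (.leaf 9126822035) (.leaf 806917173530)) (.leaf 874025952256)) (.node (.leaf 127775307543) (.leaf 1431298056450))) (.node (.node (.leaf 289373481994) (.leaf 692563760774)) (.node (.leaf 64961417989) (.leaf 1777579863430)))) (.node (.node (.node (.node (.leaf 52076500506) (.leaf 1322313264410)) (.leaf 1035087365141)) (.node (.leaf 363461658624) (.leaf 998043409666))) (.node (.node (.leaf 198642345483) (.leaf 1086626945795)) (.node (.leaf 37044260506) (.leaf 1372242313856))))) (.node (.node (.node (.node (.node (.leaf 163208789248) (.leaf 510027418650)) (.leaf 519154398340)) (.node (.leaf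 297426557466) (.leaf 1510754967307))) (.node (.node (.leaf 157840136586) (.leaf 759135773958)) (.node (.leaf 744103261463) (.leaf 1301375281050)))) (.node (.node (.node (.node (.leaf 111132297473) (.leaf 1468342158597)) (.leaf 1113470426498)) (.node (.leaf 646929517576) (.leaf 1684164396422))) (.node (.node (.leaf 548145327629) (.leaf 812286013569)) (.node (.leaf 497142580889) (.leaf 376346814874))))))
def dF_417 : BT := .node (.node (.node (.node (.node (.node (.node (.leaf 6979331992) (.leaf 686658060169)) (.leaf 428960063256)) (.node (.leaf 30064778259) (.leaf 1409286345610))) (.node (.node (.leaf 271656744463) (.leaf 1169841879558)) (.node (.leaf 331249522056) (.leaf 1133871784704)))) (.node (.node (.node (.node (.leaf 177704307723) (.leaf 1108101826563)) (.leaf 567472795032)) (.node (.leaf 478888967834) (.leaf 982474148377))) (.node (.node (.leaf 186294309505) (.leaf 908922602372)) (.node (.leaf 375272956422) (.leaf 451508779546))))) (.node (.node (.node (.node (.node (.leaf 137975855884) (.leaf 414464543130)) (.leaf 927176185602))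 (.node (.leaf 566935823130) (.leaf 911070293382))) (.node (.node (.leaf 151397681160) (.leaf 749472091910)) (.node (.leaf 336618234632) (.leaf 784368560266)))) (.node (.node (.node (.node (.leaf 237296999567) (.leaf 1487132692099)) (.leaf 1089311340179)) (.node (.leaf 630286600973) (.leaf 1454383529368))) (.node (.node (.leaf 522912391809) (.leaf 1337882631692)) (.node (.leaf 621159793300) (.leaf 1799054857498)))))) (.node (.node (.node (.node (.node (.node (.leaf 92878680214) (.leaf 653909062554)) (.leaf 462782939912)) (.node (.leaf 152471375383) (.leaf 1447941058182))) (.node (.node (.leaf 308700805767) (.leaf 1212791679373)) (.node (.leaf 389768375057) (.leaf 1183263920002)))) (.node (.node (.node (.node (.leaf 52613398912) (.leaf 1599338734339)) (.leaf 1054951558788)) (.node (.leaf 497679454103) (.leaf 1636382790912))) (.node (.node (.leaf 208306027544) (.leaf 1298154054916)) (.node (.leaf 355945595162) (.leaf 408558936704))))) (.node (.node (.node (.node (.node (.leaf 73014453895) (.leaf 243202581145)) (.leaf 971199606274)) (.node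 (.leaf 215285286938) (.leaf 1530619195018))) (.node (.node (.leaf 390842084875) (.leaf 987305824024)) (.node (.leaf 760209297163) (.leaf 563177824280)))) (.node (.node (.node (.node (.leaf 153545117330) (.leaf 1395327825283)) (.leaf 657667136640)) (.node (.leaf 665183218573) (.leaf 1707786671371))) (.node (.node (.leaf 568546354698) (.leaf 835908142346)) (.node (.leaf 407485218180) (.leaf 7516194585))))))
def dF_418 : BT := .node dF_416 dF_417
def dF_419 : BT := .node dF_415 dF_418
def dF_420 : BT := .node (.node (.node (.node (.node (.node (.node (.leaf 536872836) (.leaf 732828989082)) (.leaf 837518722187)) (.node (.leaf 247497630848) (.leaf 1384590327432))) (.node (.node (.node (.leaf 257161209742) (.leaf 1432908805784)) (.leaf 661962106628)) (.node (.leaf 309237808002) (.leaf 1726577118346)))) (.node (.node (.node (.node (.leaf 16643000206) (.leaf 525596687873)) (.leaf 986768923270)) (.node (.leaf 151934480772) (.leaf 959925561089))) (.node (.node (.leaf 404263893011) (.leaf 881542084890)) (.node (.leaf 772020555533) (.leaf 952409055898)))))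 (.node (.node (.node (.node (.node (.leaf 111669156486) (.leaf 37044101785)) (.leaf 907848827272)) (.node (.leaf 331249448346) (.leaf 1465121067648))) (.node (.node (.leaf 327491288469) (.leaf 1228897810433)) (.node (.leaf 224948965777) (.leaf 1810865988101)))) (.node (.node (.node (.node (.leaf 216895862407) (.leaf 966904728706)) (.leaf 1066762756495)) (.node (.leaf 606664275219) (.leaf 1656783882374))) (.node (.node (.leaf 232465222662) (.leaf 1313723308930)) (.node (.leaf 278636156314) (.leaf 1075352767111)))))) (.node (.node (.node (.node (.node (.node (.leaf 8589949452) (.leaf 810675171226)) (.leaf 871341596424)) (.node (.leaf 118111628813) (.leaf 856846315032))) (.node (.node (.leaf 285078482434) (.leaf 1185411255680)) (.node (.leaf 720480844677) (.leaf 1342714470528)))) (.node (.node (.node (.node (.leaf 191126056199) (.leaf 1127966055065)) (.leaf 1031866098200)) (.node (.leaf 351113660173) (.leaf 997506537220))) (.node (.node (.leaf 200252956544) (.leaf 900332722842)) (.node (.leaf 804232719623) (.leaf 408558936712))))) (.node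 (.node (.node (.node (.node (.leaf 36507259284) (.leaf 1258425738650)) (.leaf 943282315911)) (.node (.leaf 375272856979) (.leaf 925028940422))) (.node (.node (.leaf 367219790093) (.leaf 1270236758405)) (.node (.leaf 740882035213) (.leaf 1797444170247)))) (.node (.node (.node (.node (.leaf 179314944515) (.leaf 1434519397274)) (.leaf 1106491103883)) (.node (.leaf 437549887365) (.leaf 1066762902424))) (.node (.node (.leaf 543850357645) (.leaf 1102733175168)) (.node (.leaf 749471971860) (.leaf 624917996186))))))
def dF_421 : BT := .node (.node (.node (.node (.node (.node (.node (.leaf 35433483649) (.leaf 686121099290)) (.leaf 427349449368)) (.node (.leaf 267898725914) (.leaf 841813924872))) (.node (.node (.node (.leaf 267361741828) (.leaf 1817308353796)) (.leaf 1165010156819)) (.node (.leaf 703300986503) (.leaf 1749125700362)))) (.node (.node (.node (.node (.leaf 153545117335) (.leaf 753230069129)) (.leaf 566935923073)) (.node (.leaf 197568542743) (.leaf 1582158810887))) (.node (.node (.leaf 258235010073) (.leaf 144955395354)) (.node (.leaf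 784905362568) (.leaf 847182636314))))) (.node (.node (.node (.node (.node (.leaf 30064802457) (.leaf 426275663642)) (.leaf 923418087809)) (.node (.leaf 551366569370) (.leaf 1486058900997))) (.node (.node (.leaf 346818647683) (.leaf 746787736192)) (.node (.leaf 436476155536) (.leaf 795106245274)))) (.node (.node (.node (.node (.leaf 234075754775) (.leaf 1127966022790)) (.leaf 1083942629633)) (.node (.leaf 626528420864) (.leaf 1539209107994))) (.node (.node (.leaf 516469940365) (.leaf 411243315610)) (.node (.leaf 688268643585) (.leaf 752156448410)))))) (.node (.node (.node (.node (.node (.node (.leaf 16106148486) (.leaf 785442331545)) (.leaf 460098584216)) (.node (.leaf 536871063) (.leaf 1444182961026))) (.node (.node (.leaf 120796027800) (.leaf 821949577608)) (.node (.leaf 352187402257) (.leaf 1797444241943)))) (.node (.node (.node (.node (.leaf 46707817985) (.leaf 1206349118593)) (.leaf 1048509141143)) (.node (.leaf 476204598273) (.leaf 1630477201026))) (.node (.node (.leaf 471909641875) (.leaf 1295469694210)) (.node (.leaf 198642345754)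 (.leaf 846645529882))))) (.node (.node (.node (.node (.node (.leaf 61203316885) (.leaf 127775350789)) (.leaf 965294129943)) (.node (.leaf 46170909455) (.leaf 1526324227330))) (.node (.node (.leaf 163745719936) (.leaf 557272225178)) (.node (.leaf 355945595016) (.leaf 1775432415002)))) (.node (.node (.node (.node (.leaf 234612626194) (.leaf 1230508550023)) (.leaf 1127429096070)) (.node (.leaf 659277637143) (.leaf 1097901420934))) (.node (.node (.leaf 562640773126) (.leaf 1372242246280)) (.node (.leaf 403727120644) (.leaf 642634710298))))))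
def dF_422 : BT := .node dF_420 dF_421
def dF_423 : BT := .node (.node (.node (.node (.node (.node (.node (.leaf 21474837770) (.leaf 344671207705)) (.leaf 842350661783)) (.node (.leaf 474057157124) (.leaf 1392643345922))) (.node (.node (.node (.leaf 260919314326) (.leaf 1579474465925)) (.leaf 1152125137024)) (.node (.leaf 691489899535) (.leaf 1738925152266)))) (.node (.node (.node (.node (.leaf 87509969166) (.leaf 759135774362)) (.leaf 562640953090)) (.node (.leaf 298500298259) (.leaf 1566589694208))) (.node (.node (.leaf 415538184847) (.leaf 1081795038105)) (.node (.leaf 373662341122) (.leaf 974957738522))))) (.node (.node (.node (.node (.node (.leaf 118111607812) (.leaf 917512572800)) (.leaf 488552748166)) (.node (.leaf 185220508813) (.leaf 1474247740162))) (.node (.node (.leaf 337155013015) (.leaf 739271540868)) (.node (.leaf 642634634896) (.leaf 768799427467)))) (.node (.node (.node (.node (.leaf 229243933953) (.leaf 926102740122)) (.leaf 1075352586760)) (.node (.leaf 272730570896) (.leaf 1668595192193))) (.node (.node (.leaf 218506581657)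 (.leaf 1326071341706)) (.node (.leaf 209916576661) (.leaf 331249477658)))))) (.node (.node (.node (.node (.node (.node (.leaf 10737436560) (.leaf 45634038425)) (.leaf 452045517702)) (.node (.leaf 112742918413) (.leaf 1436666766214))) (.node (.node (.leaf 118111670667) (.leaf 710817373440)) (.node (.leaf 536873498) (.leaf 1156957240834)))) (.node (.node (.node (.node (.leaf 1610614041) (.leaf 710817264132)) (.leaf 1039919204503)) (.node (.leaf 446139834259) (.leaf 1618666039046))) (.node (.node (.leaf 199716089098) (.leaf 918049495321)) (.node (.leaf 726386435866) (.leaf 636729105416))))) (.node (.node (.node (.node (.node (.leaf 170188089098) (.leaf 530965458585)) (.leaf 955093580175)) (.node (.leaf 180388669453) (.leaf 1516660548226))) (.node (.node (.leaf 375272805252) (.leaf 761820129670)) (.node (.leaf 351113754649) (.leaf 1300838404122)))) (.node (.node (.node (.node (.leaf 78920066690) (.leaf 1337345760648)) (.leaf 948651168135)) (.node (.leaf 285615480600) (.leaf 1689533017220))) (.node (.node (.leaf 550829640087) (.leaf 1363115440132))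 (.node (.leaf 807454044180) (.leaf 462782836505))))))
def dF_424 : BT := .node (.node (.node (.node (.node (.node (.node (.leaf 47781519751) (.leaf 765578037018)) (.leaf 439697482374)) (.node (.leaf 272193617289) (.leaf 848793249160))) (.node (.node (.leaf 275414843415) (.leaf 1175210706573)) (.node (.leaf 712964741143) (.leaf 1135482398984)))) (.node (.node (.node (.node (.leaf 181999250944) (.leaf 1202054240778)) (.leaf 1016833646082)) (.node (.leaf 222801481615) (.leaf 1312112889350))) (.node (.node (.leaf 435402391823) (.leaf 1205275367561)) (.node (.leaf 795642881297) (.leaf 275951859226))))) (.node (.node (.node (.node (.node (.leaf 142807680129) (.leaf 806917073796)) (.leaf 506806363524)) (.node (.leaf 35970359693) (.leaf 918049616128))) (.node (.node (.leaf 356482370455) (.leaf 752156447616)) (.node (.leaf 339839461145) (.leaf 1312649664922)))) (.node (.node (.node (.node (.leaf 65498309393) (.leaf 1125281709321)) (.leaf 1095753739907)) (.node (.leaf 278636154500) (.leaf 1670742583448))) (.node (.node (.leaf 224412167554) (.leaf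 806917300488)) (.node (.leaf 530965458580) (.leaf 339839340570)))))) (.node (.node (.node (.node (.node (.node (.leaf 17179892612) (.leaf 1040992867866)) (.leaf 833223870086)) (.node (.leaf 178778041626) (.leaf 1453309770881))) (.node (.node (.leaf 315143299222) (.leaf 1218160272002)) (.node (.leaf 285615480346) (.leaf 1810329076864)))) (.node (.node (.node (.node (.leaf 212600895235) (.leaf 992674532736)) (.leaf 763967560068)) (.node (.leaf 526133619219) (.leaf 1645509596294))) (.node (.node (.leaf 209379770891) (.leaf 777389391748)) (.node (.leaf 605590494874) (.leaf 1188632515226))))) (.node (.node (.node (.node (.node (.leaf 63887659162) (.leaf 1264331177370)) (.leaf 975494679701)) (.node (.leaf 551903386001) (.leaf 950798751878))) (.node (.node (.leaf 395137052298) (.leaf 620622917913)) (.node (.leaf 361314305944) (.leaf 846108801411)))) (.node (.node (.node (.node (.leaf 253403098500) (.leaf 1251983230347)) (.leaf 1134408393990)) (.node (.leaf 670014969092) (.leaf 1714229230737))) (.node (.node (.leaf 576062546312) (.leaf 1376537215746))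 (.node (.leaf 826781401617) (.leaf 1490890596506))))))
def dF_425 : BT := .node dF_423 dF_424
def dF_426 : BT := .node dF_422 dF_425
def dF_427 : BT := .node dF_419 dF_426
def dF_428 : BT := .node (.node (.node (.node (.node (.node (.node (.leaf 3758097286) (.leaf 1226750108698)) (.leaf 415001414144)) (.node (.leaf 306016559616) (.leaf 1382979667718))) (.node (.node (.node (.leaf 86973148808) (.leaf 898722178309)) (.leaf 1139240346895)) (.node (.leaf 678604904070) (.leaf 1723355960456)))) (.node (.node (.node (.node (.leaf 132070254219) (.leaf 842350661785)) (.leaf 554051016068)) (.node (.leaf 340376257946) (.leaf 956704334745))) (.node (.node (.leaf 401579521302) (.leaf 46170946072)) (.node (.leaf 769336200343) (.leaf 1261646844954))))) (.node (.node (.node (.node (.node (.leaf 107374187660) (.leaf 462782889860)) (.leaf 906775085444)) (.node (.leaf 311385203219) (.leaf 1462973448328))) (.node (.node (.leaf 134217805186) (.leaf 728534120070)) (.node (.leaf 355945499537) (.leaf 1810865869448)))) (.node (.node (.node (.node (.leaf 147639509392)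 (.leaf 1137629678852)) (.leaf 1065152060312)) (.node (.leaf 605590452363) (.leaf 1654636398594))) (.node (.node (.leaf 492310742423) (.leaf 782221231513)) (.node (.leaf 241055175450) (.leaf 278636069785)))))) (.node (.node (.node (.node (.node (.node (.leaf 59592674693) (.leaf 394600513434)) (.leaf 869194112644)) (.node (.leaf 166966893594) (.leaf 1420560637060))) (.node (.node (.leaf 283467907855) (.leaf 1183800643215)) (.node (.leaf 335544491398) (.leaf 1531693134464)))) (.node (.node (.node (.node (.leaf 190052337677) (.leaf 941671816838)) (.leaf 1028644912652)) (.node (.leaf 340376202245) (.leaf 1604170563586))) (.node (.node (.leaf 197568601496) (.leaf 753230188826)) (.node (.leaf 384936635289) (.leaf 407485102490))))) (.node (.node (.node (.node (.node (.leaf 118111636992) (.leaf 645855861145)) (.leaf 941671804179)) (.node (.leaf 373662243853) (.leaf 1502701955462))) (.node (.node (.leaf 153008296980) (.leaf 1147293441412)) (.node (.leaf 739271422092) (.leaf 690953244570)))) (.node (.node (.node (.node (.leaf 66035181715) (.leaf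 1694901732506)) (.leaf 1104343729303)) (.node (.leaf 642634634893) (.leaf 1676111385737))) (.node (.node (.leaf 541702804617) (.leaf 809064785410)) (.node (.leaf 740882035220) (.leaf 362387952025))))))
def dF_429 : BT := .node (.node (.node (.node (.node (.node (.node (.leaf 31138516491) (.leaf 277025456665)) (.leaf 850403727233)) (.node (.leaf 271656824985) (.leaf 1402307090955))) (.node (.node (.node (.leaf 265214293645) (.leaf 1817308333578)) (.leaf 1163399427210)) (.node (.leaf 700616614921) (.leaf 1746978252166)))) (.node (.node (.node (.node (.leaf 113279789325) (.leaf 1427003147546)) (.leaf 1003411872774)) (.node (.leaf 427349349146) (.leaf 975494823688))) (.node (.node (.leaf 185220565643) (.leaf 1033476757656)) (.node (.leaf 787589760775) (.leaf 1439351205658))))) (.node (.node (.node (.node (.node (.leaf 30064801675) (.leaf 630823472009)) (.leaf 921807575697)) (.node (.leaf 54760845978) (.leaf 906238453002))) (.node (.node (.leaf 344671160454) (.leaf 740882155288)) (.node (.leaf 403727022096) (.leaf 983547600026)))) (.node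 (.node (.node (.node (.leaf 233002012175) (.leaf 1272921195266)) (.leaf 630823579266)) (.node (.leaf 277562410496) (.leaf 1119376221313))) (.node (.node (.leaf 222801550978) (.leaf 856846186240)) (.node (.leaf 632434041607) (.leaf 275951797530)))))) (.node (.node (.node (.node (.node (.node (.leaf 85899355020) (.leaf 690952953473)) (.leaf 457414228998)) (.node (.leaf 53687104019) (.leaf 869731221252))) (.node (.node (.leaf 302258394259) (.leaf 713501729944)) (.node (.leaf 240518303258) (.leaf 1168768403594)))) (.node (.node (.node (.node (.leaf 46170946451) (.leaf 423054479108)) (.leaf 1046898425093)) (.node (.leaf 457414064522) (.leaf 1010391444488))) (.node (.node (.leaf 469225284365) (.leaf 1292248468996)) (.node (.leaf 117037927322) (.leaf 1458141797018))))) (.node (.node (.node (.node (.node (.leaf 73014461978) (.leaf 428423058946)) (.leaf 526133723136)) (.node (.leaf 423054379533) (.leaf 1522566144392))) (.node (.node (.leaf 381715308179) (.leaf 1282048044672)) (.node (.leaf 754303715851) (.leaf 1778116841114)))) (.node (.node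 (.node (.node (.leaf 94489293331) (.leaf 1135482215552)) (.leaf 1125818459016)) (.node (.leaf 658203895053) (.leaf 1090922098177))) (.node (.node (.leaf 559956493709) (.leaf 817117854616)) (.node (.leaf 403727120256) (.leaf 389768527642))))))
def dF_430 : BT := .node dF_428 dF_429
def dF_431 : BT := .node (.node (.node (.node (.node (.node (.node (.leaf 1073746056) (.leaf 665720001690)) (.leaf 423054479362)) (.node (.leaf 593779324813) (.leaf 1390495862272))) (.node (.node (.node (.leaf 259845571213) (.leaf 1138703437956)) (.leaf 1148903910538)) (.node (.leaf 309774680728) (.leaf 1735167055240)))) (.node (.node (.node (.node (.leaf 50465867540) (.leaf 955093580185)) (.leaf 572304629122)) (.node (.leaf 289373490579) (.leaf 966904885254))) (.node (.node (.leaf 413390699667) (.leaf 830002625561)) (.node (.leaf 777926038282) (.leaf 1409823342746))))) (.node (.node (.node (.node (.node (.leaf 28454185747) (.leaf 613106727705)) (.leaf 914291348489)) (.node (.leaf 403190151053) (.leaf 1226213514120))) (.node (.node (.leaf 335544354692) (.leaf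 1234803392017)) (.node (.leaf 515933069456) (.leaf 496605728025)))) (.node (.node (.node (.node (.leaf 54224016276) (.leaf 506269426698)) (.leaf 628139222920)) (.node (.leaf 272193699096) (.leaf 1665910690052))) (.node (.node (.leaf 215822226456) (.leaf 790274297860)) (.node (.leaf 445066049177) (.leaf 426812577562)))))) (.node (.node (.node (.node (.node (.node (.leaf 9663693844) (.leaf 710817256985)) (.leaf 450971775238)) (.node (.leaf 110595434245) (.leaf 859530671882))) (.node (.node (.leaf 117574798993) (.leaf 1196148558981)) (.node (.leaf 267898729882) (.leaf 1149977918105)))) (.node (.node (.node (.node (.leaf 173409306650) (.leaf 1018444362905)) (.leaf 613106828800)) (.node (.leaf 390305246095) (.leaf 1613834200580))) (.node (.node (.leaf 199179217288) (.leaf 1233192695194)) (.node (.leaf 30064849434) (.leaf 1387274630042))))) (.node (.node (.node (.node (.node (.leaf 166966863755) (.leaf 1066762682371)) (.leaf 952409124352)) (.node (.leaf 132070320281) (.leaf 1513439372161))) (.node (.node (.leaf 157840136984) (.leaf 1279900559233))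 (.node (.leaf 351113754376) (.leaf 1473174077195)))) (.node (.node (.node (.node (.leaf 110058563479) (.leaf 907312057098)) (.leaf 649614069512)) (.node (.leaf 648540216333) (.leaf 1687385533448))) (.node (.node (.leaf 549755897487) (.leaf 1360967956104)) (.node (.leaf 497142515720) (.leaf 1305133542938))))))
def dF_432 : BT := .node (.node (.node (.node (.node (.node (.node (.leaf 35970361871) (.leaf 690953028505)) (.leaf 859530535057)) (.node (.leaf 28454165143) (.leaf 1412507571466))) (.node (.node (.leaf 273267359251) (.leaf 933081924354)) (.node (.leaf 331249522320) (.leaf 1758789378314)))) (.node (.node (.node (.node (.leaf 179314919191) (.leaf 653908906114)) (.leaf 1014149288843)) (.node (.leaf 214211530129) (.leaf 991064083328))) (.node (.node (.leaf 433791799183) (.leaf 843961270276)) (.node (.leaf 793495397139) (.leaf 1417339609754))))) (.node (.node (.node (.node (.node (.leaf 140123340567) (.leaf 740882155290)) (.leaf 506806362630)) (.node (.leaf 242128839055) (.leaf 914828390150))) (.node (.node (.leaf 354871710210) (.leaf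 1255204371840)) (.node (.leaf 726923388182) (.leaf 535260388505)))) (.node (.node (.node (.node (.leaf 239981314567) (.leaf 1579474525824)) (.leaf 637266033156)) (.node (.leaf 632434001154) (.leaf 1410896988934))) (.node (.node (.leaf 225485908482) (.leaf 1338956373775)) (.node (.leaf 715112225301) (.leaf 684510698394)))))) (.node (.node (.node (.node (.node (.node (.leaf 95026164492) (.leaf 773094297625)) (.leaf 473520358553)) (.node (.leaf 6979323539) (.leaf 1450088542982))) (.node (.node (.leaf 312995772811) (.leaf 1214939045894)) (.node (.leaf 112742958106) (.leaf 1180579566336)))) (.node (.node (.node (.node (.leaf 52613399563) (.leaf 1205812298906)) (.leaf 1056562103042)) (.node (.leaf 519691166739) (.leaf 1021665736832))) (.node (.node (.leaf 479425838607) (.leaf 1302449017099)) (.node (.leaf 370977986330) (.leaf 428960265242))))) (.node (.node (.node (.node (.node (.leaf 124017187863) (.leaf 474057128345)) (.leaf 575525849608)) (.node (.leaf 54223975059) (.leaf 947040654616))) (.node (.node (.leaf 173946269209) (.leaf 1054951494554))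 (.node (.leaf 761820005779) (.leaf 1787243652864)))) (.node (.node (.node (.node (.leaf 110595467794) (.leaf 1230508548097)) (.leaf 1132260910216)) (.node (.leaf 666793743498) (.leaf 1711544730500))) (.node (.node (.leaf 241592046849) (.leaf 1374389862402)) (.node (.leaf 823560152071) (.leaf 1257888759685))))))
def dF_433 : BT := .node dF_431 dF_432
def dF_434 : BT := .node dF_430 dF_433
def dF_435 : BT := .node (.node (.node (.node (.node (.node (.node (.leaf 536873359) (.leaf 223338424090)) (.leaf 839129435533)) (.node (.leaf 590558067091) (.leaf 1386737802251))) (.node (.node (.node (.leaf 88046891144) (.leaf 1241782715527)) (.leaf 1143535315220)) (.node (.leaf 684510486538) (.leaf 1115618167428)))) (.node (.node (.node (.node (.leaf 78920030990) (.leaf 860067406105)) (.leaf 555661629574)) (.node (.leaf 153008246419) (.leaf 1556389005057))) (.node (.node (.leaf 407485102470) (.leaf 891205824280)) (.node (.leaf 773094297619) (.leaf 529891866010))))) (.node (.node (.node (.node (.node (.leaf 113816640899) (.leaf 798327236505)) (.leaf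 485868392586)) (.node (.leaf 275951714579) (.leaf 898722256770))) (.node (.node (.leaf 144955225220) (.leaf 1230508423693)) (.node (.leaf 719407193617) (.leaf 562640988698)))) (.node (.node (.node (.node (.leaf 220117090053) (.leaf 1125818618650)) (.leaf 1068373267456)) (.node (.leaf 609885420034) (.leaf 1040993094020))) (.node (.node (.leaf 214748483460) (.leaf 1316407765785)) (.node (.leaf 311385295514) (.leaf 46170945540)))))) (.node (.node (.node (.node (.node (.node (.leaf 66035137804) (.leaf 340376283529)) (.leaf 872952311057)) (.node (.leaf 328565076634) (.leaf 858456928904))) (.node (.node (.leaf 287762838146) (.leaf 1188632364292)) (.node (.leaf 157840104474) (.leaf 1774895556866)))) (.node (.node (.node (.node (.leaf 64961426562) (.leaf 773094318210)) (.leaf 1033476654848)) (.node (.leaf 361314209933) (.leaf 1609002360967))) (.node (.node (.leaf 449361001728) (.leaf 1035087365126)) (.node (.leaf 719943974913) (.leaf 847182501400))))) (.node (.node (.node (.node (.node (.leaf 37044131088) (.leaf 872952295811)) (.leaf 947040446603))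 (.node (.leaf 285615393434) (.leaf 1508070751233))) (.node (.node (.leaf 368830367744) (.leaf 1272921235861)) (.node (.leaf 473520321544) (.leaf 798327236489)))) (.node (.node (.node (.node (.leaf 252329355407) (.leaf 1432908805766)) (.leaf 1109712439168)) (.node (.leaf 644782034819) (.leaf 1680943220360))) (.node (.node (.leaf 229780880513) (.leaf 811212271128)) (.node (.leaf 616864825370) (.leaf 985695220378))))))
def dF_436 : BT := .node (.node (.node (.node (.node (.node (.node (.leaf 6979331084) (.leaf 1286879794842)) (.leaf 855772437775)) (.node (.leaf 347355563034) (.leaf 1105417543040))) (.node (.node (.node (.leaf 270046096256) (.leaf 1508607696128)) (.leaf 1167157529480)) (.node (.leaf 706522197376) (.leaf 1752347074575)))) (.node (.node (.node (.node (.leaf 175019927688) (.leaf 1128503074202)) (.leaf 567472794630)) (.node (.leaf 200252897933) (.leaf 979789792920))) (.node (.node (.leaf 185757437968) (.leaf 623844151834)) (.node (.leaf 374736085002) (.leaf 1571421479578))))) (.node (.node (.node (.node (.node (.leaf 30601674120)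 (.leaf 497679454105)) (.leaf 497679555970)) (.node (.leaf 237833851653) (.leaf 909459680138))) (.node (.node (.leaf 149250196888) (.leaf 749472091650)) (.node (.leaf 722628419855) (.leaf 785442523674)))) (.node (.node (.node (.node (.leaf 60666469137) (.leaf 1755568167962)) (.leaf 1086626876932)) (.node (.leaf 277025540612) (.leaf 970662812162))) (.node (.node (.leaf 519691096068) (.leaf 830002627843)) (.node (.leaf 659277637140) (.leaf 817654769306)))))) (.node (.node (.node (.node (.node (.node (.leaf 16106149006) (.leaf 1623498047898)) (.leaf 462782939264)) (.node (.leaf 340913132826) (.leaf 1445793710739))) (.node (.node (.leaf 127238479243) (.leaf 716722956038)) (.node (.leaf 44023425297) (.leaf 1173063371928)))) (.node (.node (.node (.node (.leaf 205621606925) (.leaf 1204201634951)) (.leaf 615791186826)) (.node (.leaf 488552646415) (.leaf 1014686413441))) (.node (.node (.leaf 208306026758) (.leaf 1297080312324)) (.node (.leaf 28454165141) (.leaf 872952446362))))) (.node (.node (.node (.node (.node (.leaf 90194334874) (.leaf 506806259590))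 (.leaf 966904743061)) (.node (.leaf 474057128339) (.leaf 942208814982))) (.node (.node (.leaf 388694581762) (.leaf 799401006592)) (.node (.leaf 758598684162) (.leaf 1296543683864)))) (.node (.node (.node (.node (.leaf 151934519058) (.leaf 1338956270467)) (.leaf 1127966055063)) (.node (.leaf 296352901384) (.leaf 1099512034329))) (.node (.node (.leaf 240518303512) (.leaf 828392068992)) (.node (.leaf 403727121049) (.leaf 1035087365145))))))
def dF_437 : BT := .node dF_435 dF_436
def dF_438 : BT := .node (.node (.node (.node (.node (.node (.node (.leaf 2147489684) (.leaf 798327364378)) (.leaf 845571788040)) (.node (.leaf 597537440022) (.leaf 1395327832981))) (.node (.node (.node (.leaf 94489343120) (.leaf 1204201789700)) (.leaf 1155346362634)) (.node (.leaf 310311552528) (.leaf 1743220265346)))) (.node (.node (.node (.node (.leaf 89120582295) (.leaf 855772534017)) (.leaf 997506392341)) (.node (.leaf 335544400015) (.leaf 972273596418))) (.node (.node (.leaf 418222484484) (.leaf 984621403397)) (.node (.leaf 373662341652) (.leaf 854698752538)))))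 (.node (.node (.node (.node (.node (.leaf 28991058064) (.leaf 925565573146)) (.leaf 917512607381)) (.node (.leaf 46707780378) (.leaf 1477469102093))) (.node (.node (.leaf 339302458758) (.leaf 739271541272)) (.node (.leaf 428959960976) (.leaf 518080665242)))) (.node (.node (.node (.node (.leaf 230317674775) (.leaf 1477469012746)) (.leaf 1076963199620)) (.node (.leaf 621159793299) (.leaf 1606318151686))) (.node (.node (.leaf 506269391366) (.leaf 793495524870)) (.node (.leaf 268435520021) (.leaf 818191597082)))))) (.node (.node (.node (.node (.node (.node (.leaf 79456902028) (.leaf 807991043994)) (.leaf 452582389016)) (.node (.leaf 179851798423) (.leaf 1439351121412))) (.node (.node (.leaf 253940011801) (.leaf 710817374232)) (.node (.leaf 158376956817) (.leaf 1788317284354)))) (.node (.node (.node (.node (.leaf 86973130264) (.leaf 1202054172419)) (.leaf 1041529817617)) (.node (.leaf 426275605779) (.leaf 1621887265286))) (.node (.node (.leaf 463856515849) (.leaf 1288490374146)) (.node (.leaf 115427252890) (.leaf 623844406042))))) (.node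 (.node (.node (.node (.node (.leaf 43486585348) (.leaf 621159799690)) (.leaf 957777831690)) (.node (.leaf 331249431695) (.leaf 1518808032394))) (.node (.node (.leaf 158913880320) (.leaf 762357000966)) (.node (.leaf 352187497108) (.leaf 462782939546)))) (.node (.node (.node (.node (.leaf 37044149146) (.leaf 242128835083)) (.leaf 1121523491078)) (.node (.leaf 653908926739) (.leaf 1692217495680))) (.node (.node (.leaf 236760204288) (.leaf 1354525636224)) (.node (.leaf 390305346056) (.leaf 1319092014106))))))
def dF_439 : BT := .node (.node (.node (.node (.node (.node (.node (.leaf 7516205209) (.leaf 755914546970)) (.leaf 440234353930)) (.node (.leaf 439160510618) (.leaf 1416802539528))) (.node (.node (.leaf 112742958096) (.leaf 687731919106)) (.node (.leaf 331786394136) (.leaf 1765231919744)))) (.node (.node (.node (.node (.leaf 184146735364) (.leaf 1041529884442)) (.leaf 576599602945)) (.node (.leaf 524523011226) (.leaf 1598265061123))) (.node (.node (.leaf 193810503568) (.leaf 1083942544650)) (.node (.leaf 554587842304) (.leaf 634044841242)))))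 (.node (.node (.node (.node (.node (.leaf 146565767560) (.leaf 1102733260698)) (.leaf 508416976900)) (.node (.leaf 345208078735) (.leaf 921807713542))) (.node (.node (.leaf 359166725645) (.leaf 752156448408)) (.node (.leaf 731755135749) (.leaf 1489280135815)))) (.node (.node (.node (.node (.leaf 246423805975) (.leaf 1399085928067)) (.leaf 640487260440)) (.node (.leaf 637265838856) (.leaf 1084479640969))) (.node (.node (.leaf 224412168473) (.leaf 807454171908)) (.node (.leaf 474057128340) (.leaf 193810659482)))))) (.node (.node (.node (.node (.node (.node (.leaf 100931736326) (.leaf 224412274458)) (.leaf 903553859589)) (.node (.leaf 292594677893) (.leaf 1457068002433))) (.node (.node (.leaf 316753877140) (.leaf 724776022278)) (.node (.leaf 209916643226) (.leaf 1813013352199)))) (.node (.node (.node (.node (.leaf 53150271498) (.leaf 1401233414408)) (.leaf 1059246561943)) (.node (.leaf 534186684819) (.leaf 1030792543876))) (.node (.node (.leaf 209379771417) (.leaf 781684359552)) (.node (.leaf 208306027418) (.leaf 1537598665498))))) (.node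 (.node (.node (.node (.node (.leaf 46170909590) (.leaf 1784022379546)) (.leaf 576062722054)) (.node (.leaf 561567107859) (.leaf 953483107457))) (.node (.node (.leaf 398895155469) (.leaf 460635254810)) (.node (.leaf 363998660864) (.leaf 1364726121346)))) (.node (.node (.node (.node (.leaf 253939969551) (.leaf 1337345758490)) (.leaf 1135482249619)) (.node (.leaf 297963516546) (.leaf 1716376581145))) (.node (.node (.leaf 242665790603) (.leaf 1378684829317)) (.node (.leaf 408558961689) (.leaf 602369229058))))))
def dF_440 : BT := .node dF_438 dF_439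
def dF_441 : BT := .node dF_437 dF_440
def dF_442 : BT := .node dF_434 dF_441
def dF_443 : BT := .node dF_427 dF_442
def dF_444 : BT := .node dF_412 dF_443
def dF_445 : BT := .node (.node (.node (.node (.node (.node (.node (.leaf 1073741964) (.leaf 785442378522)) (.leaf 409632704006)) (.node (.leaf 243202662292) (.leaf 1380295373849))) (.node (.node (.node (.leaf 255013713544) (.leaf 1189169339034)) (.leaf 1137092862737)) (.node (.leaf 674846808069) (.leaf 1719060924037)))) (.node (.node (.node (.node (.leaf 81604408602) (.leaf 603443097738)) (.leaf 980863283718)) (.node (.leaf 566935818263) (.leaf 955093720966))) (.node (.node (.leaf 179851850756) (.leaf 865436016537)) (.node (.leaf 362388048772) (.leaf 1445256901785))))) (.node (.node (.node (.node (.node (.leaf 17716764813) (.leaf 289373490585)) (.leaf 905164573459)) (.node (.leaf 137975855898) (.leaf 892816674560))) (.node (.node (.leaf 319438231686) (.leaf 1222992111360)) (.node (.leaf 225485911834) (.leaf 1814624115073)))) (.node (.node (.node (.node (.leaf 6442485274) (.leaf 1251446394264))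 (.leaf 1061393941258)) (.node (.leaf 275951792390) (.leaf 1650341430282))) (.node (.node (.leaf 209916643080) (.leaf 781684359812)) (.node (.leaf 198642284821) (.leaf 636192219034)))))) (.node (.node (.node (.node (.node (.node (.leaf 54760837003) (.leaf 921807595418)) (.leaf 865972888075)) (.node (.leaf 102542359706) (.leaf 1418413164673))) (.node (.node (.leaf 281320423695) (.leaf 1180579299586)) (.node (.leaf 716185906176) (.leaf 1139240497028)))) (.node (.node (.node (.node (.leaf 186294250765) (.leaf 1115081228937)) (.leaf 581968312856)) (.node (.leaf 224412094733) (.leaf 1599875554434))) (.node (.node (.leaf 197568600450) (.leaf 1227287089027)) (.node (.leaf 799400960003) (.leaf 199716185114))))) (.node (.node (.node (.node (.node (.leaf 35970386579) (.leaf 617938671130)) (.leaf 938987347970)) (.node (.leaf 352187402253) (.leaf 1490354009496))) (.node (.node (.leaf 360777291653) (.leaf 753230190852)) (.node (.leaf 341450075400) (.leaf 1447404392071)))) (.node (.node (.node (.node (.leaf 247497548055) (.leaf 1228897718411)) (.leaf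 643708486404)) (.node (.leaf 278099284888) (.leaf 1673426938521))) (.node (.node (.leaf 536870966151) (.leaf 809601655680)) (.node (.leaf 643708376980) (.leaf 428960060676))))))
def dF_446 : BT := .node (.node (.node (.node (.node (.node (.node (.leaf 27380423040) (.leaf 362387931909)) (.leaf 847182501137)) (.node (.leaf 403190197762) (.leaf 840740181636))) (.node (.node (.node (.leaf 159987594502) (.leaf 630823579418)) (.leaf 671625787160)) (.node (.leaf 311922165764) (.leaf 1744830880015)))) (.node (.node (.node (.node (.leaf 163208797327) (.leaf 1326071502726)) (.leaf 562104083224)) (.node (.leaf 198105413775) (.leaf 1541893634694))) (.node (.node (.leaf 419833114635) (.leaf 1071057612314)) (.node (.leaf 785442233476) (.leaf 1413044388634))))) (.node (.node (.node (.node (.node (.leaf 29527929736) (.leaf 739271436162)) (.leaf 488015878282)) (.node (.leaf 209379705613) (.leaf 1479079578506))) (.node (.node (.leaf 146565840260) (.leaf 1241782715533)) (.node (.leaf 690416157456) (.leaf 239444791962)))) (.node (.node (.node (.node (.leaf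 231391416847) (.leaf 1763084424986)) (.leaf 1078036941574)) (.node (.leaf 622770324481) (.leaf 222801481603))) (.node (.node (.leaf 511101228813) (.leaf 798327363842)) (.node (.leaf 296889685141) (.leaf 7516205082)))))) (.node (.node (.node (.node (.node (.node (.leaf 81067511318) (.leaf 311385203225)) (.leaf 455803615128)) (.node (.leaf 51539653897) (.leaf 1210107378944))) (.node (.node (.leaf 298500255366) (.leaf 1204201742737)) (.node (.leaf 146028922897) (.leaf 1165010306048)))) (.node (.node (.node (.node (.leaf 45634074386) (.leaf 1105417387145)) (.leaf 609348733976)) (.node (.leaf 428423089943) (.leaf 1623497963520))) (.node (.node (.leaf 332860076672) (.leaf 769336324352)) (.node (.leaf 152471424794) (.leaf 1078573971482))))) (.node (.node (.node (.node (.node (.leaf 60129578906) (.leaf 152471375385)) (.leaf 523986238986)) (.node (.leaf 394600214419) (.leaf 1520418646400))) (.node (.node (.leaf 236760162694) (.leaf 1284732398735)) (.node (.leaf 752156327059) (.leaf 1806034095235)))) (.node (.node (.node (.node (.leaf 88046840211)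 (.leaf 1526324366745)) (.leaf 653909038616)) (.node (.leaf 656593281933) (.leaf 1693291168792))) (.node (.node (.leaf 556735192715) (.leaf 816580982922)) (.node (.leaf 395137184640) (.leaf 664646259738))))))
def dF_447 : BT := .node dF_445 dF_446
def dF_448 : BT := .node (.node (.node (.node (.node (.node (.node (.leaf 536874393) (.leaf 648003443482)) (.leaf 839666306581)) (.node (.leaf 272193693320) (.leaf 1388885380495))) (.node (.node (.node (.leaf 258771825804) (.leaf 1010391246725)) (.leaf 665183333121)) (.node (.leaf 686658060179) (.leaf 1119376264454)))) (.node (.node (.node (.node (.leaf 83751870727) (.leaf 1008780599578)) (.leaf 991063835912)) (.node (.leaf 173946269081) (.leaf 964757400578))) (.node (.node (.leaf 410169420043) (.leaf 821949657242)) (.node (.leaf 774704910737) (.leaf 428423139738))))) (.node (.node (.node (.node (.node (.leaf 40265328154) (.leaf 606664370819)) (.leaf 912143862425)) (.node (.leaf 277562327699) (.leaf 900869740934))) (.node (.node (.leaf 198105445767) (.leaf 1231582158105)) (.node (.leaf 630286600976)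 (.leaf 241055317658)))) (.node (.node (.node (.node (.leaf 94489333401) (.leaf 758061884291)) (.leaf 625454867480)) (.node (.leaf 269509343896) (.leaf 1662152593536))) (.node (.node (.leaf 500363741963) (.leaf 1318018277764)) (.node (.leaf 336081271061) (.leaf 200253273754)))))) (.node (.node (.node (.node (.node (.node (.leaf 9126821777) (.leaf 389231785348)) (.leaf 873489080840)) (.node (.leaf 127775284234) (.leaf 1430224360715))) (.node (.node (.leaf 254476881158) (.leaf 1191316837779)) (.node (.leaf 394600224282) (.leaf 1146756691736)))) (.node (.node (.node (.node (.leaf 14495519770) (.leaf 1403380860417)) (.leaf 1035087365133)) (.node (.leaf 362924823053) (.leaf 1611149990913))) (.node (.node (.leaf 452045355272) (.leaf 1036161107205)) (.node (.leaf 536947610) (.leaf 1209570590618))))) (.node (.node (.node (.node (.node (.leaf 37044131737) (.leaf 930934381978)) (.leaf 515933172505)) (.node (.leaf 117574757779) (.leaf 1509681225350))) (.node (.node (.leaf 233538934937) (.leaf 758598902808)) (.node (.leaf 474057192578) (.leaf 761820106122))))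 (.node (.node (.node (.node (.leaf 250718742426) (.leaf 947577431179)) (.leaf 1112396794753)) (.node (.leaf 285078608404) (.leaf 1683090565514))) (.node (.node (.leaf 230317751810) (.leaf 811749142424)) (.node (.leaf 490163228931) (.leaf 792958618906))))))
def dF_449 : BT := .node (.node (.node (.node (.node (.node (.node (.leaf 6979331732) (.leaf 350576882970)) (.leaf 857383050897)) (.node (.leaf 313532643850) (.leaf 1108638769031))) (.node (.node (.leaf 271656742786) (.leaf 680215724294)) (.node (.leaf 709206552597) (.leaf 1132261171718)))) (.node (.node (.node (.node (.leaf 177167436555) (.leaf 659277637145)) (.leaf 1010391297297)) (.node (.leaf 208305963539) (.leaf 1590211875590))) (.node (.node (.leaf 431644314893) (.leaf 278099281162)) (.node (.leaf 791347900038) (.leaf 995359047706))))) (.node (.node (.node (.node (.node (.leaf 136902090891) (.leaf 807990926977)) (.leaf 926102544023)) (.node (.leaf 240518225935) (.leaf 1490890878089))) (.node (.node (.leaf 151397681030) (.leaf 1252520136337)) (.node (.leaf 724239032975) (.leaf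 1083942645530)))) (.node (.node (.node (.node (.leaf 236760096650) (.leaf 1134945308034)) (.leaf 1089311231626)) (.node (.leaf 449897974410) (.leaf 1454383670810))) (.node (.node (.leaf 223338423956) (.leaf 803696074008)) (.node (.leaf 636729053460) (.leaf 683973873050)))))) (.node (.node (.node (.node (.node (.node (.leaf 92341809164) (.leaf 925565639560)) (.leaf 895500791556)) (.node (.leaf 358629854874) (.leaf 877784286080))) (.node (.node (.leaf 308163960577) (.leaf 1212254690946)) (.node (.leaf 173946216977) (.leaf 1175210856216)))) (.node (.node (.node (.node (.leaf 206695349143) (.leaf 1445793705223)) (.leaf 617938671128)) (.node (.leaf 497142583063) (.leaf 1016297026432))) (.node (.node (.leaf 475130870285) (.leaf 1298154054792)) (.node (.leaf 350576883098) (.leaf 462245952260))))) (.node (.node (.node (.node (.node (.leaf 2147484058) (.leaf 690952984580)) (.leaf 969588992646)) (.node (.leaf 154618874761) (.leaf 1530082405510))) (.node (.node (.leaf 185220557568) (.leaf 987305824025)) (.node (.leaf 759135650583) (.leaf 1610075999386))))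 (.node (.node (.node (.node (.leaf 158376956946) (.leaf 1251983299457)) (.leaf 657130265482)) (.node (.leaf 664646260737) (.leaf 1707249763329))) (.node (.node (.leaf 568009482376) (.leaf 1083942589186)) (.node (.leaf 406948347033) (.leaf 264140551705))))))
def dF_450 : BT := .node dF_448 dF_449
def dF_451 : BT := .node dF_447 dF_450
def dF_452 : BT := .node (.node (.node (.node (.node (.node (.node (.leaf 536872577) (.leaf 449897931531)) (.leaf 836981951375)) (.node (.leaf 587873783959) (.leaf 1029181868312))) (.node (.node (.node (.leaf 257161227904) (.leaf 1432908691843)) (.leaf 669478299138)) (.node (.leaf 306016582292) (.leaf 1112933812098)))) (.node (.node (.node (.node (.leaf 21474846598) (.leaf 1259499407882)) (.leaf 986232031616)) (.node (.leaf 151397633295) (.leaf 959388689945))) (.node (.node (.leaf 179851851915) (.leaf 629212917248)) (.node (.leaf 362924920450) (.leaf 514322572570))))) (.node (.node (.node (.node (.node (.leaf 110595434113) (.leaf 296889888267)) (.leaf 907312057619)) (.node (.leaf 264677422739) (.leaf 894427288580)))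 (.node (.node (.leaf 139586514969) (.leaf 1228360939539)) (.node (.leaf 222801481617) (.leaf 1192390727941)))) (.node (.node (.node (.node (.leaf 215822157577) (.leaf 1483911431322)) (.leaf 1066762651144)) (.node (.leaf 267898729738) (.leaf 1041529964032))) (.node (.node (.leaf 493921353105) (.leaf 1313186471046)) (.node (.leaf 276488669210) (.leaf 1672353055514)))))) (.node (.node (.node (.node (.node (.node (.leaf 8589949323) (.leaf 44560296345)) (.leaf 445603064582)) (.node (.leaf 78920031002) (.leaf 855772572932))) (.node (.node (.leaf 117574797570) (.leaf 691490017152)) (.node (.leaf 335544491800) (.leaf 1773284815130)))) (.node (.node (.node (.node (.leaf 190589208727) (.leaf 1403380813961)) (.leaf 602369409282)) (.node (.leaf 350576789139) (.leaf 1605244409617))) (.node (.node (.leaf 199179214592) (.leaf 1258425692934)) (.node (.leaf 803695946899) (.leaf 197568838426))))) (.node (.node (.node (.node (.node (.leaf 155155703045) (.leaf 753230069145)) (.leaf 942745506432)) (.node (.leaf 374735985939) (.leaf 1504849525142))) (.node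 (.node (.leaf 366682919059) (.leaf 1269700009619)) (.node (.leaf 740345164179) (.leaf 1596654348801)))) (.node (.node (.node (.node (.leaf 251255613197) (.leaf 1202054231686)) (.leaf 1105417471383)) (.node (.leaf 391378995593) (.leaf 1677721854599))) (.node (.node (.leaf 543313485839) (.leaf 1349693665544)) (.node (.leaf 751619456020) (.leaf 1089311485082))))))
def dF_453 : BT := .node (.node (.node (.node (.node (.node (.node (.leaf 33822870401) (.leaf 313532778522)) (.leaf 427349449226)) (.node (.leaf 266824907034) (.leaf 1403917635590))) (.node (.node (.node (.leaf 111132342425) (.leaf 1401233513602)) (.leaf 1165010040074)) (.node (.leaf 317827747480) (.leaf 1748588865284)))) (.node (.node (.node (.node (.leaf 150323877383) (.leaf 710817485701)) (.leaf 1005559353099)) (.node (.leaf 197568542733) (.leaf 977105436824))) (.node (.node (.leaf 185220566040) (.leaf 1045287692058)) (.node (.leaf 788126588547) (.leaf 869731079303))))) (.node (.node (.node (.node (.node (.leaf 30064802196) (.leaf 243202662042)) (.leaf 496605813642)) (.node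 (.leaf 219043384343) (.leaf 907849066244))) (.node (.node (.leaf 146565841552) (.leaf 746250865162)) (.node (.leaf 555661526416) (.leaf 298500363147)))) (.node (.node (.node (.node (.leaf 233538883607) (.leaf 1467805344518)) (.leaf 1083405718530)) (.node (.leaf 625991632655) (.leaf 1536524920986))) (.node (.node (.leaf 222801551498) (.leaf 180388723738)) (.node (.leaf 690953028500) (.leaf 847182447367)))))) (.node (.node (.node (.node (.node (.node (.leaf 16106148356) (.leaf 629212782598)) (.leaf 890668953224)) (.node (.leaf 1610612762) (.leaf 1443646089986))) (.node (.node (.leaf 303869007375) (.leaf 871341687558)) (.node (.leaf 310311552538) (.leaf 1797444093185)))) (.node (.node (.node (.node (.leaf 203474122764) (.leaf 1212791677827)) (.leaf 1048509141135)) (.node (.leaf 474593935882) (.leaf 1012002057729))) (.node (.node (.leaf 471372770455) (.leaf 1294395954562)) (.node (.leaf 193810503706) (.leaf 446139834245))))) (.node (.node (.node (.node (.node (.leaf 5402) (.leaf 298500334345)) (.leaf 525596853000)) (.node (.leaf 205084735898)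 (.leaf 1525787356298))) (.node (.node (.leaf 383862778645) (.leaf 992137703808)) (.node (.leaf 755914424335) (.leaf 1789928025625)))) (.node (.node (.node (.node (.leaf 248034419091) (.leaf 1230508398594)) (.leaf 656593394072)) (.node (.leaf 659277549832) (.leaf 1096827678850))) (.node (.node (.leaf 240518302596) (.leaf 1353451896088)) (.node (.leaf 403727120514) (.leaf 146028941440))))))
def dF_454 : BT := .node dF_452 dF_453
def dF_455 : BT := .node (.node (.node (.node (.node (.node (.node (.leaf 1073746579) (.leaf 712964858138)) (.leaf 842350661775)) (.node (.leaf 594853083539) (.leaf 1391569668359))) (.node (.node (.node (.leaf 260382442262) (.leaf 1639067075098)) (.leaf 1151588380813)) (.node (.leaf 690953028502) (.leaf 1738388281476)))) (.node (.node (.node (.node (.leaf 145492037895) (.leaf 1067299565466)) (.leaf 561567211270)) (.node (.leaf 297426556183) (.leaf 1566052823693))) (.node (.node (.leaf 415001264522) (.leaf 1082868887450)) (.node (.leaf 370977986184) (.leaf 972273541274))))) (.node (.node (.node (.node (.node (.leaf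 117574736646) (.leaf 64961395865)) (.leaf 915365021442)) (.node (.leaf 88046840218) (.leaf 1473710912025))) (.node (.node (.leaf 337154974347) (.leaf 738734669706)) (.node (.leaf 648003345296) (.leaf 1142461487514)))) (.node (.node (.node (.node (.leaf 228707061646) (.leaf 749471974298)) (.leaf 629212965126)) (.node (.leaf 272730570630) (.leaf 1050119901568))) (.node (.node (.leaf 504658710151) (.leaf 1325534471174)) (.node (.leaf 440771065994) (.leaf 35970386970)))))) (.node (.node (.node (.node (.node (.node (.leaf 10200565528) (.leaf 735513293978)) (.leaf 451508646664)) (.node (.leaf 277562328986) (.leaf 913754634629))) (.node (.node (.leaf 292594699136) (.leaf 1198296161299)) (.node (.leaf 179851852058) (.leaf 1783485444743)))) (.node (.node (.node (.node (.leaf 51539611416) (.leaf 1526324240641)) (.leaf 1039382333454)) (.node (.leaf 460098481293) (.leaf 1617592296971))) (.node (.node (.leaf 199716088836) (.leaf 862751809669)) (.node (.leaf 134217735322) (.leaf 1417339587328))))) (.node (.node (.node (.node (.node (.leaf 169651240449)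 (.leaf 955093721242)) (.leaf 954556605574)) (.node (.leaf 406948249626) (.leaf 929860781066))) (.node (.node (.leaf 237297032326) (.leaf 1280437430421)) (.node (.leaf 747324394112) (.leaf 1662152654083)))) (.node (.node (.node (.node (.leaf 6979336858) (.leaf 1337882504712)) (.leaf 949188038918)) (.node (.leaf 285615480336) (.leaf 1688996235014))) (.node (.node (.leaf 550292799760) (.leaf 1362578699535)) (.node (.leaf 807454005126) (.leaf 151934604826))))))
def dF_456 : BT := .node (.node (.node (.node (.node (.node (.node (.leaf 47244642563) (.leaf 917512521095)) (.leaf 436476256664)) (.node (.leaf 264140551695) (.leaf 1414118186757))) (.node (.node (.leaf 252329394201) (.leaf 699543078272)) (.node (.leaf 712964715650) (.leaf 1135482398724)))) (.node (.node (.node (.node (.leaf 180925540367) (.leaf 345208172547)) (.leaf 572304634393)) (.node (.leaf 514322463002) (.leaf 1595043836185))) (.node (.node (.leaf 190589277444) (.leaf 846645630084)) (.node (.leaf 375809828104) (.leaf 1061930865927))))) (.node (.node (.node (.node (.node (.leaf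 31138546841) (.leaf 530428694170)) (.leaf 932544996493)) (.node (.leaf 191126079898) (.leaf 916975874180))) (.node (.node (.leaf 356482370445) (.leaf 751619576600)) (.node (.leaf 728534001303) (.leaf 1075352802202)))) (.node (.node (.node (.node (.leaf 65498309256) (.leaf 1134945385728)) (.leaf 637266033674)) (.node (.leaf 634044698253) (.leaf 1056025482248))) (.node (.node (.leaf 528817902595) (.leaf 806917300356)) (.node (.leaf 795642881301) (.leaf 311385337370)))))) (.node (.node (.node (.node (.node (.node (.leaf 16643021593) (.leaf 648003360258)) (.leaf 899795863055)) (.node (.leaf 158376956823) (.leaf 887984834822))) (.node (.node (.leaf 128312223105) (.leaf 1217086530058)) (.node (.leaf 264677503770) (.leaf 1181116437912)))) (.node (.node (.node (.node (.leaf 52613399956) (.leaf 1481227050266)) (.leaf 1058172715650)) (.node (.leaf 525596748179) (.leaf 1025423834136))) (.node (.node (.leaf 482110131074) (.leaf 774705036953)) (.node (.leaf 280246784666) (.leaf 816043911563))))) (.node (.node (.node (.node (.node (.leaf 170188112026)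 (.leaf 740345164185)) (.leaf 975494679693)) (.node (.leaf 506806261779) (.leaf 950261880710))) (.node (.node (.leaf 175020011398) (.leaf 639413472900)) (.node (.leaf 762893747855) (.leaf 1629940321050)))) (.node (.node (.node (.node (.leaf 180388669586) (.leaf 1744830880024)) (.leaf 1133871636499)) (.node (.leaf 297426644865) (.leaf 1714229085316))) (.node (.node (.leaf 574988804482) (.leaf 1376000344706)) (.node (.leaf 408558961154) (.leaf 275951715083))))))
def dF_457 : BT := .node dF_455 dF_456
def dF_458 : BT := .node dF_454 dF_457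
def dF_459 : BT := .node dF_451 dF_458
def dF_460 : BT := .node (.node (.node (.node (.node (.node (.node (.leaf 2684355206) (.leaf 1313186533274)) (.leaf 414464542986)) (.node (.leaf 585726299027) (.leaf 831076501256))) (.node (.node (.node (.leaf 255550595602) (.leaf 898722178307)) (.leaf 1138703475863)) (.node (.leaf 298500388760) (.leaf 1109712585864)))) (.node (.node (.node (.node (.leaf 60666421900) (.leaf 658740880410)) (.leaf 554051015938)) (.node (.leaf 576599417226) (.leaf 956167463705))) (.node (.node (.leaf 401579521293) (.leaf 458487965056)) (.node (.leaf 769336200333) (.leaf 1345935637510))))) (.node (.node (.node (.node (.node (.leaf 18253636500) (.leaf 520227995011)) (.leaf 906238315539)) (.node (.leaf 310311461139) (.leaf 893890417158))) (.node (.node (.leaf 323196365953) (.leaf 1225139713302)) (.node (.leaf 296352901658) (.leaf 1512902663042)))) (.node (.node (.node (.node (.leaf 195421058714) (.leaf 1765231775002)) (.leaf 1064615189273)) (.node (.leaf 604516710283) (.leaf 1038845609096))) (.node (.node (.leaf 210453514753)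 (.leaf 1311038953610)) (.node (.leaf 54223975061) (.leaf 1068910330394)))))) (.node (.node (.node (.node (.node (.node (.leaf 57982061445) (.leaf 208305984523)) (.leaf 868657279257)) (.node (.leaf 190589208730) (.leaf 1420023765642))) (.node (.node (.leaf 282931036819) (.leaf 1183263655168)) (.node (.leaf 718333360258) (.leaf 1174137106952)))) (.node (.node (.node (.node (.leaf 188978573317) (.leaf 1018444511002)) (.leaf 1027571069063)) (.node (.leaf 225485836823) (.leaf 994285311364))) (.node (.node (.leaf 442918550273) (.leaf 752156422554)) (.node (.leaf 802085234187) (.leaf 828928798337))))) (.node (.node (.node (.node (.node (.leaf 152471347720) (.leaf 1104343874970)) (.leaf 941671735552)) (.node (.leaf 370977888663) (.leaf 922344584970))) (.node (.node (.leaf 153008296712) (.leaf 755914546434)) (.node (.leaf 738734551059) (.leaf 1194537965704)))) (.node (.node (.node (.node (.leaf 249108161175) (.leaf 1228897691909)) (.leaf 1104343729295)) (.node (.leaf 278636156441) (.leaf 1060857321752))) (.node (.node (.leaf 225485912088) (.leaf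 807991043590)) (.node (.leaf 790274170900) (.leaf 485868262554))))))
def dF_461 : BT := .node (.node (.node (.node (.node (.node (.node (.leaf 30064772616) (.leaf 1075352693145)) (.leaf 849329984641)) (.node (.leaf 601832389123) (.leaf 841277053336))) (.node (.node (.node (.leaf 110058600074) (.leaf 1816771599385)) (.leaf 673773271809)) (.node (.leaf 699542872710) (.leaf 1746441381128)))) (.node (.node (.node (.node (.leaf 119185370765) (.leaf 994821933961)) (.leaf 1002874998537)) (.node (.leaf 184683637779) (.leaf 975494823428))) (.node (.node (.leaf 185220565382) (.leaf 1210644159770)) (.node (.leaf 374199213464) (.leaf 828928894746))))) (.node (.node (.node (.node (.node (.leaf 30064801414) (.leaf 762356781830)) (.leaf 921807474308)) (.node (.leaf 533112942874) (.leaf 1482300818585))) (.node (.node (.leaf 190052384793) (.leaf 1243393328661)) (.node (.leaf 720480935697) (.leaf 518080593287)))) (.node (.node (.node (.node (.leaf 233002028294) (.leaf 740345259138)) (.leaf 1079110790415)) (.node (.leaf 624917890573) (.leaf 949724872474)))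 (.node (.node (.leaf 512711773840) (.leaf 855235573126)) (.node (.leaf 627602202247) (.leaf 625454809607)))))) (.node (.node (.node (.node (.node (.node (.leaf 15569276808) (.leaf 752156352133)) (.leaf 887447726856)) (.node (.leaf 219580255258) (.leaf 1380295458432))) (.node (.node (.leaf 301721523223) (.leaf 1206349226901)) (.node (.leaf 219043453466) (.leaf 1168768403462)))) (.node (.node (.node (.node (.leaf 46170946320) (.leaf 423054612122)) (.leaf 610959347225)) (.node (.leaf 450971673613) (.leaf 1010391444228))) (.node (.node (.leaf 468688412559) (.leaf 882616087320)) (.node (.leaf 173946268954) (.leaf 46171003418))))) (.node (.node (.node (.node (.node (.leaf 22548583834) (.leaf 649613998234)) (.leaf 961536032655)) (.node (.leaf 414464442895) (.leaf 1522566130436))) (.node (.node (.leaf 381178437143) (.leaf 1286879812358)) (.node (.leaf 753766940177) (.leaf 1590211957376)))) (.node (.node (.node (.node (.leaf 93415588229) (.leaf 772557510666)) (.leaf 1125281699859)) (.node (.leaf 657667024019) (.leaf 1697049212683))) (.node (.node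 (.leaf 558882751631) (.leaf 1369021152017)) (.node (.leaf 814433367047) (.leaf 426812476825))))))
def dF_462 : BT := .node dF_460 dF_461
def dF_463 : BT := .node (.node (.node (.node (.node (.node (.node (.leaf 17179869446) (.leaf 214748483354)) (.leaf 841276919698)) (.node (.leaf 593242451855) (.leaf 1389959122583))) (.node (.node (.node (.leaf 259308700182) (.leaf 898722140288)) (.leaf 665720204696)) (.node (.leaf 688805543425) (.leaf 1121523748746)))) (.node (.node (.node (.node (.leaf 65498255498) (.leaf 839666306585)) (.leaf 993211320073)) (.node (.leaf 542776614810) (.leaf 1561757713419))) (.node (.node (.leaf 412853828495) (.leaf 822486410008)) (.node (.leaf 363998663686) (.leaf 1036698066842))))) (.node (.node (.node (.node (.node (.leaf 81604382226) (.leaf 630286521351)) (.leaf 914291380481)) (.node (.leaf 175019959053) (.leaf 1291174894086))) (.node (.node (.leaf 144955226137) (.leaf 1234803273732)) (.node (.leaf 526133619216) (.leaf 1619739899034)))) (.node (.node (.node (.node (.leaf 226022667403) (.leaf 1130650410522)) (.leaf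 628139222788)) (.node (.leaf 614180396163) (.leaf 1048509288198))) (.node (.node (.leaf 501974421389) (.leaf 790274297472)) (.node (.leaf 336618142101) (.leaf 603443015431)))))) (.node (.node (.node (.node (.node (.node (.leaf 71940704653) (.leaf 807990969498)) (.leaf 450971775106)) (.node (.leaf 110058600601) (.leaf 1432908805779))) (.node (.node (.leaf 290447192198) (.leaf 1195611686667)) (.node (.leaf 37044101777) (.leaf 1780264218627)))) (.node (.node (.node (.node (.leaf 52076524808) (.leaf 1400696619802)) (.leaf 1037234746500)) (.node (.leaf 389231504019) (.leaf 1612760604183))) (.node (.node (.leaf 199179217026) (.leaf 876710488711)) (.node (.leaf 12884902042) (.leaf 1079110736128))))) (.node (.node (.node (.node (.node (.leaf 165893121675) (.leaf 740882254234)) (.leaf 519691269762)) (.node (.leaf 389768375055) (.leaf 927713296646))) (.node (.node (.leaf 311385217536) (.leaf 761283258240)) (.node (.leaf 389231588994) (.leaf 1186484951683)))) (.node (.node (.node (.node (.leaf 110058563469) (.leaf 653909008010)) (.leaf 1115081150099))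 (.node (.leaf 648003345298) (.leaf 1077500322436))) (.node (.node (.leaf 549219070355) (.leaf 1359894213898)) (.node (.leaf 748398135193) (.leaf 917512624282))))))
def dF_464 : BT := .node (.node (.node (.node (.node (.node (.node (.leaf 45097158406) (.leaf 376346690950)) (.leaf 436476256388)) (.node (.leaf 28454165127) (.leaf 1411970700294))) (.node (.node (.leaf 112206085771) (.leaf 682363208452)) (.node (.leaf 710817256973) (.leaf 1137093010820)))) (.node (.node (.node (.node (.leaf 179314926208) (.leaf 1433445505050)) (.leaf 1013075652495)) (.node (.leaf 209916643481) (.leaf 1592896305408))) (.node (.node (.leaf 433254928147) (.leaf 819265208218)) (.node (.leaf 793495297418) (.leaf 576599746970))))) (.node (.node (.node (.node (.node (.leaf 31138546310) (.leaf 731218475674)) (.leaf 505732620697)) (.node (.leaf 241592047257) (.leaf 1493038361728))) (.node (.node (.leaf 151397681552) (.leaf 1254130629387)) (.node (.leaf 726923386113) (.leaf 916975752090)))) (.node (.node (.node (.node (.leaf 64961437464) (.leaf 1269699923209)) (.leaf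 636729162248)) (.node (.leaf 631360259075) (.leaf 1411970730755))) (.node (.node (.leaf 224949037442) (.leaf 805306687112)) (.node (.leaf 721017806741) (.leaf 1202591189786)))))) (.node (.node (.node (.node (.node (.node (.leaf 94489293324) (.leaf 375273129498)) (.leaf 897648350089)) (.node (.leaf 6979321990) (.leaf 1449551808006))) (.node (.node (.leaf 311922030344) (.leaf 1213865320704)) (.node (.leaf 17) (.leaf 1180042695169)))) (.node (.node (.node (.node (.leaf 209379668482) (.leaf 1445793710744)) (.leaf 761283205016)) (.node (.leaf 519154295695) (.leaf 1639604008203))) (.node (.node (.leaf 208842898954) (.leaf 773094423688)) (.node (.leaf 340913203610) (.leaf 848256242970))))) (.node (.node (.node (.node (.node (.leaf 31138542618) (.leaf 997506539162)) (.leaf 972810324497)) (.node (.leaf 231391416858) (.leaf 945966912537))) (.node (.node (.leaf 392452705409) (.leaf 603443086593)) (.node (.leaf 761819910656) (.leaf 1786706635034)))) (.node (.node (.node (.node (.leaf 190052337682) (.leaf 1752347032961)) (.leaf 1131724039302)) (.node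 (.leaf 666256959744) (.leaf 1102733261190))) (.node (.node (.leaf 246960755609) (.leaf 819802210186)) (.node (.leaf 823023304341) (.leaf 806917193602))))))
def dF_465 : BT := .node dF_463 dF_464
def dF_466 : BT := .node dF_462 dF_465
def dF_467 : BT := .node (.node (.node (.node (.node (.node (.node (.leaf 10200547979) (.leaf 736587258138)) (.leaf 419296382210)) (.node (.leaf 590558098946) (.leaf 1386200991878))) (.node (.node (.node (.leaf 257698081811) (.leaf 1673963830024)) (.leaf 663035848961)) (.node (.leaf 309237808392) (.leaf 1728724602498)))) (.node (.node (.node (.node (.leaf 78383159959) (.leaf 839666319239)) (.leaf 988379481474)) (.node (.leaf 363998566426) (.leaf 961536174344))) (.node (.node (.leaf 406411326721) (.leaf 200252959896)) (.node (.leaf 773094199818) (.leaf 971199719962))))) (.node (.node (.node (.node (.node (.leaf 113279789324) (.leaf 487478904331)) (.leaf 909996412821)) (.node (.leaf 268435520013) (.leaf 898722256640))) (.node (.node (.leaf 330175687820) (.leaf 731218475396)) (.node (.leaf 298500298257) (.leaf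 1056025469850)))) (.node (.node (.node (.node (.leaf 219580255245) (.leaf 656593346818)) (.leaf 624917996185)) (.node (.leaf 268435601281) (.leaf 1040456222858))) (.node (.node (.leaf 496605681030) (.leaf 1315870885504)) (.node (.leaf 127238436501) (.leaf 46170946074)))))) (.node (.node (.node (.node (.node (.node (.leaf 64961382534) (.leaf 6979323545)) (.leaf 446139936010)) (.node (.leaf 318364526874) (.leaf 857383186840))) (.node (.node (.leaf 117037927184) (.leaf 691490017926)) (.node (.leaf 344671297412) (.leaf 1774358685184)))) (.node (.node (.node (.node (.leaf 193273540743) (.leaf 809601536130)) (.leaf 1033476752013)) (.node (.leaf 355945499533) (.leaf 1607928618756))) (.node (.node (.leaf 448824130688) (.leaf 899795851289)) (.node (.leaf 806380211206) (.leaf 847182503684))))) (.node (.node (.node (.node (.node (.leaf 158376956951) (.leaf 534186684825)) (.leaf 945966669954)) (.node (.leaf 255550595610) (.leaf 1506997006085))) (.node (.node (.leaf 368293532175) (.leaf 1272921235853)) (.node (.leaf 743029425798) (.leaf 1331977014937))))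 (.node (.node (.node (.node (.leaf 252329347336) (.leaf 1363115639066)) (.leaf 647466584344)) (.node (.leaf 644245162887) (.leaf 1680406209542))) (.node (.node (.leaf 229780880384) (.leaf 1353988633480)) (.node (.leaf 390305246100) (.leaf 554587768346))))))
def dF_468 : BT := .node (.node (.node (.node (.node (.node (.node (.leaf 6979330955) (.leaf 9127021210)) (.leaf 855235464968)) (.node (.leaf 239444483994) (.leaf 1406065253777))) (.node (.node (.node (.leaf 268972390925) (.leaf 1817845341463)) (.leaf 1166620653450)) (.node (.leaf 321048973720) (.leaf 1751810055432)))) (.node (.node (.node (.node (.leaf 102542381833) (.leaf 1125818717594)) (.leaf 1008243708803)) (.node (.leaf 457414126234) (.leaf 979789792646))) (.node (.node (.leaf 185757437702) (.leaf 336618234394)) (.node (.leaf 789737287562) (.leaf 515396198407))))) (.node (.node (.node (.node (.node (.leaf 133680864388) (.leaf 240518286987)) (.leaf 924491829002)) (.node (.leaf 236760128663) (.leaf 1488743255560))) (.node (.node (.leaf 348429257744) (.leaf 749472091521)) (.node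 (.leaf 722628418048) (.leaf 985695360666)))) (.node (.node (.node (.node (.leaf 64961436296) (.leaf 1253056929412)) (.leaf 1086090006658)) (.node (.leaf 628139116823) (.leaf 1504849393411))) (.node (.node (.leaf 518617355393) (.leaf 850940598170)) (.node (.leaf 656593281940) (.leaf 1171989323930)))))) (.node (.node (.node (.node (.node (.node (.leaf 89657453452) (.leaf 296352771716)) (.leaf 892816539543)) (.node (.leaf 343597465754) (.leaf 1445793691528))) (.node (.node (.leaf 306016480650) (.leaf 1209033464584)) (.node (.leaf 270583085722) (.leaf 1799054788354)))) (.node (.node (.node (.node (.leaf 46707818244) (.leaf 1204201659648)) (.leaf 1027034305152)) (.node (.leaf 487478904335) (.leaf 1013612671384))) (.node (.node (.leaf 472983372307) (.leaf 792421775240)) (.node (.leaf 280246693402) (.leaf 43486773530))))) (.node (.node (.node (.node (.node (.leaf 42412826394) (.leaf 561567107851)) (.leaf 966904743053)) (.node (.leaf 474057114112) (.leaf 1527397969162))) (.node (.node (.leaf 387620838405) (.leaf 917512624281)) (.node (.leaf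 758061908499) (.leaf 1776506278667)))) (.node (.node (.node (.node (.leaf 223338354066) (.leaf 1337345657866)) (.leaf 1127966055055)) (.node (.leaf 296352901254) (.leaf 1704565548938))) (.node (.node (.leaf 564788257537) (.leaf 828928839947)) (.node (.leaf 818191366152) (.leaf 803695903490))))))
def dF_469 : BT := .node dF_467 dF_468
def dF_470 : BT := .node (.node (.node (.node (.node (.node (.node (.leaf 24159196801) (.leaf 487478970522)) (.leaf 845034917632)) (.node (.leaf 597000537993) (.leaf 1395327832973))) (.node (.node (.node (.leaf 261993057174) (.leaf 1432908798721)) (.leaf 670552044440)) (.node (.leaf 692563641615) (.leaf 1741609599494)))) (.node (.node (.node (.node (.leaf 59592694540) (.leaf 649614011656)) (.leaf 997506392333)) (.node (.leaf 408558861455) (.leaf 971199854088))) (.node (.node (.leaf 417685614723) (.leaf 1056562162176)) (.node (.leaf 782757878792) (.leaf 1025960549786))))) (.node (.node (.node (.node (.node (.leaf 28991057934) (.leaf 350576789131)) (.leaf 917512607373)) (.node (.leaf 454729771034) (.leaf 905164709784)))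 (.node (.node (.leaf 338765587975) (.leaf 1238024617728)) (.node (.leaf 462782836496) (.leaf 565862059658)))) (.node (.node (.node (.node (.leaf 230317634308) (.leaf 1040455984265)) (.leaf 1076426388097)) (.node (.leaf 621159710980) (.leaf 1635846054020))) (.node (.node (.leaf 219043453320) (.leaf 1328218952981)) (.node (.leaf 242128839061) (.leaf 603979920025)))))) (.node (.node (.node (.node (.node (.node (.leaf 78920030998) (.leaf 649614069786)) (.leaf 881005275016)) (.node (.leaf 403727022234) (.leaf 864362511364))) (.node (.node (.leaf 118111671064) (.leaf 1202054258577)) (.node (.leaf 36507258906) (.leaf 1787243542278)))) (.node (.node (.node (.node (.leaf 87510002329) (.leaf 1322850121993)) (.leaf 606664378888)) (.node (.leaf 419296282259) (.leaf 1620813523456))) (.node (.node (.leaf 463319707407) (.leaf 1287953501192)) (.node (.leaf 4831838234) (.leaf 804769749003))))) (.node (.node (.node (.node (.node (.leaf 172335602571) (.leaf 653908926745)) (.leaf 956704189952)) (.node (.leaf 145492051863) (.leaf 1518271161480))) (.node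 (.node (.leaf 158913880089) (.leaf 762357000708)) (.node (.leaf 749471971855) (.leaf 1463510455043)))) (.node (.node (.node (.node (.leaf 36507277850) (.leaf 515396313754)) (.leaf 1120449820166)) (.node (.leaf 653908839812) (.leaf 1691680647042))) (.node (.node (.leaf 552977128336) (.leaf 818191595008)) (.node (.leaf 808527686532) (.leaf 496605728026))))))
def dF_471 : BT := .node (.node (.node (.node (.node (.node (.node (.leaf 51002739843) (.leaf 198642322312)) (.leaf 440234353800)) (.node (.leaf 397821440538) (.leaf 1416265796120))) (.node (.node (.leaf 278099159302) (.leaf 686658177156)) (.node (.leaf 714038457730) (.leaf 1137629883266)))) (.node (.node (.node (.node (.leaf 44023458585) (.leaf 790274175386)) (.leaf 574988989720)) (.node (.leaf 223338352659) (.leaf 1211181158425))) (.node (.node (.leaf 437013026445) (.leaf 1222992127114)) (.node (.leaf 375809828505) (.leaf 1416802546586))))) (.node (.node (.node (.node (.node (.leaf 43486578563) (.leaf 1657857698177)) (.leaf 507343234950)) (.node (.leaf 344671207699) (.leaf 1498943806467)))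 (.node (.node (.leaf 152471424522) (.leaf 1260036209800)) (.node (.leaf 731218356497) (.leaf 1492501409671)))) (.node (.node (.node (.node (.leaf 66035180928) (.leaf 1612760488584)) (.leaf 640487260166)) (.node (.leaf 636728967940) (.leaf 1672353289619))) (.node (.node (.leaf 532575998853) (.leaf 1342714471053)) (.node (.leaf 485868291220) (.leaf 790274298266)))))) (.node (.node (.node (.node (.node (.node (.leaf 17179893138) (.leaf 223338352665)) (.leaf 903016987659)) (.node (.leaf 285078522255) (.leaf 891206061184))) (.node (.node (.leaf 316217041431) (.leaf 1219770884746)) (.node (.leaf 389231455240) (.leaf 1182727051274)))) (.node (.node (.node (.node (.leaf 213674659222) (.leaf 905164594313)) (.leaf 1059246561935)) (.node (.leaf 530965458579) (.leaf 1051730509312))) (.node (.node (.leaf 484794486403) (.leaf 779536875777)) (.node (.leaf 331249522458) (.leaf 1119913096474))))) (.node (.node (.node (.node (.node (.leaf 7516196620) (.leaf 842887728666)) (.leaf 979252670856)) (.node (.leaf 555661526423) (.leaf 1540819744899))) (.node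 (.node (.leaf 397821392128) (.leaf 451508545434)) (.node (.leaf 362924918912) (.leaf 973884075657)))) (.node (.node (.node (.node (.leaf 78920084616) (.leaf 793495397129)) (.leaf 1135482135818)) (.node (.leaf 297426645528) (.leaf 1481764126219))) (.node (.node (.leaf 248034499353) (.leaf 829465887622)) (.node (.leaf 408558961688) (.leaf 752156327065))))))
def dF_472 : BT := .node dF_470 dF_471
def dF_473 : BT := .node dF_469 dF_472
def dF_474 : BT := .node dF_466 dF_473
def dF_475 : BT := .node dF_459 dF_474
def dF_476 : BT := .node (.node (.node (.node (.node (.node (.node (.leaf 1610613128) (.leaf 1365800010266)) (.leaf 832686883204)) (.node (.leaf 246423888130) (.leaf 1379758573184))) (.node (.node (.node (.leaf 102542404992) (.leaf 1468342215962)) (.leaf 1138166490887)) (.node (.leaf 298500388232) (.leaf 1107565101832)))) (.node (.node (.node (.node (.leaf 30601645578) (.leaf 1040456075545)) (.leaf 535260533508)) (.node (.leaf 568546431375) (.leaf 1547799208193))) (.node (.node (.leaf 401042650253) (.leaf 452582286490)) (.node (.leaf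 768799329295) (.leaf 1460289180569))))) (.node (.node (.node (.node (.node (.leaf 105226703880) (.leaf 675383863687)) (.leaf 905701444498)) (.node (.leaf 309237719059) (.leaf 1460289093508))) (.node (.node (.leaf 321585752193) (.leaf 1223529006978)) (.node (.leaf 277562412954) (.leaf 1815160837504)))) (.node (.node (.node (.node (.leaf 67645751194) (.leaf 928786946307)) (.leaf 622233640452)) (.node (.leaf 603443048983) (.leaf 1631551095427))) (.node (.node (.leaf 210453514393) (.leaf 1309965211782)) (.node (.leaf 219043453594) (.leaf 428423295642)))))) (.node (.node (.node (.node (.node (.node (.leaf 8053077007) (.leaf 768799329290)) (.leaf 441844967425)) (.node (.leaf 584115691674) (.leaf 911607146891))) (.node (.node (.leaf 113279829762) (.leaf 1182189912836)) (.node (.leaf 717259617931) (.leaf 1141924852102)))) (.node (.node (.node (.node (.leaf 44560330514) (.leaf 574988804488)) (.leaf 1026497329920)) (.node (.leaf 224948965775) (.leaf 1602023038219))) (.node (.node (.leaf 332323199616) (.leaf 1249298705818)) (.node (.leaf 382252280217)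 (.leaf 819802211994))))) (.node (.node (.node (.node (.node (.leaf 35970387097) (.leaf 340376305178)) (.leaf 514322557962)) (.node (.leaf 358629854743) (.leaf 1501628296201))) (.node (.node (.leaf 215285321990) (.leaf 1265941790214)) (.node (.leaf 344671301528) (.leaf 1182726975768)))) (.node (.node (.node (.node (.leaf 248571248006) (.leaf 1579474516098)) (.leaf 643708486536)) (.node (.leaf 640487150735) (.leaf 1673963902743))) (.node (.node (.leaf 538481578502) (.leaf 1345398778753)) (.node (.leaf 724239032980) (.leaf 912680698499))))))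
def dF_477 : BT := .node (.node (.node (.node (.node (.node (.node (.leaf 28991031168) (.leaf 806917376538)) (.leaf 848256142728)) (.node (.leaf 600758647042) (.leaf 841277053194))) (.node (.node (.node (.leaf 102542407057) (.leaf 1816771599373)) (.leaf 1160715072774)) (.node (.leaf 311385295376) (.leaf 1127966202370)))) (.node (.node (.node (.node (.leaf 132607148310) (.leaf 1017907481114)) (.leaf 1001264385799)) (.node (.leaf 184146766735) (.leaf 975494823298))) (.node (.node (.leaf 184683694100) (.leaf 599148087044)) (.node (.leaf 374199213064) (.leaf 406948442394))))) (.node (.node (.node (.node (.node (.leaf 125090952203) (.leaf 219043553306)) (.leaf 920733730952)) (.node (.leaf 503585035674) (.leaf 1481227062276))) (.node (.node (.leaf 341986852375) (.leaf 740882154884)) (.node (.leaf 562103978896) (.leaf 996969507846)))) (.node (.node (.node (.node (.leaf 232465141005) (.leaf 1252520142234)) (.leaf 692563733657)) (.node (.leaf 624381014406) (.leaf 1120449964570))) (.node (.node (.leaf 511638099863) (.leaf 1334661277834)) (.node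 (.leaf 624380980737) (.leaf 892816539545)))))) (.node (.node (.node (.node (.node (.node (.leaf 83214996481) (.leaf 624917905287)) (.leaf 885300242696)) (.node (.leaf 45634073880) (.leaf 1440961741441))) (.node (.node (.leaf 300647740043) (.leaf 713501729540)) (.node (.leaf 175019959057) (.leaf 1165010306696)))) (.node (.node (.node (.node (.leaf 46170945794) (.leaf 1401233296385)) (.leaf 609885605144)) (.node (.leaf 441307994899) (.leaf 1009317702026))) (.node (.node (.leaf 467614670854) (.leaf 1290637855622)) (.node (.leaf 163745664026) (.leaf 857383050883))))) (.node (.node (.node (.node (.node (.leaf 47781515034) (.leaf 426275929098)) (.leaf 960462187649)) (.node (.leaf 186294250778) (.leaf 937376975110))) (.node (.node (.leaf 380641566095) (.leaf 765041356294)) (.node (.leaf 753230069135) (.leaf 1560147104259)))) (.node (.node (.node (.node (.leaf 36507236370) (.leaf 1729798344346)) (.leaf 656593393538)) (.node (.leaf 657130152974) (.leaf 1089311484676))) (.node (.node (.leaf 558345838080) (.leaf 817117854344)) (.node (.leaf 812822654982)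 (.leaf 1650878267290))))))
def dF_478 : BT := .node dF_476 dF_477
def dF_479 : BT := .node (.node (.node (.node (.node (.node (.node (.leaf 16106127618) (.leaf 520228087322)) (.leaf 840740048661)) (.node (.leaf 255550695432) (.leaf 838055825028))) (.node (.node (.node (.leaf 93415600513) (.leaf 1467805307034)) (.leaf 1146756426754)) (.node (.leaf 687731801344) (.leaf 1732482841474)))) (.node (.node (.node (.node (.leaf 9126809750) (.leaf 505732451337)) (.leaf 992674448778)) (.node (.leaf 285615393299) (.leaf 1560147242263))) (.node (.node (.leaf 411780033162) (.leaf 406948249350)) (.node (.leaf 775778554506) (.leaf 407485351962))))) (.node (.node (.node (.node (.node (.leaf 104152981914) (.leaf 298500298265)) (.leaf 913217537288)) (.node (.leaf 278636069779) (.leaf 1471563500166))) (.node (.node (.leaf 144955225744) (.leaf 1213865425926)) (.node (.leaf 449897931537) (.leaf 1181116227329)))) (.node (.node (.node (.node (.leaf 223875183234) (.leaf 1131187259930)) (.leaf 1070520747778)) (.node (.leaf 613106727703) (.leaf 1047972416904)))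 (.node (.node (.leaf 500900679315) (.leaf 1319628991241)) (.node (.leaf 374735985941) (.leaf 850403727369)))))) (.node (.node (.node (.node (.node (.node (.leaf 70330092808) (.leaf 855772437785)) (.leaf 874562823424)) (.node (.leaf 87509969178) (.leaf 859530671622))) (.node (.node (.leaf 117574798859) (.leaf 693100631937)) (.node (.leaf 272193698842) (.leaf 1778653608326)))) (.node (.node (.node (.node (.leaf 22011710746) (.leaf 390305341447)) (.leaf 1035624133130)) (.node (.leaf 363461694103) (.leaf 998580280706))) (.node (.node (.leaf 198642345748) (.leaf 1280437371905)) (.node (.leaf 51539698714) (.leaf 965830965274))))) (.node (.node (.node (.node (.node (.leaf 163745637122) (.leaf 926102684698)) (.leaf 519154398602)) (.node (.leaf 118648499853) (.leaf 1511291896583))) (.node (.node (.leaf 315143313799) (.leaf 1277216080772)) (.node (.leaf 745176910465) (.leaf 1302449150726)))) (.node (.node (.node (.node (.leaf 8589944218) (.leaf 941671795595)) (.leaf 1114007297795)) (.node (.leaf 647466474255) (.leaf 1075889709444))) (.node (.node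 (.leaf 230317752072) (.leaf 812286013832)) (.node (.leaf 486942004352) (.leaf 784905556378))))))
def dF_480 : BT := .node (.node (.node (.node (.node (.node (.node (.leaf 42949676416) (.leaf 1324997842458)) (.leaf 858456783232)) (.node (.leaf 266824906899) (.leaf 1410360206337))) (.node (.node (.leaf 257161231618) (.leaf 1170378752898)) (.node (.leaf 710280385933) (.leaf 1756641894658)))) (.node (.node (.node (.node (.leaf 178778042754) (.leaf 740882270106)) (.leaf 1011464936960)) (.node (.leaf 486942034586) (.leaf 984621632264))) (.node (.node (.leaf 432181185943) (.leaf 1063541428633)) (.node (.leaf 792958426756) (.leaf 653908908166))))) (.node (.node (.node (.node (.node (.leaf 138512726924) (.leaf 185220508825)) (.leaf 927713056896)) (.node (.leaf 568009565210) (.leaf 1492501354112))) (.node (.node (.leaf 151397681290) (.leaf 1253057007375)) (.node (.leaf 725312682763) (.leaf 632971030938)))) (.node (.node (.node (.node (.leaf 237833830150) (.leaf 1269700005504)) (.leaf 1089848104453)) (.node (.leaf 278636153602) (.leaf 1536524893080)))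 (.node (.node (.leaf 223875295232) (.leaf 1337882631698)) (.node (.leaf 625991632660) (.leaf 692026790170)))))) (.node (.node (.node (.node (.node (.node (.leaf 93415551254) (.leaf 370977847556)) (.leaf 462782940057)) (.node (.leaf 157840085773) (.leaf 1448477929858))) (.node (.node (.leaf 309774589953) (.leaf 1212791679377)) (.node (.leaf 209379739655) (.leaf 1803886694421)))) (.node (.node (.node (.node (.leaf 52613399041) (.leaf 1714229157255)) (.leaf 1055488418567)) (.node (.leaf 515396198419) (.leaf 1637456524418))) (.node (.node (.leaf 208306027673) (.leaf 772557552152)) (.node (.leaf 361314305818) (.leaf 625454867482))))) (.node (.node (.node (.node (.node (.leaf 74088195975) (.leaf 1782411607194)) (.leaf 972273347978)) (.node (.leaf 53150232975) (.leaf 945430041226))) (.node (.node (.leaf 390842117015) (.leaf 1279900406042)) (.node (.leaf 761283039362) (.leaf 1784559152666)))) (.node (.node (.node (.node (.leaf 204547864850) (.leaf 1273994943002)) (.leaf 1130650410254)) (.node (.leaf 665720001668) (.leaf 1102196389764))) (.node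 (.node (.leaf 241055175312) (.leaf 1225139639065)) (.node (.leaf 408558960000) (.leaf 285078608538))))))
def dF_481 : BT := .node dF_479 dF_480
def dF_482 : BT := .node dF_478 dF_481
def dF_483 : BT := .node (.node (.node (.node (.node (.node (.node (.leaf 536873096) (.leaf 1200443513754)) (.leaf 838055648006)) (.node (.leaf 248034501890) (.leaf 1385127168000))) (.node (.node (.node (.leaf 257161209750) (.leaf 1343788213145)) (.leaf 1141924610176)) (.node (.leaf 682363091863) (.leaf 1113470683402)))) (.node (.node (.node (.node (.leaf 17716742286) (.leaf 647466474243)) (.leaf 987305797377)) (.node (.leaf 151934504335) (.leaf 1554241554946))) (.node (.node (.leaf 179851852180) (.leaf 879394690571)) (.node (.leaf 772557329156) (.leaf 1411970835209))))) (.node (.node (.node (.node (.node (.leaf 28454184975) (.leaf 157840085785)) (.leaf 485868392196)) (.node (.leaf 144955180813) (.leaf 896037901570))) (.node (.node (.leaf 134754677272) (.leaf 1228897810576)) (.node (.leaf 277025456657) (.leaf 1642825106586)))) (.node (.node (.node (.node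 (.leaf 53150272281) (.leaf 1124744782106)) (.leaf 1066762756503)) (.node (.leaf 607201065736) (.leaf 1656784029463))) (.node (.node (.leaf 494995065745) (.leaf 925565765640)) (.node (.leaf 293131675290) (.leaf 694711144218)))))) (.node (.node (.node (.node (.node (.node (.leaf 8589949586) (.leaf 224412219290)) (.leaf 445603064856)) (.node (.leaf 118111671065) (.leaf 1424855740033))) (.node (.node (.leaf 117037926922) (.leaf 692563759232)) (.node (.leaf 721017716992) (.leaf 1340567074566)))) (.node (.node (.node (.node (.leaf 192199798279) (.leaf 1134945378585)) (.leaf 1032402907648)) (.node (.leaf 352724273293) (.leaf 1606318005896))) (.node (.node (.leaf 447213574804) (.leaf 833223858457)) (.node (.leaf 805306560013) (.leaf 627602440346))))) (.node (.node (.node (.node (.node (.leaf 37044130566) (.leaf 505732586370)) (.leaf 515396300682)) (.node (.leaf 375809728015) (.leaf 925028940568))) (.node (.node (.leaf 214748452358) (.leaf 758062030856)) (.node (.leaf 740882035223) (.leaf 1815160908698)))) (.node (.node (.node (.node (.leaf 251792484237)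 (.leaf 1066762707210)) (.leaf 1107564845828)) (.node (.leaf 435939275014) (.leaf 1679332472070))) (.node (.node (.leaf 544387228685) (.leaf 809601657606)) (.node (.leaf 462782836500) (.leaf 311385408922))))))
def dF_484 : BT := .node (.node (.node (.node (.node (.node (.node (.leaf 36507223684) (.leaf 487478844546)) (.leaf 427886320392)) (.node (.leaf 112206047373) (.leaf 841813925002))) (.node (.node (.node (.leaf 110595471752) (.leaf 1817845267720)) (.leaf 1165546911621)) (.node (.leaf 319438360600) (.leaf 1750199442566)))) (.node (.node (.node (.node (.leaf 133144019342) (.leaf 905701461127)) (.leaf 1007169966088)) (.node (.leaf 452045420058) (.leaf 979252921112))) (.node (.node (.leaf 425738678408) (.leaf 266824988570)) (.node (.leaf 788663557769) (.leaf 562104082842))))) (.node (.node (.node (.node (.node (.leaf 132070264853) (.leaf 214748414855)) (.leaf 496605813785)) (.node (.leaf 554050914330) (.leaf 1487132642568))) (.node (.node (.leaf 347355515912) (.leaf 746787736450)) (.node (.leaf 721554677773) (.leaf 784368628250)))) (.node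 (.node (.node (.node (.leaf 234612604040) (.leaf 1251983147656)) (.leaf 633507934722)) (.node (.leaf 627602162944) (.leaf 663035800579))) (.node (.node (.leaf 222801551760) (.leaf 832150112003)) (.node (.leaf 755914424341) (.leaf 264677406851)))))) (.node (.node (.node (.node (.node (.node (.leaf 84288754319) (.leaf 515933036032)) (.leaf 892279565956)) (.node (.leaf 248034419098) (.leaf 1445256839553))) (.node (.node (.leaf 120796027929) (.leaf 822486449926)) (.node (.leaf 358629926273) (.leaf 1797980995842)))) (.node (.node (.node (.node (.leaf 204010993814) (.leaf 1206349131786)) (.leaf 1049582779658)) (.node (.leaf 479962679177) (.leaf 1012002058118))) (.node (.node (.leaf 472446452352) (.leaf 1296006690575)) (.node (.leaf 53150272026) (.leaf 338765580186))))) (.node (.node (.node (.node (.node (.leaf 6979322119) (.leaf 184146753163)) (.leaf 965830970625)) (.node (.leaf 259308700186) (.leaf 1526324366739))) (.node (.node (.leaf 386010225539) (.leaf 987842594970)) (.node (.leaf 756988071051) (.leaf 1788317351808)))) (.node (.node (.node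 (.node (.leaf 230317674770) (.leaf 1230508506501)) (.leaf 1127429184019)) (.node (.leaf 660351292170) (.leaf 1097901421064))) (.node (.node (.leaf 563177644040) (.leaf 863288753800)) (.node (.leaf 817117722897) (.leaf 389768513818))))))
def dF_485 : BT := .node dF_483 dF_484
def dF_486 : BT := .node (.node (.node (.node (.node (.node (.node (.leaf 1610618124) (.leaf 1280437430425)) (.leaf 843424304139)) (.node (.leaf 595926811649) (.leaf 839129567878))) (.node (.node (.node (.leaf 93952471952) (.leaf 1714229157251)) (.leaf 751619551618)) (.node (.leaf 692026679558) (.leaf 1739998894214)))) (.node (.node (.node (.node (.leaf 66035137806) (.leaf 817117776129)) (.leaf 563177824130)) (.node (.leaf 323733237135) (.leaf 969052370054))) (.node (.node (.leaf 184146822164) (.leaf 866509940504)) (.node (.leaf 782221007876) (.leaf 879394891546))))) (.node (.node (.node (.node (.node (.leaf 28991057675) (.leaf 996969580442)) (.leaf 487479006594)) (.node (.leaf 436476155674) (.leaf 905164709382))) (.node (.node (.leaf 338228710144) (.leaf 1237487747215))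 (.node (.leaf 710280385927) (.leaf 313532840730)))) (.node (.node (.node (.node (.leaf 229243932695) (.leaf 792958605451)) (.leaf 1075352693137)) (.node (.leaf 272730571160) (.leaf 1050119901830))) (.node (.node (.leaf 219043452801) (.leaf 793495524481)) (.node (.leaf 223338352661) (.leaf 525596794266)))))) (.node (.node (.node (.node (.node (.node (.leaf 13958662296) (.leaf 117574799258)) (.leaf 462246065026)) (.node (.leaf 112742958361) (.leaf 1437203637128))) (.node (.node (.leaf 293668458771) (.leaf 710817373828)) (.node (.leaf 112206085914) (.leaf 1524176944650)))) (.node (.node (.node (.node (.leaf 115964135704) (.leaf 603979952138)) (.leaf 1040456075535)) (.node (.leaf 413927571859) (.leaf 1619202909962))) (.node (.node (.leaf 205621669401) (.leaf 1287416629892)) (.node (.leaf 44560330650) (.leaf 620623118362))))) (.node (.node (.node (.node (.node (.leaf 38117875609) (.leaf 816043980803)) (.leaf 955093580183)) (.node (.leaf 180388724505) (.leaf 1512902591744))) (.node (.node (.leaf 158377008776) (.leaf 1282047919496)) (.node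 (.leaf 351650625802) (.leaf 1235340364162)))) (.node (.node (.node (.node (.leaf 79993773075) (.leaf 1021128712835)) (.leaf 1119376007304)) (.node (.leaf 288836706328) (.leaf 1690069915289))) (.node (.node (.leaf 551366530448) (.leaf 1363115570577)) (.node (.leaf 807990815618) (.leaf 144955193355))))))
def dF_487 : BT := .node (.node (.node (.node (.node (.node (.node (.leaf 7516204433) (.leaf 762356880410)) (.leaf 862214790531)) (.node (.leaf 272193617303) (.leaf 849866991240))) (.node (.node (.leaf 276488585473) (.leaf 684510693145)) (.node (.leaf 331786393738) (.leaf 1137093011974)))) (.node (.node (.node (.node (.leaf 181999267076) (.leaf 905164573465)) (.leaf 574988989578)) (.node (.leaf 519154301594) (.leaf 988916600710))) (.node (.node (.leaf 234612692354) (.leaf 1224602804376)) (.node (.leaf 375809828234) (.leaf 1056562146457))))) (.node (.node (.node (.node (.node (.leaf 143881422721) (.leaf 807454044165)) (.leaf 934155508098)) (.node (.leaf 340913110413) (.leaf 1496796321538))) (.node (.node (.leaf 357019193735) (.leaf 1258425717633))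 (.node (.leaf 340376332440) (.leaf 916975896584)))) (.node (.node (.node (.node (.leaf 65498309652) (.leaf 1746978332186)) (.leaf 639950388618)) (.node (.leaf 635118355461) (.leaf 1671279542297))) (.node (.node (.leaf 224412167816) (.leaf 1341640601482)) (.node (.leaf 520764966529) (.leaf 788663583258)))))) (.node (.node (.node (.node (.node (.node (.leaf 17179892744) (.leaf 419296382618)) (.leaf 474594101254)) (.node (.leaf 28991036173) (.leaf 888521706120))) (.node (.node (.leaf 315680170255) (.leaf 885300424452)) (.node (.leaf 198105413777) (.leaf 1182190180104)))) (.node (.node (.node (.node (.leaf 213674635652) (.leaf 855772449797)) (.leaf 1058172752128)) (.node (.leaf 529891716493) (.leaf 1646046461952))) (.node (.node (.leaf 483183935891) (.leaf 797790486408)) (.node (.leaf 175019959061) (.leaf 959925395354))))) (.node (.node (.node (.node (.node (.leaf 73551319962) (.leaf 414464470663)) (.leaf 531502435713)) (.node (.leaf 554050913293) (.leaf 1538672260619))) (.node (.node (.leaf 175020011792) (.leaf 197568644506)) (.node (.leaf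 764504264962) (.leaf 1421634580378)))) (.node (.node (.node (.node (.leaf 253403098511) (.leaf 753766847243)) (.leaf 1134945378573)) (.node (.leaf 298500386946) (.leaf 1406065327232))) (.node (.node (.leaf 242128918923) (.leaf 1377074086410)) (.node (.leaf 408558961286) (.leaf 721554718852))))))
def dF_488 : BT := .node dF_486 dF_487
def dF_489 : BT := .node dF_485 dF_488
def dF_490 : BT := .node dF_482 dF_489
def dF_491 : BT := .node (.node (.node (.node (.node (.node (.node (.leaf 4294968322) (.leaf 691490097050)) (.leaf 835908124166)) (.node (.leaf 246960759554) (.leaf 831613372546))) (.node (.node (.node (.leaf 256087466767) (.leaf 1508607678726)) (.leaf 1139240346903)) (.node (.leaf 306016581890) (.leaf 1351304496519)))) (.node (.node (.node (.node (.leaf 11811185434) (.leaf 1727650864794)) (.leaf 795106055552)) (.node (.leaf 146028922899) (.leaf 958851818632))) (.node (.node (.leaf 179314980628) (.leaf 440234318616)) (.node (.leaf 769873071375) (.leaf 1410360206746))))) (.node (.node (.node (.node (.node (.leaf 20401120532) (.leaf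 496605680264)) (.leaf 906775186579)) (.node (.leaf 180925540378) (.leaf 1463510360960))) (.node (.node (.leaf 324806934403) (.leaf 728534120344)) (.node (.leaf 285615393297) (.leaf 1684164334746)))) (.node (.node (.node (.node (.leaf 186831088016) (.leaf 1579474521477)) (.leaf 1065689014413)) (.node (.leaf 606127402504) (.leaf 1654636445962))) (.node (.node (.leaf 492847613459) (.leaf 1312649598465)) (.node (.leaf 627602264986) (.leaf 682363094298)))))) (.node (.node (.node (.node (.node (.node (.leaf 60129550862) (.leaf 1446330483866)) (.leaf 869194150424)) (.node (.leaf 37044101773) (.leaf 855235701642))) (.node (.node (.leaf 284004778893) (.leaf 690416275224)) (.node (.leaf 389231582596) (.leaf 1773284895618)))) (.node (.node (.node (.node (.leaf 190052337687) (.leaf 1104880490906)) (.leaf 599685054212)) (.node (.leaf 340376239383) (.leaf 1604707393664))) (.node (.node (.leaf 444529163521) (.leaf 752693198080)) (.node (.leaf 385473506329) (.leaf 198105572762))))) (.node (.node (.node (.node (.node (.leaf 153545117324) (.leaf 1115081296794))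 (.leaf 514859429256)) (.node (.leaf 374199082118) (.leaf 922881456153))) (.node (.node (.leaf 153545168025) (.leaf 1269163016200)) (.node (.leaf 739271422102) (.leaf 1596654493722)))) (.node (.node (.node (.node (.leaf 250718736770) (.leaf 809601595009)) (.leaf 1104880600333)) (.node (.leaf 643171421442) (.leaf 1676648119193))) (.node (.node (.leaf 542776614797) (.leaf 1347546181770)) (.node (.leaf 769336200340) (.leaf 1041529976346))))))
def dF_492 : BT := .node (.node (.node (.node (.node (.node (.node (.leaf 31675391115) (.leaf 6442458266)) (.leaf 427349448966)) (.node (.leaf 252329355418) (.leaf 1403380764676))) (.node (.node (.node (.leaf 110058600336) (.leaf 1817308470415)) (.leaf 1163936298242)) (.node (.leaf 316754005400) (.leaf 1738388429568)))) (.node (.node (.node (.node (.leaf 64961404814) (.leaf 1390495866503)) (.leaf 1003948844813)) (.node (.leaf 185757379853) (.leaf 1579474599697))) (.node (.node (.leaf 423591250451) (.leaf 1057099073285)) (.node (.leaf 788126686735) (.leaf 1377610961818))))) (.node (.node (.node (.node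 (.node (.leaf 30064801804) (.leaf 370977980424)) (.leaf 774704945792)) (.node (.leaf 8053065623) (.leaf 1483374560393))) (.node (.node (.leaf 146565841290) (.leaf 1245540694272)) (.node (.leaf 374199114896) (.leaf 514859367832)))) (.node (.node (.node (.node (.leaf 60666468612) (.leaf 1127429096064)) (.leaf 630823579526)) (.node (.leaf 625454761613) (.leaf 1119912953351))) (.node (.node (.leaf 514322387200) (.leaf 845035026056)) (.node (.leaf 461709134083) (.leaf 450971715075)))))) (.node (.node (.node (.node (.node (.node (.leaf 86973098124) (.leaf 690952952969)) (.leaf 889595210507)) (.node (.leaf 237296999578) (.leaf 870268092416))) (.node (.node (.leaf 302795265293) (.leaf 716186084610)) (.node (.leaf 28454185626) (.leaf 1170379016454)))) (.node (.node (.node (.node (.leaf 46170946712) (.leaf 1115081084295)) (.leaf 1047435396998)) (.node (.leaf 462245965463) (.leaf 1628866588170))) (.node (.node (.leaf 204547929476) (.leaf 768799454346)) (.node (.leaf 44023425301) (.leaf 200252955397))))) (.node (.node (.node (.node (.node (.leaf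 120259112858) (.leaf 241055110666)) (.leaf 963146541314)) (.node (.leaf 436476097674) (.leaf 1523103015814))) (.node (.node (.leaf 316753929222) (.leaf 1285805966618)) (.node (.leaf 355945594754) (.leaf 673236286346)))) (.node (.node (.node (.node (.leaf 65498267026) (.leaf 1762010549146)) (.leaf 1125818570897)) (.node (.leaf 293131675014) (.leaf 1091458969368))) (.node (.node (.leaf 237833947672) (.leaf 859530656768)) (.node (.leaf 816043980812) (.leaf 173946269082))))))
def dF_493 : BT := .node dF_491 dF_492
def dF_494 : BT := .node (.node (.node (.node (.node (.node (.node (.leaf 1073746189) (.leaf 375809704579)) (.leaf 841813790737)) (.node (.leaf 259308792198) (.leaf 1390495993619))) (.node (.node (.node (.leaf 93415600776) (.leaf 1138703437960)) (.leaf 666793947016)) (.node (.leaf 690416157453) (.leaf 1124744974721)))) (.node (.node (.node (.node (.leaf 86973129347) (.leaf 905164709786)) (.leaf 561567211140)) (.node (.leaf 296352814099) (.leaf 1563905197824))) (.node (.node (.leaf 184683692418) (.leaf 1218697181337)) (.node (.leaf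 778999780488) (.leaf 1569810681882))))) (.node (.node (.node (.node (.node (.leaf 111132305043) (.leaf 311385406618)) (.leaf 914828150148)) (.node (.leaf 403726968714) (.leaf 904090967178))) (.node (.node (.leaf 336081225608) (.leaf 738734669446)) (.node (.leaf 361851080976) (.leaf 699006051610)))) (.node (.node (.node (.node (.leaf 54760887321) (.leaf 658740766091)) (.leaf 1073742040834)) (.node (.leaf 272730570112) (.leaf 1666447708183))) (.node (.node (.leaf 215822226585) (.leaf 790274298120)) (.node (.leaf 264677422741) (.leaf 426275701256)))))) (.node (.node (.node (.node (.node (.node (.leaf 73551318157) (.leaf 30064802330)) (.leaf 877784048648)) (.node (.leaf 110595434253) (.leaf 860067543046))) (.node (.node (.leaf 291520957057) (.leaf 700079954690)) (.node (.leaf 146028969754) (.leaf 1150514789273)))) (.node (.node (.node (.node (.leaf 13958645130) (.leaf 1104343875098)) (.leaf 606127507224)) (.node (.leaf 514859327373) (.leaf 1001801507096))) (.node (.node (.leaf 199179217418) (.leaf 1214939091458)) (.node (.leaf 156766381978)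 (.leaf 1733556331162))))) (.node (.node (.node (.node (.node (.leaf 168040628864) (.leaf 710817232135)) (.leaf 952945995392)) (.node (.leaf 133144063641) (.leaf 1513976193282))) (.node (.node (.leaf 157840137113) (.leaf 911607113731)) (.node (.leaf 746250660610) (.leaf 1654636551561)))) (.node (.node (.node (.node (.leaf 86973129882) (.leaf 1253056979723)) (.leaf 1116154780938)) (.node (.leaf 649613871622) (.leaf 1094680191874))) (.node (.node (.leaf 550292740232) (.leaf 1361504827648)) (.node (.leaf 806917173135) (.leaf 795642881304))))))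
def dF_495 : BT := .node (.node (.node (.node (.node (.node (.node (.leaf 9126816386) (.leaf 1184874323482)) (.leaf 436476256520)) (.node (.leaf 267898648975) (.leaf 848256377862))) (.node (.node (.leaf 273804192392) (.leaf 1172526234504)) (.node (.leaf 331249522584) (.leaf 1135482398594)))) (.node (.node (.node (.node (.leaf 179851766024) (.leaf 1253056929417)) (.leaf 1014686265623)) (.node (.leaf 214748377482) (.leaf 985695374488))) (.node (.node (.leaf 434328648845) (.leaf 426275605765)) (.node (.leaf 375272956952) (.leaf 278099234568))))) (.node (.node (.node (.node (.node (.leaf 141197082119) (.leaf 530428553858)) (.leaf 506269491976)) (.node (.leaf 579820723354) (.leaf 914828390280))) (.node (.node (.leaf 355408581251) (.leaf 1256278114049)) (.node (.leaf 727460166914) (.leaf 1233729780122)))) (.node (.node (.node (.node (.leaf 65498308737) (.leaf 1579474500870)) (.leaf 1094143125889)) (.node (.leaf 277562412418) (.leaf 1547262333451))) (.node (.node (.leaf 527207290379) (.leaf 1338956373783)) (.node (.leaf 562103978900) (.leaf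 54224016410)))))) (.node (.node (.node (.node (.node (.node (.leaf 95563026326) (.leaf 1268089348506)) (.leaf 898722120975)) (.node (.leaf 374735987226) (.leaf 879931770634))) (.node (.node (.leaf 127775351961) (.leaf 829465848832)) (.node (.leaf 118648543002) (.leaf 1180579566465)))) (.node (.node (.node (.node (.leaf 210453447575) (.leaf 1563368428314)) (.leaf 620623026456)) (.node (.leaf 520228037783) (.leaf 1022739478914))) (.node (.node (.leaf 480499516807) (.leaf 1302985888130)) (.node (.leaf 374736085146) (.leaf 1607928771482))))) (.node (.node (.node (.node (.node (.leaf 81067509274) (.leaf 414464442905)) (.leaf 530428693258)) (.node (.leaf 505732519699) (.leaf 947577525770))) (.node (.node (.leaf 393526458511) (.leaf 602369344772)) (.node (.leaf 762356781824) (.leaf 1785633041794)))) (.node (.node (.node (.node (.leaf 117037901455) (.leaf 1752347074585)) (.leaf 1132797781130)) (.node (.leaf 296889773588) (.leaf 1102733261592))) (.node (.node (.leaf 573378192002) (.leaf 826781532416)) (.node (.leaf 824633917313) (.leaf 153008297114))))))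
def dF_496 : BT := .node dF_494 dF_495
def dF_497 : BT := .node dF_493 dF_496
def dF_498 : BT := .node (.node (.node (.node (.node (.node (.node (.leaf 10737419147) (.leaf 8053077786)) (.leaf 839129435541)) (.node (.leaf 267898725892) (.leaf 836445211786))) (.node (.node (.node (.leaf 258234952847) (.leaf 1546188410906)) (.leaf 1144072186263)) (.node (.leaf 685584229249) (.leaf 1730335215621)))) (.node (.node (.node (.node (.leaf 79993796363) (.leaf 859530671258)) (.leaf 554587888024)) (.node (.leaf 164282591385) (.leaf 1556926014848))) (.node (.node (.leaf 180388723844) (.leaf 198642345098)) (.node (.leaf 362924921112) (.leaf 1504849303066))))) (.node (.node (.node (.node (.node (.leaf 114890383106) (.leaf 408558850443)) (.leaf 911606925441)) (.node (.leaf 276488585619) (.leaf 898722256900))) (.node (.node (.leaf 331786258184) (.leaf 1230508423701)) (.node (.leaf 403190151057) (.leaf 1181652963994)))) (.node (.node (.node (.node (.leaf 53687143826) (.leaf 1750736232474)) (.leaf 1036161114888)) (.node (.leaf 268435601672) (.leaf 1660005108230)))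 (.node (.node (.leaf 214748483728) (.leaf 1316944537346)) (.node (.leaf 352724273301) (.leaf 1461363053082)))))) (.node (.node (.node (.node (.node (.node (.leaf 66571995401) (.leaf 1101122267290)) (.leaf 872952297986)) (.node (.leaf 6442452493) (.leaf 1429150572426))) (.node (.node (.leaf 117037927577) (.leaf 691490018328)) (.node (.leaf 64961437082) (.leaf 1146756691457)))) (.node (.node (.node (.node (.leaf 105226745090) (.leaf 712964776074)) (.leaf 1033476752002)) (.node (.leaf 361851045894) (.leaf 1609539233026))) (.node (.node (.leaf 450434802433) (.leaf 1058709589512)) (.node (.leaf 729607669892) (.leaf 941671817735))))) (.node (.node (.node (.node (.node (.leaf 160524412169) (.leaf 1068910186010)) (.leaf 947577385613)) (.node (.leaf 117037886739) (.leaf 1508607622415))) (.node (.node (.leaf 368830403223) (.leaf 758598902404)) (.node (.leaf 743566326150) (.leaf 1197222534920)))) (.node (.node (.node (.node (.leaf 78383213458) (.leaf 769336197771)) (.leaf 1110249310208)) (.node (.leaf 404800821508) (.leaf 1681480092162))) (.node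 (.node (.leaf 546534713743) (.leaf 1355599375616)) (.node (.leaf 744103262208) (.leaf 518080721690))))))
def dF_499 : BT := .node (.node (.node (.node (.node (.node (.node (.leaf 6979331216) (.leaf 947577343878)) (.leaf 855772437783)) (.node (.leaf 377957212314) (.leaf 842350796426))) (.node (.node (.leaf 270583003399) (.leaf 1167694473606)) (.node (.leaf 707595939463) (.leaf 1752347074583)))) (.node (.node (.node (.node (.leaf 175556823435) (.leaf 1133871785242)) (.leaf 567472794760)) (.node (.leaf 200252961049) (.leaf 1588601407233))) (.node (.node (.leaf 185757438232) (.leaf 724776021274)) (.node (.leaf 790274170897) (.leaf 526133860250))))) (.node (.node (.node (.node (.node (.leaf 135291477143) (.leaf 428959929346)) (.leaf 925565672977)) (.node (.leaf 15) (.leaf 1490353963910))) (.node (.node (.leaf 149250197017) (.leaf 1251983265297)) (.node (.leaf 723165215494) (.leaf 787589755546)))) (.node (.node (.node (.node (.leaf 60666469267) (.leaf 1133871596678)) (.leaf 1087163747848)) (.node (.leaf 629212858899) (.leaf 964220369690)))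 (.node (.node (.leaf 520227966984) (.leaf 845035026563)) (.node (.leaf 653908926740) (.leaf 858993724314)))))) (.node (.node (.node (.node (.node (.node (.leaf 16106149138) (.leaf 1112396734465)) (.leaf 893890281619)) (.node (.leaf 146565793935) (.leaf 872952447750))) (.node (.node (.leaf 127238479376) (.leaf 716722956170)) (.node (.leaf 184683693978) (.leaf 1175210855684)))) (.node (.node (.node (.node (.leaf 206158477965) (.leaf 855772403842)) (.leaf 616864928768)) (.node (.leaf 496605680256) (.leaf 1014686413448))) (.node (.node (.leaf 208306026888) (.leaf 772020680842)) (.node (.leaf 117574799130) (.leaf 1372242282886))))) (.node (.node (.node (.node (.node (.leaf 45097165206) (.leaf 934692442522)) (.leaf 526133724441)) (.node (.leaf 482646999818) (.leaf 1528471720320))) (.node (.node (.leaf 388694624019) (.leaf 784905491979)) (.node (.leaf 758598779539) (.leaf 970125944068)))) (.node (.node (.node (.node (.leaf 209916576786) (.leaf 1760400039689)) (.leaf 1128502925440)) (.node (.leaf 663035646986) (.leaf 1340030203014))) (.node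 (.node (.leaf 566398870785) (.leaf 828391965572)) (.node (.leaf 819801979652) (.leaf 1371705273242))))))
def dF_500 : BT := .node dF_498 dF_499
def dF_501 : BT := .node (.node (.node (.node (.node (.node (.node (.leaf 25769809924) (.leaf 761819972227)) (.leaf 846108658954)) (.node (.leaf 598074279942) (.leaf 839666439302))) (.node (.node (.node (.leaf 262529928463) (.leaf 1714229230744)) (.leaf 671625786753)) (.node (.leaf 310311552792) (.leaf 1743756991619)))) (.node (.node (.node (.node (.leaf 53687113740) (.leaf 574988884122)) (.leaf 575525855616)) (.node (.leaf 336618142095) (.leaf 972810467586))) (.node (.node (.leaf 418222521623) (.leaf 784368658691)) (.node (.leaf 373662341785) (.leaf 1375463538202))))) (.node (.node (.node (.node (.node (.leaf 28991058322) (.leaf 921807544963)) (.leaf 918049375754)) (.node (.leaf 7516194583) (.leaf 1478005836676))) (.node (.node (.leaf 151397678212) (.leaf 739808412422)) (.node (.leaf 408558861456) (.leaf 786516014234)))) (.node (.node (.node (.node (.leaf 230854545804) (.leaf 1130650297478))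 (.leaf 629749836680)) (.node (.leaf 621696582528) (.leaf 514859428378))) (.node (.node (.leaf 219043453588) (.leaf 1330366309387)) (.node (.leaf 276488585621) (.leaf 197568542745)))))) (.node (.node (.node (.node (.node (.node (.leaf 15032404616) (.leaf 52613400090)) (.leaf 455803614721)) (.node (.leaf 405874452376) (.leaf 865436253446))) (.node (.node (.leaf 118648542208) (.leaf 1203127883786)) (.node (.leaf 264140631962) (.leaf 1789391027073)))) (.node (.node (.node (.node (.leaf 194884151961) (.leaf 1104343678856)) (.leaf 606664379032)) (.node (.leaf 426812476819) (.leaf 1622424137474))) (.node (.node (.leaf 464930258057) (.leaf 1289027366656)) (.node (.leaf 28991058458) (.leaf 515933204890))))) (.node (.node (.node (.node (.node (.leaf 174483056774) (.leaf 352187442309)) (.leaf 958314702852)) (.node (.leaf 199716028314) (.leaf 1518808160134))) (.node (.node (.leaf 379030952983) (.leaf 1283658532362)) (.node (.leaf 352724368256) (.leaf 891206061466)))) (.node (.node (.node (.node (.leaf 94489333146) (.leaf 1543504099738)) (.leaf 1121523575816))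 (.node (.leaf 654445769216) (.leaf 1297617397769))) (.node (.node (.leaf 554587708546) (.leaf 816044111641)) (.node (.leaf 809601528337) (.leaf 603443048985))))))
def dF_502 : BT := .node (.node (.node (.node (.node (.node (.node (.leaf 8053076358) (.leaf 713501729946)) (.leaf 459561706880)) (.node (.leaf 504658777754) (.leaf 1373316130690))) (.node (.node (.leaf 112742958360) (.leaf 1178431899777)) (.node (.leaf 331786394137) (.leaf 1766305571978)))) (.node (.node (.node (.node (.leaf 44560329864) (.leaf 758598779545)) (.leaf 1022202353926)) (.node (.leaf 223875223693) (.leaf 990527213721))) (.node (.node (.leaf 193810503569) (.leaf 797253562756)) (.node (.leaf 798327236495) (.leaf 1424318879258))))) (.node (.node (.node (.node (.node (.leaf 147102640267) (.leaf 1347546133018)) (.leaf 513785686273)) (.node (.leaf 213674659226) (.leaf 1309965382920))) (.node (.node (.leaf 152471424788) (.leaf 752693319426)) (.node (.leaf 341450074881) (.leaf 1195611708041)))) (.node (.node (.node (.node (.leaf 246960677004) (.leaf 1228897853082)) (.leaf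 1101122393738)) (.node (.leaf 603979927936) (.leaf 1672890118016))) (.node (.node (.leaf 224949039624) (.leaf 1343788085256)) (.node (.leaf 733365840660) (.leaf 621159898010)))))) (.node (.node (.node (.node (.node (.node (.leaf 102005478406) (.leaf 53687144090)) (.leaf 904090831375)) (.node (.leaf 293131587855) (.leaf 1180042611970))) (.node (.node (.leaf 317827619220) (.leaf 724776022410)) (.node (.leaf 214748483738) (.leaf 1813550286475)))) (.node (.node (.node (.node (.leaf 215285286925) (.leaf 1234803292422)) (.leaf 1059783328394)) (.node (.leaf 599148080654) (.leaf 1648730816647))) (.node (.node (.leaf 209916642561) (.leaf 781684359681)) (.node (.leaf 185220508821) (.leaf 1385664032265))))) (.node (.node (.node (.node (.node (.leaf 31138520207) (.leaf 994822177434)) (.leaf 979789648015)) (.node (.leaf 562103978899) (.leaf 1542967228554))) (.node (.node (.leaf 178778108936) (.leaf 197568561539)) (.node (.leaf 766651749504) (.leaf 1119376046090)))) (.node (.node (.node (.node (.leaf 253939969559) (.leaf 1328218952968)) (.leaf 1136019007237))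 (.node (.leaf 673236194694) (.leaf 1105417617286))) (.node (.node (.leaf 248571370777) (.leaf 827855275288)) (.node (.leaf 409095832840) (.leaf 1636382790298))))))
def dF_503 : BT := .node dF_501 dF_502
def dF_504 : BT := .node dF_500 dF_503
def dF_505 : BT := .node dF_497 dF_504
def dF_506 : BT := .node dF_490 dF_505
def dF_507 : BT := .node dF_475 dF_506
def dF_508 : BT := .node dF_444 dF_507
def dF_509 : BT := .node dF_381 dF_508
def dF_510 : BT := .node dF_254 dF_509
def dF : BT := dF_510
def dP_0 : BT := .node (.node (.node (.node (.node (.node (.node (.leaf 0) (.leaf 152710)) (.node (.leaf 55424) (.leaf 246278))) (.node (.node (.leaf 26776) (.leaf 195590)) (.leaf 97281))) (.node (.node (.node (.leaf 7321) (.leaf 176152)) (.node (.leaf 73860) (.leaf 276104))) (.node (.node (.leaf 43136) (.leaf 221064)) (.leaf 125064)))) (.node (.node (.node (.node (.leaf 2194) (.leaf 162049)) (.node (.leaf 65032) (.leaf 263560))) (.node (.node (.leaf 34840) (.leaf 207488)) (.leaf 110232))) (.node (.node (.node (.leaf 11144) (.leaf 185354)) (.leaf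 84868)) (.node (.node (.leaf 49816) (.leaf 232856)) (.leaf 142984))))) (.node (.node (.node (.node (.node (.leaf 1556) (.leaf 156930)) (.node (.leaf 58008) (.leaf 256512))) (.node (.node (.leaf 30464) (.leaf 201496)) (.leaf 104066))) (.node (.node (.node (.leaf 9228) (.leaf 180744)) (.leaf 80138)) (.node (.node (.leaf 47242) (.leaf 227720)) (.leaf 133898)))) (.node (.node (.node (.node (.leaf 4235) (.leaf 169496)) (.node (.leaf 68888) (.leaf 269578))) (.node (.node (.leaf 37784) (.leaf 215938)) (.leaf 120580))) (.node (.node (.node (.leaf 15616) (.leaf 192386)) (.leaf 89354)) (.node (.node (.leaf 53128) (.leaf 238210)) (.leaf 148872)))))) (.node (.node (.node (.node (.node (.node (.leaf 262) (.leaf 154904)) (.node (.leaf 57474) (.leaf 249994))) (.node (.node (.leaf 28057) (.leaf 199832)) (.leaf 100866))) (.node (.node (.node (.leaf 8720) (.leaf 178712)) (.node (.leaf 76184) (.leaf 280586))) (.node (.node (.leaf 44304) (.leaf 224650)) (.leaf 127368)))) (.node (.node (.node (.node (.leaf 3723) (.leaf 164742)) (.node (.leaf 66196) (.leaf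 267656))) (.node (.node (.leaf 36377) (.leaf 212868)) (.leaf 115848))) (.node (.node (.node (.leaf 12929) (.leaf 188420)) (.leaf 86538)) (.node (.node (.leaf 51208) (.leaf 236170)) (.leaf 146306))))) (.node (.node (.node (.node (.node (.leaf 1816) (.leaf 159000)) (.node (.leaf 62996) (.leaf 261126))) (.node (.node (.leaf 31896) (.leaf 204420)) (.leaf 107400))) (.node (.node (.node (.leaf 10648) (.leaf 182920)) (.leaf 82304)) (.node (.node (.leaf 47760) (.leaf 230534)) (.leaf 135556)))) (.node (.node (.node (.node (.leaf 6926) (.leaf 172682)) (.node (.leaf 70916) (.leaf 271622))) (.node (.node (.leaf 41738) (.leaf 218368)) (.leaf 122904))) (.node (.node (.node (.leaf 20998) (.leaf 193664)) (.leaf 93057)) (.node (.node (.leaf 53524) (.leaf 241288)) (.leaf 150408))))))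
def dP_1 : BT := .node (.node (.node (.node (.node (.node (.node (.leaf 134) (.leaf 154376)) (.node (.leaf 56576) (.leaf 248072))) (.node (.node (.leaf 27014) (.leaf 198168)) (.leaf 98698))) (.node (.node (.node (.leaf 8580) (.leaf 177176)) (.node (.leaf 74120) (.leaf 278662))) (.node (.node (.leaf 44052) (.leaf 223364)) (.leaf 126337)))) (.node (.node (.node (.node (.leaf 2834) (.leaf 163713)) (.node (.leaf 65940) (.leaf 265354))) (.node (.node (.leaf 36104) (.leaf 211457)) (.leaf 113158))) (.node (.node (.node (.leaf 12682) (.leaf 187270)) (.leaf 86274)) (.node (.node (.leaf 50068) (.leaf 234120)) (.leaf 144641))))) (.node (.node (.node (.node (.node (.leaf 1689) (.leaf 157848)) (.node (.leaf 60936) (.leaf 258438))) (.node (.node (.leaf 31496) (.leaf 203012)) (.leaf 105345))) (.node (.node (.node (.leaf 10506) (.leaf 181505)) (.leaf 81172)) (.node (.node (.leaf 47385) (.leaf 228888)) (.leaf 134406)))) (.node (.node (.node (.node (.leaf 6790) (.leaf 171270)) (.node (.leaf 70660) (.leaf 270724))) (.node (.node (.leaf 39065) (.leaf 216216))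 (.leaf 120968))) (.node (.node (.node (.leaf 15752) (.leaf 192770)) (.leaf 89748)) (.node (.node (.leaf 53376) (.leaf 240262)) (.leaf 149892)))))) (.node (.node (.node (.node (.node (.node (.leaf 912) (.leaf 156548)) (.node (.leaf 57734) (.leaf 252673))) (.node (.node (.leaf 28312) (.leaf 200578)) (.leaf 101889))) (.node (.node (.node (.leaf 8960) (.leaf 179464)) (.node (.leaf 79110) (.leaf 281994))) (.node (.node (.leaf 46228) (.leaf 226584)) (.leaf 132228)))) (.node (.node (.node (.node (.leaf 3976) (.leaf 165250)) (.node (.leaf 67860) (.leaf 268801))) (.node (.node (.leaf 36616) (.leaf 214276)) (.leaf 116356))) (.node (.node (.node (.leaf 13074) (.leaf 190336)) (.leaf 89090)) (.node (.node (.leaf 52226) (.leaf 237192)) (.leaf 147976))))) (.node (.node (.node (.node (.node (.leaf 2052) (.leaf 160394)) (.node (.leaf 64002) (.leaf 262792))) (.node (.node (.leaf 34585) (.leaf 205062)) (.leaf 108804))) (.node (.node (.node (.leaf 11008) (.leaf 184072)) (.leaf 83736)) (.node (.node (.leaf 49542) (.leaf 231810)) (.leaf 137478)))) (.node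 (.node (.node (.node (.leaf 7180) (.leaf 174336)) (.node (.leaf 71302) (.leaf 273664))) (.node (.node (.leaf 42890) (.leaf 220056)) (.leaf 123914))) (.node (.node (.node (.leaf 26260) (.leaf 194694)) (.leaf 96257)) (.node (.node (.leaf 53784) (.leaf 243458)) (.leaf 151298))))))
def dP_2 : BT := .node dP_0 dP_1
def dP_3 : BT := .node (.node (.node (.node (.node (.node (.node (.leaf 18) (.leaf 153496)) (.node (.leaf 56448) (.leaf 247684))) (.node (.node (.leaf 26896) (.leaf 197272)) (.leaf 97432))) (.node (.node (.node (.leaf 7448) (.leaf 176518)) (.node (.leaf 73988) (.leaf 277760))) (.node (.node (.leaf 43924) (.leaf 221706)) (.leaf 125336)))) (.node (.node (.node (.node (.leaf 2324) (.leaf 162696)) (.node (.leaf 65808) (.leaf 264582))) (.node (.node (.leaf 34969) (.leaf 208394)) (.leaf 112906))) (.node (.node (.node (.leaf 12555) (.leaf 186502)) (.leaf 85524)) (.node (.node (.leaf 49945) (.leaf 233601)) (.leaf 143880))))) (.node (.node (.node (.node (.node (.leaf 1676) (.leaf 157080)) (.node (.leaf 58888) (.leaf 257048))) (.node (.node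 (.leaf 30488) (.leaf 202246)) (.leaf 104966))) (.node (.node (.node (.leaf 10385) (.leaf 180888)) (.leaf 80280)) (.node (.node (.leaf 47364) (.leaf 228248)) (.leaf 134154)))) (.node (.node (.node (.node (.leaf 4377) (.leaf 170120)) (.node (.leaf 69889) (.leaf 270344))) (.node (.node (.leaf 38914) (.leaf 216070)) (.leaf 120728))) (.node (.node (.node (.leaf 15636) (.leaf 192522)) (.leaf 89496)) (.node (.node (.leaf 53252) (.leaf 239370)) (.leaf 149144)))))) (.node (.node (.node (.node (.node (.node (.leaf 280) (.leaf 155906)) (.node (.leaf 57497) (.leaf 251784))) (.node (.node (.leaf 28288) (.leaf 200088)) (.leaf 101642))) (.node (.node (.node (.leaf 8843) (.leaf 179329)) (.node (.leaf 77336) (.leaf 281482))) (.node (.node (.leaf 44424) (.leaf 225560)) (.leaf 127640)))) (.node (.node (.node (.node (.leaf 3853) (.leaf 164888)) (.node (.leaf 66438) (.leaf 268312))) (.node (.node (.leaf 36500) (.leaf 213252)) (.leaf 116100))) (.node (.node (.node (.leaf 12952) (.leaf 189184)) (.leaf 86790)) (.node (.node (.leaf 51480) (.leaf 236696)) (.leaf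 146952))))) (.node (.node (.node (.node (.node (.leaf 1934) (.leaf 160010)) (.node (.leaf 63128) (.leaf 262168))) (.node (.node (.leaf 33158) (.leaf 204800)) (.leaf 107786))) (.node (.node (.node (.leaf 10777) (.leaf 183300)) (.leaf 83590)) (.node (.node (.leaf 48642) (.leaf 231040)) (.leaf 137089)))) (.node (.node (.node (.node (.leaf 7050) (.leaf 173464)) (.node (.leaf 71060) (.leaf 273284))) (.node (.node (.leaf 42632) (.leaf 219672)) (.leaf 123777))) (.node (.node (.node (.leaf 22534) (.leaf 194436)) (.leaf 94209)) (.node (.node (.leaf 53652) (.leaf 242306)) (.leaf 151044))))))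
def dP_4 : BT := .node (.node (.node (.node (.node (.node (.node (.leaf 148) (.leaf 154625)) (.node (.leaf 57350) (.leaf 249732))) (.node (.node (.leaf 27928) (.leaf 199430)) (.leaf 98968))) (.node (.node (.node (.leaf 8600) (.leaf 178072)) (.node (.leaf 74378) (.leaf 279320))) (.node (.node (.leaf 44184) (.leaf 224258)) (.leaf 126598)))) (.node (.node (.node (.node (.leaf 3602) (.leaf 164100)) (.node (.leaf 66064) (.leaf 265990))) (.node (.node (.leaf 36235) (.leaf 212362)) (.leaf 115074))) (.node (.node (.node (.leaf 12810) (.leaf 188166)) (.leaf 86406)) (.node (.node (.leaf 50946) (.leaf 235014)) (.leaf 145304))))) (.node (.node (.node (.node (.node (.leaf 1804) (.leaf 158722)) (.node (.leaf 61968) (.leaf 259720))) (.node (.node (.leaf 31641) (.leaf 204032)) (.leaf 106264))) (.node (.node (.node (.leaf 10630) (.leaf 181784)) (.leaf 81412)) (.node (.node (.leaf 47620) (.leaf 230018)) (.leaf 135302)))) (.node (.node (.node (.node (.leaf 6808) (.leaf 172420)) (.node (.leaf 70788) (.leaf 271236))) (.node (.node (.leaf 41483) (.leaf 216964))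 (.leaf 122634))) (.node (.node (.node (.leaf 18822) (.leaf 193048)) (.leaf 91928)) (.node (.node (.leaf 53396) (.leaf 240904)) (.leaf 150278)))))) (.node (.node (.node (.node (.node (.node (.leaf 1544) (.leaf 156696)) (.node (.leaf 57866) (.leaf 254465))) (.node (.node (.leaf 28825) (.leaf 200712)) (.leaf 102148))) (.node (.node (.node (.leaf 8985) (.leaf 179736)) (.node (.leaf 79248) (.leaf 295042))) (.node (.node (.leaf 47115) (.leaf 227328)) (.leaf 132376)))) (.node (.node (.node (.node (.leaf 4104) (.leaf 169354)) (.node (.leaf 68098) (.leaf 268952))) (.node (.node (.leaf 37760) (.leaf 215554)) (.leaf 118424))) (.node (.node (.node (.leaf 15492) (.leaf 191620)) (.leaf 89224)) (.node (.node (.leaf 52352) (.leaf 237824)) (.leaf 148230))))) (.node (.node (.node (.node (.node (.leaf 2073) (.leaf 161026)) (.node (.leaf 64912) (.leaf 263298))) (.node (.node (.leaf 34713) (.leaf 206084)) (.leaf 109062))) (.node (.node (.node (.leaf 11028) (.leaf 184326)) (.leaf 84097)) (.node (.node (.leaf 49688) (.leaf 232200)) (.leaf 142852)))) (.node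 (.node (.node (.node (.leaf 7298) (.leaf 175744)) (.node (.leaf 73732) (.leaf 274570))) (.node (.node (.leaf 43010) (.leaf 220800)) (.leaf 124184))) (.node (.node (.node (.leaf 26392) (.leaf 194948)) (.leaf 97032)) (.node (.node (.leaf 54784) (.leaf 244504)) (.leaf 151946))))))
def dP_5 : BT := .node dP_3 dP_4
def dP_6 : BT := .node dP_2 dP_5
def dP_7 : BT := .node (.node (.node (.node (.node (.node (.node (.leaf 13) (.leaf 153472)) (.node (.leaf 56330) (.leaf 246913))) (.node (.node (.leaf 26882) (.leaf 197128)) (.leaf 97410))) (.node (.node (.node (.leaf 7428) (.leaf 176280)) (.node (.leaf 73876) (.leaf 276504))) (.node (.node (.leaf 43912) (.leaf 221442)) (.leaf 125208)))) (.node (.node (.node (.node (.leaf 2201) (.leaf 162688)) (.node (.leaf 65794) (.leaf 263937))) (.node (.node (.leaf 34955) (.leaf 208129)) (.leaf 110340))) (.node (.node (.node (.leaf 12545) (.leaf 186369)) (.leaf 85504)) (.node (.node (.leaf 49931) (.leaf 233344)) (.leaf 143624))))) (.node (.node (.node (.node (.node (.leaf 1668) (.leaf 156952)) (.node (.leaf 58758)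 (.leaf 256518))) (.node (.node (.leaf 30470) (.leaf 201730)) (.leaf 104833))) (.node (.node (.node (.leaf 10372) (.leaf 180865)) (.leaf 80258)) (.node (.node (.leaf 47256) (.leaf 227974)) (.leaf 134024)))) (.node (.node (.node (.node (.leaf 4248) (.leaf 170113)) (.node (.leaf 69012) (.leaf 269958))) (.node (.node (.leaf 37890) (.leaf 215960)) (.leaf 120706))) (.node (.node (.node (.leaf 15622) (.leaf 192408)) (.leaf 89478)) (.node (.node (.leaf 53140) (.leaf 238982)) (.leaf 149002)))))) (.node (.node (.node (.node (.node (.node (.leaf 274) (.leaf 155780)) (.node (.leaf 57483) (.leaf 250369))) (.node (.node (.leaf 28176) (.leaf 200066)) (.leaf 101634))) (.node (.node (.node (.leaf 8728) (.leaf 179096)) (.node (.leaf 76934) (.leaf 281345))) (.node (.node (.leaf 44416) (.leaf 225410)) (.leaf 127512)))) (.node (.node (.node (.node (.leaf 3844) (.leaf 164866)) (.node (.leaf 66314) (.leaf 268290))) (.node (.node (.leaf 36484) (.leaf 213126)) (.leaf 115972))) (.node (.node (.node (.leaf 12936) (.leaf 188808)) (.leaf 86664)) (.node (.node (.leaf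 51225) (.leaf 236674)) (.leaf 146818))))) (.node (.node (.node (.node (.node (.leaf 1928) (.leaf 159622)) (.node (.leaf 63108) (.leaf 261768))) (.node (.node (.leaf 32152) (.leaf 204674)) (.leaf 107544))) (.node (.node (.node (.leaf 10768) (.leaf 183174)) (.leaf 82310)) (.node (.node (.leaf 48516) (.leaf 230808)) (.leaf 136472)))) (.node (.node (.node (.node (.leaf 6932) (.leaf 172824)) (.node (.leaf 70936) (.leaf 272516))) (.node (.node (.leaf 41752) (.leaf 218882)) (.leaf 123014))) (.node (.node (.node (.leaf 22278) (.leaf 193800)) (.leaf 93064)) (.node (.node (.leaf 53640) (.leaf 241920)) (.leaf 150918))))))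
def dP_8 : BT := .node (.node (.node (.node (.node (.node (.node (.leaf 144) (.leaf 154504)) (.node (.leaf 56728) (.leaf 248326))) (.node (.node (.leaf 27914) (.leaf 198656)) (.leaf 98944))) (.node (.node (.node (.leaf 8593) (.leaf 177930)) (.node (.leaf 74256) (.leaf 279064))) (.node (.node (.leaf 44170) (.leaf 224004)) (.leaf 126468)))) (.node (.node (.node (.node (.leaf 3590) (.leaf 163736)) (.node (.leaf 66052) (.leaf 265858))) (.node (.node (.leaf 36116) (.leaf 211846)) (.leaf 114176))) (.node (.node (.node (.leaf 12692) (.leaf 187908)) (.leaf 86296)) (.node (.node (.leaf 50177) (.leaf 234264)) (.leaf 144648))))) (.node (.node (.node (.node (.node (.leaf 1798) (.leaf 158104)) (.node (.leaf 61832) (.leaf 259713))) (.node (.node (.leaf 31620) (.leaf 203266)) (.leaf 106120))) (.node (.node (.node (.leaf 10516) (.leaf 181640)) (.leaf 81304)) (.node (.node (.leaf 47498) (.leaf 229272)) (.leaf 135176)))) (.node (.node (.node (.node (.leaf 6796) (.leaf 171928)) (.node (.leaf 70672) (.leaf 271110))) (.node (.node (.leaf 41474) (.leaf 216344))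 (.leaf 122502))) (.node (.node (.node (.leaf 18689) (.leaf 192904)) (.leaf 91288)) (.node (.node (.leaf 53384) (.leaf 240897)) (.leaf 150026)))))) (.node (.node (.node (.node (.node (.node (.leaf 1304) (.leaf 156674)) (.node (.leaf 57744) (.leaf 254088))) (.node (.node (.leaf 28418) (.leaf 200704)) (.leaf 101898))) (.node (.node (.node (.leaf 8972) (.leaf 179594)) (.node (.leaf 79128) (.leaf 282241))) (.node (.node (.leaf 47108) (.leaf 226950)) (.leaf 132354)))) (.node (.node (.node (.node (.leaf 3987) (.leaf 165912)) (.node (.leaf 67988) (.leaf 268930))) (.node (.node (.leaf 37643) (.leaf 214792)) (.leaf 118402))) (.node (.node (.node (.leaf 14354) (.leaf 190342)) (.leaf 89108)) (.node (.node (.leaf 52240) (.leaf 237322)) (.leaf 148102))))) (.node (.node (.node (.node (.node (.leaf 2060) (.leaf 160536)) (.node (.leaf 64024) (.leaf 262920))) (.node (.node (.leaf 34699) (.leaf 205702)) (.leaf 108938))) (.node (.node (.node (.leaf 11014) (.leaf 184216)) (.leaf 83978)) (.node (.node (.leaf 49674) (.leaf 231960)) (.leaf 138776)))) (.node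 (.node (.node (.node (.leaf 7192) (.leaf 174344)) (.node (.leaf 72968) (.leaf 274072))) (.node (.node (.leaf 42904) (.leaf 220544)) (.leaf 124056))) (.node (.node (.node (.leaf 26378) (.leaf 194822)) (.leaf 96264)) (.node (.node (.leaf 54536) (.leaf 243968)) (.leaf 151816))))))
def dP_9 : BT := .node dP_7 dP_8
def dP_10 : BT := .node (.node (.node (.node (.node (.node (.node (.leaf 128) (.leaf 153992)) (.node (.leaf 56464) (.leaf 247816))) (.node (.node (.leaf 27008) (.leaf 197512)) (.leaf 97670))) (.node (.node (.node (.leaf 7696) (.leaf 176648)) (.node (.leaf 74000) (.leaf 277766))) (.node (.node (.leaf 44040) (.leaf 222344)) (.leaf 125569)))) (.node (.node (.node (.node (.leaf 2452) (.leaf 163204)) (.node (.leaf 65924) (.leaf 265092))) (.node (.node (.leaf 35609) (.leaf 209304)) (.leaf 113152))) (.node (.node (.node (.leaf 12568) (.leaf 186634)) (.leaf 86152)) (.node (.node (.leaf 50052) (.leaf 233608)) (.leaf 144516))))) (.node (.node (.node (.node (.node (.leaf 1683) (.leaf 157568)) (.node (.leaf 59912) (.leaf 257158))) (.node (.node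 (.leaf 30594) (.leaf 202630)) (.leaf 105096))) (.node (.node (.node (.leaf 10393) (.leaf 181002)) (.leaf 81032)) (.node (.node (.leaf 47371) (.leaf 228760)) (.leaf 134296)))) (.node (.node (.node (.node (.leaf 6296) (.leaf 170760)) (.node (.leaf 69896) (.leaf 270602))) (.node (.node (.leaf 38936) (.leaf 216194)) (.leaf 120840))) (.node (.node (.node (.leaf 15745) (.leaf 192646)) (.leaf 89620)) (.node (.node (.leaf 53264) (.leaf 239896)) (.leaf 149256)))))) (.node (.node (.node (.node (.node (.node (.leaf 400) (.leaf 155928)) (.node (.leaf 57608) (.leaf 252296))) (.node (.node (.leaf 28294) (.leaf 200450)) (.leaf 101768))) (.node (.node (.node (.leaf 8850) (.leaf 179338)) (.node (.leaf 78986) (.leaf 281858))) (.node (.node (.leaf 46212) (.leaf 225930)) (.leaf 132104)))) (.node (.node (.node (.node (.leaf 3864) (.leaf 165016)) (.node (.leaf 66456) (.leaf 268546))) (.node (.node (.leaf 36609) (.leaf 213642)) (.leaf 116230))) (.node (.node (.node (.leaf 13058) (.leaf 189190)) (.leaf 88450)) (.node (.node (.leaf 52120) (.leaf 237062)) (.leaf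 147352))))) (.node (.node (.node (.node (.node (.leaf 1939) (.leaf 160132)) (.node (.leaf 63892) (.leaf 262680))) (.node (.node (.leaf 34571) (.leaf 204934)) (.leaf 108673))) (.node (.node (.node (.leaf 10896) (.leaf 183553)) (.leaf 83608)) (.node (.node (.leaf 48776) (.leaf 231560)) (.leaf 137354)))) (.node (.node (.node (.node (.leaf 7065) (.leaf 173700)) (.node (.leaf 71178) (.leaf 273409))) (.node (.node (.leaf 42760) (.leaf 219786)) (.leaf 123800))) (.node (.node (.node (.leaf 26248) (.leaf 194568)) (.leaf 94232)) (.node (.node (.leaf 53770) (.leaf 242822)) (.leaf 151174))))))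
def dP_11 : BT := .node (.node (.node (.node (.node (.node (.node (.leaf 256) (.leaf 154754)) (.node (.leaf 57360) (.leaf 249880))) (.node (.node (.leaf 28043) (.leaf 199810)) (.leaf 99976))) (.node (.node (.node (.leaf 8712) (.leaf 178690)) (.node (.leaf 75672) (.leaf 280198))) (.node (.node (.leaf 44290) (.leaf 224520)) (.leaf 126724)))) (.node (.node (.node (.node (.leaf 3609) (.leaf 164616)) (.node (.leaf 66182) (.leaf 266904))) (.node (.node (.leaf 36362) (.leaf 212484)) (.leaf 115096))) (.node (.node (.node (.leaf 12820) (.leaf 188296)) (.leaf 86424)) (.node (.node (.leaf 51097) (.leaf 235777)) (.leaf 145688))))) (.node (.node (.node (.node (.node (.leaf 1810) (.leaf 158858)) (.node (.leaf 62982) (.leaf 260097))) (.node (.node (.leaf 31754) (.leaf 204312)) (.leaf 107268))) (.node (.node (.node (.leaf 10640) (.leaf 182406)) (.leaf 81432)) (.node (.node (.leaf 47640) (.leaf 230274)) (.leaf 135430)))) (.node (.node (.node (.node (.leaf 6920) (.leaf 172568)) (.node (.leaf 70804) (.leaf 271616))) (.node (.node (.leaf 41497) (.leaf 217608))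 (.leaf 122762))) (.node (.node (.node (.leaf 20740) (.leaf 193432)) (.leaf 92938)) (.node (.node (.leaf 53510) (.leaf 241281)) (.leaf 150401)))))) (.node (.node (.node (.node (.node (.node (.leaf 1552) (.leaf 156806)) (.node (.leaf 57990) (.leaf 254854))) (.node (.node (.leaf 30352) (.leaf 200840)) (.leaf 102278))) (.node (.node (.node (.leaf 9108) (.leaf 180232)) (.leaf 80008)) (.node (.node (.leaf 47129) (.leaf 227713)) (.leaf 133889)))) (.node (.node (.node (.node (.leaf 4116) (.leaf 169474)) (.node (.leaf 68112) (.leaf 269446))) (.node (.node (.leaf 37766) (.leaf 215814)) (.leaf 118662))) (.node (.node (.node (.leaf 15506) (.leaf 192001)) (.leaf 89344)) (.node (.node (.leaf 52505) (.leaf 237834)) (.leaf 148356))))) (.node (.node (.node (.node (.node (.leaf 2188) (.leaf 161158)) (.node (.leaf 65025) (.leaf 263424))) (.node (.node (.leaf 34826) (.leaf 206602)) (.leaf 109706))) (.node (.node (.node (.leaf 11137) (.leaf 184712)) (.leaf 84104)) (.node (.node (.leaf 49802) (.leaf 232580)) (.leaf 142977)))) (.node (.node (.node (.node (.leaf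 7308) (.leaf 176132)) (.node (.leaf 73744) (.leaf 275842))) (.node (.node (.leaf 43024) (.leaf 220806)) (.leaf 124938))) (.node (.node (.node (.leaf 26762) (.leaf 195096)) (.leaf 97160)) (.node (.node (.leaf 54914) (.leaf 245258)) (.leaf 152600))))))
def dP_12 : BT := .node dP_10 dP_11
def dP_13 : BT := .node dP_9 dP_12
def dP_14 : BT := .node dP_6 dP_13
def dP_15 : BT := .node (.node (.node (.node (.node (.node (.node (.leaf 11) (.leaf 152728)) (.node (.leaf 55440) (.leaf 246794))) (.node (.node (.leaf 26880) (.leaf 197120)) (.leaf 97288))) (.node (.node (.node (.leaf 7425) (.leaf 176264)) (.node (.leaf 73866) (.leaf 276376))) (.node (.node (.leaf 43140) (.leaf 221190)) (.leaf 125186)))) (.node (.node (.node (.node (.leaf 2196) (.leaf 162182)) (.node (.leaf 65044) (.leaf 263576))) (.node (.node (.leaf 34950) (.leaf 207496)) (.leaf 110337))) (.node (.node (.node (.leaf 11536) (.leaf 185857)) (.leaf 84884)) (.node (.node (.leaf 49926) (.leaf 233092)) (.leaf 143618))))) (.node (.node (.node (.node (.node (.leaf 1561) (.leaf 156936)) (.node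 (.leaf 58754) (.leaf 256514))) (.node (.node (.leaf 30466) (.leaf 201624)) (.leaf 104072))) (.node (.node (.node (.leaf 9360) (.leaf 180760)) (.leaf 80152)) (.node (.node (.leaf 47248) (.leaf 227968)) (.leaf 134018)))) (.node (.node (.node (.node (.leaf 4242) (.leaf 170008)) (.node (.leaf 68996) (.leaf 269698))) (.node (.node (.leaf 37888) (.leaf 215944)) (.leaf 120586))) (.node (.node (.node (.leaf 15618) (.leaf 192392)) (.leaf 89368)) (.node (.node (.leaf 53131) (.leaf 238872)) (.leaf 148998)))))) (.node (.node (.node (.node (.node (.node (.leaf 269) (.leaf 155776)) (.node (.leaf 57480) (.leaf 250136))) (.node (.node (.leaf 28170) (.leaf 199944)) (.leaf 100872))) (.node (.node (.node (.leaf 8722) (.leaf 179078)) (.node (.leaf 76440) (.leaf 280966))) (.node (.node (.leaf 44312) (.leaf 224770)) (.leaf 127384)))) (.node (.node (.node (.node (.leaf 3840) (.leaf 164746)) (.node (.leaf 66308) (.leaf 268160))) (.node (.node (.leaf 36481) (.leaf 213122)) (.leaf 115864))) (.node (.node (.node (.leaf 12932) (.leaf 188424)) (.leaf 86552)) (.node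 (.node (.leaf 51220) (.leaf 236312)) (.leaf 146312))))) (.node (.node (.node (.node (.node (.leaf 1922) (.leaf 159494)) (.node (.leaf 63104) (.leaf 261764))) (.node (.node (.leaf 32008) (.leaf 204424)) (.leaf 107526))) (.node (.node (.node (.leaf 10756) (.leaf 183048)) (.leaf 82306)) (.node (.node (.leaf 47768) (.leaf 230792)) (.leaf 136330)))) (.node (.node (.node (.node (.leaf 6929) (.leaf 172806)) (.node (.leaf 70920) (.leaf 271640))) (.node (.node (.leaf 41744) (.leaf 218880)) (.leaf 123010))) (.node (.node (.node (.leaf 21254) (.leaf 193670)) (.leaf 93060)) (.node (.node (.leaf 53529) (.leaf 241674)) (.leaf 150912))))))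
def dP_16 : BT := .node (.node (.node (.node (.node (.node (.node (.leaf 140) (.leaf 154392)) (.node (.leaf 56580) (.leaf 248088))) (.node (.node (.leaf 27910) (.leaf 198280)) (.leaf 98826))) (.node (.node (.node (.leaf 8588) (.leaf 177304)) (.node (.leaf 74248) (.leaf 279046))) (.node (.node (.leaf 44057) (.leaf 223494)) (.leaf 126344)))) (.node (.node (.node (.node (.leaf 3586) (.leaf 163720)) (.node (.leaf 66048) (.leaf 265482))) (.node (.node (.leaf 36107) (.leaf 211718)) (.leaf 113176))) (.node (.node (.node (.leaf 12688) (.leaf 187288)) (.leaf 86280)) (.node (.node (.leaf 50073) (.leaf 234246)) (.leaf 144644))))) (.node (.node (.node (.node (.node (.leaf 1793) (.leaf 158081)) (.node (.leaf 61318) (.leaf 258564))) (.node (.node (.leaf 31513) (.leaf 203160)) (.leaf 106112))) (.node (.node (.node (.leaf 10512) (.leaf 181514)) (.leaf 81290)) (.node (.node (.leaf 47494) (.leaf 229256)) (.leaf 135168)))) (.node (.node (.node (.node (.leaf 6794) (.leaf 171288)) (.node (.leaf 70664) (.leaf 270728))) (.node (.node (.leaf 39193) (.leaf 216328))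 (.leaf 122497))) (.node (.node (.node (.leaf 16409) (.leaf 192776)) (.leaf 91136)) (.node (.node (.leaf 53380) (.leaf 240513)) (.leaf 150022)))))) (.node (.node (.node (.node (.node (.node (.leaf 921) (.leaf 156554)) (.node (.leaf 57738) (.leaf 252952))) (.node (.node (.leaf 28416) (.leaf 200586)) (.leaf 101894))) (.node (.node (.node (.leaf 8964) (.leaf 179588)) (.node (.leaf 79120) (.leaf 282118))) (.node (.node (.leaf 46233) (.leaf 226712)) (.leaf 132234)))) (.node (.node (.node (.node (.leaf 3981) (.leaf 165256)) (.node (.leaf 67974) (.leaf 268808))) (.node (.node (.leaf 36889) (.leaf 214536)) (.leaf 116490))) (.node (.node (.node (.leaf 14344) (.leaf 190338)) (.leaf 89096)) (.node (.node (.leaf 52230) (.leaf 237208)) (.leaf 147992))))) (.node (.node (.node (.node (.node (.leaf 2058) (.leaf 160516)) (.node (.leaf 64008) (.leaf 262914))) (.node (.node (.leaf 34696) (.leaf 205080)) (.leaf 108824))) (.node (.node (.node (.leaf 11010) (.leaf 184198)) (.leaf 83850)) (.node (.node (.leaf 49670) (.leaf 231938)) (.leaf 138242)))) (.node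 (.node (.node (.node (.leaf 7186) (.leaf 174338)) (.node (.leaf 72962) (.leaf 273688))) (.node (.node (.leaf 42896) (.leaf 220298)) (.leaf 124038))) (.node (.node (.node (.leaf 26265) (.leaf 194712)) (.leaf 96260)) (.node (.node (.leaf 54532) (.leaf 243590)) (.leaf 151320))))))
def dP_17 : BT := .node dP_15 dP_16
def dP_18 : BT := .node (.node (.node (.node (.node (.node (.node (.leaf 24) (.leaf 153986)) (.node (.leaf 56452) (.leaf 247810))) (.node (.node (.leaf 26904) (.leaf 197400)) (.leaf 97544))) (.node (.node (.node (.leaf 7573) (.leaf 176536)) (.node (.leaf 73992) (.leaf 277762))) (.node (.node (.leaf 43929) (.leaf 221830)) (.leaf 125464)))) (.node (.node (.node (.node (.leaf 2328) (.leaf 162712)) (.node (.leaf 65816) (.leaf 264710))) (.node (.node (.leaf 35225) (.leaf 209032)) (.leaf 113034))) (.node (.node (.node (.leaf 12562) (.leaf 186506)) (.leaf 86146)) (.node (.node (.leaf 50049) (.leaf 233604)) (.leaf 144006))))) (.node (.node (.node (.node (.node (.leaf 1681) (.leaf 157194)) (.node (.leaf 59138) (.leaf 257153))) (.node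 (.node (.leaf 30592) (.leaf 202264)) (.leaf 104970))) (.node (.node (.node (.leaf 10388) (.leaf 180998)) (.leaf 81025)) (.node (.node (.leaf 47368) (.leaf 228618)) (.leaf 134278)))) (.node (.node (.node (.node (.leaf 4884) (.leaf 170754)) (.node (.leaf 69892) (.leaf 270360))) (.node (.node (.leaf 38920) (.leaf 216074)) (.leaf 120833))) (.node (.node (.node (.leaf 15641) (.leaf 192641)) (.leaf 89608)) (.node (.node (.leaf 53258) (.leaf 239512)) (.leaf 149250)))))) (.node (.node (.node (.node (.node (.node (.leaf 396) (.leaf 155912)) (.node (.leaf 57601) (.leaf 251914))) (.node (.node (.leaf 28290) (.leaf 200202)) (.leaf 101762))) (.node (.node (.node (.leaf 8848) (.leaf 179334)) (.node (.leaf 78104) (.leaf 281606))) (.node (.node (.leaf 45320) (.leaf 225816)) (.leaf 132098)))) (.node (.node (.node (.node (.leaf 3858) (.leaf 165000)) (.node (.leaf 66448) (.leaf 268426))) (.node (.node (.leaf 36505) (.leaf 213382)) (.leaf 116106))) (.node (.node (.node (.leaf 13056) (.leaf 189186)) (.leaf 86804)) (.node (.node (.leaf 52106) (.leaf 236952))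 (.leaf 147078))))) (.node (.node (.node (.node (.node (.leaf 1937) (.leaf 160128)) (.node (.leaf 63882) (.leaf 262660))) (.node (.node (.leaf 34568) (.leaf 204808)) (.leaf 107928))) (.node (.node (.node (.leaf 10890) (.leaf 183434)) (.leaf 83594)) (.node (.node (.leaf 48768) (.leaf 231176)) (.leaf 137112)))) (.node (.node (.node (.node (.leaf 7058) (.leaf 173697)) (.node (.leaf 71172) (.leaf 273288))) (.node (.node (.leaf 42644) (.leaf 219782)) (.leaf 123784))) (.node (.node (.node (.leaf 24452) (.leaf 194562)) (.leaf 94214)) (.node (.node (.leaf 53657) (.leaf 242818)) (.leaf 151050))))))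
def dP_19 : BT := .node (.node (.node (.node (.node (.node (.node (.leaf 152) (.leaf 154632)) (.node (.leaf 57354) (.leaf 249857))) (.node (.node (.leaf 28040) (.leaf 199448)) (.leaf 99970))) (.node (.node (.node (.leaf 8706) (.leaf 178688)) (.node (.leaf 75520) (.leaf 280072))) (.node (.node (.leaf 44288) (.leaf 224280)) (.leaf 126616)))) (.node (.node (.node (.node (.leaf 3604) (.leaf 164612)) (.node (.leaf 66072) (.leaf 266886))) (.node (.node (.leaf 36248) (.leaf 212481)) (.leaf 115078))) (.node (.node (.node (.leaf 12816) (.leaf 188184)) (.leaf 86410)) (.node (.node (.leaf 51083) (.leaf 235402)) (.leaf 145432))))) (.node (.node (.node (.node (.node (.leaf 1808) (.leaf 158730)) (.node (.leaf 62096) (.leaf 259992))) (.node (.node (.leaf 31745) (.leaf 204036)) (.leaf 106378))) (.node (.node (.node (.leaf 10634) (.leaf 181912)) (.leaf 81416)) (.node (.node (.leaf 47626) (.leaf 230154)) (.leaf 135306)))) (.node (.node (.node (.node (.leaf 6914) (.leaf 172552)) (.node (.leaf 70794) (.leaf 271498))) (.node (.node (.leaf 41492) (.leaf 217217))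 (.leaf 122756))) (.node (.node (.node (.leaf 18832) (.leaf 193416)) (.leaf 92820)) (.node (.node (.leaf 53401) (.leaf 241162)) (.leaf 150296)))))) (.node (.node (.node (.node (.node (.node (.leaf 1547) (.leaf 156801)) (.node (.leaf 57880) (.leaf 254744))) (.node (.node (.leaf 30346) (.leaf 200728)) (.leaf 102154))) (.node (.node (.node (.leaf 9090) (.leaf 180226)) (.node (.leaf 80002) (.leaf 298502))) (.node (.node (.leaf 47124) (.leaf 227352)) (.leaf 132504)))) (.node (.node (.node (.node (.leaf 4109) (.leaf 169472)) (.node (.leaf 68102) (.leaf 269066))) (.node (.node (.leaf 37762) (.leaf 215810)) (.leaf 118538))) (.node (.node (.node (.leaf 15499) (.leaf 191640)) (.leaf 89236)) (.node (.node (.leaf 52354) (.leaf 237830)) (.leaf 148248))))) (.node (.node (.node (.node (.node (.leaf 2186) (.leaf 161034)) (.node (.leaf 64920) (.leaf 263306))) (.node (.node (.leaf 34822) (.leaf 206342)) (.leaf 109576))) (.node (.node (.node (.leaf 11033) (.leaf 184344)) (.leaf 84100)) (.node (.node (.leaf 49796) (.leaf 232577)) (.leaf 142872)))) (.node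 (.node (.node (.node (.leaf 7302) (.leaf 175752)) (.node (.leaf 73736) (.leaf 274968))) (.node (.node (.leaf 43014) (.leaf 220802)) (.leaf 124934))) (.node (.node (.node (.leaf 26504) (.leaf 194954)) (.leaf 97154)) (.node (.node (.leaf 54790) (.leaf 245128)) (.leaf 152580))))))
def dP_20 : BT := .node dP_18 dP_19
def dP_21 : BT := .node dP_17 dP_20
def dP_22 : BT := .node (.node (.node (.node (.node (.node (.node (.leaf 15) (.leaf 153476)) (.node (.leaf 56344) (.leaf 247174))) (.node (.node (.leaf 26886) (.leaf 197144)) (.leaf 97416))) (.node (.node (.node (.leaf 7432) (.leaf 176390)) (.node (.leaf 73984) (.leaf 277258))) (.node (.node (.leaf 43915) (.leaf 221448)) (.leaf 125320)))) (.node (.node (.node (.node (.leaf 2318) (.leaf 162692)) (.node (.leaf 65800) (.leaf 264072))) (.node (.node (.leaf 34964) (.leaf 208134)) (.leaf 110344))) (.node (.node (.node (.leaf 12552) (.leaf 186378)) (.leaf 85508)) (.node (.node (.leaf 49940) (.leaf 233496)) (.leaf 143874))))) (.node (.node (.node (.node (.node (.leaf 1674) (.leaf 157064)) (.node (.leaf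 58882) (.leaf 256778))) (.node (.node (.leaf 30480) (.leaf 201734)) (.leaf 104856))) (.node (.node (.node (.leaf 10376) (.leaf 180872)) (.leaf 80264)) (.node (.node (.leaf 47360) (.leaf 227992)) (.leaf 134040)))) (.node (.node (.node (.node (.leaf 4370) (.leaf 170116)) (.node (.leaf 69770) (.leaf 270336))) (.node (.node (.leaf 37894) (.leaf 216065)) (.leaf 120712))) (.node (.node (.node (.leaf 15632) (.leaf 192516)) (.leaf 89482)) (.node (.node (.leaf 53145) (.leaf 239361)) (.leaf 149126)))))) (.node (.node (.node (.node (.node (.node (.leaf 276) (.leaf 155786)) (.node (.leaf 57492) (.leaf 250753))) (.node (.node (.leaf 28184) (.leaf 200072)) (.leaf 101638))) (.node (.node (.node (.leaf 8838) (.leaf 179224)) (.node (.leaf 77208) (.leaf 281472))) (.node (.node (.leaf 44418) (.leaf 225536)) (.leaf 127620)))) (.node (.node (.node (.node (.leaf 3848) (.leaf 164872)) (.node (.leaf 66324) (.leaf 268296))) (.node (.node (.leaf 36488) (.leaf 213130)) (.leaf 115978))) (.node (.node (.node (.leaf 12946) (.leaf 189066)) (.leaf 86676)) (.node (.node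 (.leaf 51330) (.leaf 236678)) (.leaf 146824))))) (.node (.node (.node (.node (.node (.leaf 1931) (.leaf 159882)) (.node (.leaf 63120) (.leaf 261896))) (.node (.node (.leaf 33026) (.leaf 204682)) (.leaf 107656))) (.node (.node (.node (.leaf 10770) (.leaf 183178)) (.leaf 82324)) (.node (.node (.leaf 48520) (.leaf 230920)) (.leaf 136710)))) (.node (.node (.node (.node (.leaf 6937) (.leaf 173336)) (.node (.leaf 71046) (.leaf 273034))) (.node (.node (.leaf 41880) (.leaf 219138)) (.leaf 123032))) (.node (.node (.node (.leaf 22408) (.leaf 193816)) (.leaf 94090)) (.node (.node (.leaf 53643) (.leaf 241926)) (.leaf 150922))))))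
def dP_23 : BT := .node (.node (.node (.node (.node (.node (.node (.leaf 146) (.leaf 154520)) (.node (.leaf 57346) (.leaf 248344))) (.node (.node (.leaf 27920) (.leaf 198913)) (.leaf 98946))) (.node (.node (.node (.leaf 8596) (.leaf 178049)) (.node (.leaf 74264) (.leaf 279192))) (.node (.node (.leaf 44176) (.leaf 224152)) (.leaf 126474)))) (.node (.node (.node (.node (.leaf 3595) (.leaf 163978)) (.node (.leaf 66056) (.leaf 265866))) (.node (.node (.leaf 36121) (.leaf 211850)) (.leaf 115072))) (.node (.node (.node (.leaf 12697) (.leaf 188036)) (.leaf 86401)) (.node (.node (.leaf 50180) (.leaf 234760)) (.leaf 145162))))) (.node (.node (.node (.node (.node (.leaf 1802) (.leaf 158593)) (.node (.leaf 61844) (.leaf 259716))) (.node (.node (.leaf 31626) (.leaf 203784)) (.leaf 106246))) (.node (.node (.node (.leaf 10521) (.leaf 181766)) (.leaf 81409)) (.node (.node (.leaf 47512) (.leaf 229633)) (.leaf 135192)))) (.node (.node (.node (.node (.leaf 6802) (.leaf 172036)) (.node (.leaf 70680) (.leaf 271128))) (.node (.node (.leaf 41480) (.leaf 216840))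 (.leaf 122630))) (.node (.node (.node (.leaf 18696) (.leaf 193030)) (.leaf 91544)) (.node (.node (.leaf 53387) (.leaf 240900)) (.leaf 150148)))))) (.node (.node (.node (.node (.node (.node (.leaf 1540) (.leaf 156680)) (.node (.leaf 57752) (.leaf 254346))) (.node (.node (.leaf 28422) (.leaf 200708)) (.leaf 102024))) (.node (.node (.node (.leaf 8981) (.leaf 179718)) (.node (.leaf 79236) (.leaf 282264))) (.node (.node (.leaf 47112) (.leaf 226968)) (.leaf 132360)))) (.node (.node (.node (.node (.leaf 3993) (.leaf 166914)) (.node (.leaf 68096) (.leaf 268936))) (.node (.node (.leaf 37656) (.leaf 215048)) (.leaf 118408))) (.node (.node (.node (.leaf 14480) (.leaf 190360)) (.leaf 89218)) (.node (.node (.leaf 52248) (.leaf 237446)) (.leaf 148106))))) (.node (.node (.node (.node (.node (.leaf 2067) (.leaf 160641)) (.node (.leaf 64900) (.leaf 262936))) (.node (.node (.leaf 34708) (.leaf 205828)) (.leaf 109056))) (.node (.node (.node (.leaf 11024) (.leaf 184322)) (.leaf 83992)) (.node (.node (.leaf 49680) (.leaf 232194)) (.leaf 138884)))) (.node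 (.node (.node (.node (.leaf 7296) (.leaf 174858)) (.node (.leaf 72984) (.leaf 274310))) (.node (.node (.leaf 43008) (.leaf 220568)) (.leaf 124166))) (.node (.node (.node (.leaf 26384) (.leaf 194826)) (.leaf 97026)) (.node (.node (.leaf 54660) (.leaf 244120)) (.leaf 151832))))))
def dP_24 : BT := .node dP_22 dP_23
def dP_25 : BT := .node (.node (.node (.node (.node (.node (.node (.leaf 130) (.leaf 154370)) (.node (.leaf 56472) (.leaf 247942))) (.node (.node (.leaf 27010) (.leaf 197894)) (.leaf 97688))) (.node (.node (.node (.leaf 8576) (.leaf 176664)) (.node (.leaf 74008) (.leaf 277784))) (.node (.node (.leaf 44043) (.leaf 222472)) (.leaf 125574)))) (.node (.node (.node (.node (.leaf 2456) (.leaf 163224)) (.node (.leaf 65930) (.leaf 265222))) (.node (.node (.leaf 36097) (.leaf 209802)) (.leaf 113154))) (.node (.node (.node (.leaf 12676) (.leaf 187140)) (.leaf 86164)) (.node (.node (.leaf 50056) (.leaf 234112)) (.leaf 144536))))) (.node (.node (.node (.node (.node (.leaf 1685) (.leaf 157828)) (.node (.leaf 60176) (.leaf 257800))) (.node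 (.node (.leaf 31490) (.leaf 202758)) (.leaf 105222))) (.node (.node (.node (.leaf 10502) (.leaf 181126)) (.leaf 81048)) (.node (.node (.leaf 47380) (.leaf 228865)) (.leaf 134402)))) (.node (.node (.node (.node (.leaf 6785) (.leaf 170886)) (.node (.leaf 69912) (.leaf 270720))) (.node (.node (.leaf 39041) (.leaf 216200)) (.leaf 120856))) (.node (.node (.node (.leaf 15748) (.leaf 192650)) (.leaf 89734)) (.node (.node (.leaf 53272) (.leaf 240152)) (.leaf 149764)))))) (.node (.node (.node (.node (.node (.node (.leaf 409) (.leaf 156042)) (.node (.leaf 57625) (.leaf 252554))) (.node (.node (.leaf 28304) (.leaf 200458)) (.leaf 101784))) (.node (.node (.node (.leaf 8856) (.leaf 179458)) (.node (.leaf 78996) (.leaf 281864))) (.node (.node (.leaf 46219) (.leaf 226438)) (.leaf 132120)))) (.node (.node (.node (.node (.leaf 3970) (.leaf 165248)) (.node (.leaf 67848) (.leaf 268552))) (.node (.node (.leaf 36612) (.leaf 214272)) (.leaf 116234))) (.node (.node (.node (.leaf 13062) (.leaf 189208)) (.leaf 88468)) (.node (.node (.leaf 52224) (.leaf 237186))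 (.leaf 147969))))) (.node (.node (.node (.node (.node (.leaf 1944) (.leaf 160152)) (.node (.leaf 64000) (.leaf 262785))) (.node (.node (.leaf 34580) (.leaf 204938)) (.leaf 108680))) (.node (.node (.node (.leaf 10898) (.leaf 183576)) (.leaf 83720)) (.node (.node (.leaf 49032) (.leaf 231808)) (.leaf 137473)))) (.node (.node (.node (.node (.leaf 7178) (.leaf 173704)) (.node (.leaf 71188) (.leaf 273432))) (.node (.node (.leaf 42772) (.leaf 219914)) (.leaf 123910))) (.node (.node (.node (.leaf 26251) (.leaf 194584)) (.leaf 96152)) (.node (.node (.leaf 53776) (.leaf 242840)) (.leaf 151192))))))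
def dP_26 : BT := .node (.node (.node (.node (.node (.node (.node (.leaf 258) (.leaf 154888)) (.node (.leaf 57368) (.leaf 249990))) (.node (.node (.leaf 28052) (.leaf 199816)) (.leaf 100864))) (.node (.node (.node (.leaf 8715) (.leaf 178694)) (.node (.leaf 76161) (.leaf 280216))) (.node (.node (.leaf 44294) (.leaf 224536)) (.leaf 126744)))) (.node (.node (.node (.node (.leaf 3716) (.leaf 164632)) (.node (.leaf 66186) (.leaf 267016))) (.node (.node (.leaf 36372) (.leaf 212864)) (.leaf 115844))) (.node (.node (.node (.leaf 12825) (.leaf 188417)) (.leaf 86534)) (.node (.node (.leaf 51202) (.leaf 235780)) (.leaf 146200))))) (.node (.node (.node (.node (.node (.leaf 1812) (.leaf 158980)) (.node (.leaf 62987) (.leaf 260248))) (.node (.node (.leaf 31769) (.leaf 204417)) (.leaf 107396))) (.node (.node (.node (.leaf 10642) (.leaf 182916)) (.leaf 82196)) (.node (.node (.leaf 47754) (.leaf 230528)) (.leaf 135448)))) (.node (.node (.node (.node (.leaf 6923) (.leaf 172678)) (.node (.leaf 70912) (.leaf 271618))) (.node (.node (.leaf 41608) (.leaf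 218118)) (.leaf 122886))) (.node (.node (.node (.leaf 20756) (.leaf 193546)) (.leaf 92952)) (.node (.node (.leaf 53514) (.leaf 241284)) (.leaf 150404)))))) (.node (.node (.node (.node (.node (.node (.leaf 1554) (.leaf 156810)) (.node (.leaf 58000) (.leaf 256266))) (.node (.node (.leaf 30360) (.leaf 200856)) (.leaf 102296))) (.node (.node (.node (.leaf 9112) (.leaf 180248)) (.leaf 80024)) (.node (.node (.leaf 47236) (.leaf 227716)) (.leaf 133894)))) (.node (.node (.node (.node (.leaf 4120) (.leaf 169478)) (.node (.leaf 68120) (.leaf 269574))) (.node (.node (.leaf 37776) (.leaf 215818)) (.leaf 118680))) (.node (.node (.node (.leaf 15512) (.leaf 192004)) (.leaf 89348)) (.node (.node (.leaf 53124) (.leaf 238104)) (.leaf 148376))))) (.node (.node (.node (.node (.node (.leaf 2192) (.leaf 161796)) (.node (.leaf 65028) (.leaf 263554))) (.node (.node (.leaf 34832) (.leaf 207240)) (.leaf 110212))) (.node (.node (.node (.leaf 11140) (.leaf 184984)) (.leaf 84120)) (.node (.node (.leaf 49808) (.leaf 232584)) (.leaf 142980)))) (.node (.node (.node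 (.node (.leaf 7317) (.leaf 176136)) (.node (.leaf 73752) (.leaf 275864))) (.node (.node (.leaf 43032) (.leaf 220824)) (.leaf 125060))) (.node (.node (.node (.leaf 26768) (.leaf 195464)) (.leaf 97176)) (.node (.node (.leaf 54920) (.leaf 245528)) (.leaf 152705))))))
def dP_27 : BT := .node dP_25 dP_26
def dP_28 : BT := .node dP_24 dP_27
def dP_29 : BT := .node dP_21 dP_28
def dP_30 : BT := .node dP_14 dP_29
def dP_31 : BT := .node (.node (.node (.node (.node (.node (.node (.leaf 10) (.leaf 152712)) (.node (.leaf 55432) (.leaf 246282))) (.node (.node (.leaf 26777) (.leaf 195978)) (.leaf 97284))) (.node (.node (.node (.leaf 7424) (.leaf 176260)) (.node (.leaf 73864) (.leaf 276120))) (.node (.node (.leaf 43137) (.leaf 221080)) (.leaf 125080)))) (.node (.node (.node (.node (.leaf 2195) (.leaf 162056)) (.node (.leaf 65040) (.leaf 263562))) (.node (.node (.leaf 34841) (.leaf 207494)) (.leaf 110336))) (.node (.node (.node (.leaf 11154) (.leaf 185856)) (.leaf 84872)) (.node (.node (.leaf 49817) (.leaf 232984)) (.leaf 143000))))) (.node (.node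 (.node (.node (.node (.leaf 1560) (.leaf 156934)) (.node (.leaf 58009) (.leaf 256513))) (.node (.node (.leaf 30465) (.leaf 201610)) (.leaf 104068))) (.node (.node (.node (.leaf 9240) (.leaf 180746)) (.leaf 80148)) (.node (.node (.leaf 47243) (.leaf 227736)) (.leaf 133912)))) (.node (.node (.node (.node (.leaf 4237) (.leaf 169994)) (.node (.leaf 68994) (.leaf 269592))) (.node (.node (.leaf 37785) (.leaf 215940)) (.leaf 120584))) (.node (.node (.node (.leaf 15617) (.leaf 192388)) (.leaf 89364)) (.node (.node (.leaf 53130) (.leaf 238466)) (.leaf 148994)))))) (.node (.node (.node (.node (.node (.node (.leaf 264) (.leaf 155014)) (.node (.leaf 57476) (.leaf 250008))) (.node (.node (.leaf 28166) (.leaf 199937)) (.leaf 100870))) (.node (.node (.node (.leaf 8721) (.leaf 179076)) (.node (.leaf 76312) (.leaf 280962))) (.node (.node (.leaf 44308) (.leaf 224664)) (.leaf 127370)))) (.node (.node (.node (.node (.leaf 3736) (.leaf 164744)) (.node (.leaf 66200) (.leaf 268033))) (.node (.node (.leaf 36480) (.leaf 212872)) (.leaf 115850))) (.node (.node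 (.node (.leaf 12930) (.leaf 188422)) (.leaf 86548)) (.node (.node (.leaf 51216) (.leaf 236184)) (.leaf 146308))))) (.node (.node (.node (.node (.node (.leaf 1817) (.leaf 159492)) (.node (.leaf 63000) (.leaf 261506))) (.node (.node (.leaf 31897) (.leaf 204422)) (.leaf 107522))) (.node (.node (.node (.leaf 10649) (.leaf 183044)) (.leaf 82305)) (.node (.node (.leaf 47764) (.leaf 230790)) (.leaf 135576)))) (.node (.node (.node (.node (.leaf 6928) (.leaf 172696)) (.node (.leaf 70918) (.leaf 271624))) (.node (.node (.leaf 41739) (.leaf 218628)) (.leaf 123009))) (.node (.node (.node (.leaf 21000) (.leaf 193665)) (.leaf 93058)) (.node (.node (.leaf 53528) (.leaf 241536)) (.leaf 150424))))))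
def dP_32 : BT := .node (.node (.node (.node (.node (.node (.node (.leaf 136) (.leaf 154378)) (.node (.leaf 56578) (.leaf 248074))) (.node (.node (.leaf 27016) (.leaf 198274)) (.leaf 98712))) (.node (.node (.node (.leaf 8584) (.leaf 177290)) (.node (.leaf 74244) (.leaf 278666))) (.node (.node (.leaf 44056) (.leaf 223366)) (.leaf 126342)))) (.node (.node (.node (.node (.leaf 3352) (.leaf 163716)) (.node (.leaf 65944) (.leaf 265478))) (.node (.node (.leaf 36106) (.leaf 211462)) (.leaf 113160))) (.node (.node (.node (.leaf 12683) (.leaf 187274)) (.leaf 86276)) (.node (.node (.leaf 50072) (.leaf 234136)) (.leaf 144642))))) (.node (.node (.node (.node (.node (.leaf 1792) (.leaf 157958)) (.node (.leaf 61062) (.leaf 258440))) (.node (.node (.leaf 31512) (.leaf 203016)) (.leaf 105350))) (.node (.node (.node (.leaf 10507) (.leaf 181512)) (.leaf 81176)) (.node (.node (.leaf 47490) (.leaf 229126)) (.leaf 134424)))) (.node (.node (.node (.node (.leaf 6792) (.leaf 171274)) (.node (.leaf 70662) (.leaf 270726))) (.node (.node (.leaf 39192) (.leaf 216324))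 (.leaf 122496))) (.node (.node (.node (.leaf 15762) (.leaf 192774)) (.leaf 89752)) (.node (.node (.leaf 53377) (.leaf 240280)) (.leaf 150018)))))) (.node (.node (.node (.node (.node (.node (.leaf 920) (.leaf 156552)) (.node (.leaf 57736) (.leaf 252938))) (.node (.node (.leaf 28313) (.leaf 200580)) (.leaf 101892))) (.node (.node (.node (.leaf 8962) (.leaf 179466)) (.node (.leaf 79114) (.leaf 282008))) (.node (.node (.leaf 46232) (.leaf 226694)) (.leaf 132232)))) (.node (.node (.node (.node (.leaf 3979) (.leaf 165252)) (.node (.leaf 67864) (.leaf 268804))) (.node (.node (.leaf 36888) (.leaf 214296)) (.leaf 116362))) (.node (.node (.node (.leaf 14338) (.leaf 190337)) (.leaf 89092)) (.node (.node (.leaf 52228) (.leaf 237194)) (.leaf 147978))))) (.node (.node (.node (.node (.node (.leaf 2056) (.leaf 160408)) (.node (.leaf 64004) (.leaf 262794))) (.node (.node (.leaf 34692) (.leaf 205066)) (.leaf 108808))) (.node (.node (.node (.leaf 11009) (.leaf 184074)) (.leaf 83844)) (.node (.node (.leaf 49544) (.leaf 231814)) (.leaf 138240)))) (.node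 (.node (.node (.node (.leaf 7184) (.leaf 174337)) (.node (.leaf 72842) (.leaf 273665))) (.node (.node (.leaf 42891) (.leaf 220290)) (.leaf 123928))) (.node (.node (.node (.leaf 26264) (.leaf 194698)) (.leaf 96258)) (.node (.node (.leaf 53785) (.leaf 243584)) (.leaf 151304))))))
def dP_33 : BT := .node dP_31 dP_32
def dP_34 : BT := .node (.node (.node (.node (.node (.node (.node (.leaf 20) (.leaf 153984)) (.node (.leaf 56450) (.leaf 247688))) (.node (.node (.leaf 26900) (.leaf 197386)) (.leaf 97540))) (.node (.node (.node (.leaf 7449) (.leaf 176522)) (.node (.leaf 73990) (.leaf 277761))) (.node (.node (.leaf 43928) (.leaf 221826)) (.leaf 125450)))) (.node (.node (.node (.node (.leaf 2325) (.leaf 162698)) (.node (.leaf 65812) (.leaf 264584))) (.node (.node (.leaf 35224) (.leaf 208518)) (.leaf 112920))) (.node (.node (.node (.leaf 12560) (.leaf 186504)) (.leaf 85528)) (.node (.node (.leaf 50048) (.leaf 233602)) (.leaf 143882))))) (.node (.node (.node (.node (.node (.leaf 1680) (.leaf 157190)) (.node (.leaf 59008) (.leaf 257152))) (.node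 (.node (.leaf 30489) (.leaf 202250)) (.leaf 104968))) (.node (.node (.node (.leaf 10386) (.leaf 180994)) (.leaf 80664)) (.node (.node (.leaf 47366) (.leaf 228616)) (.leaf 134168)))) (.node (.node (.node (.node (.leaf 4626) (.leaf 170136)) (.node (.leaf 69890) (.leaf 270346))) (.node (.node (.leaf 38916) (.leaf 216072)) (.leaf 120832))) (.node (.node (.node (.leaf 15640) (.leaf 192536)) (.leaf 89604)) (.node (.node (.leaf 53256) (.leaf 239494)) (.leaf 149248)))))) (.node (.node (.node (.node (.node (.node (.leaf 281) (.leaf 155910)) (.node (.leaf 57600) (.leaf 251910))) (.node (.node (.leaf 28289) (.leaf 200198)) (.leaf 101656))) (.node (.node (.node (.leaf 8844) (.leaf 179332)) (.node (.leaf 77720) (.leaf 281496))) (.node (.node (.leaf 45314) (.leaf 225688)) (.leaf 128394)))) (.node (.node (.node (.node (.leaf 3854) (.leaf 164996)) (.node (.leaf 66442) (.leaf 268422))) (.node (.node (.leaf 36504) (.leaf 213256)) (.leaf 116104))) (.node (.node (.node (.leaf 12953) (.leaf 189185)) (.leaf 86794)) (.node (.node (.leaf 51481) (.leaf 236932))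 (.leaf 146968))))) (.node (.node (.node (.node (.node (.leaf 1936) (.leaf 160024)) (.node (.leaf 63878) (.leaf 262658))) (.node (.node (.leaf 34564) (.leaf 204804)) (.leaf 107800))) (.node (.node (.node (.leaf 10886) (.leaf 183306)) (.leaf 83592)) (.node (.node (.leaf 48648) (.leaf 231046)) (.leaf 137098)))) (.node (.node (.node (.node (.leaf 7052) (.leaf 173696)) (.node (.leaf 71064) (.leaf 273286))) (.node (.node (.leaf 42640) (.leaf 219778)) (.leaf 123780))) (.node (.node (.node (.leaf 22544) (.leaf 194440)) (.leaf 94210)) (.node (.node (.leaf 53656) (.leaf 242308)) (.leaf 151048))))))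
def dP_35 : BT := .node (.node (.node (.node (.node (.node (.node (.leaf 149) (.leaf 154628)) (.node (.leaf 57352) (.leaf 249856))) (.node (.node (.leaf 27929) (.leaf 199434)) (.leaf 99968))) (.node (.node (.node (.leaf 8601) (.leaf 178328)) (.node (.leaf 74392) (.leaf 279704))) (.node (.node (.leaf 44185) (.leaf 224262)) (.leaf 126602)))) (.node (.node (.node (.node (.leaf 3603) (.leaf 164120)) (.node (.leaf 66068) (.leaf 266758))) (.node (.node (.leaf 36244) (.leaf 212480)) (.leaf 115076))) (.node (.node (.node (.leaf 12811) (.leaf 188170)) (.leaf 86408)) (.node (.node (.leaf 51082) (.leaf 235032)) (.leaf 145408))))) (.node (.node (.node (.node (.node (.leaf 1806) (.leaf 158726)) (.node (.leaf 62086) (.leaf 259736))) (.node (.node (.leaf 31744) (.leaf 204034)) (.leaf 106374))) (.node (.node (.node (.leaf 10632) (.leaf 181890)) (.leaf 81414)) (.node (.node (.leaf 47624) (.leaf 230150)) (.leaf 135304)))) (.node (.node (.node (.node (.leaf 6809) (.leaf 172424)) (.node (.leaf 70792) (.leaf 271240))) (.node (.node (.leaf 41488) (.leaf 216970))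 (.leaf 122648))) (.node (.node (.node (.leaf 18824) (.leaf 193414)) (.leaf 92810)) (.node (.node (.leaf 53400) (.leaf 240920)) (.leaf 150282)))))) (.node (.node (.node (.node (.node (.node (.leaf 1546) (.leaf 156800)) (.node (.leaf 57867) (.leaf 254470))) (.node (.node (.leaf 30340) (.leaf 200714)) (.leaf 102152))) (.node (.node (.node (.leaf 9088) (.leaf 180096)) (.node (.leaf 79256) (.leaf 296458))) (.node (.node (.leaf 47120) (.leaf 227329)) (.leaf 132490)))) (.node (.node (.node (.node (.leaf 4107) (.leaf 169368)) (.node (.leaf 68100) (.leaf 269062))) (.node (.node (.leaf 37761) (.leaf 215562)) (.leaf 118532))) (.node (.node (.node (.leaf 15498) (.leaf 191624)) (.leaf 89226)) (.node (.node (.leaf 52353) (.leaf 237825)) (.leaf 148234))))) (.node (.node (.node (.node (.node (.leaf 2182) (.leaf 161032)) (.node (.leaf 64916) (.leaf 263300))) (.node (.node (.leaf 34818) (.leaf 206216)) (.leaf 109080))) (.node (.node (.node (.leaf 11032) (.leaf 184328)) (.leaf 84098)) (.node (.node (.leaf 49689) (.leaf 232576)) (.leaf 142858)))) (.node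 (.node (.node (.node (.leaf 7300) (.leaf 175748)) (.node (.leaf 73734) (.leaf 274954))) (.node (.node (.leaf 43012) (.leaf 220801)) (.leaf 124932))) (.node (.node (.node (.leaf 26393) (.leaf 194952)) (.leaf 97048)) (.node (.node (.leaf 54785) (.leaf 244888)) (.leaf 151960))))))
def dP_36 : BT := .node dP_34 dP_35
def dP_37 : BT := .node dP_33 dP_36
def dP_38 : BT := .node (.node (.node (.node (.node (.node (.node (.leaf 14) (.leaf 153474)) (.node (.leaf 56331) (.leaf 247050))) (.node (.node (.leaf 26884) (.leaf 197130)) (.leaf 97414))) (.node (.node (.node (.leaf 7430) (.leaf 176388)) (.node (.leaf 73880) (.leaf 277144))) (.node (.node (.leaf 43914) (.leaf 221444)) (.leaf 125316)))) (.node (.node (.node (.node (.leaf 2316) (.leaf 162689)) (.node (.leaf 65796) (.leaf 263944))) (.node (.node (.leaf 34960) (.leaf 208132)) (.leaf 110342))) (.node (.node (.node (.leaf 12550) (.leaf 186372)) (.leaf 85506)) (.node (.node (.leaf 49936) (.leaf 233345)) (.leaf 143626))))) (.node (.node (.node (.node (.node (.leaf 1672) (.leaf 157060)) (.node (.leaf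 58760) (.leaf 256776))) (.node (.node (.leaf 30472) (.leaf 201732)) (.leaf 104838))) (.node (.node (.node (.leaf 10374) (.leaf 180868)) (.leaf 80260)) (.node (.node (.leaf 47257) (.leaf 227978)) (.leaf 134026)))) (.node (.node (.node (.node (.leaf 4249) (.leaf 170114)) (.node (.leaf 69016) (.leaf 270080))) (.node (.node (.leaf 37892) (.leaf 216064)) (.leaf 120708))) (.node (.node (.node (.leaf 15624) (.leaf 192514)) (.leaf 89480)) (.node (.node (.leaf 53144) (.leaf 239000)) (.leaf 149016)))))) (.node (.node (.node (.node (.node (.node (.leaf 275) (.leaf 155784)) (.node (.leaf 57488) (.leaf 250374))) (.node (.node (.leaf 28180) (.leaf 200070)) (.leaf 101636))) (.node (.node (.node (.leaf 8729) (.leaf 179210)) (.node (.leaf 77194) (.leaf 281352))) (.node (.node (.leaf 44417) (.leaf 225418)) (.leaf 127618)))) (.node (.node (.node (.node (.leaf 3846) (.leaf 164870)) (.node (.leaf 66320) (.leaf 268294))) (.node (.node (.leaf 36486) (.leaf 213128)) (.leaf 115976))) (.node (.node (.node (.leaf 12944) (.leaf 188952)) (.leaf 86666)) (.node (.node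 (.leaf 51328) (.leaf 236676)) (.leaf 146822))))) (.node (.node (.node (.node (.node (.leaf 1930) (.leaf 159640)) (.node (.leaf 63112) (.leaf 261892))) (.node (.node (.leaf 32153) (.leaf 204680)) (.leaf 107652))) (.node (.node (.node (.leaf 10769) (.leaf 183176)) (.leaf 82312)) (.node (.node (.leaf 48518) (.leaf 230914)) (.leaf 136586)))) (.node (.node (.node (.node (.leaf 6936) (.leaf 173322)) (.node (.leaf 71042) (.leaf 272650))) (.node (.node (.leaf 41753) (.leaf 218886)) (.leaf 123016))) (.node (.node (.node (.leaf 22280) (.leaf 193802)) (.leaf 93080)) (.node (.node (.leaf 53642) (.leaf 241921)) (.leaf 150920))))))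
def dP_39 : BT := .node (.node (.node (.node (.node (.node (.node (.leaf 145) (.leaf 154506)) (.node (.leaf 56729) (.leaf 248330))) (.node (.node (.leaf 27915) (.leaf 198660)) (.leaf 98945))) (.node (.node (.node (.leaf 8594) (.leaf 178048)) (.node (.leaf 74260) (.leaf 279174))) (.node (.node (.leaf 44171) (.leaf 224008)) (.leaf 126472)))) (.node (.node (.node (.node (.leaf 3592) (.leaf 163846)) (.node (.leaf 66054) (.leaf 265864))) (.node (.node (.leaf 36120) (.leaf 211848)) (.leaf 114200))) (.node (.node (.node (.leaf 12696) (.leaf 187910)) (.leaf 86400)) (.node (.node (.leaf 50178) (.leaf 234392)) (.leaf 144664))))) (.node (.node (.node (.node (.node (.leaf 1800) (.leaf 158592)) (.node (.leaf 61840) (.leaf 259714))) (.node (.node (.leaf 31624) (.leaf 203288)) (.leaf 106242))) (.node (.node (.node (.leaf 10520) (.leaf 181642)) (.leaf 81408)) (.node (.node (.leaf 47499) (.leaf 229400)) (.leaf 135178)))) (.node (.node (.node (.node (.leaf 6800) (.leaf 172032)) (.node (.leaf 70676) (.leaf 271114))) (.node (.node (.leaf 41478) (.leaf 216472))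 (.leaf 122504))) (.node (.node (.node (.leaf 18692) (.leaf 192906)) (.leaf 91416)) (.node (.node (.leaf 53386) (.leaf 240898)) (.leaf 150040)))))) (.node (.node (.node (.node (.node (.node (.leaf 1538) (.leaf 156676)) (.node (.leaf 57748) (.leaf 254232))) (.node (.node (.leaf 28420) (.leaf 200705)) (.leaf 101912))) (.node (.node (.node (.leaf 8980) (.leaf 179608)) (.node (.leaf 79234) (.leaf 282246))) (.node (.node (.leaf 47110) (.leaf 226954)) (.leaf 132358)))) (.node (.node (.node (.node (.leaf 3992) (.leaf 166168)) (.node (.leaf 67992) (.leaf 268934))) (.node (.node (.leaf 37652) (.leaf 215044)) (.leaf 118404))) (.node (.node (.node (.leaf 14470) (.leaf 190344)) (.leaf 89112)) (.node (.node (.leaf 52244) (.leaf 237336)) (.leaf 148104))))) (.node (.node (.node (.node (.node (.leaf 2066) (.leaf 160640)) (.node (.leaf 64280) (.leaf 262922))) (.node (.node (.leaf 34704) (.leaf 205704)) (.leaf 108952))) (.node (.node (.node (.leaf 11016) (.leaf 184321)) (.leaf 83988)) (.node (.node (.leaf 49675) (.leaf 232192)) (.leaf 138880)))) (.node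 (.node (.node (.node (.leaf 7193) (.leaf 174360)) (.node (.leaf 72980) (.leaf 274200))) (.node (.node (.leaf 42905) (.leaf 220550)) (.leaf 124162))) (.node (.node (.node (.leaf 26379) (.leaf 194824)) (.leaf 96280)) (.node (.node (.leaf 54658) (.leaf 244098)) (.leaf 151818))))))
def dP_40 : BT := .node dP_38 dP_39
def dP_41 : BT := .node (.node (.node (.node (.node (.node (.node (.leaf 129) (.leaf 154008)) (.node (.leaf 56468) (.leaf 247937))) (.node (.node (.leaf 27009) (.leaf 197768)) (.leaf 97674))) (.node (.node (.node (.leaf 8344) (.leaf 176650)) (.node (.leaf 74004) (.leaf 277768))) (.node (.node (.leaf 44042) (.leaf 222346)) (.leaf 125570)))) (.node (.node (.node (.node (.leaf 2453) (.leaf 163208)) (.node (.leaf 65928) (.leaf 265220))) (.node (.node (.leaf 36096) (.leaf 209670)) (.leaf 113153))) (.node (.node (.node (.leaf 12569) (.leaf 186648)) (.leaf 86154)) (.node (.node (.leaf 50054) (.leaf 233624)) (.leaf 144522))))) (.node (.node (.node (.node (.node (.leaf 1684) (.leaf 157698)) (.node (.leaf 60166) (.leaf 257798))) (.node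 (.node (.leaf 30598) (.leaf 202632)) (.leaf 105112))) (.node (.node (.node (.leaf 10500) (.leaf 181016)) (.leaf 81034)) (.node (.node (.leaf 47376) (.leaf 228864)) (.leaf 134401)))) (.node (.node (.node (.node (.leaf 6784) (.leaf 170762)) (.node (.leaf 69908) (.leaf 270616))) (.node (.node (.leaf 39040) (.leaf 216198)) (.leaf 120842))) (.node (.node (.node (.leaf 15746) (.leaf 192648)) (.leaf 89624)) (.node (.node (.leaf 53268) (.leaf 240134)) (.leaf 149272)))))) (.node (.node (.node (.node (.node (.node (.leaf 405) (.leaf 156038)) (.node (.leaf 57624) (.leaf 252298))) (.node (.node (.leaf 28296) (.leaf 200452)) (.leaf 101770))) (.node (.node (.node (.leaf 8852) (.leaf 179352)) (.node (.leaf 78992) (.leaf 281862))) (.node (.node (.leaf 46218) (.leaf 225944)) (.leaf 132106)))) (.node (.node (.node (.node (.leaf 3865) (.leaf 165126)) (.node (.leaf 67844) (.leaf 268548))) (.node (.node (.leaf 36610) (.leaf 214018)) (.leaf 116232))) (.node (.node (.node (.leaf 13060) (.leaf 189192)) (.leaf 88456)) (.node (.node (.leaf 52121) (.leaf 237080))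 (.leaf 147968))))) (.node (.node (.node (.node (.node (.leaf 1940) (.leaf 160134)) (.node (.leaf 63896) (.leaf 262784))) (.node (.node (.leaf 34576) (.leaf 204936)) (.leaf 108678))) (.node (.node (.node (.leaf 10897) (.leaf 183554)) (.leaf 83718)) (.node (.node (.leaf 48904) (.leaf 231686)) (.leaf 137368)))) (.node (.node (.node (.node (.leaf 7174) (.leaf 173702)) (.node (.leaf 71184) (.leaf 273414))) (.node (.node (.leaf 42768) (.leaf 219800)) (.leaf 123906))) (.node (.node (.node (.leaf 26250) (.leaf 194570)) (.leaf 96138)) (.node (.node (.leaf 53771) (.leaf 242824)) (.leaf 151178))))))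
def dP_42 : BT := .node (.node (.node (.node (.node (.node (.node (.leaf 257) (.leaf 154884)) (.node (.leaf 57364) (.leaf 249986))) (.node (.node (.leaf 28048) (.leaf 199812)) (.leaf 99992))) (.node (.node (.node (.leaf 8714) (.leaf 178692)) (.node (.leaf 75800) (.leaf 280202))) (.node (.node (.leaf 44292) (.leaf 224522)) (.leaf 126726)))) (.node (.node (.node (.node (.leaf 3714) (.leaf 164618)) (.node (.leaf 66184) (.leaf 267010))) (.node (.node (.leaf 36363) (.leaf 212486)) (.leaf 115842))) (.node (.node (.node (.leaf 12824) (.leaf 188416)) (.leaf 86530)) (.node (.node (.leaf 51200) (.leaf 235778)) (.leaf 146186))))) (.node (.node (.node (.node (.node (.leaf 1811) (.leaf 158978)) (.node (.leaf 62986) (.leaf 260120))) (.node (.node (.leaf 31768) (.leaf 204416)) (.leaf 107272))) (.node (.node (.node (.leaf 10641) (.leaf 182408)) (.leaf 82186)) (.node (.node (.leaf 47750) (.leaf 230296)) (.leaf 135434)))) (.node (.node (.node (.node (.leaf 6922) (.leaf 172674)) (.node (.leaf 70808) (.leaf 271617))) (.node (.node (.leaf 41604) (.leaf 217862))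 (.leaf 122776))) (.node (.node (.node (.leaf 20744) (.leaf 193544)) (.leaf 92948)) (.node (.node (.leaf 53512) (.leaf 241282)) (.leaf 150402)))))) (.node (.node (.node (.node (.node (.node (.leaf 1553) (.leaf 156808)) (.node (.leaf 57994) (.leaf 254872))) (.node (.node (.leaf 30356) (.leaf 200842)) (.leaf 102282))) (.node (.node (.node (.leaf 9109) (.leaf 180234)) (.leaf 80010)) (.node (.node (.leaf 47234) (.leaf 227714)) (.leaf 133892)))) (.node (.node (.node (.node (.leaf 4117) (.leaf 169476)) (.node (.leaf 68116) (.leaf 269572))) (.node (.node (.leaf 37768) (.leaf 215816)) (.leaf 118666))) (.node (.node (.node (.leaf 15508) (.leaf 192002)) (.leaf 89345)) (.node (.node (.leaf 53122) (.leaf 237848)) (.leaf 148360))))) (.node (.node (.node (.node (.node (.leaf 2190) (.leaf 161304)) (.node (.leaf 65026) (.leaf 263432))) (.node (.node (.leaf 34827) (.leaf 207238)) (.leaf 109720))) (.node (.node (.node (.leaf 11138) (.leaf 184728)) (.leaf 84116)) (.node (.node (.leaf 49803) (.leaf 232582)) (.leaf 142978)))) (.node (.node (.node (.node (.leaf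 7316) (.leaf 176134)) (.node (.leaf 73748) (.leaf 275848))) (.node (.node (.leaf 43028) (.leaf 220808)) (.leaf 124952))) (.node (.node (.node (.leaf 26763) (.leaf 195462)) (.leaf 97162)) (.node (.node (.leaf 54918) (.leaf 245512)) (.leaf 152704))))))
def dP_43 : BT := .node dP_41 dP_42
def dP_44 : BT := .node dP_40 dP_43
def dP_45 : BT := .node dP_37 dP_44
def dP_46 : BT := .node (.node (.node (.node (.node (.node (.node (.leaf 12) (.leaf 153226)) (.node (.leaf 56322) (.leaf 246912))) (.node (.node (.leaf 26881) (.leaf 197126)) (.leaf 97304))) (.node (.node (.node (.leaf 7426) (.leaf 176266)) (.node (.leaf 73872) (.leaf 276482))) (.node (.node (.leaf 43910) (.leaf 221441)) (.leaf 125190)))) (.node (.node (.node (.node (.leaf 2200) (.leaf 162310)) (.node (.leaf 65048) (.leaf 263936))) (.node (.node (.leaf 34954) (.leaf 208128)) (.leaf 110338))) (.node (.node (.node (.leaf 12544) (.leaf 186368)) (.leaf 84888)) (.node (.node (.leaf 49930) (.leaf 233112)) (.leaf 143620))))) (.node (.node (.node (.node (.node (.leaf 1666) (.leaf 156938))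 (.node (.leaf 58756) (.leaf 256516))) (.node (.node (.leaf 30468) (.leaf 201729)) (.leaf 104088))) (.node (.node (.node (.leaf 10136) (.leaf 180864)) (.leaf 80256)) (.node (.node (.leaf 47252) (.leaf 227969)) (.leaf 134022)))) (.node (.node (.node (.node (.leaf 4243) (.leaf 170112)) (.node (.leaf 69000) (.leaf 269832))) (.node (.node (.leaf 37889) (.leaf 215946)) (.leaf 120600))) (.node (.node (.node (.leaf 15620) (.leaf 192394)) (.leaf 89474)) (.node (.node (.leaf 53136) (.leaf 238977)) (.leaf 149000)))))) (.node (.node (.node (.node (.node (.node (.leaf 270) (.leaf 155777)) (.node (.leaf 57482) (.leaf 250368))) (.node (.node (.leaf 28171) (.leaf 199960)) (.leaf 100888))) (.node (.node (.node (.leaf 8724) (.leaf 179080)) (.node (.leaf 76568) (.leaf 281344))) (.node (.node (.leaf 44313) (.leaf 224792)) (.leaf 127494)))) (.node (.node (.node (.node (.leaf 3841) (.leaf 164760)) (.node (.leaf 66312) (.leaf 268161))) (.node (.node (.leaf 36482) (.leaf 213124)) (.leaf 115970))) (.node (.node (.node (.leaf 12934) (.leaf 188440)) (.leaf 86660))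 (.node (.node (.leaf 51224) (.leaf 236672)) (.leaf 146328))))) (.node (.node (.node (.node (.node (.leaf 1926) (.leaf 159498)) (.node (.leaf 63106) (.leaf 261766))) (.node (.node (.leaf 32024) (.leaf 204440)) (.leaf 107528))) (.node (.node (.node (.leaf 10760) (.leaf 183064)) (.leaf 82308)) (.node (.node (.leaf 47769) (.leaf 230794)) (.leaf 136344)))) (.node (.node (.node (.node (.leaf 6930) (.leaf 172810)) (.node (.leaf 70922) (.leaf 272262))) (.node (.node (.leaf 41748) (.leaf 218881)) (.leaf 123012))) (.node (.node (.node (.leaf 22273) (.leaf 193672)) (.leaf 93062)) (.node (.node (.leaf 53636) (.leaf 241688)) (.leaf 150913))))))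
def dP_47 : BT := .node (.node (.node (.node (.node (.node (.node (.leaf 142) (.leaf 154500)) (.node (.leaf 56584) (.leaf 248196))) (.node (.node (.leaf 27912) (.leaf 198296)) (.leaf 98840))) (.node (.node (.node (.leaf 8592) (.leaf 177802)) (.node (.leaf 74250) (.leaf 279050))) (.node (.node (.leaf 44166) (.leaf 223752)) (.leaf 126346)))) (.node (.node (.node (.node (.leaf 3588) (.leaf 163722)) (.node (.leaf 66049) (.leaf 265496))) (.node (.node (.leaf 36112) (.leaf 211736)) (.leaf 113944))) (.node (.node (.node (.leaf 12690) (.leaf 187528)) (.leaf 86282)) (.node (.node (.leaf 50176) (.leaf 234248)) (.leaf 144646))))) (.node (.node (.node (.node (.node (.leaf 1796) (.leaf 158082)) (.node (.leaf 61830) (.leaf 259712))) (.node (.node (.leaf 31618) (.leaf 203265)) (.leaf 106116))) (.node (.node (.node (.leaf 10514) (.leaf 181638)) (.leaf 81300)) (.node (.node (.leaf 47496) (.leaf 229258)) (.leaf 135169)))) (.node (.node (.node (.node (.leaf 6795) (.leaf 171914)) (.node (.leaf 70666) (.leaf 270744))) (.node (.node (.leaf 39320) (.leaf 216330))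 (.leaf 122500))) (.node (.node (.node (.leaf 18688) (.leaf 192900)) (.leaf 91160)) (.node (.node (.leaf 53382) (.leaf 240650)) (.leaf 150024)))))) (.node (.node (.node (.node (.node (.node (.leaf 1042) (.leaf 156568)) (.node (.leaf 57739) (.leaf 253574))) (.node (.node (.leaf 28417) (.leaf 200600)) (.leaf 101896))) (.node (.node (.node (.leaf 8968) (.leaf 179592)) (.node (.leaf 79124) (.leaf 282240))) (.node (.node (.leaf 47106) (.leaf 226944)) (.leaf 132248)))) (.node (.node (.node (.node (.leaf 3986) (.leaf 165272)) (.node (.leaf 67978) (.leaf 268824))) (.node (.node (.leaf 37642) (.leaf 214790)) (.leaf 116504))) (.node (.node (.node (.leaf 14352) (.leaf 190340)) (.leaf 89098)) (.node (.node (.leaf 52232) (.leaf 237316)) (.leaf 148098))))) (.node (.node (.node (.node (.node (.leaf 2059) (.leaf 160522)) (.node (.leaf 64020) (.leaf 262918))) (.node (.node (.leaf 34698) (.leaf 205697)) (.leaf 108934))) (.node (.node (.node (.leaf 11012) (.leaf 184202)) (.leaf 83864)) (.node (.node (.leaf 49672) (.leaf 231946)) (.leaf 138762)))) (.node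 (.node (.node (.node (.leaf 7188) (.leaf 174340)) (.node (.leaf 72964) (.leaf 274056))) (.node (.node (.leaf 42900) (.leaf 220417)) (.leaf 124042))) (.node (.node (.node (.leaf 26376) (.leaf 194818)) (.leaf 96262)) (.node (.node (.leaf 54534) (.leaf 243842)) (.leaf 151810))))))
def dP_48 : BT := .node dP_46 dP_47
def dP_49 : BT := .node (.node (.node (.node (.node (.node (.node (.leaf 25) (.leaf 153988)) (.node (.leaf 56456) (.leaf 247812))) (.node (.node (.leaf 26905) (.leaf 197510)) (.leaf 97560))) (.node (.node (.node (.leaf 7576) (.leaf 176644)) (.node (.leaf 73994) (.leaf 277764))) (.node (.node (.leaf 44036) (.leaf 222080)) (.leaf 125568)))) (.node (.node (.node (.node (.leaf 2450) (.leaf 163078)) (.node (.leaf 65922) (.leaf 264832))) (.node (.node (.leaf 35608) (.leaf 209162)) (.leaf 113048))) (.node (.node (.node (.leaf 12564) (.leaf 186520)) (.leaf 86148)) (.node (.node (.leaf 50050) (.leaf 233606)) (.leaf 144010))))) (.node (.node (.node (.node (.node (.leaf 1682) (.leaf 157208)) (.node (.leaf 59398) (.leaf 257156))) (.node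 (.node (.leaf 30593) (.leaf 202376)) (.leaf 105092))) (.node (.node (.node (.leaf 10392) (.leaf 181000)) (.leaf 81030)) (.node (.node (.leaf 47370) (.leaf 228632)) (.leaf 134282)))) (.node (.node (.node (.node (.leaf 5657) (.leaf 170758)) (.node (.leaf 69894) (.leaf 270598))) (.node (.node (.leaf 38922) (.leaf 216088)) (.leaf 120836))) (.node (.node (.node (.leaf 15744) (.leaf 192644)) (.leaf 89610)) (.node (.node (.leaf 53259) (.leaf 239880)) (.leaf 149252)))))) (.node (.node (.node (.node (.node (.node (.leaf 398) (.leaf 155914)) (.node (.leaf 57606) (.leaf 252294))) (.node (.node (.leaf 28292) (.leaf 200216)) (.leaf 101764))) (.node (.node (.node (.leaf 8849) (.leaf 179336)) (.node (.leaf 78984) (.leaf 281624))) (.node (.node (.leaf 45446) (.leaf 225926)) (.leaf 132100)))) (.node (.node (.node (.node (.leaf 3859) (.leaf 165002)) (.node (.leaf 66452) (.leaf 268440))) (.node (.node (.leaf 36608) (.leaf 213506)) (.leaf 116226))) (.node (.node (.node (.leaf 13057) (.leaf 189188)) (.leaf 86808)) (.node (.node (.leaf 52107) (.leaf 237060))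 (.leaf 147338))))) (.node (.node (.node (.node (.node (.leaf 1938) (.leaf 160129)) (.node (.leaf 63888) (.leaf 262664))) (.node (.node (.leaf 34570) (.leaf 204930)) (.leaf 108672))) (.node (.node (.node (.leaf 10891) (.leaf 183448)) (.leaf 83604)) (.node (.node (.leaf 48772) (.leaf 231556)) (.leaf 137226)))) (.node (.node (.node (.node (.leaf 7064) (.leaf 173698)) (.node (.leaf 71176) (.leaf 273408))) (.node (.node (.leaf 42756) (.leaf 219784)) (.leaf 123786))) (.node (.node (.node (.leaf 24464) (.leaf 194564)) (.leaf 94216)) (.node (.node (.leaf 53766) (.leaf 242820)) (.leaf 151064))))))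
def dP_50 : BT := .node (.node (.node (.node (.node (.node (.node (.leaf 153) (.leaf 154648)) (.node (.leaf 57355) (.leaf 249864))) (.node (.node (.leaf 28042) (.leaf 199562)) (.leaf 99972))) (.node (.node (.node (.leaf 8710) (.leaf 178689)) (.node (.leaf 75544) (.leaf 280088))) (.node (.node (.leaf 44289) (.leaf 224514)) (.leaf 126721)))) (.node (.node (.node (.node (.leaf 3608) (.leaf 164614)) (.node (.leaf 66178) (.leaf 266890))) (.node (.node (.leaf 36249) (.leaf 212482)) (.leaf 115080))) (.node (.node (.node (.leaf 12818) (.leaf 188292)) (.leaf 86420)) (.node (.node (.leaf 51096) (.leaf 235776)) (.leaf 145560))))) (.node (.node (.node (.node (.node (.leaf 1809) (.leaf 158744)) (.node (.leaf 62722) (.leaf 260096))) (.node (.node (.leaf 31750) (.leaf 204056)) (.leaf 106392))) (.node (.node (.node (.leaf 10635) (.leaf 182402)) (.leaf 81428)) (.node (.node (.leaf 47632) (.leaf 230168)) (.leaf 135320)))) (.node (.node (.node (.node (.leaf 6918) (.leaf 172554)) (.node (.leaf 70800) (.leaf 271512))) (.node (.node (.leaf 41496) (.leaf 217222))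 (.leaf 122760))) (.node (.node (.node (.leaf 19078) (.leaf 193418)) (.leaf 92824)) (.node (.node (.leaf 53506) (.leaf 241176)) (.leaf 150400)))))) (.node (.node (.node (.node (.node (.node (.leaf 1548) (.leaf 156804)) (.node (.leaf 57881) (.leaf 254848))) (.node (.node (.leaf 30347) (.leaf 200836)) (.leaf 102168))) (.node (.node (.node (.leaf 9092) (.leaf 180230)) (.leaf 80006)) (.node (.node (.leaf 47128) (.leaf 227712)) (.leaf 133888)))) (.node (.node (.node (.node (.leaf 4114) (.leaf 169473)) (.node (.leaf 68104) (.leaf 269080))) (.node (.node (.leaf 37764) (.leaf 215812)) (.leaf 118658))) (.node (.node (.node (.leaf 15504) (.leaf 192000)) (.leaf 89240)) (.node (.node (.leaf 52504) (.leaf 237832)) (.leaf 148354))))) (.node (.node (.node (.node (.node (.leaf 2187) (.leaf 161048)) (.node (.leaf 65024) (.leaf 263320))) (.node (.node (.leaf 34824) (.leaf 206346)) (.leaf 109702))) (.node (.node (.node (.leaf 11136) (.leaf 184706)) (.leaf 84102)) (.node (.node (.leaf 49800) (.leaf 232578)) (.leaf 142976)))) (.node (.node (.node (.node (.leaf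 7304) (.leaf 176130)) (.node (.leaf 73738) (.leaf 275200))) (.node (.node (.leaf 43016) (.leaf 220804)) (.leaf 124936))) (.node (.node (.node (.leaf 26758) (.leaf 195078)) (.leaf 97156)) (.node (.node (.leaf 54792) (.leaf 245256)) (.leaf 152586))))))
def dP_51 : BT := .node dP_49 dP_50
def dP_52 : BT := .node dP_48 dP_51
def dP_53 : BT := .node (.node (.node (.node (.node (.node (.node (.leaf 16) (.leaf 153480)) (.node (.leaf 56345) (.leaf 247682))) (.node (.node (.leaf 26888) (.leaf 197252)) (.leaf 97418))) (.node (.node (.node (.leaf 7444) (.leaf 176514)) (.node (.leaf 73985) (.leaf 277272))) (.node (.node (.leaf 43920) (.leaf 221696)) (.leaf 125322)))) (.node (.node (.node (.node (.leaf 2322) (.leaf 162694)) (.node (.leaf 65802) (.leaf 264328))) (.node (.node (.leaf 34968) (.leaf 208392)) (.leaf 110360))) (.node (.node (.node (.leaf 12554) (.leaf 186498)) (.leaf 85512)) (.node (.node (.leaf 49944) (.leaf 233600)) (.leaf 143878))))) (.node (.node (.node (.node (.node (.leaf 1675) (.leaf 157066)) (.node (.leaf 58884) (.leaf 256902)))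 (.node (.node (.leaf 30484) (.leaf 201994)) (.leaf 104962))) (.node (.node (.node (.leaf 10384) (.leaf 180874)) (.leaf 80276)) (.node (.node (.leaf 47361) (.leaf 228120)) (.leaf 134148)))) (.node (.node (.node (.node (.leaf 4372) (.leaf 170118)) (.node (.leaf 69888) (.leaf 270337))) (.node (.node (.leaf 37896) (.leaf 216068)) (.leaf 120714))) (.node (.node (.node (.leaf 15634) (.leaf 192520)) (.leaf 89492)) (.node (.node (.leaf 53250) (.leaf 239366)) (.leaf 149130)))))) (.node (.node (.node (.node (.node (.node (.leaf 277) (.leaf 155800)) (.node (.leaf 57496) (.leaf 251268))) (.node (.node (.leaf 28185) (.leaf 200074)) (.leaf 101640))) (.node (.node (.node (.leaf 8842) (.leaf 179328)) (.node (.leaf 77313) (.leaf 281473))) (.node (.node (.leaf 44422) (.leaf 225544)) (.leaf 127624)))) (.node (.node (.node (.node (.leaf 3851) (.leaf 164874)) (.node (.leaf 66328) (.leaf 268298))) (.node (.node (.leaf 36496) (.leaf 213250)) (.leaf 115992))) (.node (.node (.node (.leaf 12948) (.leaf 189080)) (.leaf 86680)) (.node (.node (.leaf 51332) (.leaf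 236680)) (.leaf 146826))))) (.node (.node (.node (.node (.node (.leaf 1932) (.leaf 159896)) (.node (.leaf 63124) (.leaf 262024))) (.node (.node (.leaf 33152) (.leaf 204696)) (.leaf 107782))) (.node (.node (.node (.leaf 10772) (.leaf 183192)) (.leaf 82328)) (.node (.node (.leaf 48532) (.leaf 230936)) (.leaf 137088)))) (.node (.node (.node (.node (.leaf 7048) (.leaf 173444)) (.node (.leaf 71050) (.leaf 273282))) (.node (.node (.leaf 42630) (.leaf 219658)) (.leaf 123776))) (.node (.node (.node (.leaf 22416) (.leaf 194184)) (.leaf 94208)) (.node (.node (.leaf 53648) (.leaf 242304)) (.leaf 150936))))))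
def dP_54 : BT := .node (.node (.node (.node (.node (.node (.node (.leaf 147) (.leaf 154624)) (.node (.leaf 57348) (.leaf 249730))) (.node (.node (.leaf 27924) (.leaf 199320)) (.leaf 98950))) (.node (.node (.node (.leaf 8597) (.leaf 178050)) (.node (.leaf 74374) (.leaf 279304))) (.node (.node (.leaf 44180) (.leaf 224256)) (.leaf 126488)))) (.node (.node (.node (.node (.leaf 3597) (.leaf 164098)) (.node (.leaf 66058) (.leaf 265880))) (.node (.node (.leaf 36234) (.leaf 211864)) (.leaf 115073))) (.node (.node (.node (.leaf 12806) (.leaf 188162)) (.leaf 86404)) (.node (.node (.leaf 50184) (.leaf 234888)) (.leaf 145176))))) (.node (.node (.node (.node (.node (.leaf 1803) (.leaf 158602)) (.node (.leaf 61960) (.leaf 259718))) (.node (.node (.leaf 31640) (.leaf 203914)) (.leaf 106248))) (.node (.node (.node (.leaf 10626) (.leaf 181770)) (.leaf 81410)) (.node (.node (.leaf 47513) (.leaf 229784)) (.leaf 135298)))) (.node (.node (.node (.node (.leaf 6804) (.leaf 172038)) (.node (.leaf 70786) (.leaf 271234))) (.node (.node (.leaf 41482) (.leaf 216842))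 (.leaf 122632))) (.node (.node (.node (.leaf 18706) (.leaf 193034)) (.leaf 91800)) (.node (.node (.leaf 53392) (.leaf 240902)) (.leaf 150152)))))) (.node (.node (.node (.node (.node (.node (.leaf 1542) (.leaf 156682)) (.node (.leaf 57753) (.leaf 254360))) (.node (.node (.leaf 28824) (.leaf 200710)) (.leaf 102040))) (.node (.node (.node (.leaf 8984) (.leaf 179722)) (.node (.leaf 79240) (.leaf 282502))) (.node (.node (.leaf 47114) (.leaf 227082)) (.leaf 132362)))) (.node (.node (.node (.node (.leaf 4100) (.leaf 166920)) (.node (.leaf 68097) (.leaf 268938))) (.node (.node (.leaf 37657) (.leaf 215174)) (.leaf 118410))) (.node (.node (.node (.leaf 14482) (.leaf 191618)) (.leaf 89220)) (.node (.node (.leaf 52249) (.leaf 237592)) (.leaf 148120))))) (.node (.node (.node (.node (.node (.leaf 2072) (.leaf 160664)) (.node (.leaf 64906) (.leaf 263064))) (.node (.node (.leaf 34712) (.leaf 205834)) (.leaf 109060))) (.node (.node (.node (.leaf 11026) (.leaf 184324)) (.leaf 84096)) (.node (.node (.leaf 49684) (.leaf 232196)) (.leaf 138904)))) (.node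 (.node (.node (.node (.leaf 7297) (.leaf 174872)) (.node (.leaf 73730) (.leaf 274328))) (.node (.node (.leaf 43009) (.leaf 220696)) (.leaf 124168))) (.node (.node (.node (.leaf 26388) (.leaf 194840)) (.leaf 97028)) (.node (.node (.leaf 54664) (.leaf 244356)) (.leaf 151942))))))
def dP_55 : BT := .node dP_53 dP_54
def dP_56 : BT := .node (.node (.node (.node (.node (.node (.node (.leaf 132) (.leaf 154372)) (.node (.leaf 56473) (.leaf 248070))) (.node (.node (.leaf 27012) (.leaf 198154)) (.leaf 98692))) (.node (.node (.node (.leaf 8577) (.leaf 177162)) (.node (.leaf 74118) (.leaf 278274))) (.node (.node (.leaf 44048) (.leaf 222488)) (.leaf 126336)))) (.node (.node (.node (.node (.leaf 2576) (.leaf 163712)) (.node (.leaf 65936) (.leaf 265346))) (.node (.node (.leaf 36102) (.leaf 211082)) (.leaf 113156))) (.node (.node (.node (.leaf 12680) (.leaf 187266)) (.leaf 86168)) (.node (.node (.leaf 50064) (.leaf 234113)) (.leaf 144640))))) (.node (.node (.node (.node (.node (.leaf 1688) (.leaf 157832)) (.node (.leaf 60934) (.leaf 257928))) (.node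 (.node (.leaf 31492) (.leaf 202760)) (.leaf 105226))) (.node (.node (.node (.leaf 10504) (.leaf 181504)) (.leaf 81162)) (.node (.node (.leaf 47384) (.leaf 228872)) (.leaf 134404)))) (.node (.node (.node (.node (.leaf 6788) (.leaf 170890)) (.node (.leaf 70658) (.leaf 270722))) (.node (.node (.leaf 39064) (.leaf 216202)) (.leaf 120966))) (.node (.node (.node (.leaf 15750) (.leaf 192664)) (.leaf 89738)) (.node (.node (.leaf 53273) (.leaf 240258)) (.leaf 149768)))))) (.node (.node (.node (.node (.node (.node (.leaf 532) (.leaf 156546)) (.node (.leaf 57730) (.leaf 252568))) (.node (.node (.leaf 28308) (.leaf 200472)) (.leaf 101888))) (.node (.node (.node (.leaf 8857) (.leaf 179462)) (.node (.leaf 79000) (.leaf 281988))) (.node (.node (.leaf 46224) (.leaf 226566)) (.leaf 132225)))) (.node (.node (.node (.node (.leaf 3974) (.leaf 165249)) (.node (.leaf 67850) (.leaf 268800))) (.node (.node (.leaf 36614) (.leaf 214274)) (.leaf 116248))) (.node (.node (.node (.leaf 13064) (.leaf 189720)) (.leaf 88472)) (.node (.node (.leaf 52225) (.leaf 237190))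 (.leaf 147972))))) (.node (.node (.node (.node (.node (.leaf 1945) (.leaf 160385)) (.node (.leaf 64001) (.leaf 262788))) (.node (.node (.leaf 34584) (.leaf 204952)) (.leaf 108696))) (.node (.node (.node (.leaf 10900) (.leaf 184068)) (.leaf 83722)) (.node (.node (.leaf 49158) (.leaf 231809)) (.leaf 137474)))) (.node (.node (.node (.node (.leaf 7179) (.leaf 173720)) (.node (.leaf 71192) (.leaf 273560))) (.node (.node (.leaf 42886) (.leaf 220034)) (.leaf 123912))) (.node (.node (.node (.leaf 26256) (.leaf 194692)) (.leaf 96256)) (.node (.node (.leaf 53780) (.leaf 243206)) (.leaf 151296))))))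
def dP_57 : BT := .node (.node (.node (.node (.node (.node (.node (.leaf 260) (.leaf 154890)) (.node (.leaf 57369) (.leaf 249992))) (.node (.node (.leaf 28056) (.leaf 199818)) (.leaf 100865))) (.node (.node (.node (.leaf 8716) (.leaf 178696)) (.node (.leaf 76170) (.leaf 280584))) (.node (.node (.leaf 44296) (.leaf 224646)) (.leaf 127362)))) (.node (.node (.node (.node (.leaf 3720) (.leaf 164740)) (.node (.leaf 66192) (.leaf 267402))) (.node (.node (.leaf 36376) (.leaf 212866)) (.leaf 115846))) (.node (.node (.node (.leaf 12928) (.leaf 188418)) (.leaf 86536)) (.node (.node (.leaf 51204) (.leaf 235782)) (.leaf 146304))))) (.node (.node (.node (.node (.node (.leaf 1813) (.leaf 158984)) (.node (.leaf 62992) (.leaf 261122))) (.node (.node (.leaf 31892) (.leaf 204418)) (.leaf 107398))) (.node (.node (.node (.leaf 10644) (.leaf 182918)) (.leaf 82200)) (.node (.node (.leaf 47755) (.leaf 230532)) (.leaf 135554)))) (.node (.node (.node (.node (.leaf 6924) (.leaf 172680)) (.node (.leaf 70913) (.leaf 271620))) (.node (.node (.leaf 41734) (.leaf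 218120)) (.leaf 122890))) (.node (.node (.node (.leaf 20872) (.leaf 193560)) (.leaf 93056)) (.node (.node (.leaf 53520) (.leaf 241286)) (.leaf 150406)))))) (.node (.node (.node (.node (.node (.node (.leaf 1555) (.leaf 156824)) (.node (.leaf 58004) (.leaf 256394))) (.node (.node (.leaf 30361) (.leaf 201482)) (.leaf 104064))) (.node (.node (.node (.leaf 9113) (.leaf 180740)) (.leaf 80134)) (.node (.node (.leaf 47240) (.leaf 227718)) (.leaf 133896)))) (.node (.node (.node (.node (.leaf 4230) (.leaf 169480)) (.node (.leaf 68874) (.leaf 269576))) (.node (.node (.leaf 37780) (.leaf 215832)) (.leaf 120578))) (.node (.node (.node (.leaf 15513) (.leaf 192024)) (.leaf 89350)) (.node (.node (.leaf 53126) (.leaf 238209)) (.leaf 148868))))) (.node (.node (.node (.node (.node (.leaf 2193) (.leaf 162048)) (.node (.leaf 65030) (.leaf 263558))) (.node (.node (.leaf 34836) (.leaf 207242)) (.leaf 110218))) (.node (.node (.node (.leaf 11142) (.leaf 185348)) (.leaf 84866)) (.node (.node (.leaf 49812) (.leaf 232600)) (.leaf 142982)))) (.node (.node (.node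 (.node (.leaf 7320) (.leaf 176138)) (.node (.leaf 73858) (.leaf 275992))) (.node (.node (.leaf 43033) (.leaf 221057)) (.leaf 125062))) (.node (.node (.node (.leaf 26772) (.leaf 195466)) (.leaf 97280)) (.node (.node (.leaf 55044) (.leaf 245656)) (.leaf 152706))))))
def dP_58 : BT := .node dP_56 dP_57
def dP_59 : BT := .node dP_55 dP_58
def dP_60 : BT := .node dP_52 dP_59
def dP_61 : BT := .node dP_45 dP_60
def dP_62 : BT := .node dP_30 dP_61
def dP : BT := dP_62
def dRels : List (List ℕ) := [[], [0, 1], [1, 0], [2, 3], [3, 2], [4, 5], [5, 4], [6, 7], [7, 6], [8, 9], [9, 8], [10, 11], [11, 10], [12, 13], [13, 12], [14, 15], [15, 14], [16, 17], [17, 16], [18, 19], [19, 18], [20, 21], [21, 20], [22, 23], [23, 22], [24, 25], [25, 24], [0, 0, 0], [1, 1, 1], [2, 2], [3, 3], [4, 4], [5, 5], [6, 6], [7, 7], [8, 8], [9, 9], [0, 2, 0, 2, 0, 2], [3, 1, 3, 1, 3, 1], [2, 4, 2, 4, 2, 4], [5, 3, 5, 3, 5, 3], [4, 6, 4, 6, 4, 6], [7, 5, 7, 5, 7, 5], [6, 8, 6, 8, 6, 8], [9, 7, 9, 7, 9, 7], [0, 4, 0, 4], [5, 1, 5, 1], [0, 6, 0, 6], [7, 1, 7, 1], [0, 8,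 0, 8], [9, 1, 9, 1], [2, 6, 2, 6], [7, 3, 7, 3], [2, 8, 2, 8], [9, 3, 9, 3], [4, 8, 4, 8], [9, 5, 9, 5], [10, 10, 13], [12, 11, 11], [12, 0, 13, 1], [0, 12, 1, 13], [12, 2, 13, 3], [2, 12, 3, 13], [12, 4, 13, 5], [4, 12, 5, 13], [12, 6, 13, 7], [6, 12, 7, 13], [12, 8, 13, 9], [8, 12, 9, 13], [12, 10, 13, 11], [10, 12, 11, 13], [10, 1, 6, 11, 7, 0, 15], [14, 1, 6, 10, 7, 0, 11], [14, 0, 15, 1], [0, 14, 1, 15], [14, 2, 15, 3], [2, 14, 3, 15], [14, 4, 15, 5], [4, 14, 5, 15], [14, 6, 15, 7], [6, 14, 7, 15], [14, 8, 15, 9], [8, 14, 9, 15], [14, 10, 15, 11], [10, 14, 11, 15], [10, 4, 6, 4, 8, 6, 4, 11, 5, 7, 9, 5, 7, 5, 17], [16, 4, 6, 4, 8, 6, 4, 10, 5, 7, 9, 5, 7, 5, 11], [16, 0, 17, 1], [0, 16, 1, 17], [16, 2, 17, 3], [2, 16, 3, 17], [16, 4, 17, 5], [4, 16, 5, 17], [16, 6, 17, 7], [6, 16, 7, 17], [16, 8, 17, 9], [8, 16, 9, 17], [16, 10, 17, 11], [10, 16, 11, 17], [10, 0, 2, 0, 4, 2, 1, 11, 0, 3, 5, 1, 3, 1, 19], [18, 0, 2, 0, 4, 2, 1, 10, 0, 3, 5, 1, 3, 1, 11], [18, 0, 19, 1], [0, 18, 1, 19], [18, 2, 19, 3], [2, 18, 3, 19], [18, 4, 19,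 5], [4, 18, 5, 19], [18, 6, 19, 7], [6, 18, 7, 19], [18, 8, 19, 9], [8, 18, 9, 19], [18, 10, 19, 11], [10, 18, 11, 19], [10, 0, 10, 0, 10, 0, 10, 0, 21], [20, 1, 11, 1, 11, 1, 11, 1, 11], [20, 0, 21, 1], [0, 20, 1, 21], [20, 2, 21, 3], [2, 20, 3, 21], [20, 4, 21, 5], [4, 20, 5, 21], [20, 6, 21, 7], [6, 20, 7, 21], [20, 8, 21, 9], [8, 20, 9, 21], [20, 10, 21, 11], [10, 20, 11, 21], [10, 1, 2, 10, 1, 2, 10, 1, 2, 23], [22, 3, 0, 11, 3, 0, 11, 3, 0, 11], [22, 0, 23, 1], [0, 22, 1, 23], [22, 2, 23, 3], [2, 22, 3, 23], [22, 4, 23, 5], [4, 22, 5, 23], [22, 6, 23, 7], [6, 22, 7, 23], [22, 8, 23, 9], [8, 22, 9, 23], [22, 10, 23, 11], [10, 22, 11, 23], [10, 2, 8, 10, 2, 8, 10, 2, 8, 25], [24, 9, 3, 11, 9, 3, 11, 9, 3, 11], [24, 0, 25, 1], [0, 24, 1, 25], [24, 2, 25, 3], [2, 24, 3, 25], [24, 4, 25, 5], [4, 24, 5, 25], [24, 6, 25, 7], [6, 24, 7, 25], [24, 8, 25, 9], [8, 24, 9, 25], [24, 10, 25, 11], [10, 24, 11, 25], [12, 14, 13, 15], [14, 12, 15, 13], [12, 16, 13, 17], [16, 12, 17, 13], [12, 18, 13, 19], [18, 12, 19, 13], [12, 20, 13, 21], [20,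 12, 21, 13], [12, 22, 13, 23], [22, 12, 23, 13], [12, 24, 13, 25], [24, 12, 25, 13], [14, 16, 15, 17], [16, 14, 17, 15], [14, 18, 15, 19], [18, 14, 19, 15], [14, 20, 15, 21], [20, 14, 21, 15], [14, 22, 15, 23], [22, 14, 23, 15], [14, 24, 15, 25], [24, 14, 25, 15], [16, 18, 17, 19], [18, 16, 19, 17], [16, 20, 17, 21], [20, 16, 21, 17], [16, 22, 17, 23], [22, 16, 23, 17], [16, 24, 17, 25], [24, 16, 25, 17], [18, 20, 19, 21], [20, 18, 21, 19], [18, 22, 19, 23], [22, 18, 23, 19], [18, 24, 19, 25], [24, 18, 25, 19], [20, 22, 21, 23], [22, 20, 23, 21], [20, 24, 21, 25], [24, 20, 25, 21], [22, 24, 23, 25], [24, 22, 25, 23], [13, 22], [23, 12]]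
def dD : Data := ⟨13, dF, dP, dRels, [0, 2, 4, 6, 8]⟩
def dJ0 : List (List ℕ) := [[1, 0], [1, 0], [1, 0], [1, 0], [1, 0], [0, 0], [0, 0], [60, 0, 11, 12], [200, 0, 14], [0, 0], [60, 1, 11, 18], [61, 1, 19, 1, 18], [63, 1, 19, 3, 18], [65, 1, 19, 5, 18], [67, 1, 19, 7, 18], [69, 1, 19, 9, 18], [200, 0, 18], [0, 0], [59, 0, 13, 34], [61, 3, 35, 0, 34], [63, 3, 35, 2, 34], [0, 0], [75, 1, 43, 1, 42], [81, 1, 43, 7, 42], [0, 0], [0, 0], [93, 1, 51, 5, 50], [95, 1, 51, 7, 50], [97, 1, 51, 9, 50], [0, 0], [103, 1, 59, 1, 58], [105, 1, 59, 3, 58], [107, 1, 59, 5, 58], [0, 0], [0, 0], [147, 1, 69, 3, 68], [153, 1, 69, 9, 68], [0, 0], [0, 0], [0, 0], [30, 1, 77, 78], [0, 0], [31, 1, 82], [0, 0], [33, 1, 86], [0, 0], [35, 1, 90], [0, 0], [37, 1, 94], [0, 0], [60, 1, 20, 98], [166, 2, 15, 17, 98], [0, 0], [74, 1, 92, 21, 29, 22, 20, 104], [76, 3, 79, 104, 106], [86, 2, 43, 10, 104], [73, 2, 110, 47, 44, 43, 10, 78], [74, 0, 49, 1, 6, 10, 93, 107, 110], [17, 0, 48, 115], [85, 2, 110, 116, 10], [75, 0, 79, 118, 106], [82, 0, 109, 91, 118], [0, 0],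 [100, 2, 51, 10, 124], [0, 0], [0, 0], [114, 2, 59, 10, 130], [0, 0], [0, 0], [0, 0], [0, 0], [0, 0], [0, 0], [62, 1, 77, 15, 144], [132, 1, 77, 16, 144], [0, 0], [61, 0, 79, 15, 150], [131, 0, 79, 16, 150], [0, 0], [31, 1, 156], [64, 1, 83, 15, 156], [134, 1, 83, 16, 156], [0, 0], [33, 1, 164], [66, 1, 87, 15, 164], [136, 1, 87, 16, 164], [0, 0], [35, 1, 172], [68, 1, 91, 15, 172], [138, 1, 91, 16, 172], [176, 3, 178, 120, 155], [0, 0], [37, 1, 182], [70, 1, 95, 15, 182], [140, 1, 95, 16, 182], [0, 0], [59, 0, 36, 190], [166, 0, 14, 16, 190], [0, 0], [81, 1, 180, 173, 196], [175, 1, 105, 16, 196], [0, 0], [162, 1, 131, 15, 202], [0, 0], [0, 0], [0, 0], [0, 0], [155, 1, 69, 12, 212], [168, 1, 141, 15, 212], [0, 0], [156, 0, 75, 12, 218], [0, 0], [60, 1, 100, 222], [0, 0], [86, 2, 105, 21, 226], [157, 2, 43, 18, 226], [0, 0], [100, 2, 125, 21, 232], [0, 0], [117, 3, 237, 22, 236], [127, 3, 139, 21, 236], [0, 0], [155, 3, 143, 21, 242], [0, 0], [117, 1, 247, 38, 246], [127, 1, 209, 37, 246], [0, 0], [93, 1, 253, 53, 252], [95, 1, 253,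 55, 252], [97, 1, 253, 57, 252], [0, 0], [185, 2, 69, 50, 260], [0, 0], [186, 3, 75, 50, 264], [0, 0], [103, 1, 269, 61, 268], [105, 1, 269, 63, 268], [107, 1, 269, 65, 268], [0, 0], [0, 0], [31, 1, 278], [0, 0], [33, 1, 282], [47, 2, 88, 76, 282], [0, 0], [35, 1, 288], [49, 2, 92, 76, 288], [29, 2, 292, 107], [75, 0, 292, 108, 80], [76, 3, 292, 120, 80], [0, 0], [37, 1, 300], [51, 2, 96, 76, 300], [0, 0], [0, 0], [60, 2, 146, 308], [60, 0, 307, 308], [200, 0, 312], [0, 0], [60, 1, 307, 316], [62, 2, 99, 76, 316], [0, 0], [90, 2, 125, 76, 322], [0, 0], [0, 0], [104, 2, 131, 76, 328], [0, 0], [103, 3, 135, 76, 332], [0, 0], [0, 0], [0, 0], [145, 3, 143, 76, 340], [0, 0], [31, 1, 344], [0, 0], [33, 1, 348], [47, 2, 284, 81, 348], [29, 2, 352, 286], [0, 0], [37, 1, 356], [51, 2, 302, 81, 356], [29, 2, 360, 304], [0, 0], [0, 0], [60, 2, 152, 366], [60, 0, 365, 366], [200, 0, 370], [0, 0], [60, 1, 365, 374], [61, 1, 99, 78, 374], [62, 2, 317, 81, 374], [0, 0], [89, 1, 125, 78, 382], [0, 0], [0, 0], [103, 1, 131, 78, 388], [104, 2, 329, 81,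 388], [0, 0], [104, 0, 135, 78, 394], [0, 0]]
def dJ1 : List (List ℕ) := [[118, 2, 337, 81, 398], [0, 0], [118, 0, 139, 78, 402], [0, 0], [145, 1, 141, 78, 406], [146, 2, 339, 81, 406], [0, 0], [146, 0, 143, 78, 412], [0, 0], [130, 3, 345, 79, 11, 3, 0, 12, 17, 85, 416], [0, 0], [30, 1, 417, 420], [0, 0], [33, 1, 424], [0, 0], [35, 1, 428], [53, 2, 92, 82, 428], [31, 1, 432], [77, 0, 432, 108, 347], [78, 3, 432, 120, 347], [0, 0], [37, 1, 440], [55, 2, 96, 82, 440], [31, 1, 444], [0, 0], [0, 0], [60, 2, 160, 450], [60, 0, 449, 450], [200, 0, 454], [0, 0], [60, 1, 449, 458], [64, 2, 99, 82, 458], [0, 0], [78, 2, 105, 82, 464], [81, 1, 438, 429, 464], [82, 2, 438, 430, 464], [81, 2, 470, 436, 430], [0, 0], [92, 2, 125, 82, 474], [0, 0], [0, 0], [106, 2, 131, 82, 480], [0, 0], [105, 3, 135, 82, 484], [0, 0], [120, 2, 137, 82, 488], [0, 0], [119, 3, 139, 82, 492], [0, 0], [147, 1, 141, 85, 496], [148, 2, 141, 82, 496], [0, 0], [147, 3, 143, 82, 502], [0, 0], [31, 1, 506], [0, 0], [35, 1, 510], [0, 0], [37, 1, 514], [57, 2, 96, 86, 514],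 [33, 1, 518], [0, 0], [0, 0], [60, 2, 168, 524], [60, 0, 523, 524], [200, 0, 528], [0, 0], [60, 1, 523, 532], [66, 2, 99, 86, 532], [0, 0], [80, 2, 105, 86, 538], [79, 2, 540, 119, 86], [0, 0], [94, 2, 125, 86, 544], [0, 0], [93, 3, 129, 86, 548], [0, 0], [108, 2, 131, 86, 552], [0, 0], [107, 3, 135, 86, 556], [0, 0], [0, 0], [0, 0], [149, 3, 143, 86, 564], [0, 0], [33, 1, 568], [79, 2, 349, 109, 568], [80, 1, 349, 121, 568], [76, 0, 574, 355, 542], [0, 0], [37, 1, 578], [83, 2, 357, 109, 578], [84, 1, 357, 121, 578], [0, 0], [85, 2, 365, 109, 586], [0, 0], [85, 0, 367, 121, 590], [86, 3, 367, 109, 590], [176, 2, 594, 373, 589], [0, 0], [67, 1, 99, 93, 598], [157, 1, 375, 121, 598], [158, 2, 375, 109, 598], [0, 0], [110, 2, 131, 90, 606], [0, 0], [109, 3, 135, 90, 610], [0, 0], [0, 0], [151, 3, 143, 90, 616], [0, 0], [35, 1, 620], [0, 0], [0, 0], [60, 2, 186, 626], [60, 0, 625, 626], [200, 0, 630], [0, 0], [60, 1, 625, 634], [70, 2, 99, 94, 634], [0, 0], [75, 1, 582, 363, 640], [84, 2, 105, 94, 640], [83, 2, 644, 119, 94], [0, 0], [97,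 1, 125, 97, 648], [98, 2, 125, 94, 648], [0, 0], [97, 3, 129, 94, 654], [0, 0], [112, 2, 131, 94, 658], [0, 0], [111, 3, 135, 94, 662], [0, 0], [0, 0], [153, 1, 141, 97, 668], [0, 0], [153, 3, 143, 94, 672], [154, 0, 143, 97, 672], [0, 0], [0, 0], [82, 2, 603, 600, 680], [86, 2, 227, 101, 680], [157, 2, 105, 98, 680], [176, 2, 105, 103, 680], [175, 2, 688, 119, 103], [0, 0], [0, 0], [163, 2, 137, 98, 694], [0, 0], [127, 3, 237, 101, 698], [164, 3, 139, 98, 698], [0, 0], [0, 0], [110, 2, 389, 112, 706], [0, 0], [124, 2, 399, 112, 710], [0, 0], [123, 3, 403, 112, 714], [0, 0], [146, 2, 615, 107, 718], [151, 1, 407, 123, 718], [152, 2, 407, 112, 718], [0, 0], [100, 2, 253, 127, 726], [0, 0], [114, 2, 269, 133, 730], [0, 0], [0, 0], [31, 1, 736], [64, 1, 279, 147, 736], [134, 1, 279, 149, 736], [0, 0], [33, 1, 744], [66, 1, 283, 147, 744], [136, 1, 283, 149, 744], [0, 0], [35, 1, 752], [49, 2, 174, 144, 752], [68, 1, 289, 147, 752], [138, 1, 289, 149, 752], [132, 0, 760, 295, 201], [175, 0, 760, 297, 149], [0, 0], [37, 1, 766], [70, 1, 301,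 147, 766], [140, 1, 301, 149, 766], [0, 0], [60, 0, 310, 774], [141, 0, 309, 149, 774], [0, 0], [166, 0, 146, 149, 780], [0, 0], [104, 2, 203, 144, 784], [0, 0], [103, 3, 207, 144, 788], [0, 0], [118, 2, 209, 144, 792], [0, 0], [146, 2, 213, 144, 796]]
def dJ2 : List (List ℕ) := [[0, 0], [0, 0], [64, 1, 345, 153, 802], [134, 1, 345, 155, 802], [0, 0], [66, 1, 349, 153, 808], [136, 1, 349, 155, 808], [0, 0], [70, 1, 357, 153, 814], [140, 1, 357, 155, 814], [0, 0], [60, 0, 368, 820], [141, 0, 367, 155, 820], [0, 0], [0, 0], [62, 1, 417, 161, 828], [130, 3, 803, 151, 37, 40, 39, 193, 194, 159, 828], [132, 1, 417, 163, 828], [60, 1, 832, 804], [0, 0], [30, 1, 829, 838], [61, 0, 421, 161, 838], [131, 0, 421, 163, 838], [0, 0], [33, 1, 846], [66, 1, 425, 161, 846], [136, 1, 425, 163, 846], [0, 0], [35, 1, 854], [68, 1, 429, 161, 854], [138, 1, 429, 163, 854], [176, 3, 860, 439, 807], [0, 0], [37, 1, 864], [55, 2, 184, 156, 864], [70, 1, 441, 161, 864], [140, 1, 441, 163, 864], [134, 0, 872, 447, 189], [0, 0], [60, 0, 452, 876], [141, 0, 451,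 163, 876], [0, 0], [166, 0, 160, 163, 882], [0, 0], [158, 1, 465, 161, 886], [175, 1, 465, 163, 886], [176, 3, 890, 473, 163], [0, 0], [106, 2, 203, 156, 894], [162, 1, 481, 161, 894], [189, 1, 481, 163, 894], [0, 0], [105, 3, 207, 156, 902], [0, 0], [148, 2, 213, 156, 906], [168, 1, 497, 161, 906], [0, 0], [147, 3, 219, 156, 912], [167, 0, 503, 161, 912], [197, 0, 503, 163, 912], [0, 0], [31, 1, 920], [64, 1, 507, 169, 920], [134, 1, 507, 171, 920], [0, 0], [35, 1, 928], [68, 1, 511, 169, 928], [138, 1, 511, 171, 928], [0, 0], [37, 1, 936], [57, 2, 184, 164, 936], [70, 1, 515, 169, 936], [140, 1, 515, 171, 936], [136, 0, 944, 521, 189], [0, 0], [60, 0, 526, 948], [141, 0, 525, 171, 948], [0, 0], [65, 3, 191, 164, 954], [166, 0, 168, 171, 954], [0, 0], [108, 2, 203, 164, 960], [0, 0], [107, 3, 207, 164, 964], [0, 0], [150, 2, 213, 164, 968], [168, 1, 563, 169, 968], [0, 0], [149, 3, 219, 164, 974], [167, 0, 565, 169, 974], [197, 0, 565, 171, 974], [0, 0], [66, 1, 569, 177, 982], [80, 1, 809, 180, 982], [136, 1, 569, 179, 982], [0, 0],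 [70, 1, 579, 177, 990], [84, 1, 815, 180, 990], [140, 1, 579, 179, 990], [0, 0], [85, 0, 821, 180, 998], [0, 0], [68, 0, 191, 175, 1002], [0, 0], [109, 1, 203, 175, 1006], [162, 1, 607, 177, 1006], [0, 0], [123, 1, 209, 175, 1012], [0, 0], [124, 0, 211, 175, 1016], [0, 0], [151, 1, 213, 175, 1020], [0, 0], [35, 1, 1024], [68, 1, 621, 187, 1024], [138, 1, 621, 189, 1024], [0, 0], [60, 0, 628, 1032], [141, 0, 627, 189, 1032], [0, 0], [69, 3, 191, 182, 1038], [166, 0, 186, 189, 1038], [0, 0], [112, 2, 203, 182, 1044], [0, 0], [111, 3, 207, 182, 1048], [0, 0], [153, 1, 213, 185, 1052], [168, 1, 669, 187, 1052], [0, 0], [153, 3, 219, 182, 1058], [167, 0, 673, 187, 1058], [197, 0, 673, 189, 1058], [0, 0], [189, 1, 203, 195, 1066], [0, 0], [127, 1, 247, 193, 1070], [164, 1, 209, 190, 1070], [0, 0], [167, 0, 219, 190, 1076], [197, 0, 219, 195, 1076], [0, 0], [162, 1, 731, 205, 1082], [0, 0], [0, 0], [186, 3, 243, 232, 1088], [0, 0], [0, 0], [39, 1, 421, 84, 76, 278, 1094], [31, 1, 1096], [0, 0], [30, 1, 1095, 1100], [0, 0], [33, 1, 1104], [0,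 0], [35, 1, 1108], [53, 2, 290, 278, 1108], [31, 1, 1112], [77, 0, 1112, 297, 281], [78, 3, 1112, 299, 281], [0, 0], [37, 1, 1120], [55, 2, 302, 278, 1120], [31, 1, 1124], [0, 0], [0, 0], [60, 2, 740, 1130], [60, 0, 1129, 1130], [200, 0, 1134], [0, 0], [60, 1, 1129, 1138], [64, 2, 317, 278, 1138], [166, 2, 741, 742, 1138], [0, 0], [0, 0], [105, 1, 329, 281, 1148], [106, 2, 329, 278, 1148], [101, 11, 1152, 330, 131, 21, 22, 24, 22, 26, 24, 23, 20, 76, 281, 1107], [102, 8, 76, 281, 1107, 1154, 1152, 330, 132, 268, 270, 272, 270, 274, 272, 271, 733], [15, 0, 1084, 1156, 15], [21, 0, 730, 1156, 134], [21, 0, 1082, 1159, 206], [4, 0, 334, 1160, 331], [3, 0, 396, 1160, 391], [6, 0, 486, 1160, 483], [8, 0, 558, 1160, 555], [10, 0, 612, 1160, 609], [12, 0, 664, 1160, 661], [4, 0, 790, 1162, 787], [6, 0, 904, 1162, 897], [8, 0, 966, 1162, 963], [12, 0, 1050, 1162, 1047], [21, 0, 206, 1162], [21, 0, 332, 1165], [21, 0, 394, 1167], [21, 0, 484, 1169], [21, 0, 556, 1171], [21, 0, 610, 1173], [21, 0, 662, 1175], [21, 0, 788, 1177]]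
def dJ3 : List (List ℕ) := [[21, 0, 902, 1179], [21, 0, 964, 1181], [21, 0, 1048, 1183], [105, 2, 1152, 1186, 278], [104, 1, 1095, 1206, 1155], [107, 1, 1149, 1107, 1208], [108, 2, 1149, 1104, 1208], [107, 2, 1212, 1207, 1104], [0, 0], [0, 0], [147, 1, 339, 281, 1218], [0, 0], [0, 0], [31, 1, 1224], [0, 0], [35, 1, 1228], [49, 0, 1230, 286, 510], [0, 0], [37, 1, 1234], [57, 2, 302, 282, 1234], [33, 1, 1238], [47, 0, 1238, 304, 520], [0, 0], [0, 0], [60, 2, 748, 1246], [60, 0, 1245, 1246], [200, 0, 1250], [0, 0], [60, 1, 1245, 1254], [66, 2, 317, 282, 1254], [166, 2, 749, 750, 1254], [0, 0], [76, 2, 572, 352, 1262], [80, 2, 297, 282, 1262], [79, 2, 1266, 299, 282], [0, 0], [94, 2, 323, 282, 1270], [0, 0], [93, 3, 327, 282, 1274], [0, 0], [107, 1, 329, 285, 1278], [108, 2, 329, 282, 1278], [107, 2, 1282, 1186, 282], [0, 0], [0, 0], [149, 1, 339, 285, 1288], [0, 0], [0, 0], [83, 2, 301, 296, 1294], [84, 1, 301, 298, 1294], [76, 0, 1298, 361, 585], [0, 0], [85, 2, 307, 296, 1302], [86, 1, 307, 298, 1302], [0, 0], [60, 1, 1303, 1308], [68,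 2, 317, 288, 1308], [0, 0], [110, 2, 329, 288, 1314], [0, 0], [151, 1, 339, 291, 1318], [0, 0], [151, 3, 341, 288, 1322], [0, 0], [35, 1, 1326], [49, 0, 1328, 304, 620], [0, 0], [0, 0], [60, 2, 770, 1334], [60, 0, 1333, 1334], [200, 0, 1338], [0, 0], [60, 1, 1333, 1342], [70, 2, 317, 300, 1342], [166, 2, 771, 772, 1342], [0, 0], [97, 1, 323, 303, 1350], [0, 0], [112, 2, 329, 300, 1354], [0, 0], [0, 0], [145, 1, 669, 305, 1360], [153, 1, 339, 303, 1360], [0, 0], [146, 0, 673, 305, 1366], [154, 0, 341, 303, 1366], [0, 0], [115, 8, 821, 151, 13, 0, 10, 76, 306, 1372], [0, 0], [30, 1, 1373, 1376], [73, 2, 365, 123, 294, 297, 306, 1376], [35, 1, 1380], [0, 0], [31, 1, 1384], [0, 0], [33, 1, 1388], [0, 0], [35, 1, 1392], [49, 2, 1382, 1377, 1392], [0, 0], [37, 1, 1398], [0, 0], [60, 1, 318, 1402], [166, 2, 313, 315, 1402], [0, 0], [0, 0], [118, 0, 1375, 1373, 1410], [73, 4, 1412, 1001, 999, 757, 754, 774], [36, 1, 1414], [123, 2, 1414, 1411, 1392], [0, 0], [156, 2, 339, 306, 1420], [0, 0], [155, 3, 341, 306, 1424], [0, 0], [62, 1, 1373, 313,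 1428], [132, 1, 1373, 314, 1428], [0, 0], [30, 1, 1429, 1434], [61, 0, 1377, 313, 1434], [73, 2, 368, 199, 762, 765, 311, 1434], [131, 0, 1377, 314, 1434], [138, 0, 1442, 1383, 372], [0, 0], [31, 1, 1446], [64, 1, 1385, 313, 1446], [0, 0], [0, 0], [35, 1, 1454], [49, 2, 1444, 1435, 1454], [68, 1, 1393, 313, 1454], [137, 2, 1416, 778, 1454], [193, 2, 1462, 1411, 1407], [0, 0], [0, 0], [124, 2, 1464, 1456, 1468], [127, 1, 337, 308, 1468], [128, 2, 793, 311, 1468], [163, 2, 1418, 776, 1468], [164, 1, 1409, 313, 1468], [0, 0], [155, 1, 339, 308, 1480], [156, 2, 797, 311, 1480], [0, 0], [156, 0, 341, 308, 1486], [0, 0], [115, 0, 1458, 367, 79, 21, 22, 101, 321, 1490], [117, 3, 699, 321, 1490], [0, 0], [156, 2, 1421, 319, 1496], [0, 0], [90, 2, 727, 325, 1500], [0, 0], [0, 0], [39, 1, 1101, 280, 81, 344, 1506], [31, 1, 1508], [0, 0], [30, 1, 1507, 1512], [40, 2, 417, 83, 78, 347, 1512], [32, 1, 1516], [0, 0], [33, 1, 1520], [0, 0], [37, 1, 1524], [55, 2, 358, 344, 1524], [31, 1, 1528], [0, 0], [60, 1, 418, 1532], [63, 1, 375, 347, 1532], [0,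 0], [92, 2, 383, 344, 1538], [0, 0], [91, 3, 387, 344, 1542], [0, 0], [106, 2, 389, 344, 1546], [105, 2, 1548, 1188, 344], [0, 0], [120, 2, 399, 344, 1552], [0, 0], [119, 3, 403, 344, 1556], [0, 0], [147, 1, 407, 347, 1560], [148, 2, 407, 344, 1560], [0, 0], [0, 0], [31, 1, 1568], [0, 0], [35, 1, 1572], [49, 2, 512, 354, 1572], [29, 2, 1576, 1232], [0, 0], [37, 1, 1580], [51, 2, 516, 354, 1580], [57, 2, 358, 348, 1580], [33, 1, 1586], [47, 0, 1586, 360, 1240], [0, 0], [0, 0], [60, 2, 810, 1594], [60, 0, 1593, 1594]]
def dJ4 : List (List ℕ) := [[200, 0, 1598], [0, 0], [60, 1, 1593, 1602], [66, 2, 375, 348, 1602], [0, 0], [94, 2, 383, 348, 1608], [0, 0], [93, 3, 387, 348, 1612], [0, 0], [108, 2, 389, 348, 1616], [107, 2, 1618, 1188, 348], [0, 0], [0, 0], [145, 1, 1289, 353, 1624], [0, 0], [0, 0], [35, 1, 1630], [49, 2, 622, 362, 1630], [29, 2, 1634, 1330], [0, 0], [0, 0], [60, 2, 816, 1640], [60, 0, 1639, 1640], [200, 0, 1644], [0, 0], [60, 1, 1639, 1648], [70, 2, 375, 356, 1648], [0, 0], [97, 1, 383, 359, 1654], [98, 2, 383, 356, 1654],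 [0, 0], [97, 3, 387, 356, 1660], [0, 0], [112, 2, 389, 356, 1664], [111, 2, 1666, 1188, 356], [0, 0], [0, 0], [145, 1, 1361, 361, 1672], [153, 1, 407, 359, 1672], [0, 0], [146, 0, 1367, 361, 1678], [154, 0, 413, 359, 1678], [0, 0], [29, 1, 1396, 1684], [49, 1, 1379, 1380, 1684], [35, 1, 1688], [0, 0], [31, 1, 1692], [0, 0], [0, 0], [0, 0], [60, 1, 376, 1700], [62, 2, 1476, 1396, 1700], [118, 1, 1704, 1469, 1428], [0, 0], [128, 2, 399, 364, 1708], [0, 0], [163, 0, 1706, 1701, 1712], [0, 0], [156, 2, 407, 364, 1716], [0, 0], [155, 3, 413, 364, 1720], [0, 0], [29, 1, 1458, 1724], [49, 1, 1437, 1440, 1724], [62, 1, 1685, 371, 1724], [132, 1, 1685, 372, 1724], [138, 0, 1732, 1691, 1433], [0, 0], [0, 0], [0, 0], [116, 1, 1404, 320, 100, 23, 20, 78, 366, 1740], [127, 1, 399, 366, 1740], [163, 2, 1374, 822, 1740], [0, 0], [115, 0, 404, 241, 239, 701, 1495, 1492, 1458, 1748], [0, 0], [155, 1, 407, 366, 1752], [156, 2, 827, 369, 1752], [0, 0], [156, 0, 413, 366, 1758], [0, 0], [60, 1, 1702, 1762], [61, 1, 679, 379, 1762], [115, 8, 1072, 248, 250,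 795, 1475, 1705, 1765, 1766], [163, 2, 1768, 1074, 1086], [0, 0], [156, 2, 1717, 377, 1772], [0, 0], [89, 1, 727, 385, 1776], [0, 0], [0, 0], [33, 1, 1782], [47, 2, 426, 416, 1782], [0, 0], [35, 1, 1788], [49, 2, 430, 416, 1788], [73, 3, 1534, 1791, 1792, 437, 419, 417, 428], [6, 0, 1537, 1795, 432], [14, 0, 1535, 1795], [15, 0, 1532, 1795, 859], [4, 0, 379, 1797, 107], [3, 0, 381, 1797, 293], [8, 0, 1606, 1797, 568], [10, 0, 682, 1797, 92], [12, 0, 1652, 1797, 578], [14, 0, 1702, 1797, 586], [13, 0, 377, 1797, 590], [15, 0, 374, 1797, 177], [18, 0, 604, 1797, 120], [28, 0, 1773, 1797, 614], [10, 0, 857, 1800, 471], [15, 0, 859, 1800], [18, 0, 862, 1800, 436], [25, 0, 861, 1800], [4, 0, 107, 1802], [6, 0, 1823, 466, 1802, 463], [8, 0, 540, 1802, 537], [12, 0, 644, 1802, 639], [14, 0, 228, 1802, 225], [13, 0, 111, 1802, 100], [16, 0, 1808, 686, 1802, 678], [22, 0, 707, 1802, 692], [24, 0, 711, 1802, 694], [23, 0, 715, 1802, 698], [28, 0, 719, 1802, 704], [6, 0, 1142, 1805, 1114], [8, 0, 1258, 1805, 1267], [10, 0, 1312, 1805, 290], [12,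 0, 1346, 1805, 1294], [14, 0, 1404, 1805, 1302], [15, 0, 316, 1805, 759], [28, 0, 1497, 1805, 1318], [14, 0, 1605, 1807], [15, 0, 1602, 1807, 985], [13, 0, 1838, 685, 1809, 11], [17, 0, 690, 1809], [14, 0, 1651, 1811], [15, 0, 1648, 1811, 993], [24, 0, 1706, 1813], [18, 0, 593, 1814, 589], [25, 0, 1815, 597, 1880, 825], [9, 0, 175, 1816], [10, 0, 172, 1816], [15, 0, 177, 1816], [15, 0, 1003, 1816, 153], [18, 0, 180, 1816, 109], [22, 0, 1007, 1816, 388], [24, 0, 1013, 1816, 398], [23, 0, 1017, 1816, 402], [25, 0, 179, 1816], [28, 0, 1021, 1816, 406], [10, 0, 601, 1819, 1884], [14, 0, 1775, 1821], [9, 0, 469, 1822], [15, 0, 888, 1822, 882], [18, 0, 472, 1822, 886, 1911], [13, 0, 832, 1827], [15, 0, 805, 1827], [25, 0, 807, 1827], [13, 0, 461, 1832, 876], [3, 0, 577, 1835], [17, 0, 542, 1835], [18, 0, 538, 1835], [3, 0, 643, 1837], [17, 0, 646, 1837], [18, 0, 640, 1837], [15, 0, 1840, 231, 1839, 1871, 34], [18, 0, 42, 1841], [16, 0, 1770, 1842, 98, 1905], [10, 0, 709, 1845], [10, 0, 713, 1847], [10, 0, 717, 1849], [4, 0, 721, 1851], [9,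 0, 723, 1851], [10, 0, 725, 1851], [14, 0, 1141, 1853], [16, 0, 1138, 1853], [26, 0, 1145, 1853], [4, 0, 1265, 1854], [8, 0, 1267, 1854], [17, 0, 1268, 1854], [18, 0, 1262, 1854], [13, 0, 1311, 1857, 308], [15, 0, 1308, 1857, 147], [14, 0, 1345, 1859], [16, 0, 1342, 1859], [26, 0, 1349, 1859], [4, 0, 1742, 1861, 1967, 1428], [10, 0, 1470, 1861, 1967, 1454], [15, 0, 1402, 1861, 1967, 777], [15, 0, 1863, 758, 1969, 780], [14, 0, 1499, 1865], [15, 0, 985, 1868], [18, 0, 987, 1868, 573], [25, 0, 989, 1868], [15, 0, 993, 1876], [18, 0, 995, 1876, 583], [25, 0, 997, 1876], [23, 0, 1879, 1880, 1748]]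
def dJ5 : List (List ℕ) := [[24, 0, 1374, 1882, 1708], [10, 0, 1005, 1891, 1893, 92], [15, 0, 153, 1893], [28, 0, 827, 1893, 614], [10, 0, 1009, 1895, 1941], [15, 0, 1011, 1895], [10, 0, 1015, 1897, 1943], [10, 0, 1019, 1899, 1945], [10, 0, 1023, 1903, 1951], [4, 0, 1831, 1905], [8, 0, 536, 1905, 164], [12, 0, 638, 1905, 182], [18, 0, 1872, 1905], [17, 0, 892, 1911, 1912], [18, 0, 886, 1911, 1912], [15, 0, 882, 1912], [25, 0, 885, 1912], [13, 0, 876, 1920], [15, 0, 879, 1920], [25, 0, 881, 1920], [13, 0, 37, 1934], [23, 0, 1086, 1939, 210], [17, 0, 1307, 1967], [18, 0, 1305, 1967], [3, 0, 293, 1969], [6, 0, 1115, 1969, 736], [8, 0, 1960, 1969, 744], [9, 0, 291, 1969], [10, 0, 288, 1969], [12, 0, 1295, 1969, 766], [18, 0, 296, 1969], [22, 0, 1315, 1969, 784], [28, 0, 1319, 1969, 796], [27, 0, 1323, 1969, 800], [13, 0, 1745, 1977], [15, 0, 1747, 1977, 1715], [13, 0, 1473, 1979], [16, 0, 1479, 1979, 1460], [24, 0, 1468, 1979], [13, 0, 774, 1980], [25, 0, 779, 1980], [15, 0, 780, 1982], [25, 0, 783, 1982], [13, 0, 1596, 1989], [15, 0, 811,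 1989], [25, 0, 813, 1989], [13, 0, 1642, 1995], [15, 0, 817, 1995], [25, 0, 819, 1995], [14, 0, 1751, 1998, 2068], [23, 0, 1748, 1998], [14, 0, 1711, 2000], [8, 0, 956, 2003, 86], [12, 0, 1040, 2003, 94], [15, 0, 190, 2003], [22, 0, 1067, 2003, 130], [25, 0, 195, 2003], [27, 0, 1077, 2003, 142], [13, 0, 1756, 2007], [10, 0, 1941, 2008], [16, 0, 697, 2012], [15, 0, 703, 2014, 2042, 2120], [4, 0, 1947, 2016], [9, 0, 1949, 2016], [10, 0, 1951, 2016], [3, 0, 1923, 2021], [13, 0, 535, 2021, 948], [17, 0, 1925, 2021], [18, 0, 1927, 2021], [3, 0, 1929, 2023], [13, 0, 637, 2023, 1032], [17, 0, 1931, 2023], [18, 0, 1933, 2023], [9, 0, 1111, 2051], [10, 0, 1108, 2051], [14, 0, 1953, 2051], [16, 0, 1955, 2051], [17, 0, 1118, 2051], [18, 0, 1116, 2051], [26, 0, 1957, 2051], [4, 0, 1959, 2053], [14, 0, 1257, 2053], [16, 0, 1254, 2053], [17, 0, 1963, 2053], [18, 0, 1965, 2053], [26, 0, 1261, 2053], [4, 0, 1300, 2059], [14, 0, 1971, 2059], [16, 0, 1973, 2059], [17, 0, 1299, 2059], [18, 0, 1297, 2059], [26, 0, 1975, 2059], [10, 0, 1317, 2063], [9, 0,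 1321, 2065], [14, 0, 1985, 2065], [10, 0, 1325, 2067], [15, 0, 1715, 2070], [23, 0, 1712, 2070], [24, 0, 1408, 2075], [6, 0, 1558, 2099, 1555], [15, 0, 954, 2105], [25, 0, 959, 2105], [15, 0, 1038, 2107], [25, 0, 1043, 2107], [25, 0, 1069, 2111], [15, 0, 1079, 2115], [25, 0, 1081, 2115], [6, 0, 494, 2123, 491], [13, 0, 948, 2132], [15, 0, 951, 2132], [25, 0, 953, 2132], [13, 0, 1032, 2140], [15, 0, 1035, 2140], [25, 0, 1037, 2140], [23, 0, 1556, 2199], [23, 0, 492, 2215], [74, 0, 829, 1908, 419, 1791, 1792, 1798], [75, 0, 1792, 437, 1512], [76, 3, 1792, 439, 1512], [130, 4, 1792, 1798, 1518, 1513, 836, 834, 1518, 1513, 836], [130, 0, 2238, 1792, 1798, 1518, 1513, 836, 2238, 1792, 1798], [131, 0, 1792, 1829, 1512], [132, 3, 1792, 1918, 1512], [40, 2, 829, 157, 2018, 433, 1793], [61, 0, 1513, 1917, 1793], [62, 3, 1513, 1824, 1793], [63, 0, 2247, 2250, 1516], [67, 3, 830, 1788, 2250], [68, 0, 830, 1791, 2250], [49, 3, 1515, 2256, 841], [73, 6, 837, 1512, 2256, 1915, 429, 416], [76, 1, 422, 2260, 841], [61, 2, 422, 2252, 841], [157, 1, 2264,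 2263, 842], [165, 1, 2264, 845, 842], [85, 0, 2222, 2144, 626], [86, 3, 2222, 2142, 626], [85, 0, 2216, 2136, 524], [86, 3, 2216, 2134, 524], [133, 2, 504, 2212, 915], [135, 2, 566, 2212, 977], [139, 2, 674, 2212, 1061], [165, 0, 1064, 1063, 2282], [165, 0, 980, 979, 2280], [165, 0, 918, 917, 2278], [133, 2, 482, 2208, 897], [165, 0, 900, 899, 2290], [133, 2, 447, 2206, 874], [135, 2, 521, 2206, 946], [137, 2, 621, 2206, 1024], [165, 0, 1030, 1029, 2298], [165, 0, 944, 943, 2296], [165, 0, 872, 871, 2294], [133, 2, 507, 2202, 920], [137, 2, 511, 2202, 928], [165, 0, 934, 933, 2308], [165, 0, 926, 925, 2306], [117, 0, 1686, 2196, 1376], [174, 1, 2196, 2045, 2077], [76, 3, 1726, 2316, 1687], [81, 0, 1690, 2318, 1735], [157, 3, 2192, 2320, 1431], [76, 1, 1436, 2322, 1379], [81, 0, 1728, 2322, 1689], [157, 2, 2318, 1730, 2326], [174, 2, 2325, 2314, 2326], [175, 3, 2326, 1732, 2318], [194, 0, 2331, 2332, 2315], [165, 2, 1443, 1438, 2334], [123, 2, 1691, 2194, 1382], [142, 1, 1336, 2182, 1332], [165, 2, 1340, 1338, 2340], [85, 0, 2175, 2180,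 1334], [86, 1, 1336, 2180, 1332], [142, 1, 1248, 2170, 1244], [165, 2, 1252, 1250, 2348], [85, 0, 2163, 2168, 1246], [86, 1, 1248, 2168, 1244], [142, 1, 1132, 2158, 1128], [165, 2, 1136, 1134, 2356], [86, 1, 1132, 2156, 1128], [77, 0, 868, 2144, 445], [79, 0, 940, 2144, 519], [81, 0, 1026, 2144, 623], [157, 3, 1028, 2366, 2301], [157, 3, 942, 2364, 2303], [157, 3, 870, 2362, 2305], [77, 0, 922, 2136, 509], [81, 0, 930, 2136, 513], [157, 3, 932, 2376, 2311], [157, 3, 924, 2374, 2313], [54, 2, 908, 2128, 1563], [142, 3, 1875, 2096, 1640], [165, 0, 1647, 1645, 2384], [85, 2, 1639, 583, 2092], [142, 3, 1867, 2090, 1594], [165, 0, 1601, 1599, 2390], [85, 2, 1593, 573, 2086], [133, 2, 1385, 2080, 1446], [77, 0, 1448, 2046, 1387]]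
def dJ6 : List (List ℕ) := [[85, 0, 2034, 2027, 450], [86, 3, 2034, 2029, 450], [135, 2, 425, 2032, 846], [165, 0, 852, 851, 2404], [79, 0, 426, 2028, 849], [157, 3, 2406, 2408, 851], [44, 3, 1573, 349, 1886, 167, 931], [46, 4, 1631, 357, 1886, 185, 1027], [38, 1, 2414], [34, 1, 2412], [0, 0], [37, 1, 2420], [51, 2, 442, 416, 2420], [0, 0], [90, 2, 475, 416, 2426], [100, 2, 1539, 419, 2426], [0, 0], [89, 3, 479, 416, 2432], [0, 0], [114, 2, 1547, 419, 2436], [113, 2, 2438, 1551, 419], [0, 0], [118, 2, 489, 416, 2442], [128, 2, 1553, 419, 2442], [127, 2, 2446, 2228, 419], [0, 0], [146, 2, 497, 416, 2450], [156, 2, 1561, 419, 2450], [0, 0], [0, 0], [33, 1, 2458], [41, 2, 1280, 1153, 1213, 1096, 2458], [47, 2, 1784, 423, 2458], [29, 2, 2464, 1786], [31, 1, 2462], [105, 0, 2462, 1279, 1227], [106, 3, 2462, 1285, 1227], [0, 0], [35, 1, 2474], [49, 2, 1790, 423, 2474], [67, 2, 2259, 842, 2474], [68, 1, 2259, 2264, 2474], [81, 2, 2259, 2262, 2474], [137, 2, 2259, 844, 2474], [138, 1, 2259, 2269, 2474], [132, 0, 2488, 1507, 1919], [0, 0], [37,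 1, 2492], [51, 2, 2422, 423, 2492], [29, 2, 2496, 2424], [0, 0], [59, 1, 2264, 2500], [0, 0], [60, 2, 842, 2504], [72, 3, 2502, 842, 2504], [86, 3, 2502, 2262, 2504], [142, 3, 2502, 844, 2504], [0, 0], [0, 0], [103, 1, 481, 420, 2516], [104, 2, 2437, 423, 2516], [105, 1, 1214, 1099, 2516], [106, 2, 1214, 1096, 2516], [107, 1, 2472, 2459, 2516], [108, 2, 2472, 2460, 2516], [107, 2, 2528, 2470, 2460], [0, 0], [117, 1, 489, 420, 2532], [0, 0], [145, 1, 497, 420, 2536], [146, 2, 2451, 423, 2536], [0, 0], [145, 3, 2457, 423, 2542], [0, 0], [31, 1, 2546], [41, 1, 508, 88, 82, 424, 2546], [33, 1, 2550], [0, 0], [35, 1, 2554], [0, 0], [37, 1, 2558], [57, 2, 442, 424, 2558], [33, 1, 2562], [0, 0], [59, 1, 2407, 2566], [0, 0], [60, 2, 850, 2570], [72, 3, 2568, 850, 2570], [86, 3, 2568, 2408, 2570], [141, 0, 2568, 2404, 2570], [142, 3, 2568, 852, 2570], [0, 0], [94, 2, 475, 424, 2582], [0, 0], [93, 3, 479, 424, 2586], [0, 0], [103, 1, 2472, 2467, 2590], [108, 2, 481, 424, 2590], [107, 2, 2594, 1190, 424], [0, 0], [122, 2, 489, 424, 2598], [0, 0],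 [149, 1, 497, 427, 2602], [150, 2, 497, 424, 2602], [0, 0], [0, 0], [33, 1, 2610], [65, 2, 1521, 1824, 2610], [66, 1, 1521, 1917, 2610], [79, 2, 1521, 436, 2610], [80, 1, 1521, 438, 2610], [135, 2, 1521, 1828, 2610], [136, 1, 1521, 1919, 2610], [0, 0], [55, 2, 580, 434, 2626], [69, 2, 1525, 1824, 2626], [70, 1, 1525, 1917, 2626], [83, 2, 1525, 436, 2626], [84, 1, 1525, 438, 2626], [139, 2, 1525, 1828, 2626], [140, 1, 1525, 1919, 2626], [0, 0], [95, 1, 475, 431, 2642], [96, 2, 475, 428, 2642], [0, 0], [95, 3, 479, 428, 2648], [0, 0], [110, 2, 481, 428, 2652], [190, 2, 1547, 1828, 2652], [189, 2, 2656, 1551, 1828], [0, 0], [124, 2, 489, 428, 2660], [194, 2, 1553, 1828, 2660], [193, 2, 2664, 2228, 1828], [0, 0], [151, 3, 503, 428, 2668], [0, 0], [35, 1, 2672], [53, 2, 622, 446, 2672], [31, 1, 2676], [0, 0], [59, 1, 2305, 2680], [143, 4, 1054, 214, 70, 72, 69, 10, 82, 440, 2680], [31, 1, 2684], [55, 3, 2684, 1054, 909], [147, 0, 2684, 1053, 869], [153, 1, 907, 867, 2690], [156, 3, 2682, 2690, 2681], [147, 0, 673, 446, 2694, 2687], [5, 0,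 2687, 2696], [6, 0, 2684, 2696], [12, 0, 1055, 2696, 676], [16, 0, 1057, 2696, 2284], [4, 0, 798, 2703, 343], [3, 0, 2125, 2703, 415], [6, 0, 908, 2703, 505], [8, 0, 970, 2703, 567], [10, 0, 2127, 2703, 619], [14, 0, 215, 2703, 245], [16, 0, 217, 2703, 2210], [27, 0, 1058, 2704], [10, 0, 2187, 2707, 2191], [14, 0, 1484, 2707, 1427], [13, 0, 2189, 2707, 1489], [14, 0, 2117, 2709, 1723], [13, 0, 1907, 2709, 1761], [10, 0, 2382, 2711, 2671], [11, 0, 2689, 2711], [12, 0, 2692, 2711], [16, 0, 911, 2711, 2288], [16, 0, 973, 2713, 2286], [28, 0, 616, 2714, 1780], [14, 0, 245, 2716], [20, 0, 1090, 2716, 263], [28, 0, 242, 2716, 276], [13, 0, 221, 2718], [28, 0, 218, 2718, 734], [28, 0, 800, 2722, 1504], [13, 0, 1483, 2725], [27, 0, 1486, 2726], [13, 0, 1755, 2729], [27, 0, 1758, 2730], [27, 0, 2668, 2732], [27, 0, 912, 2738], [27, 0, 974, 2740], [28, 0, 1780, 2742], [28, 0, 1088, 2747, 1092], [28, 0, 276, 2748], [28, 0, 734, 2752], [28, 0, 1504, 2754], [28, 0, 1092, 2772], [147, 0, 738, 2778, 1221], [149, 0, 746, 2778, 1291], [153, 0, 768, 2778,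 1365], [146, 3, 1674, 2786, 2172], [146, 3, 1626, 2784, 2160], [198, 3, 2782, 742, 1222], [197, 1, 2792, 1219, 2159], [145, 2, 2452, 2766, 828], [146, 3, 2538, 2766, 838]]
def dJ7 : List (List ℕ) := [[149, 2, 2606, 2766, 846], [198, 3, 2543, 2268, 2798], [197, 3, 844, 2536, 2802], [145, 0, 2545, 2804, 840], [0, 0], [60, 2, 870, 2808], [144, 0, 865, 157, 2041, 31, 25, 20, 97, 445, 2808], [155, 2, 2808, 2812, 2811], [147, 1, 2814, 447, 668], [148, 2, 2814, 444, 668], [154, 2, 2814, 442, 496], [0, 0], [98, 2, 475, 440, 2822], [0, 0], [97, 3, 479, 440, 2826], [0, 0], [112, 2, 481, 440, 2830], [111, 2, 2832, 1190, 440], [0, 0], [126, 2, 489, 440, 2836], [0, 0], [0, 0], [30, 1, 2841, 2842], [0, 0], [31, 1, 2846], [0, 0], [33, 1, 2850], [0, 0], [35, 1, 2854], [0, 0], [37, 1, 2858], [0, 0], [100, 2, 475, 448, 2862], [0, 0], [114, 2, 481, 448, 2866], [113, 2, 2868, 1190, 448], [0, 0], [128, 2, 489, 448, 2872], [127, 2, 2874, 2230, 448], [0, 0], [156, 2, 497, 448, 2878], [155, 2, 2880, 2766, 453], [0, 0], [155, 3, 503, 448, 2884], [156, 0, 2766,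 2035, 2884], [0, 0], [61, 2, 2841, 2036, 2890], [62, 1, 2841, 455, 2890], [75, 2, 2841, 2403, 2890], [131, 2, 2841, 2038, 2890], [132, 1, 2841, 456, 2890], [0, 0], [30, 1, 2891, 2902], [62, 3, 2843, 2036, 2902], [76, 3, 2843, 2403, 2902], [131, 0, 2843, 456, 2902], [132, 3, 2843, 2038, 2902], [0, 0], [31, 1, 2914], [63, 2, 2847, 2036, 2914], [64, 1, 2847, 455, 2914], [77, 2, 2847, 2403, 2914], [133, 2, 2847, 2038, 2914], [0, 0], [66, 1, 2851, 455, 2926], [79, 2, 2851, 2403, 2926], [0, 0], [67, 2, 2855, 2036, 2932], [137, 2, 2855, 2038, 2932], [0, 0], [37, 1, 2938], [69, 2, 2859, 2036, 2938], [70, 1, 2859, 455, 2938], [83, 2, 2859, 2403, 2938], [84, 1, 2859, 2401, 2938], [139, 2, 2859, 2038, 2938], [140, 1, 2859, 456, 2938], [0, 0], [113, 1, 481, 450, 2954], [190, 2, 2867, 2038, 2954], [189, 2, 2958, 2871, 2038], [0, 0], [92, 2, 727, 477, 2962], [0, 0], [39, 1, 2592, 1226, 286, 506, 2966], [105, 0, 2968, 2591, 2549], [106, 3, 2968, 2597, 2549], [0, 0], [30, 1, 2967, 2974], [0, 0], [35, 1, 2978], [53, 2, 512, 506, 2978], [31, 1, 2982],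 [0, 0], [37, 1, 2986], [55, 2, 516, 506, 2986], [31, 1, 2990], [0, 0], [59, 1, 2313, 2994], [0, 0], [60, 2, 924, 2998], [72, 3, 2996, 924, 2998], [86, 3, 2996, 2381, 2998], [142, 3, 2996, 926, 2998], [0, 0], [0, 0], [103, 1, 2972, 2967, 3010], [106, 2, 553, 506, 3010], [107, 1, 2971, 2553, 3010], [108, 2, 2971, 2550, 3010], [107, 2, 3018, 2973, 2550], [0, 0], [120, 2, 561, 506, 3022], [0, 0], [147, 1, 563, 509, 3026], [148, 2, 563, 506, 3026], [147, 2, 3030, 2768, 920], [0, 0], [0, 0], [33, 1, 3036], [43, 1, 570, 92, 86, 510, 3036], [47, 2, 2419, 1576, 3036], [65, 2, 2418, 932, 3036], [66, 1, 2418, 2311, 3036], [79, 2, 2418, 2379, 3036], [80, 1, 2418, 2377, 3036], [135, 2, 2418, 934, 3036], [136, 1, 2418, 2308, 3036], [138, 0, 3054, 1573, 2091], [0, 0], [37, 1, 3058], [0, 0], [59, 1, 2311, 3062], [0, 0], [60, 2, 932, 3066], [72, 3, 3064, 932, 3066], [86, 3, 3064, 2379, 3066], [141, 0, 3064, 2308, 3066], [142, 3, 3064, 934, 3066], [0, 0], [96, 2, 545, 510, 3078], [87, 11, 3080, 546, 125, 21, 26, 28, 26, 30, 28, 26, 20, 89, 513, 3061],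 [88, 8, 89, 513, 3061, 3082, 3080, 546, 126, 252, 254, 256, 254, 258, 256, 254, 729], [4, 0, 1502, 3084, 76], [3, 0, 1778, 3084, 78], [6, 0, 2964, 3084, 82], [19, 0, 726, 3084, 128], [19, 0, 1500, 3087, 326], [19, 0, 1776, 3089, 386], [19, 0, 2962, 3091, 478], [8, 0, 550, 3092, 547], [12, 0, 656, 3092, 653], [8, 0, 1276, 3094, 1273], [6, 0, 1544, 3096, 1541], [8, 0, 1614, 3096, 1611], [12, 0, 1662, 3096, 1659], [4, 0, 2434, 3098, 2429], [8, 0, 2588, 3098, 2585], [10, 0, 2650, 3098, 2647], [12, 0, 2828, 3098, 2825], [19, 0, 548, 3101], [19, 0, 654, 3103], [19, 0, 1274, 3105], [19, 0, 1542, 3107], [19, 0, 1612, 3109], [19, 0, 1660, 3111], [19, 0, 2432, 3113], [19, 0, 2586, 3115], [19, 0, 2648, 3117], [19, 0, 2826, 3119], [95, 2, 3080, 3120, 510], [94, 1, 3037, 3140, 3083], [94, 0, 3141, 3039, 3143], [57, 1, 3038, 3058, 3144], [93, 0, 3144, 3079, 3039], [97, 3, 3148, 3060, 3140], [0, 0], [110, 2, 553, 510, 3152], [0, 0], [124, 2, 561, 510, 3156], [0, 0], [152, 2, 563, 510, 3160], [151, 2, 3162, 2768, 928], [0, 0], [151, 3, 565, 510, 3166],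 [0, 0], [35, 1, 3170], [0, 0], [59, 1, 2303, 3174], [0, 0], [60, 2, 942, 3178], [72, 3, 3176, 942, 3178], [86, 3, 3176, 2371, 3178], [142, 3, 3176, 944, 3178], [0, 0], [94, 2, 649, 520, 3188], [97, 1, 545, 517, 3188], [98, 2, 545, 514, 3188], [97, 2, 3194, 3120, 514], [0, 0]]
def dJ8 : List (List ℕ) := [[112, 2, 553, 514, 3198], [0, 0], [126, 2, 561, 514, 3202], [0, 0], [150, 2, 669, 520, 3206], [153, 1, 563, 517, 3206], [154, 2, 563, 514, 3206], [153, 2, 3212, 2768, 936], [0, 0], [149, 3, 673, 520, 3216], [154, 0, 565, 517, 3216], [0, 0], [0, 0], [30, 1, 3223, 3224], [0, 0], [31, 1, 3228], [0, 0], [33, 1, 3232], [0, 0], [35, 1, 3236], [0, 0], [37, 1, 3240], [0, 0], [100, 2, 545, 522, 3244], [0, 0], [114, 2, 553, 522, 3248], [113, 2, 3250, 1192, 522], [0, 0], [128, 2, 561, 522, 3254], [0, 0], [156, 2, 563, 522, 3258], [155, 2, 3260, 2768, 527], [0, 0], [155, 3, 565, 522, 3264], [156, 0, 2768, 2217, 3264], [0, 0], [61, 2, 3223, 2218, 3270], [62, 1, 3223, 529, 3270], [75, 2, 3223, 2277, 3270], [76, 1, 3223, 2275, 3270], [131, 2, 3223,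 2220, 3270], [132, 1, 3223, 530, 3270], [0, 0], [30, 1, 3271, 3284], [61, 0, 3225, 529, 3284], [62, 3, 3225, 2218, 3284], [76, 3, 3225, 2277, 3284], [132, 3, 3225, 2220, 3284], [0, 0], [31, 1, 3296], [63, 2, 3229, 2218, 3296], [64, 1, 3229, 529, 3296], [77, 2, 3229, 2277, 3296], [133, 2, 3229, 2220, 3296], [0, 0], [33, 1, 3308], [65, 2, 3233, 2218, 3308], [66, 1, 3233, 529, 3308], [79, 2, 3233, 2277, 3308], [135, 2, 3233, 2220, 3308], [0, 0], [35, 1, 3320], [67, 2, 3237, 2218, 3320], [68, 1, 3237, 529, 3320], [81, 2, 3237, 2277, 3320], [137, 2, 3237, 2220, 3320], [138, 1, 3237, 530, 3320], [0, 0], [37, 1, 3334], [69, 2, 3241, 2218, 3334], [70, 1, 3241, 529, 3334], [83, 2, 3241, 2277, 3334], [139, 2, 3241, 2220, 3334], [0, 0], [113, 1, 553, 524, 3346], [190, 2, 3249, 2220, 3346], [189, 2, 3350, 3253, 2220], [0, 0], [31, 1, 3354], [63, 2, 1569, 1986, 3354], [64, 1, 1569, 2089, 3354], [77, 2, 1569, 573, 3354], [78, 1, 1569, 575, 3354], [133, 2, 1569, 1990, 3354], [134, 1, 1569, 2091, 3354], [0, 0], [37, 1, 3370], [45, 2, 3192, 3081, 3146,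 3040, 3370], [51, 2, 938, 2130, 3370], [69, 2, 1581, 1986, 3370], [70, 1, 1581, 2089, 3370], [83, 2, 1581, 573, 3370], [84, 1, 1581, 575, 3370], [139, 2, 1581, 1990, 3370], [140, 1, 1581, 2091, 3370], [136, 0, 3388, 1589, 2097], [95, 0, 3374, 3189, 3173], [96, 3, 3374, 3197, 3173], [0, 0], [95, 1, 3149, 3057, 3396], [96, 2, 3149, 3040, 3396], [98, 2, 3394, 3372, 3396], [183, 1, 1609, 2091, 3396], [184, 2, 1609, 1990, 3396], [183, 2, 3406, 3128, 1990], [0, 0], [161, 2, 1617, 1986, 3410], [190, 2, 1617, 1990, 3410], [189, 2, 3414, 1621, 1990], [0, 0], [35, 1, 3418], [45, 1, 622, 96, 90, 578, 3418], [49, 2, 1026, 2138, 3418], [67, 2, 1631, 1992, 3418], [68, 1, 1631, 2095, 3418], [81, 2, 1631, 583, 3418], [82, 1, 1631, 585, 3418], [137, 2, 1631, 1996, 3418], [138, 1, 1631, 2097, 3418], [140, 0, 3436, 2416, 2298], [0, 0], [93, 1, 3394, 3391, 3440], [184, 2, 1655, 1996, 3440], [183, 2, 3444, 3130, 1996], [0, 0], [161, 2, 1665, 1992, 3448], [190, 2, 1665, 1996, 3448], [189, 2, 3452, 1669, 1996], [0, 0], [33, 1, 3456], [43, 1, 3442, 3172, 518,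 620, 3456], [35, 1, 3460], [95, 0, 3460, 3441, 3421], [96, 3, 3460, 3447, 3421], [0, 0], [59, 1, 2301, 3468], [0, 0], [60, 2, 1028, 3472], [72, 3, 3470, 1028, 3472], [86, 3, 3470, 2369, 3472], [141, 0, 3470, 2298, 3472], [142, 3, 3470, 1030, 3472], [0, 0], [95, 1, 649, 623, 3484], [97, 1, 3465, 3439, 3484], [98, 2, 3465, 3422, 3484], [97, 2, 3490, 3467, 3422], [0, 0], [110, 2, 659, 620, 3494], [0, 0], [124, 2, 667, 620, 3498], [0, 0], [152, 2, 669, 620, 3502], [151, 2, 3504, 2720, 1024], [0, 0], [151, 3, 673, 620, 3508], [198, 3, 3507, 1030, 3508], [197, 1, 3512, 3503, 2299], [0, 0], [0, 0], [30, 1, 3517, 3518], [0, 0], [31, 1, 3522], [0, 0], [33, 1, 3526], [0, 0], [35, 1, 3530], [0, 0], [37, 1, 3534], [0, 0], [100, 2, 649, 624, 3538], [99, 2, 3540, 3122, 624], [0, 0], [114, 2, 659, 624, 3544], [113, 2, 3546, 1196, 624], [0, 0], [128, 2, 667, 624, 3550], [0, 0], [156, 2, 669, 624, 3554], [155, 2, 3556, 2720, 629], [0, 0], [155, 3, 673, 624, 3560], [156, 0, 2720, 2223, 3560], [0, 0], [61, 2, 3517, 2224, 3566], [62, 1, 3517, 631, 3566],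 [75, 2, 3517, 2273, 3566], [131, 2, 3517, 2226, 3566], [132, 1, 3517, 632, 3566], [0, 0], [30, 1, 3567, 3578], [61, 0, 3519, 631, 3578], [62, 3, 3519, 2224, 3578], [75, 0, 3519, 2271, 3578], [76, 3, 3519, 2273, 3578], [132, 3, 3519, 2226, 3578], [0, 0], [63, 2, 3523, 2224, 3592], [77, 2, 3523, 2273, 3592], [133, 2, 3523, 2226, 3592]]
def dJ9 : List (List ℕ) := [[0, 0], [33, 1, 3600], [65, 2, 3527, 2224, 3600], [66, 1, 3527, 631, 3600], [79, 2, 3527, 2273, 3600], [135, 2, 3527, 2226, 3600], [0, 0], [35, 1, 3612], [68, 1, 3531, 631, 3612], [138, 1, 3531, 632, 3612], [0, 0], [37, 1, 3620], [69, 2, 3535, 2224, 3620], [70, 1, 3535, 631, 3620], [83, 2, 3535, 2273, 3620], [139, 2, 3535, 2226, 3620], [0, 0], [113, 1, 659, 626, 3632], [190, 2, 3545, 2226, 3632], [189, 2, 3636, 3549, 2226], [0, 0], [192, 3, 673, 658, 3640], [0, 0], [39, 1, 839, 158, 144, 736, 3644], [49, 1, 1101, 2149, 3644], [132, 1, 1095, 743, 3644], [35, 1, 3648], [0, 0], [40, 2, 2491, 435, 2049, 739, 3654], [50, 2, 1095, 2147, 3654], [61, 0, 1101, 741, 3654], [62, 3, 1101,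 2153, 3654], [76, 3, 1101, 2157, 3654], [131, 0, 1101, 743, 3654], [132, 3, 1101, 2159, 3654], [134, 2, 3668, 1510, 2487], [138, 2, 3668, 3652, 3650], [0, 0], [33, 1, 3674], [65, 2, 1105, 2153, 3674], [66, 1, 1105, 741, 3674], [79, 2, 1105, 2157, 3674], [80, 1, 1105, 2155, 3674], [135, 2, 1105, 2159, 3674], [136, 1, 1105, 743, 3674], [190, 3, 3688, 1208, 3651], [0, 0], [37, 1, 3692], [55, 2, 768, 736, 3692], [69, 2, 1121, 2153, 3692], [70, 1, 1121, 741, 3692], [83, 2, 1121, 2157, 3692], [84, 1, 1121, 2155, 3692], [139, 2, 1121, 2159, 3692], [140, 1, 1121, 743, 3692], [0, 0], [107, 1, 3690, 3675, 3710], [110, 2, 1149, 2149, 3710], [190, 2, 1149, 2159, 3710], [189, 2, 3716, 1207, 2159], [44, 3, 3649, 3713, 3714, 1211, 3672], [34, 1, 3720], [48, 3, 3654, 3720, 1102, 1212], [4, 0, 1154, 3724, 3644], [6, 0, 1151, 3724, 738], [8, 0, 1212, 3724, 3674], [10, 0, 3714, 3724, 2146], [4, 0, 3644, 3726], [6, 0, 3647, 3726, 2525], [9, 0, 3649, 3726], [10, 0, 3652, 3726], [4, 0, 392, 3729, 2048], [3, 0, 331, 3729, 145], [8, 0, 1282, 3729, 744], [10,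 0, 2184, 3729, 2054], [12, 0, 1356, 3729, 766], [7, 0, 3677, 3730], [8, 0, 3674, 3730], [15, 0, 3681, 3730], [16, 0, 3679, 3730], [17, 0, 3685, 3730], [18, 0, 3683, 3730], [25, 0, 3689, 3730], [26, 0, 3687, 3730], [21, 0, 3718, 3733], [22, 0, 3710, 3733], [4, 0, 2519, 3736, 839], [3, 0, 2521, 3736, 840], [5, 0, 2523, 3736], [7, 0, 2527, 3736], [21, 0, 2530, 3736], [22, 0, 2516, 3736], [8, 0, 1618, 3743, 568], [10, 0, 2118, 3743, 92], [12, 0, 1666, 3743, 578], [16, 0, 2011, 3743, 2004], [8, 0, 554, 3745, 164], [12, 0, 660, 3745, 182], [13, 0, 133, 3745, 2041], [5, 0, 2469, 3747], [21, 0, 1284, 3747], [22, 0, 1278, 3747], [21, 0, 1199, 3749], [22, 0, 1354, 3751], [8, 0, 2594, 3773, 846], [10, 0, 2654, 3773, 1908], [12, 0, 2832, 3773, 864], [13, 0, 2956, 3773, 2035], [16, 0, 2293, 3773, 160], [21, 0, 2440, 3775], [22, 0, 2436, 3775], [16, 0, 3412, 3785, 2088], [8, 0, 962, 3787, 86], [12, 0, 1046, 3787, 94], [21, 0, 1185, 3787], [16, 0, 3450, 3789, 2094], [21, 0, 1195, 3791], [6, 0, 3014, 3793, 920], [10, 0, 3154, 3793, 928], [12, 0, 3200,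 3793, 936], [13, 0, 3348, 3793, 2217], [10, 0, 3496, 3795, 1024], [13, 0, 3634, 3795, 2223], [27, 0, 3641, 3795, 2721], [22, 0, 58, 3797], [3, 0, 2593, 3809], [21, 0, 2596, 3809], [22, 0, 2590, 3809], [21, 0, 2658, 3811], [22, 0, 2652, 3811], [21, 0, 2834, 3813], [22, 0, 2830, 3813], [21, 0, 2960, 3815], [22, 0, 2954, 3815], [21, 0, 1201, 3817], [21, 0, 3416, 3823], [22, 0, 3410, 3823], [21, 0, 1203, 3825], [21, 0, 1205, 3827], [21, 0, 3454, 3831], [22, 0, 3448, 3831], [3, 0, 3013, 3835], [7, 0, 3017, 3835], [8, 0, 3019, 3835], [21, 0, 3020, 3835], [22, 0, 3010, 3835], [22, 0, 3152, 3837], [22, 0, 3198, 3839], [21, 0, 3352, 3841], [22, 0, 3346, 3841], [22, 0, 3494, 3843], [21, 0, 3638, 3845], [22, 0, 3632, 3845], [22, 0, 3643, 3847], [105, 0, 2819, 3906, 2700], [104, 1, 3517, 3904, 3566], [107, 0, 3528, 3904, 3603], [111, 0, 3536, 3904, 3623], [161, 3, 3625, 3914, 3627], [161, 3, 3605, 3912, 3607], [161, 3, 3569, 3910, 3571], [104, 1, 3580, 3920, 3521], [103, 0, 3424, 3900, 1635], [111, 0, 2415, 3900, 3423], [114, 1, 3474, 3900, 3468],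 [104, 1, 3223, 3898, 3270], [105, 0, 3230, 3898, 3299], [107, 0, 3234, 3898, 3311], [109, 0, 3238, 3898, 3323], [111, 0, 3242, 3898, 3337], [161, 3, 3339, 3938, 3341], [161, 3, 3325, 3936, 3327], [161, 3, 3313, 3934, 3315], [161, 3, 3301, 3932, 3303], [161, 3, 3273, 3930, 3275], [104, 1, 3286, 3948, 3227], [103, 0, 3376, 3894, 1585], [114, 1, 3180, 3894, 3174], [161, 3, 3380, 3952, 3378], [103, 0, 3042, 3892, 1577], [107, 0, 2413, 3892, 3039], [113, 0, 3064, 3892, 3066], [114, 1, 3068, 3892, 3062], [114, 1, 3000, 3890, 2994], [65, 0, 2550, 925, 3886], [66, 3, 2550, 2312, 3886], [79, 0, 2550, 2380, 3886], [80, 3, 2550, 2374, 3886], [135, 0, 2550, 927, 3886], [136, 3, 2550, 2307, 3886], [105, 0, 1528, 3880, 2629], [113, 0, 1641, 3880, 1874], [161, 3, 2631, 3980, 2633], [105, 0, 1570, 3872, 3357], [113, 0, 1595, 3872, 1866], [114, 1, 1593, 3872, 2086], [161, 3, 3359, 3986, 3361], [103, 0, 2843, 3866, 2902], [104, 1, 2841, 3866, 2890], [105, 0, 2848, 3866, 2917]]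
def dJ10 : List (List ℕ) := [[111, 0, 2860, 3866, 2941], [161, 3, 2943, 4000, 2945], [161, 3, 2919, 3998, 2921], [161, 3, 2893, 3996, 2895], [104, 1, 2904, 4006, 2845], [103, 0, 1513, 3858, 1793], [104, 1, 1507, 3858, 2490], [107, 0, 1522, 3858, 2613], [161, 3, 2615, 4014, 2617], [161, 3, 2481, 4012, 2483], [104, 1, 2479, 4018, 1515], [105, 0, 3671, 4018, 1511], [114, 1, 2572, 3854, 2566], [61, 2, 2467, 2406, 3850], [62, 1, 2467, 851, 3850], [75, 2, 2467, 2411, 3850], [76, 1, 2467, 2409, 3850], [131, 2, 2467, 2405, 3850], [132, 1, 2467, 853, 3850], [105, 0, 3696, 3806, 1125], [114, 1, 1336, 3806, 1332], [161, 3, 3700, 4038, 3698], [114, 1, 1248, 3802, 1244], [114, 1, 2506, 3782, 2500], [113, 0, 1131, 3770, 2150], [0, 0], [35, 1, 4050], [43, 2, 1230, 284, 2057, 744, 4050], [49, 2, 3040, 2161, 4050], [67, 2, 1229, 2165, 4050], [68, 1, 1229, 749, 4050], [81, 2, 1229, 2169, 4050], [82, 1, 1229, 2167, 4050], [109, 2, 1229, 3803, 4050], [110, 1, 1229, 3801, 4050], [137, 2, 1229, 2171, 4050], [138, 1, 1229, 751, 4050], [132, 0, 4072, 1233,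 935], [135, 1, 4070, 4055, 4072], [0, 0], [51, 2, 3372, 2161, 4078], [69, 2, 1235, 2165, 4078], [70, 1, 1235, 749, 4078], [83, 2, 1235, 2169, 4078], [84, 1, 1235, 2167, 4078], [111, 2, 1235, 3803, 4078], [112, 1, 1235, 3801, 4078], [139, 2, 1235, 2171, 4078], [140, 1, 1235, 751, 4078], [0, 0], [90, 2, 3397, 2161, 4098], [184, 2, 1271, 2171, 4098], [183, 2, 4102, 3124, 2171], [0, 0], [35, 1, 4106], [45, 1, 1328, 302, 2057, 766, 4106], [49, 2, 3420, 2173, 4106], [67, 2, 1327, 2177, 4106], [68, 1, 1327, 771, 4106], [81, 2, 1327, 2181, 4106], [109, 2, 1327, 3807, 4106], [137, 2, 1327, 2183, 4106], [138, 1, 1327, 773, 4106], [132, 0, 4124, 1331, 1031], [139, 1, 4122, 4111, 4124], [0, 0], [65, 2, 1783, 2252, 4130], [66, 1, 1783, 831, 4130], [79, 2, 1783, 2232, 4130], [80, 1, 1783, 2260, 4130], [107, 2, 1783, 3821, 4130], [108, 1, 1783, 3819, 4130], [135, 2, 1783, 2240, 4130], [136, 1, 1783, 835, 4130], [132, 0, 4146, 2465, 4037], [0, 0], [37, 1, 4150], [69, 2, 2421, 2252, 4150], [70, 1, 2421, 831, 4150], [83, 2, 2421, 2232, 4150], [111, 2,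 2421, 3821, 4150], [139, 2, 2421, 2240, 4150], [0, 0], [194, 2, 2443, 2240, 4164], [193, 2, 4166, 2449, 2240], [0, 0], [37, 1, 4170], [51, 2, 4152, 841, 4170], [69, 2, 2493, 2265, 4170], [70, 1, 2493, 843, 4170], [83, 2, 2493, 2266, 4170], [84, 1, 2493, 2263, 4170], [111, 2, 2493, 3783, 4170], [112, 1, 2493, 3781, 4170], [139, 2, 2493, 2268, 4170], [140, 1, 2493, 845, 4170], [132, 0, 4190, 2499, 873], [0, 0], [35, 1, 4194], [67, 2, 2555, 2406, 4194], [68, 1, 2555, 851, 4194], [81, 2, 2555, 2411, 4194], [82, 1, 2555, 2409, 4194], [109, 2, 2555, 3855, 4194], [110, 1, 2555, 3853, 4194], [137, 2, 2555, 2405, 4194], [138, 1, 2555, 853, 4194], [0, 0], [37, 1, 4214], [69, 2, 2559, 2406, 4214], [70, 1, 2559, 851, 4214], [83, 2, 2559, 2411, 4214], [84, 1, 2559, 2409, 4214], [111, 2, 2559, 3855, 4214], [112, 1, 2559, 3853, 4214], [139, 2, 2559, 2405, 4214], [140, 1, 2559, 853, 4214], [0, 0], [67, 2, 2673, 2304, 4234], [68, 1, 2673, 871, 4234], [81, 2, 2673, 2362, 4234], [82, 1, 2673, 2372, 4234], [109, 2, 2673, 3863, 4234], [110, 1, 2673, 3861,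 4234], [137, 2, 2673, 2295, 4234], [138, 1, 2673, 873, 4234], [134, 0, 4250, 2679, 1031], [0, 0], [30, 1, 3883, 4254], [48, 2, 2976, 3885, 4254], [61, 0, 2975, 925, 4254], [62, 3, 2975, 2312, 4254], [75, 0, 2975, 2380, 4254], [76, 3, 2975, 2374, 4254], [104, 3, 2975, 3891, 4254], [131, 0, 2975, 927, 4254], [132, 3, 2975, 2307, 4254], [0, 0], [35, 1, 4274], [67, 2, 2979, 2312, 4274], [68, 1, 2979, 925, 4274], [82, 1, 2979, 2380, 4274], [138, 1, 2979, 927, 4274], [0, 0], [69, 2, 2987, 2312, 4286], [70, 1, 2987, 925, 4286], [83, 2, 2987, 2374, 4286], [84, 1, 2987, 2380, 4286], [111, 2, 2987, 3891, 4286], [112, 1, 2987, 3889, 4286], [139, 2, 2987, 2307, 4286], [140, 1, 2987, 927, 4286], [0, 0], [37, 1, 4304], [70, 1, 3059, 933, 4304], [140, 1, 3059, 935, 4304], [138, 0, 4310, 3399, 3406], [183, 0, 4310, 3149, 3052], [184, 3, 4310, 3142, 3052], [0, 0], [97, 1, 4316, 4305, 4318], [98, 2, 4316, 4306, 4318], [184, 2, 3079, 2309, 4318], [183, 2, 4324, 3141, 2309], [0, 0], [35, 1, 4328], [68, 1, 3171, 943, 4328], [138, 1, 3171, 945, 4328], [136,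 0, 4334, 3443, 3444], [183, 0, 4334, 3394, 3386], [184, 3, 4334, 3392, 3386], [0, 0], [90, 2, 3394, 3376, 4342], [95, 1, 4340, 4329, 4342], [96, 2, 4340, 4330, 4342], [169, 2, 3189, 2364, 4342], [184, 2, 3189, 2297, 4342], [183, 2, 4352, 3197, 2297], [0, 0], [33, 1, 4356], [43, 1, 4336, 4330, 940, 1024, 4356], [66, 1, 3457, 1029, 4356], [136, 1, 3457, 1031, 4356], [138, 0, 4364, 3463, 3444], [183, 0, 4364, 3465, 3434], [184, 3, 4364, 3467, 3434], [0, 0], [90, 2, 3465, 3424, 4372], [93, 1, 4370, 4357, 4372], [94, 2, 4370, 4358, 4372], [184, 2, 3485, 2299, 4372], [183, 2, 4380, 3493, 2299], [0, 0], [37, 1, 4384], [51, 2, 1122, 1094, 4384], [55, 2, 2494, 1098, 4384], [57, 2, 3694, 3755, 4384], [33, 1, 4392], [31, 1, 4390], [0, 0]]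
def dJ11 : List (List ℕ) := [[59, 1, 3757, 4398], [0, 0], [60, 2, 3759, 4402], [72, 3, 4400, 3759, 4402], [86, 3, 4400, 3763, 4402], [114, 3, 4400, 1208, 4402], [142, 3, 4400, 3767, 4402], [0, 0], [0, 0], [120, 2, 2533, 1098, 4416], [0, 0], [146, 2, 1219, 1094, 4420], [147, 1, 2537, 1097, 4420], [148, 2, 2537, 1098, 4420], [150, 2, 2795, 3755, 4420], [149, 2, 4428, 1223, 1104], [0, 0], [145, 3, 1223, 1094, 4432], [148, 0, 2543, 1097, 4432], [150, 0, 2782, 3753, 4432], [192, 3, 4431, 1208, 4432], [198, 3, 4431, 3767, 4432], [197, 1, 4442, 4421, 3764], [0, 0], [37, 1, 4446], [51, 2, 4386, 1103, 4446], [29, 2, 4450, 4388], [0, 0], [59, 1, 3662, 4454], [0, 0], [60, 2, 3660, 4458], [72, 3, 4456, 3660, 4458], [142, 3, 4456, 3666, 4458], [0, 0], [0, 0], [117, 1, 1217, 1100, 4468], [0, 0], [145, 1, 1219, 1100, 4472], [146, 2, 4421, 1103, 4472], [152, 2, 4445, 3738, 4472], [151, 2, 4478, 4433, 3659], [0, 0], [146, 0, 1223, 1100, 4482], [149, 3, 4481, 3723, 4482], [152, 0, 4431, 3740, 4482], [0, 0], [51, 2, 3694, 3735, 4490], [55, 2, 4172, 3776,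 4490], [57, 2, 1122, 1104, 4490], [69, 2, 4385, 3756, 4490], [70, 1, 4385, 3758, 4490], [83, 2, 4385, 3760, 4490], [111, 2, 4385, 1215, 4490], [139, 2, 4385, 3764, 4490], [140, 1, 4385, 3766, 4490], [134, 0, 4508, 4397, 4191], [136, 0, 4508, 4395, 3706], [0, 0], [35, 1, 4514], [53, 2, 1328, 1126, 4514], [31, 1, 4518], [0, 0], [59, 1, 3698, 4522], [0, 0], [60, 2, 3700, 4526], [72, 3, 4524, 3700, 4526], [86, 3, 4524, 3704, 4526], [114, 3, 4524, 4043, 4526], [142, 3, 4524, 3708, 4526], [0, 0], [92, 2, 1351, 1126, 4538], [97, 1, 1147, 1123, 4538], [0, 0], [126, 2, 1217, 1120, 4544], [0, 0], [147, 1, 1361, 1125, 4548], [148, 2, 1361, 1126, 4548], [153, 1, 1219, 1123, 4548], [154, 2, 1219, 1120, 4548], [153, 2, 4556, 2782, 3692], [0, 0], [148, 0, 1367, 1125, 4560], [154, 0, 1223, 1123, 4560], [198, 3, 4559, 3708, 4560], [197, 1, 4566, 4549, 3707], [0, 0], [0, 0], [30, 1, 4571, 4572], [73, 2, 4399, 3672, 3655, 2156, 1128, 4572], [35, 1, 4576], [0, 0], [31, 1, 4580], [0, 0], [33, 1, 4584], [0, 0], [35, 1, 4588], [49, 2, 4578, 4573, 4588], [0,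 0], [37, 1, 4594], [0, 0], [100, 2, 1147, 1128, 4598], [0, 0], [128, 2, 1217, 1128, 4602], [0, 0], [156, 2, 1219, 1128, 4606], [155, 2, 4608, 2782, 1133], [0, 0], [155, 3, 1223, 1128, 4612], [156, 0, 2782, 2150, 4612], [0, 0], [61, 2, 4571, 2359, 4618], [75, 2, 4571, 2360, 4618], [103, 2, 4571, 4048, 4618], [131, 2, 4571, 2356, 4618], [0, 0], [62, 3, 4573, 2359, 4628], [76, 3, 4573, 2360, 4628], [104, 3, 4573, 4048, 4628], [132, 3, 4573, 2356, 4628], [0, 0], [63, 2, 4581, 2359, 4638], [77, 2, 4581, 2360, 4638], [105, 2, 4581, 4048, 4638], [133, 2, 4581, 2356, 4638], [0, 0], [65, 2, 4585, 2359, 4648], [79, 2, 4585, 2360, 4648], [107, 2, 4585, 4048, 4648], [135, 2, 4585, 2356, 4648], [0, 0], [67, 2, 4589, 2359, 4658], [81, 2, 4589, 2360, 4658], [109, 2, 4589, 4048, 4658], [137, 2, 4589, 2356, 4658], [0, 0], [69, 2, 4595, 2359, 4668], [83, 2, 4595, 2360, 4668], [111, 2, 4595, 4048, 4668], [139, 2, 4595, 2356, 4668], [0, 0], [35, 1, 4678], [49, 2, 4196, 3850, 4678], [53, 2, 1230, 1224, 4678], [31, 1, 4684], [0, 0], [37, 1, 4688], [51, 2,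 4216, 3850, 4688], [55, 2, 1236, 1224, 4688], [57, 2, 4172, 3778, 4688], [33, 1, 4696], [41, 0, 4696, 4510, 4496, 1124, 1240], [0, 0], [59, 1, 4029, 4702], [0, 0], [60, 2, 4027, 4706], [72, 3, 4704, 4027, 4706], [86, 3, 4704, 4031, 4706], [114, 3, 4704, 2473, 4706], [142, 3, 4704, 4035, 4706], [0, 0], [92, 2, 1271, 1224, 4718], [0, 0], [0, 0], [147, 1, 1289, 1227, 4724], [148, 2, 1289, 1224, 4724], [150, 2, 2804, 3778, 4724], [149, 2, 4730, 2543, 2458], [0, 0], [147, 3, 1293, 1224, 4734], [149, 3, 2799, 3778, 4734], [198, 3, 4733, 4035, 4734], [197, 1, 4740, 4725, 4036], [0, 0], [37, 1, 4744], [51, 2, 3060, 1232, 4744], [49, 3, 4748, 3401, 4101], [89, 0, 4748, 3149, 4057], [90, 3, 4748, 3142, 4057], [0, 0], [59, 1, 4058, 4756], [73, 1, 3322, 526, 931, 4074, 4062, 4756], [74, 4, 3285, 526, 2134, 287, 1228, 4756], [36, 1, 4762], [0, 0], [60, 2, 4060, 4766], [72, 3, 4758, 4060, 4766], [86, 3, 4758, 4064, 4766], [114, 3, 4758, 4068, 4766], [142, 3, 4758, 4072, 4766], [131, 1, 4776, 4760, 3332], [0, 0], [95, 1, 1271, 1231, 4780], [96, 2,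 1271, 1228, 4780], [98, 2, 4754, 4746, 4780], [184, 2, 4753, 4072, 4780], [183, 2, 4788, 4755, 4072], [0, 0], [124, 2, 1287, 1228, 4792], [0, 0], [146, 2, 3161, 1232, 4796]]
def dJ12 : List (List ℕ) := [[152, 2, 1289, 1228, 4796], [151, 2, 4800, 2784, 4050], [0, 0], [151, 3, 1293, 1228, 4804], [0, 0], [35, 1, 4808], [45, 1, 4750, 4746, 1230, 1234, 4808], [49, 2, 3172, 1242, 4808], [90, 3, 4814, 3392, 4081], [0, 0], [59, 1, 4082, 4818], [0, 0], [60, 2, 4084, 4822], [72, 3, 4820, 4084, 4822], [86, 3, 4820, 4088, 4822], [114, 3, 4820, 4092, 4822], [142, 3, 4820, 4096, 4822], [0, 0], [93, 1, 1351, 1239, 4834], [94, 2, 1351, 1240, 4834], [96, 2, 4816, 4810, 4834], [0, 0], [126, 2, 1287, 1234, 4842], [0, 0], [150, 2, 1361, 1240, 4846], [153, 1, 1289, 1237, 4846], [154, 2, 1289, 1234, 4846], [153, 2, 4852, 2784, 4078], [0, 0], [149, 3, 1367, 1240, 4856], [154, 0, 1293, 1237, 4856], [0, 0], [0, 0], [30, 1, 4863, 4864], [0, 0], [31, 1, 4868], [0, 0], [33, 1, 4872], [0, 0], [35, 1, 4876], [0, 0], [37, 1, 4880], [0, 0], [100, 2, 1271, 1244, 4884],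 [0, 0], [128, 2, 1287, 1244, 4888], [0, 0], [156, 2, 1289, 1244, 4892], [155, 2, 4894, 2784, 1249], [0, 0], [155, 3, 1293, 1244, 4898], [0, 0], [61, 2, 4863, 2351, 4902], [75, 2, 4863, 2354, 4902], [103, 2, 4863, 4044, 4902], [131, 2, 4863, 2348, 4902], [0, 0], [62, 3, 4865, 2351, 4912], [76, 3, 4865, 2354, 4912], [104, 3, 4865, 4044, 4912], [131, 0, 4865, 1252, 4912], [132, 3, 4865, 2348, 4912], [0, 0], [63, 2, 4869, 2351, 4924], [77, 2, 4869, 2354, 4924], [133, 2, 4869, 2348, 4924], [0, 0], [65, 2, 4873, 2351, 4932], [0, 0], [35, 1, 4936], [67, 2, 4877, 2351, 4936], [81, 2, 4877, 2354, 4936], [109, 2, 4877, 4044, 4936], [137, 2, 4877, 2348, 4936], [138, 1, 4877, 1252, 4936], [0, 0], [185, 2, 1289, 1270, 4950], [186, 1, 1289, 3125, 4950], [185, 3, 4954, 2784, 4104], [0, 0], [186, 3, 1293, 1270, 4958], [0, 0], [33, 1, 4962], [47, 2, 3458, 1330, 4962], [89, 0, 4966, 3465, 4113], [90, 3, 4966, 3467, 4113], [0, 0], [59, 1, 4114, 4972], [73, 1, 3614, 628, 1027, 4126, 4118, 4972], [74, 4, 3579, 628, 2142, 305, 1326, 4972], [36, 1, 4978],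 [0, 0], [60, 2, 4116, 4982], [142, 3, 4974, 4124, 4982], [131, 1, 4986, 4976, 3618], [0, 0], [94, 2, 4970, 4964, 4990], [95, 1, 1351, 1329, 4990], [184, 2, 4969, 4124, 4990], [183, 2, 4996, 4971, 4124], [0, 0], [124, 2, 1359, 1326, 5000], [0, 0], [146, 2, 3503, 1330, 5004], [152, 2, 1361, 1326, 5004], [151, 2, 5008, 2786, 4106], [0, 0], [151, 3, 1367, 1326, 5012], [153, 3, 5011, 4110, 5012], [0, 0], [0, 0], [30, 1, 5019, 5020], [0, 0], [31, 1, 5024], [0, 0], [33, 1, 5028], [0, 0], [35, 1, 5032], [0, 0], [37, 1, 5036], [0, 0], [100, 2, 1351, 1332, 5040], [0, 0], [128, 2, 1359, 1332, 5044], [0, 0], [156, 2, 1361, 1332, 5048], [155, 2, 5050, 2786, 1337], [0, 0], [155, 3, 1367, 1332, 5054], [156, 0, 2786, 2174, 5054], [0, 0], [61, 2, 5019, 2343, 5060], [75, 2, 5019, 2346, 5060], [103, 2, 5019, 4040, 5060], [131, 2, 5019, 2340, 5060], [0, 0], [62, 3, 5021, 2343, 5070], [76, 3, 5021, 2346, 5070], [104, 3, 5021, 4040, 5070], [131, 0, 5021, 1340, 5070], [132, 3, 5021, 2340, 5070], [0, 0], [63, 2, 5025, 2343, 5082], [77, 2, 5025, 2346, 5082],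 [105, 2, 5025, 4040, 5082], [133, 2, 5025, 2340, 5082], [0, 0], [35, 1, 5092], [67, 2, 5033, 2343, 5092], [81, 2, 5033, 2346, 5092], [109, 2, 5033, 4040, 5092], [137, 2, 5033, 2340, 5092], [138, 1, 5033, 1340, 5092], [0, 0], [31, 1, 5106], [120, 1, 1693, 2195, 5106], [0, 0], [122, 1, 1697, 2195, 5112], [0, 0], [126, 1, 1699, 2195, 5116], [0, 0], [146, 2, 1421, 1372, 5120], [196, 1, 1717, 2195, 5120], [195, 3, 5124, 2762, 2101], [0, 0], [145, 3, 1425, 1372, 5128], [0, 0], [53, 1, 1694, 1382, 5132], [35, 1, 5134], [0, 0], [0, 0], [0, 0], [59, 1, 2336, 5142], [0, 0], [145, 1, 1421, 1376, 5146], [146, 2, 5121, 1379, 5146], [151, 1, 1717, 1381, 5146], [152, 2, 1717, 1382, 5146], [151, 2, 5154, 2762, 1444], [0, 0], [146, 0, 1425, 1376, 5158], [0, 0], [0, 0], [30, 1, 5163, 5164], [0, 0], [35, 1, 5168], [53, 2, 1394, 1384, 5168], [31, 1, 5172], [119, 0, 5172, 2196, 1387], [0, 0], [0, 0], [148, 2, 1421, 1384, 5180], [147, 2, 5182, 2758, 1446], [0, 0], [147, 3, 1425, 1384, 5186], [0, 0], [122, 2, 2196, 1388, 5190], [0, 0], [150, 2, 1421, 1388,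 5194], [149, 2, 5196, 2758, 1452]]
def dJ13 : List (List ℕ) := [[0, 0], [149, 3, 1425, 1388, 5200], [0, 0], [125, 2, 1399, 2197, 5204], [0, 0], [152, 2, 1421, 1392, 5208], [195, 2, 1421, 2197, 5208], [0, 0], [154, 2, 1421, 1398, 5214], [153, 2, 5216, 2758, 1466], [0, 0], [153, 3, 1425, 1398, 5220], [0, 0], [77, 2, 5133, 2324, 5224], [0, 0], [62, 1, 5163, 1451, 5228], [131, 2, 5163, 2397, 5228], [0, 0], [81, 2, 5169, 2398, 5234], [0, 0], [33, 1, 5238], [47, 2, 1522, 1506, 5238], [0, 0], [37, 1, 5244], [51, 2, 1526, 1506, 5244], [55, 2, 4448, 1510, 5244], [31, 1, 5250], [0, 0], [59, 1, 2480, 5254], [73, 1, 2856, 449, 431, 2490, 2484, 5254], [74, 4, 2843, 449, 2026, 838, 2258, 5254], [36, 1, 5260], [0, 0], [60, 2, 2482, 5264], [72, 3, 5256, 2482, 5264], [141, 0, 5256, 2486, 5264], [142, 3, 5256, 2488, 5264], [131, 1, 5272, 5258, 2937], [138, 2, 5272, 5263, 2913], [0, 0], [0, 0], [0, 0], [146, 2, 1561, 1506, 5282], [147, 1, 4473, 1509, 5282], [148, 2, 4473, 1510, 5282], [152, 2, 2804, 2258, 5282], [151, 2, 5290, 2543, 2474], [0, 0], [147,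 3, 4483, 1510, 5294], [192, 3, 5293, 4012, 5294], [0, 0], [33, 1, 5300], [47, 2, 5240, 1515, 5300], [29, 2, 5304, 5242], [0, 0], [37, 1, 5308], [51, 2, 5246, 1515, 5308], [55, 2, 2422, 1517, 5308], [31, 1, 5314], [39, 0, 5314, 2424, 444, 362, 1530], [0, 0], [59, 1, 2250, 5320], [0, 0], [60, 2, 2248, 5324], [72, 3, 5322, 2248, 5324], [86, 3, 5322, 2237, 5324], [114, 3, 5322, 4010, 5324], [142, 3, 5322, 2245, 5324], [0, 0], [89, 1, 1539, 1512, 5336], [0, 0], [117, 1, 1553, 1512, 5340], [124, 2, 4165, 2255, 5340], [123, 2, 5344, 4169, 2255], [0, 0], [145, 1, 1561, 1512, 5348], [146, 2, 5283, 1515, 5348], [147, 1, 2451, 1518, 5348], [148, 2, 2451, 1517, 5348], [152, 2, 2807, 2255, 5348], [151, 2, 5358, 2457, 1788], [0, 0], [145, 3, 5295, 1515, 5362], [152, 0, 2797, 2257, 5362], [0, 0], [31, 1, 5368], [41, 1, 1570, 350, 344, 1520, 5368], [33, 1, 5372], [0, 0], [35, 1, 5376], [43, 2, 4196, 848, 1908, 1520, 5376], [33, 1, 5380], [0, 0], [37, 1, 5384], [57, 2, 1526, 1520, 5384], [33, 1, 5388], [0, 0], [59, 1, 2614, 5392], [0, 0], [60, 2, 2616,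 5396], [72, 3, 5394, 2616, 5396], [86, 3, 5394, 2620, 5396], [114, 3, 5394, 4014, 5396], [142, 3, 5394, 2624, 5396], [0, 0], [94, 2, 1539, 1520, 5408], [0, 0], [122, 2, 1553, 1520, 5412], [0, 0], [149, 1, 1561, 1523, 5416], [150, 2, 1561, 1520, 5416], [149, 2, 5420, 2764, 2610], [0, 0], [149, 3, 1567, 1520, 5424], [0, 0], [35, 1, 5428], [53, 2, 1632, 1530, 5428], [31, 1, 5432], [55, 3, 5432, 2415, 4252], [0, 0], [59, 1, 2630, 5438], [0, 0], [60, 2, 2632, 5442], [72, 3, 5440, 2632, 5442], [86, 3, 5440, 2636, 5442], [114, 3, 5440, 3980, 5442], [142, 3, 5440, 2640, 5442], [0, 0], [91, 1, 1655, 1529, 5454], [97, 1, 1539, 1527, 5454], [0, 0], [120, 2, 1671, 1530, 5460], [0, 0], [147, 1, 1673, 1529, 5464], [148, 2, 1673, 1530, 5464], [153, 1, 1561, 1527, 5464], [154, 2, 1561, 1524, 5464], [153, 2, 5472, 2764, 2626], [0, 0], [147, 3, 1679, 1530, 5476], [154, 0, 1567, 1527, 5476], [0, 0], [185, 2, 1561, 1538, 5482], [186, 1, 1561, 3127, 5482], [185, 3, 5486, 2764, 3137], [0, 0], [186, 3, 1567, 1538, 5490], [0, 0], [195, 2, 1561, 1552, 5494],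 [196, 1, 1561, 2229, 5494], [195, 3, 5498, 2764, 2666], [0, 0], [196, 3, 1567, 1552, 5502], [0, 0], [39, 1, 2975, 508, 354, 1568, 5506], [31, 1, 5508], [0, 0], [30, 1, 5507, 5512], [40, 2, 4149, 1225, 353, 1571, 5512], [0, 0], [35, 1, 5518], [53, 2, 1574, 1568, 5518], [31, 1, 5522], [0, 0], [37, 1, 5526], [55, 2, 1582, 1568, 5526], [31, 1, 5530], [0, 0], [59, 1, 3358, 5534], [0, 0], [60, 2, 3360, 5538], [72, 3, 5536, 3360, 5538], [86, 3, 5536, 3364, 5538], [114, 3, 5536, 3986, 5538], [142, 3, 5536, 3368, 5538], [0, 0], [0, 0], [120, 2, 1623, 1568, 5552], [0, 0], [147, 1, 1625, 1571, 5556], [148, 2, 1625, 1568, 5556], [147, 2, 5560, 2791, 3354], [0, 0], [147, 3, 1629, 1568, 5564], [0, 0], [59, 1, 3044, 5568], [73, 1, 4938, 1248, 4053, 4056, 3048, 5568], [74, 4, 4913, 1248, 2166, 353, 1572, 5568], [36, 1, 5574], [0, 0], [60, 2, 3046, 5578], [72, 3, 5570, 3046, 5578], [73, 4, 4865, 2353, 1247, 353, 1572, 5578], [86, 3, 5570, 3050, 5578], [114, 3, 5570, 3960, 5578], [142, 3, 5570, 3054, 5578], [131, 1, 5590, 5572, 4948], [138, 2, 5590, 5577,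 4920], [0, 0], [124, 2, 1623, 1572, 5596]]
def dJ14 : List (List ℕ) := [[0, 0], [152, 2, 1625, 1572, 5600], [151, 2, 5602, 2791, 3056], [0, 0], [151, 3, 1629, 1572, 5606], [198, 3, 5605, 3054, 5606], [197, 1, 5610, 5601, 3053], [0, 0], [59, 1, 3378, 5614], [0, 0], [60, 2, 3380, 5618], [72, 3, 5616, 3380, 5618], [86, 3, 5616, 3384, 5618], [114, 3, 5616, 3957, 5618], [142, 3, 5616, 3388, 5618], [0, 0], [126, 2, 1623, 1580, 5630], [0, 0], [150, 2, 1673, 1588, 5634], [153, 1, 1625, 1583, 5634], [154, 2, 1625, 1580, 5634], [153, 2, 5640, 2791, 3370], [0, 0], [149, 3, 1679, 1588, 5644], [154, 0, 1629, 1583, 5644], [198, 3, 5643, 3388, 5644], [197, 1, 5650, 5635, 3387], [0, 0], [0, 0], [30, 1, 5655, 5656], [73, 2, 3068, 929, 2130, 572, 1592, 5656], [35, 1, 5660], [0, 0], [31, 1, 5664], [0, 0], [33, 1, 5668], [0, 0], [35, 1, 5672], [49, 2, 5662, 5657, 5672], [0, 0], [37, 1, 5678], [0, 0], [100, 2, 1609, 1592, 5682], [0, 0], [128, 2, 1623, 1592, 5686], [0, 0], [156, 2, 1625, 1592, 5690], [155, 2, 5692, 2791, 2086], [0, 0], [155, 3, 1629, 1592,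 5696], [156, 0, 2791, 1866, 5696], [192, 3, 5695, 3990, 5696], [0, 0], [61, 2, 5655, 2392, 5704], [75, 2, 5655, 2395, 5704], [103, 2, 5655, 3988, 5704], [131, 2, 5655, 2391, 5704], [0, 0], [30, 1, 5705, 5714], [62, 3, 5657, 2392, 5714], [73, 2, 3063, 511, 354, 575, 2086, 5714], [76, 3, 5657, 2395, 5714], [132, 3, 5657, 2391, 5714], [137, 1, 5724, 5663, 3074], [0, 0], [63, 2, 5665, 2392, 5728], [77, 2, 5665, 2395, 5728], [105, 2, 5665, 3988, 5728], [133, 2, 5665, 2391, 5728], [0, 0], [65, 2, 5669, 2392, 5738], [79, 2, 5669, 2395, 5738], [107, 2, 5669, 3988, 5738], [135, 2, 5669, 2391, 5738], [0, 0], [49, 2, 5726, 5715, 5748], [67, 2, 5673, 2392, 5748], [81, 2, 5673, 2395, 5748], [109, 2, 5673, 3988, 5748], [137, 2, 5673, 2391, 5748], [0, 0], [69, 2, 5679, 2392, 5760], [83, 2, 5679, 2395, 5760], [111, 2, 5679, 3988, 5760], [139, 2, 5679, 2391, 5760], [0, 0], [186, 1, 1625, 3129, 5770], [185, 3, 5772, 2791, 3408], [0, 0], [198, 3, 5775, 3404, 5776], [197, 1, 5778, 5771, 3407], [0, 0], [59, 1, 3426, 5782], [73, 1, 5094, 1336, 4109, 4112,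 3430, 5782], [74, 4, 5071, 1336, 2178, 361, 1630, 5782], [36, 1, 5788], [0, 0], [60, 2, 3428, 5792], [72, 3, 5784, 3428, 5792], [73, 4, 5021, 2345, 1335, 361, 1630, 5792], [86, 3, 5784, 3432, 5792], [114, 3, 5784, 3926, 5792], [142, 3, 5784, 3436, 5792], [131, 1, 5804, 5786, 5104], [138, 2, 5804, 5791, 5078], [0, 0], [124, 2, 1671, 1630, 5810], [0, 0], [152, 2, 1673, 1630, 5814], [154, 2, 3515, 2417, 5814], [153, 2, 5818, 3509, 3438], [0, 0], [151, 3, 1679, 1630, 5822], [198, 3, 5821, 3436, 5822], [197, 1, 5826, 5815, 3435], [0, 0], [0, 0], [30, 1, 5831, 5832], [73, 2, 3474, 1025, 2138, 582, 1638, 5832], [35, 1, 5836], [0, 0], [31, 1, 5840], [0, 0], [33, 1, 5844], [0, 0], [35, 1, 5848], [49, 2, 5838, 5833, 5848], [0, 0], [37, 1, 5854], [0, 0], [100, 2, 1655, 1638, 5858], [0, 0], [128, 2, 1671, 1638, 5862], [0, 0], [156, 2, 1673, 1638, 5866], [155, 2, 5868, 2789, 2092], [0, 0], [155, 3, 1679, 1638, 5872], [156, 0, 2789, 1874, 5872], [0, 0], [61, 2, 5831, 2386, 5878], [75, 2, 5831, 2389, 5878], [103, 2, 5831, 3982, 5878], [131, 2, 5831,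 2385, 5878], [0, 0], [30, 1, 5879, 5888], [62, 3, 5833, 2386, 5888], [73, 2, 3469, 621, 362, 585, 2092, 5888], [76, 3, 5833, 2389, 5888], [104, 3, 5833, 3982, 5888], [132, 3, 5833, 2385, 5888], [137, 1, 5900, 5839, 3480], [0, 0], [63, 2, 5841, 2386, 5904], [77, 2, 5841, 2389, 5904], [105, 2, 5841, 3982, 5904], [133, 2, 5841, 2385, 5904], [0, 0], [65, 2, 5845, 2386, 5914], [79, 2, 5845, 2389, 5914], [107, 2, 5845, 3982, 5914], [135, 2, 5845, 2385, 5914], [0, 0], [49, 2, 5902, 5889, 5924], [67, 2, 5849, 2386, 5924], [81, 2, 5849, 2389, 5924], [109, 2, 5849, 3982, 5924], [137, 2, 5849, 2385, 5924], [0, 0], [69, 2, 5855, 2386, 5936], [83, 2, 5855, 2389, 5936], [111, 2, 5855, 3982, 5936], [139, 2, 5855, 2385, 5936], [0, 0], [120, 1, 5133, 2338, 5946], [124, 0, 5948, 5137, 5111], [0, 0], [121, 2, 5139, 2314, 5952], [0, 0], [125, 2, 5141, 2314, 5956], [0, 0], [59, 1, 2328, 5960], [115, 1, 5962, 1726, 2072, 401, 2103, 1379, 2338, 5960], [115, 8, 5144, 1435, 309, 81, 364, 1684, 5960, 5964], [0, 0], [152, 2, 5121, 1690, 5968], [195, 2, 5147, 2314,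 5968], [0, 0], [0, 0], [30, 1, 5975, 5976], [0, 0], [148, 2, 1717, 1692, 5980], [147, 2, 5982, 2762, 1736], [0, 0], [147, 3, 1721, 1692, 5986], [0, 0], [150, 2, 1717, 1696, 5990], [149, 2, 5992, 2762, 1738], [0, 0], [149, 3, 1721, 1696, 5996]]
def dJ15 : List (List ℕ) := [[0, 0], [154, 2, 1717, 1698, 6000], [0, 0], [31, 1, 6004], [39, 2, 3356, 2161, 3798, 2464, 6004], [63, 2, 5516, 4134, 6004], [77, 2, 5516, 4138, 6004], [105, 2, 5516, 4142, 6004], [0, 0], [35, 1, 6016], [49, 0, 6018, 1786, 2554], [0, 0], [37, 1, 6022], [57, 2, 2422, 1782, 6022], [33, 1, 6026], [47, 0, 6026, 2424, 2564], [0, 0], [59, 1, 4132, 6032], [0, 0], [60, 2, 4134, 6036], [72, 3, 6034, 4134, 6036], [86, 3, 6034, 4138, 6036], [114, 3, 6034, 4142, 6036], [142, 3, 6034, 4146, 6036], [0, 0], [93, 1, 2427, 1785, 6048], [94, 2, 2427, 1782, 6048], [0, 0], [122, 2, 2443, 1782, 6054], [0, 0], [145, 1, 2603, 1787, 6058], [146, 2, 4743, 2464, 6058], [149, 1, 2451, 1785, 6058], [150, 2, 2451, 1782, 6058], [149, 2, 6066, 2797, 4130], [0, 0], [145, 3, 4733, 2464, 6070], [0,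 0], [65, 2, 5301, 2251, 6074], [79, 2, 5301, 2234, 6074], [107, 2, 5301, 4020, 6074], [0, 0], [69, 2, 5309, 2251, 6082], [83, 2, 5309, 2234, 6082], [111, 2, 5309, 4020, 6082], [139, 2, 5309, 2242, 6082], [140, 1, 5309, 2244, 6082], [0, 0], [35, 1, 6094], [49, 0, 6096, 2424, 2672], [0, 0], [59, 1, 4154, 6100], [0, 0], [60, 2, 4156, 6104], [72, 3, 6102, 4156, 6104], [0, 0], [98, 2, 2427, 2420, 6110], [97, 2, 6112, 3132, 2420], [0, 0], [126, 2, 2443, 2420, 6116], [0, 0], [145, 1, 2814, 2425, 6120], [0, 0], [146, 0, 2695, 2425, 6124], [0, 0], [185, 2, 2451, 2426, 6128], [0, 0], [67, 2, 4679, 4028, 6132], [81, 2, 4679, 4032, 6132], [109, 2, 4679, 2470, 6132], [137, 2, 4679, 4036, 6132], [0, 0], [57, 2, 2494, 2458, 6142], [69, 2, 4689, 4028, 6142], [83, 2, 4689, 4032, 6142], [111, 2, 4689, 2470, 6142], [139, 2, 4689, 4036, 6142], [140, 1, 4689, 4034, 6142], [134, 0, 6154, 4701, 4097], [136, 0, 6154, 4699, 4188], [47, 0, 6144, 2496, 6028], [0, 0], [94, 2, 2515, 2458, 6162], [0, 0], [122, 2, 2533, 2458, 6166], [0, 0], [41, 2, 5240, 1508, 3721,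 3671, 6170], [65, 2, 5239, 2481, 6170], [79, 2, 5239, 2485, 6170], [107, 2, 5239, 4019, 6170], [135, 2, 5239, 2487, 6170], [136, 1, 5239, 2489, 6170], [133, 1, 6180, 6173, 6182], [0, 0], [37, 1, 6186], [69, 2, 5245, 2481, 6186], [83, 2, 5245, 2485, 6186], [111, 2, 5245, 4019, 6186], [139, 2, 5245, 2487, 6186], [140, 1, 5245, 2489, 6186], [132, 0, 6198, 5313, 6093], [0, 0], [95, 1, 2515, 2477, 6202], [0, 0], [124, 2, 2533, 2474, 6206], [0, 0], [35, 1, 6210], [49, 2, 2674, 2498, 6210], [29, 2, 6214, 6098], [0, 0], [59, 1, 4176, 6218], [0, 0], [60, 2, 4178, 6222], [72, 3, 6220, 4178, 6222], [86, 3, 6220, 4182, 6222], [114, 3, 6220, 4186, 6222], [142, 3, 6220, 4190, 6222], [0, 0], [90, 2, 2823, 2498, 6234], [0, 0], [126, 2, 2533, 2492, 6238], [0, 0], [145, 1, 6121, 2497, 6242], [146, 2, 2814, 2498, 6242], [153, 1, 2537, 2495, 6242], [154, 2, 2537, 2492, 6242], [0, 0], [145, 3, 2695, 2498, 6252], [0, 0], [0, 0], [30, 1, 6257, 6258], [73, 2, 5321, 2254, 841, 2267, 2500, 6258], [35, 1, 6262], [0, 0], [31, 1, 6266], [0, 0], [33, 1, 6270], [0,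 0], [35, 1, 6274], [49, 2, 6264, 6259, 6274], [0, 0], [37, 1, 6280], [0, 0], [100, 2, 2515, 2500, 6284], [0, 0], [128, 2, 2533, 2500, 6288], [0, 0], [156, 2, 2537, 2500, 6292], [155, 2, 6294, 2799, 2507], [0, 0], [155, 3, 2543, 2500, 6298], [156, 0, 2799, 2503, 6298], [0, 0], [61, 2, 6257, 2509, 6304], [75, 2, 6257, 2511, 6304], [103, 2, 6257, 4046, 6304], [131, 2, 6257, 2513, 6304], [0, 0], [62, 3, 6259, 2509, 6314], [76, 3, 6259, 2511, 6314], [0, 0], [65, 2, 6271, 2509, 6320], [79, 2, 6271, 2511, 6320], [107, 2, 6271, 4046, 6320], [135, 2, 6271, 2513, 6320], [0, 0], [53, 2, 2556, 2546, 6330], [31, 1, 6332], [0, 0], [37, 1, 6336], [55, 2, 2560, 2546, 6336], [57, 2, 2988, 2552, 6336], [33, 1, 6342], [41, 0, 6342, 2990, 518, 446, 2564], [0, 0], [59, 1, 3970, 6348], [0, 0], [60, 2, 3968, 6352], [72, 3, 6350, 3968, 6352], [86, 3, 6350, 3972, 6352], [142, 3, 6350, 3976, 6352], [0, 0], [92, 2, 2583, 2546, 6362], [0, 0], [120, 2, 2599, 2546, 6366], [0, 0], [147, 1, 2603, 2549, 6370], [148, 2, 2603, 2546, 6370], [150, 2, 3027, 2552, 6370],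 [149, 2, 6376, 3033, 3884], [0, 0], [147, 3, 2609, 2546, 6380], [198, 3, 6379, 3976, 6380], [197, 1, 6384, 6371, 3979], [0, 0], [33, 1, 6388], [65, 2, 5383, 4200, 6388], [79, 2, 5383, 4204, 6388], [107, 2, 5383, 4208, 6388], [135, 2, 5383, 4212, 6388]]
def dJ16 : List (List ℕ) := [[136, 1, 5383, 4210, 6388], [138, 0, 6400, 5377, 2625], [0, 0], [37, 1, 6404], [0, 0], [59, 1, 4198, 6408], [0, 0], [60, 2, 4200, 6412], [72, 3, 6410, 4200, 6412], [86, 3, 6410, 4204, 6412], [114, 3, 6410, 4208, 6412], [142, 3, 6410, 4212, 6412], [0, 0], [96, 2, 2583, 2554, 6424], [95, 2, 6426, 3134, 2554], [0, 0], [124, 2, 2599, 2554, 6430], [0, 0], [151, 1, 2603, 2557, 6434], [152, 2, 2603, 2554, 6434], [151, 2, 6438, 2801, 4194], [0, 0], [151, 3, 2609, 2554, 6442], [0, 0], [35, 1, 6446], [0, 0], [59, 1, 4218, 6450], [0, 0], [60, 2, 4220, 6454], [72, 3, 6452, 4220, 6454], [86, 3, 6452, 4224, 6454], [114, 3, 6452, 4228, 6454], [142, 3, 6452, 4232, 6454], [0, 0], [94, 2, 2823, 2564, 6466], [98, 2, 2583, 2558, 6466], [97, 2, 6470, 3134, 2558], [0, 0], [126,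 2, 2599, 2558, 6474], [0, 0], [150, 2, 2814, 2564, 6478], [153, 1, 2603, 2561, 6478], [154, 2, 2603, 2558, 6478], [153, 2, 6484, 2801, 4214], [0, 0], [149, 3, 2695, 2564, 6488], [150, 0, 2695, 2563, 6488], [154, 0, 2609, 2561, 6488], [0, 0], [0, 0], [30, 1, 6497, 6498], [0, 0], [31, 1, 6502], [0, 0], [33, 1, 6506], [0, 0], [35, 1, 6510], [0, 0], [37, 1, 6514], [0, 0], [100, 2, 2583, 2566, 6518], [0, 0], [128, 2, 2599, 2566, 6522], [0, 0], [156, 2, 2603, 2566, 6526], [155, 2, 6528, 2801, 2573], [0, 0], [155, 3, 2609, 2566, 6532], [156, 0, 2801, 2569, 6532], [198, 3, 6531, 2578, 6532], [0, 0], [61, 2, 6497, 2575, 6540], [75, 2, 6497, 2577, 6540], [103, 2, 6497, 4024, 6540], [131, 2, 6497, 2581, 6540], [0, 0], [62, 3, 6499, 2575, 6550], [76, 3, 6499, 2577, 6550], [104, 3, 6499, 4024, 6550], [132, 3, 6499, 2581, 6550], [0, 0], [63, 2, 6503, 2575, 6560], [77, 2, 6503, 2577, 6560], [133, 2, 6503, 2581, 6560], [0, 0], [67, 2, 6511, 2575, 6568], [81, 2, 6511, 2577, 6568], [109, 2, 6511, 4024, 6568], [137, 2, 6511, 2581, 6568], [0, 0], [69, 2,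 6515, 2575, 6578], [83, 2, 6515, 2577, 6578], [111, 2, 6515, 4024, 6578], [139, 2, 6515, 2581, 6578], [0, 0], [63, 2, 5369, 2615, 6588], [133, 2, 5369, 2623, 6588], [0, 0], [69, 2, 5385, 2615, 6594], [83, 2, 5385, 2619, 6594], [111, 2, 5385, 4017, 6594], [139, 2, 5385, 2623, 6594], [140, 1, 5385, 2625, 6594], [136, 0, 6604, 5391, 2641], [0, 0], [45, 1, 2674, 442, 428, 2626, 6608], [67, 2, 5429, 2631, 6608], [81, 2, 5429, 2635, 6608], [109, 2, 5429, 3985, 6608], [137, 2, 5429, 2639, 6608], [138, 1, 5429, 2641, 6608], [134, 0, 6620, 5435, 3437], [140, 0, 6620, 5437, 4248], [0, 0], [33, 1, 6626], [0, 0], [59, 1, 4236, 6630], [0, 0], [60, 2, 4238, 6634], [72, 3, 6632, 4238, 6634], [86, 3, 6632, 4242, 6634], [114, 3, 6632, 4246, 6634], [142, 3, 6632, 4250, 6634], [0, 0], [91, 1, 3485, 2677, 6646], [95, 1, 2823, 2675, 6646], [96, 2, 2823, 2672, 6646], [95, 2, 6652, 3138, 2672], [0, 0], [124, 2, 2837, 2672, 6656], [0, 0], [152, 2, 2814, 2672, 6660], [151, 2, 6662, 2812, 4234], [0, 0], [151, 3, 2695, 2672, 6666], [0, 0], [31, 1, 6670], [0, 0],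 [33, 1, 6674], [47, 2, 2852, 2840, 6674], [0, 0], [35, 1, 6680], [49, 2, 2856, 2840, 6680], [29, 2, 6684, 5259], [0, 0], [37, 1, 6688], [51, 2, 2860, 2840, 6688], [0, 0], [0, 0], [60, 2, 2894, 6696], [0, 0], [90, 2, 2863, 2840, 6700], [0, 0], [118, 2, 2873, 2840, 6704], [117, 2, 6706, 2877, 2840], [0, 0], [146, 2, 2879, 2840, 6710], [145, 2, 6712, 2883, 2890], [0, 0], [145, 3, 2885, 2840, 6716], [0, 0], [31, 1, 6720], [129, 3, 5163, 1386, 2078, 145, 156, 2033, 448, 2842, 6720], [59, 0, 6724, 5231], [0, 0], [33, 1, 6728], [47, 2, 6676, 2845, 6728], [29, 2, 6732, 6678], [0, 0], [37, 1, 6736], [51, 2, 6690, 2845, 6736], [29, 2, 6740, 6692], [0, 0], [59, 1, 2906, 6744], [0, 0], [116, 0, 6687, 5255, 1507, 836, 829, 2035, 2842, 6748], [142, 3, 6746, 2910, 6748], [124, 0, 6750, 6681, 6708], [123, 2, 6681, 6704, 6754], [0, 0], [0, 0], [117, 1, 2873, 2842, 6760], [0, 0], [145, 1, 2879, 2842, 6764], [146, 2, 6711, 2845, 6764], [145, 2, 6768, 6715, 2905], [0, 0], [146, 0, 2885, 2842, 6772], [192, 3, 6771, 3994, 6772], [0, 0], [0, 0], [30, 1, 6779,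 6780], [0, 0], [33, 1, 6784], [0, 0], [35, 1, 6788], [53, 2, 2856, 2846, 6788], [31, 1, 6792], [0, 0], [37, 1, 6796]]
def dJ17 : List (List ℕ) := [[55, 2, 2860, 2846, 6796], [31, 1, 6800], [0, 0], [0, 0], [60, 2, 2920, 6806], [0, 0], [92, 2, 2863, 2846, 6810], [0, 0], [120, 2, 2873, 2846, 6814], [0, 0], [147, 1, 2879, 2849, 6818], [148, 2, 2879, 2846, 6818], [147, 2, 6822, 2883, 2914], [0, 0], [147, 3, 2885, 2846, 6826], [0, 0], [31, 1, 6830], [0, 0], [35, 1, 6834], [0, 0], [37, 1, 6838], [57, 2, 2860, 2850, 6838], [33, 1, 6842], [0, 0], [0, 0], [60, 2, 2928, 6848], [0, 0], [150, 2, 2879, 2850, 6852], [149, 2, 6854, 2883, 2926], [0, 0], [149, 3, 2885, 2850, 6858], [0, 0], [33, 1, 6862], [0, 0], [37, 1, 6866], [0, 0], [0, 0], [0, 0], [152, 2, 2879, 2854, 6874], [151, 2, 6876, 2883, 2932], [0, 0], [35, 1, 6880], [0, 0], [59, 1, 2942, 6884], [0, 0], [60, 2, 2944, 6888], [72, 3, 6886, 2944, 6888], [86, 3, 6886, 2948, 6888], [114, 3, 6886, 4000, 6888], [142, 3, 6886, 2952, 6888], [0, 0], [98, 2, 2863, 2858, 6900], [0, 0], [126, 2, 2873, 2858,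 6904], [0, 0], [154, 2, 2879, 2858, 6908], [153, 2, 6910, 2883, 2938], [0, 0], [153, 3, 2885, 2858, 6914], [0, 0], [79, 2, 6675, 2897, 6918], [0, 0], [138, 1, 6681, 2901, 6922], [132, 0, 6924, 6687, 5271], [194, 3, 6924, 6757, 6752], [0, 0], [69, 2, 6689, 2893, 6930], [83, 2, 6689, 2897, 6930], [111, 2, 6689, 4007, 6930], [139, 2, 6689, 2899, 6930], [0, 0], [123, 1, 6928, 6923, 6940], [0, 0], [63, 2, 6721, 2907, 6944], [77, 2, 6721, 2909, 6944], [134, 1, 6721, 2911, 6944], [142, 0, 6950, 6727, 5232], [0, 0], [69, 2, 6737, 2907, 6954], [83, 2, 6737, 2909, 6954], [111, 2, 6737, 4008, 6954], [139, 2, 6737, 2913, 6954], [0, 0], [61, 2, 6779, 2919, 6964], [75, 2, 6779, 2923, 6964], [103, 2, 6779, 4005, 6964], [131, 2, 6779, 2925, 6964], [0, 0], [65, 2, 6785, 2919, 6974], [0, 0], [69, 2, 6797, 2919, 6978], [0, 0], [83, 2, 6839, 2931, 6982], [0, 0], [69, 2, 6867, 2935, 6986], [139, 2, 6867, 2937, 6986], [0, 0], [67, 2, 6881, 2943, 6992], [81, 2, 6881, 2947, 6992], [109, 2, 6881, 4003, 6992], [137, 2, 6881, 2951, 6992], [0, 0], [35, 1, 7002],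 [49, 2, 2980, 2966, 7002], [67, 2, 6331, 3971, 7002], [109, 2, 6331, 2970, 7002], [0, 0], [37, 1, 7012], [51, 2, 2988, 2966, 7012], [69, 2, 6337, 3971, 7012], [83, 2, 6337, 3975, 7012], [111, 2, 6337, 2970, 7012], [139, 2, 6337, 3979, 7012], [140, 1, 6337, 3977, 7012], [134, 0, 7026, 6347, 4233], [0, 0], [35, 1, 7030], [49, 2, 7004, 2977, 7030], [29, 2, 7034, 7006], [0, 0], [37, 1, 7038], [51, 2, 7014, 2977, 7038], [29, 2, 7042, 7016], [0, 0], [59, 1, 4262, 7046], [0, 0], [60, 2, 4260, 7050], [72, 3, 7048, 4260, 7050], [86, 3, 7048, 4264, 7050], [0, 0], [0, 0], [0, 0], [145, 1, 3027, 2974, 7062], [146, 2, 6387, 2977, 7062], [145, 2, 7066, 6381, 4257], [0, 0], [145, 3, 6379, 2977, 7070], [146, 0, 3035, 2974, 7070], [0, 0], [33, 1, 7076], [0, 0], [55, 2, 3060, 2984, 7080], [31, 1, 7082], [0, 0], [59, 1, 4278, 7086], [0, 0], [60, 2, 4280, 7090], [86, 3, 7088, 4282, 7090], [0, 0], [96, 2, 3009, 2978, 7096], [0, 0], [124, 2, 3023, 2978, 7100], [0, 0], [148, 2, 3161, 2984, 7104], [152, 2, 3027, 2978, 7104], [151, 2, 7108, 3033, 4274], [0,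 0], [151, 3, 3035, 2978, 7112], [0, 0], [53, 2, 3172, 2992, 7116], [31, 1, 7118], [0, 0], [59, 1, 4288, 7122], [0, 0], [60, 2, 4290, 7126], [72, 3, 7124, 4290, 7126], [86, 3, 7124, 4294, 7126], [114, 3, 7124, 4298, 7126], [142, 3, 7124, 4302, 7126], [0, 0], [92, 2, 3189, 2992, 7138], [97, 1, 3009, 2989, 7138], [0, 0], [126, 2, 3023, 2986, 7144], [0, 0], [148, 2, 3207, 2992, 7148], [153, 1, 3027, 2989, 7148], [154, 2, 3027, 2986, 7148], [153, 2, 7154, 3033, 4286], [0, 0], [147, 3, 3217, 2992, 7158], [154, 0, 3035, 2989, 7158], [0, 0], [0, 0], [30, 1, 7165, 7166], [0, 0], [31, 1, 7170], [0, 0], [33, 1, 7174], [0, 0], [35, 1, 7178], [0, 0], [37, 1, 7182], [0, 0], [100, 2, 3009, 2994, 7186], [0, 0], [128, 2, 3023, 2994, 7190], [0, 0], [156, 2, 3027, 2994, 7194], [155, 2, 7196, 3033, 3001]]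
def dJ18 : List (List ℕ) := [[0, 0], [155, 3, 3035, 2994, 7200], [156, 0, 3033, 2997, 7200], [0, 0], [61, 2, 7165, 3003, 7206], [75, 2, 7165, 3005, 7206], [131, 2, 7165, 3007, 7206], [0, 0], [62, 3, 7167, 3003, 7214], [76, 3, 7167, 3005, 7214], [0, 0], [133, 2, 7171, 3007, 7220], [0, 0], [65, 2, 7175, 3003, 7224], [79, 2, 7175, 3005, 7224], [107, 2, 7175, 3966, 7224], [135, 2, 7175, 3007, 7224], [0, 0], [69, 2, 7183, 3003, 7234], [83, 2, 7183, 3005, 7234], [111, 2, 7183, 3966, 7234], [139, 2, 7183, 3007, 7234], [0, 0], [91, 2, 7085, 3142, 7244], [92, 1, 7085, 3149, 7244], [133, 2, 5525, 3053, 7244], [134, 1, 5525, 3055, 7244], [138, 0, 7252, 5519, 3369], [0, 0], [0, 0], [60, 2, 4308, 7258], [100, 3, 5570, 3148, 7258], [0, 0], [152, 2, 5781, 3398, 7264], [186, 1, 5613, 3143, 7264], [185, 3, 7268, 5607, 4316], [0, 0], [151, 3, 5775, 3398, 7272], [0, 0], [49, 1, 5717, 5720, 7276], [35, 1, 7278], [0, 0], [31, 1, 7282], [0, 0], [33, 1, 7286], [0, 0], [37, 1, 7290], [0, 0], [100, 2, 3079, 3062, 7294], [0, 0], [128, 2, 3157, 3062, 7298], [0,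 0], [156, 2, 3161, 3062, 7302], [155, 2, 7304, 3165, 3069], [0, 0], [155, 3, 3167, 3062, 7308], [156, 0, 3165, 3065, 7308], [192, 3, 7307, 3962, 7308], [0, 0], [29, 1, 5676, 7316], [49, 1, 5659, 5660, 7316], [61, 2, 7277, 3071, 7316], [75, 2, 7277, 3073, 7316], [103, 2, 7277, 3964, 7316], [131, 2, 7277, 3077, 7316], [132, 1, 7277, 3075, 7316], [138, 0, 7330, 7281, 5712], [0, 0], [63, 2, 7283, 3071, 7334], [133, 2, 7283, 3077, 7334], [0, 0], [65, 2, 7287, 3071, 7340], [79, 2, 7287, 3073, 7340], [107, 2, 7287, 3964, 7340], [135, 2, 7287, 3077, 7340], [0, 0], [185, 2, 3161, 3078, 7350], [186, 1, 3161, 3140, 7350], [185, 3, 7354, 3165, 4326], [0, 0], [153, 3, 5605, 3151, 7358], [186, 3, 3167, 3078, 7358], [0, 0], [0, 0], [60, 2, 4332, 7366], [100, 3, 5616, 3395, 7366], [0, 0], [152, 2, 3207, 3170, 7372], [153, 1, 5781, 3402, 7372], [186, 1, 5653, 3393, 7372], [185, 3, 7378, 5645, 4340], [0, 0], [151, 3, 3217, 3170, 7382], [154, 0, 5775, 3402, 7382], [0, 0], [0, 0], [30, 1, 7389, 7390], [0, 0], [31, 1, 7394], [0, 0], [33, 1, 7398], [0, 0],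 [35, 1, 7402], [0, 0], [37, 1, 7406], [0, 0], [100, 2, 3189, 3174, 7410], [73, 2, 7412, 3375, 3376, 2365, 3174, 7390], [74, 5, 7412, 4351, 4344, 3172, 3174, 7405], [99, 2, 7412, 3197, 3174], [95, 0, 7404, 7418, 7415], [0, 0], [128, 2, 3203, 3174, 7422], [0, 0], [156, 2, 3207, 3174, 7426], [155, 2, 7428, 3215, 3181], [0, 0], [155, 3, 3217, 3174, 7432], [0, 0], [61, 2, 7389, 3183, 7436], [75, 2, 7389, 3185, 7436], [103, 2, 7389, 3954, 7436], [131, 2, 7389, 3187, 7436], [0, 0], [62, 3, 7391, 3183, 7446], [76, 3, 7391, 3185, 7446], [104, 3, 7391, 3954, 7446], [132, 3, 7391, 3187, 7446], [0, 0], [63, 2, 7395, 3183, 7456], [77, 2, 7395, 3185, 7456], [105, 2, 7395, 3954, 7456], [133, 2, 7395, 3187, 7456], [0, 0], [185, 2, 3207, 3188, 7466], [186, 1, 3207, 3196, 7466], [185, 3, 7470, 3215, 4354], [0, 0], [186, 3, 3217, 3188, 7474], [0, 0], [31, 1, 7478], [0, 0], [33, 1, 7482], [47, 2, 3234, 3222, 7482], [0, 0], [35, 1, 7488], [49, 2, 3238, 3222, 7488], [29, 2, 7492, 4778], [0, 0], [37, 1, 7496], [51, 2, 3242, 3222, 7496], [0, 0], [59, 1, 3272,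 7502], [0, 0], [60, 2, 3274, 7506], [72, 3, 7504, 3274, 7506], [86, 3, 7504, 3278, 7506], [114, 3, 7504, 3930, 7506], [142, 3, 7504, 3282, 7506], [0, 0], [90, 2, 3245, 3222, 7518], [0, 0], [118, 2, 3255, 3222, 7522], [0, 0], [146, 2, 3259, 3222, 7526], [145, 2, 7528, 3263, 3270], [0, 0], [145, 3, 3265, 3222, 7532], [0, 0], [31, 1, 7536], [0, 0], [33, 1, 7540], [47, 2, 7484, 3227, 7540], [29, 2, 7544, 7486], [0, 0], [37, 1, 7548], [51, 2, 7498, 3227, 7548], [29, 2, 7552, 7500], [0, 0], [0, 0], [60, 2, 3288, 7558], [0, 0], [89, 1, 3245, 3224, 7562], [0, 0], [117, 1, 3255, 3224, 7566], [0, 0], [145, 1, 3259, 3224, 7570], [146, 2, 7527, 3227, 7570], [145, 2, 7574, 7531, 3287], [0, 0], [146, 0, 3265, 3224, 7578], [0, 0], [0, 0], [30, 1, 7583, 7584], [0, 0], [33, 1, 7588], [0, 0], [35, 1, 7592], [53, 2, 3238, 3228, 7592], [31, 1, 7596]]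
def dJ19 : List (List ℕ) := [[0, 0], [37, 1, 7600], [55, 2, 3242, 3228, 7600], [31, 1, 7604], [0, 0], [59, 1, 3300, 7608], [0, 0], [60, 2, 3302, 7612], [72, 3, 7610, 3302, 7612], [0, 0], [92, 2, 3245, 3228, 7618], [0, 0], [120, 2, 3255, 3228, 7622], [0, 0], [147, 1, 3259, 3231, 7626], [148, 2, 3259, 3228, 7626], [147, 2, 7630, 3263, 3296], [0, 0], [147, 3, 3265, 3228, 7634], [0, 0], [31, 1, 7638], [0, 0], [35, 1, 7642], [0, 0], [37, 1, 7646], [57, 2, 3242, 3232, 7646], [33, 1, 7650], [0, 0], [0, 0], [94, 2, 3245, 3232, 7656], [0, 0], [122, 2, 3255, 3232, 7660], [0, 0], [150, 2, 3259, 3232, 7664], [149, 2, 7666, 3263, 3308], [0, 0], [149, 3, 3265, 3232, 7670], [0, 0], [33, 1, 7674], [0, 0], [37, 1, 7678], [0, 0], [0, 0], [60, 2, 3326, 7684], [0, 0], [96, 2, 3245, 3236, 7688], [0, 0], [124, 2, 3255, 3236, 7692], [0, 0], [151, 1, 3259, 3239, 7696], [152, 2, 3259, 3236, 7696], [151, 2, 7700, 3263, 3320], [0, 0], [151, 3, 3265, 3236, 7704], [0, 0], [35, 1, 7708], [0, 0], [0, 0], [60, 2, 3340, 7714], [0, 0], [98, 2, 3245, 3240, 7718], [0,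 0], [126, 2, 3255, 3240, 7722], [0, 0], [154, 2, 3259, 3240, 7726], [153, 2, 7728, 3263, 3334], [0, 0], [153, 3, 3265, 3240, 7732], [0, 0], [65, 2, 7483, 3273, 7736], [0, 0], [67, 2, 7489, 3273, 7740], [81, 2, 7489, 3277, 7740], [109, 2, 7489, 3949, 7740], [137, 2, 7489, 3281, 7740], [138, 1, 7489, 3283, 7740], [132, 0, 7750, 7495, 4776], [0, 0], [69, 2, 7497, 3273, 7754], [83, 2, 7497, 3277, 7754], [111, 2, 7497, 3949, 7754], [139, 2, 7497, 3281, 7754], [0, 0], [63, 2, 7537, 3291, 7764], [77, 2, 7537, 3293, 7764], [133, 2, 7537, 3295, 7764], [0, 0], [65, 2, 7541, 3291, 7772], [79, 2, 7541, 3293, 7772], [107, 2, 7541, 3950, 7772], [0, 0], [69, 2, 7549, 3291, 7780], [83, 2, 7549, 3293, 7780], [111, 2, 7549, 3950, 7780], [139, 2, 7549, 3295, 7780], [0, 0], [61, 2, 7583, 3301, 7790], [75, 2, 7583, 3305, 7790], [131, 2, 7583, 3307, 7790], [0, 0], [76, 3, 7585, 3305, 7798], [0, 0], [67, 2, 7593, 3301, 7802], [81, 2, 7593, 3305, 7802], [109, 2, 7593, 3947, 7802], [137, 2, 7593, 3307, 7802], [0, 0], [69, 2, 7601, 3301, 7812], [83, 2, 7601,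 3305, 7812], [111, 2, 7601, 3947, 7812], [139, 2, 7601, 3307, 7812], [0, 0], [63, 2, 7639, 3313, 7822], [133, 2, 7639, 3319, 7822], [0, 0], [67, 2, 7643, 3313, 7828], [81, 2, 7643, 3317, 7828], [109, 2, 7643, 3945, 7828], [137, 2, 7643, 3319, 7828], [0, 0], [69, 2, 7647, 3313, 7838], [83, 2, 7647, 3317, 7838], [111, 2, 7647, 3945, 7838], [139, 2, 7647, 3319, 7838], [0, 0], [65, 2, 7675, 3325, 7848], [79, 2, 7675, 3329, 7848], [107, 2, 7675, 3943, 7848], [135, 2, 7675, 3331, 7848], [0, 0], [61, 2, 5507, 3359, 7858], [75, 2, 5507, 3363, 7858], [103, 2, 5507, 3993, 7858], [131, 2, 5507, 3367, 7858], [0, 0], [37, 1, 7868], [69, 2, 5527, 3359, 7868], [83, 2, 5527, 3363, 7868], [111, 2, 5527, 3993, 7868], [139, 2, 5527, 3367, 7868], [140, 1, 5527, 3369, 7868], [134, 0, 7880, 5533, 3389], [91, 2, 7121, 3392, 7882], [92, 1, 7121, 3394, 7882], [0, 0], [95, 1, 7249, 7255, 7888], [98, 2, 7887, 7870, 7888], [184, 2, 5551, 3367, 7888], [0, 0], [31, 1, 7896], [55, 1, 6648, 3488, 7896], [92, 1, 6623, 3466, 7896], [98, 0, 7902, 6625, 6654], [0, 0],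 [0, 0], [60, 2, 4362, 7908], [100, 3, 5784, 3464, 7908], [0, 0], [150, 2, 3503, 3456, 7914], [186, 1, 5829, 3466, 7914], [185, 3, 7918, 5823, 4370], [0, 0], [149, 3, 3509, 3456, 7922], [0, 0], [49, 1, 5891, 5894, 7926], [35, 1, 7928], [0, 0], [31, 1, 7932], [0, 0], [33, 1, 7936], [0, 0], [37, 1, 7940], [0, 0], [100, 2, 3485, 3468, 7944], [0, 0], [128, 2, 3499, 3468, 7948], [0, 0], [156, 2, 3503, 3468, 7952], [155, 2, 7954, 3507, 3475], [0, 0], [155, 3, 3509, 3468, 7958], [156, 0, 3507, 3471, 7958], [0, 0], [29, 1, 5852, 7964], [49, 1, 5835, 5836, 7964], [61, 2, 7927, 3477, 7964], [103, 2, 7927, 3928, 7964], [132, 1, 7927, 3481, 7964], [138, 0, 7974, 7931, 5886], [0, 0], [63, 2, 7933, 3477, 7978], [77, 2, 7933, 3479, 7978], [0, 0], [65, 2, 7937, 3477, 7984], [0, 0], [69, 2, 7941, 3477, 7988], [83, 2, 7941, 3479, 7988], [111, 2, 7941, 3928, 7988], [139, 2, 7941, 3483, 7988], [0, 0]]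
def dJ20 : List (List ℕ) := [[185, 2, 3503, 3484, 7998], [186, 1, 3503, 3492, 7998], [185, 3, 8002, 3507, 4382], [0, 0], [186, 3, 3509, 3484, 8006], [0, 0], [31, 1, 8010], [0, 0], [33, 1, 8014], [47, 2, 3528, 3516, 8014], [0, 0], [35, 1, 8020], [49, 2, 3532, 3516, 8020], [29, 2, 8024, 4988], [0, 0], [37, 1, 8028], [51, 2, 3536, 3516, 8028], [0, 0], [59, 1, 3568, 8034], [0, 0], [60, 2, 3570, 8038], [72, 3, 8036, 3570, 8038], [0, 0], [90, 2, 3539, 3516, 8044], [89, 2, 8046, 3543, 3516], [0, 0], [118, 2, 3551, 3516, 8050], [0, 0], [146, 2, 3555, 3516, 8054], [145, 2, 8056, 3559, 3566], [0, 0], [145, 3, 3561, 3516, 8060], [0, 0], [31, 1, 8064], [0, 0], [33, 1, 8068], [47, 2, 8016, 3521, 8068], [29, 2, 8072, 8018], [0, 0], [37, 1, 8076], [51, 2, 8030, 3521, 8076], [29, 2, 8080, 8032], [0, 0], [59, 1, 3584, 8084], [0, 0], [60, 2, 3582, 8088], [86, 3, 8086, 3586, 8088], [0, 0], [90, 2, 8045, 3521, 8094], [89, 2, 8096, 8049, 3521], [0, 0], [117, 1, 3551, 3518, 8100], [0, 0], [145, 1, 3555, 3518, 8104], [146, 2, 8055, 3521, 8104], [145, 2, 8108,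 8059, 3581], [0, 0], [146, 0, 3561, 3518, 8112], [0, 0], [0, 0], [30, 1, 8117, 8118], [0, 0], [0, 0], [55, 2, 3536, 3522, 8124], [31, 1, 8126], [0, 0], [148, 2, 3555, 3522, 8130], [147, 2, 8132, 3559, 3592], [0, 0], [147, 3, 3561, 3522, 8136], [0, 0], [31, 1, 8140], [0, 0], [35, 1, 8144], [0, 0], [37, 1, 8148], [57, 2, 3536, 3526, 8148], [33, 1, 8152], [0, 0], [0, 0], [60, 2, 3606, 8158], [0, 0], [94, 2, 3539, 3526, 8162], [0, 0], [122, 2, 3551, 3526, 8166], [0, 0], [150, 2, 3555, 3526, 8170], [149, 2, 8172, 3559, 3600], [0, 0], [149, 3, 3561, 3526, 8176], [0, 0], [0, 0], [60, 2, 3616, 8182], [0, 0], [152, 2, 3555, 3530, 8186], [151, 2, 8188, 3559, 3612], [0, 0], [151, 3, 3561, 3530, 8192], [0, 0], [35, 1, 8196], [0, 0], [0, 0], [98, 2, 3539, 3534, 8202], [0, 0], [126, 2, 3551, 3534, 8206], [0, 0], [153, 1, 3555, 3537, 8210], [154, 2, 3555, 3534, 8210], [153, 2, 8214, 3559, 3620], [0, 0], [153, 3, 3561, 3534, 8218], [0, 0], [63, 2, 8011, 3569, 8222], [77, 2, 8011, 3573, 8222], [105, 2, 8011, 3921, 8222], [133, 2, 8011, 3575, 8222], [0,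 0], [65, 2, 8015, 3569, 8232], [79, 2, 8015, 3573, 8232], [107, 2, 8015, 3921, 8232], [135, 2, 8015, 3575, 8232], [0, 0], [138, 1, 8021, 3577, 8242], [132, 0, 8244, 8027, 4986], [0, 0], [69, 2, 8029, 3569, 8248], [83, 2, 8029, 3573, 8248], [0, 0], [63, 2, 8065, 3585, 8254], [77, 2, 8065, 3589, 8254], [133, 2, 8065, 3591, 8254], [0, 0], [65, 2, 8069, 3585, 8262], [79, 2, 8069, 3589, 8262], [107, 2, 8069, 3922, 8262], [135, 2, 8069, 3591, 8262], [0, 0], [69, 2, 8077, 3585, 8272], [83, 2, 8077, 3589, 8272], [0, 0], [61, 2, 8117, 3595, 8278], [75, 2, 8117, 3597, 8278], [131, 2, 8117, 3599, 8278], [0, 0], [63, 2, 8141, 3605, 8286], [77, 2, 8141, 3609, 8286], [105, 2, 8141, 3919, 8286], [133, 2, 8141, 3611, 8286], [0, 0], [67, 2, 8197, 3625, 8296], [0, 0], [55, 2, 6188, 3657, 8300], [57, 2, 4448, 3721, 8300], [69, 2, 4447, 3663, 8300], [83, 2, 4447, 3665, 8300], [111, 2, 4447, 4022, 8300], [139, 2, 4447, 3669, 8300], [140, 1, 4447, 3667, 8300], [132, 0, 8314, 4453, 3709], [135, 1, 8312, 8305, 8314], [0, 0], [45, 1, 4516, 1122, 2149, 3692,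 8320], [67, 2, 4515, 3699, 8320], [81, 2, 4515, 3703, 8320], [109, 2, 4515, 4038, 8320], [137, 2, 4515, 3707, 8320], [138, 1, 4515, 3709, 8320], [139, 1, 8330, 8323, 8332], [0, 0], [0, 0], [49, 2, 4680, 4148, 8338], [67, 2, 6017, 4133, 8338], [81, 2, 6017, 4137, 8338], [109, 2, 6017, 4141, 8338], [137, 2, 6017, 4145, 8338], [0, 0], [51, 2, 4690, 4148, 8350], [69, 2, 6023, 4133, 8350], [83, 2, 6023, 4137, 8350], [111, 2, 6023, 4141, 8350], [139, 2, 6023, 4145, 8350], [0, 0], [67, 2, 6095, 4155, 8362], [81, 2, 6095, 4159, 8362], [109, 2, 6095, 4161, 8362], [137, 2, 6095, 4163, 8362], [0, 0], [67, 2, 6211, 4177, 8372], [81, 2, 6211, 4181, 8372], [109, 2, 6211, 4185, 8372], [137, 2, 6211, 4189, 8372], [0, 0], [67, 2, 7031, 4263, 8382], [81, 2, 7031, 4267, 8382], [0, 0], [51, 2, 6338, 4257, 8388], [57, 2, 7040, 4259, 8388], [69, 2, 7039, 4263, 8388], [83, 2, 7039, 4267, 8388], [111, 2, 7039, 4269, 8388]]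
def dJ21 : List (List ℕ) := [[139, 2, 7039, 4273, 8388], [140, 1, 7039, 4271, 8388], [132, 0, 8402, 7045, 4303], [135, 1, 8400, 8393, 8402], [0, 0], [90, 2, 6363, 4257, 8408], [0, 0], [118, 2, 6367, 4257, 8412], [0, 0], [37, 1, 8416], [140, 1, 7081, 4285, 8416], [138, 0, 8420, 7891, 7894], [184, 3, 8420, 7247, 7250], [0, 0], [97, 1, 8424, 8417, 8426], [98, 2, 8424, 8418, 8426], [0, 0], [35, 1, 8432], [45, 1, 8422, 8418, 4276, 4286, 8432], [138, 1, 7117, 4303, 8432], [183, 0, 8438, 7887, 7878], [184, 3, 8438, 7885, 7878], [0, 0], [95, 1, 8442, 8433, 8444], [96, 2, 8442, 8434, 8444], [0, 0], [53, 1, 5456, 4366, 8450], [91, 2, 5435, 4368, 8450], [0, 0], [35, 1, 8456], [53, 2, 6212, 4396, 8456], [31, 1, 8460], [39, 0, 8460, 6214, 2676, 1330, 4520], [0, 0], [59, 1, 4498, 8466], [0, 0], [60, 2, 4500, 8470], [72, 3, 8468, 4500, 8470], [0, 0], [91, 1, 6235, 4391, 8476], [94, 2, 8337, 4394, 8476], [97, 1, 4415, 4387, 8476], [0, 0], [126, 2, 4417, 4384, 8484], [0, 0], [145, 1, 4549, 4389, 8488], [147, 1, 6243, 4391, 8488], [148, 2, 6243, 4396,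 8488], [150, 2, 4569, 4394, 8488], [153, 1, 4421, 4387, 8488], [154, 2, 4421, 4384, 8488], [153, 2, 8500, 4431, 4490], [101, 11, 8491, 8494, 6246, 3909, 2682, 4192, 4510, 4492, 4394, 4390, 2499, 2808, 6247, 8493, 8496], [6, 0, 4563, 8504, 4550], [12, 0, 4565, 8504, 4554], [28, 0, 4560, 8504, 4559], [4, 0, 1369, 8507, 1362], [3, 0, 1680, 8507, 1675], [8, 0, 4858, 8507, 4849], [10, 0, 5014, 8507, 5009], [12, 0, 1371, 8507, 1364], [14, 0, 5056, 8507, 5051], [28, 0, 1366, 8507, 2786], [4, 0, 4434, 8509, 4423], [3, 0, 4484, 8509, 4475], [14, 0, 4614, 8509, 4609], [28, 0, 1222, 8509, 2782], [4, 0, 8317, 8510, 4452], [3, 0, 4492, 8510, 4389], [10, 0, 8321, 8510, 4514], [14, 0, 4528, 8510, 4522], [16, 0, 3699, 8510], [18, 0, 3703, 8510], [20, 0, 8337, 8510, 4538], [22, 0, 4038, 8510], [26, 0, 3707, 8510], [28, 0, 4559, 8510], [6, 0, 2699, 8513, 2816], [8, 0, 3218, 8513, 3209], [10, 0, 3510, 8513, 3505], [12, 0, 677, 8513, 670], [14, 0, 3562, 8513, 3557], [28, 0, 672, 8513, 2720], [6, 0, 5478, 8515, 5469], [8, 0, 5646, 8515, 5637], [10, 0, 5824,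 8515, 5817], [12, 0, 1683, 8515, 1676], [14, 0, 5874, 8515, 5869], [28, 0, 1678, 8515, 2789], [12, 0, 4861, 8517, 4850], [28, 0, 4856, 8517, 4855], [12, 0, 5017, 8519], [28, 0, 5012, 8519, 5011], [14, 0, 1426, 8521, 1423], [28, 0, 340, 8521, 2779], [13, 0, 5059, 8523], [28, 0, 5054, 8523, 5053], [16, 0, 2177, 8524], [18, 0, 2181, 8524], [22, 0, 3807, 8524], [26, 0, 2183, 8524], [6, 0, 4437, 8527, 4424], [7, 0, 4439, 8527], [22, 0, 4441, 8527], [28, 0, 4432, 8527, 4431], [6, 0, 5296, 8529, 5289], [8, 0, 4487, 8529], [9, 0, 4489, 8529], [28, 0, 4482, 8529, 4481], [13, 0, 4617, 8531], [28, 0, 4612, 8531, 4611], [10, 0, 2149, 8532], [16, 0, 2153, 8532], [18, 0, 2157, 8532], [22, 0, 3768, 8532], [26, 0, 2159, 8532], [6, 0, 8303, 8535, 5252], [8, 0, 8318, 8535], [16, 0, 8307, 8535], [18, 0, 8309, 8535], [22, 0, 8311, 8535], [26, 0, 8313, 8535], [6, 0, 4495, 8537, 4390], [7, 0, 4497, 8537], [8, 0, 4512, 8537], [14, 0, 8472, 8537, 8466], [16, 0, 4499, 8537], [18, 0, 4503, 8537], [22, 0, 4505, 8537], [26, 0, 4507, 8537], [28, 0, 8503, 8537],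 [12, 0, 8334, 8539], [16, 0, 8325, 8539], [18, 0, 8327, 8539], [22, 0, 8329, 8539], [26, 0, 8331, 8539], [13, 0, 4526, 8541], [16, 0, 4531, 8541], [18, 0, 4533, 8541], [22, 0, 4535, 8541], [26, 0, 4537, 8541], [7, 0, 8480, 8547], [4, 0, 6246, 8554, 6255], [3, 0, 6122, 8554, 6127], [5, 0, 2818, 8554], [6, 0, 2816, 8554], [8, 0, 6480, 8554, 6491], [10, 0, 6662, 8554, 6669], [12, 0, 2820, 8554, 2737], [14, 0, 2808, 8554, 2682], [6, 0, 7160, 8557, 7151], [10, 0, 7384, 8557, 7375], [12, 0, 3221, 8557, 3210], [14, 0, 7434, 8557, 7429], [20, 0, 7476, 8557, 7469], [28, 0, 3216, 8557, 3215], [8, 0, 7924, 8559, 7917], [14, 0, 7960, 8559, 7955], [20, 0, 8008, 8559, 8001], [28, 0, 3508, 8559, 3507], [14, 0, 2744, 8561, 2750], [28, 0, 142, 8561, 2777], [4, 0, 8062, 8563, 8057], [3, 0, 8114, 8563, 8107], [6, 0, 8138, 8563, 8133], [8, 0, 8178, 8563, 8173], [10, 0, 8194, 8563, 8189], [12, 0, 8220, 8563, 8215], [13, 0, 3565, 8563], [28, 0, 3560, 8563, 3559], [16, 0, 2204, 8564], [18, 0, 2145, 8564], [22, 0, 3876, 8564], [26, 0, 2206, 8564], [12, 0, 5481,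 8567, 5470], [28, 0, 5476, 8567, 5475], [12, 0, 5649, 8569, 5638], [28, 0, 5644, 8569, 5643], [28, 0, 5822, 8571, 5821], [14, 0, 1722, 8573, 1719], [28, 0, 412, 8573, 2771], [13, 0, 5877, 8575], [28, 0, 5872, 8575, 5871], [16, 0, 1992, 8576], [18, 0, 583, 8576], [22, 0, 3878, 8576], [26, 0, 1996, 8576], [6, 0, 4736, 8579, 4729], [10, 0, 4806, 8579, 4801], [14, 0, 4900, 8579, 4895], [20, 0, 4960, 8579, 4953], [28, 0, 1292, 8579, 2784], [6, 0, 6157, 8580, 4700], [10, 0, 4840, 8580, 4808], [14, 0, 4824, 8580, 4818], [16, 0, 4083, 8580], [18, 0, 4087, 8580], [22, 0, 4091, 8580], [26, 0, 4095, 8580], [28, 0, 4855, 8580]]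
def dJ22 : List (List ℕ) := [[8, 0, 4992, 8584, 4962], [12, 0, 4128, 8584], [14, 0, 4984, 8584, 4972], [16, 0, 4115, 8584], [18, 0, 4119, 8584], [22, 0, 4121, 8584], [26, 0, 4123, 8584], [4, 0, 5130, 8587, 5123], [3, 0, 5160, 8587, 5149], [6, 0, 5188, 8587, 5183], [8, 0, 5202, 8587, 5197], [12, 0, 5222, 8587, 5217], [13, 0, 2757, 8587], [28, 0, 1424, 8587, 2758], [10, 0, 2057, 8588], [16, 0, 2082, 8588], [18, 0, 2061, 8588], [22, 0, 3804, 8588], [26, 0, 2084, 8588], [4, 0, 5061, 8592, 5018], [3, 0, 5071, 8592, 5020], [6, 0, 5083, 8592, 5024], [10, 0, 5093, 8592, 5032], [13, 0, 1334, 8592], [16, 0, 2343, 8592], [18, 0, 2346, 8592], [22, 0, 4040, 8592], [26, 0, 2340, 8592], [28, 0, 5053, 8592], [3, 0, 2545, 8603, 2540], [14, 0, 6300, 8603, 6295], [28, 0, 2542, 8603, 2799], [7, 0, 1107, 8608], [8, 0, 1104, 8608], [14, 0, 4404, 8608, 4398], [16, 0, 3756, 8608], [18, 0, 3760, 8608], [22, 0, 1215, 8608], [26, 0, 3764, 8608], [28, 0, 4431, 8608], [4, 0, 5364, 8611, 5353], [22, 0, 5299, 8611], [28, 0, 5294, 8611, 5293], [8, 0, 3721, 8616], [9,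 0, 3672, 8616], [10, 0, 3659, 8616], [14, 0, 4460, 8616, 4454], [16, 0, 3663, 8616], [18, 0, 3665, 8616], [22, 0, 4022, 8616], [26, 0, 3669, 8616], [28, 0, 4481, 8616], [4, 0, 4619, 8620, 4570], [3, 0, 4629, 8620, 4572], [6, 0, 4639, 8620, 4580], [8, 0, 4649, 8620, 4584], [10, 0, 4659, 8620, 4588], [12, 0, 4669, 8620, 4594], [13, 0, 1130, 8620], [16, 0, 2359, 8620], [18, 0, 2360, 8620], [22, 0, 4048, 8620], [26, 0, 2356, 8620], [28, 0, 4611, 8620], [3, 0, 6200, 8633, 5313], [16, 0, 6191, 8633], [18, 0, 6193, 8633], [22, 0, 6195, 8633], [26, 0, 6197, 8633], [4, 0, 4175, 8645, 2496], [10, 0, 8373, 8645, 6210], [14, 0, 6224, 8645, 6218], [16, 0, 4177, 8645], [18, 0, 4181, 8645], [22, 0, 4185, 8645], [26, 0, 4189, 8645], [13, 0, 8470, 8651], [16, 0, 8475, 8651], [4, 0, 6255, 8684], [27, 0, 6252, 8684], [3, 0, 6127, 8686], [7, 0, 6493, 8692], [12, 0, 6495, 8692, 6482], [28, 0, 6488, 8692, 6487], [10, 0, 6669, 8694], [28, 0, 6666, 8694, 6665], [11, 0, 2735, 8696], [12, 0, 2737, 8696], [14, 0, 2886, 8696, 2881], [28, 0, 502, 8696, 2766], [14,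 0, 2682, 8698], [16, 0, 2304, 8698], [18, 0, 2362, 8698], [22, 0, 3863, 8698], [26, 0, 2295, 8698], [27, 0, 2691, 8698], [12, 0, 7163, 8701, 7152], [28, 0, 7158, 8701, 7157], [12, 0, 7387, 8703, 7376], [28, 0, 7382, 8703, 7381], [10, 0, 3168, 8705, 3163], [14, 0, 3266, 8705, 3261], [28, 0, 564, 8705, 2768], [28, 0, 7432, 8707, 7431], [28, 0, 7474, 8709, 7473], [16, 0, 2302, 8710], [18, 0, 2364, 8710], [22, 0, 3895, 8710], [26, 0, 2297, 8710], [28, 0, 7922, 8713, 7921], [13, 0, 7963, 8715], [28, 0, 7958, 8715, 7957], [28, 0, 8006, 8717, 8005], [16, 0, 2300, 8718], [18, 0, 2366, 8718], [22, 0, 3901, 8718], [26, 0, 2299, 8718], [14, 0, 2750, 8720], [20, 0, 266, 8720, 263], [28, 0, 74, 8720, 2775], [16, 0, 2108, 8722], [18, 0, 2025, 8722], [22, 0, 3828, 8722], [26, 0, 2112, 8722], [28, 0, 8060, 8725, 8059], [28, 0, 8112, 8727, 8111], [28, 0, 8136, 8729, 8135], [28, 0, 8176, 8731, 8175], [28, 0, 8192, 8733, 8191], [28, 0, 8218, 8735, 8217], [13, 0, 626, 8738], [16, 0, 2224, 8738], [18, 0, 2273, 8738], [22, 0, 3902, 8738], [26, 0, 2226, 8738],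 [8, 0, 5426, 8749, 5421], [20, 0, 5492, 8749, 5485], [24, 0, 5504, 8749, 5497], [28, 0, 1566, 8749, 2764], [8, 0, 6607, 8750, 5390], [10, 0, 6609, 8750, 5428], [14, 0, 5444, 8750, 5438], [16, 0, 2631, 8750], [18, 0, 2635, 8750], [22, 0, 3985, 8750], [26, 0, 2639, 8750], [6, 0, 5566, 8753, 5561], [10, 0, 5608, 8753, 5603], [14, 0, 5698, 8753, 5693], [28, 0, 1628, 8753, 2791], [6, 0, 7883, 8754, 5532], [14, 0, 5620, 8754, 5614], [16, 0, 3379, 8754], [18, 0, 3383, 8754], [22, 0, 3952, 8754], [26, 0, 3387, 8754], [11, 0, 3423, 8756], [12, 0, 3438, 8756], [14, 0, 5794, 8756, 5782], [16, 0, 3427, 8756], [18, 0, 3431, 8756], [22, 0, 3924, 8756], [26, 0, 3435, 8756], [6, 0, 5988, 8759, 5983], [8, 0, 5998, 8759, 5993], [13, 0, 2761, 8759], [28, 0, 1720, 8759, 2762], [9, 0, 93, 8760], [10, 0, 90, 8760], [16, 0, 1888, 8760], [18, 0, 109, 8760], [22, 0, 3832, 8760], [26, 0, 1900, 8760], [4, 0, 5879, 8764, 5830], [3, 0, 5889, 8764, 5832], [6, 0, 5905, 8764, 5840], [8, 0, 5915, 8764, 5844], [10, 0, 5925, 8764, 5848], [12, 0, 5937, 8764, 5854], [13,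 0, 1640, 8764], [16, 0, 2386, 8764], [18, 0, 2389, 8764], [22, 0, 3982, 8764], [26, 0, 2385, 8764], [28, 0, 5871, 8764], [4, 0, 6062, 8775, 6073], [8, 0, 4739, 8775], [28, 0, 4734, 8775, 4733], [28, 0, 4804, 8777, 4803], [28, 0, 4898, 8779, 4897], [28, 0, 4958, 8781, 4957], [16, 0, 2165, 8782], [18, 0, 2169, 8782], [22, 0, 3803, 8782], [26, 0, 2171, 8782], [3, 0, 6160, 8785, 8353], [7, 0, 6145, 8785], [8, 0, 6158, 8785], [16, 0, 6147, 8785], [18, 0, 6149, 8785]]
def dJ23 : List (List ℕ) := [[22, 0, 6151, 8785], [26, 0, 6153, 8785], [7, 0, 4837, 8787], [8, 0, 4839, 8787], [20, 0, 4834, 8787], [13, 0, 4822, 8789], [16, 0, 4827, 8789], [18, 0, 4829, 8789], [22, 0, 4831, 8789], [26, 0, 4833, 8789], [9, 0, 4995, 8801], [19, 0, 4998, 8801], [20, 0, 4990, 8801], [4, 0, 8027, 8805, 8246], [13, 0, 4982, 8805], [28, 0, 5128, 8815, 5127], [28, 0, 5158, 8817, 5157], [28, 0, 5186, 8819, 5185], [28, 0, 5200, 8821, 5199], [28, 0, 5220, 8823, 5219], [13, 0, 308, 8826], [16, 0, 5063, 8839], [18, 0, 5065, 8839], [22, 0, 5067, 8839], [26, 0, 5069, 8839],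 [16, 0, 5073, 8841], [18, 0, 5075, 8841], [22, 0, 5077, 8841], [26, 0, 5081, 8841], [16, 0, 5085, 8843], [18, 0, 5087, 8843], [22, 0, 5089, 8843], [26, 0, 5091, 8843], [16, 0, 5097, 8845], [18, 0, 5099, 8845], [22, 0, 5101, 8845], [26, 0, 5103, 8845], [28, 0, 2456, 8859, 2797], [13, 0, 6303, 8861], [28, 0, 6298, 8861, 6297], [16, 0, 2265, 8862], [18, 0, 2266, 8862], [22, 0, 3783, 8862], [26, 0, 2268, 8862], [13, 0, 4402, 8869], [16, 0, 4407, 8869], [18, 0, 4409, 8869], [22, 0, 4411, 8869], [26, 0, 4413, 8869], [9, 0, 5367, 8881], [28, 0, 5362, 8881, 5361], [8, 0, 6171, 8884, 5238], [9, 0, 2477, 8884], [10, 0, 2474, 8884], [14, 0, 5266, 8884, 5254], [16, 0, 2481, 8884], [18, 0, 2485, 8884], [20, 0, 6203, 8884, 5278], [22, 0, 4019, 8884], [24, 0, 6207, 8884, 5280], [26, 0, 2487, 8884], [28, 0, 5293, 8884], [13, 0, 4458, 8893], [16, 0, 4463, 8893], [26, 0, 4465, 8893], [16, 0, 4621, 8905], [18, 0, 4623, 8905], [22, 0, 4625, 8905], [26, 0, 4627, 8905], [16, 0, 4631, 8907], [18, 0, 4633, 8907], [22, 0, 4635, 8907], [26, 0, 4637, 8907], [16,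 0, 4641, 8909], [18, 0, 4643, 8909], [22, 0, 4645, 8909], [26, 0, 4647, 8909], [16, 0, 4651, 8911], [18, 0, 4653, 8911], [22, 0, 4655, 8911], [26, 0, 4657, 8911], [16, 0, 4661, 8913], [18, 0, 4663, 8913], [22, 0, 4665, 8913], [26, 0, 4667, 8913], [16, 0, 4671, 8915], [18, 0, 4673, 8915], [22, 0, 4675, 8915], [26, 0, 4677, 8915], [16, 0, 6085, 8929], [18, 0, 6087, 8929], [22, 0, 6089, 8929], [26, 0, 6091, 8929], [10, 0, 8363, 8939, 6094], [14, 0, 6106, 8939, 6100], [16, 0, 4155, 8939], [18, 0, 4159, 8939], [22, 0, 4161, 8939], [26, 0, 4163, 8939], [16, 0, 8375, 8941], [18, 0, 8377, 8941], [22, 0, 8379, 8941], [26, 0, 8381, 8941], [13, 0, 6222, 8943], [16, 0, 6227, 8943], [18, 0, 6229, 8943], [22, 0, 6231, 8943], [26, 0, 6233, 8943], [6, 0, 6382, 8965, 6375], [10, 0, 6444, 8965, 6439], [14, 0, 6534, 8965, 6529], [28, 0, 2608, 8965, 2801], [4, 0, 4692, 8966], [6, 0, 7029, 8966, 6346], [14, 0, 6456, 8966, 6450], [16, 0, 4219, 8966], [18, 0, 4223, 8966], [22, 0, 4227, 8966], [26, 0, 4231, 8966], [14, 0, 6636, 8970, 6630], [16, 0, 4237, 8970],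 [18, 0, 4241, 8970], [22, 0, 4245, 8970], [26, 0, 4249, 8970], [28, 0, 6665, 8970], [4, 0, 6718, 8977, 6713], [3, 0, 6774, 8977, 6767], [6, 0, 6828, 8977, 6823], [8, 0, 6860, 8977, 6855], [12, 0, 6916, 8977, 6911], [13, 0, 2889, 8977], [28, 0, 2884, 8977, 2883], [16, 0, 2030, 8978], [18, 0, 2026, 8978], [22, 0, 3868, 8978], [26, 0, 2032, 8978], [3, 0, 7074, 8993, 7065], [10, 0, 7114, 8993, 7109], [14, 0, 7202, 8993, 7197], [28, 0, 3034, 8993, 3033], [4, 0, 8405, 8994, 7044], [10, 0, 8433, 8994, 7116], [14, 0, 7128, 8994, 7122], [16, 0, 4289, 8994], [18, 0, 4293, 8994], [20, 0, 8445, 8994, 7138], [22, 0, 4297, 8994], [26, 0, 4301, 8994], [10, 0, 7266, 8996, 7275], [28, 0, 5776, 8996, 5775], [8, 0, 4336, 8998], [14, 0, 7368, 8998, 7364], [20, 0, 4338, 8998], [14, 0, 7310, 9001, 7305], [20, 0, 7362, 9001, 7353], [28, 0, 3166, 9001, 3165], [4, 0, 7534, 9003, 7529], [3, 0, 7580, 9003, 7573], [6, 0, 7636, 9003, 7631], [8, 0, 7672, 9003, 7667], [10, 0, 7706, 9003, 7701], [12, 0, 7734, 9003, 7729], [13, 0, 3269, 9003], [28, 0, 3264, 9003, 3263],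 [16, 0, 2200, 9004], [18, 0, 2137, 9004], [22, 0, 3874, 9004], [26, 0, 2202, 9004], [4, 0, 7437, 9006, 7388], [3, 0, 7447, 9006, 7390], [6, 0, 7457, 9006, 7394], [13, 0, 3178, 9006], [16, 0, 3183, 9006], [18, 0, 3185, 9006], [22, 0, 3954, 9006], [26, 0, 3187, 9006], [28, 0, 7431, 9006], [9, 0, 4347, 9008], [10, 0, 4349, 9008], [6, 0, 8451, 9018, 7896], [9, 0, 4361, 9018], [14, 0, 7910, 9018, 7906], [20, 0, 4368, 9018], [4, 0, 7965, 9022, 7926], [6, 0, 7979, 9022, 7932], [8, 0, 7985, 9022, 7936], [12, 0, 7989, 9022, 7940], [13, 0, 3472, 9022], [16, 0, 3477, 9022], [18, 0, 3479, 9022], [22, 0, 3928, 9022], [26, 0, 3483, 9022], [28, 0, 7957, 9022], [4, 0, 4375, 9024], [7, 0, 4377, 9024], [8, 0, 4379, 9024], [28, 0, 264, 9037, 2781], [14, 0, 21, 9038], [16, 0, 18, 9038], [18, 0, 1937, 9038]]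
def dJ24 : List (List ℕ) := [[22, 0, 3849, 9038], [26, 0, 33, 9038], [6, 0, 8223, 9048, 8010], [8, 0, 8233, 9048, 8014], [12, 0, 8249, 9048, 8028], [14, 0, 8040, 9048, 8034], [16, 0, 3569, 9048], [18, 0, 3573, 9048], [22, 0, 3921, 9048], [26, 0, 3575, 9048], [28, 0, 8059, 9048], [6, 0, 8255, 9050, 8064], [8, 0, 8263, 9050, 8068], [9, 0, 4978, 9050], [10, 0, 4981, 9050], [12, 0, 8273, 9050, 8076], [14, 0, 8090, 9050, 8084], [16, 0, 3585, 9050], [18, 0, 3589, 9050], [22, 0, 3922, 9050], [26, 0, 3591, 9050], [28, 0, 8111, 9050], [4, 0, 8279, 9052, 8116], [28, 0, 8135, 9052], [6, 0, 8287, 9054, 8140], [14, 0, 8160, 9054, 8156], [16, 0, 3605, 9054], [18, 0, 3609, 9054], [22, 0, 3919, 9054], [26, 0, 3611, 9054], [3, 0, 4976, 9056], [14, 0, 8184, 9056, 8180], [10, 0, 8297, 9058, 8196], [16, 0, 3625, 9058], [18, 0, 3629, 9058], [22, 0, 3917, 9058], [26, 0, 3631, 9058], [28, 0, 8217, 9058], [28, 0, 5424, 9071, 5423], [28, 0, 5490, 9073, 5489], [28, 0, 5502, 9075, 5501], [9, 0, 431, 9076], [10, 0, 428, 9076], [16, 0, 1824, 9076], [18, 0, 436,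 9076], [22, 0, 3856, 9076], [26, 0, 1828, 9076], [16, 0, 6597, 9079], [18, 0, 6599, 9079], [22, 0, 6601, 9079], [26, 0, 6603, 9079], [11, 0, 6611, 9081], [12, 0, 6624, 9081], [16, 0, 6613, 9081], [18, 0, 6615, 9081], [22, 0, 6617, 9081], [26, 0, 6619, 9081], [13, 0, 5442, 9083], [16, 0, 5447, 9083], [18, 0, 5449, 9083], [22, 0, 5451, 9083], [26, 0, 5453, 9083], [28, 0, 5564, 9093, 5563], [28, 0, 5606, 9095, 5605], [13, 0, 5701, 9097], [22, 0, 5703, 9097], [28, 0, 5696, 9097, 5695], [16, 0, 1986, 9098], [18, 0, 573, 9098], [22, 0, 3870, 9098], [26, 0, 1990, 9098], [16, 0, 7873, 9101], [18, 0, 7875, 9101], [22, 0, 7877, 9101], [26, 0, 7879, 9101], [13, 0, 5618, 9103], [16, 0, 5623, 9103], [18, 0, 5625, 9103], [22, 0, 5627, 9103], [26, 0, 5629, 9103], [4, 0, 5806, 9117], [9, 0, 5808, 9117], [10, 0, 5799, 9117], [13, 0, 5792, 9117], [16, 0, 5797, 9117], [18, 0, 5801, 9117], [22, 0, 5803, 9117], [26, 0, 5805, 9117], [28, 0, 5986, 9127, 5985], [28, 0, 5996, 9129, 5995], [13, 0, 366, 9132], [16, 0, 5881, 9147], [18, 0, 5883, 9147], [22, 0,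 5885, 9147], [26, 0, 5887, 9147], [9, 0, 5895, 9149], [10, 0, 5902, 9149], [16, 0, 5893, 9149], [18, 0, 5897, 9149], [22, 0, 5899, 9149], [26, 0, 5901, 9149], [16, 0, 5907, 9151], [18, 0, 5909, 9151], [22, 0, 5911, 9151], [26, 0, 5913, 9151], [16, 0, 5917, 9153], [18, 0, 5919, 9153], [22, 0, 5921, 9153], [26, 0, 5923, 9153], [3, 0, 5927, 9155], [16, 0, 5929, 9155], [18, 0, 5931, 9155], [22, 0, 5933, 9155], [26, 0, 5935, 9155], [16, 0, 5939, 9157], [18, 0, 5941, 9157], [22, 0, 5943, 9157], [26, 0, 5945, 9157], [4, 0, 6073, 9170], [28, 0, 6070, 9170, 6069], [7, 0, 2461, 9174], [8, 0, 2458, 9174], [10, 0, 6133, 9174, 4678], [14, 0, 4708, 9174, 4702], [16, 0, 4028, 9174], [18, 0, 4032, 9174], [20, 0, 6163, 9174, 4718], [22, 0, 2470, 9174], [24, 0, 6167, 9174, 4722], [26, 0, 4036, 9174], [8, 0, 4076, 9176], [12, 0, 4786, 9176, 4744], [14, 0, 4768, 9176, 4756], [16, 0, 4059, 9176], [18, 0, 4063, 9176], [22, 0, 4067, 9176], [26, 0, 4071, 9176], [4, 0, 4903, 9178, 4862], [3, 0, 4913, 9178, 4864], [6, 0, 4925, 9178, 4868], [8, 0, 4933, 9178,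 4872], [10, 0, 4937, 9178, 4876], [13, 0, 1246, 9178], [16, 0, 2351, 9178], [18, 0, 2354, 9178], [22, 0, 4044, 9178], [26, 0, 2348, 9178], [28, 0, 4897, 9178], [12, 0, 4812, 9180], [3, 0, 8353, 9190], [16, 0, 8355, 9190], [18, 0, 8357, 9190], [22, 0, 8359, 9190], [26, 0, 8361, 9190], [4, 0, 8246, 9226], [28, 0, 5127, 9230], [6, 0, 5225, 9232, 5132], [4, 0, 5229, 9234, 5162], [10, 0, 5235, 9234, 5168], [28, 0, 5185, 9234], [28, 0, 5199, 9236], [28, 0, 5219, 9238], [13, 0, 836, 9274], [16, 0, 2252, 9274], [18, 0, 2232, 9274], [22, 0, 3821, 9274], [26, 0, 2240, 9274], [4, 0, 6305, 9278, 6256], [3, 0, 6315, 9278, 6258], [8, 0, 6321, 9278, 6270], [13, 0, 2504, 9278], [16, 0, 2509, 9278], [18, 0, 2511, 9278], [22, 0, 4046, 9278], [26, 0, 2513, 9278], [28, 0, 6297, 9278], [8, 0, 6075, 9300, 5300], [9, 0, 1791, 9300], [10, 0, 1788, 9300], [14, 0, 5326, 9300, 5320], [16, 0, 2251, 9300], [18, 0, 2234, 9300], [22, 0, 4020, 9300], [26, 0, 2242, 9300], [28, 0, 5361, 9300], [6, 0, 6184, 9303], [16, 0, 6175, 9303], [18, 0, 6177, 9303], [22, 0, 6179,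 9303], [26, 0, 6181, 9303], [4, 0, 6927, 9309, 6686], [3, 0, 5274, 9309, 5258], [10, 0, 5276, 9309, 5263], [13, 0, 5264, 9309], [16, 0, 5269, 9309], [9, 0, 6205, 9315], [10, 0, 6209, 9319], [16, 0, 8365, 9387], [18, 0, 8367, 9387], [22, 0, 8369, 9387]]
def dJ25 : List (List ℕ) := [[26, 0, 8371, 9387], [13, 0, 6104, 9389], [16, 0, 6109, 9389], [28, 0, 6380, 9417, 6379], [28, 0, 6442, 9419, 6441], [13, 0, 6537, 9421], [26, 0, 6539, 9421], [28, 0, 6532, 9421, 6531], [3, 0, 3851, 9422], [16, 0, 2406, 9422], [18, 0, 2411, 9422], [22, 0, 3855, 9422], [26, 0, 2405, 9422], [3, 0, 7017, 9427], [16, 0, 7019, 9427], [18, 0, 7021, 9427], [22, 0, 7023, 9427], [26, 0, 7025, 9427], [13, 0, 6454, 9429], [16, 0, 6459, 9429], [18, 0, 6461, 9429], [22, 0, 6463, 9429], [26, 0, 6465, 9429], [13, 0, 6634, 9439], [16, 0, 6639, 9439], [18, 0, 6641, 9439], [22, 0, 6643, 9439], [26, 0, 6645, 9439], [28, 0, 6716, 9451, 6715], [22, 0, 6777, 9453], [28, 0, 6826, 9455, 6825], [28, 0, 6858, 9457, 6857], [28, 0, 6914, 9459, 6913], [13, 0, 450, 9462], [16, 0, 2036,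 9462], [18, 0, 2403, 9462], [22, 0, 3864, 9462], [26, 0, 2038, 9462], [4, 0, 7073, 9473], [28, 0, 7070, 9473, 7069], [28, 0, 7112, 9475, 7111], [13, 0, 7205, 9477], [28, 0, 7200, 9477, 7199], [16, 0, 2312, 9478], [18, 0, 2374, 9478], [22, 0, 3891, 9478], [26, 0, 2307, 9478], [3, 0, 8391, 9481], [8, 0, 8406, 9481], [16, 0, 8395, 9481], [18, 0, 8397, 9481], [22, 0, 8399, 9481], [26, 0, 8401, 9481], [12, 0, 8437, 9483, 7893], [20, 0, 8440, 9483], [13, 0, 7126, 9485], [16, 0, 7131, 9485], [18, 0, 7133, 9485], [22, 0, 7135, 9485], [26, 0, 7137, 9485], [9, 0, 8447, 9491], [10, 0, 8449, 9491], [28, 0, 7272, 9496, 7271], [12, 0, 3403, 9498], [20, 0, 7371, 9503], [13, 0, 7313, 9507], [22, 0, 7315, 9507], [28, 0, 7308, 9507, 7307], [12, 0, 7361, 9509], [28, 0, 7358, 9509, 7357], [16, 0, 2310, 9510], [18, 0, 2376, 9510], [22, 0, 3893, 9510], [26, 0, 2309, 9510], [28, 0, 7532, 9513, 7531], [28, 0, 7578, 9515, 7577], [28, 0, 7634, 9517, 7633], [28, 0, 7670, 9519, 7669], [28, 0, 7704, 9521, 7703], [28, 0, 7732, 9523, 7731], [13, 0, 524, 9526], [16,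 0, 2218, 9526], [18, 0, 2277, 9526], [22, 0, 3896, 9526], [26, 0, 2220, 9526], [16, 0, 7439, 9537], [18, 0, 7441, 9537], [22, 0, 7443, 9537], [26, 0, 7445, 9537], [16, 0, 7449, 9539], [18, 0, 7451, 9539], [22, 0, 7453, 9539], [26, 0, 7455, 9539], [16, 0, 7459, 9541], [18, 0, 7461, 9541], [22, 0, 7463, 9541], [26, 0, 7465, 9541], [9, 0, 8453, 9559], [20, 0, 8455, 9559], [20, 0, 7913, 9563], [3, 0, 7967, 9567], [9, 0, 7969, 9567], [10, 0, 7976, 9567], [16, 0, 7971, 9567], [22, 0, 7973, 9567], [16, 0, 7981, 9569], [18, 0, 7983, 9569], [16, 0, 7987, 9571], [16, 0, 7991, 9573], [18, 0, 7993, 9573], [22, 0, 7995, 9573], [26, 0, 7997, 9573], [14, 0, 235, 9592], [16, 0, 8225, 9605], [18, 0, 8227, 9605], [22, 0, 8229, 9605], [26, 0, 8231, 9605], [16, 0, 8235, 9607], [18, 0, 8237, 9607], [22, 0, 8239, 9607], [26, 0, 8241, 9607], [16, 0, 8251, 9609], [18, 0, 8253, 9609], [13, 0, 8038, 9611], [16, 0, 8043, 9611], [16, 0, 8257, 9623], [18, 0, 8259, 9623], [26, 0, 8261, 9623], [16, 0, 8265, 9625], [18, 0, 8267, 9625], [22, 0, 8269, 9625], [26, 0,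 8271, 9625], [16, 0, 8275, 9631], [18, 0, 8277, 9631], [13, 0, 8088, 9633], [18, 0, 8093, 9633], [16, 0, 8281, 9645], [18, 0, 8283, 9645], [26, 0, 8285, 9645], [16, 0, 8289, 9649], [18, 0, 8291, 9649], [22, 0, 8293, 9649], [26, 0, 8295, 9649], [13, 0, 8158, 9651], [13, 0, 8182, 9663], [16, 0, 8299, 9665], [6, 0, 6589, 9676, 5368], [10, 0, 6403, 9676, 5376], [14, 0, 5398, 9676, 5392], [16, 0, 2615, 9676], [18, 0, 2619, 9676], [22, 0, 4017, 9676], [26, 0, 2623, 9676], [9, 0, 2645, 9678], [10, 0, 2663, 9680], [4, 0, 7859, 9724, 5506], [3, 0, 6008, 9724, 5512], [14, 0, 5540, 9724, 5534], [16, 0, 3359, 9724], [18, 0, 3363, 9724], [22, 0, 3993, 9724], [26, 0, 3367, 9724], [28, 0, 5563, 9724], [7, 0, 3039, 9726], [8, 0, 3036, 9726], [14, 0, 5580, 9726, 5568], [16, 0, 3045, 9726], [18, 0, 3049, 9726], [22, 0, 3958, 9726], [26, 0, 3053, 9726], [4, 0, 5705, 9732, 5654], [3, 0, 5715, 9732, 5656], [6, 0, 5729, 9732, 5664], [8, 0, 5739, 9732, 5668], [10, 0, 5749, 9732, 5672], [12, 0, 5761, 9732, 5678], [13, 0, 1594, 9732], [16, 0, 2392, 9732], [18,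 0, 2395, 9732], [22, 0, 3988, 9732], [26, 0, 2391, 9732], [28, 0, 5695, 9732], [28, 0, 5985, 9776], [28, 0, 5995, 9778], [4, 0, 4148, 9838], [10, 0, 8339, 9838, 6016], [14, 0, 6038, 9838, 6032], [16, 0, 4133, 9838], [18, 0, 4137, 9838], [22, 0, 4141, 9838], [26, 0, 4145, 9838], [28, 0, 6069, 9838], [16, 0, 6135, 9845], [18, 0, 6137, 9845], [22, 0, 6139, 9845], [26, 0, 6141, 9845], [13, 0, 4706, 9847], [16, 0, 4711, 9847], [18, 0, 4713, 9847], [22, 0, 4715, 9847]]
def dJ26 : List (List ℕ) := [[26, 0, 4717, 9847], [8, 0, 6165, 9853], [8, 0, 6169, 9857], [9, 0, 4783, 9863], [10, 0, 4785, 9863], [19, 0, 4790, 9863], [20, 0, 4780, 9863], [4, 0, 7495, 9865, 7752], [13, 0, 4766, 9865], [16, 0, 4771, 9865], [18, 0, 4773, 9865], [22, 0, 4775, 9865], [26, 0, 4777, 9865], [16, 0, 4905, 9875], [18, 0, 4907, 9875], [22, 0, 4909, 9875], [26, 0, 4911, 9875], [16, 0, 4915, 9877], [18, 0, 4917, 9877], [22, 0, 4919, 9877], [26, 0, 4923, 9877], [16, 0, 4927, 9879], [18, 0, 4929, 9879], [26, 0, 4931, 9879], [16, 0, 4935, 9881], [16, 0, 4941, 9883], [18,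 0, 4943, 9883], [22, 0, 4945, 9883], [26, 0, 4947, 9883], [18, 0, 5227, 9913], [14, 0, 6727, 9915, 6952], [18, 0, 5237, 9917], [16, 0, 6307, 9935], [18, 0, 6309, 9935], [22, 0, 6311, 9935], [26, 0, 6313, 9935], [16, 0, 6317, 9937], [18, 0, 6319, 9937], [16, 0, 6323, 9939], [18, 0, 6325, 9939], [22, 0, 6327, 9939], [26, 0, 6329, 9939], [16, 0, 6077, 9953], [18, 0, 6079, 9953], [22, 0, 6081, 9953], [13, 0, 5324, 9959], [16, 0, 5329, 9959], [18, 0, 5331, 9959], [22, 0, 5333, 9959], [26, 0, 5335, 9959], [24, 0, 6928, 9981, 6757], [12, 0, 6987, 9983, 6866], [28, 0, 6879, 9983], [12, 0, 6955, 9985, 6736], [16, 0, 2907, 9985], [18, 0, 2909, 9985], [22, 0, 4008, 9985], [26, 0, 2913, 9985], [28, 0, 6771, 9985], [4, 0, 2966, 10006], [10, 0, 7003, 10006, 6330], [14, 0, 6354, 10006, 6348], [16, 0, 3971, 10006], [18, 0, 3975, 10006], [22, 0, 2970, 10006], [26, 0, 3979, 10006], [28, 0, 6379, 10006], [4, 0, 4682, 10008], [14, 0, 6414, 10008, 6408], [16, 0, 4199, 10008], [18, 0, 4203, 10008], [22, 0, 4207, 10008], [26, 0, 4211, 10008], [4, 0, 6541,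 10014, 6496], [3, 0, 6551, 10014, 6498], [6, 0, 6561, 10014, 6502], [10, 0, 6569, 10014, 6510], [12, 0, 6579, 10014, 6514], [13, 0, 2570, 10014], [16, 0, 2575, 10014], [18, 0, 2577, 10014], [22, 0, 4024, 10014], [26, 0, 2581, 10014], [28, 0, 6531, 10014], [8, 0, 6919, 10056, 6674], [12, 0, 6931, 10056, 6688], [14, 0, 6698, 10056, 6694], [16, 0, 2893, 10056], [18, 0, 2897, 10056], [22, 0, 4007, 10056], [24, 0, 6941, 10056, 6704], [26, 0, 2899, 10056], [28, 0, 6715, 10056], [4, 0, 6965, 10060, 6778], [8, 0, 6975, 10060, 6784], [12, 0, 6979, 10060, 6796], [14, 0, 6808, 10060, 6804], [16, 0, 2919, 10060], [18, 0, 2923, 10060], [22, 0, 4005, 10060], [26, 0, 2925, 10060], [28, 0, 6825, 10060], [12, 0, 6983, 10062, 6838], [14, 0, 6850, 10062, 6846], [28, 0, 6857, 10062], [10, 0, 6993, 10064, 6880], [14, 0, 6890, 10064, 6884], [16, 0, 2943, 10064], [18, 0, 2947, 10064], [22, 0, 4003, 10064], [26, 0, 2951, 10064], [28, 0, 6913, 10064], [4, 0, 4257, 10078], [8, 0, 4259, 10078], [10, 0, 8383, 10078, 7030], [14, 0, 7052, 10078, 7046], [16, 0, 4263,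 10078], [18, 0, 4267, 10078], [20, 0, 8409, 10078, 7058], [22, 0, 4269, 10078], [24, 0, 8413, 10078, 7060], [26, 0, 4273, 10078], [28, 0, 7069, 10078], [14, 0, 7092, 10080, 7086], [20, 0, 8427, 10080, 7096], [4, 0, 7207, 10084, 7164], [3, 0, 7215, 10084, 7166], [6, 0, 7221, 10084, 7170], [8, 0, 7225, 10084, 7174], [12, 0, 7235, 10084, 7182], [13, 0, 2998, 10084], [16, 0, 3003, 10084], [18, 0, 3005, 10084], [22, 0, 3966, 10084], [26, 0, 3007, 10084], [28, 0, 7199, 10084], [12, 0, 7893, 10106], [10, 0, 4312, 10124], [14, 0, 7260, 10124, 7256], [20, 0, 4314, 10124], [4, 0, 7317, 10134, 7276], [6, 0, 7335, 10134, 7282], [8, 0, 7341, 10134, 7286], [13, 0, 3066, 10134], [16, 0, 3071, 10134], [18, 0, 3073, 10134], [22, 0, 3964, 10134], [26, 0, 3077, 10134], [28, 0, 7307, 10134], [11, 0, 4321, 10138], [12, 0, 4323, 10138], [8, 0, 7737, 10148, 7482], [12, 0, 7755, 10148, 7496], [14, 0, 7508, 10148, 7502], [16, 0, 3273, 10148], [18, 0, 3277, 10148], [22, 0, 3949, 10148], [26, 0, 3281, 10148], [28, 0, 7531, 10148], [6, 0, 7765, 10150, 7536], [8,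 0, 7773, 10150, 7540], [9, 0, 4762, 10150], [10, 0, 4765, 10150], [12, 0, 7781, 10150, 7548], [14, 0, 7560, 10150, 7556], [16, 0, 3291, 10150], [18, 0, 3293, 10150], [22, 0, 3950, 10150], [26, 0, 3295, 10150], [28, 0, 7577, 10150], [4, 0, 7791, 10152, 7582], [3, 0, 7799, 10152, 7584], [10, 0, 7803, 10152, 7592], [12, 0, 7813, 10152, 7600], [14, 0, 7614, 10152, 7608], [16, 0, 3301, 10152], [18, 0, 3305, 10152], [22, 0, 3947, 10152], [26, 0, 3307, 10152], [28, 0, 7633, 10152], [6, 0, 7823, 10154, 7638], [10, 0, 7829, 10154, 7642], [12, 0, 7839, 10154, 7646], [16, 0, 3313, 10154], [18, 0, 3317, 10154], [22, 0, 3945, 10154], [26, 0, 3319, 10154], [3, 0, 4760, 10156], [8, 0, 7849, 10156, 7674], [14, 0, 7686, 10156, 7682], [16, 0, 3325, 10156], [18, 0, 3329, 10156], [22, 0, 3943, 10156], [26, 0, 3331, 10156], [28, 0, 7703, 10156], [14, 0, 7716, 10158, 7712], [16, 0, 3339, 10158], [18, 0, 3343, 10158], [22, 0, 3941, 10158], [26, 0, 3345, 10158]]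
def dJ27 : List (List ℕ) := [[16, 0, 6591, 10293], [26, 0, 6593, 10293], [7, 0, 6391, 10295], [8, 0, 6388, 10295], [16, 0, 6393, 10295], [18, 0, 6395, 10295], [22, 0, 6397, 10295], [26, 0, 6399, 10295], [13, 0, 5396, 10297], [16, 0, 5401, 10297], [18, 0, 5403, 10297], [22, 0, 5405, 10297], [26, 0, 5407, 10297], [16, 0, 7861, 10311], [18, 0, 7863, 10311], [22, 0, 7865, 10311], [26, 0, 7867, 10311], [5, 0, 6007, 10313], [6, 0, 6004, 10313], [16, 0, 6011, 10313], [18, 0, 6013, 10313], [22, 0, 6015, 10313], [13, 0, 5538, 10315], [16, 0, 5543, 10315], [18, 0, 5545, 10315], [22, 0, 5547, 10315], [26, 0, 5549, 10315], [4, 0, 5592, 10331], [9, 0, 5594, 10331], [10, 0, 5585, 10331], [13, 0, 5578, 10331], [16, 0, 5583, 10331], [18, 0, 5587, 10331], [22, 0, 5589, 10331], [26, 0, 5591, 10331], [16, 0, 5707, 10341], [18, 0, 5709, 10341], [22, 0, 5711, 10341], [26, 0, 5713, 10341], [9, 0, 5721, 10343], [10, 0, 5726, 10343], [16, 0, 5719, 10343], [18, 0, 5723, 10343], [16, 0, 5731, 10345], [18, 0, 5733, 10345], [22, 0, 5735, 10345], [26, 0, 5737, 10345],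 [16, 0, 5741, 10347], [18, 0, 5743, 10347], [22, 0, 5745, 10347], [26, 0, 5747, 10347], [3, 0, 5751, 10349], [16, 0, 5753, 10349], [18, 0, 5755, 10349], [22, 0, 5757, 10349], [26, 0, 5759, 10349], [16, 0, 5763, 10351], [18, 0, 5765, 10351], [22, 0, 5767, 10351], [26, 0, 5769, 10351], [3, 0, 8341, 10371], [16, 0, 8343, 10371], [18, 0, 8345, 10371], [22, 0, 8347, 10371], [26, 0, 8349, 10371], [13, 0, 6036, 10373], [16, 0, 6041, 10373], [18, 0, 6043, 10373], [22, 0, 6045, 10373], [26, 0, 6047, 10373], [4, 0, 7752, 10414], [16, 0, 7743, 10414], [18, 0, 7745, 10414], [22, 0, 7747, 10414], [26, 0, 7749, 10414], [14, 0, 6952, 10460], [16, 0, 6947, 10460], [18, 0, 6949, 10460], [13, 0, 6748, 10500], [16, 0, 6989, 10503], [26, 0, 6991, 10503], [16, 0, 6957, 10507], [18, 0, 6959, 10507], [22, 0, 6961, 10507], [26, 0, 6963, 10507], [3, 0, 7007, 10521], [16, 0, 7009, 10521], [22, 0, 7011, 10521], [13, 0, 6352, 10523], [16, 0, 6357, 10523], [18, 0, 6359, 10523], [26, 0, 6361, 10523], [13, 0, 6412, 10537], [16, 0, 6417, 10537], [18, 0, 6419, 10537],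 [22, 0, 6421, 10537], [26, 0, 6423, 10537], [16, 0, 6543, 10547], [18, 0, 6545, 10547], [22, 0, 6547, 10547], [26, 0, 6549, 10547], [16, 0, 6553, 10549], [18, 0, 6555, 10549], [22, 0, 6557, 10549], [26, 0, 6559, 10549], [16, 0, 6563, 10551], [18, 0, 6565, 10551], [26, 0, 6567, 10551], [16, 0, 6571, 10553], [18, 0, 6573, 10553], [22, 0, 6575, 10553], [26, 0, 6577, 10553], [16, 0, 6581, 10555], [18, 0, 6583, 10555], [22, 0, 6585, 10555], [26, 0, 6587, 10555], [18, 0, 6921, 10569], [16, 0, 6933, 10571], [18, 0, 6935, 10571], [22, 0, 6937, 10571], [26, 0, 6939, 10571], [13, 0, 6696, 10573], [9, 0, 6943, 10581], [16, 0, 6967, 10587], [18, 0, 6969, 10587], [22, 0, 6971, 10587], [26, 0, 6973, 10587], [16, 0, 6977, 10589], [16, 0, 6981, 10591], [13, 0, 6806, 10593], [18, 0, 6985, 10605], [13, 0, 6848, 10607], [16, 0, 6995, 10611], [18, 0, 6997, 10611], [22, 0, 6999, 10611], [26, 0, 7001, 10611], [13, 0, 6888, 10613], [16, 0, 6893, 10613], [18, 0, 6895, 10613], [22, 0, 6897, 10613], [26, 0, 6899, 10613], [16, 0, 8385, 10629], [18, 0, 8387, 10629],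 [13, 0, 7050, 10631], [16, 0, 7055, 10631], [18, 0, 7057, 10631], [4, 0, 8411, 10637], [4, 0, 8415, 10641], [13, 0, 7090, 10647], [18, 0, 7095, 10647], [11, 0, 8429, 10649], [12, 0, 8431, 10649], [16, 0, 7209, 10651], [18, 0, 7211, 10651], [26, 0, 7213, 10651], [16, 0, 7217, 10653], [18, 0, 7219, 10653], [26, 0, 7223, 10655], [16, 0, 7227, 10657], [18, 0, 7229, 10657], [22, 0, 7231, 10657], [26, 0, 7233, 10657], [16, 0, 7237, 10659], [18, 0, 7239, 10659], [22, 0, 7241, 10659], [26, 0, 7243, 10659], [20, 0, 7263, 10677], [3, 0, 7319, 10681], [9, 0, 7321, 10681], [10, 0, 7332, 10681], [16, 0, 7323, 10681], [18, 0, 7325, 10681], [22, 0, 7327, 10681], [26, 0, 7329, 10681], [16, 0, 7337, 10683], [26, 0, 7339, 10683], [16, 0, 7343, 10685], [18, 0, 7345, 10685], [22, 0, 7347, 10685], [26, 0, 7349, 10685], [16, 0, 7739, 10703], [16, 0, 7757, 10705], [18, 0, 7759, 10705], [22, 0, 7761, 10705], [26, 0, 7763, 10705], [13, 0, 7506, 10707], [16, 0, 7511, 10707], [18, 0, 7513, 10707], [22, 0, 7515, 10707], [26, 0, 7517, 10707], [16, 0, 7767, 10719],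 [18, 0, 7769, 10719], [26, 0, 7771, 10719], [16, 0, 7775, 10721], [18, 0, 7777, 10721], [22, 0, 7779, 10721], [16, 0, 7783, 10727], [18, 0, 7785, 10727], [22, 0, 7787, 10727], [26, 0, 7789, 10727]]
def dJ28 : List (List ℕ) := [[13, 0, 7558, 10729], [16, 0, 7793, 10741], [18, 0, 7795, 10741], [26, 0, 7797, 10741], [18, 0, 7801, 10743], [16, 0, 7805, 10745], [18, 0, 7807, 10745], [22, 0, 7809, 10745], [26, 0, 7811, 10745], [16, 0, 7815, 10747], [18, 0, 7817, 10747], [22, 0, 7819, 10747], [26, 0, 7821, 10747], [13, 0, 7612, 10749], [16, 0, 7617, 10749], [16, 0, 7825, 10761], [26, 0, 7827, 10761], [16, 0, 7831, 10763], [18, 0, 7833, 10763], [22, 0, 7835, 10763], [26, 0, 7837, 10763], [16, 0, 7841, 10765], [18, 0, 7843, 10765], [22, 0, 7845, 10765], [26, 0, 7847, 10765], [16, 0, 7851, 10777], [18, 0, 7853, 10777], [22, 0, 7855, 10777], [26, 0, 7857, 10777], [13, 0, 7684, 10779], [13, 0, 7714, 10791], [77, 0, 8460, 9400, 8461], [0, 0], [29, 1, 4592, 11264], [49, 1, 4575, 4576, 11264], [61, 2, 11265, 9291, 11264], [75, 2, 11265, 9293, 11264],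 [103, 2, 11265, 9295, 11264], [131, 2, 11265, 9297, 11264], [35, 1, 11268], [0, 0], [31, 1, 11280], [0, 0], [33, 1, 11284], [65, 2, 11285, 9291, 11284], [79, 2, 11285, 9293, 11284], [107, 2, 11285, 9295, 11284], [135, 2, 11285, 9297, 11284], [0, 0], [37, 1, 11296], [69, 2, 11297, 9291, 11296], [83, 2, 11297, 9293, 11296], [111, 2, 11297, 9295, 11296], [139, 2, 11297, 9297, 11296], [0, 0], [100, 2, 4415, 4398, 11308], [0, 0], [128, 2, 4417, 4398, 11312], [0, 0], [156, 2, 4421, 4398, 11316], [155, 2, 11318, 8879, 4398], [0, 0], [35, 1, 11322], [45, 1, 8458, 4386, 8891, 4446, 11322], [49, 2, 4516, 4452, 11322], [67, 2, 11323, 8637, 11322], [81, 2, 11323, 8639, 11322], [109, 2, 11323, 8641, 11322], [137, 2, 11323, 8643, 11322], [29, 2, 11328, 8464], [51, 3, 11328, 8663, 8464], [0, 0], [59, 1, 8636, 11342], [59, 2, 11344, 11342], [85, 2, 11343, 8639, 11342], [113, 2, 11343, 8641, 11342], [141, 2, 11343, 8643, 11342], [0, 0], [89, 1, 8477, 4451, 11354], [97, 1, 4467, 4449, 11354], [0, 0], [126, 2, 4469, 4446, 11360], [0, 0], [145, 1, 8489,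 4451, 11364], [154, 2, 4473, 4446, 11364], [153, 2, 11368, 8903, 4446], [0, 0], [0, 0], [73, 2, 4455, 8890, 1103, 8896, 4454, 11374], [35, 1, 11376], [0, 0], [31, 1, 11380], [63, 2, 11381, 9327, 11380], [0, 0], [33, 1, 11386], [0, 0], [37, 1, 11390], [0, 0], [128, 2, 4469, 4454, 11394], [0, 0], [155, 1, 4473, 9325, 11398], [156, 2, 4473, 4454, 11398], [155, 2, 11402, 8903, 4454], [0, 0], [185, 2, 4473, 4466, 11406], [0, 0], [33, 1, 11410], [57, 1, 11412, 8663, 11410], [65, 2, 11411, 8665, 11410], [79, 2, 11411, 8667, 11410], [107, 2, 11411, 8669, 11410], [135, 2, 11411, 8671, 11410], [0, 0], [59, 1, 8664, 11424], [59, 2, 11426, 11424], [85, 2, 11425, 8667, 11424], [113, 2, 11425, 8669, 11424], [141, 2, 11425, 8671, 11424], [0, 0], [92, 2, 9224, 4520, 11436], [95, 1, 4539, 4517, 11436], [0, 0], [124, 2, 4545, 4514, 11442], [0, 0], [147, 1, 5005, 4519, 11446], [152, 2, 4549, 4514, 11446], [151, 2, 11450, 8553, 4514], [0, 0], [75, 2, 11455, 8677, 11454], [0, 0], [30, 1, 11455, 11458], [0, 0], [31, 1, 11462], [0, 0], [33, 1, 11466], [0,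 0], [35, 1, 11470], [0, 0], [37, 1, 11474], [0, 0], [100, 2, 4539, 4522, 11478], [0, 0], [128, 2, 4545, 4522, 11482], [0, 0], [155, 1, 4549, 8673, 11486], [156, 2, 4549, 4522, 11486], [155, 2, 11490, 8553, 4522], [0, 0], [31, 1, 11494], [63, 2, 11495, 9331, 11494], [0, 0], [33, 1, 11500], [47, 2, 4586, 4570, 11500], [65, 2, 11501, 9331, 11500], [79, 2, 11501, 9333, 11500], [107, 2, 11501, 9335, 11500], [135, 2, 11501, 9337, 11500], [0, 0], [37, 1, 11514], [51, 2, 4596, 4570, 11514], [69, 2, 11515, 9331, 11514], [83, 2, 11515, 9333, 11514], [111, 2, 11515, 9335, 11514], [139, 2, 11515, 9337, 11514], [0, 0], [59, 1, 9330, 11528], [0, 0], [90, 2, 4599, 4570, 11532], [0, 0], [118, 2, 4603, 4570, 11536], [0, 0], [146, 2, 4607, 4570, 11540], [145, 2, 11542, 8927, 4570], [0, 0], [31, 1, 11546], [53, 1, 11282, 4578, 11546], [63, 2, 11547, 9339, 11546], [129, 3, 5975, 1694, 9780, 80, 278, 8630, 1128, 4572, 11546], [59, 1, 11552, 11554], [35, 1, 11550], [0, 0], [33, 1, 11560], [47, 2, 11502, 4575, 11560], [65, 2, 11561, 9339, 11560], [79, 2, 11561,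 9341, 11560], [107, 2, 11561, 9343, 11560], [135, 2, 11561, 9345, 11560], [29, 2, 11564, 11504], [0, 0], [37, 1, 11576], [51, 2, 11516, 4575, 11576], [69, 2, 11577, 9339, 11576], [83, 2, 11577, 9341, 11576], [111, 2, 11577, 9343, 11576], [139, 2, 11577, 9345, 11576], [29, 2, 11580, 11518], [0, 0], [59, 1, 9338, 11592], [59, 2, 11594, 11592], [85, 2, 11593, 9341, 11592]]
def dJ29 : List (List ℕ) := [[113, 2, 11593, 9343, 11592], [141, 2, 11593, 9345, 11592], [0, 0], [89, 1, 4599, 4572, 11604], [0, 0], [117, 1, 4603, 4572, 11608], [0, 0], [145, 1, 4607, 4572, 11612], [146, 2, 11541, 4575, 11612], [152, 2, 11317, 4578, 11612], [151, 2, 11618, 11321, 4578], [0, 0], [61, 2, 11623, 9347, 11622], [75, 2, 11623, 9349, 11622], [130, 3, 6795, 5259, 5255, 1511, 1101, 8917, 8925, 4583, 11622], [131, 2, 11623, 9353, 11622], [60, 2, 11625, 11628], [0, 0], [30, 1, 11623, 11634], [0, 0], [33, 1, 11638], [65, 2, 11639, 9347, 11638], [79, 2, 11639, 9349, 11638], [107, 2, 11639, 9351, 11638], [135, 2, 11639, 9353, 11638], [0, 0], [35, 1, 11650], [53, 2,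 4590, 4580, 11650], [67, 2, 11651, 9347, 11650], [31, 1, 11654], [129, 3, 6779, 2848, 10066, 420, 1098, 8876, 4398, 4593, 11658], [59, 1, 11656, 11660], [0, 0], [37, 1, 11664], [55, 2, 4596, 4580, 11664], [69, 2, 11665, 9347, 11664], [83, 2, 11665, 9349, 11664], [111, 2, 11665, 9351, 11664], [139, 2, 11665, 9353, 11664], [31, 1, 11668], [0, 0], [59, 1, 9346, 11680], [59, 2, 11682, 11680], [85, 2, 11681, 9349, 11680], [113, 2, 11681, 9351, 11680], [141, 2, 11681, 9353, 11680], [0, 0], [92, 2, 4599, 4580, 11692], [0, 0], [120, 2, 4603, 4580, 11696], [0, 0], [147, 1, 4607, 4583, 11700], [148, 2, 4607, 4580, 11700], [177, 2, 11701, 9349, 11700], [147, 2, 11704, 8927, 4580], [0, 0], [31, 1, 11710], [63, 2, 11711, 9355, 11710], [0, 0], [35, 1, 11716], [0, 0], [37, 1, 11720], [57, 2, 4596, 4584, 11720], [69, 2, 11721, 9355, 11720], [83, 2, 11721, 9357, 11720], [111, 2, 11721, 9359, 11720], [139, 2, 11721, 9361, 11720], [33, 1, 11724], [0, 0], [59, 1, 9354, 11736], [0, 0], [94, 2, 4599, 4584, 11740], [0, 0], [122, 2, 4603, 4584, 11744], [0,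 0], [149, 1, 4607, 4587, 11748], [150, 2, 4607, 4584, 11748], [149, 2, 11752, 8927, 4584], [0, 0], [33, 1, 11756], [65, 2, 11757, 9363, 11756], [47, 0, 11758, 4592, 11284], [0, 0], [37, 1, 11764], [69, 2, 11765, 9363, 11764], [83, 2, 11765, 9365, 11764], [139, 2, 11765, 9369, 11764], [51, 0, 11766, 4592, 11296], [0, 0], [59, 1, 9362, 11776], [85, 2, 11777, 9365, 11776], [0, 0], [96, 2, 4599, 4588, 11782], [0, 0], [124, 2, 4603, 4588, 11786], [0, 0], [145, 1, 11317, 4593, 11790], [152, 2, 4607, 4588, 11790], [151, 2, 11794, 8927, 4588], [0, 0], [35, 1, 11798], [67, 2, 11799, 9371, 11798], [0, 0], [85, 2, 11805, 9373, 11804], [0, 0], [98, 2, 4599, 4594, 11808], [0, 0], [126, 2, 4603, 4594, 11812], [0, 0], [153, 1, 4607, 4597, 11816], [154, 2, 4607, 4594, 11816], [153, 2, 11820, 8927, 4594], [0, 0], [33, 1, 11824], [43, 1, 5240, 9304, 9843, 4678, 11824], [65, 2, 11825, 10385, 11824], [35, 1, 11828], [49, 0, 11828, 5242, 5376], [0, 0], [55, 2, 4746, 4686, 11836], [53, 3, 11838, 10406, 4721], [91, 0, 11838, 10412, 4685], [92, 3, 11838, 10410,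 4685], [90, 0, 6429, 10534, 11844], [51, 1, 10920, 11836, 11846], [98, 1, 6405, 6428, 11848], [96, 2, 6049, 6016, 11850], [46, 2, 6447, 2559, 2557, 6407, 11852], [58, 1, 6112, 6051, 11854], [98, 3, 6024, 6048, 11854], [95, 3, 6473, 6446, 11858], [44, 3, 6095, 6027, 11860, 6468, 6651], [48, 3, 11862, 6099, 6629], [93, 0, 6628, 6654, 11862], [94, 3, 6628, 6646, 11862], [96, 0, 6115, 6097, 11868], [0, 0], [59, 1, 10384, 11872], [59, 2, 11874, 11872], [85, 2, 11873, 10387, 11872], [113, 2, 11873, 10389, 11872], [141, 2, 11873, 10391, 11872], [0, 0], [124, 2, 4723, 4678, 11884], [0, 0], [145, 1, 6435, 10534, 11888], [147, 1, 4797, 4685, 11888], [148, 2, 4797, 4686, 11888], [152, 2, 4725, 4678, 11888], [0, 0], [53, 2, 4810, 4700, 11898], [41, 5, 11900, 9204, 4541, 8682, 8478], [91, 0, 11900, 9208, 4695], [0, 0], [59, 1, 9196, 11906], [59, 2, 11908, 11906], [85, 2, 11907, 9199, 11906], [113, 2, 11907, 9201, 11906], [141, 2, 11907, 9203, 11906], [0, 0], [126, 2, 4723, 4688, 11918], [0, 0], [148, 2, 4847, 4700, 11922], [153, 1, 4725, 4691, 11922],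 [154, 2, 4725, 4688, 11922], [0, 0], [61, 2, 11931, 10395, 11930], [75, 2, 11931, 10397, 11930], [103, 2, 11931, 10399, 11930], [131, 2, 11931, 10401, 11930], [0, 0], [30, 1, 11931, 11940], [61, 0, 11941, 10394, 11940], [73, 2, 6409, 2555, 10016, 9850, 4702, 11940], [75, 0, 11941, 10396, 11940], [103, 0, 11941, 10398, 11940], [131, 0, 11941, 10400, 11940], [35, 1, 11946], [0, 0], [63, 2, 11957, 10395, 11956], [0, 0], [33, 1, 11960], [0, 0], [35, 1, 11964], [49, 2, 11954, 11941, 11964], [67, 2, 11965, 10395, 11964], [81, 2, 11965, 10397, 11964], [109, 2, 11965, 10399, 11964], [137, 2, 11965, 10401, 11964], [0, 0], [37, 1, 11978], [0, 0], [100, 2, 4719, 4702, 11982], [0, 0], [128, 2, 4723, 4702, 11986], [0, 0], [156, 2, 4725, 4702, 11990], [0, 0], [99, 2, 4757, 10413, 11994], [0, 0]]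
def dJ30 : List (List ℕ) := [[154, 2, 4797, 4744, 11998], [0, 0], [31, 1, 12002], [53, 1, 7538, 10722, 12002], [63, 2, 12003, 10419, 12002], [35, 1, 12006], [0, 0], [33, 1, 12012], [47, 2, 7676, 10774, 12012], [65, 2, 12013, 10419, 12012], [79, 2, 12013, 10421, 12012], [107, 2, 12013, 10423, 12012], [135, 2, 12013, 10425, 12012], [0, 0], [37, 1, 12026], [51, 2, 7680, 10774, 12026], [0, 0], [128, 2, 4793, 4756, 12032], [0, 0], [151, 1, 7571, 10724, 12036], [0, 0], [99, 2, 4819, 9209, 12040], [0, 0], [61, 2, 12045, 9213, 12044], [75, 2, 12045, 9215, 12044], [103, 2, 12045, 9217, 12044], [131, 2, 12045, 9219, 12044], [0, 0], [30, 1, 12045, 12054], [61, 0, 12055, 9212, 12054], [73, 2, 7365, 3171, 1242, 8792, 4818, 12054], [75, 0, 12055, 9214, 12054], [103, 0, 12055, 9216, 12054], [131, 0, 12055, 9218, 12054], [35, 1, 12060], [0, 0], [31, 1, 12070], [63, 2, 12071, 9213, 12070], [77, 2, 12071, 9215, 12070], [105, 2, 12071, 9217, 12070], [133, 2, 12071, 9219, 12070], [0, 0], [33, 1, 12082], [65, 2, 12083, 9213, 12082], [79, 2, 12083, 9215,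 12082], [107, 2, 12083, 9217, 12082], [135, 2, 12083, 9219, 12082], [0, 0], [35, 1, 12094], [49, 2, 12068, 12055, 12094], [67, 2, 12095, 9213, 12094], [81, 2, 12095, 9215, 12094], [109, 2, 12095, 9217, 12094], [137, 2, 12095, 9219, 12094], [0, 0], [37, 1, 12108], [69, 2, 12109, 9213, 12108], [83, 2, 12109, 9215, 12108], [111, 2, 12109, 9217, 12108], [139, 2, 12109, 9219, 12108], [0, 0], [128, 2, 4843, 4818, 12120], [0, 0], [155, 1, 4847, 9211, 12124], [156, 2, 4847, 4818, 12124], [155, 2, 12128, 8799, 4818], [0, 0], [31, 1, 12132], [0, 0], [33, 1, 12136], [47, 2, 4874, 4862, 12136], [0, 0], [35, 1, 12142], [49, 2, 4878, 4862, 12142], [29, 2, 12146, 10855], [0, 0], [37, 1, 12150], [51, 2, 4882, 4862, 12150], [0, 0], [59, 1, 10426, 12156], [59, 2, 12158, 12156], [141, 2, 12157, 10433, 12156], [0, 0], [90, 2, 4885, 4862, 12164], [0, 0], [118, 2, 4889, 4862, 12168], [0, 0], [146, 2, 4893, 4862, 12172], [145, 2, 12174, 9895, 4862], [0, 0], [31, 1, 12178], [63, 2, 12179, 10435, 12178], [77, 2, 12179, 10437, 12178], [133, 2, 12179, 10441, 12178],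 [0, 0], [33, 1, 12188], [47, 2, 12138, 4867, 12188], [65, 2, 12189, 10435, 12188], [79, 2, 12189, 10437, 12188], [107, 2, 12189, 10439, 12188], [135, 2, 12189, 10441, 12188], [29, 2, 12192, 12140], [0, 0], [51, 2, 12152, 4867, 12204], [69, 2, 12205, 10435, 12204], [29, 2, 12206, 12154], [0, 0], [59, 1, 10434, 12212], [85, 2, 12213, 10437, 12212], [0, 0], [89, 1, 4885, 4864, 12218], [0, 0], [117, 1, 4889, 4864, 12222], [0, 0], [146, 2, 12173, 4867, 12226], [145, 2, 12228, 12177, 4867], [0, 0], [61, 2, 12233, 10443, 12232], [131, 2, 12233, 10447, 12232], [0, 0], [30, 1, 12233, 12238], [75, 0, 12239, 10444, 12238], [0, 0], [33, 1, 12244], [0, 0], [35, 1, 12248], [53, 2, 4878, 4868, 12248], [31, 1, 12252], [0, 0], [55, 2, 4882, 4868, 12256], [69, 2, 12257, 10443, 12256], [0, 0], [59, 1, 10442, 12262], [59, 2, 12264, 12262], [85, 2, 12263, 10445, 12262], [0, 0], [148, 2, 4893, 4868, 12270], [177, 2, 12271, 10445, 12270], [197, 2, 12271, 10447, 12270], [0, 0], [31, 1, 12278], [63, 2, 12279, 10449, 12278], [0, 0], [35, 1, 12284], [67, 2, 12285,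 10449, 12284], [0, 0], [59, 1, 10448, 12290], [59, 2, 12292, 12290], [0, 0], [122, 2, 4889, 4872, 12296], [0, 0], [150, 2, 4893, 4872, 12300], [149, 2, 12302, 9895, 4872], [0, 0], [33, 1, 12306], [65, 2, 12307, 10451, 12306], [79, 2, 12307, 10453, 12306], [107, 2, 12307, 10455, 12306], [135, 2, 12307, 10457, 12306], [0, 0], [37, 1, 12318], [0, 0], [59, 1, 10450, 12322], [0, 0], [96, 2, 4885, 4876, 12326], [0, 0], [124, 2, 4889, 4876, 12330], [0, 0], [152, 2, 4893, 4876, 12334], [151, 2, 12336, 9895, 4876], [0, 0], [35, 1, 12340], [0, 0], [100, 1, 4973, 9223, 12344], [95, 3, 12346, 9629, 8098], [0, 0], [31, 1, 12350], [53, 1, 8066, 9626, 12350], [35, 1, 12354], [0, 0], [33, 1, 12358], [0, 0], [37, 1, 12362], [0, 0], [128, 2, 5001, 4972, 12366], [0, 0], [155, 1, 5005, 9229, 12370], [0, 0], [31, 1, 12374], [63, 2, 12375, 9243, 12374], [77, 2, 12375, 9245, 12374], [133, 2, 12375, 9249, 12374], [0, 0], [33, 1, 12384], [47, 2, 5030, 5018, 12384], [0, 0], [35, 1, 12390], [49, 2, 5034, 5018, 12390], [109, 2, 12391, 9247, 12390], [0, 0]]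
def dJ31 : List (List ℕ) := [[37, 1, 12398], [51, 2, 5038, 5018, 12398], [0, 0], [59, 1, 9242, 12404], [59, 2, 12406, 12404], [0, 0], [0, 0], [118, 2, 5045, 5018, 12412], [0, 0], [146, 2, 5049, 5018, 12416], [145, 2, 12418, 8857, 5018], [0, 0], [31, 1, 12422], [63, 2, 12423, 9251, 12422], [77, 2, 12423, 9253, 12422], [105, 2, 12423, 9255, 12422], [133, 2, 12423, 9257, 12422], [0, 0], [33, 1, 12434], [47, 2, 12386, 5023, 12434], [29, 2, 12438, 12388], [0, 0], [37, 1, 12442], [51, 2, 12400, 5023, 12442], [69, 2, 12443, 9251, 12442], [29, 2, 12446, 12402], [0, 0], [59, 1, 9250, 12452], [59, 2, 12454, 12452], [85, 2, 12453, 9253, 12452], [0, 0], [90, 2, 12411, 5023, 12460], [96, 2, 10198, 9762, 12460], [0, 0], [117, 1, 5045, 5020, 12466], [0, 0], [146, 2, 12417, 5023, 12470], [145, 2, 12472, 12421, 5023], [0, 0], [61, 2, 12477, 9259, 12476], [75, 2, 12477, 9261, 12476], [131, 2, 12477, 9265, 12476], [0, 0], [30, 1, 12477, 12484], [61, 0, 12485, 9258, 12484], [75, 0, 12485, 9260, 12484], [103, 0, 12485, 9262, 12484], [131, 0, 12485, 9264,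 12484], [0, 0], [33, 1, 12496], [65, 2, 12497, 9259, 12496], [79, 2, 12497, 9261, 12496], [107, 2, 12497, 9263, 12496], [135, 2, 12497, 9265, 12496], [0, 0], [35, 1, 12508], [53, 2, 5034, 5024, 12508], [67, 2, 12509, 9259, 12508], [109, 2, 12509, 9263, 12508], [31, 1, 12512], [0, 0], [37, 1, 12520], [55, 2, 5038, 5024, 12520], [83, 2, 12521, 9261, 12520], [31, 1, 12524], [0, 0], [59, 1, 9258, 12530], [0, 0], [92, 2, 5041, 5024, 12534], [0, 0], [120, 2, 5045, 5024, 12538], [0, 0], [148, 2, 5049, 5024, 12542], [147, 2, 12544, 8857, 5024], [0, 0], [35, 1, 12548], [0, 0], [37, 1, 12552], [57, 2, 5038, 5028, 12552], [33, 1, 12556], [0, 0], [33, 1, 12560], [0, 0], [37, 1, 12564], [0, 0], [59, 1, 9266, 12568], [85, 2, 12569, 9269, 12568], [0, 0], [89, 1, 10198, 9760, 12574], [0, 0], [124, 2, 5045, 5032, 12578], [0, 0], [152, 2, 5049, 5032, 12582], [151, 2, 12584, 8857, 5032], [0, 0], [35, 1, 12588], [0, 0], [0, 0], [153, 1, 5049, 5039, 12594], [154, 2, 5049, 5036, 12594], [153, 2, 12598, 8857, 5036], [0, 0], [39, 1, 5165, 1386, 1372, 5106,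 12602], [0, 0], [147, 1, 5121, 5109, 12606], [196, 1, 5981, 5111, 12606], [195, 3, 12610, 10365, 5111], [0, 0], [150, 2, 5121, 5112, 12614], [196, 1, 5991, 5115, 12614], [195, 3, 12618, 10367, 5115], [0, 0], [154, 2, 5121, 5116, 12622], [196, 1, 6001, 5119, 12622], [0, 0], [50, 2, 5975, 5135, 12628], [36, 1, 12630], [0, 0], [73, 1, 11558, 11557, 12632, 12629, 10458, 12634], [0, 0], [148, 2, 5147, 5132, 12638], [152, 2, 5981, 5136, 12638], [151, 2, 12642, 10365, 5136], [0, 0], [150, 2, 5147, 5138, 12646], [0, 0], [154, 2, 5147, 5140, 12650], [0, 0], [156, 2, 5147, 5142, 12654], [0, 0], [35, 1, 12658], [49, 2, 5170, 5162, 12658], [0, 0], [127, 2, 5179, 5176, 12664], [0, 0], [152, 2, 5181, 5168, 12668], [195, 2, 5181, 5176, 12668], [0, 0], [0, 0], [156, 2, 5181, 5178, 12676], [155, 2, 12678, 9919, 5178], [0, 0], [150, 2, 5209, 5193, 12682], [195, 2, 5195, 5190, 12682], [0, 0], [154, 2, 5209, 5204, 12688], [195, 2, 5215, 5207, 12688], [0, 0], [37, 1, 12694], [55, 2, 12696, 9971, 12694], [57, 2, 5246, 5238, 12694], [69, 2, 12695, 9973, 12694],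 [83, 2, 12695, 9975, 12694], [111, 2, 12695, 9977, 12694], [139, 2, 12695, 9979, 12694], [33, 1, 12700], [47, 0, 12700, 5248, 5390], [0, 0], [59, 1, 9972, 12714], [59, 2, 12716, 12714], [85, 2, 12715, 9975, 12714], [113, 2, 12715, 9977, 12714], [141, 2, 12715, 9979, 12714], [0, 0], [94, 2, 5279, 5238, 12726], [0, 0], [122, 2, 5281, 5238, 12730], [0, 0], [145, 1, 5417, 5243, 12734], [147, 1, 12735, 9970, 12734], [150, 2, 5283, 5238, 12734], [149, 2, 12740, 9323, 5238], [0, 0], [35, 1, 12744], [45, 1, 6212, 2494, 9307, 5244, 12744], [53, 2, 11324, 5252, 12744], [67, 2, 12745, 8931, 12744], [81, 2, 12745, 8933, 12744], [109, 2, 12745, 8935, 12744], [137, 2, 12745, 8937, 12744], [31, 1, 12750], [39, 0, 12750, 11328, 4518, 1636, 5434], [55, 3, 12750, 11326, 8460], [0, 0], [59, 1, 8930, 12766], [59, 2, 12768, 12766], [85, 2, 12767, 8933, 12766], [113, 2, 12767, 8935, 12766], [141, 2, 12767, 8937, 12766], [0, 0], [89, 1, 5455, 5249, 12778], [91, 1, 11355, 5251, 12778], [97, 1, 5279, 5247, 12778], [0, 0], [117, 1, 5461, 5249, 12786], [0, 0],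 [147, 1, 11365, 5251, 12790], [148, 2, 11365, 5252, 12790], [154, 2, 5283, 5244, 12790], [153, 2, 12796, 9323, 5244]]
def dJ32 : List (List ℕ) := [[0, 0], [53, 1, 6722, 5261, 12800], [35, 1, 12802], [73, 1, 12802, 10950, 12661, 12662, 10462, 12664], [118, 3, 12675, 12667, 12806], [0, 0], [33, 1, 12810], [47, 2, 6864, 5259, 12810], [0, 0], [37, 1, 12816], [51, 2, 6868, 5259, 12816], [69, 2, 12817, 9989, 12816], [0, 0], [90, 2, 6873, 5259, 12824], [95, 1, 6759, 5262, 12824], [100, 2, 5279, 5254, 12824], [0, 0], [146, 2, 6875, 5259, 12832], [152, 2, 6765, 5261, 12832], [155, 1, 5283, 9987, 12832], [156, 2, 5283, 5254, 12832], [155, 2, 12840, 9323, 5254], [0, 0], [31, 1, 12844], [41, 1, 10834, 1784, 1517, 5300, 12844], [63, 2, 12845, 10485, 12844], [47, 0, 12848, 5513, 5374], [0, 0], [35, 1, 12854], [43, 2, 6018, 1784, 9957, 5300, 12854], [49, 2, 5378, 5306, 12854], [47, 3, 12860, 10804, 6020], [0, 0], [51, 2, 5386, 5306, 12864], [57, 2, 5310, 5300, 12864], [33, 1, 12868], [47, 0, 12868, 5312, 12710], [0, 0], [59, 1, 10484, 12874], [0, 0],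 [145, 1, 12735, 5305, 12878], [146, 2, 5417, 5306, 12878], [149, 1, 5349, 5303, 12878], [150, 2, 5349, 5300, 12878], [0, 0], [35, 1, 12888], [45, 1, 6096, 2422, 9957, 5308, 12888], [49, 2, 5430, 5318, 12888], [53, 2, 6096, 5316, 12888], [67, 2, 12889, 9379, 12888], [81, 2, 12889, 9381, 12888], [109, 2, 12889, 9383, 12888], [137, 2, 12889, 9385, 12888], [31, 1, 12896], [39, 0, 12896, 6216, 8462, 11338, 12760], [41, 5, 12896, 11863, 6648, 9588, 5434], [33, 1, 12910], [43, 3, 5388, 5428, 12910, 12890, 12870], [57, 0, 12910, 12892, 11863, 7904], [6, 0, 7899, 12916, 5432], [10, 0, 10195, 12916, 5430], [12, 0, 7901, 12916, 9702], [20, 0, 10197, 12916], [4, 0, 9586, 12919, 1634], [3, 0, 4966, 12919, 1637], [10, 0, 9561, 12919, 1632], [14, 0, 7907, 12919, 5782], [20, 0, 9565, 12919], [3, 0, 12780, 12921, 5249], [12, 0, 5459, 12921, 1526], [20, 0, 5454, 12921], [4, 0, 11864, 12923, 6098], [10, 0, 6651, 12923, 2674], [20, 0, 6646, 12923], [7, 0, 9589, 12927], [8, 0, 9591, 12927], [10, 0, 3487, 12927, 622], [14, 0, 7946, 12927, 3468], [20, 0, 3484,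 12927], [6, 0, 11438, 12929, 4520], [8, 0, 4962, 12929], [10, 0, 9221, 12929, 1328], [14, 0, 12345, 12929, 4972], [20, 0, 9225, 12929], [8, 0, 9500, 12931, 1588], [12, 0, 1657, 12931, 358], [14, 0, 5860, 12931, 1638], [20, 0, 1654, 12931], [3, 0, 12576, 12933, 9760], [10, 0, 12464, 12933, 9762], [20, 0, 10199, 12933], [6, 0, 12783, 12937, 5250], [12, 0, 12785, 12937, 5246], [20, 0, 12778, 12937], [3, 0, 5338, 12939, 1512], [8, 0, 5410, 12939, 1520], [10, 0, 10307, 12939, 9682], [14, 0, 2430, 12939, 419], [20, 0, 1538, 12939], [7, 0, 6629, 12943], [8, 0, 6626, 12943], [10, 0, 11871, 12943, 6096], [20, 0, 11866, 12943], [4, 0, 6236, 12945, 2498], [8, 0, 6468, 12945, 2564], [20, 0, 2822, 12945], [8, 0, 3190, 12953, 520], [12, 0, 651, 12953, 96], [14, 0, 3540, 12953, 624], [20, 0, 648, 12953], [20, 0, 7944, 12955], [10, 0, 11441, 12959, 4516], [20, 0, 11436, 12959], [8, 0, 9206, 12963, 1240], [12, 0, 1353, 12963, 302], [14, 0, 5042, 12963, 1332], [20, 0, 1350, 12963], [10, 0, 12348, 12965, 9629], [6, 0, 7121, 12969, 5532], [12, 0, 10126,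 12969, 1582], [14, 0, 7365, 12969, 5614], [20, 0, 9505, 12969], [20, 0, 382, 12971], [20, 0, 5858, 12973], [20, 0, 12574, 12977], [3, 0, 12463, 12979, 5022], [20, 0, 12460, 12979], [4, 0, 11357, 12983, 4450], [12, 0, 11359, 12983, 4448], [20, 0, 11354, 12983], [8, 0, 12728, 12985, 5238], [10, 0, 9991, 12985, 9304], [14, 0, 12830, 12985, 5254], [20, 0, 5278, 12985], [20, 0, 5336, 12989], [20, 0, 5408, 12991], [8, 0, 2584, 12993, 424], [14, 0, 2864, 12993, 448], [20, 0, 474, 12993], [8, 0, 6052, 12995, 1782], [20, 0, 2426, 12995], [28, 0, 6129, 12995, 2450], [8, 0, 11856, 13003, 6028], [20, 0, 6110, 13003], [8, 0, 11903, 13007, 9195], [20, 0, 6234, 13007], [20, 0, 6466, 13009], [6, 0, 7140, 13013, 2992], [9, 0, 9555, 13013], [10, 0, 9557, 13013], [12, 0, 3193, 13013, 516], [14, 0, 7412, 13013, 3174], [20, 0, 3188, 13013], [14, 0, 10224, 13015, 9595], [20, 0, 124, 13015], [4, 0, 8046, 13017, 3516], [8, 0, 8164, 13017, 3526], [12, 0, 8204, 13017, 3534], [20, 0, 3538, 13017], [12, 0, 4543, 13023, 1122], [14, 0, 11480, 13023, 4522], [20, 0,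 4538, 13023], [10, 0, 4808, 13027], [12, 0, 9896, 13027, 1236], [14, 0, 12041, 13027, 4818], [20, 0, 9209, 13027], [20, 0, 322, 13029], [6, 0, 12536, 13031, 5024], [20, 0, 5040, 13031], [20, 0, 8094, 13035], [12, 0, 10672, 13037, 5528], [20, 0, 10109, 13037], [10, 0, 10674, 13039, 1572], [14, 0, 5684, 13039, 1592], [20, 0, 1608, 13039], [4, 0, 12098, 13041], [9, 0, 12069, 13041], [10, 0, 12060, 13041], [20, 0, 10129, 13041], [20, 0, 12410, 13051], [12, 0, 8483, 13055, 4386], [20, 0, 8476, 13055], [20, 0, 4466, 13057], [28, 0, 11407, 13057, 4472], [20, 0, 12726, 13061], [8, 0, 10402, 13063, 9843], [14, 0, 6286, 13063, 2500], [20, 0, 2514, 13063], [3, 0, 12827, 13065, 5258], [10, 0, 12829, 13065, 5263], [6, 0, 6364, 13073, 2546], [10, 0, 6426, 13073, 2554], [14, 0, 6520, 13073, 2566], [20, 0, 2582, 13073], [4, 0, 6702, 13075, 2840], [6, 0, 6812, 13075, 2846], [12, 0, 6902, 13075, 2858], [20, 0, 2862, 13075], [10, 0, 11852, 13079, 6016], [20, 0, 6048, 13079]]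
def dJ33 : List (List ℕ) := [[20, 0, 6131, 13083], [9, 0, 6449, 13085], [10, 0, 6446, 13085], [20, 0, 11859, 13085], [10, 0, 11898, 13089], [20, 0, 11904, 13089], [9, 0, 10121, 13095], [10, 0, 10123, 13095], [12, 0, 7143, 13095, 2988], [20, 0, 7138, 13095], [10, 0, 3080, 13101, 510], [14, 0, 3246, 13101, 522], [20, 0, 544, 13101], [3, 0, 7416, 13103, 7390], [20, 0, 7410, 13103], [20, 0, 50, 13107], [20, 0, 8044, 13111], [20, 0, 8162, 13113], [20, 0, 8202, 13115], [14, 0, 4600, 13119, 1128], [20, 0, 1146, 13119], [20, 0, 11478, 13121], [10, 0, 10408, 13127, 1228], [14, 0, 4886, 13127, 1244], [20, 0, 1270, 13127], [20, 0, 12043, 13129], [20, 0, 12534, 13135], [20, 0, 5550, 13141], [14, 0, 7257, 13145, 5568], [20, 0, 10679, 13145], [20, 0, 5682, 13147], [14, 0, 11310, 13161, 4398], [20, 0, 4414, 13161], [20, 0, 11409, 13167], [10, 0, 11841, 13171, 4678], [14, 0, 11984, 13171, 4702], [20, 0, 4718, 13171], [20, 0, 6284, 13173], [20, 0, 6872, 13177], [20, 0, 6758, 13179], [4, 0, 11092, 13181, 10625], [20, 0, 6362, 13181], [20, 0, 6424, 13183],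 [20, 0, 6518, 13185], [20, 0, 6700, 13189], [20, 0, 6810, 13191], [20, 0, 6900, 13193], [11, 0, 6407, 13197], [12, 0, 6404, 13197], [20, 0, 11850, 13197], [10, 0, 7098, 13217, 2978], [14, 0, 7188, 13217, 2994], [20, 0, 3008, 13217], [11, 0, 10699, 13221], [12, 0, 10701, 13221], [14, 0, 7296, 13221, 3062], [20, 0, 3078, 13221], [28, 0, 7351, 13221, 3160], [4, 0, 7520, 13223, 3222], [3, 0, 7564, 13223, 3224], [6, 0, 7620, 13223, 3228], [8, 0, 7658, 13223, 3232], [10, 0, 7690, 13223, 3236], [12, 0, 7720, 13223, 3240], [20, 0, 3244, 13223], [9, 0, 7405, 13227], [10, 0, 7402, 13227], [20, 0, 7420, 13227], [4, 0, 11534, 13239, 4570], [3, 0, 11606, 13239, 4572], [6, 0, 11694, 13239, 4580], [8, 0, 11742, 13239, 4584], [10, 0, 11784, 13239, 4588], [12, 0, 11810, 13239, 4594], [20, 0, 4598, 13239], [12, 0, 4744, 13245], [14, 0, 11995, 13245, 4756], [20, 0, 10413, 13245], [28, 0, 11999, 13245, 4796], [4, 0, 12166, 13247, 4862], [3, 0, 12220, 13247, 4864], [10, 0, 12328, 13247, 4876], [20, 0, 4884, 13247], [20, 0, 11133, 13257], [20, 0, 11308, 13263],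 [12, 0, 11836, 13269], [20, 0, 11842, 13269], [20, 0, 11982, 13271], [20, 0, 7058, 13281], [11, 0, 11101, 13301], [12, 0, 11103, 13301], [20, 0, 7096, 13301], [20, 0, 7186, 13303], [20, 0, 7294, 13311], [12, 0, 10137, 13315], [20, 0, 7518, 13317], [20, 0, 7562, 13319], [20, 0, 7618, 13321], [20, 0, 7656, 13323], [20, 0, 7688, 13325], [20, 0, 7718, 13327], [20, 0, 11532, 13337], [20, 0, 11604, 13339], [20, 0, 11692, 13341], [20, 0, 11740, 13343], [20, 0, 11782, 13345], [20, 0, 11808, 13347], [20, 0, 11997, 13353], [12, 0, 12001, 13357], [20, 0, 12164, 13359], [20, 0, 12218, 13361], [20, 0, 12326, 13363], [93, 2, 12911, 12925, 12910], [89, 0, 12908, 13424, 12909], [95, 0, 12888, 13424, 12889], [93, 2, 12871, 13428, 12870], [89, 0, 12872, 13430, 12873], [90, 1, 12867, 13430, 12866], [91, 2, 12751, 13426, 12750], [97, 2, 12749, 13426, 12748], [93, 0, 12308, 13422, 12309], [99, 0, 12214, 13420, 12215], [90, 1, 10940, 13414, 10941], [93, 0, 12014, 13414, 12015], [89, 2, 12017, 13446, 12016], [89, 0, 11518, 13412, 11519], [90, 1, 11591, 13412,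 11590], [91, 0, 11668, 13412, 11669], [93, 0, 11724, 13412, 11725], [89, 0, 11266, 13410, 11267], [91, 0, 11654, 13410, 11655], [93, 0, 11758, 13410, 11759], [97, 0, 11766, 13410, 11767], [90, 3, 11774, 13464, 11775], [90, 3, 11762, 13462, 11763], [99, 2, 11661, 13460, 11660], [89, 0, 11504, 13408, 11505], [90, 1, 11575, 13408, 11574], [93, 0, 11640, 13406, 11641], [99, 0, 11682, 13406, 11683], [99, 0, 11594, 13404, 11595], [89, 0, 7500, 13400, 7501], [90, 1, 7555, 13400, 7554], [91, 0, 7604, 13400, 7605], [93, 0, 7650, 13400, 7651], [91, 0, 7596, 13398, 7597], [95, 0, 7644, 13396, 7645], [99, 0, 11170, 13390, 11171], [89, 0, 10902, 13386, 10903], [90, 1, 7277, 13386, 7276], [93, 0, 7288, 13386, 7289], [95, 0, 10878, 13386, 10879], [90, 3, 5659, 13502, 5658], [93, 0, 7176, 13384, 7177], [97, 0, 7184, 13384, 7185], [89, 0, 10970, 13382, 10971], [91, 0, 5508, 13376, 5509], [97, 0, 7040, 13376, 7041], [89, 2, 10095, 13514, 10094], [89, 0, 11941, 13374, 11940], [90, 1, 11931, 13374, 11930], [95, 0, 11966, 13374, 11967], [89, 2, 11969, 13522,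 11968], [93, 0, 11826, 13372, 11827], [99, 0, 11874, 13372, 11875], [90, 3, 11834, 13526, 11835], [58, 2, 11825, 13370, 11827], [46, 3, 12695, 11829, 13532, 11833, 12697], [44, 3, 12745, 12701, 13534, 12711, 12747], [58, 3, 12749, 13536, 12765], [89, 0, 7393, 13334, 7392], [49, 3, 7393, 13330, 7388], [89, 0, 6692, 13292, 6693], [90, 1, 6743, 13292, 6742], [95, 0, 6882, 13292, 6883], [99, 0, 11072, 13292, 11073], [89, 0, 6499, 13286, 6498], [90, 1, 6497, 13286, 6496], [95, 0, 6512, 13286, 6513], [97, 0, 6516, 13286, 6517], [93, 0, 6864, 13276, 6865], [90, 3, 12814, 13560, 12815], [90, 1, 6257, 13274, 6256], [93, 0, 6272, 13274, 6273], [95, 0, 6276, 13274, 6277], [89, 2, 6279, 13568, 6278], [91, 0, 5666, 13260, 5667], [93, 0, 5670, 13260, 5671], [97, 0, 5680, 13260, 5681], [99, 0, 10844, 13254, 10845], [89, 0, 12485, 13252, 12484], [90, 1, 12477, 13252, 12476], [93, 0, 12498, 13252, 12499], [89, 0, 12055, 13250, 12054], [90, 1, 12045, 13250, 12044], [91, 0, 12072, 13250, 12073], [93, 0, 12084, 13250, 12085], [95, 0, 12096, 13250, 12097],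 [97, 0, 12110, 13250, 12111], [89, 0, 8018, 13234, 8019]]
def dJ34 : List (List ℕ) := [[90, 1, 8075, 13234, 8074], [91, 0, 8142, 13234, 8143], [91, 0, 8012, 13232, 8013], [91, 0, 7396, 13228, 7397], [99, 0, 10110, 13218, 10111], [99, 0, 11908, 13210, 11909], [91, 0, 5354, 13200, 5355], [93, 2, 12886, 13612, 12887], [99, 0, 10930, 13198, 10931], [99, 0, 12716, 13168, 12717], [99, 0, 10036, 13092, 10037], [99, 0, 9406, 13090, 9407], [99, 0, 10816, 13070, 10817], [99, 0, 11344, 13058, 11345], [91, 0, 12424, 13052, 12425], [89, 0, 5833, 13046, 5832], [90, 1, 5831, 13046, 5830], [91, 0, 5842, 13046, 5843], [93, 0, 5846, 13046, 5847], [95, 0, 5850, 13046, 5851], [97, 0, 5856, 13046, 5857], [93, 0, 11412, 13024, 11413], [99, 0, 11426, 13024, 11427], [97, 0, 7942, 13020, 7943], [58, 0, 13000, 9703, 12913], [99, 0, 12768, 12986, 12769], [42, 3, 11411, 4521, 12960, 4519, 11413], [99, 0, 10046, 12946, 10047], [99, 0, 9714, 12940, 9715], [0, 0], [59, 1, 9378, 13658], [59, 2, 13660, 13658], [85, 2, 13659, 9381, 13658], [99, 2, 13659, 13428, 13658],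 [113, 2, 13659, 9383, 13658], [141, 2, 13659, 9385, 13658], [0, 0], [118, 2, 5461, 5318, 13672], [0, 0], [145, 1, 12791, 5313, 13676], [146, 2, 5465, 5318, 13676], [148, 2, 6121, 5316, 13676], [154, 2, 5349, 5308, 13676], [177, 2, 13677, 9381, 13676], [153, 2, 13684, 9969, 5308], [0, 0], [29, 1, 6278, 13690], [49, 1, 6261, 6262, 13690], [35, 1, 13694], [0, 0], [31, 1, 13698], [63, 2, 13699, 10493, 13698], [0, 0], [33, 1, 13704], [65, 2, 13705, 10493, 13704], [79, 2, 13705, 10495, 13704], [93, 2, 13705, 13571, 13704], [107, 2, 13705, 10497, 13704], [135, 2, 13705, 10499, 13704], [0, 0], [37, 1, 13718], [69, 2, 13719, 10493, 13718], [0, 0], [128, 2, 5341, 5320, 13724], [0, 0], [156, 2, 5349, 5320, 13728], [155, 2, 13730, 9969, 5320], [0, 0], [196, 1, 5349, 5346, 13734], [195, 3, 13736, 9969, 5346], [0, 0], [30, 1, 12853, 13740], [40, 2, 13742, 12845, 5307, 5371, 13740], [48, 2, 5507, 5373, 13740], [61, 0, 13741, 10800, 13740], [131, 0, 13741, 10802, 13740], [34, 1, 13746], [0, 0], [35, 1, 13754], [53, 2, 5378, 5368, 13754], [31, 1, 13758],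 [0, 0], [55, 2, 5386, 5368, 13762], [57, 2, 5528, 5374, 13762], [41, 0, 13766, 5530, 1586, 1530, 5390], [0, 0], [59, 1, 10800, 13770], [141, 2, 13771, 10803, 13770], [0, 0], [149, 1, 5557, 5373, 13776], [150, 2, 5557, 5374, 13776], [149, 2, 13780, 10325, 5374], [0, 0], [0, 0], [122, 2, 6431, 10807, 13786], [0, 0], [149, 1, 6435, 10805, 13790], [150, 2, 6435, 10807, 13790], [152, 2, 5417, 5376, 13790], [0, 0], [59, 1, 9694, 13798], [59, 2, 13800, 13798], [85, 2, 13799, 9697, 13798], [99, 2, 13799, 13434, 13798], [113, 2, 13799, 9699, 13798], [141, 2, 13799, 9701, 13798], [0, 0], [122, 2, 5461, 5390, 13812], [0, 0], [150, 2, 5465, 5390, 13816], [0, 0], [0, 0], [61, 0, 13823, 10818, 13822], [0, 0], [31, 1, 13826], [0, 0], [33, 1, 13830], [0, 0], [35, 1, 13834], [0, 0], [0, 0], [128, 2, 5413, 5392, 13840], [0, 0], [0, 0], [59, 1, 9706, 13846], [0, 0], [124, 2, 5461, 5428, 13850], [0, 0], [152, 2, 5465, 5428, 13854], [154, 2, 6661, 9705, 13854], [153, 2, 13858, 9449, 9705], [0, 0], [61, 2, 13863, 9717, 13862], [75, 2, 13863, 9719, 13862],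 [89, 2, 13863, 13656, 13862], [103, 2, 13863, 9721, 13862], [131, 2, 13863, 9723, 13862], [0, 0], [30, 1, 13863, 13874], [61, 0, 13875, 9716, 13874], [75, 0, 13875, 9718, 13874], [89, 0, 13875, 13657, 13874], [103, 0, 13875, 9720, 13874], [131, 0, 13875, 9722, 13874], [0, 0], [31, 1, 13888], [0, 0], [33, 1, 13892], [65, 2, 13893, 9717, 13892], [79, 2, 13893, 9719, 13892], [93, 2, 13893, 13656, 13892], [107, 2, 13893, 9721, 13892], [135, 2, 13893, 9723, 13892], [0, 0], [35, 1, 13906], [67, 2, 13907, 9717, 13906], [81, 2, 13907, 9719, 13906], [95, 2, 13907, 13656, 13906], [109, 2, 13907, 9721, 13906], [137, 2, 13907, 9723, 13906], [0, 0], [37, 1, 13920], [0, 0], [128, 2, 5461, 5438, 13924], [0, 0], [156, 2, 5465, 5438, 13928], [0, 0], [35, 1, 13932], [49, 2, 5520, 5506, 13932], [53, 2, 7032, 5510, 13932], [31, 1, 13938], [51, 3, 13936, 13381, 7036], [37, 1, 13942], [0, 0], [37, 1, 13946], [45, 2, 7040, 7030, 13942, 13934, 13946], [51, 2, 5528, 5506, 13946], [55, 2, 7040, 5510, 13946], [69, 2, 13947, 10827, 13946], [83, 2, 13947, 10829,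 13946], [97, 2, 13947, 13512, 13946], [111, 2, 13947, 10831, 13946], [139, 2, 13947, 10833, 13946], [31, 1, 13954], [49, 3, 13952, 13215, 7044], [0, 0], [59, 1, 10826, 13970], [141, 2, 13971, 10833, 13970], [0, 0], [118, 2, 5553, 5506, 13976], [0, 0], [146, 2, 5557, 5506, 13980], [147, 1, 7063, 5509, 13980], [148, 2, 7063, 5510, 13980], [147, 2, 13986, 10645, 5510], [0, 0], [35, 1, 13990], [53, 2, 6018, 10837, 13990], [67, 2, 13991, 10839, 13990], [31, 1, 13994]]
def dJ35 : List (List ℕ) := [[39, 0, 13994, 10920, 4684, 1578, 5524], [55, 3, 13994, 13294, 6334], [37, 1, 14002], [0, 0], [37, 1, 14006], [45, 2, 6338, 6330, 14002, 13992, 14006], [51, 2, 13948, 5515, 14006], [55, 2, 6024, 10837, 14006], [83, 2, 14007, 10841, 14006], [31, 1, 14014], [39, 0, 14014, 9898, 4694, 1590, 5532], [53, 3, 14014, 13202, 6346], [0, 0], [59, 1, 10838, 14024], [0, 0], [145, 1, 5557, 5512, 14028], [146, 2, 13981, 5515, 14028], [147, 1, 6059, 10835, 14028], [148, 2, 6059, 10837, 14028], [147, 2, 14036, 10383, 10837], [0, 0], [41, 2, 7078, 2982, 10329, 5524,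 14040], [31, 1, 14042], [0, 0], [0, 0], [147, 1, 5601, 5523, 14048], [152, 2, 5557, 5518, 14048], [154, 2, 7105, 13378, 14048], [0, 0], [59, 1, 9742, 14056], [59, 2, 14058, 14056], [85, 2, 14057, 9745, 14056], [99, 2, 14057, 13143, 14056], [113, 2, 14057, 9747, 14056], [141, 2, 14057, 9749, 14056], [0, 0], [126, 2, 5553, 5526, 14070], [0, 0], [154, 2, 5557, 5526, 14074], [0, 0], [0, 0], [61, 0, 14081, 10846, 14080], [0, 0], [31, 1, 14084], [63, 2, 14085, 10847, 14084], [77, 2, 14085, 10849, 14084], [91, 2, 14085, 13578, 14084], [105, 2, 14085, 10851, 14084], [133, 2, 14085, 10853, 14084], [0, 0], [33, 1, 14098], [65, 2, 14099, 10847, 14098], [0, 0], [35, 1, 14104], [67, 2, 14105, 10847, 14104], [81, 2, 14105, 10849, 14104], [95, 2, 14105, 13578, 14104], [109, 2, 14105, 10851, 14104], [137, 2, 14105, 10853, 14104], [0, 0], [37, 1, 14118], [69, 2, 14119, 10847, 14118], [83, 2, 14119, 10849, 14118], [97, 2, 14119, 13578, 14118], [111, 2, 14119, 10851, 14118], [139, 2, 14119, 10853, 14118], [0, 0], [128, 2, 5553, 5534, 14132], [0, 0], [156,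 2, 5557, 5534, 14136], [155, 2, 14138, 10325, 5534], [0, 0], [31, 1, 14142], [53, 1, 12180, 10859, 14142], [35, 1, 14146], [0, 0], [33, 1, 14150], [47, 2, 12308, 10855, 14150], [65, 2, 14151, 10863, 14150], [79, 2, 14151, 10865, 14150], [93, 2, 14151, 13367, 14150], [107, 2, 14151, 10867, 14150], [135, 2, 14151, 10869, 14150], [0, 0], [37, 1, 14166], [51, 2, 12320, 10855, 14166], [0, 0], [128, 2, 5597, 5568, 14172], [0, 0], [0, 0], [29, 1, 13151, 14178], [49, 1, 12057, 13155, 14178], [61, 2, 14179, 9753, 14178], [75, 2, 14179, 9755, 14178], [89, 2, 14179, 13157, 14178], [103, 2, 14179, 9757, 14178], [131, 2, 14179, 9759, 14178], [35, 1, 14182], [0, 0], [31, 1, 14196], [63, 2, 14197, 9753, 14196], [77, 2, 14197, 9755, 14196], [91, 2, 14197, 13157, 14196], [105, 2, 14197, 9757, 14196], [133, 2, 14197, 9759, 14196], [0, 0], [33, 1, 14210], [65, 2, 14211, 9753, 14210], [79, 2, 14211, 9755, 14210], [93, 2, 14211, 13157, 14210], [107, 2, 14211, 9757, 14210], [135, 2, 14211, 9759, 14210], [0, 0], [37, 1, 14224], [0, 0], [128, 2, 5631, 5614,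 14228], [0, 0], [156, 2, 5635, 5614, 14232], [0, 0], [31, 1, 14236], [63, 2, 14237, 10871, 14236], [77, 2, 14237, 10873, 14236], [91, 2, 14237, 13505, 14236], [105, 2, 14237, 10875, 14236], [133, 2, 14237, 10877, 14236], [0, 0], [33, 1, 14250], [47, 2, 5670, 5654, 14250], [65, 2, 14251, 10871, 14250], [79, 2, 14251, 10873, 14250], [93, 2, 14251, 13505, 14250], [107, 2, 14251, 10875, 14250], [135, 2, 14251, 10877, 14250], [0, 0], [37, 1, 14266], [51, 2, 5680, 5654, 14266], [69, 2, 14267, 10871, 14266], [83, 2, 14267, 10873, 14266], [97, 2, 14267, 13505, 14266], [111, 2, 14267, 10875, 14266], [139, 2, 14267, 10877, 14266], [0, 0], [59, 1, 10870, 14282], [85, 2, 14283, 10873, 14282], [141, 2, 14283, 10877, 14282], [0, 0], [118, 2, 5687, 5654, 14290], [0, 0], [146, 2, 5691, 5654, 14294], [145, 2, 14296, 10363, 5654], [0, 0], [31, 1, 14300], [53, 1, 7284, 10881, 14300], [35, 1, 14304], [0, 0], [33, 1, 14308], [47, 2, 14252, 5659, 14308], [65, 2, 14309, 10883, 14308], [79, 2, 14309, 10885, 14308], [29, 2, 14312, 14254], [0, 0], [37, 1, 14320],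 [51, 2, 14268, 5659, 14320], [29, 2, 14324, 14270], [0, 0], [59, 1, 10882, 14328], [0, 0], [145, 1, 5691, 5656, 14332], [146, 2, 14295, 5659, 14332], [152, 2, 7303, 10881, 14332], [151, 2, 14338, 10697, 10881], [0, 0], [75, 2, 14343, 10889, 14342], [0, 0], [30, 1, 14343, 14346], [0, 0], [33, 1, 14350], [65, 2, 14351, 10887, 14350], [107, 2, 14351, 10891, 14350], [0, 0], [35, 1, 14358], [53, 2, 5674, 5664, 14358], [67, 2, 14359, 10887, 14358], [81, 2, 14359, 10889, 14358], [95, 2, 14359, 13572, 14358], [109, 2, 14359, 10891, 14358], [137, 2, 14359, 10893, 14358], [31, 1, 14362], [0, 0], [37, 1, 14376], [55, 2, 5680, 5664, 14376], [69, 2, 14377, 10887, 14376], [83, 2, 14377, 10889, 14376], [97, 2, 14377, 13572, 14376], [111, 2, 14377, 10891, 14376], [139, 2, 14377, 10893, 14376], [31, 1, 14380], [0, 0], [59, 1, 10886, 14394], [85, 2, 14395, 10889, 14394]]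
def dJ36 : List (List ℕ) := [[141, 2, 14395, 10893, 14394], [0, 0], [120, 2, 5687, 5664, 14402], [0, 0], [147, 1, 5691, 5667, 14406], [148, 2, 5691, 5664, 14406], [147, 2, 14410, 10363, 5664], [0, 0], [31, 1, 14414], [0, 0], [35, 1, 14418], [67, 2, 14419, 10895, 14418], [81, 2, 14419, 10897, 14418], [0, 0], [37, 1, 14426], [57, 2, 5680, 5668, 14426], [69, 2, 14427, 10895, 14426], [83, 2, 14427, 10897, 14426], [97, 2, 14427, 13574, 14426], [111, 2, 14427, 10899, 14426], [139, 2, 14427, 10901, 14426], [33, 1, 14430], [0, 0], [59, 1, 10894, 14444], [59, 2, 14446, 14444], [85, 2, 14445, 10897, 14444], [99, 2, 14445, 13574, 14444], [113, 2, 14445, 10899, 14444], [141, 2, 14445, 10901, 14444], [0, 0], [122, 2, 5687, 5668, 14458], [0, 0], [150, 2, 5691, 5668, 14462], [177, 2, 14463, 10897, 14462], [149, 2, 14464, 10363, 5668], [0, 0], [33, 1, 14470], [65, 2, 14471, 10905, 14470], [79, 2, 14471, 10907, 14470], [93, 2, 14471, 13496, 14470], [107, 2, 14471, 10909, 14470], [135, 2, 14471, 10911, 14470], [47, 0, 14472, 10902, 7286], [0, 0], [37,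 1, 14486], [51, 0, 14488, 10902, 7290], [0, 0], [59, 1, 10904, 14492], [85, 2, 14493, 10907, 14492], [0, 0], [124, 2, 5687, 5672, 14498], [0, 0], [145, 1, 7303, 10903, 14502], [152, 2, 5691, 5672, 14502], [151, 2, 14506, 10363, 5672], [0, 0], [35, 1, 14510], [67, 2, 14511, 10913, 14510], [0, 0], [59, 1, 10912, 14516], [0, 0], [126, 2, 5687, 5678, 14520], [0, 0], [153, 1, 5691, 5681, 14524], [154, 2, 5691, 5678, 14524], [153, 2, 14528, 10363, 5678], [0, 0], [31, 1, 14532], [53, 1, 12424, 9765, 14532], [105, 2, 14533, 9773, 14532], [35, 1, 14536], [0, 0], [0, 0], [128, 2, 5811, 5782, 14544], [0, 0], [0, 0], [31, 1, 14550], [63, 2, 14551, 9783, 14550], [0, 0], [33, 1, 14556], [47, 2, 5846, 5830, 14556], [65, 2, 14557, 9783, 14556], [79, 2, 14557, 9785, 14556], [93, 2, 14557, 13632, 14556], [107, 2, 14557, 9787, 14556], [135, 2, 14557, 9789, 14556], [0, 0], [37, 1, 14572], [51, 2, 5856, 5830, 14572], [0, 0], [59, 1, 9782, 14578], [0, 0], [118, 2, 5863, 5830, 14582], [0, 0], [146, 2, 5867, 5830, 14586], [145, 2, 14588, 9169, 5830], [0, 0],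 [31, 1, 14592], [53, 1, 7934, 9793, 14592], [63, 2, 14593, 9795, 14592], [77, 2, 14593, 9797, 14592], [35, 1, 14596], [0, 0], [33, 1, 14604], [47, 2, 14558, 5835, 14604], [65, 2, 14605, 9795, 14604], [79, 2, 14605, 9797, 14604], [93, 2, 14605, 13630, 14604], [107, 2, 14605, 9799, 14604], [135, 2, 14605, 9801, 14604], [29, 2, 14608, 14560], [0, 0], [37, 1, 14622], [51, 2, 14574, 5835, 14622], [29, 2, 14626, 14576], [0, 0], [59, 1, 9794, 14630], [0, 0], [117, 1, 5863, 5832, 14634], [0, 0], [145, 1, 5867, 5832, 14638], [146, 2, 14587, 5835, 14638], [151, 1, 7953, 9791, 14638], [152, 2, 7953, 9793, 14638], [151, 2, 14646, 9585, 9793], [0, 0], [61, 2, 14651, 9803, 14650], [75, 2, 14651, 9805, 14650], [130, 3, 13682, 8960, 2681, 447, 362, 9159, 9167, 5843, 14650], [60, 2, 14653, 14656], [144, 2, 14656, 13684, 5356, 2454, 5471, 5468, 8763, 9169, 5857], [155, 2, 14656, 13689, 13658], [156, 1, 14656, 13677, 13658], [144, 1, 5841, 1639, 357, 347, 9925, 2423, 5315, 13661, 14664], [38, 1, 14666], [56, 1, 5855, 5843, 14668], [40, 5, 14629, 14660,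 14651, 5841, 5832, 14595], [3, 0, 14627, 14673], [4, 0, 14628, 14673], [11, 0, 14625, 14673], [12, 0, 14622, 14673], [0, 0], [30, 1, 14651, 14682], [52, 2, 14684, 14666, 14682], [0, 0], [33, 1, 14688], [65, 2, 14689, 9803, 14688], [0, 0], [35, 1, 14694], [53, 2, 5850, 5840, 14694], [73, 3, 13856, 13681, 13686, 14657, 14651, 14694], [74, 3, 13856, 13681, 14658, 14655, 14651, 14694], [155, 0, 14702, 13855, 13849], [156, 3, 14702, 13861, 13849], [31, 1, 14698], [0, 0], [59, 1, 9802, 14710], [59, 2, 14712, 14710], [85, 2, 14711, 9805, 14710], [99, 2, 14711, 13634, 14710], [113, 2, 14711, 9807, 14710], [141, 2, 14711, 9809, 14710], [0, 0], [120, 2, 5863, 5840, 14724], [0, 0], [145, 1, 14662, 14651, 14728], [147, 1, 5867, 5843, 14728], [151, 1, 14706, 14695, 14728], [152, 2, 14706, 14696, 14728], [0, 0], [31, 1, 14738], [0, 0], [35, 1, 14742], [0, 0], [37, 1, 14746], [57, 2, 5856, 5844, 14746], [69, 2, 14747, 9811, 14746], [83, 2, 14747, 9813, 14746], [97, 2, 14747, 13636, 14746], [111, 2, 14747, 9815, 14746], [139, 2, 14747, 9817, 14746],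 [33, 1, 14750], [0, 0], [59, 1, 9810, 14764], [59, 2, 14766, 14764], [85, 2, 14765, 9813, 14764], [99, 2, 14765, 13636, 14764], [113, 2, 14765, 9815, 14764], [141, 2, 14765, 9817, 14764], [0, 0], [122, 2, 5863, 5844, 14778], [0, 0], [149, 1, 5867, 5847, 14782], [150, 2, 5867, 5844, 14782], [149, 2, 14786, 9169, 5844], [0, 0], [33, 1, 14790], [65, 2, 14791, 9821, 14790], [47, 0, 14792, 9818, 7936], [0, 0]]
def dJ37 : List (List ℕ) := [[37, 1, 14798], [69, 2, 14799, 9821, 14798], [83, 2, 14799, 9823, 14798], [97, 2, 14799, 13638, 14798], [111, 2, 14799, 9825, 14798], [139, 2, 14799, 9827, 14798], [51, 0, 14800, 9818, 7940], [0, 0], [59, 1, 9820, 14814], [85, 2, 14815, 9823, 14814], [0, 0], [124, 2, 5863, 5848, 14820], [0, 0], [148, 2, 14706, 14698, 14824], [152, 2, 5867, 5848, 14824], [151, 2, 14828, 9169, 5848], [0, 0], [35, 1, 14832], [109, 2, 14833, 9833, 14832], [49, 0, 14834, 14677, 14596], [0, 0], [59, 1, 9828, 14840], [59, 2, 14842, 14840], [85, 2, 14841, 9831, 14840], [99, 2, 14841, 13640, 14840], [113, 2, 14841, 9833, 14840],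 [141, 2, 14841, 9835, 14840], [0, 0], [126, 2, 5863, 5854, 14854], [0, 0], [147, 1, 14662, 14670, 14858], [148, 2, 14662, 14661, 14858], [154, 2, 5867, 5854, 14858], [153, 2, 14864, 9169, 5854], [0, 0], [39, 1, 5977, 1694, 1684, 5946, 14868], [0, 0], [152, 2, 12607, 5950, 14872], [196, 1, 12639, 5949, 14872], [195, 3, 14876, 12645, 5949], [0, 0], [150, 2, 5969, 5952, 14880], [195, 2, 12647, 5955, 14880], [0, 0], [154, 2, 5969, 5956, 14886], [195, 2, 12651, 5959, 14886], [0, 0], [156, 2, 5969, 5960, 14892], [195, 2, 12655, 5967, 14892], [0, 0], [146, 2, 5981, 5974, 14898], [145, 2, 14900, 10365, 5974], [0, 0], [145, 1, 5981, 5976, 14904], [146, 2, 14899, 5979, 14904], [145, 2, 14908, 14903, 5979], [0, 0], [59, 1, 10922, 14912], [59, 2, 14914, 14912], [73, 1, 6512, 2567, 2557, 6020, 10924, 14912], [74, 4, 6499, 2567, 10021, 1787, 6016, 14912], [85, 2, 14913, 10925, 14912], [99, 2, 14913, 13299, 14912], [113, 2, 14913, 10927, 14912], [141, 2, 14913, 10929, 14912], [36, 1, 14920], [0, 0], [124, 2, 6055, 6016, 14932], [0, 0], [0, 0], [59,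 1, 9900, 14938], [59, 2, 14940, 14938], [85, 2, 14939, 9903, 14938], [99, 2, 14939, 13207, 14938], [113, 2, 14939, 9905, 14938], [141, 2, 14939, 9907, 14938], [0, 0], [126, 2, 6055, 6022, 14952], [0, 0], [151, 1, 6479, 13203, 14956], [154, 2, 6059, 6022, 14956], [87, 0, 12876, 5302, 9954, 1782, 6022, 13202, 2562, 8980, 8963, 14959, 14960, 6066, 9299, 12885, 13614], [3, 0, 12881, 14962], [4, 0, 12883, 14962], [8, 0, 12887, 14962], [28, 0, 12878, 14962], [73, 3, 13785, 5377, 5306, 10486, 12874, 14966, 13797], [7, 0, 13793, 14972], [8, 0, 13795, 14972], [28, 0, 13790, 14972], [101, 10, 1523, 5243, 9970, 5305, 10488, 12874, 14964, 12738, 12736, 5418, 1562, 410, 8825, 5123, 12609], [6, 0, 12609, 14980, 346], [10, 0, 14874, 14980, 9682], [24, 0, 12611, 14980, 1552], [28, 0, 12612, 14980, 1560], [4, 0, 5150, 14983, 79], [3, 0, 5123, 14983, 80], [8, 0, 12616, 14983, 348], [10, 0, 5970, 14983, 9134], [12, 0, 12624, 14983, 356], [24, 0, 5125, 14983, 398], [28, 0, 9910, 14983, 406], [24, 0, 14877, 14985, 488], [28, 0, 14878, 14985, 496], [3, 0,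 14906, 14987, 5343], [4, 0, 12603, 14989, 5285], [6, 0, 15004, 12640, 14991, 82], [8, 0, 12648, 14991, 86], [10, 0, 15000, 5153, 14991, 9137], [12, 0, 12652, 14991, 94], [14, 0, 12656, 14991, 9595], [24, 0, 14996, 5972, 14991, 136], [6, 0, 5182, 14993, 278], [8, 0, 5196, 14993, 282], [10, 0, 5210, 14993, 8829], [12, 0, 5216, 14993, 300], [14, 0, 8825, 14993, 306], [24, 0, 15028, 5212, 14993, 336], [24, 0, 12619, 14995, 1622], [28, 0, 12620, 14995, 1624], [8, 0, 14882, 14997, 86], [12, 0, 14888, 14997, 94], [14, 0, 14894, 14997, 9595], [24, 0, 12627, 14999, 1670], [8, 0, 15036, 5992, 15001, 15017, 348], [12, 0, 15046, 6002, 15001, 15017, 356], [14, 0, 9131, 15001, 15017, 364], [3, 0, 1372, 15003, 15053, 1397], [8, 0, 15038, 5113, 15003, 15053, 1696], [28, 0, 12644, 15005, 15013, 496], [4, 0, 14869, 15007, 2453], [28, 0, 14910, 15009, 13734], [6, 0, 12605, 15011, 5286], [4, 0, 2444, 15013, 416], [3, 0, 2534, 15013, 420], [8, 0, 2600, 15013, 424], [10, 0, 10308, 15013, 9685], [12, 0, 2838, 15013, 440], [14, 0, 2874, 15013, 448], [24, 0,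 488, 15013], [24, 0, 15040, 14884, 15015, 560], [24, 0, 398, 15017], [24, 0, 15042, 14890, 15019, 666], [24, 0, 15044, 14896, 15021, 66], [24, 0, 136, 15022], [10, 0, 12670, 15025, 8623], [14, 0, 12678, 15025, 1128], [24, 0, 15090, 12672, 15025, 1216], [28, 0, 9918, 15025, 1218], [24, 0, 12686, 15027, 1286], [28, 0, 9920, 15027, 1288], [8, 0, 15098, 12684, 15029, 282], [12, 0, 12690, 15029, 300], [24, 0, 15104, 12692, 15031, 1358], [28, 0, 9922, 15031, 1360], [28, 0, 338, 15033], [24, 0, 336, 15034], [6, 0, 5554, 15049, 1568], [10, 0, 5598, 15049, 1572], [12, 0, 5632, 15049, 1580], [14, 0, 5688, 15049, 1592], [24, 0, 1622, 15049], [6, 0, 5462, 15051, 1530], [10, 0, 5812, 15051, 1630], [14, 0, 5864, 15051, 1638], [24, 0, 1670, 15051], [3, 0, 409, 15053], [6, 0, 1564, 15053, 1692], [28, 0, 406, 15053], [6, 0, 5175, 15054, 1384, 15097], [8, 0, 1696, 15056], [14, 0, 12635, 15059, 2881], [6, 0, 14871, 15061, 5357], [28, 0, 13738, 15062, 15145, 9969], [3, 0, 5167, 15065, 4476], [8, 0, 6056, 15067, 1782], [12, 0, 6118, 15067, 2420], [24, 0,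 2442, 15067], [6, 0, 4418, 15069, 1098], [8, 0, 10404, 15069, 9843], [10, 0, 9992, 15069, 9307], [12, 0, 6240, 15069, 2492], [14, 0, 6290, 15069, 2500], [24, 0, 2532, 15069], [6, 0, 6368, 15071, 2546], [10, 0, 6432, 15071, 2554], [12, 0, 6476, 15071, 2558], [14, 0, 6524, 15071, 2566], [24, 0, 2598, 15071], [8, 0, 5414, 15073, 1520], [24, 0, 1552, 15073], [10, 0, 6658, 15075, 2672], [24, 0, 2836, 15075], [4, 0, 6706, 15077, 2840], [3, 0, 6762, 15077, 2842], [6, 0, 6816, 15077, 2846], [12, 0, 6906, 15077, 2858], [24, 0, 2872, 15077], [6, 0, 3024, 15080, 506], [10, 0, 3158, 15080, 510]]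
def dJ38 : List (List ℕ) := [[12, 0, 3204, 15080, 514], [14, 0, 3256, 15080, 522], [24, 0, 560, 15080], [10, 0, 3500, 15084, 620], [14, 0, 3552, 15084, 624], [24, 0, 666, 15084], [24, 0, 66, 15086], [28, 0, 12680, 15093, 4606], [3, 0, 4470, 15094, 1100], [12, 0, 4546, 15094, 1120], [14, 0, 4604, 15094, 1128], [24, 0, 1216, 15094], [5, 0, 1387, 15097], [6, 0, 1384, 15097], [7, 0, 1391, 15101], [10, 0, 4794, 15103, 1228], [12, 0, 4844, 15103, 1234], [14, 0, 4890, 15103, 1244], [24, 0, 1286, 15103], [10, 0, 5002, 15106, 1326], [14, 0, 5046, 15106, 1332], [24, 0, 1358, 15106], [11, 0, 1401, 15109], [4, 0, 13978, 15115, 5506], [12, 0, 14072, 15115, 5526], [14, 0, 14134, 15115, 5534], [24, 0, 5552, 15115], [14, 0, 14174, 15117, 5568], [24, 0, 5596, 15117], [14, 0, 14230, 15119, 5614], [24, 0, 5630, 15119], [4, 0, 14292, 15121, 5654], [6, 0, 14404, 15121, 5664], [8, 0, 14460, 15121, 5668], [10, 0, 14500, 15121, 5672], [12, 0, 14522, 15121, 5678], [24, 0, 5686, 15121], [4, 0, 13674, 15125, 5318], [3, 0, 12788, 15125, 5249], [8, 0, 13814, 15125,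 5390], [10, 0, 13852, 15125, 5428], [14, 0, 13926, 15125, 5438], [24, 0, 5460, 15125], [14, 0, 14546, 15127, 5782], [24, 0, 5810, 15127], [4, 0, 14584, 15129, 5830], [3, 0, 14636, 15129, 5832], [6, 0, 14726, 15129, 5840], [8, 0, 14780, 15129, 5844], [10, 0, 14822, 15129, 5848], [12, 0, 14856, 15129, 5854], [24, 0, 5862, 15129], [4, 0, 5975, 15134, 5285], [5, 0, 1695, 15134], [6, 0, 1692, 15134], [14, 0, 12665, 15139, 4609], [3, 0, 12637, 15143, 6767], [14, 0, 13726, 15147, 5320], [24, 0, 5340, 15147], [14, 0, 10950, 15149, 11319], [10, 0, 14934, 15151, 6016], [12, 0, 14954, 15151, 6022], [24, 0, 6054, 15151], [24, 0, 6116, 15153], [12, 0, 8486, 15157, 4384], [14, 0, 11314, 15157, 4398], [24, 0, 4416, 15157], [10, 0, 11886, 15159, 4678], [12, 0, 11920, 15159, 4688], [14, 0, 11988, 15159, 4702], [24, 0, 4722, 15159], [8, 0, 12732, 15161, 5238], [24, 0, 5280, 15161], [24, 0, 6238, 15163], [24, 0, 6288, 15165], [4, 0, 11094, 15169, 10625], [24, 0, 6366, 15169], [8, 0, 13788, 15171, 10807], [24, 0, 6430, 15171], [24, 0, 6474, 15173], [24,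 0, 6522, 15175], [14, 0, 13842, 15179, 5392], [24, 0, 5412, 15179], [24, 0, 6656, 15183], [10, 0, 11045, 15187, 6680], [24, 0, 6704, 15187], [24, 0, 6760, 15189], [24, 0, 6814, 15191], [24, 0, 6904, 15193], [10, 0, 7102, 15197, 2978], [12, 0, 7146, 15197, 2986], [14, 0, 7192, 15197, 2994], [24, 0, 3022, 15197], [14, 0, 7300, 15199, 3062], [24, 0, 3156, 15199], [14, 0, 7424, 15201, 3174], [24, 0, 3202, 15201], [4, 0, 7524, 15203, 3222], [3, 0, 7568, 15203, 3224], [6, 0, 7624, 15203, 3228], [8, 0, 7662, 15203, 3232], [10, 0, 7694, 15203, 3236], [12, 0, 7724, 15203, 3240], [24, 0, 3254, 15203], [14, 0, 7950, 15207, 3468], [24, 0, 3498, 15207], [4, 0, 8052, 15209, 3516], [3, 0, 8102, 15209, 3518], [8, 0, 8168, 15209, 3526], [12, 0, 8208, 15209, 3534], [24, 0, 3550, 15209], [3, 0, 12675, 15215, 11615], [12, 0, 11362, 15217, 4446], [14, 0, 11396, 15217, 4454], [24, 0, 4468, 15217], [10, 0, 11444, 15219, 4514], [14, 0, 11484, 15219, 4522], [24, 0, 4544, 15219], [4, 0, 11538, 15221, 4570], [3, 0, 11610, 15221, 4572], [6, 0, 11698, 15221, 4580],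 [8, 0, 11746, 15221, 4584], [10, 0, 11788, 15221, 4588], [12, 0, 11814, 15221, 4594], [24, 0, 4602, 15221], [14, 0, 12034, 15231, 4756], [24, 0, 4792, 15231], [14, 0, 12122, 15233, 4818], [24, 0, 4842, 15233], [4, 0, 12170, 15235, 4862], [3, 0, 12224, 15235, 4864], [8, 0, 12298, 15235, 4872], [10, 0, 12332, 15235, 4876], [24, 0, 4888, 15235], [14, 0, 12368, 15239, 4972], [24, 0, 5000, 15239], [4, 0, 12414, 15241, 5018], [3, 0, 12468, 15241, 5020], [6, 0, 12540, 15241, 5024], [10, 0, 12580, 15241, 5032], [24, 0, 5044, 15241], [24, 0, 13976, 15247], [24, 0, 14070, 15249], [24, 0, 14132, 15251], [24, 0, 14172, 15255], [24, 0, 14228, 15259], [24, 0, 14290, 15263], [24, 0, 14402, 15265], [24, 0, 14458, 15267], [24, 0, 14498, 15269], [24, 0, 14520, 15271], [24, 0, 13672, 15275], [24, 0, 12786, 15277], [24, 0, 13812, 15279], [24, 0, 13850, 15281], [24, 0, 13924, 15283], [24, 0, 14544, 15287], [24, 0, 14582, 15291], [24, 0, 14634, 15293], [24, 0, 14724, 15295], [24, 0, 14778, 15297], [24, 0, 14820, 15299], [24, 0, 14854, 15301], [14, 0, 11557,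 15305, 12841], [3, 0, 12807, 15311, 11615], [5, 0, 11283, 15313], [6, 0, 11280, 15313], [24, 0, 13724, 15315], [4, 0, 11792, 15318], [14, 0, 11319, 15318], [27, 0, 11320, 15318], [28, 0, 11316, 15318], [24, 0, 14932, 15321], [24, 0, 14952, 15323], [24, 0, 8484, 15329], [24, 0, 11312, 15331], [24, 0, 11884, 15335], [24, 0, 11918, 15337], [24, 0, 11986, 15339], [24, 0, 12730, 15343], [24, 0, 7060, 15351], [24, 0, 13786, 15355], [24, 0, 13840, 15363], [13, 0, 10957, 15369], [14, 0, 6744, 15369], [24, 0, 7100, 15379], [24, 0, 7144, 15381], [24, 0, 7190, 15383], [24, 0, 7298, 15387], [24, 0, 7422, 15391], [24, 0, 7522, 15395], [24, 0, 7566, 15397], [24, 0, 7622, 15399], [24, 0, 7660, 15401], [24, 0, 7692, 15403], [24, 0, 7722, 15405], [24, 0, 7948, 15409], [24, 0, 8050, 15413], [24, 0, 8100, 15415], [24, 0, 8166, 15417]]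
def dJ39 : List (List ℕ) := [[24, 0, 8206, 15419], [23, 0, 15528, 12808, 15423], [24, 0, 11360, 15425], [24, 0, 11394, 15427], [24, 0, 11442, 15431], [24, 0, 11482, 15433], [24, 0, 11536, 15437], [24, 0, 11608, 15439], [24, 0, 11696, 15441], [24, 0, 11744, 15443], [24, 0, 11786, 15445], [24, 0, 11812, 15447], [24, 0, 12032, 15451], [24, 0, 12120, 15455], [24, 0, 12168, 15459], [24, 0, 12222, 15461], [24, 0, 12296, 15463], [24, 0, 12330, 15465], [24, 0, 12366, 15469], [24, 0, 12412, 15473], [24, 0, 12466, 15475], [24, 0, 12538, 15477], [24, 0, 12578, 15479], [4, 0, 12835, 15526], [10, 0, 12837, 15526], [13, 0, 12839, 15526], [14, 0, 12841, 15526], [27, 0, 12842, 15526], [28, 0, 12832, 15526], [6, 0, 12800, 15529], [9, 0, 12803, 15529], [10, 0, 12804, 15529], [123, 0, 15663, 15603, 15662], [118, 3, 15537, 15664, 15536], [40, 3, 11704, 11615, 15658, 5258, 6793], [50, 2, 6779, 6791, 15668], [73, 2, 11661, 11651, 11622, 11626, 11633, 15668], [129, 8, 11630, 11633, 15668, 11702, 8618, 4475, 5289, 15653, 15646], [146, 1, 15668, 11701, 11622],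 [147, 3, 15676, 6792, 10504], [152, 0, 15676, 6789, 10602], [73, 1, 15680, 11628, 6789, 6778, 11048, 11662], [129, 8, 11052, 11662, 15682, 6820, 9460, 2539, 4427, 15539, 15536], [145, 2, 15682, 10603, 6778], [146, 1, 15682, 6819, 6778], [147, 3, 15688, 11654, 11796], [119, 0, 15691, 15666, 15690], [117, 0, 12485, 15642, 12484], [121, 0, 12498, 15642, 12499], [119, 0, 12424, 15640, 12425], [127, 0, 12454, 15640, 12455], [116, 1, 8035, 3517, 625, 305, 8847, 5020, 12455, 15700], [115, 1, 14632, 5833, 9158, 360, 1332, 5018, 15638, 12404], [118, 1, 9908, 15636, 9909], [121, 0, 12308, 15634, 12309], [118, 3, 14154, 15708, 14155], [118, 1, 12203, 15632, 12202], [127, 0, 12214, 15630, 12215], [116, 1, 7503, 3223, 523, 287, 9885, 4864, 12215, 15714], [118, 3, 15717, 15714, 15716], [115, 1, 14330, 5657, 10352, 352, 1244, 4862, 15628, 12156], [127, 0, 12158, 15628, 12159], [117, 0, 12055, 15626, 12054], [118, 1, 12045, 15626, 12044], [119, 0, 12072, 15626, 12073], [121, 0, 12084, 15626, 12085], [123, 0, 12096, 15626, 12097], [125, 0, 12110, 15626,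 12111], [118, 3, 14180, 15732, 14181], [118, 1, 10940, 15624, 10941], [119, 0, 12004, 15624, 12005], [121, 0, 12014, 15624, 12015], [117, 2, 12017, 15742, 12016], [123, 2, 12007, 15740, 12006], [117, 0, 11518, 15622, 11519], [118, 1, 11591, 15622, 11590], [119, 0, 11668, 15622, 11669], [121, 0, 11724, 15622, 11725], [117, 0, 11266, 15620, 11267], [121, 0, 11758, 15620, 11759], [125, 0, 11766, 15620, 11767], [118, 3, 11774, 15760, 11775], [118, 3, 11762, 15758, 11763], [117, 0, 11504, 15618, 11505], [118, 1, 11575, 15618, 11574], [121, 0, 11640, 15616, 11641], [127, 0, 11682, 15616, 11683], [127, 0, 11594, 15614, 11595], [117, 0, 11328, 15608, 11329], [118, 1, 8465, 15608, 8464], [121, 0, 11412, 15608, 11413], [127, 0, 11426, 15608, 11427], [119, 2, 8461, 15778, 8460], [117, 0, 6216, 15784, 6217], [125, 0, 12748, 15784, 12749], [117, 2, 12909, 15788, 12908], [118, 1, 11373, 15606, 11372], [127, 0, 11344, 15604, 11345], [195, 0, 11371, 15604, 11370], [119, 2, 12794, 15796, 12795], [117, 0, 13678, 15798, 13679], [127, 2, 14656, 15800, 14657],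 [195, 0, 14664, 15802, 14665], [117, 0, 8018, 15598, 8019], [118, 1, 8075, 15598, 8074], [119, 0, 8142, 15598, 8143], [119, 0, 8012, 15594, 8013], [118, 1, 7927, 15592, 7926], [119, 0, 7934, 15592, 7935], [121, 0, 7938, 15592, 7939], [125, 0, 7942, 15592, 7943], [117, 2, 14813, 15820, 14812], [117, 0, 7500, 15590, 7501], [118, 1, 7555, 15590, 7554], [119, 0, 7604, 15590, 7605], [121, 0, 7650, 15590, 7651], [119, 0, 7596, 15588, 7597], [123, 0, 7644, 15586, 7645], [127, 0, 11200, 15582, 11201], [116, 1, 14283, 5655, 1593, 355, 10161, 3224, 11201, 15836], [117, 0, 7391, 15578, 7390], [118, 1, 7389, 15578, 7388], [119, 0, 7396, 15578, 7397], [118, 1, 7277, 15576, 7276], [121, 0, 7288, 15576, 7289], [117, 2, 14485, 15848, 14484], [117, 0, 7167, 15574, 7166], [118, 1, 7165, 15574, 7164], [121, 0, 7176, 15574, 7177], [125, 0, 7184, 15574, 7185], [117, 0, 10026, 15572, 10027], [118, 1, 7045, 15572, 7044], [127, 0, 10110, 15572, 10111], [119, 2, 13967, 15862, 13966], [127, 0, 11096, 15570, 11097], [117, 0, 13823, 15564, 13822], [125, 0, 12696,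 15558, 12697], [127, 0, 12716, 15558, 12717], [117, 0, 11941, 15556, 11940], [118, 1, 11931, 15556, 11930], [123, 0, 11966, 15556, 11967], [117, 2, 11969, 15880, 11968], [127, 0, 11908, 15554, 11909], [127, 0, 11874, 15552, 11875], [127, 0, 8952, 15548, 8953], [127, 0, 14940, 15546, 14941], [127, 0, 14914, 15544, 14915], [118, 3, 14919, 15892, 14918], [123, 2, 14930, 15892, 14931], [117, 0, 6501, 15896, 6500], [115, 6, 6278, 15534, 10490, 1513, 419, 423, 2500, 6256], [121, 0, 13706, 15534, 13707], [123, 0, 6262, 15534, 6263], [118, 3, 6261, 15904, 6260], [121, 0, 14750, 15524, 14751], [127, 0, 14842, 15524, 14843], [117, 0, 14560, 15520, 14561], [118, 1, 14621, 15520, 14620], [127, 0, 14766, 15520, 14767], [127, 0, 14712, 15518, 14713], [117, 0, 13875, 15510, 13874], [118, 1, 13863, 15510, 13862], [121, 0, 13894, 15510, 13895], [123, 0, 13908, 15510, 13909], [127, 0, 13800, 15506, 13801], [127, 0, 12768, 15504, 12769], [117, 0, 14270, 15500, 14271], [119, 0, 14380, 15500, 14381], [121, 0, 14430, 15500, 14431], [119, 0, 14362, 15498,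 14363], [117, 0, 14254, 15496, 14255], [127, 0, 14446, 15496, 14447], [119, 0, 14238, 15492, 14239], [119, 0, 14198, 15490, 14199], [121, 0, 14212, 15490, 14213], [117, 0, 14081, 15486, 14080], [119, 0, 14086, 15486, 14087], [123, 0, 14106, 15486, 14107], [125, 0, 14120, 15486, 14121], [127, 0, 14058, 15484, 14059], [117, 0, 6692, 15376, 6693], [118, 1, 6743, 15376, 6742], [123, 0, 6882, 15376, 6883], [127, 0, 11072, 15376, 11073], [127, 0, 10046, 15366, 10047], [119, 0, 6504, 15360, 6505], [125, 0, 6516, 15360, 6517], [127, 0, 10036, 15358, 10037], [121, 0, 6272, 15348, 6273], [127, 0, 9406, 15346, 9407], [127, 0, 10002, 15326, 10003], [127, 0, 10930, 15324, 10931], [144, 8, 13889, 5439, 5464, 5472, 15308, 365, 359, 1529, 9715, 13923], [11, 0, 13923, 15984], [12, 0, 13920, 15984], [143, 8, 11476, 11492, 11488, 4550, 15244, 9240, 278, 1120, 4522, 11462], [11, 0, 11477, 15991], [12, 0, 11474, 15991], [101, 7, 13971, 5515, 10836, 1783, 417, 83, 78, 9142, 364, 15132, 501, 2453, 6067, 14037, 14032], [3, 0, 14032, 15996]]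
def dJ40 : List (List ℕ) := [[4, 0, 13983, 15996], [5, 0, 13985, 15996], [6, 0, 13987, 15996], [27, 0, 13988, 15996], [28, 0, 13980, 15996], [130, 4, 14301, 5657, 1593, 1571, 5506, 13973, 13975, 16004, 7064, 10083], [5, 0, 14303, 16011], [6, 0, 14300, 16011], [9, 0, 14305, 16011], [10, 0, 14306, 16011], [151, 0, 7180, 10670, 16018], [152, 3, 7180, 7194, 16018], [147, 3, 10697, 7282, 16022], [148, 0, 10697, 7285, 16022], [53, 2, 7172, 7178, 16026, 14339], [3, 0, 14335, 16028], [4, 0, 14337, 16028], [10, 0, 14339, 16028], [27, 0, 14340, 16028], [28, 0, 14332, 16028], [73, 3, 14047, 5519, 5506, 10828, 13970, 16000, 14053], [5, 0, 14051, 16040], [12, 0, 14055, 16040], [28, 0, 14048, 16040], [143, 5, 10130, 7107, 16045, 16046, 14046, 16042, 13389, 7305, 16025], [153, 0, 16020, 16048, 7303, 7293], [3, 0, 14491, 16050], [11, 0, 7293, 16050], [12, 0, 7290, 16050], [0, 0], [61, 2, 16059, 10933, 16058], [75, 2, 16059, 10935, 16058], [89, 2, 16059, 13616, 16058], [103, 2, 16059, 10937, 16058], [117, 2, 16059, 15982, 16058], [131, 2, 16059, 10939,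 16058], [0, 0], [30, 1, 16059, 16072], [61, 0, 16073, 10932, 16072], [73, 2, 11873, 4679, 10369, 10376, 6032, 16072], [75, 0, 16073, 10934, 16072], [89, 0, 16073, 13617, 16072], [103, 0, 16073, 10936, 16072], [117, 0, 16073, 15983, 16072], [131, 0, 16073, 10938, 16072], [35, 1, 16078], [0, 0], [31, 1, 16092], [63, 2, 16093, 10933, 16092], [77, 2, 16093, 10935, 16092], [91, 2, 16093, 13616, 16092], [105, 2, 16093, 10937, 16092], [119, 2, 16093, 15982, 16092], [133, 2, 16093, 10939, 16092], [0, 0], [33, 1, 16108], [0, 0], [49, 2, 16090, 16073, 16112], [67, 2, 16113, 10933, 16112], [0, 0], [37, 1, 16118], [69, 2, 16119, 10933, 16118], [83, 2, 16119, 10935, 16118], [97, 2, 16119, 13616, 16118], [111, 2, 16119, 10937, 16118], [125, 2, 16119, 15982, 16118], [139, 2, 16119, 10939, 16118], [0, 0], [0, 0], [88, 8, 8968, 8973, 2605, 6437, 14975, 13785, 13531, 10804, 2556, 426, 440, 2672, 13001, 16136], [150, 1, 16138, 6661, 13001], [0, 0], [61, 2, 16143, 10005, 16142], [0, 0], [30, 1, 16143, 16146], [61, 0, 16147, 10004, 16146], [117, 0, 16147,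 15981, 16146], [0, 0], [0, 0], [35, 1, 16156], [67, 2, 16157, 10005, 16156], [0, 0], [37, 1, 16162], [0, 0], [0, 0], [59, 1, 9398, 16168], [73, 1, 16158, 6101, 6097, 6216, 9400, 16168], [74, 4, 16147, 6101, 9393, 2497, 6210, 16168], [0, 0], [146, 2, 16141, 6216, 16176], [152, 2, 6243, 6210, 16176], [0, 0], [75, 2, 16183, 9411, 16182], [0, 0], [30, 1, 16183, 16186], [61, 0, 16187, 9408, 16186], [73, 2, 6631, 2673, 2498, 8946, 6218, 16186], [75, 0, 16187, 9410, 16186], [89, 0, 16187, 13623, 16186], [103, 0, 16187, 9412, 16186], [117, 0, 16187, 15979, 16186], [131, 0, 16187, 9414, 16186], [35, 1, 16192], [0, 0], [31, 1, 16206], [63, 2, 16207, 9409, 16206], [133, 2, 16207, 9415, 16206], [0, 0], [33, 1, 16214], [65, 2, 16215, 9409, 16214], [79, 2, 16215, 9411, 16214], [93, 2, 16215, 13622, 16214], [107, 2, 16215, 9413, 16214], [121, 2, 16215, 15978, 16214], [135, 2, 16215, 9415, 16214], [0, 0], [49, 2, 16204, 16187, 16230], [67, 2, 16231, 9409, 16230], [0, 0], [37, 1, 16236], [0, 0], [155, 1, 6243, 9407, 16240], [156, 2, 6243, 6218, 16240],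 [155, 2, 16244, 8958, 6218], [0, 0], [31, 1, 16248], [0, 0], [33, 1, 16252], [47, 2, 6272, 6256, 16252], [79, 2, 16253, 10467, 16252], [0, 0], [37, 1, 16260], [51, 2, 6282, 6256, 16260], [0, 0], [146, 2, 6293, 6256, 16266], [145, 2, 16268, 9951, 6256], [0, 0], [53, 1, 13700, 6264, 16272], [35, 1, 16274], [0, 0], [33, 1, 16278], [47, 2, 16254, 6261, 16278], [65, 2, 16279, 10473, 16278], [29, 2, 16282, 16256], [0, 0], [37, 1, 16288], [51, 2, 16262, 6261, 16288], [29, 2, 16292, 16264], [0, 0], [59, 1, 10472, 16296], [85, 2, 16297, 10475, 16296], [127, 2, 16297, 15904, 16296], [115, 7, 16302, 16298, 6259, 9940, 421, 448, 2840, 6694], [0, 0], [145, 1, 6293, 6258, 16306], [152, 2, 13729, 6264, 16306], [151, 2, 16310, 13733, 6264], [0, 0], [0, 0], [30, 1, 16315, 16316], [0, 0], [33, 1, 16320], [0, 0], [55, 2, 6282, 6266, 16324], [31, 1, 16326], [0, 0], [148, 2, 6293, 6266, 16330], [0, 0], [31, 1, 16334], [63, 2, 16335, 10477, 16334], [77, 2, 16335, 10479, 16334], [91, 2, 16335, 13566, 16334], [105, 2, 16335, 10481, 16334], [119, 2, 16335, 15976,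 16334], [133, 2, 16335, 10483, 16334], [0, 0], [35, 1, 16350], [0, 0], [37, 1, 16354], [57, 2, 6282, 6270, 16354], [33, 1, 16358], [0, 0], [59, 1, 10476, 16362], [0, 0], [149, 1, 6293, 6273, 16366], [150, 2, 6293, 6270, 16366], [177, 2, 16367, 10479, 16366], [149, 2, 16370, 9951, 6270], [0, 0], [33, 1, 16376], [47, 0, 16378, 6278, 13704], [0, 0], [37, 1, 16382], [51, 0, 16384, 6278, 13718], [0, 0], [151, 1, 6293, 6277, 16388], [152, 2, 6293, 6274, 16388], [156, 2, 16267, 15900, 16388], [155, 2, 16394, 16271, 15900], [0, 0]]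
def dJ41 : List (List ℕ) := [[35, 1, 16398], [0, 0], [0, 0], [153, 1, 6293, 6283, 16404], [154, 2, 6293, 6280, 16404], [153, 2, 16408, 9951, 6280], [0, 0], [33, 1, 16412], [43, 1, 7078, 2980, 2552, 6330, 16412], [0, 0], [59, 1, 10972, 16418], [0, 0], [145, 1, 7105, 10971, 16422], [152, 2, 6371, 6330, 16422], [151, 2, 16426, 10533, 6330], [0, 0], [59, 1, 10028, 16430], [0, 0], [154, 2, 6371, 6336, 16434], [0, 0], [75, 2, 16439, 10981, 16438], [0, 0], [30, 1, 16439, 16442], [73, 2, 7087, 2979, 10519, 10526, 6348, 16442], [35, 1, 16446], [0, 0], [31, 1, 16450], [63, 2, 16451, 10979, 16450], [0, 0], [49, 2, 16448, 16443, 16456], [67, 2, 16457, 10979, 16456], [81, 2, 16457, 10981, 16456], [137, 2, 16457, 10983, 16456], [0, 0], [155, 1, 6371, 10977, 16466], [156, 2, 6371, 6348, 16466], [155, 2, 16470, 10533, 6348], [0, 0], [29, 1, 11968, 16474], [49, 1, 11943, 11946, 16474], [61, 2, 16475, 10987, 16474], [75, 2, 16475, 10989, 16474], [89, 2, 16475, 13525, 16474], [103, 2, 16475, 10991, 16474], [117, 2, 16475, 15883, 16474], [131, 2, 16475,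 10993, 16474], [35, 1, 16478], [0, 0], [31, 1, 16494], [0, 0], [33, 1, 16498], [65, 2, 16499, 10987, 16498], [79, 2, 16499, 10989, 16498], [93, 2, 16499, 13525, 16498], [107, 2, 16499, 10991, 16498], [121, 2, 16499, 15883, 16498], [135, 2, 16499, 10993, 16498], [0, 0], [37, 1, 16514], [69, 2, 16515, 10987, 16514], [83, 2, 16515, 10989, 16514], [97, 2, 16515, 13525, 16514], [111, 2, 16515, 10991, 16514], [125, 2, 16515, 15883, 16514], [139, 2, 16515, 10993, 16514], [0, 0], [0, 0], [61, 2, 16533, 10039, 16532], [75, 2, 16533, 10041, 16532], [89, 2, 16533, 13620, 16532], [103, 2, 16533, 10043, 16532], [117, 2, 16533, 15974, 16532], [131, 2, 16533, 10045, 16532], [0, 0], [30, 1, 16533, 16546], [61, 0, 16547, 10038, 16546], [73, 2, 11907, 13208, 9425, 9432, 6450, 16546], [75, 0, 16547, 10040, 16546], [89, 0, 16547, 13621, 16546], [103, 0, 16547, 10042, 16546], [117, 0, 16547, 15975, 16546], [131, 0, 16547, 10044, 16546], [35, 1, 16552], [0, 0], [31, 1, 16566], [63, 2, 16567, 10039, 16566], [77, 2, 16567, 10041, 16566], [91, 2, 16567, 13620,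 16566], [105, 2, 16567, 10043, 16566], [119, 2, 16567, 15974, 16566], [133, 2, 16567, 10045, 16566], [0, 0], [35, 1, 16582], [49, 2, 16564, 16547, 16582], [67, 2, 16583, 10039, 16582], [81, 2, 16583, 10041, 16582], [95, 2, 16583, 13620, 16582], [109, 2, 16583, 10043, 16582], [123, 2, 16583, 15974, 16582], [137, 2, 16583, 10045, 16582], [0, 0], [37, 1, 16600], [0, 0], [156, 2, 6479, 6450, 16604], [0, 0], [31, 1, 16608], [0, 0], [33, 1, 16612], [47, 2, 6508, 6496, 16612], [0, 0], [35, 1, 16618], [49, 2, 6512, 6496, 16618], [123, 2, 16619, 15898, 16618], [29, 2, 16622, 14919], [0, 0], [37, 1, 16628], [51, 2, 6516, 6496, 16628], [69, 2, 16629, 10995, 16628], [0, 0], [59, 1, 10994, 16636], [0, 0], [146, 2, 6527, 6496, 16640], [145, 2, 16642, 10567, 6496], [0, 0], [31, 1, 16646], [63, 2, 16647, 11003, 16646], [77, 2, 16647, 11005, 16646], [91, 2, 16647, 13552, 16646], [105, 2, 16647, 11007, 16646], [119, 2, 16647, 15897, 16646], [133, 2, 16647, 11009, 16646], [0, 0], [33, 1, 16662], [47, 2, 16614, 6501, 16662], [0, 0], [37, 1, 16668], [51,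 2, 16630, 6501, 16668], [69, 2, 16669, 11003, 16668], [29, 2, 16672, 16632], [0, 0], [59, 1, 11002, 16678], [0, 0], [145, 1, 6527, 6498, 16682], [146, 2, 16641, 6501, 16682], [145, 2, 16686, 16645, 6501], [0, 0], [0, 0], [30, 1, 16691, 16692], [75, 0, 16693, 11012, 16692], [131, 0, 16693, 11014, 16692], [0, 0], [0, 0], [35, 1, 16702], [53, 2, 6512, 6502, 16702], [31, 1, 16706], [0, 0], [37, 1, 16710], [55, 2, 6516, 6502, 16710], [31, 1, 16714], [0, 0], [59, 1, 11010, 16718], [85, 2, 16719, 11013, 16718], [127, 2, 16719, 15970, 16718], [0, 0], [147, 1, 6527, 6505, 16726], [148, 2, 6527, 6502, 16726], [147, 2, 16730, 10567, 6502], [0, 0], [57, 2, 6516, 6506, 16734], [33, 1, 16736], [0, 0], [149, 1, 6527, 6509, 16740], [0, 0], [33, 1, 16744], [0, 0], [37, 1, 16748], [0, 0], [59, 1, 11016, 16752], [59, 2, 16754, 16752], [85, 2, 16753, 11019, 16752], [99, 2, 16753, 13556, 16752], [113, 2, 16753, 11021, 16752], [127, 2, 16753, 15895, 16752], [141, 2, 16753, 11023, 16752], [0, 0], [0, 0], [35, 1, 16770], [0, 0], [59, 1, 11024, 16774], [59,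 2, 16776, 16774], [85, 2, 16775, 11027, 16774], [99, 2, 16775, 13558, 16774], [113, 2, 16775, 11029, 16774], [127, 2, 16775, 15972, 16774], [141, 2, 16775, 11031, 16774], [0, 0], [154, 2, 6527, 6514, 16790], [153, 2, 16792, 10567, 6514], [0, 0], [29, 1, 16232, 16796]]
def dJ42 : List (List ℕ) := [[49, 1, 16189, 16192, 16796], [61, 2, 16797, 10049, 16796], [117, 2, 16797, 15968, 16796], [35, 1, 16800], [0, 0], [31, 1, 16808], [63, 2, 16809, 10049, 16808], [0, 0], [33, 1, 16814], [65, 2, 16815, 10049, 16814], [79, 2, 16815, 10051, 16814], [93, 2, 16815, 13654, 16814], [107, 2, 16815, 10053, 16814], [121, 2, 16815, 15968, 16814], [135, 2, 16815, 10055, 16814], [0, 0], [37, 1, 16830], [69, 2, 16831, 10049, 16830], [83, 2, 16831, 10051, 16830], [97, 2, 16831, 13654, 16830], [111, 2, 16831, 10053, 16830], [125, 2, 16831, 15968, 16830], [139, 2, 16831, 10055, 16830], [0, 0], [156, 2, 6661, 6630, 16846], [155, 2, 16848, 9449, 6630], [0, 0], [0, 0], [53, 2, 6682, 6670, 16854], [0, 0], [147, 1, 6711, 6673, 16858], [148, 2, 6711, 6670, 16858],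 [147, 2, 16862, 10585, 6670], [0, 0], [31, 1, 16866], [0, 0], [35, 1, 16870], [81, 2, 16871, 11033, 16870], [49, 0, 16872, 6678, 6834], [0, 0], [37, 1, 16878], [57, 2, 6690, 6674, 16878], [33, 1, 16882], [0, 0], [0, 0], [33, 1, 16888], [47, 2, 12812, 6686, 16888], [29, 2, 16892, 12814], [0, 0], [37, 1, 16896], [51, 2, 12818, 6686, 16896], [29, 2, 16900, 12820], [0, 0], [145, 1, 6875, 6685, 16904], [146, 2, 15656, 6686, 16904], [156, 2, 6765, 15569, 16904], [155, 2, 16910, 10517, 15569], [0, 0], [35, 1, 16914], [81, 2, 16915, 11037, 16914], [49, 0, 16916, 6692, 6880], [0, 0], [59, 1, 11034, 16922], [0, 0], [73, 2, 6871, 2855, 2840, 10576, 6694, 16926], [35, 1, 16928], [0, 0], [49, 2, 16930, 16927, 16932], [74, 3, 13697, 6261, 16299, 16301, 16305, 16932], [0, 0], [39, 1, 16853, 6672, 2845, 6720, 16938], [145, 2, 11265, 15543, 16938], [146, 1, 11265, 15541, 16938], [152, 0, 16944, 11279, 11544], [0, 0], [33, 1, 16948], [65, 2, 16949, 10953, 16948], [79, 2, 16949, 10955, 16948], [149, 2, 11285, 15543, 16948], [150, 1, 11285, 15541, 16948],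 [0, 0], [55, 2, 6738, 6720, 16960], [153, 2, 11297, 15543, 16960], [154, 1, 11297, 15541, 16960], [31, 1, 16962], [0, 0], [31, 1, 16970], [0, 0], [35, 1, 16974], [49, 2, 6836, 6734, 16974], [0, 0], [37, 1, 16980], [51, 2, 6840, 6734, 16980], [57, 2, 6738, 6728, 16980], [33, 1, 16986], [0, 0], [150, 2, 6765, 6728, 16990], [149, 2, 16992, 10517, 6728], [0, 0], [35, 1, 16996], [49, 2, 6882, 6742, 16996], [95, 2, 16997, 13546, 16996], [29, 2, 17000, 16920], [0, 0], [59, 1, 10962, 17006], [59, 2, 17008, 17006], [85, 2, 17007, 10965, 17006], [99, 2, 17007, 13546, 17006], [113, 2, 17007, 10967, 17006], [127, 2, 17007, 15962, 17006], [141, 2, 17007, 10969, 17006], [143, 4, 16238, 9406, 4396, 4386, 8878, 15539, 6722, 6736, 17006], [31, 1, 17022], [55, 3, 17022, 16238, 16206], [37, 1, 17026], [0, 0], [144, 1, 15532, 4399, 4387, 4397, 9407, 16239, 17023, 17007, 17030], [147, 1, 16967, 16969, 17030], [148, 2, 16967, 16962, 17030], [153, 1, 6765, 6739, 17030], [154, 3, 17038, 10517, 6739], [0, 0], [33, 1, 17042], [47, 2, 6786, 6778, 17042], [65,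 2, 17043, 11047, 17042], [0, 0], [37, 1, 17050], [51, 2, 6798, 6778, 17050], [0, 0], [47, 2, 17044, 6783, 17056], [0, 0], [49, 2, 15672, 6783, 17060], [145, 0, 17062, 11701, 11634], [0, 0], [51, 2, 17052, 6783, 17066], [0, 0], [31, 1, 17070], [41, 1, 6832, 2852, 2846, 6784, 17070], [33, 1, 17074], [0, 0], [35, 1, 17078], [67, 2, 17079, 11055, 17078], [0, 0], [37, 1, 17084], [57, 2, 6798, 6784, 17084], [33, 1, 17088], [0, 0], [149, 1, 6819, 6787, 17092], [150, 2, 6819, 6784, 17092], [149, 2, 17096, 10603, 6784], [0, 0], [0, 0], [37, 1, 17102], [55, 2, 6868, 6794, 17102], [31, 1, 17106], [0, 0], [35, 1, 17110], [53, 2, 6882, 6802, 17110], [67, 2, 17111, 11057, 17110], [31, 1, 17114], [0, 0], [59, 1, 11056, 17120], [143, 4, 8212, 8736, 8691, 8975, 497, 448, 2846, 6796, 17120], [147, 0, 17124, 8211, 8127], [148, 3, 17124, 9675, 8127], [0, 0], [144, 1, 6822, 2880, 8974, 8690, 8737, 8213, 17125, 17121, 17130], [153, 1, 6819, 6799, 17130], [155, 1, 17128, 17121, 17130], [156, 2, 17128, 17122, 17130], [155, 2, 17138, 17126, 17122], [0, 0], [155,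 1, 6819, 11059, 17142], [156, 2, 6819, 6804, 17142], [0, 0], [0, 0], [30, 1, 17149, 17150], [0, 0], [35, 1, 17154], [0, 0], [37, 1, 17158], [55, 2, 6840, 6830, 17158], [31, 1, 17162], [0, 0], [147, 1, 6853, 6833, 17166], [148, 2, 6853, 6830, 17166], [147, 2, 17170, 10609, 6830], [0, 0], [43, 1, 6864, 2856, 2850, 6834, 17174], [35, 1, 17176], [0, 0], [37, 1, 17180], [0, 0], [152, 2, 6853, 6834, 17184], [151, 2, 17186, 10609, 6834], [0, 0], [35, 1, 17190], [0, 0], [0, 0], [153, 1, 6853, 6841, 17196]]
def dJ43 : List (List ℕ) := [[154, 2, 6853, 6838, 17196], [0, 0], [0, 0], [0, 0], [35, 1, 17206], [0, 0], [155, 1, 6853, 11063, 17210], [156, 2, 6853, 6846, 17210], [155, 2, 17214, 10609, 6846], [0, 0], [37, 1, 17218], [57, 2, 6868, 6862, 17218], [33, 1, 17222], [0, 0], [35, 1, 17226], [45, 1, 6882, 2860, 2854, 6866, 17226], [37, 1, 17230], [0, 0], [59, 1, 10958, 17234], [0, 0], [154, 2, 6875, 6866, 17238], [153, 2, 17240, 10505, 6866], [0, 0], [33, 1, 17244], [0, 0], [59, 1, 11064, 17248], [59, 2, 17250, 17248], [85, 2, 17249, 11067, 17248],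 [99, 2, 17249, 13548, 17248], [113, 2, 17249, 11069, 17248], [127, 2, 17249, 15964, 17248], [141, 2, 17249, 11071, 17248], [0, 0], [152, 2, 6909, 6880, 17264], [151, 2, 17266, 10623, 6880], [0, 0], [61, 2, 17271, 11075, 17270], [75, 2, 17271, 11077, 17270], [89, 2, 17271, 13550, 17270], [103, 2, 17271, 11079, 17270], [117, 2, 17271, 15966, 17270], [131, 2, 17271, 11081, 17270], [0, 0], [30, 1, 17271, 17284], [0, 0], [31, 1, 17288], [0, 0], [33, 1, 17292], [0, 0], [35, 1, 17296], [81, 2, 17297, 11077, 17296], [0, 0], [37, 1, 17302], [0, 0], [156, 2, 6909, 6884, 17306], [155, 2, 17308, 10623, 6884], [0, 0], [59, 1, 11082, 17312], [73, 1, 7180, 2995, 2981, 7036, 11084, 17312], [74, 4, 7167, 2995, 10089, 2974, 7030, 17312], [36, 1, 17318], [145, 2, 17316, 16023, 16052], [146, 1, 17316, 16021, 16052], [154, 2, 14503, 14486, 17324], [0, 0], [155, 1, 17322, 17313, 17328], [156, 2, 17322, 17314, 17328], [155, 2, 17332, 17324, 17314], [0, 0], [59, 1, 10098, 17336], [59, 2, 17338, 17336], [85, 2, 17337, 10101, 17336], [99, 2, 17337, 13514, 17336],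 [113, 2, 17337, 10103, 17336], [127, 2, 17337, 15862, 17336], [141, 2, 17337, 10105, 17336], [0, 0], [154, 2, 7063, 7038, 17352], [0, 0], [75, 2, 17357, 11091, 17356], [0, 0], [30, 1, 17357, 17360], [73, 2, 16419, 6331, 10625, 10634, 7046, 17360], [35, 1, 17364], [0, 0], [0, 0], [33, 1, 17370], [0, 0], [35, 1, 17374], [49, 2, 17366, 17361, 17374], [67, 2, 17375, 11089, 17374], [0, 0], [37, 1, 17382], [0, 0], [155, 1, 7063, 11087, 17386], [156, 2, 7063, 7046, 17386], [177, 2, 17387, 11091, 17386], [155, 2, 17390, 10645, 7046], [0, 0], [150, 2, 7105, 7076, 17396], [0, 0], [29, 1, 16458, 17400], [49, 1, 16445, 16446, 17400], [75, 2, 17401, 11099, 17400], [117, 2, 17401, 15868, 17400], [0, 0], [155, 1, 7105, 11097, 17410], [0, 0], [61, 2, 17415, 10113, 17414], [75, 2, 17415, 10115, 17414], [89, 2, 17415, 13608, 17414], [103, 2, 17415, 10117, 17414], [117, 2, 17415, 15864, 17414], [131, 2, 17415, 10119, 17414], [0, 0], [30, 1, 17415, 17428], [61, 0, 17429, 10112, 17428], [75, 0, 17429, 10114, 17428], [89, 0, 17429, 13609, 17428], [103, 0,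 17429, 10116, 17428], [117, 0, 17429, 15865, 17428], [131, 0, 17429, 10118, 17428], [0, 0], [31, 1, 17444], [63, 2, 17445, 10113, 17444], [77, 2, 17445, 10115, 17444], [91, 2, 17445, 13608, 17444], [105, 2, 17445, 10117, 17444], [119, 2, 17445, 15864, 17444], [133, 2, 17445, 10119, 17444], [0, 0], [33, 1, 17460], [65, 2, 17461, 10113, 17460], [79, 2, 17461, 10115, 17460], [93, 2, 17461, 13608, 17460], [107, 2, 17461, 10117, 17460], [121, 2, 17461, 15864, 17460], [135, 2, 17461, 10119, 17460], [0, 0], [35, 1, 17476], [67, 2, 17477, 10113, 17476], [81, 2, 17477, 10115, 17476], [95, 2, 17477, 13608, 17476], [109, 2, 17477, 10117, 17476], [123, 2, 17477, 15864, 17476], [137, 2, 17477, 10119, 17476], [0, 0], [37, 1, 17492], [0, 0], [0, 0], [31, 1, 17498], [0, 0], [33, 1, 17502], [47, 2, 7176, 7164, 17502], [65, 2, 17503, 11105, 17502], [79, 2, 17503, 11107, 17502], [0, 0], [35, 1, 17512], [49, 2, 7180, 7164, 17512], [123, 2, 17513, 15854, 17512], [29, 2, 17516, 17317], [0, 0], [37, 1, 17522], [0, 0], [59, 1, 11104, 17526], [141, 2, 17527,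 11109, 17526], [0, 0], [146, 2, 7195, 7164, 17532], [145, 2, 17534, 10671, 7164], [0, 0], [31, 1, 17538], [63, 2, 17539, 11111, 17538], [129, 3, 14343, 5666, 10352, 355, 506, 10092, 2994, 7166, 17538], [59, 1, 17542, 17544], [39, 0, 17540, 7167, 7170, 16030, 14411], [145, 2, 14343, 14406, 17548], [146, 1, 14343, 14412, 17548], [0, 0], [33, 1, 17554], [47, 2, 17504, 7169, 17554], [79, 2, 17555, 11113, 17554], [29, 2, 17558, 17506], [0, 0], [37, 1, 17564], [45, 2, 14526, 14507, 17327, 17321, 17564], [51, 2, 17524, 7169, 17564], [152, 3, 17568, 14531, 14513], [0, 0], [59, 1, 11110, 17574], [127, 2, 17575, 15852, 17574], [0, 0], [146, 2, 17533, 7169, 17580], [147, 1, 17553, 17539, 17580], [152, 2, 17322, 17321, 17580], [153, 1, 17572, 17565, 17580], [154, 2, 17572, 17566, 17580], [167, 2, 17581, 11111, 17580], [177, 2, 17581, 11113, 17580], [0, 0], [33, 1, 17596]]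
def dJ44 : List (List ℕ) := [[135, 2, 17597, 11115, 17596], [149, 2, 14309, 16039, 17596], [150, 1, 14309, 16037, 17596], [146, 0, 17604, 14319, 14468], [0, 0], [37, 1, 17608], [45, 2, 7184, 7178, 16048, 16035, 17608], [55, 2, 7184, 7170, 17608], [153, 2, 14321, 16039, 17608], [154, 1, 14321, 16037, 17608], [31, 1, 17614], [35, 1, 17612], [0, 0], [155, 2, 14329, 16039, 17624], [156, 1, 14329, 16037, 17624], [0, 0], [31, 1, 17630], [0, 0], [81, 2, 17635, 11119, 17634], [137, 2, 17635, 11123, 17634], [0, 0], [37, 1, 17640], [57, 2, 7184, 7174, 17640], [69, 2, 17641, 11117, 17640], [83, 2, 17641, 11119, 17640], [97, 2, 17641, 13506, 17640], [111, 2, 17641, 11121, 17640], [125, 2, 17641, 15856, 17640], [139, 2, 17641, 11123, 17640], [33, 1, 17644], [0, 0], [59, 1, 11116, 17660], [141, 2, 17661, 11123, 17660], [0, 0], [149, 1, 7195, 7177, 17666], [150, 2, 7195, 7174, 17666], [149, 2, 17670, 10671, 7174], [0, 0], [33, 1, 17674], [0, 0], [0, 0], [59, 1, 11124, 17680], [0, 0], [147, 1, 17619, 17621, 17684], [148, 2, 17619, 17614, 17684], [151,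 1, 17619, 17623, 17684], [152, 2, 17619, 17612, 17684], [153, 1, 7195, 7185, 17684], [154, 2, 7195, 7182, 17684], [153, 2, 17696, 10671, 7182], [0, 0], [31, 1, 17700], [53, 1, 14238, 11139, 17700], [35, 1, 17704], [0, 0], [33, 1, 17708], [47, 2, 7288, 7276, 17708], [65, 2, 17709, 11141, 17708], [79, 2, 17709, 11143, 17708], [93, 2, 17709, 13498, 17708], [107, 2, 17709, 11145, 17708], [121, 2, 17709, 15846, 17708], [135, 2, 17709, 11147, 17708], [29, 2, 17712, 14484], [0, 0], [37, 1, 17728], [51, 2, 16054, 7276, 17728], [29, 2, 17732, 16052], [49, 3, 17732, 16019, 17535], [145, 0, 17732, 16022, 17517], [146, 3, 17732, 16020, 17517], [0, 0], [59, 1, 11140, 17742], [74, 4, 15720, 14329, 10885, 5658, 11139, 17742], [0, 0], [146, 2, 7303, 7276, 17748], [151, 1, 14295, 11137, 17748], [152, 2, 14295, 11139, 17748], [154, 2, 17740, 17730, 17748], [153, 2, 17756, 17738, 17730], [0, 0], [33, 1, 17760], [57, 1, 7288, 16057, 17760], [149, 2, 17675, 16023, 17760], [150, 1, 17675, 16021, 17760], [37, 1, 17764], [0, 0], [59, 1, 11148, 17772], [141,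 2, 17773, 11151, 17772], [155, 2, 17679, 16023, 17772], [156, 1, 17679, 16021, 17772], [0, 0], [31, 1, 17782], [0, 0], [35, 1, 17786], [95, 2, 17787, 13500, 17786], [0, 0], [59, 1, 11152, 17792], [59, 2, 17794, 17792], [85, 2, 17793, 11155, 17792], [99, 2, 17793, 13500, 17792], [113, 2, 17793, 11157, 17792], [127, 2, 17793, 15848, 17792], [141, 2, 17793, 11159, 17792], [0, 0], [154, 2, 17769, 17764, 17808], [0, 0], [31, 1, 17812], [53, 1, 17814, 13542, 17812], [0, 0], [33, 1, 17818], [47, 2, 7400, 7388, 17818], [0, 0], [37, 1, 17824], [0, 0], [59, 1, 10170, 17828], [99, 2, 17829, 13540, 17828], [0, 0], [146, 2, 7427, 7388, 17834], [145, 2, 17836, 9553, 7388], [0, 0], [53, 1, 7396, 13333, 17840], [133, 2, 17841, 10185, 17840], [35, 1, 17842], [0, 0], [47, 2, 17820, 7393, 17848], [29, 2, 17850, 17822], [0, 0], [51, 2, 17826, 7393, 17854], [0, 0], [59, 1, 10178, 17858], [85, 2, 17859, 10181, 17858], [0, 0], [146, 2, 17835, 7393, 17864], [0, 0], [61, 2, 17869, 10187, 17868], [131, 2, 17869, 10193, 17868], [0, 0], [30, 1, 17869, 17874], [0,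 0], [33, 1, 17878], [0, 0], [37, 1, 17882], [55, 2, 7408, 7394, 17882], [69, 2, 17883, 10187, 17882], [83, 2, 17883, 10189, 17882], [143, 3, 17689, 17694, 10082, 3028, 3213, 3207, 3174, 7394, 17882], [59, 1, 17888, 17892], [0, 0], [59, 1, 10186, 17896], [0, 0], [0, 0], [35, 1, 17902], [0, 0], [57, 2, 7408, 7398, 17906], [33, 1, 17908], [0, 0], [39, 1, 7585, 3230, 3222, 7478, 17912], [31, 1, 17914], [0, 0], [0, 0], [33, 1, 17920], [0, 0], [35, 1, 17924], [53, 2, 7490, 7478, 17924], [31, 1, 17928], [0, 0], [55, 2, 7498, 7478, 17932], [31, 1, 17934], [0, 0], [35, 1, 17938], [49, 0, 17940, 7486, 7642], [0, 0], [57, 2, 7498, 7482, 17944], [33, 1, 17946], [0, 0], [59, 1, 11160, 17950], [0, 0], [149, 1, 7527, 7485, 17954], [150, 2, 7527, 7482, 17954], [149, 2, 17958, 10717, 7482], [0, 0], [33, 1, 17962], [47, 2, 12014, 10941, 17962], [65, 2, 17963, 10943, 17962], [79, 2, 17963, 10945, 17962], [93, 2, 17963, 13444, 17962], [107, 2, 17963, 10947, 17962], [121, 2, 17963, 15738, 17962], [135, 2, 17963, 10949, 17962], [29, 2, 17966, 12016], [0,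 0], [37, 1, 17982], [51, 2, 12028, 10941, 17982], [69, 2, 17983, 10943, 17982], [29, 2, 17986, 12030], [0, 0], [59, 1, 10942, 17992], [74, 4, 15839, 7557, 10733, 3226, 7488, 17992], [115, 1, 14494, 10902, 10686, 1232, 4756, 10941, 15739, 17992]]
def dJ45 : List (List ℕ) := [[73, 4, 17998, 14496, 14494, 11135, 11136, 14285], [0, 0], [145, 1, 7697, 7493, 18002], [152, 2, 7527, 7488, 18002], [151, 2, 18006, 10717, 7488], [0, 0], [35, 1, 18010], [0, 0], [59, 1, 11162, 18014], [0, 0], [154, 2, 7527, 7496, 18018], [0, 0], [30, 1, 15716, 18022], [61, 0, 18023, 11172, 18022], [0, 0], [31, 1, 18028], [0, 0], [33, 1, 18032], [0, 0], [73, 3, 12143, 4867, 10436, 12212, 15716, 18036], [74, 3, 12143, 4867, 12215, 12217, 15716, 18036], [0, 0], [37, 1, 18042], [69, 2, 18043, 11173, 18042], [83, 2, 18043, 11175, 18042], [97, 2, 18043, 13494, 18042], [111, 2, 18043, 11177, 18042], [125, 2, 18043, 15719, 18042], [139, 2, 18043, 11179, 18042], [0, 0], [156, 2, 7527, 7502, 18058], [155, 2, 18060, 10717, 7502], [0, 0], [39, 1, 17919, 7480, 3227, 7536, 18064],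 [0, 0], [0, 0], [33, 1, 18070], [0, 0], [37, 1, 18074], [0, 0], [59, 1, 11180, 18078], [127, 2, 18079, 15747, 18078], [129, 1, 16452, 10976, 10518, 508, 522, 3224, 7536, 11184, 18078], [0, 0], [147, 1, 7571, 7539, 18086], [148, 2, 7571, 7536, 18086], [147, 2, 18090, 10739, 7536], [0, 0], [105, 2, 18095, 11191, 18094], [0, 0], [35, 1, 18098], [49, 2, 7644, 7546, 18098], [81, 2, 18099, 11189, 18098], [29, 2, 18102, 17942], [0, 0], [51, 2, 7648, 7546, 18108], [57, 2, 7550, 7540, 18108], [33, 1, 18112], [0, 0], [59, 1, 11186, 18116], [0, 0], [145, 1, 17955, 7545, 18120], [0, 0], [35, 1, 18124], [0, 0], [59, 1, 11192, 18128], [59, 2, 18130, 18128], [85, 2, 18129, 11195, 18128], [99, 2, 18129, 13484, 18128], [113, 2, 18129, 11197, 18128], [127, 2, 18129, 15826, 18128], [141, 2, 18129, 11199, 18128], [0, 0], [154, 2, 7571, 7548, 18144], [0, 0], [31, 1, 18148], [119, 2, 18149, 15836, 18148], [0, 0], [35, 1, 18154], [49, 2, 18001, 15839, 18154], [29, 2, 18158, 17998], [0, 0], [0, 0], [155, 1, 7571, 11201, 18164], [156, 2, 7571, 7556, 18164],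 [155, 2, 18168, 10739, 7556], [0, 0], [33, 1, 18172], [47, 2, 7590, 7582, 18172], [0, 0], [35, 1, 18178], [49, 2, 7594, 7582, 18178], [0, 0], [37, 1, 18184], [51, 2, 7602, 7582, 18184], [0, 0], [59, 1, 11202, 18190], [141, 2, 18191, 11207, 18190], [129, 8, 18194, 18192, 7583, 3230, 10160, 287, 1224, 4702, 11940], [31, 1, 18196], [53, 1, 16496, 11954, 18196], [35, 1, 18200], [0, 0], [146, 2, 7627, 7582, 18204], [145, 2, 18206, 10759, 7582], [0, 0], [47, 2, 18174, 7587, 18210], [29, 2, 18212, 18176], [0, 0], [35, 1, 18216], [49, 2, 18180, 7587, 18216], [81, 2, 18217, 11209, 18216], [29, 2, 18220, 18182], [0, 0], [51, 2, 18186, 7587, 18226], [29, 2, 18228, 18188], [0, 0], [145, 1, 7627, 7584, 18232], [0, 0], [31, 1, 18236], [41, 1, 7640, 3234, 3228, 7588, 18236], [33, 1, 18240], [0, 0], [35, 1, 18244], [0, 0], [0, 0], [33, 1, 18250], [0, 0], [37, 1, 18254], [55, 2, 7680, 7598, 18254], [69, 2, 18255, 11211, 18254], [139, 2, 18255, 11217, 18254], [31, 1, 18258], [0, 0], [59, 1, 11210, 18266], [73, 1, 18202, 18191, 18181, 18182, 11212, 18266],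 [0, 0], [147, 1, 7697, 7597, 18272], [148, 2, 7697, 7598, 18272], [151, 1, 7627, 7595, 18272], [152, 2, 7627, 7592, 18272], [0, 0], [59, 1, 11218, 18282], [59, 2, 18284, 18282], [85, 2, 18283, 11221, 18282], [99, 2, 18283, 13486, 18282], [113, 2, 18283, 11223, 18282], [127, 2, 18283, 15828, 18282], [141, 2, 18283, 11225, 18282], [0, 0], [154, 2, 7627, 7600, 18298], [153, 2, 18300, 10759, 7600], [0, 0], [0, 0], [30, 1, 18305, 18306], [61, 0, 18307, 11228, 18306], [0, 0], [31, 1, 18312], [0, 0], [35, 1, 18316], [0, 0], [0, 0], [0, 0], [53, 2, 7644, 7638, 18324], [31, 1, 18326], [0, 0], [0, 0], [59, 1, 11230, 18332], [141, 2, 18333, 11233, 18332], [0, 0], [33, 1, 18338], [43, 1, 7676, 3238, 3232, 7642, 18338], [65, 2, 18339, 11235, 18338], [79, 2, 18339, 11237, 18338], [87, 4, 8146, 3528, 625, 519, 13098, 1581, 349, 9136, 89, 13224, 522, 3232, 7642, 18338], [93, 2, 18339, 13492, 18338], [107, 2, 18339, 11239, 18338], [121, 2, 18339, 15834, 18338], [135, 2, 18339, 11241, 18338], [37, 1, 18348], [35, 1, 18342], [0, 0], [37, 1, 18362], [0,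 0], [59, 1, 11234, 18366], [0, 0], [152, 2, 7665, 7642, 18370], [0, 0], [35, 1, 18374], [0, 0], [59, 1, 11242, 18378], [59, 2, 18380, 18378], [85, 2, 18379, 11245, 18378], [99, 2, 18379, 13488, 18378], [113, 2, 18379, 11247, 18378], [127, 2, 18379, 15830, 18378], [141, 2, 18379, 11249, 18378], [0, 0], [154, 2, 7665, 7646, 18394], [0, 0]]
def dJ46 : List (List ℕ) := [[0, 0], [0, 0], [0, 0], [156, 2, 7665, 7654, 18404], [0, 0], [31, 1, 18408], [0, 0], [37, 1, 18412], [45, 2, 8150, 8144, 18358, 18342, 18412], [57, 2, 7680, 7674, 18412], [33, 1, 18418], [35, 1, 18416], [0, 0], [59, 1, 11250, 18424], [59, 2, 18426, 18424], [85, 2, 18425, 11253, 18424], [99, 2, 18425, 13449, 18424], [113, 2, 18425, 11255, 18424], [127, 2, 18425, 15745, 18424], [141, 2, 18425, 11257, 18424], [0, 0], [150, 2, 7697, 7674, 18440], [0, 0], [35, 1, 18444], [43, 2, 8198, 8154, 18422, 18418, 18444], [45, 1, 7710, 3242, 3236, 7678, 18444], [33, 1, 18448], [0, 0], [154, 2, 7697, 7678, 18454], [0, 0], [31, 1, 18458], [0, 0], [0, 0], [37, 1, 18464], [0, 0], [155, 1, 7697,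 11259, 18468], [156, 2, 7697, 7682, 18468], [155, 2, 18472, 10789, 7682], [0, 0], [0, 0], [31, 1, 18478], [53, 1, 14552, 10205, 18478], [35, 1, 18482], [0, 0], [33, 1, 18486], [47, 2, 7938, 7926, 18486], [107, 2, 18487, 10209, 18486], [29, 2, 18490, 14796], [0, 0], [37, 1, 18496], [51, 2, 7942, 7926, 18496], [29, 2, 18500, 14812], [0, 0], [59, 1, 10206, 18504], [74, 4, 15704, 14631, 9797, 5834, 10205, 18504], [115, 1, 12570, 9761, 9766, 1634, 3468, 7926, 15815, 18504], [73, 4, 18510, 12572, 12570, 12395, 12392, 12407], [0, 0], [146, 2, 7953, 7926, 18514], [151, 1, 14587, 10203, 18514], [152, 2, 14587, 10205, 18514], [151, 2, 18520, 14591, 10205], [0, 0], [30, 1, 14839, 18524], [50, 2, 14675, 14603, 18524], [36, 1, 18528], [0, 0], [33, 1, 18532], [0, 0], [37, 1, 18536], [45, 2, 7942, 9793, 14681, 14596, 18536], [55, 2, 7942, 7932, 18536], [31, 1, 18542], [143, 3, 18542, 7942, 9574, 2678, 9705, 13860, 14701, 14698, 14798], [59, 1, 14802, 18546], [35, 1, 18540], [0, 0], [59, 1, 10210, 18552], [127, 2, 18553, 15816, 18552], [0, 0], [148,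 2, 7953, 7932, 18558], [147, 2, 18560, 9585, 7932], [0, 0], [0, 0], [35, 1, 18566], [67, 2, 18567, 10215, 18566], [0, 0], [37, 1, 18572], [57, 2, 7942, 7936, 18572], [33, 1, 18576], [0, 0], [59, 1, 10214, 18580], [0, 0], [149, 1, 7953, 7939, 18584], [0, 0], [59, 1, 10216, 18588], [59, 2, 18590, 18588], [85, 2, 18589, 10219, 18588], [99, 2, 18589, 13646, 18588], [113, 2, 18589, 10221, 18588], [127, 2, 18589, 15820, 18588], [141, 2, 18589, 10223, 18588], [0, 0], [154, 2, 7953, 7940, 18604], [153, 2, 18606, 9585, 7940], [0, 0], [39, 1, 8119, 3524, 3516, 8010, 18610], [31, 1, 18612], [0, 0], [30, 1, 18611, 18616], [117, 0, 18617, 15813, 18616], [0, 0], [33, 1, 18622], [65, 2, 18623, 10227, 18622], [79, 2, 18623, 10229, 18622], [93, 2, 18623, 13604, 18622], [107, 2, 18623, 10231, 18622], [121, 2, 18623, 15812, 18622], [135, 2, 18623, 10233, 18622], [0, 0], [53, 2, 8022, 8010, 18638], [67, 2, 18639, 10227, 18638], [95, 2, 18639, 13604, 18638], [31, 1, 18640], [0, 0], [37, 1, 18648], [55, 2, 8030, 8010, 18648], [31, 1, 18652], [0, 0], [59,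 1, 10226, 18656], [0, 0], [148, 2, 8055, 8010, 18660], [147, 2, 18662, 9621, 8010], [0, 0], [31, 1, 18666], [63, 2, 18667, 10235, 18666], [77, 2, 18667, 10237, 18666], [91, 2, 18667, 13598, 18666], [105, 2, 18667, 10239, 18666], [119, 2, 18667, 15806, 18666], [133, 2, 18667, 10241, 18666], [0, 0], [35, 1, 18682], [49, 0, 18684, 8018, 8144], [0, 0], [37, 1, 18688], [57, 2, 8030, 8014, 18688], [33, 1, 18692], [47, 0, 18692, 8032, 8154], [0, 0], [59, 1, 10234, 18698], [0, 0], [150, 2, 8055, 8014, 18702], [0, 0], [47, 2, 12360, 9909, 18706], [0, 0], [115, 1, 14816, 9818, 9574, 1330, 4972, 9909, 15707, 18710], [73, 4, 18712, 14818, 14816, 10201, 10202, 14581], [0, 0], [152, 2, 8055, 8020, 18716], [151, 2, 18718, 9621, 8020], [0, 0], [35, 1, 18722], [49, 0, 18724, 8032, 8196], [0, 0], [59, 1, 10242, 18728], [0, 0], [154, 2, 8055, 8028, 18732], [153, 2, 18734, 9621, 8028], [0, 0], [30, 1, 15702, 18738], [73, 2, 8181, 3531, 3516, 9614, 8034, 18738], [35, 1, 18742], [0, 0], [31, 1, 18746], [63, 2, 18747, 10249, 18746], [0, 0], [0, 0], [35, 1,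 18754], [49, 2, 18744, 18739, 18754], [73, 3, 12391, 5023, 9252, 12452, 15702, 18754], [74, 3, 12391, 5023, 12455, 12459, 15702, 18754], [0, 0], [156, 2, 8055, 8034, 18764], [155, 2, 18766, 9621, 8034], [0, 0], [39, 1, 18617, 8012, 3521, 8064, 18770], [0, 0], [40, 2, 8117, 3523, 3518, 8067, 18774], [32, 1, 18776], [0, 0], [37, 1, 18780], [55, 2, 8078, 8064, 18780], [31, 1, 18784], [0, 0], [59, 1, 10250, 18788], [85, 2, 18789, 10253, 18788], [129, 1, 16208, 9406, 2499, 444, 624, 3518, 8064, 10254, 18788], [0, 0], [148, 2, 8105, 8064, 18796]]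
def dJ47 : List (List ℕ) := [[147, 2, 18798, 9643, 8064], [0, 0], [31, 1, 18802], [0, 0], [35, 1, 18806], [49, 2, 8146, 8074, 18806], [29, 2, 18810, 18686], [0, 0], [37, 1, 18814], [57, 2, 8078, 8068, 18814], [33, 1, 18818], [0, 0], [59, 1, 10256, 18822], [59, 2, 18824, 18822], [85, 2, 18823, 10259, 18822], [99, 2, 18823, 13600, 18822], [113, 2, 18823, 10261, 18822], [127, 2, 18823, 15808, 18822], [141, 2, 18823, 10263, 18822], [0, 0], [150, 2, 8105, 8068, 18838], [0, 0], [35, 1, 18842], [49, 2, 8198, 8082, 18842], [67, 2, 18843, 10265, 18842], [81, 2, 18843, 10267, 18842], [29, 2, 18846, 18726], [0, 0], [59, 1, 10264, 18854], [0, 0], [0, 0], [77, 2, 18861, 10271, 18860], [0, 0], [0, 0], [155, 1, 8105, 10269, 18866], [156, 2, 8105, 8084, 18866], [155, 2, 18870, 9643, 8084], [0, 0], [59, 1, 10272, 18874], [141, 2, 18875, 10277, 18874], [129, 8, 18878, 18876, 8117, 3524, 9060, 305, 1126, 4522, 11458], [31, 1, 18880], [0, 0], [146, 2, 8131, 8116, 18884], [145, 2, 18886, 9647, 8116], [0, 0], [146, 2, 18885, 8121, 18890], [145, 2, 18892,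 18889, 8121], [0, 0], [0, 0], [35, 1, 18898], [53, 2, 8198, 8128, 18898], [31, 1, 18902], [0, 0], [0, 0], [0, 0], [59, 1, 10278, 18910], [59, 2, 18912, 18910], [85, 2, 18911, 10281, 18910], [99, 2, 18911, 13602, 18910], [113, 2, 18911, 10283, 18910], [127, 2, 18911, 15810, 18910], [141, 2, 18911, 10285, 18910], [0, 0], [0, 0], [0, 0], [0, 0], [0, 0], [0, 0], [31, 1, 18936], [0, 0], [35, 1, 18940], [0, 0], [49, 1, 18741, 18742, 18944], [35, 1, 18946], [0, 0], [31, 1, 18950], [0, 0], [59, 1, 10290, 18954], [0, 0], [0, 0], [0, 0], [33, 1, 18962], [0, 0], [0, 0], [33, 1, 18968], [41, 2, 18970, 8460, 13539, 8462, 18968], [47, 2, 11412, 8464, 18968], [0, 0], [73, 1, 11472, 4523, 4517, 8464, 11263, 18976], [74, 4, 11459, 4523, 8545, 4389, 8456, 18976], [36, 1, 18980], [0, 0], [147, 1, 16177, 8461, 18984], [148, 2, 16177, 8462, 18984], [152, 2, 8489, 8456, 18984], [0, 0], [0, 0], [30, 1, 18993, 18994], [61, 0, 18995, 8954, 18994], [117, 0, 18995, 15889, 18994], [0, 0], [31, 1, 19002], [0, 0], [0, 0], [0, 0], [37, 1, 19010], [0, 0], [155, 1,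 8489, 8953, 19014], [156, 2, 8489, 8466, 19014], [155, 2, 19018, 8661, 8466], [0, 0], [39, 2, 16860, 6769, 15530, 11264, 19022], [53, 1, 11496, 11278, 19022], [147, 2, 16941, 16944, 19022], [148, 1, 16941, 16942, 19022], [35, 1, 19026], [0, 0], [33, 1, 19034], [47, 2, 11286, 11264, 19034], [29, 2, 19038, 11762], [0, 0], [37, 1, 19042], [51, 2, 11298, 11264, 19042], [29, 2, 19046, 11774], [0, 0], [59, 1, 11270, 19050], [59, 2, 19052, 19050], [85, 2, 19051, 11273, 19050], [99, 2, 19051, 13458, 19050], [113, 2, 19051, 11275, 19050], [115, 1, 11594, 4573, 8916, 1094, 4398, 11264, 15757, 19050], [127, 2, 19051, 15756, 19050], [141, 2, 19051, 11277, 19050], [73, 2, 19051, 11279, 4575, 9340, 11592, 19063], [129, 8, 19066, 19052, 11265, 15533, 16911, 16908, 11548, 11592, 19063], [0, 0], [31, 1, 19072], [0, 0], [35, 1, 19076], [0, 0], [37, 1, 19080], [57, 2, 11298, 11284, 19080], [69, 2, 19081, 11289, 19080], [83, 2, 19081, 11291, 19080], [97, 2, 19081, 13469, 19080], [111, 2, 19081, 11293, 19080], [125, 2, 19081, 15765, 19080], [139, 2, 19081,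 11295, 19080], [33, 1, 19084], [0, 0], [59, 1, 11288, 19100], [0, 0], [35, 1, 19104], [67, 2, 19105, 11301, 19104], [109, 2, 19105, 11305, 19104], [0, 0], [59, 1, 11300, 19112], [0, 0], [33, 1, 19116], [47, 2, 18970, 11338, 19116], [57, 1, 18970, 11340, 19116], [37, 1, 19122], [51, 0, 19122, 18974, 11414], [0, 0], [59, 1, 11330, 19128], [74, 4, 18995, 8467, 8655, 4451, 11322, 19128], [0, 0], [152, 2, 11365, 11322, 19134], [154, 2, 18985, 11340, 19134], [0, 0], [0, 0], [30, 1, 19141, 19142], [61, 0, 19143, 11346, 19142], [73, 2, 11425, 4515, 4452, 8638, 11342, 19142], [75, 0, 19143, 11348, 19142], [35, 1, 19148], [0, 0], [31, 1, 19154], [133, 2, 19155, 11353, 19154], [0, 0], [33, 1, 19160], [65, 2, 19161, 11347, 19160], [79, 2, 19161, 11349, 19160], [93, 2, 19161, 13626, 19160], [107, 2, 19161, 11351, 19160], [121, 2, 19161, 15794, 19160], [135, 2, 19161, 11353, 19160], [0, 0], [35, 1, 19176], [49, 2, 19152, 19143, 19176], [0, 0], [37, 1, 19182], [69, 2, 19183, 11347, 19182], [83, 2, 19183, 11349, 19182], [97, 2, 19183, 13626, 19182],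 [111, 2, 19183, 11351, 19182], [125, 2, 19183, 15794, 19182], [139, 2, 19183, 11353, 19182], [0, 0]]
def dJ48 : List (List ℕ) := [[156, 2, 11365, 11342, 19198], [0, 0], [115, 1, 11778, 4592, 9288, 1103, 4454, 11372, 15793, 19202], [73, 4, 19204, 11780, 11778, 11267, 11268, 11531], [0, 0], [146, 2, 11399, 11372, 19208], [145, 2, 19210, 11405, 11372], [0, 0], [145, 1, 11399, 11374, 19214], [152, 2, 11399, 11378, 19214], [151, 2, 19218, 11405, 11378], [0, 0], [61, 2, 19223, 11385, 19222], [130, 3, 16273, 6259, 2501, 1097, 1103, 9325, 9329, 11383, 19222], [60, 2, 19225, 19226], [0, 0], [148, 2, 11399, 11380, 19230], [147, 2, 19232, 11405, 11380], [0, 0], [149, 1, 11399, 11389, 19236], [150, 2, 11399, 11386, 19236], [0, 0], [154, 2, 11399, 11390, 19242], [153, 2, 19244, 11405, 11390], [0, 0], [59, 1, 11416, 19248], [0, 0], [150, 2, 11447, 11410, 19252], [153, 1, 19253, 11415, 19252], [0, 0], [29, 1, 19180, 19258], [49, 1, 19145, 19148, 19258], [35, 1, 19262], [0, 0], [31, 1, 19266], [63, 2, 19267, 11429, 19266], [0, 0], [33, 1, 19272], [65,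 2, 19273, 11429, 19272], [79, 2, 19273, 11431, 19272], [93, 2, 19273, 13644, 19272], [107, 2, 19273, 11433, 19272], [121, 2, 19273, 15782, 19272], [135, 2, 19273, 11435, 19272], [0, 0], [37, 1, 19288], [0, 0], [155, 1, 11447, 11427, 19292], [156, 2, 11447, 11424, 19292], [155, 2, 19296, 11453, 11424], [0, 0], [31, 1, 19300], [0, 0], [35, 1, 19304], [49, 2, 11472, 11454, 19304], [29, 2, 19308, 18979], [0, 0], [37, 1, 19312], [51, 2, 15992, 11454, 19312], [0, 0], [0, 0], [37, 1, 19320], [51, 2, 19314, 11461, 19320], [29, 2, 19324, 19316], [0, 0], [145, 1, 11487, 11458, 19328], [0, 0], [35, 1, 19332], [53, 2, 11472, 11462, 19332], [31, 1, 19336], [0, 0], [0, 0], [152, 2, 11487, 11470, 19342], [0, 0], [39, 1, 11635, 4582, 4570, 11494, 19346], [101, 4, 17500, 7165, 2995, 10519, 2547, 425, 420, 1097, 1095, 8628, 1128, 4570, 11494, 19346], [33, 1, 19350], [0, 0], [40, 2, 16908, 11547, 4574, 11497, 19354], [50, 2, 19025, 19033, 19354], [151, 2, 19358, 16865, 16854], [152, 1, 19358, 16859, 16854], [0, 0], [33, 1, 19364], [101, 5, 14296, 5692,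 1626, 4727, 9172, 2540, 5355, 5352, 8882, 15653, 16909, 19357, 19355, 19364], [31, 1, 19368], [39, 0, 19368, 16033, 7172, 7164, 17498], [147, 0, 19368, 14295, 14239], [148, 3, 19368, 14299, 14239], [0, 0], [37, 1, 19378], [55, 2, 11516, 11494, 19378], [31, 1, 19382], [0, 0], [59, 1, 11498, 19386], [0, 0], [146, 2, 19360, 19355, 19390], [147, 1, 11541, 11497, 19390], [149, 1, 19376, 19365, 19390], [150, 2, 19376, 19366, 19390], [152, 2, 19031, 19026, 19390], [151, 2, 19400, 19029, 19026], [0, 0], [31, 1, 19404], [41, 1, 19370, 19366, 11496, 11500, 19404], [105, 2, 19405, 11511, 19404], [119, 2, 19405, 15766, 19404], [33, 1, 19408], [47, 0, 19408, 16033, 17596], [149, 0, 19408, 14295, 14253], [150, 3, 19408, 14299, 14253], [146, 0, 14469, 14255, 19420], [0, 0], [35, 1, 19424], [49, 0, 19426, 11504, 11716], [0, 0], [37, 1, 19430], [57, 2, 11516, 11500, 19430], [69, 2, 19431, 11507, 19430], [83, 2, 19431, 11509, 19430], [97, 2, 19431, 13472, 19430], [111, 2, 19431, 11511, 19430], [125, 2, 19431, 15766, 19430], [139, 2, 19431, 11513, 19430],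 [33, 1, 19434], [47, 0, 19434, 11518, 11734], [0, 0], [59, 1, 11506, 19452], [141, 2, 19453, 11513, 19452], [0, 0], [0, 0], [35, 1, 19460], [81, 2, 19461, 11523, 19460], [49, 0, 19462, 11518, 11798], [0, 0], [59, 1, 11520, 19468], [0, 0], [145, 1, 11817, 11519, 19472], [153, 1, 11541, 11517, 19472], [154, 2, 11541, 11514, 19472], [153, 2, 19478, 11545, 11514], [0, 0], [31, 1, 19482], [0, 0], [33, 1, 19486], [0, 0], [0, 0], [155, 1, 11541, 11531, 19492], [156, 2, 11541, 11528, 19492], [155, 2, 19496, 11545, 11528], [0, 0], [149, 2, 12811, 15657, 19500], [150, 1, 12811, 15655, 19500], [0, 0], [55, 2, 11578, 11546, 19506], [154, 1, 12817, 15655, 19506], [31, 1, 19508], [0, 0], [31, 1, 19514], [63, 2, 19515, 11567, 19514], [0, 0], [35, 1, 19520], [43, 2, 19078, 11286, 4578, 11560, 19520], [49, 2, 11718, 11574, 19520], [29, 2, 19526, 19428], [33, 1, 19524], [0, 0], [37, 1, 19532], [51, 2, 11722, 11574, 19532], [57, 2, 11578, 11560, 19532], [69, 2, 19533, 11567, 19532], [83, 2, 19533, 11569, 19532], [97, 2, 19533, 13474, 19532], [111, 2, 19533,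 11571, 19532], [125, 2, 19533, 15768, 19532], [139, 2, 19533, 11573, 19532], [33, 1, 19538], [47, 0, 19538, 11580, 19448], [0, 0], [59, 1, 11566, 19556], [0, 0], [146, 2, 11749, 11574, 19560], [150, 2, 11613, 11560, 19560], [149, 2, 19564, 11621, 11560], [0, 0], [35, 1, 19568], [45, 1, 19106, 11298, 4578, 11576, 19568], [49, 2, 11800, 11590, 19568], [67, 2, 19569, 11583, 19568], [81, 2, 19569, 11585, 19568], [29, 2, 19574, 19466], [37, 1, 19572], [0, 0], [59, 1, 11582, 19584], [85, 2, 19585, 11585, 19584], [143, 4, 19184, 11344, 5252, 5246, 9322, 15653, 11548, 11576, 19584], [31, 1, 19590], [55, 3, 19590, 19184, 19154], [37, 1, 19594], [0, 0]]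
def dJ49 : List (List ℕ) := [[148, 2, 19511, 19508, 19598], [153, 1, 11613, 11579, 19598], [0, 0], [29, 1, 19062, 19604], [49, 3, 19606, 19068, 19062], [73, 4, 19606, 19056, 19052, 11265, 4578, 11595], [0, 0], [31, 1, 19612], [0, 0], [33, 1, 19616], [0, 0], [37, 1, 19620], [0, 0], [156, 2, 11613, 11592, 19624], [155, 2, 19626, 11621, 11592], [0, 0], [33, 1, 19630], [47, 2, 11640, 11622, 19630], [150, 1, 17101, 15677, 19630], [0, 0], [51, 2, 11666, 11622, 19638], [154, 1, 17103, 15677, 19638], [0, 0], [41, 2, 17504, 17498, 19352, 19348, 19644], [47, 2, 19632, 11637, 19644], [29, 2, 19648, 19634], [31, 1, 19646], [0, 0], [31, 1, 19654], [41, 1, 11712, 4586, 4580, 11638, 19654], [39, 0, 19656, 19650, 19646, 17506, 17630], [0, 0], [35, 1, 19662], [67, 2, 19663, 11643, 19662], [0, 0], [37, 1, 19668], [57, 2, 11666, 11638, 19668], [69, 2, 19669, 11643, 19668], [83, 2, 19669, 11645, 19668], [97, 2, 19669, 13476, 19668], [111, 2, 19669, 11647, 19668], [125, 2, 19669, 15770, 19668], [139, 2, 19669, 11649, 19668], [33, 1, 19672], [0, 0], [59,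 1, 11642, 19688], [0, 0], [146, 2, 19637, 19634, 19692], [150, 2, 11701, 11638, 19692], [149, 2, 19696, 11709, 11638], [0, 0], [33, 1, 19700], [47, 2, 17094, 15683, 19700], [149, 2, 17043, 15688, 19700], [150, 1, 17043, 15686, 19700], [0, 0], [37, 1, 19710], [51, 2, 17134, 15683, 19710], [55, 2, 11766, 11658, 19710], [153, 2, 17051, 15688, 19710], [154, 1, 17051, 15686, 19710], [31, 1, 19716], [0, 0], [35, 1, 19724], [53, 2, 11800, 11678, 19724], [31, 1, 19728], [0, 0], [59, 1, 11670, 19732], [143, 4, 12596, 8590, 4553, 4554, 1219, 1128, 4580, 11664, 19732], [55, 3, 19736, 12596, 12545], [147, 0, 19736, 12595, 12525], [148, 3, 19736, 12601, 12525], [154, 0, 12547, 12523, 19742], [0, 0], [146, 2, 19643, 19640, 19746], [148, 2, 11817, 11678, 19746], [153, 1, 11701, 11667, 19746], [155, 1, 19742, 19733, 19746], [156, 2, 19742, 19734, 19746], [177, 2, 19747, 11673, 19746], [155, 2, 19756, 19740, 19734], [0, 0], [0, 0], [0, 0], [133, 2, 19767, 11691, 19766], [0, 0], [33, 1, 19770], [0, 0], [35, 1, 19774], [0, 0], [37, 1, 19778], [0, 0], [155,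 1, 11701, 11683, 19782], [156, 2, 11701, 11680, 19782], [0, 0], [39, 1, 19416, 19406, 11504, 11710, 19788], [47, 1, 19660, 19658, 19788], [41, 0, 19792, 17632, 7176, 7170, 17596], [0, 0], [30, 1, 19789, 19796], [0, 0], [35, 1, 19800], [53, 2, 11718, 11710, 19800], [31, 1, 19804], [0, 0], [37, 1, 19808], [55, 2, 11722, 11710, 19808], [31, 1, 19812], [0, 0], [59, 1, 11714, 19816], [0, 0], [147, 1, 11749, 11713, 19820], [148, 2, 11749, 11710, 19820], [147, 2, 19824, 11755, 11710], [0, 0], [33, 1, 19828], [47, 2, 19530, 19526, 19828], [49, 3, 19832, 19078, 11762], [0, 0], [37, 1, 19836], [0, 0], [0, 0], [151, 1, 11749, 11719, 19842], [152, 2, 11749, 11716, 19842], [0, 0], [35, 1, 19848], [0, 0], [59, 1, 11726, 19852], [59, 2, 19854, 19852], [85, 2, 19853, 11729, 19852], [99, 2, 19853, 13456, 19852], [113, 2, 19853, 11731, 19852], [127, 2, 19853, 15754, 19852], [141, 2, 19853, 11733, 19852], [0, 0], [150, 2, 11817, 11734, 19868], [0, 0], [0, 0], [31, 1, 19874], [0, 0], [0, 0], [0, 0], [31, 1, 19882], [0, 0], [37, 1, 19886], [51, 2, 19082,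 11762, 19886], [57, 2, 11766, 11756, 19886], [33, 1, 19892], [0, 0], [59, 1, 11760, 19896], [0, 0], [146, 2, 16956, 11762, 19900], [149, 1, 11791, 11759, 19900], [150, 2, 11791, 11756, 19900], [149, 2, 19906, 11797, 11756], [0, 0], [35, 1, 19910], [45, 1, 11800, 4596, 4588, 11764, 19910], [49, 2, 19106, 11774, 19910], [0, 0], [59, 1, 11768, 19918], [0, 0], [146, 2, 16964, 11774, 19922], [148, 2, 19721, 19716, 19922], [154, 2, 11791, 11764, 19922], [0, 0], [33, 1, 19930], [0, 0], [59, 1, 11802, 19934], [0, 0], [0, 0], [75, 2, 19941, 11807, 19940], [0, 0], [30, 1, 19941, 19944], [0, 0], [0, 0], [35, 1, 19950], [0, 0], [37, 1, 19954], [0, 0], [156, 2, 11817, 11804, 19958], [155, 2, 19960, 11823, 11804], [0, 0], [59, 1, 11830, 19964], [0, 0], [29, 1, 16114, 19968], [49, 1, 16075, 16078, 19968], [35, 1, 19972], [0, 0], [31, 1, 19976], [63, 2, 19977, 11877, 19976], [0, 0], [33, 1, 19982], [65, 2, 19983, 11877, 19982], [79, 2, 19983, 11879, 19982], [93, 2, 19983, 13528, 19982], [107, 2, 19983, 11881, 19982], [121, 2, 19983, 15886, 19982], [135,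 2, 19983, 11883, 19982], [0, 0]]
def dJ50 : List (List ℕ) := [[37, 1, 19998], [0, 0], [155, 1, 11889, 11875, 20002], [0, 0], [29, 1, 16586, 20006], [49, 1, 16549, 16552, 20006], [61, 2, 20007, 11911, 20006], [75, 2, 20007, 11913, 20006], [89, 2, 20007, 13610, 20006], [103, 2, 20007, 11915, 20006], [117, 2, 20007, 15884, 20006], [131, 2, 20007, 11917, 20006], [35, 1, 20010], [0, 0], [31, 1, 20026], [63, 2, 20027, 11911, 20026], [0, 0], [33, 1, 20032], [65, 2, 20033, 11911, 20032], [79, 2, 20033, 11913, 20032], [93, 2, 20033, 13610, 20032], [107, 2, 20033, 11915, 20032], [121, 2, 20033, 15884, 20032], [135, 2, 20033, 11917, 20032], [0, 0], [37, 1, 20048], [0, 0], [156, 2, 11923, 11906, 20052], [0, 0], [31, 1, 20056], [0, 0], [33, 1, 20060], [47, 2, 11962, 11930, 20060], [0, 0], [37, 1, 20066], [51, 2, 11980, 11930, 20066], [0, 0], [59, 1, 11932, 20072], [115, 1, 16680, 6499, 10556, 10016, 4702, 11930, 15879, 20072], [0, 0], [146, 2, 11991, 11930, 20078], [0, 0], [33, 1, 20082], [47, 2, 20062, 11943, 20082], [29, 2, 20086, 20064], [0, 0],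 [37, 1, 20090], [51, 2, 20068, 11943, 20090], [29, 2, 20094, 20070], [0, 0], [59, 1, 11945, 20098], [0, 0], [151, 1, 16531, 11947, 20102], [0, 0], [0, 0], [30, 1, 20107, 20108], [0, 0], [65, 2, 20113, 11959, 20112], [0, 0], [55, 2, 11980, 11956, 20116], [69, 2, 20117, 11959, 20116], [31, 1, 20118], [0, 0], [148, 2, 11991, 11956, 20124], [0, 0], [31, 1, 20128], [0, 0], [33, 1, 20132], [65, 2, 20133, 11971, 20132], [79, 2, 20133, 11973, 20132], [93, 2, 20133, 13522, 20132], [107, 2, 20133, 11975, 20132], [121, 2, 20133, 15880, 20132], [135, 2, 20133, 11977, 20132], [47, 0, 20134, 11968, 16498], [0, 0], [37, 1, 20150], [51, 0, 20152, 11968, 16514], [0, 0], [59, 1, 11970, 20156], [85, 2, 20157, 11973, 20156], [0, 0], [152, 2, 11991, 11964, 20162], [0, 0], [35, 1, 20166], [0, 0], [49, 1, 18069, 12010, 20170], [35, 1, 20172], [0, 0], [30, 1, 20171, 20176], [50, 2, 18065, 12007, 20176], [36, 1, 20180], [0, 0], [33, 1, 20184], [0, 0], [37, 1, 20188], [55, 2, 12028, 12002, 20188], [69, 2, 20189, 12009, 20188], [31, 1, 20192], [0, 0], [59, 1,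 12008, 20198], [0, 0], [147, 1, 12037, 12005, 20202], [151, 1, 18087, 12007, 20202], [0, 0], [31, 1, 20208], [0, 0], [35, 1, 20212], [43, 2, 18100, 7542, 10722, 12012, 20212], [33, 1, 20216], [47, 0, 20216, 18102, 18338], [51, 1, 18810, 18358, 20220], [37, 1, 20222], [0, 0], [45, 2, 18816, 18806, 20224, 20214, 20226], [57, 2, 12028, 12012, 20226], [35, 1, 20228], [0, 0], [59, 1, 12018, 20234], [0, 0], [150, 2, 12037, 12012, 20238], [0, 0], [35, 1, 20242], [43, 2, 18844, 18820, 20232, 20230, 20242], [45, 1, 18126, 7550, 10722, 12026, 20242], [33, 1, 20246], [0, 0], [0, 0], [31, 1, 20254], [0, 0], [33, 1, 20258], [47, 2, 12084, 12044, 20258], [65, 2, 20259, 12047, 20258], [79, 2, 20259, 12049, 20258], [93, 2, 20259, 13588, 20258], [107, 2, 20259, 12051, 20258], [121, 2, 20259, 15726, 20258], [135, 2, 20259, 12053, 20258], [0, 0], [37, 1, 20276], [51, 2, 12110, 12044, 20276], [69, 2, 20277, 12047, 20276], [83, 2, 20277, 12049, 20276], [97, 2, 20277, 13588, 20276], [111, 2, 20277, 12051, 20276], [125, 2, 20277, 15726, 20276], [139, 2, 20277,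 12053, 20276], [0, 0], [115, 1, 17860, 7391, 9542, 1242, 4818, 12044, 15727, 20294], [73, 4, 20296, 17862, 17860, 7392, 13542, 17831], [36, 1, 20298], [0, 0], [146, 2, 12125, 12044, 20302], [0, 0], [31, 1, 20306], [53, 1, 14198, 13152, 20306], [63, 2, 20307, 12058, 20306], [77, 2, 20307, 12062, 20306], [91, 2, 20307, 13586, 20306], [105, 2, 20307, 12064, 20306], [119, 2, 20307, 15724, 20306], [133, 2, 20307, 12066, 20306], [35, 1, 20310], [0, 0], [33, 1, 20326], [47, 2, 20260, 12057, 20326], [65, 2, 20327, 12058, 20326], [79, 2, 20327, 12062, 20326], [93, 2, 20327, 13586, 20326], [107, 2, 20327, 12064, 20326], [121, 2, 20327, 15724, 20326], [135, 2, 20327, 12066, 20326], [29, 2, 20330, 20262], [0, 0], [37, 1, 20346], [51, 2, 20278, 12057, 20346], [69, 2, 20347, 12058, 20346], [83, 2, 20347, 12062, 20346], [97, 2, 20347, 13586, 20346], [111, 2, 20347, 12064, 20346], [125, 2, 20347, 15724, 20346], [139, 2, 20347, 12066, 20346], [29, 2, 20350, 20280], [0, 0], [59, 1, 12059, 20366], [0, 0], [145, 1, 12125, 12054, 20370], [0, 0], [0, 0],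 [30, 1, 20375, 20376], [61, 0, 20377, 12074, 20376], [75, 0, 20377, 12076, 20376], [89, 0, 20377, 13591, 20376], [103, 0, 20377, 12078, 20376], [117, 0, 20377, 15729, 20376], [131, 0, 20377, 12080, 20376], [0, 0], [33, 1, 20392], [0, 0], [35, 1, 20396]]
def dJ51 : List (List ℕ) := [[53, 2, 12096, 12070, 20396], [31, 1, 20400], [0, 0], [37, 1, 20404], [55, 2, 12110, 12070, 20404], [31, 1, 20408], [0, 0], [59, 1, 12074, 20412], [0, 0], [148, 2, 12125, 12070, 20416], [0, 0], [31, 1, 20420], [63, 2, 20421, 12087, 20420], [77, 2, 20421, 12089, 20420], [91, 2, 20421, 13592, 20420], [105, 2, 20421, 12091, 20420], [119, 2, 20421, 15730, 20420], [133, 2, 20421, 12093, 20420], [0, 0], [35, 1, 20436], [0, 0], [37, 1, 20440], [57, 2, 12110, 12082, 20440], [69, 2, 20441, 12087, 20440], [83, 2, 20441, 12089, 20440], [97, 2, 20441, 13592, 20440], [111, 2, 20441, 12091, 20440], [125, 2, 20441, 15730, 20440], [139, 2, 20441, 12093, 20440], [33, 1, 20444], [0, 0], [59, 1, 12086, 20460], [59, 2, 20462, 20460], [85, 2, 20461, 12089, 20460], [99, 2, 20461,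 13592, 20460], [113, 2, 20461, 12091, 20460], [127, 2, 20461, 15730, 20460], [141, 2, 20461, 12093, 20460], [0, 0], [150, 2, 12125, 12082, 20476], [0, 0], [33, 1, 20480], [47, 0, 20482, 13151, 14210], [0, 0], [37, 1, 20486], [69, 2, 20487, 12101, 20486], [83, 2, 20487, 12103, 20486], [97, 2, 20487, 13594, 20486], [111, 2, 20487, 12105, 20486], [125, 2, 20487, 15732, 20486], [139, 2, 20487, 12107, 20486], [51, 0, 20488, 13151, 14224], [0, 0], [73, 1, 20301, 20295, 14183, 14180, 12102, 20504], [0, 0], [152, 2, 12125, 12094, 20508], [0, 0], [35, 1, 20512], [67, 2, 20513, 12113, 20512], [81, 2, 20513, 12115, 20512], [95, 2, 20513, 13596, 20512], [109, 2, 20513, 12117, 20512], [123, 2, 20513, 15734, 20512], [137, 2, 20513, 12119, 20512], [0, 0], [59, 1, 12112, 20528], [59, 2, 20530, 20528], [85, 2, 20529, 12115, 20528], [99, 2, 20529, 13596, 20528], [113, 2, 20529, 12117, 20528], [127, 2, 20529, 15734, 20528], [141, 2, 20529, 12119, 20528], [0, 0], [153, 1, 12125, 12111, 20544], [154, 2, 12125, 12108, 20544], [153, 2, 20548, 12131, 12108],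 [0, 0], [39, 1, 12239, 4870, 4862, 12132, 20552], [101, 4, 12134, 4863, 1245, 286, 509, 2551, 10518, 507, 287, 9186, 1244, 4862, 12132, 20552], [31, 1, 20554], [0, 0], [41, 1, 20558, 20556, 12134, 12136, 20560], [47, 0, 20562, 12239, 12244], [0, 0], [47, 2, 14152, 12148, 20566], [29, 2, 20568, 14154], [0, 0], [51, 2, 14168, 12148, 20572], [29, 2, 20574, 14170], [0, 0], [152, 2, 12173, 12142, 20578], [151, 2, 20580, 12177, 12142], [0, 0], [35, 1, 20584], [49, 0, 20586, 12154, 12340], [0, 0], [30, 1, 15721, 20590], [61, 0, 20591, 12160, 20590], [73, 2, 12323, 4877, 4862, 10428, 12156, 20590], [117, 0, 20591, 15723, 20590], [0, 0], [31, 1, 20600], [63, 2, 20601, 12161, 20600], [133, 2, 20601, 12163, 20600], [0, 0], [145, 1, 17626, 15721, 20608], [155, 1, 12173, 12159, 20608], [156, 2, 12173, 12156, 20608], [155, 2, 20614, 12177, 12156], [0, 0], [61, 2, 20619, 12183, 20618], [0, 0], [30, 1, 20619, 20622], [40, 2, 12233, 4869, 4864, 12181, 20622], [0, 0], [59, 1, 12182, 20628], [85, 2, 20629, 12185, 20628], [129, 1, 16094, 10930, 10368, 1226,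 1244, 4864, 12178, 12186, 20628], [0, 0], [31, 1, 20636], [133, 2, 20637, 12201, 20636], [0, 0], [35, 1, 20642], [49, 2, 12286, 12202, 20642], [0, 0], [59, 1, 12194, 20648], [85, 2, 20649, 12197, 20648], [0, 0], [146, 2, 12301, 12202, 20654], [195, 2, 20655, 15712, 20654], [0, 0], [59, 1, 12208, 20660], [0, 0], [31, 1, 20664], [0, 0], [0, 0], [37, 1, 20670], [0, 0], [156, 2, 12227, 12212, 20674], [155, 2, 20676, 12231, 12212], [0, 0], [33, 1, 20680], [47, 2, 12246, 12232, 20680], [65, 2, 20681, 12235, 20680], [29, 2, 20684, 20564], [0, 0], [35, 1, 20690], [49, 2, 12250, 12232, 20690], [0, 0], [59, 1, 12234, 20696], [141, 2, 20697, 12237, 20696], [129, 8, 20700, 20698, 12233, 4870, 9884, 353, 1568, 5534, 14080], [0, 0], [49, 2, 20692, 12241, 20704], [81, 2, 20705, 12242, 20704], [29, 2, 20706, 20694], [0, 0], [145, 1, 12271, 12238, 20712], [0, 0], [0, 0], [148, 2, 12335, 12254, 20718], [151, 1, 12271, 12251, 20718], [0, 0], [59, 1, 12260, 20724], [0, 0], [154, 2, 12271, 12256, 20728], [0, 0], [0, 0], [30, 1, 20733, 20734], [61, 0, 20735,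 12266, 20734], [75, 0, 20735, 12268, 20734], [0, 0], [33, 1, 20742], [0, 0], [35, 1, 20746], [0, 0], [155, 1, 12271, 12265, 20750], [156, 2, 12271, 12262, 20750], [0, 0], [0, 0], [59, 1, 12282, 20758], [0, 0], [0, 0], [43, 1, 12308, 4878, 4872, 12284, 20764], [87, 4, 12550, 5030, 1333, 1239, 13124, 1235, 283, 8828, 285, 13248, 1244, 4872, 12284, 20764], [37, 1, 20768], [0, 0], [59, 1, 12288, 20772], [0, 0], [152, 2, 12301, 12284, 20776], [0, 0], [0, 0], [30, 1, 20781, 20782], [61, 0, 20783, 12294, 20782], [0, 0], [155, 1, 12301, 12293, 20788], [156, 2, 12301, 12290, 20788], [155, 2, 20792, 12305, 12290], [0, 0], [31, 1, 20796]]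
def dJ52 : List (List ℕ) := [[0, 0], [37, 1, 20800], [45, 2, 12554, 12548, 20770, 20766, 20800], [57, 2, 12320, 12306, 20800], [33, 1, 20806], [35, 1, 20804], [0, 0], [59, 1, 12310, 20812], [59, 2, 20814, 20812], [85, 2, 20813, 12313, 20812], [99, 2, 20813, 13440, 20812], [113, 2, 20813, 12315, 20812], [127, 2, 20813, 15708, 20812], [141, 2, 20813, 12317, 20812], [0, 0], [150, 2, 12335, 12306, 20828], [149, 2, 20830, 12339, 12306], [0, 0], [35, 1, 20834], [43, 2, 12590, 12558, 20810, 20806, 20834], [45, 1, 12342, 4882, 4876, 12318, 20834], [33, 1, 20838], [0, 0], [155, 1, 12335, 12325, 20844], [156, 2, 12335, 12322, 20844], [155, 2, 20848, 12339, 12322], [0, 0], [57, 1, 20842, 20840, 20852], [37, 1, 20854], [45, 0, 20854, 12590, 5038, 5032, 12564], [0, 0], [49, 1, 18775, 12356, 20860], [35, 1, 20862], [0, 0], [50, 2, 18771, 12355, 20866], [36, 1, 20868], [0, 0], [55, 2, 12364, 12350, 20872], [31, 1, 20874], [0, 0], [43, 2, 18808, 8070, 9626, 12358, 20878], [33, 1, 20880], [0, 0], [35, 1, 20884], [45, 1, 18844, 8078, 9626, 12362, 20884],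 [37, 1, 20888], [0, 0], [39, 1, 12485, 5026, 5018, 12374, 20892], [75, 2, 20893, 12381, 20892], [101, 4, 17814, 7389, 3175, 1242, 4695, 9194, 2499, 447, 305, 8598, 1332, 5018, 12374, 20892], [131, 2, 20893, 12383, 20892], [33, 1, 20898], [31, 1, 20894], [0, 0], [30, 1, 20893, 20906], [0, 0], [33, 1, 20910], [47, 0, 20912, 20892, 20898], [39, 1, 17875, 7396, 7388, 17812, 20914], [31, 1, 20916], [0, 0], [35, 1, 20920], [0, 0], [37, 1, 20924], [0, 0], [59, 1, 12378, 20928], [0, 0], [148, 2, 12417, 12374, 20932], [177, 2, 20933, 12381, 20932], [0, 0], [35, 1, 20938], [49, 0, 20940, 12402, 12588], [0, 0], [0, 0], [37, 1, 20946], [69, 2, 20947, 12409, 20946], [0, 0], [155, 1, 12417, 12407, 20952], [156, 2, 12417, 12404, 20952], [155, 2, 20956, 12421, 12404], [0, 0], [39, 1, 20907, 12376, 5023, 12422, 20960], [0, 0], [40, 2, 12477, 5025, 5020, 12425, 20964], [61, 0, 20965, 12426, 20964], [117, 0, 20965, 15699, 20964], [32, 1, 20966], [0, 0], [33, 1, 20974], [0, 0], [55, 2, 12444, 12422, 20978], [31, 1, 20980], [0, 0], [59, 1, 12426, 20984],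 [85, 2, 20985, 12429, 20984], [129, 1, 19156, 11344, 4453, 1124, 1332, 5020, 12422, 12432, 20984], [0, 0], [0, 0], [35, 1, 20994], [49, 2, 12550, 12440, 20994], [0, 0], [59, 1, 12448, 21000], [0, 0], [31, 1, 21004], [63, 2, 21005, 12457, 21004], [0, 0], [33, 1, 21010], [0, 0], [156, 2, 12471, 12452, 21014], [155, 2, 21016, 12475, 12452], [0, 0], [33, 1, 21020], [47, 2, 12498, 12476, 21020], [0, 0], [35, 1, 21026], [49, 2, 12510, 12476, 21026], [67, 2, 21027, 12479, 21026], [0, 0], [37, 1, 21034], [51, 2, 12522, 12476, 21034], [97, 2, 21035, 13582, 21034], [0, 0], [59, 1, 12478, 21042], [85, 2, 21043, 12481, 21042], [141, 2, 21043, 12483, 21042], [129, 8, 21048, 21044, 12477, 5026, 8846, 361, 1530, 5438, 13874], [31, 1, 21050], [0, 0], [146, 2, 12543, 12476, 21054], [177, 2, 21055, 12481, 21054], [145, 2, 21056, 12547, 12476], [0, 0], [33, 1, 21062], [41, 2, 17820, 17812, 20902, 20894, 21062], [47, 2, 21022, 12487, 21062], [29, 2, 21068, 21024], [31, 1, 21066], [0, 0], [35, 1, 21074], [49, 2, 21028, 12487, 21074], [29, 2, 21078, 21030],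 [0, 0], [51, 2, 21036, 12487, 21082], [29, 2, 21084, 21038], [0, 0], [59, 1, 12489, 21088], [141, 2, 21089, 12494, 21088], [0, 0], [145, 1, 12543, 12484, 21094], [0, 0], [31, 1, 21098], [0, 0], [35, 1, 21102], [0, 0], [37, 1, 21106], [57, 2, 12522, 12496, 21106], [33, 1, 21110], [0, 0], [59, 1, 12500, 21114], [0, 0], [149, 1, 12543, 12499, 21118], [0, 0], [33, 1, 21122], [0, 0], [55, 2, 12566, 12518, 21126], [0, 0], [59, 1, 12514, 21130], [113, 2, 21131, 12517, 21130], [0, 0], [152, 2, 12543, 12508, 21136], [151, 2, 21138, 12547, 12508], [0, 0], [35, 1, 21142], [53, 2, 12590, 12528, 21142], [0, 0], [0, 0], [0, 0], [0, 0], [33, 1, 21154], [0, 0], [37, 1, 21158], [0, 0], [155, 1, 12543, 12533, 21162], [156, 2, 12543, 12530, 21162], [155, 2, 21166, 12547, 12530], [0, 0], [149, 1, 12595, 12557, 21170], [150, 2, 12595, 12558, 21170], [0, 0], [154, 2, 12583, 12564, 21176], [153, 2, 21178, 12587, 12564], [0, 0], [0, 0], [37, 1, 21184], [0, 0], [59, 1, 12702, 21188], [59, 2, 21190, 21188], [85, 2, 21189, 12705, 21188], [99, 2, 21189, 13432,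 21188], [113, 2, 21189, 12707, 21188]]
def dJ53 : List (List ℕ) := [[127, 2, 21189, 15872, 21188], [141, 2, 21189, 12709, 21188], [0, 0], [0, 0], [0, 0], [0, 0], [31, 1, 21210], [0, 0], [33, 1, 21214], [0, 0], [35, 1, 21218], [0, 0], [37, 1, 21222], [69, 2, 21223, 12719, 21222], [83, 2, 21223, 12721, 21222], [97, 2, 21223, 13618, 21222], [111, 2, 21223, 12723, 21222], [125, 2, 21223, 15874, 21222], [139, 2, 21223, 12725, 21222], [0, 0], [156, 2, 12735, 12714, 21238], [155, 2, 21240, 12743, 12714], [0, 0], [59, 1, 12752, 21244], [73, 1, 13908, 5439, 5431, 12762, 12754, 21244], [74, 4, 13875, 5439, 9087, 5249, 12744, 21244], [36, 1, 21250], [0, 0], [0, 0], [61, 2, 21257, 12771, 21256], [75, 2, 21257, 12773, 21256], [89, 2, 21257, 13650, 21256], [103, 2, 21257, 12775, 21256], [117, 2, 21257, 15930, 21256], [131, 2, 21257, 12777, 21256], [0, 0], [30, 1, 21257, 21270], [0, 0], [31, 1, 21274], [0, 0], [33, 1, 21278], [0, 0], [35, 1, 21282], [67, 2, 21283, 12771, 21282], [81, 2, 21283, 12773, 21282], [95, 2, 21283, 13650, 21282], [109, 2, 21283,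 12775, 21282], [123, 2, 21283, 15930, 21282], [137, 2, 21283, 12777, 21282], [0, 0], [37, 1, 21298], [0, 0], [155, 1, 12791, 12769, 21302], [156, 2, 12791, 12766, 21302], [155, 2, 21306, 12799, 12766], [0, 0], [31, 1, 21310], [0, 0], [43, 2, 16976, 6730, 5261, 12810, 21314], [87, 4, 16352, 6272, 2501, 9841, 4681, 13370, 11827, 11833, 5239, 13066, 5254, 12810, 21314, 21316], [95, 2, 21315, 13563, 21314], [37, 1, 21318], [45, 4, 16982, 16974, 21318, 16352, 16354], [35, 1, 21324], [43, 4, 16400, 16360, 21324, 16986, 16996], [49, 0, 21324, 16984, 17190], [47, 3, 21330, 16358, 16294], [51, 3, 21330, 16356, 16286], [37, 1, 21334], [45, 0, 21334, 17192, 6840, 6834, 17180], [57, 2, 16290, 16278, 21334], [43, 1, 17246, 6882, 6844, 17190, 21340], [35, 1, 21342], [49, 2, 16400, 16294, 21342], [47, 1, 17000, 17244, 21346], [35, 1, 21338], [49, 2, 16352, 16286, 21350], [47, 0, 21316, 16978, 17174], [0, 0], [37, 1, 21356], [57, 2, 12818, 12810, 21356], [33, 1, 21360], [0, 0], [0, 0], [35, 1, 21366], [45, 1, 16998, 6738, 5261, 12816, 21366], [51, 0,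 21370, 17000, 17232], [0, 0], [59, 1, 12822, 21374], [0, 0], [49, 2, 13756, 12852, 21378], [0, 0], [59, 1, 12850, 21382], [0, 0], [146, 2, 13777, 12852, 21386], [147, 1, 14970, 12847, 21386], [148, 2, 14970, 12844, 21386], [0, 0], [59, 1, 12898, 21394], [59, 2, 21396, 21394], [73, 1, 21284, 12767, 12747, 12908, 12900, 21394], [74, 4, 21271, 12767, 8933, 5313, 12888, 21394], [85, 2, 21395, 12901, 21394], [99, 2, 21395, 13425, 21394], [113, 2, 21395, 12903, 21394], [127, 2, 21395, 15791, 21394], [141, 2, 21395, 12905, 21394], [36, 1, 21402], [0, 0], [152, 2, 13677, 12888, 21416], [0, 0], [29, 1, 14730, 21420], [146, 1, 14684, 14665, 21420], [0, 0], [0, 0], [35, 1, 21428], [49, 2, 14737, 14730, 21428], [0, 0], [47, 2, 13706, 13690, 21434], [29, 2, 21436, 16380], [0, 0], [51, 2, 13720, 13690, 21440], [29, 2, 21442, 16386], [0, 0], [55, 2, 13720, 13698, 21446], [31, 1, 21448], [0, 0], [59, 1, 13702, 21452], [0, 0], [148, 2, 13729, 13698, 21456], [0, 0], [31, 1, 21460], [0, 0], [35, 1, 21464], [43, 2, 21338, 16280, 6262, 13704, 21464], [33,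 1, 21468], [57, 3, 21468, 17182, 17174], [0, 0], [37, 1, 21474], [45, 2, 17220, 17178, 21472, 21466, 21474], [57, 2, 13720, 13704, 21474], [33, 1, 21480], [0, 0], [59, 1, 13708, 21484], [0, 0], [150, 2, 13729, 13704, 21488], [149, 2, 21490, 13733, 13704], [0, 0], [35, 1, 21494], [45, 1, 21344, 16290, 6262, 13718, 21494], [57, 0, 21498, 17246, 17232], [0, 0], [59, 1, 13722, 21502], [0, 0], [154, 2, 13729, 13718, 21506], [153, 2, 21508, 13733, 13718], [0, 0], [59, 1, 13749, 21512], [0, 0], [145, 1, 13777, 13740, 21516], [146, 2, 21387, 13743, 21516], [147, 1, 21517, 13744, 21516], [149, 1, 16008, 13752, 21516], [150, 2, 16008, 13747, 21516], [197, 2, 21517, 13750, 21516], [149, 2, 21526, 16006, 13747], [0, 0], [41, 2, 16414, 6332, 10807, 13760, 21532], [0, 0], [148, 2, 14978, 13760, 21536], [152, 2, 13777, 13754, 21536], [151, 2, 21540, 13783, 13754], [0, 0], [0, 0], [30, 1, 21545, 21546], [131, 0, 21547, 13774, 21546], [0, 0], [0, 0], [33, 1, 21554], [0, 0], [35, 1, 21558], [0, 0], [37, 1, 21562], [0, 0], [155, 1, 13777, 13773, 21566],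 [156, 2, 13777, 13770, 21566], [155, 2, 21570, 13783, 13770], [0, 0], [61, 2, 21575, 13803, 21574], [75, 2, 21575, 13805, 21574], [89, 2, 21575, 13807, 21574], [103, 2, 21575, 13809, 21574], [117, 2, 21575, 15928, 21574], [131, 2, 21575, 13811, 21574], [0, 0], [30, 1, 21575, 21588], [61, 0, 21589, 13802, 21588], [73, 2, 13799, 12915, 12866, 9696, 13798, 21588], [75, 0, 21589, 13804, 21588], [89, 0, 21589, 13806, 21588]]
def dJ54 : List (List ℕ) := [[103, 0, 21589, 13808, 21588], [117, 0, 21589, 15929, 21588], [131, 0, 21589, 13810, 21588], [35, 1, 21594], [49, 3, 21591, 21594, 21574], [0, 0], [31, 1, 21610], [0, 0], [33, 1, 21614], [0, 0], [37, 1, 21618], [69, 2, 21619, 13803, 21618], [83, 2, 21619, 13805, 21618], [97, 2, 21619, 13807, 21618], [111, 2, 21619, 13809, 21618], [125, 2, 21619, 15928, 21618], [139, 2, 21619, 13811, 21618], [0, 0], [156, 2, 13817, 13798, 21634], [0, 0], [59, 1, 13825, 21638], [127, 2, 21639, 15870, 21638], [115, 7, 21642, 21640, 13823, 10816, 5306, 12874, 14964, 21241], [145, 2, 21207, 21238, 21644], [146,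 1, 21207, 21242, 21644], [0, 0], [156, 2, 21649, 21640, 21650], [155, 2, 21652, 21647, 21640], [0, 0], [29, 1, 21432, 21656], [49, 1, 21422, 14734, 21656], [35, 1, 21660], [0, 0], [33, 1, 21664], [0, 0], [37, 1, 21668], [0, 0], [31, 1, 21672], [0, 0], [33, 1, 21676], [47, 2, 13894, 13862, 21676], [65, 2, 21677, 13865, 21676], [79, 2, 21677, 13867, 21676], [93, 2, 21677, 13869, 21676], [107, 2, 21677, 13871, 21676], [121, 2, 21677, 15922, 21676], [135, 2, 21677, 13873, 21676], [0, 0], [35, 1, 21694], [49, 2, 13908, 13862, 21694], [29, 2, 21698, 21249], [0, 0], [37, 1, 21702], [51, 2, 15986, 13862, 21702], [69, 2, 21703, 13865, 21702], [0, 0], [59, 1, 13864, 21710], [0, 0], [146, 2, 13929, 13862, 21714], [0, 0], [33, 1, 21718], [47, 2, 21678, 13877, 21718], [65, 2, 21719, 13878, 21718], [79, 2, 21719, 13880, 21718], [93, 2, 21719, 13882, 21718], [107, 2, 21719, 13884, 21718], [121, 2, 21719, 15920, 21718], [135, 2, 21719, 13886, 21718], [29, 2, 21722, 21680], [0, 0], [37, 1, 21738], [51, 2, 21704, 13877, 21738], [29, 2, 21742, 21706],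 [0, 0], [59, 1, 13879, 21746], [0, 0], [0, 0], [57, 1, 13894, 15989, 21752], [37, 1, 21754], [0, 0], [53, 2, 13908, 13888, 21758], [31, 1, 21760], [0, 0], [0, 0], [35, 1, 21766], [0, 0], [59, 1, 13896, 21770], [59, 2, 21772, 21770], [85, 2, 21771, 13899, 21770], [99, 2, 21771, 13901, 21770], [113, 2, 21771, 13903, 21770], [127, 2, 21771, 15924, 21770], [141, 2, 21771, 13905, 21770], [0, 0], [150, 2, 13929, 13892, 21786], [0, 0], [33, 1, 21790], [0, 0], [37, 1, 21794], [69, 2, 21795, 13911, 21794], [83, 2, 21795, 13913, 21794], [97, 2, 21795, 13915, 21794], [111, 2, 21795, 13917, 21794], [125, 2, 21795, 15926, 21794], [139, 2, 21795, 13919, 21794], [0, 0], [59, 1, 13910, 21810], [0, 0], [152, 2, 13929, 13906, 21814], [0, 0], [0, 0], [145, 1, 16046, 13937, 21820], [152, 2, 16008, 13932, 21820], [0, 0], [59, 1, 13956, 21826], [0, 0], [0, 0], [59, 1, 13996, 21832], [74, 4, 14081, 5535, 10319, 5512, 13990, 21832], [0, 0], [73, 1, 17478, 7123, 13214, 14020, 14016, 21838], [74, 4, 17429, 7123, 9489, 10027, 14022, 21838], [36, 1, 21842], [0,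 0], [0, 0], [30, 1, 21847, 21848], [73, 2, 21819, 13933, 5515, 10840, 14024, 21848], [0, 0], [31, 1, 21854], [0, 0], [156, 2, 14029, 14024, 21858], [155, 2, 21860, 14039, 14024], [0, 0], [148, 2, 17397, 14044, 21864], [0, 0], [0, 0], [30, 1, 21869, 21870], [73, 2, 17337, 13951, 13952, 9744, 14056, 21870], [35, 1, 21874], [0, 0], [31, 1, 21878], [63, 2, 21879, 14061, 21878], [77, 2, 21879, 14063, 21878], [91, 2, 21879, 14065, 21878], [105, 2, 21879, 14067, 21878], [119, 2, 21879, 15958, 21878], [133, 2, 21879, 14069, 21878], [0, 0], [33, 1, 21894], [65, 2, 21895, 14061, 21894], [79, 2, 21895, 14063, 21894], [93, 2, 21895, 14065, 21894], [107, 2, 21895, 14067, 21894], [121, 2, 21895, 15958, 21894], [135, 2, 21895, 14069, 21894], [0, 0], [35, 1, 21910], [49, 2, 21876, 21871, 21910], [67, 2, 21911, 14061, 21910], [81, 2, 21911, 14063, 21910], [95, 2, 21911, 14065, 21910], [109, 2, 21911, 14067, 21910], [123, 2, 21911, 15958, 21910], [137, 2, 21911, 14069, 21910], [0, 0], [37, 1, 21928], [0, 0], [156, 2, 14075, 14056, 21932], [0, 0], [47,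 2, 14100, 14078, 21936], [0, 0], [49, 2, 14106, 14078, 21940], [0, 0], [51, 2, 14120, 14078, 21944], [0, 0], [146, 2, 14137, 14078, 21948], [145, 2, 21950, 14141, 14078], [0, 0], [59, 1, 14083, 21954], [127, 2, 21955, 15950, 21954], [115, 7, 21958, 21956, 14081, 10844, 5506, 13970, 15998, 21861], [145, 2, 21847, 21858, 21960], [146, 1, 21847, 21862, 21960], [0, 0], [145, 1, 14137, 14080, 21966], [156, 2, 21965, 21956, 21966], [155, 2, 21970, 21963, 21956], [0, 0], [89, 2, 21975, 14093, 21974], [117, 2, 21975, 15952, 21974], [0, 0], [30, 1, 21975, 21980], [0, 0], [33, 1, 21984], [0, 0], [35, 1, 21988], [53, 2, 14106, 14084, 21988], [31, 1, 21992], [0, 0], [37, 1, 21996]]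
def dJ55 : List (List ℕ) := [[55, 2, 14120, 14084, 21996], [0, 0], [59, 1, 14088, 22002], [0, 0], [147, 1, 14137, 14087, 22006], [148, 2, 14137, 14084, 22006], [147, 2, 22010, 14141, 14084], [0, 0], [31, 1, 22014], [0, 0], [0, 0], [57, 2, 14120, 14098, 22020], [33, 1, 22022], [0, 0], [59, 1, 14102, 22026], [0, 0], [33, 1, 22030], [0, 0], [0, 0], [59, 1, 14108, 22036], [0, 0], [152, 2, 14137, 14104, 22040], [0, 0], [35, 1, 22044], [0, 0], [59, 1, 14122, 22048], [0, 0], [154, 2, 14137, 14118, 22052], [0, 0], [49, 1, 20623, 14148, 22056], [35, 1, 22058], [0, 0], [31, 1, 22062], [0, 0], [43, 2, 20644, 12190, 10859, 14150, 22066], [33, 1, 22068], [47, 0, 22068, 20646, 20764], [51, 1, 20998, 20770, 22072], [0, 0], [37, 1, 22076], [57, 2, 14168, 14150, 22076], [33, 1, 22080], [0, 0], [59, 1, 14156, 22084], [59, 2, 22086, 22084], [85, 2, 22085, 14159, 22084], [99, 2, 22085, 14161, 22084], [113, 2, 22085, 14163, 22084], [127, 2, 22085, 15711, 22084], [141, 2, 22085, 14165, 22084], [0, 0], [150, 2, 14177, 14150, 22100], [0, 0], [33, 1, 22104],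 [47, 2, 14212, 14178, 22104], [0, 0], [37, 1, 22110], [51, 2, 14226, 14178, 22110], [0, 0], [59, 1, 14184, 22116], [0, 0], [146, 2, 14233, 14178, 22120], [0, 0], [61, 2, 22125, 14201, 22124], [75, 2, 22125, 14203, 22124], [89, 2, 22125, 14205, 22124], [103, 2, 22125, 14207, 22124], [117, 2, 22125, 15946, 22124], [131, 2, 22125, 14209, 22124], [0, 0], [30, 1, 22125, 22138], [0, 0], [33, 1, 22142], [0, 0], [37, 1, 22146], [55, 2, 14226, 14196, 22146], [31, 1, 22150], [0, 0], [59, 1, 14200, 22154], [0, 0], [148, 2, 14233, 14196, 22158], [0, 0], [31, 1, 22162], [0, 0], [35, 1, 22166], [0, 0], [37, 1, 22170], [57, 2, 14226, 14210, 22170], [33, 1, 22174], [0, 0], [59, 1, 14214, 22178], [0, 0], [150, 2, 14233, 14210, 22182], [0, 0], [35, 1, 22186], [0, 0], [39, 1, 14347, 5666, 5654, 14236, 22190], [47, 1, 19393, 19396, 22190], [0, 0], [30, 1, 22191, 22196], [40, 2, 17534, 16014, 5658, 14239, 22196], [145, 0, 19372, 19375, 22196], [146, 3, 19372, 19377, 22196], [148, 2, 22204, 17500, 17532], [0, 0], [37, 1, 22208], [55, 2, 14268, 14236, 22208],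 [69, 2, 22209, 14241, 22208], [83, 2, 22209, 14243, 22208], [97, 2, 22209, 14245, 22208], [111, 2, 22209, 14247, 22208], [125, 2, 22209, 15944, 22208], [139, 2, 22209, 14249, 22208], [31, 1, 22212], [0, 0], [0, 0], [35, 1, 22230], [49, 0, 22232, 14254, 14418], [0, 0], [37, 1, 22236], [57, 2, 14268, 14250, 22236], [69, 2, 22237, 14257, 22236], [83, 2, 22237, 14259, 22236], [97, 2, 22237, 14261, 22236], [111, 2, 22237, 14263, 22236], [125, 2, 22237, 15940, 22236], [139, 2, 22237, 14265, 22236], [33, 1, 22240], [47, 0, 22240, 14270, 14442], [0, 0], [59, 1, 14256, 22258], [0, 0], [35, 1, 22262], [49, 2, 17690, 14324, 22262], [0, 0], [59, 1, 14272, 22268], [0, 0], [146, 2, 17616, 14324, 22272], [153, 1, 14295, 14269, 22272], [154, 2, 14295, 14266, 22272], [153, 2, 22278, 14299, 14266], [0, 0], [31, 1, 22282], [77, 2, 22283, 14287, 22282], [0, 0], [145, 1, 18165, 15838, 22288], [156, 2, 14295, 14282, 22288], [0, 0], [31, 1, 22294], [148, 1, 19795, 17602, 22294], [146, 0, 22298, 19789, 19826], [0, 0], [35, 1, 22302], [43, 2, 17788, 7288, 10881,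 14308, 22302], [49, 2, 14420, 14318, 22302], [33, 1, 22306], [87, 4, 18568, 7938, 3469, 12950, 1631, 357, 351, 1575, 10328, 13312, 3062, 7286, 17786, 22310], [37, 1, 22312], [0, 0], [45, 2, 18574, 18566, 22314, 22304, 22316], [51, 2, 14428, 14318, 22316], [57, 2, 14322, 14308, 22316], [33, 1, 22322], [47, 0, 22322, 14324, 22254], [43, 4, 17690, 22324, 22318, 18576, 18550], [42, 5, 22325, 17687, 22329, 18545, 18577], [32, 1, 22330], [56, 0, 18575, 22330, 22317, 22297], [3, 0, 22300, 22334, 18491], [6, 0, 22297, 22334, 18564], [28, 0, 22299, 22334, 18584], [5, 0, 19823, 22337], [27, 0, 19826, 22337], [28, 0, 19820, 22337], [6, 0, 18564, 22338], [3, 0, 19798, 22341], [4, 0, 19788, 22341], [5, 0, 19791, 22341], [6, 0, 19794, 22341], [8, 0, 19793, 22341, 18586], [6, 0, 17633, 22359, 18561], [6, 0, 18561, 22360], [28, 0, 18562, 22360, 17666], [8, 0, 17669, 22364, 18532], [27, 0, 17672, 22364], [28, 0, 17666, 22364], [7, 0, 18535, 22366], [8, 0, 18532, 22366], [48, 2, 17534, 22374, 18524], [58, 3, 17696, 22374, 18539], [44, 4, 18579, 18541,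 22378, 17692, 22323], [149, 2, 22378, 17699, 17658], [150, 1, 22378, 17685, 17658], [152, 0, 22384, 18551, 18608], [45, 3, 14644, 18607, 22386, 17642, 17634], [51, 0, 22388, 14640, 14865], [153, 0, 22388, 14639, 14679], [154, 3, 22388, 14649, 14679], [147, 3, 14649, 14592, 22394], [130, 9, 17639, 22396, 14640, 5868, 5467, 13681, 14658, 14670, 14677]]
def dJ56 : List (List ℕ) := [[60, 2, 14599, 22398], [73, 0, 14839, 14602, 22398, 17635, 17562, 17560], [74, 2, 22402, 14833, 14677, 22398, 17637, 22391], [35, 1, 22404], [73, 3, 14833, 14677, 14600, 22401, 22391, 22404], [151, 2, 14833, 14858, 22404], [152, 1, 14833, 14866, 22404], [145, 2, 17559, 22412, 18527], [149, 1, 17581, 17557, 22412], [150, 2, 17581, 17554, 22412], [48, 2, 18526, 22418, 17582], [149, 0, 17504, 17536, 22420], [101, 9, 19701, 15682, 6822, 6767, 10058, 16911, 16906, 15674, 11637, 19644, 19646, 17559, 22408, 18527], [102, 2, 19704, 17094, 6820, 6767, 16911, 16906, 15678, 19633, 19649, 19653, 17559, 22408, 14837, 18527], [41, 5, 22377, 22426, 19702, 11654, 11756, 19882],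 [6, 0, 19885, 22428, 22201], [4, 0, 22196, 22430, 19040], [3, 0, 22199, 22430, 11763], [5, 0, 22206, 22430], [6, 0, 22201, 22430], [28, 0, 22203, 22430, 19900], [4, 0, 19040, 22432], [8, 0, 19037, 22432, 19399], [4, 0, 22190, 22435], [6, 0, 22193, 22435, 19072], [8, 0, 22195, 22435, 11286], [4, 0, 19903, 22440], [8, 0, 19905, 22440, 19352], [27, 0, 19908, 22440], [28, 0, 19900, 22440], [6, 0, 19395, 22444, 19022], [7, 0, 19397, 22444], [8, 0, 19399, 22444], [28, 0, 19402, 22444, 16943], [5, 0, 19075, 22448], [6, 0, 19072, 22448], [6, 0, 16857, 22451, 15533], [28, 0, 19363, 22451, 15543], [6, 0, 19349, 22454, 15684], [7, 0, 19351, 22454], [6, 0, 19022, 22460], [10, 0, 16946, 22466], [27, 0, 16945, 22466], [28, 0, 16943, 22466], [4, 0, 6767, 22472, 6684], [5, 0, 15531, 22472], [8, 0, 16992, 22472, 16888], [10, 0, 15648, 22472, 6682], [12, 0, 17032, 22472, 16896], [14, 0, 16910, 22472, 15566], [3, 0, 19354, 22475], [4, 0, 11634, 22477, 6783], [3, 0, 11637, 22477, 6779], [8, 0, 19645, 22477, 17042], [28, 0, 17065, 22477, 15688], [6, 0, 6822,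 22489, 6794], [8, 0, 6854, 22489, 6862], [10, 0, 6876, 22489, 2856], [12, 0, 6910, 22489, 6866], [14, 0, 9461, 22489, 6870], [27, 0, 16994, 22493], [28, 0, 16990, 22493], [5, 0, 11549, 22495], [6, 0, 11546, 22495], [8, 0, 19501, 22495, 6674], [12, 0, 19507, 22495, 6688], [14, 0, 15651, 22495, 6694], [27, 0, 15655, 22495], [5, 0, 17035, 22497], [6, 0, 17037, 22497], [27, 0, 17040, 22497], [28, 0, 17030, 22497], [27, 0, 16912, 22499], [4, 0, 6783, 22502], [8, 0, 17057, 22502, 11638], [12, 0, 17067, 22502, 11664], [4, 0, 11622, 22505], [8, 0, 19631, 22505, 6784], [12, 0, 19639, 22505, 6796], [14, 0, 11632, 22505, 6804], [6, 0, 19652, 22507], [3, 0, 17063, 22509], [8, 0, 17096, 22511, 17100], [12, 0, 17132, 22511, 17102], [13, 0, 17146, 22511], [14, 0, 17144, 22511], [28, 0, 6818, 22511], [3, 0, 16895, 22512], [10, 0, 17179, 22512, 17187], [12, 0, 17219, 22512, 17201], [12, 0, 17240, 22515, 2858], [27, 0, 10504, 22515], [10, 0, 17266, 22517, 17226], [14, 0, 17308, 22517, 17234], [3, 0, 16934, 22518, 2539], [27, 0, 19505, 22529], [28, 0,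 19503, 22529], [5, 0, 19509, 22531], [6, 0, 19512, 22531], [27, 0, 19511, 22531], [4, 0, 16305, 22532, 5353], [13, 0, 11043, 22532], [14, 0, 6694, 22532], [3, 0, 17059, 22549], [3, 0, 17069, 22551], [3, 0, 19635, 22555], [3, 0, 19641, 22557], [14, 0, 11059, 22558, 22568], [3, 0, 19694, 22564], [4, 0, 19714, 22567], [13, 0, 17137, 22567], [14, 0, 17139, 22567], [27, 0, 17140, 22567], [28, 0, 17130, 22567], [27, 0, 17188, 22576], [28, 0, 17184, 22576], [7, 0, 17223, 22579], [8, 0, 17224, 22579], [10, 0, 21478, 22579], [27, 0, 17242, 22581], [28, 0, 17238, 22581], [27, 0, 17268, 22585], [28, 0, 17264, 22585], [27, 0, 17310, 22587], [28, 0, 17306, 22587], [14, 0, 16937, 22589, 6295], [14, 0, 16299, 22601, 13731], [13, 0, 22570, 22614], [14, 0, 22568, 22614], [4, 0, 13693, 22651, 16269], [3, 0, 13690, 22651, 16309], [8, 0, 21435, 22651, 16371], [10, 0, 13695, 22651, 16393], [12, 0, 21441, 22651, 16409], [6, 0, 21458, 22652, 16272], [8, 0, 21490, 22652, 16278], [12, 0, 21508, 22652, 16288], [4, 0, 16269, 22658], [3, 0, 16309, 22660], [27,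 0, 16312, 22660], [28, 0, 16306, 22660], [3, 0, 21437, 22663], [4, 0, 21438, 22663], [9, 0, 16391, 22664], [10, 0, 16393, 22664], [27, 0, 16396, 22664], [3, 0, 21443, 22667], [4, 0, 21444, 22667], [28, 0, 21456, 22669], [27, 0, 21492, 22671], [28, 0, 21488, 22671], [27, 0, 21510, 22673], [28, 0, 21506, 22673], [146, 1, 16293, 22704, 16386], [151, 0, 21344, 22704, 21497], [145, 2, 16293, 22702, 16386], [149, 2, 21333, 22702, 21482], [146, 1, 16283, 22700, 16380], [151, 0, 21338, 22700, 21467], [149, 2, 21469, 22716, 21470], [145, 2, 16283, 22698, 16380], [155, 0, 19229, 22696, 21455], [146, 0, 22722, 19223, 19234], [116, 5, 19786, 22563, 11663, 15692, 6779, 22656, 15668, 19785], [144, 2, 17289, 6885, 2859, 2849, 22656, 17105, 17109, 17237, 22646, 17305], [11, 0, 17305, 22728], [12, 0, 17302, 22728], [73, 2, 19776, 11681, 11653, 22562, 11706, 19787, 22726], [3, 0, 22735, 22726, 22734], [13, 0, 19785, 22734], [14, 0, 19787, 22734], [28, 0, 19782, 22734], [145, 0, 22743, 22736, 22742, 19764], [4, 0, 19764, 22744, 19762], [4, 0, 19762, 22746],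 [146, 1, 21373, 22644, 16920], [145, 2, 21373, 22642, 16920], [146, 1, 21355, 22630, 16876], [145, 2, 21355, 22628, 16876], [30, 1, 19748, 22618], [40, 4, 19049, 19717, 22758, 19750, 19475], [147, 0, 19382, 19480, 22760], [148, 3, 19382, 19472, 22760], [146, 0, 16966, 19047, 22764], [29, 1, 19704, 22616], [39, 0, 22768, 22425, 18525, 7934, 7926, 18478], [3, 0, 22769, 22771], [8, 0, 19697, 22771], [27, 0, 19698, 22771], [28, 0, 19692, 22771], [151, 0, 18484, 22778, 19665], [147, 3, 22780, 14552, 14590], [148, 0, 22780, 14551, 14590], [147, 2, 14551, 14586, 22784], [101, 3, 18974, 11412, 4518, 1331, 9575, 7926, 18481, 22774, 22563, 11659, 11267, 11274, 19050, 19062, 19612], [6, 0, 19615, 22788, 18972], [6, 0, 19612, 22788, 22790], [4, 0, 18975, 22790, 19604], [3, 0, 19120, 22790, 19063], [8, 0, 18971, 22790, 19616]]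
def dJ57 : List (List ℕ) := [[12, 0, 22796, 19125, 22790, 19620], [4, 0, 19604, 22794], [9, 0, 19610, 22794], [10, 0, 19608, 22794], [4, 0, 19126, 22797], [7, 0, 19119, 22797], [8, 0, 19116, 22797], [7, 0, 19619, 22798], [8, 0, 19616, 22798], [11, 0, 19623, 22800], [12, 0, 19620, 22800], [144, 0, 19472, 19478, 22480, 19053, 22820, 22792, 11593, 11579, 22595, 16925], [14, 0, 16925, 22822, 19468], [13, 0, 19471, 22824], [14, 0, 19468, 22824], [144, 4, 19478, 22480, 19053, 22820, 22792, 11593, 11612, 19603, 19600, 21377], [14, 0, 21374, 22830], [143, 9, 19388, 11496, 11514, 22829, 22594, 11578, 11592, 22793, 22821], [153, 3, 19629, 22821, 22834], [154, 1, 22836, 19625, 22821], [145, 1, 19625, 19063, 22838], [146, 2, 19253, 22809, 22838], [147, 1, 22839, 19071, 22838], [150, 2, 19135, 22813, 22838], [153, 1, 19625, 22819, 22838], [51, 2, 19256, 22843, 22848], [57, 2, 19139, 22847, 22848], [101, 1, 22843, 22844, 22840, 22852, 18986, 16178, 16137, 6216, 8461, 22816, 19063, 19071, 22808, 11420, 19248], [4, 0, 22850, 22855], [8, 0, 19255, 22855],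 [28, 0, 19252, 22855], [87, 2, 8888, 8864, 1120, 4514, 11410, 19251, 22858, 11450, 4556, 8605, 8615, 8612, 13266, 11403, 19241], [8, 0, 19239, 22862, 8887], [4, 0, 19210, 22865, 1101], [3, 0, 19216, 22865, 1102], [6, 0, 19232, 22865, 1510], [12, 0, 19244, 22865, 4446], [14, 0, 11401, 22865, 4454], [28, 0, 19212, 22867, 1218], [28, 0, 19220, 22869, 4420], [4, 0, 22725, 22871, 1515], [28, 0, 19234, 22871, 5282], [28, 0, 19246, 22873, 11364], [28, 0, 4472, 22875], [4, 0, 11372, 22877], [14, 0, 19203, 22877, 4609], [3, 0, 11374, 22879], [14, 0, 21455, 22881, 5320], [5, 0, 11383, 22883], [6, 0, 11380, 22883], [11, 0, 11393, 22885], [4, 0, 19205, 22891, 11543], [10, 0, 19206, 22891, 11795], [6, 0, 13698, 22895], [10, 0, 16277, 22895, 6264], [12, 0, 21447, 22895, 13718], [14, 0, 11779, 22903, 19497], [6, 0, 15685, 22904, 19482], [8, 0, 22479, 22904, 19486], [10, 0, 11795, 22904], [12, 0, 19928, 22904, 19490], [6, 0, 16272, 22909], [6, 0, 21450, 22911], [13, 0, 19495, 22912], [14, 0, 19497, 22912], [27, 0, 19498, 22912], [5, 0, 19485, 22914],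 [7, 0, 19489, 22916], [8, 0, 19486, 22916], [4, 0, 19925, 22921], [6, 0, 19927, 22921], [28, 0, 19922, 22921], [129, 0, 11682, 22546, 22932, 11530, 4571, 4580, 11680, 22748, 19766, 19768], [6, 0, 19766, 22944], [54, 3, 19775, 22946, 19777], [147, 1, 22704, 22924, 22705], [53, 2, 21344, 22950, 21342], [41, 3, 17114, 17244, 22952, 17246, 17118], [43, 3, 17088, 17110, 22954, 17112, 17090], [40, 3, 16315, 6267, 6258, 22922, 6260, 16251], [3, 0, 16318, 22959], [39, 1, 16317, 6268, 6256, 16248, 22960], [101, 4, 16610, 6497, 2567, 10016, 1225, 283, 77, 85, 420, 9284, 2500, 6256, 16248, 22960], [33, 1, 22964], [41, 4, 16608, 22966, 22962, 22964, 16610, 16612], [4, 0, 16617, 22968, 6501], [3, 0, 16666, 22968, 6497], [8, 0, 16612, 22968], [12, 0, 16735, 22971, 16668], [28, 0, 16741, 22971, 16682], [7, 0, 16665, 22973], [8, 0, 16662, 22973], [7, 0, 16737, 22977], [8, 0, 16738, 22977], [7, 0, 16743, 22979], [47, 3, 16687, 22988, 16643], [47, 0, 22966, 16317, 16320], [143, 8, 21300, 21308, 21304, 12792, 22900, 9324, 1510, 5244, 12766, 21274], [11,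 0, 21301, 22995], [12, 0, 21298, 22995], [101, 6, 21570, 21389, 21392, 14968, 5352, 22898, 22893, 8606, 15539, 22500, 11496, 4575, 11560, 19514], [40, 2, 19423, 19405, 11565, 19517, 23000], [145, 2, 23000, 21573, 21544], [146, 1, 23000, 21567, 21544], [148, 0, 23006, 19515, 19566], [39, 3, 18494, 22342, 19563, 23008, 21549], [41, 1, 21312, 12812, 15659, 19565, 23008], [33, 1, 23012], [47, 2, 21556, 21544, 23012], [31, 1, 23010], [129, 3, 21520, 21390, 12876, 5307, 5368, 10802, 13770, 21546, 23010], [59, 1, 14794, 23020], [155, 0, 23020, 21517, 21515], [156, 3, 23020, 21531, 21515], [145, 2, 23026, 14797, 18584, 22350], [13, 0, 21515, 23029], [14, 0, 21512, 23029], [27, 0, 23025, 23029], [28, 0, 23027, 23029], [149, 1, 23036, 14791, 14824], [129, 3, 17607, 23003, 21568, 21519, 21522, 21528, 23022, 14797, 22349], [59, 1, 14314, 23040], [129, 3, 13772, 13740, 13745, 23033, 22351, 22354, 17600, 23042, 14319, 14414], [6, 0, 14417, 23044, 21552], [6, 0, 21552, 23046], [42, 3, 14351, 5665, 5671, 23048, 21557], [54, 3, 14419, 23048, 21561],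 [56, 3, 14427, 23048, 21565], [32, 1, 23054], [32, 1, 23050], [101, 2, 5558, 1626, 15228, 15227, 22888, 4455, 1101, 279, 285, 353, 1571, 5512, 10842, 14024, 21846], [4, 0, 21850, 23060, 16001], [3, 0, 21846, 23060, 14031], [14, 0, 21970, 23060, 14139], [10, 0, 21853, 23063, 21825], [6, 0, 14035, 23064, 21854], [4, 0, 21969, 23067, 21951], [28, 0, 21972, 23067, 14141], [3, 0, 21823, 23068], [28, 0, 21820, 23068], [5, 0, 21857, 23070], [6, 0, 21854, 23070], [28, 0, 21952, 23072, 14141], [6, 0, 20703, 23075, 14084], [10, 0, 21836, 23075, 14104], [4, 0, 14078, 23085], [8, 0, 21937, 23085, 14098], [10, 0, 21941, 23085, 14104], [12, 0, 21945, 23085, 14118], [14, 0, 20699, 23087, 22002], [14, 0, 21835, 23089, 22036], [3, 0, 21939, 23093], [3, 0, 21943, 23095], [3, 0, 21947, 23097], [13, 0, 22005, 23098], [13, 0, 22039, 23100], [14, 0, 22036, 23100], [130, 5, 20717, 12255, 10855, 5569, 10339, 5523, 14000, 23112, 21993], [49, 1, 21981, 21988, 23114], [35, 1, 23116], [47, 2, 22032, 23104, 22030], [40, 4, 21975, 14085, 23090, 14087, 21980], [32,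 1, 23122], [129, 8, 16728, 10012, 10010, 6061, 23080, 14026, 5514, 5508, 7046, 17360], [4, 0, 17363, 23126], [9, 0, 17365, 23126], [10, 0, 17366, 23126], [152, 3, 16704, 16726, 23132], [155, 3, 16429, 16418, 23134], [156, 0, 16429, 16421, 23134], [74, 1, 16691, 16702, 23138, 16426, 10077, 17389, 17393], [13, 0, 17389, 23140], [27, 0, 17394, 23140], [28, 0, 17386, 23140], [146, 1, 16694, 23146, 17356], [145, 2, 16694, 23144, 17356], [73, 0, 17005, 16916, 22828, 19463, 19580, 19578], [59, 1, 19576, 23152], [87, 4, 19078, 11286, 4399, 8866, 8622, 1123, 8647, 8459, 22816, 13481, 11594, 11560, 19520, 19524], [45, 4, 19082, 19076, 23156, 19078, 19080], [57, 3, 19524, 23156, 19530], [45, 4, 19534, 19520, 23160, 19522, 19532], [51, 0, 19528, 23160, 19526, 19836], [11, 0, 19839, 23164], [12, 0, 19836, 23164], [46, 4, 19431, 19427, 23168, 11717, 11723, 19851], [9, 0, 19851, 23170], [10, 0, 19848, 23170], [44, 4, 19461, 19435, 23174, 11735, 11801, 19933], [8, 0, 19930, 23176], [48, 2, 19581, 23178, 19575], [58, 3, 19573, 23180, 19583], [87, 3,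 23166, 11718, 4586, 1129, 8865, 8889, 4449, 8634, 11325, 22811, 19058, 19052, 22462, 17706], [58, 2, 19829, 23167, 23185], [46, 3, 22209, 17705, 23186, 19835, 19889], [56, 1, 17729, 17703, 23186], [32, 1, 23190], [40, 1, 17701, 7277, 7285, 17733, 23192], [30, 1, 19833, 23194], [50, 1, 23159, 19891, 23188]]
def dJ58 : List (List ℕ) := [[54, 3, 23188, 22227, 22265], [40, 1, 22227, 14325, 17687, 22267, 23200], [48, 2, 19049, 19893, 23202], [101, 9, 17071, 6785, 22552, 4581, 4572, 9342, 11592, 22803, 13653, 22809, 22810, 12760, 12763, 13849, 21656], [3, 0, 21659, 23206], [4, 0, 21656, 23206], [9, 0, 21661, 23206], [10, 0, 21662, 23206], [54, 1, 17079, 17073, 23214], [32, 1, 23216], [40, 1, 22785, 14588, 14733, 21423, 23216], [48, 3, 17149, 17075, 23210, 21667], [7, 0, 21667, 23222], [8, 0, 21664, 23222], [48, 2, 17152, 23226, 21433], [39, 1, 17558, 22561, 17046, 17070, 23208], [47, 2, 17088, 22612, 19686], [49, 2, 17112, 22612, 19724], [39, 3, 19574, 19730, 23234, 17114, 16920], [31, 1, 23236], [101, 11, 19371, 14296, 9730, 9728, 1626, 4729,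 9837, 6064, 5357, 5352, 22604, 2845, 6723, 16951], [147, 0, 16868, 22592, 21313], [149, 1, 23007, 23015, 23242], [150, 2, 23007, 23012, 23242], [149, 2, 23246, 23005, 23012], [155, 2, 16887, 22590, 21364], [155, 0, 18554, 22370, 17663], [155, 2, 18553, 22368, 17660], [54, 3, 22303, 22348, 18569], [32, 1, 23256], [0, 0], [33, 1, 23260], [47, 2, 14352, 14342, 23260], [0, 0], [35, 1, 23266], [49, 2, 14360, 14342, 23266], [53, 2, 17587, 17584, 23266], [31, 1, 23272], [55, 3, 23272, 14488, 14374], [37, 1, 23276], [0, 0], [45, 2, 14378, 14358, 23276, 23268, 23280], [51, 2, 14378, 14342, 23280], [55, 2, 17591, 17584, 23280], [53, 3, 23286, 14512, 14392], [0, 0], [41, 2, 16890, 22490, 11284, 22471, 23290], [47, 2, 23262, 14349, 23290], [29, 2, 23294, 23264], [31, 1, 23292], [147, 0, 23292, 22522, 16973], [148, 3, 23292, 22520, 16973], [0, 0], [55, 2, 19082, 22471, 23304], [31, 1, 23306], [39, 0, 23306, 23199, 22212, 14270, 14392], [0, 0], [145, 1, 14407, 14346, 23312], [146, 2, 17550, 14349, 23312], [147, 1, 16956, 22469, 23312], [148, 2, 16956,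 22471, 23312], [149, 1, 23302, 23291, 23312], [0, 0], [35, 1, 23324], [0, 0], [37, 1, 23328], [57, 2, 14378, 14350, 23328], [0, 0], [59, 1, 14354, 23334], [101, 1, 17168, 22574, 16890, 22490, 4593, 22928, 11617, 15658, 12813, 16893, 23293, 23297, 14356, 23334], [39, 5, 23338, 17168, 22574, 23298, 23294], [145, 0, 23338, 17167, 17150], [146, 3, 23338, 17173, 17150], [31, 1, 23340], [0, 0], [149, 1, 14407, 14353, 23348], [156, 2, 23344, 23336, 23348], [0, 0], [33, 1, 23354], [0, 0], [59, 1, 14364, 23358], [74, 4, 17548, 17547, 14345, 14343, 14358, 23358], [143, 4, 17327, 17314, 13940, 13944, 17334, 17330, 23274, 23278, 23358], [148, 3, 23364, 14509, 14363], [0, 0], [59, 1, 14382, 23368], [0, 0], [147, 1, 14525, 14381, 23372], [154, 2, 14407, 14376, 23372], [0, 0], [0, 0], [31, 1, 23380], [0, 0], [155, 1, 14407, 14397, 23384], [156, 2, 14407, 14394, 23384], [177, 2, 23385, 14399, 23384], [197, 2, 23385, 14401, 23384], [155, 2, 23388, 14413, 14394], [0, 0], [33, 1, 23396], [43, 1, 14472, 5674, 5668, 14418, 23396], [47, 2, 22310, 22308, 23396],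 [87, 4, 14744, 5846, 1639, 1587, 13097, 515, 87, 9135, 351, 13148, 1592, 5668, 14418, 23396], [37, 1, 23404], [0, 0], [37, 1, 23408], [51, 2, 22314, 22308, 23408], [57, 2, 23406, 23398, 23408], [83, 2, 23409, 14425, 23408], [33, 1, 23414], [43, 5, 23414, 14744, 5846, 5848, 14790], [0, 0], [59, 1, 14422, 23422], [74, 4, 17606, 23041, 14317, 14319, 14418, 23422], [36, 1, 23426], [151, 2, 23426, 14469, 14418], [152, 1, 23426, 14463, 14418], [0, 0], [35, 1, 23434], [45, 1, 23420, 23410, 14420, 14426, 23434], [49, 2, 22381, 22320, 23434], [47, 3, 23440, 18576, 14812], [51, 3, 23440, 18574, 14796], [57, 2, 14800, 14790, 23444], [87, 0, 14472, 5674, 5668, 14426, 23434, 23446, 18549, 22378, 17692, 14321, 14311, 22305, 22311, 17790], [0, 0], [59, 1, 14432, 23450], [0, 0], [153, 1, 14463, 14429, 23454], [0, 0], [0, 0], [31, 1, 23460], [0, 0], [0, 0], [35, 1, 23466], [0, 0], [37, 1, 23470], [0, 0], [155, 1, 14463, 14447, 23474], [156, 2, 14463, 14444, 23474], [177, 2, 23475, 14451, 23474], [155, 2, 23478, 14469, 14444], [0, 0], [31, 1, 23484],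 [0, 0], [37, 1, 23488], [57, 2, 14488, 14470, 23488], [43, 5, 23492, 17587, 22419, 14834, 14762], [0, 0], [146, 2, 17809, 14484, 23496], [150, 2, 14503, 14470, 23496], [149, 2, 23500, 14509, 14470], [0, 0], [156, 2, 14503, 14492, 23504], [155, 2, 23506, 14509, 14492], [0, 0], [33, 1, 23510], [43, 1, 23442, 23436, 14430, 14510, 23510], [57, 1, 22416, 17588, 23510], [37, 1, 23516], [45, 0, 23516, 14834, 5856, 5848, 14798], [0, 0], [59, 1, 14514, 23522], [0, 0], [49, 1, 20965, 14540, 23526], [103, 2, 23527, 14539, 23526], [35, 1, 23528], [0, 0], [30, 1, 23527, 23534], [50, 2, 20961, 14537, 23534], [36, 1, 23538], [0, 0], [101, 4, 23217, 21421, 13659, 5312, 5253, 8634, 4453, 1127, 361, 8770, 1638, 5830, 14550, 23542], [146, 1, 23220, 22786, 23542], [152, 0, 23546, 17079, 17098], [0, 0], [40, 2, 14675, 14593, 5834, 14553, 23550], [50, 2, 22773, 18485, 23550], [36, 1, 23554], [44, 5, 23554, 19701, 11651, 11641, 19665], [54, 3, 23554, 22427, 18528], [56, 2, 14551, 14575, 23560], [34, 1, 23558], [0, 0], [47, 2, 23565, 23551, 23566], [149, 2,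 23564, 22780, 23566], [0, 0], [59, 1, 14554, 23572], [0, 0], [31, 1, 23576], [0, 0], [35, 1, 23580], [49, 0, 23582, 14560, 14742], [0, 0], [37, 1, 23586], [57, 2, 14574, 14556, 23586], [33, 1, 23590], [47, 0, 23590, 14576, 14762], [0, 0], [59, 1, 14562, 23596]]
def dJ59 : List (List ℕ) := [[0, 0], [150, 2, 14587, 14556, 23600], [42, 5, 23602, 22782, 23558, 23552, 23591], [149, 2, 23602, 14591, 14556], [148, 1, 23577, 23606, 23605], [0, 0], [0, 0], [146, 2, 22393, 14674, 23612], [148, 2, 23570, 23561, 23612], [149, 1, 23609, 23593, 23612], [150, 2, 23609, 23590, 23612], [151, 1, 22423, 18528, 23612], [154, 2, 14587, 14572, 23612], [153, 2, 23624, 14591, 14572], [0, 0], [43, 1, 17762, 16019, 22372, 14602, 23628], [57, 1, 14606, 14681, 23628], [37, 1, 23632], [0, 0], [31, 1, 23636], [0, 0], [49, 2, 14744, 14620, 23640], [47, 3, 23642, 23418, 23412], [51, 3, 23642, 23406, 23402], [0, 0], [59, 1, 14610, 23648], [0, 0], [145, 1, 23601, 14609, 23652], [150, 2, 14639, 14604, 23652], [149, 2, 23656, 14649, 14604], [0, 0], [51, 2, 20948, 15704,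 23660], [0, 0], [33, 1, 23664], [57, 1, 14690, 14667, 23664], [149, 2, 21427, 14664, 23664], [150, 1, 21427, 14662, 23664], [0, 0], [49, 2, 14696, 14650, 23674], [53, 2, 14834, 14671, 23674], [151, 2, 21429, 14664, 23674], [0, 0], [33, 1, 23682], [47, 2, 23666, 14685, 23682], [57, 1, 23684, 14687, 23682], [51, 0, 23688, 23686, 23668], [0, 0], [41, 1, 14740, 5846, 5840, 14688, 23692], [0, 0], [35, 1, 23696], [0, 0], [59, 1, 14692, 23700], [0, 0], [149, 1, 14729, 14691, 23704], [150, 2, 14729, 14688, 23704], [154, 2, 23673, 23668, 23704], [153, 2, 23710, 23671, 23668], [0, 0], [149, 2, 23226, 14704, 23714], [0, 0], [37, 1, 23718], [55, 2, 14800, 14708, 23718], [153, 2, 21669, 14704, 23718], [0, 0], [0, 0], [0, 0], [31, 1, 23730], [0, 0], [33, 1, 23734], [0, 0], [35, 1, 23738], [0, 0], [37, 1, 23742], [0, 0], [156, 2, 14729, 14710, 23746], [0, 0], [55, 2, 14748, 14738, 23750], [31, 1, 23752], [0, 0], [151, 1, 14783, 14745, 23756], [152, 2, 14783, 14742, 23756], [151, 2, 23760, 14789, 14742], [0, 0], [59, 1, 14752, 23764], [0, 0], [150,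 2, 14859, 14762, 23768], [0, 0], [0, 0], [30, 1, 23773, 23774], [0, 0], [31, 1, 23778], [63, 2, 23779, 14769, 23778], [77, 2, 23779, 14771, 23778], [91, 2, 23779, 14773, 23778], [105, 2, 23779, 14775, 23778], [119, 2, 23779, 15916, 23778], [133, 2, 23779, 14777, 23778], [0, 0], [33, 1, 23794], [0, 0], [35, 1, 23798], [0, 0], [0, 0], [156, 2, 14783, 14764, 23804], [0, 0], [146, 2, 18605, 14812, 23808], [156, 2, 22382, 18548, 23808], [155, 2, 23812, 22384, 18548], [0, 0], [0, 0], [30, 1, 23817, 23818], [0, 0], [31, 1, 23822], [0, 0], [33, 1, 23826], [0, 0], [35, 1, 23830], [0, 0], [0, 0], [155, 1, 14859, 14843, 23836], [156, 2, 14859, 14840, 23836], [0, 0], [53, 1, 16648, 14921, 23842], [35, 1, 23844], [0, 0], [33, 1, 23848], [43, 1, 16746, 6512, 22980, 14921, 23848], [87, 5, 23224, 13847, 12913, 12889, 5309, 5303, 12857, 12863, 13298, 14912, 23848, 23852, 16746, 16748], [35, 1, 23854], [45, 1, 16772, 6516, 6510, 16748, 23854], [37, 1, 23858], [51, 2, 17160, 17148, 23858], [57, 2, 21670, 23227, 23858], [49, 1, 16632, 16770, 23862], [35,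 1, 23866], [45, 3, 17156, 17158, 23866, 16630, 16618], [53, 2, 17192, 17164, 23866], [31, 1, 23872], [55, 2, 16610, 16628, 23872, 21336], [3, 0, 22992, 23877, 16287], [5, 0, 16611, 23877], [6, 0, 16608, 23877], [8, 0, 22967, 23877, 16280], [8, 0, 16323, 23879, 6272], [3, 0, 22960, 23885, 6260], [6, 0, 6266, 23887], [12, 0, 16325, 23887, 6280], [28, 0, 16331, 23887, 6292], [6, 0, 16248, 23889], [6, 0, 16328, 23893], [6, 0, 16333, 23895], [56, 3, 16408, 23900, 16407], [101, 9, 16377, 22674, 23900, 22677, 10496, 10490, 1513, 346, 79, 86, 506, 2974, 11087, 17356], [40, 3, 16642, 16729, 23128, 23904, 16381, 21463], [5, 0, 21463, 23906], [6, 0, 21460, 23906], [147, 1, 23149, 23904, 22714], [31, 1, 23912], [41, 1, 23914, 16254, 23897, 16252, 23912], [47, 0, 16695, 23916, 16693, 16700], [8, 0, 16700, 23918], [149, 1, 17372, 23145, 23920, 16726], [7, 0, 17373, 23923], [40, 2, 16387, 22924, 22693, 23902, 22694], [147, 1, 22707, 23926, 22706], [54, 3, 16399, 23898, 16401], [42, 4, 16335, 6271, 23890, 6273, 16337], [54, 3, 21351, 23882, 16621],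 [32, 1, 23934], [39, 4, 16336, 16286, 23880, 6501, 16646], [0, 0], [37, 1, 23940], [51, 2, 16750, 14919, 23940], [49, 3, 23944, 23854, 17153], [35, 1, 23946], [0, 0], [0, 0], [0, 0], [30, 1, 23953, 23954], [61, 0, 23955, 14942, 23954], [73, 2, 14939, 13204, 6030, 9902, 14938, 23954], [75, 0, 23955, 14944, 23954], [89, 0, 23955, 14946, 23954], [103, 0, 23955, 14948, 23954], [117, 0, 23955, 15891, 23954], [131, 0, 23955, 14950, 23954], [35, 1, 23960], [49, 3, 23957, 23960, 23952], [0, 0], [31, 1, 23976], [143, 2, 14940, 14018, 14008, 14024, 23083, 14961, 14957, 14938, 23976], [37, 1, 23980], [0, 0], [33, 1, 23984], [65, 2, 23985, 14943, 23984], [79, 2, 23985, 14945, 23984], [93, 2, 23985, 14947, 23984], [107, 2, 23985, 14949, 23984], [121, 2, 23985, 15890, 23984], [135, 2, 23985, 14951, 23984]]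
def dJ60 : List (List ℕ) := [[0, 0], [156, 2, 14957, 14938, 24000], [0, 0], [31, 1, 24004], [101, 3, 21986, 14086, 23090, 5535, 5506, 5511, 10626, 10624, 2547, 1787, 10378, 6032, 16058, 24004], [47, 3, 24008, 21986, 21974], [33, 1, 24010], [0, 0], [33, 1, 24014], [47, 2, 16110, 16058, 24014], [79, 2, 24015, 16063, 24014], [0, 0], [37, 1, 24022], [51, 2, 16120, 16058, 24022], [0, 0], [59, 1, 16060, 24028], [85, 2, 24029, 16063, 24028], [115, 1, 20100, 11941, 10392, 10369, 6032, 16058, 16068, 24028], [0, 0], [146, 2, 16135, 16058, 24036], [0, 0], [31, 1, 24040], [53, 1, 19978, 16090, 24040], [63, 2, 24041, 16076, 24040], [77, 2, 24041, 16080, 24040], [129, 3, 21975, 14086, 10844, 5512, 10834, 10380, 6032, 16072, 24040], [59, 1, 24046, 24050], [0, 0], [47, 2, 24016, 16075, 24054], [29, 2, 24056, 24018], [0, 0], [37, 1, 24060], [51, 2, 24024, 16075, 24060], [69, 2, 24061, 16076, 24060], [83, 2, 24061, 16080, 24060], [97, 2, 24061, 16082, 24060], [111, 2, 24061, 16084, 24060], [125, 2, 24061, 16086, 24060], [139, 2, 24061, 16088, 24060],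 [29, 2, 24064, 24026], [0, 0], [59, 1, 16077, 24080], [127, 2, 24081, 16086, 24080], [115, 7, 24084, 24082, 16073, 10930, 1786, 2566, 6496, 16636], [0, 0], [146, 2, 24037, 16075, 24088], [0, 0], [30, 1, 20634, 24092], [40, 2, 24009, 24005, 16059, 16095, 24092], [32, 1, 24096], [42, 0, 24096, 21985, 14085, 14101, 22017], [34, 1, 24100], [0, 0], [33, 1, 24104], [47, 2, 24103, 24093, 24104], [0, 0], [35, 1, 24110], [74, 3, 22061, 20623, 20631, 20633, 20634, 24110], [137, 2, 24111, 16107, 24110], [129, 8, 24116, 24114, 22057, 14144, 10860, 1579, 4686, 11872, 16115], [0, 0], [55, 2, 16120, 16092, 24120], [0, 0], [59, 1, 16096, 24124], [0, 0], [148, 2, 16135, 16092, 24128], [0, 0], [31, 1, 24132], [0, 0], [35, 1, 24136], [0, 0], [37, 1, 24140], [57, 2, 16120, 16108, 24140], [0, 0], [33, 1, 24146], [47, 0, 24148, 16114, 19982], [0, 0], [0, 0], [59, 1, 16116, 24154], [0, 0], [35, 1, 24158], [0, 0], [59, 1, 16122, 24162], [0, 0], [154, 2, 16135, 16118, 24166], [0, 0], [0, 0], [37, 1, 24172], [51, 2, 16164, 16142, 24172], [0, 0], [59, 1, 16144,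 24178], [0, 0], [146, 2, 16167, 16142, 24182], [0, 0], [37, 1, 24186], [51, 2, 24174, 16149, 24186], [29, 2, 24190, 24176], [0, 0], [59, 1, 16151, 24194], [127, 2, 24195, 16152, 24194], [115, 7, 24198, 24196, 16147, 10002, 2424, 2680, 8957, 16245], [145, 2, 16183, 16240, 24200], [146, 1, 16183, 16246, 24200], [0, 0], [146, 2, 24183, 16149, 24206], [156, 2, 24205, 24196, 24206], [0, 0], [0, 0], [30, 1, 24213, 24214], [0, 0], [53, 2, 16158, 16154, 24218], [0, 0], [37, 1, 24222], [55, 2, 16164, 16154, 24222], [143, 9, 21504, 22925, 13720, 10490, 1519, 2420, 6100, 16154, 24222], [155, 1, 24228, 21503, 22705], [0, 0], [37, 1, 24232], [0, 0], [59, 1, 16160, 24236], [0, 0], [151, 1, 16167, 16159, 24240], [0, 0], [37, 1, 24244], [51, 2, 24234, 16173, 24244], [0, 0], [33, 1, 24250], [47, 2, 16216, 16182, 24250], [0, 0], [37, 1, 24256], [51, 2, 16238, 16182, 24256], [0, 0], [31, 1, 24262], [53, 1, 16810, 16204, 24262], [63, 2, 24263, 16190, 24262], [77, 2, 24263, 16194, 24262], [129, 3, 19327, 11464, 8672, 4389, 4390, 8950, 6218, 16186, 24262],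 [59, 1, 24268, 24272], [0, 0], [33, 1, 24276], [47, 2, 24252, 16189, 24276], [65, 2, 24277, 16190, 24276], [79, 2, 24277, 16194, 24276], [93, 2, 24277, 16196, 24276], [107, 2, 24277, 16198, 24276], [121, 2, 24277, 16200, 24276], [135, 2, 24277, 16202, 24276], [29, 2, 24280, 24254], [0, 0], [37, 1, 24296], [51, 2, 24258, 16189, 24296], [29, 2, 24300, 24260], [0, 0], [59, 1, 16191, 24304], [127, 2, 24305, 16200, 24304], [115, 7, 24308, 24306, 16187, 9406, 2496, 6100, 16142, 24178], [0, 0], [145, 1, 16241, 16186, 24312], [152, 2, 16847, 16204, 24312], [151, 2, 24316, 16851, 16204], [0, 0], [33, 1, 24320], [0, 0], [35, 1, 24324], [74, 3, 20865, 18775, 18791, 18793, 18794, 24324], [137, 2, 24325, 16213, 24324], [129, 8, 24330, 24328, 20861, 12352, 9228, 1331, 2678, 6630, 16233], [0, 0], [59, 1, 16210, 24334], [0, 0], [148, 2, 16241, 16206, 24338], [0, 0], [31, 1, 24342], [0, 0], [35, 1, 24346], [0, 0], [37, 1, 24350], [57, 2, 16238, 16214, 24350], [33, 1, 24354], [0, 0], [59, 1, 16218, 24358], [59, 2, 24360, 24358], [85, 2, 24359, 16221,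 24358], [99, 2, 24359, 16223, 24358], [113, 2, 24359, 16225, 24358], [127, 2, 24359, 16227, 24358], [141, 2, 24359, 16229, 24358], [0, 0], [150, 2, 16241, 16214, 24374], [0, 0], [33, 1, 24378], [47, 0, 24380, 16232, 16814], [0, 0], [37, 1, 24384], [51, 0, 24386, 16232, 16830], [0, 0], [59, 1, 16234, 24390], [74, 4, 24209, 24210, 16185, 16183, 16230, 24390], [50, 3, 24394, 24184, 24243], [152, 1, 24394, 24183, 24170]]
def dJ61 : List (List ℕ) := [[0, 0], [35, 1, 24400], [0, 0], [153, 1, 16241, 16239, 24404], [0, 0], [35, 1, 24408], [49, 2, 21338, 16282, 24408], [51, 3, 24412, 17182, 16876], [37, 1, 24414], [0, 0], [37, 1, 24418], [45, 2, 16880, 16870, 24414, 24410, 24418], [57, 2, 16262, 16252, 24418], [87, 1, 16368, 22689, 16252, 24418, 24422, 16882, 22828, 19435, 23174, 11721, 4585, 4591, 11759, 13463, 19896], [13, 0, 19899, 24426], [14, 0, 19896, 24426], [87, 2, 24424, 16262, 22686, 16371, 24430, 11757, 4589, 4597, 11725, 23173, 19449, 13451, 22829, 16884], [101, 0, 23129, 16728, 16643, 22990, 23908, 22683, 24430, 22443, 14237, 14253,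 14313, 22348, 18491, 18492], [155, 1, 16364, 16374, 24430, 22459], [3, 0, 19373, 24436], [4, 0, 22453, 24436], [5, 0, 17501, 24436], [6, 0, 17498, 24436], [7, 0, 22935, 24436], [8, 0, 22937, 24436], [27, 0, 22457, 24436], [28, 0, 22459, 24436], [101, 8, 16693, 6503, 22982, 6500, 23881, 16287, 10480, 16362, 24438, 19368, 16033, 17596, 22357, 22352, 19819], [13, 0, 19819, 24454], [14, 0, 19816, 24454], [116, 7, 16719, 15970, 16692, 24458, 19796, 23032, 13742, 21385], [129, 2, 17576, 7168, 24445, 16364, 16257, 23912, 16699, 24456, 19796], [155, 3, 23148, 24456, 22345], [74, 3, 23421, 18494, 24464, 17359, 17357, 17374], [116, 8, 18581, 15818, 18491, 24464, 17357, 7047, 10624, 10977, 16442], [13, 0, 18583, 24469], [14, 0, 18580, 24469], [130, 9, 21550, 23019, 18494, 24464, 23904, 22685, 24430, 22438, 17583], [60, 2, 17593, 24474], [156, 3, 17576, 17580, 24474], [145, 3, 23005, 21549, 24478], [148, 0, 23034, 23011, 24478], [116, 2, 16439, 6349, 10518, 10661, 7166, 17577, 17579, 24480], [60, 2, 19519, 24484], [59, 1, 17380, 24466], [33, 1,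 24424], [47, 0, 24424, 16264, 16360], [0, 0], [0, 0], [35, 1, 24496], [43, 2, 16916, 16884, 24432, 24424, 24496], [53, 2, 24498, 23928, 24496], [41, 5, 24502, 24500, 23236, 23181, 23238], [0, 0], [59, 1, 16284, 24506], [0, 0], [29, 1, 23938, 24510], [39, 1, 16695, 23914, 16256, 16334, 24510], [47, 1, 23938, 23933, 24510], [41, 0, 24516, 16648, 22983, 6502, 23921], [148, 1, 17369, 23145, 24518], [0, 0], [35, 1, 24522], [53, 2, 16352, 16334, 24522], [31, 1, 24526], [0, 0], [37, 1, 24530], [55, 2, 16356, 16334, 24530], [57, 2, 24532, 23933, 24530], [41, 0, 24536, 24534, 16358, 23899, 16360], [0, 0], [59, 1, 16338, 24540], [0, 0], [148, 2, 16367, 16334, 24544], [0, 0], [33, 1, 24548], [43, 1, 16378, 6276, 6270, 16350, 24548], [47, 2, 21468, 21352, 24548], [88, 7, 19525, 19521, 19535, 19553, 19571, 23180, 23155, 17003, 21328, 16400, 16360, 16356, 16350, 24548], [74, 2, 24556, 19077, 11762, 24429, 16373, 22684], [151, 2, 24409, 22721, 24558], [152, 1, 24409, 22715, 24558], [0, 0], [150, 2, 24563, 24550, 24564], [152, 2, 16367, 16350, 24564],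 [151, 2, 24568, 16375, 16350], [0, 0], [0, 0], [146, 2, 22712, 21330, 24574], [150, 2, 16405, 16360, 24574], [154, 2, 16367, 16354, 24574], [153, 2, 24580, 16375, 16354], [0, 0], [43, 2, 19844, 11750, 22919, 24449, 24584], [53, 2, 17514, 24445, 24584], [151, 2, 19835, 24453, 24584], [152, 1, 19835, 24451, 24584], [0, 0], [37, 1, 24594], [55, 2, 17524, 24445, 24594], [0, 0], [153, 2, 24419, 22721, 24600], [154, 1, 24419, 22715, 24600], [146, 0, 24604, 24493, 24582], [0, 0], [35, 1, 24608], [45, 1, 16400, 6282, 6274, 16382, 24608], [53, 2, 24610, 23927, 24608], [151, 2, 24497, 22711, 24608], [152, 1, 24497, 22707, 24608], [150, 0, 24618, 24505, 22752], [55, 3, 24614, 24612, 23931], [0, 0], [0, 0], [147, 1, 24627, 23930, 24626], [151, 1, 16405, 16401, 24626], [153, 1, 24619, 24623, 24626], [154, 2, 24619, 24612, 24626], [153, 2, 24634, 24617, 24612], [0, 0], [31, 1, 24638], [143, 2, 19016, 8492, 6248, 6295, 23901, 16409, 16405, 16402, 24638], [37, 1, 24642], [153, 0, 24642, 19015, 19013], [154, 3, 24642, 19021, 19013], [0, 0], [55, 2, 24644,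 24640, 24650], [147, 0, 24652, 19015, 19005], [148, 3, 24652, 19021, 19005], [0, 0], [147, 1, 24648, 24639, 24658], [153, 1, 24656, 24651, 24658], [156, 2, 16405, 16402, 24658], [155, 2, 24664, 16411, 16402], [0, 0], [29, 1, 17378, 24668], [49, 1, 23129, 23130, 24668], [101, 2, 24554, 21468, 23935, 16627, 14913, 10920, 4687, 9860, 1233, 2983, 10971, 10974, 16418, 24668], [101, 9, 24549, 21353, 23936, 16627, 14926, 14914, 10920, 4684, 1578, 10326, 2984, 10971, 16421, 24668], [53, 3, 24674, 24552, 23905], [0, 0], [33, 1, 24680], [0, 0], [73, 2, 21827, 13969, 10094, 10030, 16430, 24684], [0, 0], [145, 1, 16467, 16442, 24688], [151, 1, 17411, 16447, 24688], [156, 2, 18585, 24473, 24688], [0, 0], [35, 1, 24696], [73, 3, 20175, 18069, 11182, 18078, 18084, 24696], [0, 0], [59, 1, 16454, 24702], [0, 0], [148, 2, 16467, 16450, 24706], [147, 2, 24708, 16473, 16450], [0, 0], [59, 1, 16460, 24712], [74, 4, 23001, 24484, 16441, 16439, 16456, 24712], [85, 2, 24713, 16463, 24712], [141, 2, 24713, 16465, 24712], [151, 2, 24716, 21573, 21558], [152,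 1, 24716, 21567, 21558], [148, 2, 23433, 23053, 24724], [0, 0], [53, 1, 20058, 16492, 24728], [35, 1, 24730], [0, 0], [33, 1, 24734], [47, 2, 16500, 16474, 24734], [65, 2, 24735, 16481, 24734], [79, 2, 24735, 16483, 24734], [93, 2, 24735, 16485, 24734], [107, 2, 24735, 16487, 24734], [121, 2, 24735, 16489, 24734], [135, 2, 24735, 16491, 24734], [29, 2, 24738, 20148], [0, 0], [37, 1, 24754], [51, 2, 16516, 16474, 24754], [69, 2, 24755, 16481, 24754], [83, 2, 24755, 16483, 24754], [97, 2, 24755, 16485, 24754], [111, 2, 24755, 16487, 24754], [125, 2, 24755, 16489, 24754], [139, 2, 24755, 16491, 24754], [29, 2, 24758, 20154], [0, 0], [59, 1, 16480, 24774], [74, 4, 24034, 20099, 11948, 11942, 16492, 24774], [0, 0], [152, 2, 20079, 16492, 24780], [0, 0], [30, 1, 18270, 24784], [0, 0], [55, 2, 16516, 16494, 24788], [0, 0], [0, 0], [31, 1, 24794], [0, 0]]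
def dJ62 : List (List ℕ) := [[35, 1, 24798], [0, 0], [37, 1, 24802], [57, 2, 16516, 16498, 24802], [33, 1, 24806], [0, 0], [59, 1, 16502, 24810], [59, 2, 24812, 24810], [85, 2, 24811, 16505, 24810], [99, 2, 24811, 16507, 24810], [113, 2, 24811, 16509, 24810], [127, 2, 24811, 16511, 24810], [141, 2, 24811, 16513, 24810], [0, 0], [150, 2, 16531, 16498, 24826], [0, 0], [35, 1, 24830], [0, 0], [59, 1, 16518, 24834], [0, 0], [154, 2, 16531, 16514, 24838], [0, 0], [31, 1, 24842], [0, 0], [33, 1, 24846], [0, 0], [59, 1, 16534, 24850], [0, 0], [146, 2, 16605, 16532, 24854], [0, 0], [0, 0], [0, 0], [59, 1, 16551, 24862], [59, 2, 24864, 24862], [85, 2, 24863, 16554, 24862], [99, 2, 24863, 16556, 24862], [113, 2, 24863, 16558, 24862], [127, 2, 24863, 16560, 24862], [141, 2, 24863, 16562, 24862], [0, 0], [152, 2, 20053, 16564, 24878], [0, 0], [61, 2, 24883, 16571, 24882], [130, 3, 20307, 12055, 4819, 4695, 9425, 10037, 10045, 16569, 24882], [60, 2, 24885, 24886], [0, 0], [0, 0], [33, 1, 24892], [65, 2, 24893, 16571, 24892], [79, 2, 24893, 16573,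 24892], [93, 2, 24893, 16575, 24892], [107, 2, 24893, 16577, 24892], [121, 2, 24893, 16579, 24892], [135, 2, 24893, 16581, 24892], [0, 0], [35, 1, 24908], [53, 2, 16584, 16566, 24908], [31, 1, 24912], [129, 3, 22125, 14198, 9750, 1591, 4700, 9202, 11906, 16587, 24914], [0, 0], [37, 1, 24918], [55, 2, 16602, 16566, 24918], [31, 1, 24922], [0, 0], [59, 1, 16570, 24926], [0, 0], [148, 2, 16605, 16566, 24930], [0, 0], [33, 1, 24934], [65, 2, 24935, 16589, 24934], [79, 2, 24935, 16591, 24934], [93, 2, 24935, 16593, 24934], [107, 2, 24935, 16595, 24934], [121, 2, 24935, 16597, 24934], [135, 2, 24935, 16599, 24934], [47, 0, 24936, 16586, 20032], [0, 0], [37, 1, 24952], [51, 0, 24954, 16586, 20048], [0, 0], [59, 1, 16588, 24958], [127, 2, 24959, 16597, 24958], [115, 7, 24962, 24960, 16586, 11908, 9425, 6450, 16532, 24850], [0, 0], [145, 1, 20053, 16587, 24966], [0, 0], [115, 1, 20158, 11968, 10984, 6020, 14912, 16626, 16624, 24970], [73, 4, 24972, 20160, 20158, 16477, 16478, 20075], [0, 0], [152, 2, 16641, 16618, 24976], [0, 0], [59, 1, 16634,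 24980], [0, 0], [153, 1, 16641, 16631, 24984], [0, 0], [30, 1, 24087, 24988], [73, 2, 16753, 6511, 6496, 10996, 16636, 24988], [35, 1, 24992], [0, 0], [31, 1, 24996], [0, 0], [33, 1, 25000], [0, 0], [35, 1, 25004], [49, 2, 24994, 24989, 25004], [73, 3, 19975, 16075, 16081, 24080, 24087, 25004], [0, 0], [59, 1, 16650, 25012], [141, 2, 25013, 16661, 25012], [129, 8, 25016, 25014, 24513, 24514, 23142, 10076, 6372, 6529, 16685], [147, 2, 16647, 16682, 25018], [0, 0], [35, 1, 25022], [0, 0], [59, 1, 16674, 25026], [0, 0], [145, 1, 24985, 16673, 25030], [146, 2, 16791, 16676, 25030], [149, 1, 16791, 22985, 25030], [150, 2, 16791, 22987, 25030], [153, 1, 16683, 16671, 25030], [154, 2, 16683, 16668, 25030], [153, 2, 25042, 16689, 16668], [0, 0], [0, 0], [35, 1, 25048], [49, 2, 16704, 16690, 25048], [0, 0], [37, 1, 25054], [51, 2, 16712, 16690, 25054], [57, 2, 16712, 23921, 25054], [154, 1, 17383, 23145, 25054], [0, 0], [49, 2, 25050, 16695, 25064], [151, 2, 24679, 23148, 25064], [152, 1, 24679, 23150, 25064], [146, 0, 25070, 24669, 23134], [148,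 0, 25070, 24676, 24560], [0, 0], [37, 1, 25076], [51, 2, 25056, 16695, 25076], [55, 2, 24420, 23912, 25076], [57, 2, 25078, 23916, 25076], [41, 0, 25084, 25082, 24424, 23928, 24490], [47, 0, 25084, 25080, 25060], [0, 0], [150, 1, 24681, 23134, 25090], [0, 0], [55, 2, 16750, 16708, 25094], [31, 1, 25096], [0, 0], [146, 2, 25063, 25058, 25100], [148, 2, 16791, 16716, 25100], [154, 2, 16727, 16710, 25100], [153, 2, 25106, 16733, 16710], [0, 0], [30, 1, 24460, 25110], [75, 0, 25111, 16722, 25110], [117, 0, 25111, 16724, 25110], [116, 8, 25116, 25112, 21383, 12853, 13773, 21546, 24476, 17582], [74, 2, 17774, 16017, 17535, 25118, 25114, 25112], [155, 0, 17528, 17536, 25118], [35, 1, 25120], [0, 0], [31, 1, 25126], [0, 0], [146, 2, 25123, 25111, 25130], [155, 1, 16727, 16721, 25130], [177, 2, 25131, 16723, 25130], [0, 0], [37, 1, 25138], [57, 2, 16750, 16744, 25138], [43, 5, 25142, 23854, 23224, 14737, 23709], [35, 1, 25144], [152, 1, 23697, 23712, 25144], [0, 0], [143, 4, 23942, 14914, 13998, 14004, 16428, 23137, 16706, 16748, 25150], [0,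 0], [29, 1, 25008, 25154], [49, 1, 24991, 24992, 25154], [35, 1, 25158], [0, 0], [31, 1, 25162], [0, 0], [33, 1, 25166], [0, 0], [156, 2, 16769, 16752, 25170], [0, 0], [153, 1, 23716, 23861, 25174], [0, 0], [0, 0], [30, 1, 25179, 25180], [0, 0], [0, 0], [33, 1, 25186], [0, 0], [35, 1, 25190], [0, 0], [37, 1, 25194], [0, 0]]
def dJ63 : List (List ℕ) := [[156, 2, 16791, 16774, 25198], [0, 0], [31, 1, 25202], [0, 0], [51, 2, 16832, 16796, 25206], [29, 2, 25208, 24388], [0, 0], [59, 1, 16802, 25212], [74, 4, 24310, 24305, 16194, 16188, 16806, 25212], [115, 1, 24238, 16173, 16170, 6214, 6630, 16796, 16804, 25212], [0, 0], [146, 2, 16847, 16796, 25220], [152, 2, 24202, 16806, 25220], [0, 0], [61, 2, 25227, 16813, 25226], [130, 3, 19339, 18979, 18977, 8463, 6214, 10047, 10055, 16811, 25226], [60, 2, 25229, 25230], [0, 0], [0, 0], [55, 2, 16832, 16808, 25236], [31, 1, 25238], [0, 0], [31, 1, 25242], [0, 0], [35, 1, 25246], [0, 0], [37, 1, 25250], [57, 2, 16832, 16814, 25250], [69, 2, 25251, 16819, 25250], [83, 2, 25251, 16821, 25250], [97, 2,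 25251, 16823, 25250], [111, 2, 25251, 16825, 25250], [125, 2, 25251, 16827, 25250], [139, 2, 25251, 16829, 25250], [33, 1, 25254], [0, 0], [59, 1, 16818, 25270], [0, 0], [150, 2, 16847, 16814, 25274], [0, 0], [35, 1, 25278], [0, 0], [59, 1, 16834, 25282], [0, 0], [154, 2, 16847, 16830, 25286], [0, 0], [48, 2, 24480, 23245, 25290], [34, 1, 25292], [42, 5, 25292, 24463, 23039, 14826, 23225], [54, 2, 25099, 23857, 25296], [0, 0], [35, 1, 25300], [53, 2, 16872, 16866, 25300], [55, 3, 25304, 24414, 25074], [0, 0], [37, 1, 25308], [55, 2, 16880, 16866, 25308], [0, 0], [150, 1, 21317, 22755, 25314], [152, 0, 25316, 16975, 22521], [154, 0, 25316, 21323, 24570], [0, 0], [73, 1, 17208, 6847, 6837, 16876, 16874, 25322], [0, 0], [33, 1, 25326], [0, 0], [37, 1, 25330], [57, 2, 16898, 16888, 25330], [154, 1, 16981, 22521, 25330], [150, 0, 25336, 16989, 22541], [152, 0, 25336, 21325, 24582], [0, 0], [35, 1, 25342], [43, 2, 24630, 24579, 25340, 25334, 25342], [45, 1, 16916, 6690, 6680, 16896, 25342], [49, 2, 17228, 16902, 25342], [53, 2, 19106, 22539,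 25342], [151, 2, 16997, 22543, 25342], [152, 1, 16997, 22541, 25342], [146, 0, 25356, 17005, 22752], [150, 0, 25356, 21349, 24636], [41, 4, 25346, 24628, 25360, 25352, 23183], [0, 0], [143, 1, 24406, 16242, 8495, 8498, 15539, 6722, 6736, 22541, 25364], [155, 2, 17007, 22543, 25364], [156, 1, 17007, 22541, 25364], [0, 0], [73, 1, 17298, 6885, 6883, 16920, 16918, 25372], [74, 4, 17285, 6885, 10617, 6693, 16914, 25372], [36, 1, 25376], [0, 0], [35, 1, 25380], [73, 3, 24409, 16256, 10478, 16362, 24440, 25380], [151, 2, 19077, 16957, 25380], [152, 1, 19077, 16959, 25380], [146, 0, 25388, 19833, 24593], [0, 0], [153, 2, 19081, 16957, 25392], [154, 1, 19081, 16959, 25392], [150, 0, 25396, 19099, 16967], [0, 0], [59, 1, 16952, 25400], [85, 2, 25401, 16955, 25400], [0, 0], [47, 1, 23317, 23322, 25406], [146, 1, 23295, 23301, 25406], [148, 0, 25410, 23347, 23343], [53, 1, 25152, 23948, 25412], [35, 1, 25414], [0, 0], [35, 1, 25418], [53, 2, 16976, 16970, 25418], [55, 3, 25422, 21318, 24528], [0, 0], [37, 1, 25426], [55, 2, 16982, 16970, 25426],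 [53, 3, 25430, 21326, 24538], [0, 0], [0, 0], [30, 1, 25435, 25436], [52, 2, 18794, 17029, 25436], [73, 2, 17249, 6881, 6742, 10964, 17006, 25436], [116, 2, 19941, 11805, 11519, 22827, 6741, 17009, 17019, 25436], [35, 1, 25442], [38, 1, 25440], [0, 0], [33, 1, 25450], [57, 1, 24322, 17026, 25450], [65, 2, 25451, 17011, 25450], [79, 2, 25451, 17013, 25450], [93, 2, 25451, 17015, 25450], [107, 2, 25451, 17017, 25450], [121, 2, 25451, 17019, 25450], [135, 2, 25451, 17021, 25450], [37, 1, 25454], [0, 0], [35, 1, 25470], [49, 2, 25446, 25437, 25470], [53, 2, 24402, 17024, 25470], [31, 1, 25476], [0, 0], [57, 2, 17052, 17042, 25480], [33, 1, 25482], [47, 0, 25482, 17054, 17090], [0, 0], [59, 1, 17048, 25488], [0, 0], [35, 1, 25492], [49, 2, 19726, 22608, 25492], [29, 2, 25496, 23234], [0, 0], [55, 2, 17086, 17070, 25500], [57, 2, 17160, 17076, 25500], [33, 1, 25504], [0, 0], [59, 1, 17082, 25508], [0, 0], [149, 1, 22626, 17089, 25512], [150, 2, 22626, 17090, 25512], [151, 1, 25513, 22957, 25512], [153, 1, 17093, 17087, 25512], [154, 2, 17093,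 17084, 25512], [0, 0], [35, 1, 25524], [43, 2, 25526, 25517, 25518, 25514, 25524], [45, 1, 17112, 6798, 6788, 17102, 25524], [152, 1, 17111, 22625, 25524], [0, 0], [59, 1, 17116, 25534], [0, 0], [0, 0], [73, 2, 24573, 21327, 16984, 11060, 17194, 25540], [35, 1, 25542], [0, 0], [49, 2, 25544, 25541, 25546], [0, 0], [49, 2, 17208, 17202, 25550], [29, 2, 25552, 25325], [0, 0], [146, 2, 17211, 17202, 25556], [145, 2, 25558, 17217, 17202], [0, 0], [35, 1, 25562], [0, 0], [0, 0], [0, 0], [150, 2, 17211, 17204, 25570], [149, 2, 25572, 17217, 17204], [0, 0], [155, 2, 17249, 22645, 25576], [156, 1, 17249, 22643, 25576], [0, 0], [145, 2, 17271, 22649, 25582], [146, 1, 17271, 22647, 25582], [0, 0], [30, 1, 25583, 25588], [129, 2, 21002, 12451, 12528, 19757, 19748, 17106, 10960, 17234, 25588], [145, 0, 17285, 22647, 25588], [146, 3, 17285, 22649, 25588], [31, 1, 25592]]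
def dJ64 : List (List ℕ) := [[0, 0], [147, 2, 17289, 22649, 25600], [0, 0], [149, 2, 17293, 22649, 25604], [150, 1, 17293, 22647, 25604], [0, 0], [35, 1, 25610], [0, 0], [29, 1, 25474, 25614], [49, 1, 25439, 25442, 25614], [35, 1, 25618], [73, 3, 19951, 19940, 19942, 25445, 25438, 25620], [0, 0], [31, 1, 25624], [0, 0], [33, 1, 25628], [0, 0], [37, 1, 25632], [0, 0], [31, 1, 25636], [0, 0], [33, 1, 25640], [47, 2, 17294, 17270, 25640], [0, 0], [35, 1, 25646], [49, 2, 17298, 17270, 25646], [0, 0], [37, 1, 25652], [51, 2, 22730, 17270, 25652], [0, 0], [59, 1, 17272, 25658], [115, 1, 19586, 11580, 22829, 6692, 6884, 17270, 17280, 25658], [141, 2, 25659, 17283, 25658], [51, 3, 25662, 19596, 20991], [73, 4, 25662, 19588, 19586, 11591, 11798, 19937], [36, 1, 25668], [37, 1, 25666], [0, 0], [147, 2, 25593, 25594, 25674], [0, 0], [47, 2, 25642, 17287, 25678], [29, 2, 25680, 25644], [0, 0], [51, 2, 25654, 17287, 25684], [29, 2, 25686, 25656], [0, 0], [53, 2, 17298, 17288, 25690], [31, 1, 25692], [0, 0], [31, 1, 25696], [0, 0], [73, 1, 25671,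 25659, 25649, 25650, 17300, 25700], [0, 0], [39, 2, 23364, 14504, 16025, 17317, 25704], [148, 1, 23275, 17322, 25704], [0, 0], [29, 1, 21914, 25710], [49, 1, 21873, 21874, 25710], [35, 1, 25714], [0, 0], [31, 1, 25718], [143, 2, 17338, 13966, 13948, 13970, 16002, 17355, 17353, 17336, 25718], [37, 1, 25722], [0, 0], [33, 1, 25726], [0, 0], [156, 2, 17353, 17336, 25730], [0, 0], [154, 1, 25077, 23149, 25734], [146, 0, 25736, 25089, 25108], [148, 0, 25736, 25087, 24605], [0, 0], [53, 2, 17376, 17368, 25742], [31, 1, 25744], [0, 0], [37, 1, 25748], [55, 2, 17384, 17368, 25748], [0, 0], [33, 1, 25754], [43, 1, 24682, 23133, 23924, 17374, 25754], [35, 1, 25758], [47, 0, 25756, 17378, 24680], [0, 0], [37, 1, 25764], [87, 5, 21556, 13771, 5375, 5521, 13379, 7079, 16417, 16413, 13511, 16418, 24680, 25760, 25756, 25764], [53, 0, 25768, 23059, 23324], [55, 3, 25770, 25766, 25746], [45, 4, 25750, 25742, 25772, 23326, 23328], [35, 1, 25774], [0, 0], [53, 2, 25774, 25752, 25778], [55, 3, 25780, 23330, 23051], [57, 2, 21564, 21554, 25782], [0, 0],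 [31, 1, 25786], [0, 0], [73, 1, 18568, 24471, 16449, 17400, 17406, 25790], [115, 1, 24488, 17378, 16420, 10970, 7086, 17400, 17408, 25790], [47, 3, 25794, 23414, 23584], [51, 3, 25794, 23410, 22234], [73, 4, 25794, 23416, 24488, 24671, 24672, 24435], [54, 1, 19846, 22343, 25800], [151, 0, 19802, 22345, 25800], [152, 3, 19802, 22347, 25800], [37, 1, 25798], [33, 1, 25796], [0, 0], [31, 1, 25812], [0, 0], [33, 1, 25816], [47, 2, 17462, 17414, 25816], [0, 0], [49, 2, 17478, 17414, 25822], [29, 2, 25824, 21841], [0, 0], [37, 1, 25828], [51, 2, 17494, 17414, 25828], [0, 0], [59, 1, 17416, 25834], [0, 0], [146, 2, 17497, 17414, 25838], [0, 0], [31, 1, 25842], [63, 2, 25843, 17432, 25842], [129, 3, 20375, 12072, 9210, 1243, 2992, 9494, 7122, 17428, 25842], [59, 1, 25846, 25848], [0, 0], [33, 1, 25852], [47, 2, 25818, 17431, 25852], [29, 2, 25856, 25820], [0, 0], [37, 1, 25860], [51, 2, 25830, 17431, 25860], [29, 2, 25864, 25832], [0, 0], [59, 1, 17433, 25868], [0, 0], [145, 1, 17497, 17428, 25872], [0, 0], [130, 3, 24859, 16547, 6451, 6341,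 10026, 10111, 10119, 17447, 25876], [0, 0], [30, 1, 25877, 25880], [0, 0], [33, 1, 25884], [0, 0], [35, 1, 25888], [53, 2, 17478, 17444, 25888], [31, 1, 25892], [0, 0], [37, 1, 25896], [55, 2, 17494, 17444, 25896], [143, 9, 18284, 7604, 3242, 10160, 506, 2986, 7122, 17444, 25896], [155, 1, 25902, 18283, 18298], [156, 1, 18283, 18302, 25904], [31, 1, 25900], [0, 0], [59, 1, 17448, 25910], [0, 0], [153, 1, 25907, 25897, 25914], [154, 2, 25907, 25898, 25914], [0, 0], [31, 1, 25920], [0, 0], [35, 1, 25924], [0, 0], [37, 1, 25928], [57, 2, 17494, 17460, 25928], [33, 1, 25932], [0, 0], [59, 1, 17464, 25936], [0, 0], [150, 2, 17497, 17460, 25940], [0, 0], [33, 1, 25944], [0, 0], [37, 1, 25948], [0, 0], [59, 1, 17480, 25952], [0, 0], [152, 2, 17497, 17476, 25956], [0, 0], [147, 1, 25907, 25909, 25960], [148, 2, 25907, 25900, 25960], [153, 1, 17497, 17495, 25960], [0, 0], [57, 2, 17524, 17502, 25968], [33, 1, 25970], [0, 0], [59, 1, 17508, 25974], [0, 0], [33, 1, 25978], [43, 1, 23621, 23622, 17504, 17512, 25978], [53, 0, 25982, 23578, 23580],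 [0, 0], [74, 4, 24481, 17575, 11113, 7168, 17512, 25986], [115, 1, 24714, 16458, 11096, 7036, 17312, 17520, 17518, 25986], [73, 4, 25990, 24718, 24714, 17403, 17404, 24486], [54, 1, 19521, 19517, 25992], [32, 1, 25994], [56, 0, 25994, 23161, 25996]]
def dJ65 : List (List ℕ) := [[0, 0], [146, 3, 25113, 25122, 26000], [151, 1, 26002, 25125, 17780], [0, 0], [49, 2, 26004, 26001, 26006], [74, 3, 24679, 23129, 25135, 25137, 25132, 26006], [0, 0], [51, 2, 17642, 17562, 26012], [57, 2, 17566, 17554, 26012], [153, 2, 23519, 22411, 26012], [154, 1, 23519, 22413, 26012], [152, 0, 26020, 23521, 23814], [47, 0, 26016, 17570, 25972], [0, 0], [35, 1, 26026], [49, 2, 25993, 24481, 26026], [29, 2, 26030, 25990], [51, 3, 26030, 25999, 25990], [37, 1, 26034], [0, 0], [35, 1, 26038], [49, 2, 23429, 17606, 26038], [151, 2, 22303, 17603, 26038], [0, 0], [37, 1, 26046], [51, 2, 23456, 17606, 26046], [57, 2, 17610, 17596, 26046], [153, 2, 22317, 17603, 26046], [0, 0], [146, 1, 20592, 17629, 26056], [151, 3, 26058, 20596, 20850], [0, 0], [43, 1, 17676, 7180,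 7174, 17634, 26062], [150, 1, 23629, 22394, 26062], [154, 0, 26066, 23635, 23658], [0, 0], [0, 0], [30, 1, 26071, 26072], [0, 0], [31, 1, 26076], [133, 2, 26077, 17665, 26076], [0, 0], [0, 0], [0, 0], [0, 0], [145, 1, 24590, 23194, 26088], [146, 2, 25386, 23197, 26088], [148, 2, 17749, 17700, 26088], [152, 2, 19375, 17706, 26088], [0, 0], [31, 1, 26098], [0, 0], [35, 1, 26102], [49, 2, 23400, 17726, 26102], [29, 2, 26106, 23402], [51, 3, 26106, 23404, 23584], [37, 1, 26110], [0, 0], [37, 1, 26114], [45, 2, 23588, 23580, 26110, 26104, 26114], [57, 2, 17730, 17708, 26114], [33, 1, 26120], [47, 0, 26120, 17732, 17760], [149, 0, 26120, 17739, 25981], [150, 3, 26120, 17741, 25981], [0, 0], [59, 1, 17714, 26130], [0, 0], [145, 1, 17809, 17713, 26134], [149, 1, 17749, 17711, 26134], [150, 2, 17749, 17708, 26134], [154, 2, 26128, 26116, 26134], [56, 3, 26142, 25985, 26113], [153, 2, 26142, 26126, 26116], [148, 1, 26099, 26146, 26145], [148, 0, 26147, 26101, 26149], [53, 1, 26100, 26102, 26150], [147, 0, 26150, 26135, 26101], [151, 3, 26154,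 26104, 26146], [0, 0], [74, 4, 21549, 24476, 17595, 17582, 17736, 26158], [155, 2, 25987, 17738, 26158], [0, 0], [53, 1, 20602, 17747, 26164], [35, 1, 26166], [0, 0], [156, 2, 17749, 17742, 26170], [155, 2, 26172, 17759, 17742], [0, 0], [55, 1, 17784, 17770, 26176], [147, 2, 26085, 17767, 26176], [148, 1, 26085, 17769, 26176], [0, 0], [0, 0], [50, 2, 25112, 25125, 26186], [131, 0, 26187, 17776, 26186], [146, 3, 26008, 17779, 26186], [156, 2, 26192, 26010, 25069], [0, 0], [0, 0], [35, 1, 26198], [53, 2, 17788, 17782, 26198], [31, 1, 26202], [0, 0], [148, 2, 17809, 17782, 26206], [154, 2, 26183, 26178, 26206], [153, 2, 26210, 26181, 26178], [40, 5, 26208, 26137, 26151, 26109, 26203], [145, 2, 26214, 26213, 26196], [0, 0], [147, 1, 26216, 26205, 26218], [150, 2, 26044, 22306, 26218], [152, 2, 17809, 17786, 26218], [0, 0], [0, 0], [30, 1, 26227, 26228], [0, 0], [31, 1, 26232], [63, 2, 26233, 17797, 26232], [77, 2, 26233, 17799, 26232], [91, 2, 26233, 17801, 26232], [105, 2, 26233, 17803, 26232], [119, 2, 26233, 17805, 26232], [133, 2, 26233,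 17807, 26232], [0, 0], [33, 1, 26248], [0, 0], [35, 1, 26252], [0, 0], [37, 1, 26256], [0, 0], [156, 2, 17809, 17792, 26260], [0, 0], [30, 1, 20915, 26264], [48, 2, 20908, 20903, 26264], [50, 2, 20915, 17817, 26264], [0, 0], [37, 1, 26272], [55, 2, 17826, 17812, 26272], [0, 0], [147, 1, 17835, 17815, 26278], [148, 2, 17835, 17812, 26278], [147, 2, 26282, 17839, 17812], [0, 0], [35, 1, 26286], [49, 0, 26288, 17822, 17902], [0, 0], [30, 1, 20506, 26292], [50, 2, 20297, 20300, 26292], [73, 2, 17859, 13332, 7388, 10172, 17828, 26292], [0, 0], [31, 1, 26300], [0, 0], [33, 1, 26304], [0, 0], [37, 1, 26308], [0, 0], [49, 1, 17875, 17846, 26312], [53, 0, 26314, 20918, 26271], [0, 0], [129, 1, 25720, 17338, 7045, 2990, 3174, 7390, 17840, 17844, 26318], [52, 0, 26320, 25725, 21915], [0, 0], [31, 1, 26324], [0, 0], [43, 2, 17904, 7400, 13333, 17848, 26328], [49, 2, 17904, 17852, 26328], [29, 2, 26332, 26290], [33, 1, 26330], [87, 4, 17904, 7400, 3175, 521, 623, 9113, 12949, 621, 519, 13104, 3174, 7398, 17902, 26336], [51, 3, 26334, 26338, 26290],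 [0, 0], [29, 1, 20296, 26342], [49, 1, 26295, 26298, 26342], [0, 0], [37, 1, 26348], [51, 2, 17884, 17868, 26348], [73, 4, 26352, 17890, 17892, 14327, 14510, 23525], [0, 0], [59, 1, 17870, 26356], [141, 2, 26357, 17873, 26356], [129, 8, 26360, 26358, 17869, 7396, 9542, 1585, 5532, 14056, 21870], [31, 1, 26362], [53, 1, 25720, 21876, 26362], [0, 0], [37, 1, 26368], [51, 2, 26350, 17877, 26368], [29, 2, 26372, 26352], [0, 0], [145, 1, 17901, 17874, 26376], [0, 0], [47, 2, 17922, 17912, 26380], [101, 5, 25112, 21383, 13743, 13744, 13746, 5507, 1569, 355, 9532, 522, 3222, 7478, 17912, 26380], [129, 0, 26383, 26384, 25119, 17534, 16012, 14328, 15721, 20600, 20606], [59, 1, 20604, 26386], [0, 0], [35, 1, 26390], [49, 2, 17926, 17912, 26390], [53, 2, 18218, 17916, 26390], [0, 0]]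
def dJ66 : List (List ℕ) := [[53, 2, 20183, 18066, 26398], [39, 0, 26400, 20177, 12004, 10941, 17930], [0, 0], [37, 1, 26404], [55, 2, 17984, 17930, 26404], [31, 1, 26408], [0, 0], [33, 1, 26412], [43, 1, 17964, 7490, 7482, 17938, 26412], [47, 2, 18340, 17942, 26412], [51, 3, 26418, 18348, 18686], [37, 1, 26420], [0, 0], [57, 2, 26420, 26414, 26424], [47, 0, 26426, 18812, 20882], [49, 1, 18708, 20878, 26428], [0, 0], [154, 2, 17955, 17944, 26432], [0, 0], [0, 0], [0, 0], [35, 1, 26440], [0, 0], [155, 1, 17955, 17953, 26444], [156, 2, 17955, 17950, 26444], [155, 2, 26448, 17961, 17950], [0, 0], [31, 1, 26452], [63, 2, 26453, 17969, 26452], [77, 2, 26453, 17971, 26452], [91, 2, 26453, 17973, 26452], [105, 2, 26453, 17975, 26452], [119, 2, 26453, 17977, 26452], [133, 2, 26453, 17979, 26452], [0, 0], [51, 2, 18414, 17980, 26468], [57, 2, 17984, 17962, 26468], [49, 3, 26470, 18416, 18696], [0, 0], [59, 1, 17968, 26476], [0, 0], [150, 2, 18003, 17962, 26480], [149, 2, 26482, 18009, 17962], [0, 0], [35, 1, 26486], [43, 2, 18724, 18694, 26474,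 26472, 26486], [45, 1, 18012, 7498, 7488, 17982, 26486], [49, 2, 18446, 17990, 26486], [47, 3, 26494, 18448, 18726], [0, 0], [59, 1, 17988, 26498], [0, 0], [154, 2, 18003, 17982, 26502], [153, 2, 26504, 18009, 17982], [0, 0], [53, 1, 22284, 17997, 26508], [35, 1, 26510], [0, 0], [152, 2, 22289, 17997, 26514], [155, 1, 18003, 17995, 26514], [156, 2, 18003, 17992, 26514], [155, 2, 26520, 18009, 17992], [0, 0], [0, 0], [59, 1, 18027, 26526], [0, 0], [0, 0], [55, 2, 18044, 18028, 26532], [31, 1, 26534], [0, 0], [148, 2, 18059, 18028, 26538], [147, 2, 26540, 18063, 18028], [0, 0], [150, 2, 18059, 18032, 26544], [149, 2, 26546, 18063, 18032], [0, 0], [156, 2, 20579, 18039, 26550], [155, 2, 26552, 20583, 18039], [0, 0], [0, 0], [59, 1, 18046, 26558], [113, 2, 26559, 18053, 26558], [0, 0], [154, 2, 18059, 18042, 26564], [153, 2, 26566, 18063, 18042], [0, 0], [35, 1, 26570], [0, 0], [35, 1, 26574], [0, 0], [154, 2, 18087, 18074, 26578], [0, 0], [35, 1, 26582], [49, 2, 24698, 18085, 26582], [0, 0], [156, 2, 18087, 18078, 26588], [0, 0], [39, 1,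 18323, 7640, 7546, 18094, 26592], [0, 0], [53, 2, 18100, 18094, 26596], [31, 1, 26598], [0, 0], [0, 0], [148, 2, 18121, 18094, 26604], [0, 0], [73, 1, 26442, 17951, 17941, 18106, 18104, 26608], [0, 0], [0, 0], [30, 1, 26613, 26614], [73, 2, 18367, 7643, 7546, 11188, 18116, 26614], [0, 0], [155, 1, 18121, 18119, 26620], [0, 0], [0, 0], [73, 2, 18477, 7709, 7554, 11194, 18128, 26626], [35, 1, 26628], [0, 0], [31, 1, 26632], [0, 0], [0, 0], [49, 2, 26630, 26627, 26638], [0, 0], [37, 1, 26642], [0, 0], [156, 2, 18145, 18128, 26646], [0, 0], [0, 0], [30, 1, 26651, 26652], [0, 0], [35, 1, 26656], [53, 2, 18156, 18148, 26656], [31, 1, 26660], [0, 0], [0, 0], [148, 2, 18165, 18148, 26666], [147, 2, 26668, 18171, 18148], [0, 0], [146, 2, 23505, 18160, 26672], [152, 2, 18165, 18154, 26672], [151, 2, 26676, 18171, 18154], [0, 0], [154, 2, 18165, 18162, 26680], [153, 2, 26682, 18171, 18162], [0, 0], [37, 1, 26686], [51, 0, 26688, 18182, 18254], [0, 0], [0, 0], [152, 2, 18205, 18178, 26694], [0, 0], [154, 2, 18205, 18184, 26698], [153, 2, 26700,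 18209, 18184], [0, 0], [49, 1, 24785, 18202, 26704], [35, 1, 26706], [0, 0], [40, 2, 20107, 11957, 11940, 18199, 26710], [73, 2, 18267, 7593, 7582, 11204, 18190, 26710], [0, 0], [55, 2, 20092, 18196, 26716], [31, 1, 26718], [0, 0], [147, 1, 20103, 18199, 26722], [152, 2, 24793, 18202, 26722], [156, 2, 18205, 18190, 26722], [0, 0], [49, 2, 18246, 18214, 26730], [0, 0], [51, 2, 18256, 18224, 26734], [29, 2, 26736, 26690], [0, 0], [73, 1, 18318, 7609, 7595, 18224, 18222, 26740], [74, 4, 18307, 7609, 10753, 7584, 18216, 26740], [36, 1, 26744], [0, 0], [145, 1, 26695, 18221, 26748], [0, 0], [145, 1, 26699, 18229, 26752], [0, 0], [48, 2, 18321, 18241, 26756], [34, 1, 26758], [0, 0], [152, 2, 18249, 18244, 26762], [0, 0], [41, 1, 18410, 7676, 7598, 18250, 26766], [0, 0], [35, 1, 26770], [53, 2, 18446, 18264, 26770], [31, 1, 26774], [0, 0], [59, 1, 18260, 26778], [141, 2, 26779, 18263, 26778], [0, 0], [148, 2, 18455, 18264, 26784], [153, 1, 18273, 18257, 26784], [154, 2, 18273, 18254, 26784], [0, 0], [53, 1, 26713, 26714, 26792], [0, 0], [156,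 2, 18273, 18266, 26796]]
def dJ67 : List (List ℕ) := [[0, 0], [0, 0], [33, 1, 26802], [0, 0], [35, 1, 26806], [0, 0], [35, 1, 26810], [49, 2, 18318, 18304, 26810], [29, 2, 26814, 26743], [0, 0], [37, 1, 26818], [0, 0], [0, 0], [0, 0], [31, 1, 26826], [63, 2, 26827, 18310, 26826], [129, 3, 26531, 18030, 11170, 3223, 3228, 10756, 7608, 18306, 26826], [59, 1, 26830, 26832], [0, 0], [51, 2, 26820, 18309, 26836], [0, 0], [146, 2, 26825, 18309, 26840], [0, 0], [0, 0], [35, 1, 26846], [53, 2, 18318, 18312, 26846], [31, 1, 26850], [0, 0], [37, 1, 26854], [0, 0], [33, 1, 26858], [0, 0], [0, 0], [0, 0], [0, 0], [0, 0], [31, 1, 26870], [0, 0], [35, 1, 26874], [0, 0], [31, 1, 26878], [0, 0], [59, 1, 18344, 26882], [0, 0], [152, 2, 18441, 18360, 26886], [0, 0], [49, 1, 26617, 26618, 26890], [35, 1, 26892], [0, 0], [31, 1, 26896], [0, 0], [0, 0], [37, 1, 26902], [0, 0], [0, 0], [0, 0], [31, 1, 26910], [63, 2, 26911, 18383, 26910], [77, 2, 26911, 18385, 26910], [91, 2, 26911, 18387, 26910], [105, 2, 26911, 18389, 26910], [119, 2, 26911, 18391, 26910],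 [133, 2, 26911, 18393, 26910], [0, 0], [33, 1, 26926], [0, 0], [35, 1, 26930], [0, 0], [37, 1, 26934], [69, 2, 26935, 18383, 26934], [83, 2, 26935, 18385, 26934], [97, 2, 26935, 18387, 26934], [111, 2, 26935, 18389, 26934], [125, 2, 26935, 18391, 26934], [139, 2, 26935, 18393, 26934], [0, 0], [156, 2, 18395, 18378, 26950], [0, 0], [145, 1, 18405, 18398, 26954], [0, 0], [150, 2, 18405, 18400, 26958], [0, 0], [0, 0], [152, 2, 18405, 18402, 26964], [0, 0], [0, 0], [30, 1, 26969, 26970], [0, 0], [151, 1, 18933, 18417, 26974], [0, 0], [0, 0], [0, 0], [31, 1, 26982], [0, 0], [33, 1, 26986], [0, 0], [35, 1, 26990], [0, 0], [37, 1, 26994], [0, 0], [156, 2, 18441, 18424, 26998], [0, 0], [0, 0], [30, 1, 27003, 27004], [0, 0], [55, 2, 18466, 18458, 27008], [31, 1, 27010], [0, 0], [148, 2, 18469, 18458, 27014], [147, 2, 27016, 18475, 18458], [0, 0], [35, 1, 27020], [0, 0], [0, 0], [150, 2, 18469, 18462, 27026], [149, 2, 27028, 18475, 18462], [0, 0], [154, 2, 18469, 18464, 27032], [153, 2, 27034, 18475, 18464], [0, 0], [37, 1, 27038], [57, 2, 19752,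 22775, 27038], [153, 2, 19669, 22779, 27038], [154, 1, 19669, 22777, 27038], [150, 0, 27046, 19687, 19760], [0, 0], [45, 2, 22238, 22230, 25798, 25801, 27050], [51, 2, 23438, 18494, 27050], [57, 2, 18498, 18486, 27050], [153, 2, 19809, 22347, 27050], [154, 1, 19809, 22345, 27050], [47, 0, 27056, 18500, 18578], [0, 0], [49, 2, 23514, 18502, 27064], [146, 3, 27066, 26019, 26025], [0, 0], [151, 1, 27068, 27065, 27070], [154, 2, 18515, 18496, 27070], [153, 2, 27074, 18523, 18496], [0, 0], [74, 4, 23819, 14841, 9831, 14577, 18529, 27078], [155, 2, 25975, 22415, 27078], [0, 0], [145, 2, 26071, 23252, 27084], [146, 1, 26071, 23254, 27084], [0, 0], [73, 2, 23611, 18530, 18525, 10212, 18552, 27090], [35, 1, 27092], [0, 0], [31, 1, 27096], [0, 0], [0, 0], [35, 1, 27102], [49, 2, 27094, 27091, 27102], [152, 1, 26083, 23254, 27102], [0, 0], [59, 1, 18570, 27110], [102, 8, 21538, 14976, 11891, 11894, 4798, 10131, 10133, 17751, 26095, 26090, 24586, 25803, 25792, 27110], [145, 0, 27114, 21537, 21381], [146, 3, 27114, 21543, 21381], [0, 0], [145, 1,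 25805, 25792, 27120], [147, 1, 26044, 23258, 27120], [148, 2, 26044, 23257, 27120], [151, 1, 18585, 18569, 27120], [155, 1, 27118, 27111, 27120], [156, 2, 27118, 27112, 27120], [155, 2, 27132, 27116, 27112], [0, 0], [145, 1, 27061, 27063, 27136], [147, 1, 26054, 22332, 27136], [149, 1, 18605, 18577, 27136], [154, 2, 18585, 18572, 27136], [0, 0], [0, 0], [31, 1, 27148], [0, 0], [33, 1, 27152], [0, 0], [35, 1, 27156], [0, 0], [37, 1, 27160], [0, 0], [156, 2, 18605, 18588, 27164], [0, 0], [33, 1, 27168], [47, 2, 18624, 18610, 27168], [0, 0], [146, 2, 18661, 18610, 27174], [148, 2, 18891, 18614, 27174], [147, 2, 27178, 18895, 18614], [0, 0], [47, 2, 27170, 18619, 27182], [29, 2, 27184, 27172], [0, 0], [53, 2, 20871, 18772, 27188], [123, 2, 27189, 18620, 27188], [39, 0, 27190, 20867, 12352, 9909, 18646], [0, 0], [145, 1, 18661, 18616, 27196]]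
def dJ68 : List (List ℕ) := [[146, 2, 27175, 18619, 27196], [145, 2, 27200, 27181, 18619], [0, 0], [31, 1, 27204], [41, 1, 18668, 8016, 8010, 18622, 27204], [63, 2, 27205, 18627, 27204], [77, 2, 27205, 18629, 27204], [91, 2, 27205, 18631, 27204], [105, 2, 27205, 18633, 27204], [119, 2, 27205, 18635, 27204], [133, 2, 27205, 18637, 27204], [33, 1, 27208], [0, 0], [35, 1, 27224], [0, 0], [37, 1, 27228], [57, 2, 18650, 18622, 27228], [33, 1, 27232], [0, 0], [59, 1, 18626, 27236], [0, 0], [150, 2, 18661, 18622, 27240], [0, 0], [33, 1, 27244], [0, 0], [59, 1, 18642, 27248], [0, 0], [152, 2, 18661, 18638, 27252], [151, 2, 27254, 18665, 18638], [0, 0], [35, 1, 27258], [53, 2, 18724, 18654, 27258], [31, 1, 27262], [0, 0], [155, 1, 18661, 18659, 27266], [156, 2, 18661, 18656, 27266], [155, 2, 27270, 18665, 18656], [0, 0], [0, 0], [30, 1, 27275, 27276], [40, 2, 18907, 8141, 8019, 18669, 27276], [0, 0], [53, 2, 18684, 18666, 27282], [31, 1, 27284], [0, 0], [37, 1, 27288], [55, 2, 18690, 18666, 27288], [31, 1, 27292], [0, 0], [59, 1, 18670, 27296],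 [59, 2, 27298, 27296], [85, 2, 27297, 18673, 27296], [99, 2, 27297, 18675, 27296], [113, 2, 27297, 18677, 27296], [127, 2, 27297, 18679, 27296], [141, 2, 27297, 18681, 27296], [0, 0], [148, 2, 18703, 18666, 27312], [0, 0], [149, 1, 18733, 18693, 27316], [0, 0], [0, 0], [0, 0], [0, 0], [152, 2, 18733, 18722, 27326], [151, 2, 27328, 18737, 18722], [0, 0], [0, 0], [35, 1, 27334], [0, 0], [155, 1, 18733, 18731, 27338], [156, 2, 18733, 18728, 27338], [155, 2, 27342, 18737, 18728], [0, 0], [0, 0], [35, 1, 27348], [53, 2, 18756, 18746, 27348], [31, 1, 27352], [0, 0], [59, 1, 18750, 27356], [0, 0], [35, 1, 27360], [0, 0], [150, 2, 18765, 18752, 27364], [149, 2, 27366, 18769, 18752], [0, 0], [37, 1, 27370], [51, 2, 18782, 18770, 27370], [0, 0], [146, 2, 18797, 18770, 27376], [0, 0], [35, 1, 27380], [53, 2, 18844, 18786, 27380], [31, 1, 27384], [0, 0], [147, 1, 18859, 18785, 27388], [153, 1, 18797, 18783, 27388], [0, 0], [31, 1, 27394], [39, 2, 24264, 16187, 16206, 18795, 27394], [49, 3, 27398, 24266, 25226], [73, 4, 27398, 24270, 24272, 19327,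 19332, 25232], [0, 0], [49, 2, 24326, 18795, 27404], [0, 0], [146, 2, 24339, 18795, 27408], [156, 2, 18797, 18788, 27408], [155, 2, 27412, 18801, 18788], [0, 0], [40, 2, 27275, 18667, 8073, 18805, 27416], [32, 1, 27418], [0, 0], [74, 4, 27321, 18699, 10237, 8073, 18806, 27422], [36, 1, 27424], [0, 0], [73, 2, 18929, 8145, 8074, 10258, 18822, 27428], [35, 1, 27430], [0, 0], [31, 1, 27434], [0, 0], [33, 1, 27438], [0, 0], [49, 2, 27432, 27429, 27442], [0, 0], [0, 0], [156, 2, 18839, 18822, 27448], [0, 0], [59, 1, 18848, 27452], [73, 1, 27336, 18729, 18725, 18852, 18850, 27452], [74, 4, 27333, 18729, 10245, 8081, 18842, 27452], [36, 1, 27458], [0, 0], [145, 1, 18959, 18847, 27462], [152, 2, 18859, 18842, 27462], [167, 2, 27463, 18849, 27462], [0, 0], [73, 2, 18955, 8197, 8082, 10266, 18854, 27470], [35, 1, 27472], [0, 0], [31, 1, 27476], [129, 1, 27478, 18856, 8083, 8128, 22623, 22618, 19716, 11772, 19918], [0, 0], [33, 1, 27482], [0, 0], [35, 1, 27486], [49, 2, 27474, 27471, 27486], [0, 0], [37, 1, 27492], [0, 0], [75, 2, 27497, 18863,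 27496], [0, 0], [0, 0], [150, 2, 18867, 18864, 27502], [149, 2, 27504, 18873, 18864], [0, 0], [0, 0], [30, 1, 27509, 27510], [73, 2, 18897, 8123, 8116, 10274, 18874, 27510], [129, 2, 24274, 27399, 27396, 18790, 18774, 18779, 10276, 18874, 27510], [55, 3, 27516, 19322, 18880], [37, 1, 27518], [51, 3, 27513, 27520, 27508], [35, 1, 27514], [0, 0], [49, 2, 27524, 27511, 27526], [53, 2, 18983, 18880, 27526], [31, 1, 27530], [0, 0], [49, 1, 27513, 27514, 27534], [35, 1, 27536], [0, 0], [39, 2, 19336, 18979, 27532, 27528, 27540], [0, 0], [33, 1, 27544], [0, 0], [31, 1, 27548], [0, 0], [33, 1, 27552], [0, 0], [35, 1, 27556], [0, 0], [37, 1, 27560], [0, 0], [156, 2, 18927, 18910, 27564], [0, 0], [0, 0], [31, 1, 27570], [0, 0], [0, 0], [53, 2, 18942, 18936, 27576], [31, 1, 27578], [0, 0], [53, 1, 21006, 18948, 27582], [0, 0], [0, 0], [0, 0], [156, 2, 18959, 18954, 27590], [0, 0], [47, 2, 18964, 18960, 27594], [0, 0]]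
def dJ69 : List (List ℕ) := [[150, 2, 18967, 18962, 27598], [0, 0], [146, 2, 19343, 18979, 27602], [151, 1, 19329, 18982, 27602], [156, 2, 18985, 18976, 27602], [0, 0], [37, 1, 27610], [51, 2, 19012, 18992, 27610], [0, 0], [37, 1, 27616], [51, 2, 27612, 18997, 27616], [29, 2, 27620, 27614], [0, 0], [59, 1, 18999, 27624], [127, 2, 27625, 19000, 27624], [115, 7, 27628, 27626, 18995, 8952, 4388, 4522, 11454, 19318], [0, 0], [37, 1, 27632], [57, 2, 19012, 19006, 27632], [33, 1, 27636], [0, 0], [150, 2, 19015, 19006, 27640], [0, 0], [152, 2, 19015, 19008, 27644], [0, 0], [35, 1, 27648], [45, 1, 19462, 11516, 11278, 19042, 27648], [49, 2, 19912, 19048, 27648], [29, 2, 27654, 19916], [0, 0], [0, 0], [59, 1, 19086, 27660], [0, 0], [0, 0], [73, 2, 26087, 17707, 22447, 11290, 19100, 27666], [0, 0], [59, 1, 19108, 27670], [74, 4, 27481, 19919, 11771, 11775, 19104, 27670], [36, 1, 27674], [54, 3, 27674, 27477, 27489], [0, 0], [35, 1, 27680], [0, 0], [31, 1, 27684], [0, 0], [33, 1, 27688], [47, 2, 19162, 19140, 27688], [0, 0], [37, 1, 27694], [51,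 2, 19184, 19140, 27694], [0, 0], [31, 1, 27700], [53, 1, 19268, 19152, 27700], [63, 2, 27701, 19146, 27700], [77, 2, 27701, 19150, 27700], [129, 3, 21745, 13890, 9714, 5249, 5250, 8642, 11342, 19142, 27700], [59, 1, 27706, 27710], [0, 0], [47, 2, 27690, 19145, 27714], [29, 2, 27716, 27692], [0, 0], [37, 1, 27720], [51, 2, 27696, 19145, 27720], [29, 2, 27724, 27698], [0, 0], [30, 1, 20990, 27728], [0, 0], [35, 1, 27732], [53, 2, 19178, 19154, 27732], [73, 3, 23533, 20965, 12428, 20984, 20990, 27732], [74, 3, 23533, 20965, 20987, 20989, 20990, 27732], [137, 2, 27733, 19159, 27732], [129, 8, 27742, 27740, 23527, 14534, 9766, 1637, 4520, 11424, 19181], [0, 0], [35, 1, 27746], [0, 0], [37, 1, 27750], [57, 2, 19184, 19160, 27750], [33, 1, 27754], [0, 0], [59, 1, 19164, 27758], [0, 0], [150, 2, 19199, 19160, 27762], [0, 0], [33, 1, 27766], [47, 0, 27768, 19180, 19272], [0, 0], [35, 1, 27772], [0, 0], [59, 1, 19186, 27776], [0, 0], [0, 0], [53, 1, 27686, 19264, 27782], [0, 0], [33, 1, 27786], [47, 2, 19274, 19258, 27786], [29, 2, 27790, 27770],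 [0, 0], [61, 2, 27795, 19271, 27794], [130, 3, 21763, 21249, 21245, 12761, 11328, 11427, 11435, 19269, 27794], [60, 2, 27797, 27798], [0, 0], [30, 1, 27795, 27802], [0, 0], [37, 1, 27806], [55, 2, 19290, 19266, 27806], [0, 0], [148, 2, 19293, 19266, 27812], [147, 2, 27814, 19299, 19266], [0, 0], [31, 1, 27818], [0, 0], [35, 1, 27822], [0, 0], [37, 1, 27826], [57, 2, 19290, 19272, 27826], [33, 1, 27830], [0, 0], [59, 1, 19276, 27834], [141, 2, 27835, 19287, 27834], [0, 0], [150, 2, 19293, 19272, 27840], [149, 2, 27842, 19299, 19272], [0, 0], [153, 1, 19293, 19291, 27846], [154, 2, 19293, 19288, 27846], [153, 2, 27850, 19299, 19288], [0, 0], [39, 1, 19316, 11464, 11454, 19300, 27854], [55, 3, 27856, 19314, 19300], [0, 0], [30, 1, 27855, 27860], [40, 2, 27509, 18881, 11460, 19303, 27860], [52, 2, 27862, 27859, 27860], [56, 3, 27866, 27864, 27523], [0, 0], [53, 2, 19306, 19300, 27870], [101, 4, 27872, 19311, 18977, 11338, 12751, 13536, 12763, 5435, 1637, 8810, 4972, 9909, 18646, 27194], [47, 2, 27246, 27194, 27874], [49, 1, 27861, 27870,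 27876], [43, 2, 27226, 18624, 18638, 27244, 27878], [53, 0, 27878, 27869, 27538], [41, 5, 27882, 27246, 18640, 18706, 27324], [33, 1, 27884], [47, 2, 27546, 27534, 27886], [33, 1, 27880], [57, 1, 27890, 27867, 27880], [45, 4, 27230, 27224, 27892, 27226, 27228], [43, 4, 27260, 27234, 27894, 27232, 27258], [41, 4, 26490, 27264, 27896, 27262, 26496], [53, 3, 26486, 27898, 26488, 26410], [12, 0, 26407, 27900, 17984], [4, 0, 26403, 27903, 7492], [3, 0, 26394, 27903, 10940], [6, 0, 17930, 27903], [10, 0, 17927, 27903, 7490], [6, 0, 26401, 27905, 7598], [6, 0, 26397, 27907, 12002], [10, 0, 26393, 27907, 10725], [6, 0, 7478, 27911], [8, 0, 17921, 27911, 7482], [12, 0, 17933, 27911, 7496], [3, 0, 20179, 27913, 18183], [4, 0, 18224, 27915], [10, 0, 18219, 27915, 12006], [12, 0, 26735, 27915, 20188], [14, 0, 26741, 27915, 20198], [28, 0, 26749, 27915, 20202], [8, 0, 26381, 27917, 7540], [14, 0, 26389, 27921, 17950], [6, 0, 17936, 27923], [4, 0, 20170, 27925], [10, 0, 20173, 27925, 18180], [14, 0, 24700, 27925, 26692], [3, 0, 7584, 27929], [8, 0,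 18211, 27929, 18070], [12, 0, 18227, 27929, 18074], [28, 0, 18233, 27929, 18086], [3, 0, 26737, 27931], [4, 0, 26738, 27931], [3, 0, 26817, 27933], [4, 0, 26743, 27933], [9, 0, 26746, 27933], [10, 0, 26745, 27933], [3, 0, 26751, 27935], [6, 0, 26385, 27937, 18094], [6, 0, 20603, 27939, 26438], [10, 0, 26169, 27939, 26440], [3, 0, 18068, 27945], [14, 0, 26692, 27946], [4, 0, 18214, 27951], [10, 0, 26731, 27951, 26570], [4, 0, 18230, 27953], [28, 0, 26753, 27953, 26578], [3, 0, 18235, 27955], [4, 0, 25110, 27971, 26592], [10, 0, 26188, 27971, 26596], [14, 0, 25118, 27971, 26602], [28, 0, 25123, 27971, 26604], [6, 0, 26438, 27972]]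
def dJ70 : List (List ℕ) := [[3, 0, 26610, 27974], [9, 0, 26443, 27974], [10, 0, 26440, 27974], [3, 0, 26733, 27983], [3, 0, 26755, 27987], [4, 0, 26592, 27990], [6, 0, 26595, 27990, 25126], [6, 0, 26600, 27992], [10, 0, 26596, 27992], [14, 0, 26602, 27994], [6, 0, 26607, 27996], [5, 0, 25129, 28012], [6, 0, 25126, 28012], [101, 9, 18239, 18243, 18322, 28024, 28010, 18096, 28019, 17583, 17584, 14349, 23290, 23292, 22575, 17213, 25559], [3, 0, 25559, 28026, 18177], [28, 0, 25560, 28026, 18248], [3, 0, 18177, 28028], [8, 0, 18175, 28028, 25573], [10, 0, 26764, 28030, 25550], [8, 0, 25573, 28034], [28, 0, 25574, 28034, 18204], [28, 0, 26762, 28037], [10, 0, 26696, 28040, 25562], [12, 0, 26700, 28040, 25566], [14, 0, 26728, 28040, 25568], [4, 0, 27968, 28045], [4, 0, 28008, 28047], [27, 0, 26702, 28047], [5, 0, 26725, 28049], [10, 0, 26727, 28049], [28, 0, 26722, 28049], [145, 0, 25554, 28042, 28007], [156, 0, 28062, 25323, 22756], [129, 7, 26872, 18336, 18334, 18322, 28022, 16720, 16692, 23914, 24494], [73, 2, 25539, 21351, 16282, 16258,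 24494, 28066], [53, 2, 26876, 26870, 28068], [130, 4, 20610, 17625, 7171, 7164, 17529, 17531, 28020, 18122, 26447], [130, 5, 25008, 16753, 16707, 25072, 26194, 26190, 28014, 18102, 18369, 26899], [5, 0, 26899, 28074], [6, 0, 26896, 28074], [54, 3, 24997, 25007, 28078, 26619], [3, 0, 26614, 28080], [4, 0, 26617, 28080], [9, 0, 26619, 28080], [115, 5, 24704, 18085, 18082, 18080, 27948, 7608, 18304, 26822], [130, 6, 22283, 15839, 7557, 10737, 7539, 27948, 11227, 18315, 26844], [130, 1, 28088, 24703, 16451, 16438, 24486, 19515, 11564, 19455, 19457], [130, 6, 26525, 18023, 7503, 10715, 27918, 3227, 11201, 18151, 26650], [42, 4, 26453, 17963, 27908, 17965, 26455], [130, 6, 26663, 18158, 17993, 10949, 27908, 7492, 11259, 18461, 27002], [0, 0], [30, 1, 27631, 28100], [73, 2, 19341, 11471, 11454, 11456, 19318, 28100], [0, 0], [33, 1, 28106], [0, 0], [51, 2, 24596, 24438, 28110], [57, 2, 19380, 19364, 28110], [153, 2, 22209, 19374, 28110], [154, 1, 22209, 19376, 28110], [148, 0, 28118, 22227, 22280], [0, 0], [53, 2, 19462, 19384, 28122], [151,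 2, 27649, 22762, 28122], [152, 1, 27649, 22764, 28122], [0, 0], [155, 2, 27659, 22762, 28130], [0, 0], [35, 1, 28134], [43, 2, 26157, 26138, 17752, 19414, 28134], [49, 2, 26040, 19416, 28134], [109, 2, 28135, 19411, 28134], [123, 2, 28135, 19413, 28134], [152, 1, 22231, 19420, 28134], [146, 0, 28146, 22235, 23430], [153, 3, 28146, 25798, 25806], [154, 0, 28146, 25809, 25806], [0, 0], [45, 2, 19810, 19800, 28152, 28136, 28154], [51, 2, 26048, 19416, 28154], [55, 2, 19432, 19404, 28154], [57, 2, 22276, 19414, 28154], [153, 2, 22237, 19418, 28154], [154, 1, 22237, 19420, 28154], [152, 0, 28166, 27053, 27058], [41, 0, 28162, 28120, 28114, 19382, 19448], [0, 0], [155, 2, 22259, 19418, 28172], [0, 0], [59, 1, 19436, 28176], [59, 2, 28178, 28176], [85, 2, 28177, 19439, 28176], [99, 2, 28177, 19441, 28176], [113, 2, 28177, 19443, 28176], [127, 2, 28177, 19445, 28176], [141, 2, 28177, 19447, 28176], [0, 0], [150, 2, 19473, 19448, 28192], [0, 0], [0, 0], [73, 1, 19952, 11805, 11801, 19466, 19464, 28198], [74, 4, 19945, 11805, 9373, 11519, 19460,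 28198], [36, 1, 28202], [0, 0], [146, 2, 19939, 19466, 28206], [148, 2, 28129, 28124, 28206], [151, 1, 19473, 19463, 28206], [154, 2, 28126, 27652, 28206], [153, 2, 28214, 28128, 27652], [0, 0], [53, 2, 25494, 22941, 28218], [151, 2, 19911, 22943, 28218], [0, 0], [55, 2, 19534, 19514, 28224], [57, 2, 25310, 23244, 28224], [41, 0, 28228, 25312, 16882, 22594, 19552], [0, 0], [150, 2, 25386, 19530, 28232], [151, 1, 19561, 19523, 28232], [152, 2, 19561, 19520, 28232], [151, 2, 28238, 19567, 19520], [0, 0], [59, 1, 19540, 28242], [0, 0], [146, 2, 28193, 19554, 28246], [153, 1, 19561, 19535, 28246], [0, 0], [73, 2, 19841, 11717, 11574, 11568, 19556, 28252], [35, 1, 28254], [0, 0], [49, 2, 28256, 28253, 28258], [0, 0], [146, 2, 28207, 19580, 28262], [147, 1, 22751, 23239, 28262], [149, 1, 28263, 23180, 28262], [151, 1, 19599, 19571, 28262], [156, 2, 25354, 23154, 28262], [0, 0], [29, 1, 25662, 28274], [51, 1, 27729, 19594, 28274], [0, 0], [35, 1, 28280], [49, 2, 25671, 25662, 28280], [53, 2, 27774, 19592, 28280], [0, 0], [147, 1, 27781, 19591,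 28288], [156, 2, 19599, 19584, 28288], [0, 0], [59, 1, 19666, 28294], [155, 2, 23573, 22787, 28294], [0, 0], [59, 1, 19674, 28300], [0, 0], [0, 0], [30, 1, 28305, 28306], [73, 2, 25509, 17079, 22610, 11644, 19688, 28306], [35, 1, 28310], [0, 0], [31, 1, 28314], [0, 0], [33, 1, 28318], [0, 0], [49, 2, 28312, 28307, 28322], [0, 0], [45, 2, 27040, 18482, 23563, 23557, 28326], [51, 2, 27040, 22772, 28326], [154, 1, 25481, 19709, 28326], [150, 0, 28332, 25485, 19721], [0, 0], [155, 2, 25489, 19707, 28336], [0, 0], [45, 1, 19726, 11666, 11650, 19710, 28340], [151, 2, 25493, 19719, 28340], [152, 1, 25493, 19721, 28340], [146, 0, 28346, 25499, 25533], [148, 0, 28346, 28221, 28222], [0, 0], [146, 2, 28344, 25496, 28352], [154, 2, 28347, 28342, 28352], [153, 2, 28356, 28345, 28342], [0, 0], [51, 1, 21096, 19738, 28360], [0, 0], [73, 2, 25535, 17111, 22612, 11672, 19732, 28364], [146, 3, 21038, 19740, 28364], [35, 1, 28366], [0, 0], [33, 1, 28372], [57, 1, 21120, 19738, 28372], [0, 0], [49, 2, 28370, 28365, 28378], [151, 2, 21143, 19740, 28378],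 [0, 0], [35, 1, 28384], [0, 0], [57, 2, 19780, 19770, 28388], [33, 1, 28390], [0, 0], [37, 1, 28394], [55, 2, 28396, 22949, 28394]]
def dJ71 : List (List ℕ) := [[0, 0], [35, 1, 28400], [43, 2, 23758, 14784, 14829, 23038, 28400], [49, 2, 27128, 22350, 28400], [53, 2, 26028, 24482, 28400], [73, 3, 25049, 16695, 16697, 24456, 19796, 28400], [152, 1, 23421, 23035, 28400], [153, 3, 28412, 23410, 23430], [154, 0, 28412, 23409, 23430], [0, 0], [45, 2, 23456, 23427, 28416, 28402, 28418], [154, 1, 23445, 23035, 28418], [146, 0, 28422, 27055, 27058], [0, 0], [41, 2, 26120, 23191, 19830, 19806, 28426], [150, 1, 25811, 25806, 28426], [152, 0, 28430, 23581, 23606], [0, 0], [0, 0], [73, 2, 28243, 23163, 19536, 11728, 19852, 28436], [35, 1, 28438], [0, 0], [31, 1, 28442], [0, 0], [33, 1, 28446], [0, 0], [35, 1, 28450], [49, 2, 28440, 28437, 28450], [0, 0], [37, 1, 28456], [0, 0], [156, 2, 19869, 19852, 28460], [0, 0], [146, 2, 19881, 19872, 28464], [0, 0], [0, 0], [30, 1, 28469, 28470], [0, 0], [148, 2, 19881, 19874, 28474], [0, 0], [154, 2, 19881,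 19878, 28478], [0, 0], [143, 2, 19920, 19722, 19712, 11660, 22932, 19490, 22942, 19918, 28482], [37, 1, 28484], [0, 0], [35, 1, 28488], [49, 2, 27677, 27481, 28488], [0, 0], [31, 1, 28494], [0, 0], [33, 1, 28498], [0, 0], [35, 1, 28502], [49, 2, 19952, 19940, 28502], [29, 2, 28506, 28201], [0, 0], [37, 1, 28510], [0, 0], [47, 2, 28500, 19947, 28514], [0, 0], [51, 2, 28512, 19947, 28518], [0, 0], [55, 2, 19956, 19948, 28522], [143, 3, 28398, 28396, 22738, 11702, 11821, 11817, 11804, 19948, 28522], [31, 1, 28524], [0, 0], [152, 2, 19959, 19950, 28530], [151, 2, 28532, 19963, 19950], [0, 0], [31, 1, 28536], [53, 1, 24006, 19974, 28536], [35, 1, 28540], [0, 0], [47, 2, 19984, 19968, 28544], [29, 2, 28546, 24150], [0, 0], [37, 1, 28550], [51, 2, 20000, 19968, 28550], [0, 0], [146, 2, 20003, 19968, 28556], [151, 1, 24037, 19973, 28556], [0, 0], [61, 2, 28563, 19981, 28562], [130, 3, 21995, 23104, 23111, 13999, 10920, 11875, 11883, 19979, 28562], [60, 2, 28565, 28566], [0, 0], [30, 1, 28563, 28570], [0, 0], [0, 0], [55, 2, 20000, 19976, 28576],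 [31, 1, 28578], [0, 0], [59, 1, 19980, 28582], [0, 0], [31, 1, 28586], [0, 0], [35, 1, 28590], [0, 0], [37, 1, 28594], [57, 2, 20000, 19982, 28594], [33, 1, 28598], [0, 0], [59, 1, 19986, 28602], [0, 0], [150, 2, 20003, 19982, 28606], [0, 0], [153, 1, 20003, 20001, 28610], [0, 0], [31, 1, 28614], [53, 1, 24844, 20024, 28614], [0, 0], [33, 1, 28620], [47, 2, 20034, 20006, 28620], [65, 2, 28621, 20013, 28620], [79, 2, 28621, 20015, 28620], [93, 2, 28621, 20017, 28620], [107, 2, 28621, 20019, 28620], [121, 2, 28621, 20021, 28620], [135, 2, 28621, 20023, 28620], [29, 2, 28624, 24950], [0, 0], [59, 1, 20012, 28640], [0, 0], [146, 2, 20053, 20006, 28644], [0, 0], [61, 2, 28649, 20031, 28648], [130, 3, 25895, 21841, 21839, 14019, 9898, 11909, 11917, 20029, 28648], [60, 2, 28651, 28652], [0, 0], [37, 1, 28656], [55, 2, 20050, 20026, 28656], [143, 9, 20726, 12258, 4882, 9884, 1224, 4688, 11906, 20026, 28656], [155, 1, 28662, 20725, 20728], [0, 0], [31, 1, 28666], [0, 0], [0, 0], [37, 1, 28672], [57, 2, 20050, 20032, 28672], [33, 1, 28676], [0,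 0], [59, 1, 20036, 28680], [0, 0], [150, 2, 20053, 20032, 28684], [0, 0], [0, 0], [30, 1, 28689, 28690], [40, 2, 26705, 18197, 11942, 20059, 28690], [0, 0], [55, 2, 20068, 20056, 28696], [31, 1, 28698], [0, 0], [57, 2, 20068, 20060, 28702], [33, 1, 28704], [0, 0], [37, 1, 28708], [51, 0, 28710, 20076, 25046], [0, 0], [43, 2, 24800, 16500, 11954, 20082, 28714], [0, 0], [57, 2, 20092, 20082, 28718], [33, 1, 28720], [0, 0], [45, 1, 24832, 16516, 11954, 20090, 28724], [37, 1, 28726], [0, 0], [29, 1, 24034, 28730], [73, 4, 28732, 24032, 24030, 16059, 16112, 24157], [0, 0], [33, 1, 28736], [0, 0], [47, 2, 28738, 20111, 28740], [0, 0], [35, 1, 28744], [49, 2, 26794, 20111, 28744], [0, 0], [41, 1, 20130, 11962, 11956, 20112, 28750], [33, 1, 28752], [0, 0], [59, 1, 20114, 28756], [0, 0], [53, 2, 20168, 20122, 28760], [31, 1, 28762], [0, 0], [59, 1, 20120, 28766], [143, 4, 20546, 12126, 11925, 11926, 4725, 4702, 11956, 20116, 28766], [148, 3, 28770, 20551, 20409], [0, 0], [144, 1, 20126, 11992, 11927, 11924, 12127, 20547, 28771, 28767, 28774],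 [155, 1, 28772, 28767, 28774], [0, 0], [31, 1, 28780], [0, 0], [51, 2, 24804, 20148, 28784], [57, 2, 20152, 20132, 28784], [33, 1, 28788], [0, 0], [59, 1, 20136, 28792], [0, 0], [150, 2, 20163, 20132, 28796]]
def dJ72 : List (List ℕ) := [[0, 0], [45, 1, 20168, 11980, 11964, 20150, 28800], [49, 2, 24832, 20154, 28800], [0, 0], [35, 1, 28806], [43, 2, 26572, 18072, 12010, 20184, 28806], [33, 1, 28810], [0, 0], [35, 1, 28814], [45, 1, 26576, 18076, 12010, 20188, 28814], [53, 2, 20244, 20196, 28814], [87, 6, 24625, 21329, 16997, 6737, 6731, 16977, 21317, 21320, 28064, 28812, 28808, 20186, 20188, 28814], [31, 1, 28820], [0, 0], [59, 1, 20194, 28826], [143, 4, 28612, 20004, 11892, 13417, 4797, 4756, 12002, 20188, 28826], [147, 0, 28830, 28611, 28579], [0, 0], [145, 1, 26785, 27957, 28834], [0, 0], [53, 1, 26828, 27967, 28838], [0, 0], [51, 2, 26856, 27963, 28842], [0, 0], [74, 4, 26981, 18425, 11253, 12017, 20212, 28846], [36, 1, 28848], [0, 0], [37, 1, 28852], [0, 0], [0, 0], [39, 1, 20377, 12072, 12044, 20254, 28858], [0, 0], [0, 0], [31,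 1, 28864], [0, 0], [35, 1, 28868], [49, 0, 28870, 20262, 20436], [0, 0], [37, 1, 28874], [57, 2, 20278, 20258, 28874], [33, 1, 28878], [47, 0, 28878, 20280, 20458], [0, 0], [59, 1, 20264, 28884], [0, 0], [150, 2, 20303, 20258, 28888], [0, 0], [35, 1, 28892], [49, 0, 28894, 20280, 20512], [0, 0], [59, 1, 20282, 28898], [0, 0], [154, 2, 20303, 20276, 28902], [0, 0], [31, 1, 28906], [53, 1, 26302, 20301, 28906], [0, 0], [0, 0], [0, 0], [39, 1, 28863, 20256, 12057, 20306, 28916], [31, 1, 28918], [0, 0], [30, 1, 28917, 28922], [40, 2, 20375, 12071, 12054, 20309, 28922], [50, 2, 22125, 20311, 28922], [0, 0], [33, 1, 28930], [0, 0], [37, 1, 28934], [55, 2, 20348, 20306, 28934], [69, 2, 28935, 20313, 28934], [83, 2, 28935, 20315, 28934], [97, 2, 28935, 20317, 28934], [111, 2, 28935, 20319, 28934], [125, 2, 28935, 20321, 28934], [139, 2, 28935, 20323, 28934], [31, 1, 28938], [0, 0], [148, 2, 20371, 20306, 28954], [0, 0], [31, 1, 28958], [0, 0], [35, 1, 28962], [43, 2, 22168, 14212, 13152, 20326, 28962], [49, 2, 20438, 20344, 28962], [29, 2, 28968,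 28872], [33, 1, 28966], [87, 4, 22168, 14212, 5615, 1589, 1633, 9114, 12950, 1631, 1587, 13042, 5614, 14210, 22166, 28972], [37, 1, 28974], [0, 0], [37, 1, 28978], [45, 2, 22172, 22166, 28976, 28964, 28978], [51, 2, 20442, 20344, 28978], [57, 2, 20348, 20326, 28978], [33, 1, 28986], [47, 0, 28986, 20350, 28880], [35, 1, 28982], [0, 0], [59, 1, 20332, 28994], [0, 0], [150, 2, 20371, 20326, 28998], [0, 0], [35, 1, 29002], [43, 2, 22188, 22176, 28992, 28986, 29002], [49, 2, 20514, 20364, 29002], [29, 2, 29008, 28896], [0, 0], [59, 1, 20352, 29012], [0, 0], [154, 2, 20371, 20346, 29016], [0, 0], [35, 1, 29020], [49, 2, 20398, 20374, 29020], [0, 0], [33, 1, 29026], [0, 0], [49, 2, 29022, 20379, 29030], [29, 2, 29032, 29024], [0, 0], [37, 1, 29036], [0, 0], [59, 1, 20381, 29040], [59, 2, 29042, 29040], [85, 2, 29041, 20382, 29040], [99, 2, 29041, 20384, 29040], [113, 2, 29041, 20386, 29040], [127, 2, 29041, 20388, 29040], [141, 2, 29041, 20390, 29040], [0, 0], [145, 1, 20417, 20376, 29056], [0, 0], [41, 1, 20422, 12084, 12070, 20392, 29060],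 [0, 0], [55, 2, 20488, 20402, 29064], [31, 1, 29066], [0, 0], [53, 2, 20514, 20410, 29070], [31, 1, 29072], [0, 0], [0, 0], [0, 0], [0, 0], [37, 1, 29082], [55, 2, 20442, 20420, 29082], [0, 0], [59, 1, 20424, 29088], [0, 0], [148, 2, 20477, 20420, 29092], [0, 0], [35, 1, 29096], [49, 2, 28992, 28984, 29096], [47, 3, 29100, 22174, 20502], [51, 3, 29100, 22172, 20484], [57, 2, 20488, 20480, 29104], [0, 0], [59, 1, 20446, 29108], [0, 0], [154, 2, 20477, 20440, 29112], [0, 0], [0, 0], [31, 1, 29118], [63, 2, 29119, 20465, 29118], [77, 2, 29119, 20467, 29118], [91, 2, 29119, 20469, 29118], [105, 2, 29119, 20471, 29118], [119, 2, 29119, 20473, 29118], [133, 2, 29119, 20475, 29118], [0, 0], [33, 1, 29134], [0, 0], [35, 1, 29138], [0, 0], [37, 1, 29142], [0, 0], [156, 2, 20477, 20460, 29146], [0, 0], [35, 1, 29150], [43, 2, 20514, 20458, 29096, 29106, 29150], [45, 1, 20514, 12110, 12094, 20486, 29150], [0, 0], [59, 1, 20490, 29158], [0, 0], [154, 2, 20509, 20486, 29162], [0, 0], [31, 1, 29166], [0, 0], [33, 1, 29170], [47, 2, 26306, 20507, 29170],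 [0, 0], [51, 2, 26310, 20507, 29176], [0, 0], [59, 1, 20516, 29180], [0, 0], [152, 2, 20545, 20512, 29184], [0, 0], [0, 0], [30, 1, 29189, 29190], [0, 0], [31, 1, 29194], [0, 0]]
def dJ73 : List (List ℕ) := [[33, 1, 29198], [0, 0], [35, 1, 29202], [0, 0], [37, 1, 29206], [0, 0], [156, 2, 20545, 20528, 29210], [0, 0], [45, 1, 20586, 12152, 12142, 20572, 29214], [49, 2, 20836, 20576, 29214], [47, 3, 29218, 20838, 20942], [51, 3, 29218, 20840, 20588], [0, 0], [33, 1, 29224], [57, 1, 29220, 29216, 29224], [37, 1, 29228], [0, 0], [59, 1, 20595, 29232], [127, 2, 29233, 20598, 29232], [115, 7, 29236, 29234, 20591, 12158, 4867, 12212, 18025, 26526], [0, 0], [59, 1, 20620, 29240], [0, 0], [31, 1, 29244], [39, 2, 24042, 16073, 16092, 20635, 29244], [73, 4, 29248, 24048, 24050, 21975, 21988, 28568], [0, 0], [47, 2, 24106, 20635, 29252], [29, 2, 29254, 24108], [39, 1, 24108, 22016, 23102, 22014, 29256], [41, 5, 29252, 29258, 24106, 16094, 16108, 24132], [6, 0, 24135, 29260, 29244], [4, 0, 29249, 29262, 24058], [5, 0, 29247, 29262], [10, 0, 29250,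 29262, 24136], [3, 0, 24057, 29264], [8, 0, 24054, 29264], [3, 0, 28572, 29269], [49, 1, 24018, 24136, 29274], [35, 1, 29276], [44, 5, 28575, 24045, 29272, 16091, 19985, 28593], [10, 0, 28590, 29280], [115, 2, 20735, 12264, 12232, 23108, 21974, 21978, 24052, 29270], [74, 4, 20737, 29285, 24021, 29271, 24044, 28582], [73, 0, 29271, 24044, 28585, 29286, 20737, 20741], [0, 0], [35, 1, 29290], [49, 2, 24112, 20635, 29290], [53, 2, 24138, 29266, 29290], [31, 1, 29296], [0, 0], [55, 2, 24142, 29266, 29300], [0, 0], [39, 1, 20757, 12280, 12202, 20636, 29304], [31, 1, 29306], [0, 0], [30, 1, 29305, 29310], [40, 2, 20689, 20561, 12193, 20639, 29310], [32, 1, 29314], [0, 0], [53, 2, 20644, 20636, 29318], [137, 2, 29319, 20641, 29318], [31, 1, 29320], [0, 0], [147, 1, 20655, 20639, 29326], [0, 0], [145, 1, 20777, 20647, 29330], [151, 1, 20655, 20645, 29330], [0, 0], [0, 0], [30, 1, 29337, 29338], [73, 2, 20773, 12285, 12202, 12196, 20648, 29338], [0, 0], [155, 1, 20655, 20651, 29344], [156, 2, 20655, 20648, 29344], [177, 2, 29345, 20653, 29344],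 [0, 0], [55, 2, 20672, 20664, 29352], [0, 0], [148, 2, 20675, 20664, 29356], [147, 2, 29358, 20679, 20664], [0, 0], [150, 2, 20675, 20668, 29362], [149, 2, 29364, 20679, 20668], [0, 0], [0, 0], [154, 2, 20675, 20670, 29370], [153, 2, 29372, 20679, 20670], [0, 0], [59, 1, 20686, 29376], [0, 0], [73, 1, 20748, 12263, 12251, 20710, 20708, 29380], [74, 4, 20735, 12263, 10445, 12238, 20704, 29380], [0, 0], [146, 2, 20719, 20710, 29386], [152, 2, 20713, 20704, 29386], [0, 0], [49, 1, 21983, 23118, 29392], [35, 1, 29394], [0, 0], [31, 1, 29398], [63, 2, 29399, 20738, 29398], [129, 3, 26437, 27999, 12158, 4863, 4868, 10446, 12262, 20734, 29398], [59, 1, 29402, 29404], [0, 0], [0, 0], [145, 1, 20751, 20734, 29410], [0, 0], [149, 1, 20751, 20745, 29414], [0, 0], [0, 0], [151, 1, 20751, 20749, 29420], [0, 0], [145, 1, 20763, 20756, 29424], [0, 0], [31, 1, 29428], [0, 0], [155, 1, 20763, 20761, 29432], [0, 0], [146, 2, 20789, 20780, 29436], [145, 2, 29438, 20795, 20780], [0, 0], [59, 1, 20787, 29442], [0, 0], [145, 1, 20789, 20782, 29446], [146,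 2, 29437, 20785, 29446], [145, 2, 29450, 29441, 20785], [0, 0], [0, 0], [0, 0], [31, 1, 29458], [0, 0], [33, 1, 29462], [0, 0], [35, 1, 29466], [0, 0], [37, 1, 29470], [0, 0], [156, 2, 20829, 20812, 29474], [0, 0], [53, 1, 21128, 20858, 29478], [55, 1, 21146, 20856, 29478], [37, 1, 29482], [0, 0], [35, 1, 29486], [53, 2, 20886, 20876, 29486], [55, 3, 29490, 20888, 27386], [0, 0], [143, 4, 27848, 19294, 11448, 8583, 5005, 4972, 12350, 20872, 29494], [148, 3, 29496, 27853, 27811], [154, 0, 27817, 27809, 29498], [0, 0], [35, 1, 29502], [43, 2, 29504, 20898, 17816, 20902, 29502], [49, 2, 20922, 20892, 29502], [53, 2, 21076, 20904, 29502], [31, 1, 29510], [0, 0], [0, 0], [146, 2, 20933, 20892, 29516], [148, 2, 21095, 20904, 29516], [150, 2, 26279, 20902, 29516], [177, 2, 29517, 20897, 29516], [197, 2, 29517, 20901, 29516], [149, 2, 29522, 26285, 20902], [0, 0], [49, 2, 29504, 20909, 29530], [53, 2, 23541, 20962, 29530], [31, 1, 29534], [47, 3, 29532, 29506, 29508], [0, 0], [145, 1, 20933, 20906, 29540], [146, 2, 29517, 20909, 29540], [0,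 0], [51, 2, 26274, 20914, 29546], [55, 2, 26370, 20918, 29546], [0, 0], [146, 2, 26279, 20914, 29552], [147, 1, 26377, 20917, 29552], [0, 0], [156, 2, 20933, 20928, 29558], [0, 0], [57, 2, 20948, 20944, 29562], [33, 1, 29564], [0, 0], [150, 2, 20953, 20944, 29568], [149, 2, 29570, 20959, 20944], [0, 0], [35, 1, 29574], [0, 0], [59, 1, 20950, 29578], [0, 0], [0, 0], [37, 1, 29584], [55, 2, 21036, 20967, 29584], [31, 1, 29588], [39, 0, 29588, 21038, 12524, 12450, 20982], [0, 0], [59, 1, 20969, 29594], [127, 2, 29595, 20970, 29594]]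
def dJ74 : List (List ℕ) := [[0, 0], [31, 1, 29600], [39, 2, 27702, 19143, 19154, 20991, 29600], [73, 4, 29604, 27708, 27710, 21745, 21758, 27800], [0, 0], [49, 2, 27734, 20991, 29608], [0, 0], [0, 0], [30, 1, 29613, 29614], [0, 0], [37, 1, 29618], [0, 0], [39, 1, 27347, 18748, 15703, 21004, 29622], [61, 2, 29623, 21009, 29622], [31, 1, 29624], [0, 0], [30, 1, 29623, 29630], [0, 0], [0, 0], [148, 2, 21015, 21004, 29636], [147, 2, 29638, 21019, 21004], [0, 0], [35, 1, 29642], [0, 0], [150, 2, 21015, 21010, 29646], [149, 2, 29648, 21019, 21010], [0, 0], [39, 2, 26326, 17850, 21072, 21068, 29652], [0, 0], [35, 1, 29656], [49, 0, 29658, 21024, 21102], [0, 0], [37, 1, 29662], [57, 2, 21036, 21020, 29662], [33, 1, 29666], [47, 0, 29666, 21038, 21112], [0, 0], [33, 1, 29672], [47, 0, 29674, 21030, 21122], [0, 0], [59, 1, 21032, 29678], [0, 0], [145, 1, 21137, 21031, 29682], [152, 2, 21055, 21026, 29682], [151, 2, 29686, 21061, 21026], [0, 0], [35, 1, 29690], [73, 3, 25525, 19749, 19758, 19754, 21039, 29690], [74, 3, 25525, 19749, 19756, 12527,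 21039, 29690], [95, 2, 29691, 21041, 29690], [152, 1, 28367, 28368, 29690], [146, 0, 29700, 28381, 28382], [0, 0], [75, 2, 29705, 21047, 29704], [0, 0], [30, 1, 29705, 29708], [40, 2, 21745, 13889, 13874, 21053, 29708], [73, 2, 21131, 12509, 12476, 12480, 21042, 29708], [129, 2, 27712, 29605, 29602, 20986, 20964, 20973, 12482, 21042, 29708], [55, 3, 29716, 21740, 21050], [37, 1, 29718], [35, 1, 29714], [0, 0], [49, 2, 29722, 29709, 29724], [53, 2, 21253, 21050, 29724], [0, 0], [147, 1, 21751, 21053, 29730], [156, 2, 21055, 21042, 29730], [0, 0], [49, 2, 21104, 21070, 29736], [53, 2, 26288, 21072, 29736], [31, 1, 29740], [55, 3, 29740, 26340, 29742], [29, 2, 29738, 29660], [51, 1, 29746, 29744, 29738], [37, 1, 29748], [45, 4, 21108, 21102, 29748, 29658, 29662], [87, 2, 21028, 21020, 29662, 29752, 21110, 19755, 27043, 28329, 28327, 19701, 11651, 11641, 13477, 19688, 28318], [8, 0, 28321, 29754, 29672], [3, 0, 29676, 29756, 28306], [7, 0, 29675, 29756], [8, 0, 29672, 29756], [3, 0, 28306, 29758], [4, 0, 28309, 29758], [10, 0, 28312, 29758],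 [44, 1, 21103, 12497, 12511, 21125, 29768], [34, 1, 29770], [87, 13, 29698, 29696, 25528, 25526, 25517, 25520, 23548, 23544, 25511, 29770, 21103, 21109, 21113, 21145], [48, 2, 29661, 29772, 28325], [58, 2, 29776, 29749, 29772], [38, 1, 29778], [58, 3, 29780, 29770, 29751], [48, 2, 21081, 21125, 29766], [34, 1, 29784], [42, 5, 29784, 29511, 29507, 29513, 29786], [101, 4, 17502, 22561, 22607, 19691, 28304, 29788, 29784, 21081, 12519, 12395, 12396, 18761, 18758, 18950, 27586], [3, 0, 27586, 29790, 7165], [6, 0, 18953, 29793, 7170], [4, 0, 18945, 29795, 16030], [3, 0, 18758, 29795, 16032], [14, 0, 10289, 29795, 17624], [6, 0, 27583, 29797, 14411], [10, 0, 18947, 29797, 14507], [6, 0, 27355, 29799, 19370], [10, 0, 18757, 29799, 17755], [14, 0, 18763, 29799, 22293], [4, 0, 26057, 29800, 9660], [3, 0, 20610, 29800, 8025], [10, 0, 27585, 29803, 23363], [8, 0, 23500, 29804, 21010], [14, 0, 23506, 29804, 12454], [28, 0, 14508, 29804, 21014], [10, 0, 27351, 29807, 26097], [4, 0, 17751, 29808], [8, 0, 26140, 29808, 18752], [14, 0, 26172, 29808,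 10246], [28, 0, 17758, 29808, 18764], [4, 0, 22291, 29810, 12394], [10, 0, 26516, 29810, 12392], [10, 0, 26060, 29813, 9629], [28, 0, 26059, 29813, 12370], [6, 0, 28072, 29815, 18646], [14, 0, 20613, 29815, 18710], [28, 0, 20616, 29815, 18716], [3, 0, 25706, 29816, 29630], [14, 0, 23361, 29816, 29634], [28, 0, 23366, 29816, 29636], [4, 0, 23499, 29819], [28, 0, 23502, 29819, 29646], [4, 0, 26674, 29821, 5021], [28, 0, 23508, 29821, 12470], [27, 0, 21018, 29822], [28, 0, 21014, 29822], [3, 0, 26093, 29824, 27346], [10, 0, 26097, 29824], [10, 0, 26153, 29829, 27360], [28, 0, 26146, 29829, 27364], [28, 0, 26174, 29831, 8054], [27, 0, 18768, 29832], [28, 0, 18764, 29832], [6, 0, 26668, 29835, 12518], [12, 0, 26682, 29835, 12564], [14, 0, 18167, 29835, 12568], [28, 0, 18170, 29835, 12582], [14, 0, 26519, 29837, 12404], [28, 0, 26522, 29837, 12416], [14, 0, 20847, 29839, 8084], [14, 0, 29233, 29841, 12372], [14, 0, 26447, 29843, 27248], [28, 0, 26450, 29843, 27252], [4, 0, 18713, 29844, 12229], [10, 0, 18714, 29844, 20581], [14, 0, 18710,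 29844], [27, 0, 18720, 29846], [4, 0, 29633, 29848], [14, 0, 29634, 29850], [27, 0, 29640, 29852], [28, 0, 29636, 29852], [27, 0, 29650, 29856], [28, 0, 26678, 29859, 5048], [13, 0, 14495, 29861], [14, 0, 14492, 29861], [3, 0, 27346, 29866], [5, 0, 29629, 29866], [9, 0, 27363, 29870], [27, 0, 27368, 29872], [6, 0, 26165, 29875, 18663], [13, 0, 17745, 29875], [14, 0, 17742, 29875], [28, 0, 26670, 29881, 21136], [28, 0, 26684, 29883, 21176], [3, 0, 18510, 29884, 7574], [13, 0, 12571, 29884], [14, 0, 12568, 29884], [28, 0, 12582, 29886], [4, 0, 18005, 29889, 15704], [8, 0, 26482, 29889, 20944], [12, 0, 26504, 29889, 20946], [28, 0, 18008, 29889, 20952], [6, 0, 26509, 29891, 20935], [6, 0, 20720, 29893, 18860], [8, 0, 20830, 29893, 18864], [28, 0, 12338, 29893, 18866], [3, 0, 29238, 29895, 5006], [13, 0, 27251, 29896], [14, 0, 27248, 29896], [27, 0, 27256, 29898], [14, 0, 14817, 29901, 20677], [14, 0, 26552, 29902, 14580], [6, 0, 26663, 29919, 12545], [4, 0, 28001, 29933, 27177], [9, 0, 28003, 29933], [10, 0, 28005, 29933], [3, 0, 29684,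 29938, 26652], [27, 0, 21140, 29938], [28, 0, 21136, 29938], [27, 0, 21180, 29940], [28, 0, 21176, 29940], [9, 0, 18512, 29943], [10, 0, 18509, 29943]]
def dJ75 : List (List ℕ) := [[14, 0, 18507, 29943, 18061], [4, 0, 15704, 29950], [12, 0, 23661, 29950, 18457], [14, 0, 14633, 29950, 18473], [28, 0, 26484, 29953, 29568], [28, 0, 26506, 29955, 29582], [13, 0, 20955, 29956], [27, 0, 20958, 29956], [9, 0, 26511, 29959], [10, 0, 26512, 29959], [4, 0, 29388, 29961, 27496], [9, 0, 20723, 29961], [14, 0, 29476, 29963, 27500], [28, 0, 20832, 29963, 27502], [13, 0, 18869, 29964], [14, 0, 18871, 29964], [27, 0, 18872, 29964], [14, 0, 26529, 29967, 7955], [6, 0, 29358, 29974, 14708], [8, 0, 29364, 29974, 14790], [12, 0, 29372, 29974, 14798], [14, 0, 20677, 29974], [28, 0, 20678, 29974, 14824], [28, 0, 26554, 29977, 14586], [9, 0, 26659, 29979], [14, 0, 28098, 29979, 21167], [3, 0, 27200, 29980], [27, 0, 27180, 29980], [27, 0, 29688, 29987], [6, 0, 26540, 30000, 18478], [8, 0, 26546, 30000, 18486], [12, 0, 26566, 30000, 18496], [28, 0, 18062, 30000,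 18514], [3, 0, 23663, 30005], [6, 0, 27016, 30006, 14592], [8, 0, 27028, 30006, 14604], [12, 0, 27034, 30006, 14681], [13, 0, 18471, 30006], [14, 0, 18473, 30006], [28, 0, 18474, 30006, 14638], [27, 0, 29572, 30008], [28, 0, 29582, 30010], [10, 0, 29391, 30021], [28, 0, 29474, 30025], [27, 0, 27506, 30026], [6, 0, 26525, 30035, 22363], [28, 0, 29360, 30037, 14707], [28, 0, 29366, 30039, 23037], [28, 0, 29374, 30041, 23808], [27, 0, 14830, 30044], [28, 0, 14824, 30044], [13, 0, 18041, 30047], [3, 0, 27006, 30051], [4, 0, 27002, 30051], [28, 0, 26542, 30059, 22776], [28, 0, 26548, 30061, 22344], [28, 0, 26568, 30063, 27070], [4, 0, 18517, 30064], [9, 0, 18519, 30064], [10, 0, 18521, 30064], [27, 0, 18522, 30064], [28, 0, 27018, 30069, 22392], [28, 0, 27030, 30071, 23652], [28, 0, 27036, 30073, 22392], [3, 0, 14641, 30078], [4, 0, 14643, 30078], [27, 0, 14648, 30078], [28, 0, 14638, 30078], [14, 0, 28094, 30091, 17660], [5, 0, 20667, 30093], [6, 0, 20664, 30093], [12, 0, 29353, 30093, 21668], [8, 0, 20668, 30095], [4, 0, 23811, 30096],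 [10, 0, 26023, 30096, 29368], [27, 0, 23814, 30096], [4, 0, 26531, 30109, 22606], [5, 0, 18031, 30109], [6, 0, 18028, 30109], [12, 0, 26533, 30109, 19668], [7, 0, 18035, 30111], [10, 0, 27073, 30112, 26556], [27, 0, 27076, 30112], [4, 0, 30106, 30123, 23615], [3, 0, 27005, 30123, 22391], [5, 0, 18461, 30123], [6, 0, 18458, 30123], [11, 0, 27009, 30123], [3, 0, 23655, 30124], [12, 0, 26069, 30124, 27024], [28, 0, 23652, 30124], [6, 0, 27013, 30127, 30170], [4, 0, 26654, 30137, 26070], [3, 0, 26650, 30137, 26072], [5, 0, 29355, 30143], [10, 0, 29368, 30148], [14, 0, 26835, 30153, 25488], [5, 0, 26535, 30159], [6, 0, 26536, 30159], [10, 0, 26556, 30162], [6, 0, 23617, 30166], [7, 0, 23619, 30166], [9, 0, 23623, 30166], [12, 0, 23625, 30166], [28, 0, 23626, 30166, 21169], [4, 0, 30104, 30169], [12, 0, 27024, 30178], [12, 0, 30174, 30183], [28, 0, 30057, 30185, 27087], [4, 0, 26075, 30186], [6, 0, 26826, 30193], [10, 0, 28840, 30193], [4, 0, 14577, 30209, 21148], [3, 0, 14674, 30209, 21150], [6, 0, 23552, 30209, 21152], [8, 0, 23593, 30209,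 21154], [12, 0, 14575, 30209, 21158], [14, 0, 23611, 30209, 12532], [3, 0, 27084, 30216, 21079], [27, 0, 27089, 30216], [28, 0, 27087, 30216], [4, 0, 21148, 30224], [3, 0, 21150, 30226], [8, 0, 23565, 30229], [4, 0, 23594, 30231], [6, 0, 23605, 30231], [10, 0, 26118, 30231], [11, 0, 23589, 30231], [12, 0, 23586, 30231], [11, 0, 21161, 30232], [12, 0, 21158, 30232], [3, 0, 27106, 30235, 12484], [3, 0, 21079, 30236], [4, 0, 21080, 30236], [6, 0, 29513, 30236, 27096], [8, 0, 29784, 30236, 27100], [9, 0, 27105, 30263], [10, 0, 27102, 30263], [28, 0, 27109, 30263, 21094], [3, 0, 29509, 30269], [4, 0, 29532, 30269], [7, 0, 30268, 29507, 30269], [3, 0, 29766, 30271], [4, 0, 28304, 30271], [5, 0, 30270, 29788, 30271], [10, 0, 26082, 30277], [54, 2, 29520, 30290, 26079], [36, 1, 30292], [50, 3, 30292, 29518, 30018], [74, 3, 26847, 26844, 28090, 22287, 30296, 30295], [156, 1, 29515, 29528, 30298], [116, 4, 25975, 17559, 22408, 14839, 18555, 18557, 30266, 21133, 29727], [5, 0, 29729, 30302], [10, 0, 29724, 30302], [73, 0, 23838, 30210, 30204, 25977,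 30306, 29704, 29706], [3, 0, 29710, 30308], [151, 1, 27081, 27082, 30306, 29730], [5, 0, 29733, 30312], [14, 0, 29735, 30312], [28, 0, 29730, 30312], [145, 0, 23821, 30318, 29708], [153, 1, 30318, 29721, 30320], [51, 0, 23816, 30322, 23819, 23834], [12, 0, 23834, 30324], [58, 2, 23827, 30326, 23829], [74, 4, 23821, 30316, 21059, 21056, 30048, 26664], [50, 3, 30330, 23817, 23833], [143, 8, 28298, 23574, 14552, 30258, 12532, 5026, 5036, 12592, 21182], [55, 2, 21186, 21182, 30334], [31, 1, 30336], [129, 1, 30338, 28296, 23569, 30201, 21164, 21097, 29521, 29526, 30298], [73, 2, 28090, 30017, 29519, 29524, 30298, 30340], [87, 1, 29763, 28322, 29783, 29750, 21104, 12498, 12533, 21157, 30252, 26115, 17709, 11138, 14253, 14260, 22258], [14, 0, 22261, 30344, 29678], [28, 0, 28174, 30344, 30238], [13, 0, 29681, 30346], [14, 0, 28172, 30349], [116, 8, 26665, 18153, 30218, 30352, 19417, 23041, 14319, 14447, 23458], [4, 0, 30332, 30355, 23459], [10, 0, 23833, 30357, 23466], [9, 0, 23469, 30358], [10, 0, 23466, 30358], [130, 9, 26081, 26077, 26070,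 30352, 19405, 11504, 11739, 19877, 28468], [151, 1, 23837, 30362, 23474], [49, 0, 30366, 30310, 29714], [73, 1, 30366, 23840, 22407, 17558, 17510, 25974], [73, 3, 29723, 30368, 23480, 23476, 19423, 28134], [74, 3, 29723, 30368, 23478, 14467, 19423, 28134], [101, 6, 26185, 26124, 28429, 28427, 27123, 27126, 28141, 28142, 30374, 29709, 21052, 13875, 13892, 21764], [115, 5, 22308, 23422, 28148, 28144, 30374, 29709, 21044, 12487, 21088], [3, 0, 22309, 30379], [6, 0, 23259, 30379], [7, 0, 22307, 30379], [130, 5, 29595, 20966, 12487, 21091, 21093, 30382, 25793, 25791, 25789], [130, 6, 25787, 17402, 24715, 24721, 24726, 28148, 30372, 29712, 21742], [60, 2, 21709, 30388], [116, 6, 20985, 20964, 29597, 29599, 30387, 30390, 21743, 27711, 29605], [4, 0, 29605, 30392, 27731], [10, 0, 29606, 30392, 29608], [12, 0, 28278, 30394]]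
def dJ76 : List (List ℕ) := [[4, 0, 29611, 30396, 27805], [3, 0, 27802, 30400], [39, 4, 19260, 27744, 30402, 19268, 19258, 27782], [6, 0, 27782, 30404], [10, 0, 27785, 30404, 19262], [6, 0, 27684, 30409], [101, 5, 30369, 21131, 30267, 27099, 30283, 30280, 29537, 23536, 23530, 27739, 30402, 19268, 19258, 27786], [101, 12, 30369, 21134, 21132, 30267, 27096, 30278, 29538, 29534, 23536, 27741, 30402, 19267, 19275, 27791], [42, 2, 30413, 27787, 30406, 27789, 30414], [148, 1, 30414, 23475, 23460], [145, 3, 30418, 27790, 27844], [149, 2, 23482, 30416, 23483, 23464], [8, 0, 23464, 30422], [44, 4, 23827, 30362, 30424, 30361, 23829], [58, 3, 23471, 30424, 23473], [39, 5, 27792, 30412, 30371, 30304, 21700], [129, 8, 27838, 27836, 27791, 30412, 23476, 19423, 19406, 19452, 28196], [53, 1, 21674, 21694, 30430], [43, 2, 27748, 19162, 19176, 27766, 30434], [56, 3, 27695, 30410, 27697], [101, 9, 27715, 19144, 30410, 19141, 11350, 11344, 4450, 4390, 2496, 6028, 14018, 14021, 14059, 21868], [40, 2, 28275, 19593, 27699, 30438, 27725], [32, 1, 30442], [40,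 4, 28277, 30444, 27727, 19591, 25663], [54, 0, 25668, 30446, 25670, 28497], [6, 0, 28494, 30448], [130, 9, 25661, 25665, 30446, 25662, 19585, 22595, 6692, 11073, 17291, 25688], [3, 0, 25688, 30452, 17271], [6, 0, 17288, 30455], [10, 0, 25691, 30455, 17296], [12, 0, 22733, 30455], [28, 0, 25602, 30455, 22649], [6, 0, 25694, 30459], [6, 0, 25600, 30463], [144, 1, 25599, 21001, 12443, 12425, 20987, 25673, 30446, 25659, 25585], [56, 3, 30468, 25599, 29621], [32, 1, 30470], [40, 0, 30470, 25583, 30466, 25588, 25599, 29614], [5, 0, 30472, 30475], [6, 0, 30471, 30475], [147, 2, 30478, 25586, 25636], [39, 5, 29617, 30476, 25591, 25592, 29612], [54, 3, 25611, 30466, 25613], [42, 4, 25697, 17293, 30456, 17295, 25699], [147, 1, 28338, 30220, 26840], [144, 7, 26790, 18276, 30075, 30135, 30214, 30172, 7683, 7681, 18259, 26781], [4, 0, 28836, 30491], [6, 0, 26787, 30491], [11, 0, 26789, 30491], [28, 0, 26784, 30491], [130, 4, 28857, 20253, 20193, 27956, 26781, 26783, 30494, 30066, 29581], [32, 1, 30500], [46, 2, 26224, 17810, 26065, 30212, 27023],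 [38, 1, 30504], [154, 1, 30504, 26219, 23646], [145, 1, 23757, 23643, 30508], [150, 2, 27121, 23644, 30508], [130, 7, 29764, 19689, 11649, 30156, 15717, 12213, 12181, 20618, 29243], [40, 5, 30514, 30285, 30289, 30286, 28317], [101, 2, 27098, 30264, 29763, 28314, 30516, 29241, 20625, 20626, 20683, 20689, 20561, 12193, 12198, 20648, 29336], [4, 0, 29340, 30518, 30278], [10, 0, 29343, 30521, 20922], [14, 0, 20775, 30523, 20928], [13, 0, 20931, 30524], [14, 0, 20928, 30524], [28, 0, 29559, 30524, 20776], [14, 0, 29561, 30531], [73, 5, 29350, 29346, 20656, 20779, 30532, 30018], [74, 2, 29346, 29335, 29332, 30532, 20937, 29543], [49, 2, 30295, 29545, 30536], [115, 4, 29448, 20790, 20657, 20658, 29349, 30538, 30365, 28473], [156, 3, 30540, 29453, 29445], [146, 2, 30542, 28471, 28474], [130, 5, 23379, 14395, 5665, 5654, 14285, 14289, 22285, 30534, 29348, 29329], [28, 0, 29326, 30546], [146, 1, 23395, 23378, 30548, 29304], [3, 0, 29312, 30550], [4, 0, 29304, 30550], [6, 0, 29308, 30550], [130, 5, 25401, 23319, 23314, 23387, 23393, 30556, 20757,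 20761, 29431], [147, 1, 23382, 23394, 30556, 29424], [3, 0, 29427, 30560], [130, 4, 27667, 19101, 22469, 14347, 14397, 14401, 23383, 30562, 29435], [148, 3, 29430, 29432, 30564], [73, 4, 30558, 25404, 25402, 23240, 29869, 27359], [151, 2, 30568, 30567, 27668], [130, 9, 29323, 29325, 20646, 30528, 12375, 5023, 12455, 21007, 29622], [60, 2, 29627, 30572], [73, 2, 30572, 29319, 30555, 23390, 23386, 23315], [35, 1, 30576], [87, 10, 28405, 28401, 30144, 13443, 12214, 12188, 20642, 22070, 22074, 20996, 12436, 12455, 21013, 29645], [154, 1, 30580, 23757, 23406], [150, 2, 23433, 23396, 30582], [101, 7, 16887, 6678, 6833, 17075, 23210, 30140, 15716, 11176, 11170, 3227, 7536, 27948, 7588, 18236, 26756], [8, 0, 26760, 30586, 25326], [7, 0, 25329, 30588], [151, 0, 26488, 30082, 29577], [155, 0, 26500, 30082, 29581], [150, 0, 30592, 26497, 27330], [43, 3, 27318, 27329, 30596, 29576, 29566], [87, 8, 18625, 27227, 27893, 27881, 27879, 27245, 18644, 29971, 17956, 29996, 20944, 29562, 30598, 27318, 27341], [14, 0, 27341, 30600, 18656], [28, 0, 27344,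 30600, 18660], [28, 0, 18736, 30603, 27266], [3, 0, 27333, 30605, 27199], [10, 0, 27335, 30605, 29982], [13, 0, 27269, 30606], [27, 0, 27272, 30606], [10, 0, 27461, 30609], [4, 0, 27456, 30611, 26436], [9, 0, 30616, 30619], [14, 0, 27455, 30619, 29406], [6, 0, 29401, 30622, 27386], [13, 0, 29405, 30622], [6, 0, 27386, 30624], [10, 0, 27383, 30624, 29385], [12, 0, 29493, 30624, 29408], [3, 0, 29383, 30630, 27375], [9, 0, 29489, 30633], [12, 0, 27373, 30634, 29418], [12, 0, 29418, 30638], [153, 1, 27377, 30640, 29420], [37, 1, 30642], [51, 2, 27392, 27379, 30644], [74, 6, 27499, 27497, 30022, 20755, 29423, 30646], [73, 2, 30648, 30084, 20714, 12274, 20755, 29413], [53, 0, 30650, 27390, 27467], [31, 1, 30652], [129, 3, 27195, 18640, 29905, 12174, 12273, 12276, 20755, 29413, 30654], [59, 1, 27468, 30656], [155, 2, 30627, 27462, 30656], [115, 3, 26622, 18122, 29968, 27194, 27192, 30658, 27464, 27593], [145, 0, 27590, 30662, 26621, 28083], [3, 0, 28085, 30664, 27491], [6, 0, 24999, 30664, 27588], [10, 0, 28087, 30664, 27474], [3, 0, 27491,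 30666], [6, 0, 27679, 30666], [10, 0, 27489, 30666, 26894], [6, 0, 27588, 30668], [10, 0, 27474, 30670], [4, 0, 26890, 30676], [10, 0, 26894, 30676], [40, 4, 28483, 27480, 27477, 30682, 28077, 25157], [6, 0, 28482, 30687], [12, 0, 28486, 30687], [52, 3, 27493, 30682, 26905], [52, 2, 25157, 30690, 27480], [56, 3, 27479, 30694, 28078, 26905], [3, 0, 30693, 30696, 30682], [11, 0, 27495, 30699], [12, 0, 27492, 30699], [58, 2, 26901, 30702, 27485], [143, 1, 28552, 25011, 28076, 30700, 18856, 18786, 18782, 18800, 27413], [39, 4, 24314, 24341, 27411, 30706, 28554, 28580], [5, 0, 28579, 30708], [28, 0, 28833, 30708, 24319], [14, 0, 28829, 30713, 24304], [3, 0, 24310, 30714, 27958], [13, 0, 24307, 30714], [4, 0, 26690, 30716], [148, 1, 27395, 27414, 30706], [154, 2, 28557, 28550, 30722], [56, 1, 25440, 27397, 30724], [54, 0, 28561, 30726, 25447, 25627], [5, 0, 25627, 30728], [6, 0, 25624, 30728], [148, 3, 28538, 28556, 30726], [146, 0, 25370, 25436, 30734], [151, 0, 25580, 25446, 30734, 28543], [14, 0, 25576, 30739], [28, 0, 25579, 30739], [149,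 0, 24010, 30742, 25631], [146, 0, 30744, 21975, 22012], [47, 3, 30746, 25630, 25614], [145, 2, 21975, 22006, 30746], [149, 0, 30748, 22007, 21987], [156, 0, 30752, 25622, 28534], [101, 1, 29256, 29258, 24108, 24103, 24099, 24009, 30740, 21372, 28267, 28269, 28264, 28210, 27657, 19110, 27670], [3, 0, 28492, 30756, 24109], [6, 0, 30674, 30756, 22016], [9, 0, 27676, 30756], [13, 0, 27673, 30756], [9, 0, 28491, 30759], [4, 0, 30673, 30761, 23102], [3, 0, 26612, 30761, 23103], [10, 0, 30684, 30761, 22018], [6, 0, 30678, 30769, 22014], [10, 0, 30680, 30769, 22018, 30772], [14, 0, 18957, 30769, 22026], [14, 0, 18119, 30771, 22026, 30778], [3, 0, 24108, 30774, 24988], [8, 0, 24102, 30774, 25000], [10, 0, 30763, 30774, 25004], [14, 0, 30765, 30774, 16638], [8, 0, 27483, 30776, 26900], [12, 0, 30700, 30776], [14, 0, 18857, 30776, 18368], [13, 0, 22029, 30778, 30780], [4, 0, 18727, 30780, 7544]]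
def dJ77 : List (List ℕ) := [[3, 0, 18846, 30780, 7547], [6, 0, 18905, 30780, 18094], [8, 0, 18453, 30780, 7542], [10, 0, 8199, 30780, 18098], [3, 0, 24988, 30782], [10, 0, 24993, 30782, 30766], [7, 0, 25003, 30784], [12, 0, 30695, 30787], [4, 0, 27657, 30789, 6501], [3, 0, 19916, 30789, 6497], [6, 0, 25363, 30789, 23883], [10, 0, 19107, 30789, 16618], [12, 0, 19583, 30789, 16628], [12, 0, 30705, 30791], [4, 0, 8081, 30795, 17942], [6, 0, 18787, 30795, 18328], [8, 0, 18821, 30795, 18338], [12, 0, 8079, 30795, 18362], [8, 0, 26497, 30799, 7484], [6, 0, 30628, 30801, 7638], [8, 0, 20251, 30801, 3234], [12, 0, 20891, 30801, 7646], [14, 0, 30627, 30801, 7654], [10, 0, 18901, 30803, 28017], [6, 0, 26777, 30805, 7536], [10, 0, 18447, 30805, 10722], [12, 0, 18451, 30805, 7548], [3, 0, 18103, 30806], [8, 0, 20219, 30806, 8154], [14, 0, 26609, 30806, 8200], [6, 0, 30688, 30810, 25162], [14, 0, 19921, 30810, 16754], [6, 0, 28210, 30817, 16646], [10, 0, 27651, 30817, 14921], [12, 0, 27653, 30817, 16668], [6, 0, 28351, 30819, 6502], [12, 0, 19915,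 30819, 6514], [4, 0, 25351, 30821, 16282], [3, 0, 25358, 30821, 16287], [8, 0, 25347, 30821, 16280], [10, 0, 25345, 30821, 21350], [12, 0, 25349, 30821, 21334], [14, 0, 28272, 30821, 24506], [28, 0, 25357, 30821, 22698], [9, 0, 16621, 30822], [10, 0, 16618, 30822], [12, 0, 23871, 30822, 11298], [14, 0, 24971, 30822, 19112], [28, 0, 24977, 30822, 16965], [10, 0, 19571, 30825, 23868], [14, 0, 30886, 23153, 30825, 24980], [28, 0, 30884, 28263, 30825, 24984], [8, 0, 26413, 30828, 18694], [10, 0, 17938, 30828], [12, 0, 26425, 30828, 8030], [12, 0, 18783, 30831, 26862], [12, 0, 18817, 30833, 18348], [11, 0, 18365, 30834], [12, 0, 18362, 30834], [10, 0, 26489, 30837, 7488], [12, 0, 26493, 30837, 7496], [4, 0, 20734, 30839, 18320], [12, 0, 29409, 30839, 18330], [14, 0, 29289, 30839, 18332], [6, 0, 28825, 30841, 3228], [10, 0, 20245, 30841, 3236], [12, 0, 20249, 30841, 3240], [10, 0, 20887, 30843, 18374], [3, 0, 26436, 30845, 18398], [10, 0, 30621, 30845, 18402], [28, 0, 30660, 30845, 18404], [14, 0, 26194, 30846, 22623], [10, 0, 26773, 30849,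 12010], [8, 0, 18421, 30851, 12012], [14, 0, 18477, 30853, 18128], [4, 0, 20220, 30857], [12, 0, 20223, 30857, 8150], [14, 0, 28847, 30857, 18930], [4, 0, 30938, 30053, 30859, 18960], [28, 0, 30055, 30859, 18966], [5, 0, 25165, 30860], [4, 0, 11774, 30863], [6, 0, 19723, 30863, 16708], [8, 0, 19895, 30863, 16744], [12, 0, 11767, 30863, 16748], [28, 0, 22942, 30863, 16768], [4, 0, 30884, 28264, 30865, 23938], [3, 0, 28209, 30865, 24513], [10, 0, 28213, 30865, 23846], [28, 0, 30868, 28216, 30865, 25021], [3, 0, 19047, 30867], [8, 0, 23204, 30867, 23848], [12, 0, 19045, 30867, 23940], [14, 0, 27659, 30867, 14914], [28, 0, 22763, 30867, 23950], [10, 0, 19463, 30869, 25022], [14, 0, 28199, 30869, 25026], [4, 0, 28354, 30871, 16690], [3, 0, 28348, 30871, 16692], [12, 0, 28343, 30871, 16710], [10, 0, 11801, 30873, 16770], [14, 0, 19935, 30873, 16774], [28, 0, 19939, 30873, 16790], [8, 0, 21501, 30875, 16254], [10, 0, 17229, 30875, 24408], [12, 0, 17231, 30875, 24418], [14, 0, 30740, 30875, 24494], [28, 0, 22643, 30875, 22721], [8, 0, 24621,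 30877, 6272], [10, 0, 21369, 30877, 16350], [12, 0, 30886, 21371, 30877, 16354], [28, 0, 22752, 30877, 16366], [10, 0, 24631, 30879, 6262], [12, 0, 24633, 30879, 16288], [28, 0, 24636, 30879, 22681], [8, 0, 21471, 30880, 25338], [12, 0, 17183, 30880, 16898], [14, 0, 25539, 30880, 25364], [28, 0, 22718, 30880, 22540], [6, 0, 23875, 30882, 31023, 24547], [8, 0, 21341, 30882, 31023, 16368], [10, 0, 17193, 30882, 31023, 24569], [12, 0, 21337, 30882, 31023, 24581], [28, 0, 22712, 30882, 31023, 16375], [10, 0, 28271, 30885, 30973, 24522], [10, 0, 17157, 30893, 4578], [10, 0, 24974, 30895, 27680], [10, 0, 24979, 30897], [6, 0, 17163, 30898, 22597], [8, 0, 25507, 30898, 19552], [14, 0, 24983, 30900, 21484], [3, 0, 25032, 30902, 30973, 23939], [12, 0, 24987, 30902, 30973, 24530], [3, 0, 26419, 30905], [10, 0, 26417, 30905, 26474], [12, 0, 26423, 30905, 18690], [10, 0, 26431, 30909, 8020], [12, 0, 26862, 30910], [11, 0, 18359, 30912], [12, 0, 18348, 30912], [14, 0, 18929, 30912, 18822], [12, 0, 17982, 30919], [14, 0, 26499, 30919, 30012], [10,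 0, 18010, 30921], [8, 0, 30591, 30922, 20742], [10, 0, 30637, 30925, 26864], [4, 0, 24019, 30927, 26866], [3, 0, 29270, 30927, 26868], [10, 0, 29279, 30927, 26874], [8, 0, 28823, 30929, 7588], [10, 0, 28817, 30929, 7592], [12, 0, 28819, 30929, 7600], [11, 0, 12029, 30931], [12, 0, 12026, 30931], [14, 0, 20253, 30931, 7682], [9, 0, 18127, 30933], [10, 0, 18124, 30933], [9, 0, 18377, 30934], [10, 0, 18374, 30934], [28, 0, 26955, 30936, 29972], [28, 0, 27202, 30939, 26964], [8, 0, 27875, 30941, 26961], [4, 0, 25067, 30943, 19749], [12, 0, 25307, 30943, 17104], [4, 0, 30720, 30945, 27943], [14, 0, 26779, 30945, 20198], [28, 0, 31130, 30498, 30945, 20202], [9, 0, 18417, 30947], [10, 0, 18422, 30947], [11, 0, 18415, 30947], [12, 0, 18412, 30947], [28, 0, 26975, 30947, 20238], [3, 0, 26640, 30949, 26626], [9, 0, 18809, 30953], [10, 0, 18806, 30953], [14, 0, 27423, 30953, 8156], [10, 0, 28850, 30955, 27568], [8, 0, 27595, 30956, 26962], [8, 0, 27600, 30958, 27168], [8, 0, 28335, 30965, 25090], [12, 0, 19713, 30965, 25094], [12, 0, 19889, 30967,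 25138], [10, 0, 23855, 30968, 4590], [11, 0, 16751, 30968], [12, 0, 16748, 30968], [14, 0, 25151, 30968, 22926], [4, 0, 22939, 30971], [14, 0, 24509, 30973, 24540], [4, 0, 24510, 30974, 31005], [6, 0, 24515, 30974, 31005, 25105], [28, 0, 24521, 30974, 31005, 16795], [10, 0, 23846, 30976], [14, 0, 25015, 30978, 25026], [7, 0, 23851, 30982], [8, 0, 23848, 30982], [10, 0, 23949, 30984, 11268], [11, 0, 23943, 30984], [12, 0, 23940, 30984], [28, 0, 28132, 30987, 14936], [28, 0, 23950, 30988]]
def dJ78 : List (List ℕ) := [[9, 0, 25025, 30990], [10, 0, 25022, 30990], [4, 0, 28509, 30993, 31184, 23938], [4, 0, 28201, 30993, 31184], [10, 0, 28204, 30993, 31184, 31183], [28, 0, 30998, 28358, 30995, 23144], [10, 0, 25524, 30997], [12, 0, 25531, 30997, 25076], [14, 0, 29694, 30997, 24456], [28, 0, 25533, 30997, 23151], [10, 0, 19727, 30999, 31211, 17374], [8, 0, 23865, 31000, 11734], [9, 0, 16773, 31000], [10, 0, 16770, 31000], [28, 0, 25175, 31000, 11816], [4, 0, 25702, 31003, 25178], [3, 0, 28284, 31003, 25180], [6, 0, 31002, 30450, 31003, 25184],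 [10, 0, 25670, 31003, 25190], [10, 0, 21497, 31007, 22686], [12, 0, 21499, 31007, 16260], [28, 0, 31240, 22709, 31007, 22690], [8, 0, 31056, 31043, 24566, 31008, 22635], [12, 0, 24417, 31008, 6868], [14, 0, 25384, 31008, 17234], [28, 0, 24560, 31008, 22641], [10, 0, 24423, 31010, 6882], [11, 0, 24421, 31010], [27, 0, 24602, 31010], [14, 0, 24494, 31012], [4, 0, 16380, 31014], [12, 0, 24601, 31014, 31254], [12, 0, 31028, 24613, 31017, 6280], [8, 0, 31250, 24549, 31018, 21362], [9, 0, 16353, 31018], [10, 0, 16350, 31018], [12, 0, 21323, 31018, 12818], [10, 0, 21325, 31020, 21464, 31037], [14, 0, 24573, 31020, 21484, 31060], [4, 0, 16920, 31023], [14, 0, 25373, 31023, 24428], [8, 0, 31045, 24578, 31025, 13704], [14, 0, 24664, 31025, 10490], [28, 0, 31265, 16410, 31025, 22678], [10, 0, 31242, 24499, 31027, 31041, 22689], [14, 0, 31098, 24625, 31029, 10490], [8, 0, 25335, 31030, 31037, 16988, 31275], [12, 0, 25333, 31030, 31037, 6738], [10, 0, 6837, 31033, 6682], [6, 0, 28071, 31035, 25366], [9, 0, 21467, 31037], [10, 0, 21464, 31037], [28,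 0, 24544, 31038], [14, 0, 24231, 31041, 9276], [28, 0, 31238, 22703, 31041, 9951], [12, 0, 25321, 31042, 31057, 6690], [4, 0, 31262, 24607, 31044, 31283, 31261], [3, 0, 31046, 24577, 31044, 31283, 22683], [10, 0, 31245, 22636, 31047, 31271], [11, 0, 21477, 31047], [12, 0, 21474, 31047], [9, 0, 24525, 31048], [10, 0, 24522, 31048], [12, 0, 25425, 31048, 19602], [8, 0, 17077, 31051, 11560], [9, 0, 27683, 31052], [14, 0, 17195, 31057, 22826], [6, 0, 25503, 31059, 28230], [13, 0, 21487, 31060], [14, 0, 21484, 31060], [3, 0, 25035, 31063, 31206], [7, 0, 25037, 31063], [8, 0, 25039, 31063], [11, 0, 25041, 31063], [12, 0, 25043, 31063], [27, 0, 25044, 31063], [10, 0, 25433, 31064, 31055], [11, 0, 24533, 31064], [12, 0, 24530, 31064], [10, 0, 26474, 31068], [12, 0, 26468, 31068], [6, 0, 27287, 31071, 18666], [10, 0, 18682, 31071], [6, 0, 27325, 31073, 18646], [3, 0, 27444, 31081, 27428], [27, 0, 30594, 31085, 12417], [7, 0, 20745, 31088], [28, 0, 29415, 31088, 23251], [10, 0, 26864, 31090], [4, 0, 26866, 31092], [3, 0, 26868, 31094], [3, 0,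 28570, 31097, 31299], [4, 0, 29274, 31097, 31299], [11, 0, 20191, 31101], [12, 0, 20188, 31101], [14, 0, 30719, 31101, 18266], [28, 0, 28835, 31101, 18272], [9, 0, 26577, 31103], [10, 0, 26574, 31103], [3, 0, 28857, 31109, 30130], [3, 0, 26957, 31119], [10, 0, 26967, 31120], [5, 0, 27873, 31123], [3, 0, 25053, 31125], [14, 0, 28410, 31125, 19754], [10, 0, 25303, 31127, 6790], [10, 0, 25216, 31129, 18180], [14, 0, 24181, 31129, 27979], [3, 0, 31392, 30493, 31131, 27962], [12, 0, 30497, 31131, 28842], [4, 0, 28050, 31132, 27960], [6, 0, 20205, 31132, 28838], [10, 0, 20207, 31132, 27964], [9, 0, 26977, 31143], [10, 0, 26638, 31145], [10, 0, 27426, 31151, 18940], [10, 0, 27568, 31152], [3, 0, 27597, 31155], [28, 0, 27598, 31157], [3, 0, 28331, 31159], [28, 0, 28333, 31159, 25092], [10, 0, 25298, 31160, 11652], [10, 0, 25147, 31162, 19834], [11, 0, 25141, 31162], [28, 0, 25149, 31162, 24453], [8, 0, 23225, 31165, 4584], [28, 0, 23716, 31165, 4606], [10, 0, 25417, 31171, 22483], [14, 0, 24543, 31174, 31283, 31339], [4, 0, 25739, 31178, 16695],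 [3, 0, 25103, 31178, 16691], [12, 0, 25749, 31181, 6516], [13, 0, 25029, 31184], [8, 0, 23228, 31191, 11500], [14, 0, 23352, 31191, 11528], [14, 0, 28130, 31197], [10, 0, 28505, 31205, 31325], [4, 0, 19944, 31209, 19474], [8, 0, 28515, 31209, 28195], [12, 0, 28519, 31209, 19476], [5, 0, 16715, 31211], [12, 0, 25076, 31214], [3, 0, 29702, 31217, 19796], [8, 0, 31484, 29774, 31217, 30160], [10, 0, 29693, 31217, 19800], [28, 0, 29701, 31217, 22347], [3, 0, 23128, 31218], [4, 0, 17356, 31218], [3, 0, 17379, 31220], [8, 0, 25755, 31220, 19686], [12, 0, 25765, 31220, 11666], [14, 0, 24467, 31220, 19732], [6, 0, 30189, 31223, 19814], [28, 0, 23724, 31223, 19868], [12, 0, 31452, 25177, 31229, 31474, 19954], [14, 0, 25700, 31231], [5, 0, 28287, 31233], [9, 0, 28283, 31233], [10, 0, 28280, 31233], [6, 0, 25184, 31234], [3, 0, 25663, 31237], [5, 0, 31236, 30446, 31237], [13, 0, 25661, 31237], [14, 0, 25658, 31237], [12, 0, 16260, 31243, 31289], [8, 0, 22633, 31244, 16884, 31253], [12, 0, 17199, 31244, 6690], [10, 0, 16873, 31247, 2856], [4, 0,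 29925, 31249, 25582], [3, 0, 25390, 31249, 25588], [6, 0, 29927, 31249, 30467], [8, 0, 28234, 31249, 25604], [10, 0, 25383, 31249, 25610], [28, 0, 25389, 31249, 22646], [7, 0, 16883, 31253], [8, 0, 16884, 31253], [6, 0, 31458, 25741, 31263, 31313, 17118], [28, 0, 31256, 31263, 31313], [11, 0, 6283, 31264], [12, 0, 6280, 31264], [14, 0, 16403, 31264, 10490], [12, 0, 21359, 31266, 2860], [10, 0, 16977, 31273, 5263], [8, 0, 16988, 31275], [3, 0, 25548, 31277, 31456, 23939], [3, 0, 25375, 31281, 11763], [10, 0, 25378, 31281, 19834], [6, 0, 23881, 31283, 23911], [28, 0, 22701, 31283], [6, 0, 24661, 31285, 1519], [12, 0, 24663, 31285, 5308], [28, 0, 31560, 24666, 31285, 5348], [10, 0, 6264, 31286], [28, 0, 22678, 31286], [3, 0, 6279, 31289], [14, 0, 15900, 31289], [28, 0, 22690, 31289], [4, 0, 27980, 31291, 1513], [3, 0, 28032, 31291, 1514], [6, 0, 18237, 31291, 1519]]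
def dJ79 : List (List ℕ) := [[8, 0, 7591, 31291, 5300], [6, 0, 22537, 31293, 16968], [12, 0, 16899, 31293, 6738], [14, 0, 25365, 31293, 17006], [28, 0, 22543, 31293], [10, 0, 31310, 25319, 31295, 5261], [14, 0, 6847, 31297, 22605], [9, 0, 26877, 31299], [6, 0, 24227, 31307, 4427], [12, 0, 24225, 31307, 6251], [4, 0, 22676, 31309], [9, 0, 22688, 31309], [10, 0, 22686, 31309], [14, 0, 9277, 31309, 9940], [28, 0, 6292, 31309], [7, 0, 16255, 31313], [8, 0, 16252, 31313], [12, 0, 31254, 31313], [14, 0, 31258, 31313, 17248], [3, 0, 22683, 31314], [4, 0, 31279, 31314], [14, 0, 24429, 31314, 16362], [28, 0, 16366, 31314], [6, 0, 19600, 31316, 22594], [9, 0, 31269, 31316], [10, 0, 31271, 31316], [14, 0, 22832, 31316, 22826], [28, 0, 22598, 31316], [10, 0, 25421, 31327, 15660], [6, 0, 17073, 31329, 19514], [10, 0, 23213, 31329, 19520], [10, 0, 31568, 25547, 31333, 31200], [5, 0, 28227, 31334], [3, 0, 31206, 31340], [14, 0, 25622, 31340, 25201], [28, 0, 28531, 31340, 16795], [12, 0, 31656, 25429, 31353, 31602, 11298], [10, 0, 27282, 31363], [4,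 0, 27889, 31367, 31400], [8, 0, 27885, 31367, 27244], [10, 0, 27442, 31369], [6, 0, 31398, 30502, 31371, 12374], [7, 0, 29417, 31375], [4, 0, 24786, 31390, 16187], [3, 0, 18271, 31390, 16188], [6, 0, 26793, 31390, 24262], [13, 0, 18269, 31390], [14, 0, 18266, 31390], [28, 0, 26797, 31390, 24312], [4, 0, 28407, 31409, 21086], [6, 0, 28409, 31409, 12524], [8, 0, 28405, 31409, 21112], [12, 0, 28414, 31409, 12522], [28, 0, 23248, 31411, 22573], [4, 0, 25219, 31413, 27976], [14, 0, 25215, 31413, 18190], [3, 0, 26586, 31414, 16143], [10, 0, 24699, 31414, 24170], [14, 0, 27979, 31414], [3, 0, 27962, 31416], [6, 0, 26853, 31416, 18274], [10, 0, 18319, 31416, 18278], [12, 0, 26856, 31416], [4, 0, 28845, 31418, 31718], [10, 0, 26813, 31420, 25564], [6, 0, 28838, 31422], [10, 0, 30222, 31422, 12038], [12, 0, 26837, 31424, 26581], [28, 0, 26841, 31424, 18093], [3, 0, 27320, 31431], [4, 0, 25486, 31441], [12, 0, 25480, 31441], [8, 0, 25294, 31443, 11638], [8, 0, 23707, 31445, 31572, 25678], [28, 0, 23712, 31445, 31572, 25597, 31538], [10, 0, 23699,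 31449, 31642, 19834, 31572], [6, 0, 30139, 31451, 11710], [10, 0, 14736, 31451, 11716], [14, 0, 13849, 31451, 11736], [28, 0, 14705, 31451, 11748], [8, 0, 25409, 31455, 19364], [28, 0, 25411, 31455, 22484], [4, 0, 16633, 31456, 31177], [13, 0, 31337, 31456], [14, 0, 31339, 31456], [28, 0, 31305, 31456], [10, 0, 25779, 31461, 16702], [10, 0, 25777, 31463, 6510], [6, 0, 23231, 31467, 19404], [10, 0, 21431, 31467, 19424], [28, 0, 23680, 31467, 19458], [8, 0, 23351, 31469, 24449, 31642], [3, 0, 19940, 31473, 31647, 11591], [8, 0, 28499, 31473, 31647, 19552], [12, 0, 28511, 31473, 31647, 11578], [14, 0, 25444, 31473, 31647, 19584], [6, 0, 19750, 31474, 31785, 11678], [8, 0, 19870, 31474, 31785, 11734], [12, 0, 11819, 31474, 31785, 4596], [28, 0, 11816, 31474, 31785], [4, 0, 31786, 28517, 31477, 28249], [4, 0, 31788, 28521, 31479, 11617], [6, 0, 21147, 31485, 31487, 30157], [10, 0, 21145, 31485, 31487, 30116, 31683], [12, 0, 29485, 31485, 31487, 18042], [3, 0, 22350, 31487, 30114], [12, 0, 28419, 31487, 18042], [14, 0, 23031, 31487, 11170],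 [3, 0, 31488, 21038, 31807, 20906], [6, 0, 29591, 31489, 19804], [8, 0, 29669, 31489, 28426], [12, 0, 21037, 31489, 28152], [13, 0, 31490, 25536, 31552, 24458], [4, 0, 25762, 31499], [9, 0, 25759, 31499], [10, 0, 25760, 31499], [10, 0, 25769, 31501, 11650], [4, 0, 23413, 31503, 28360], [8, 0, 23415, 31503, 28372], [12, 0, 23411, 31503, 19744], [3, 0, 30147, 31505, 27139], [10, 0, 30190, 31505, 28168], [28, 0, 30151, 31505, 27059], [6, 0, 23723, 31507, 31795, 19814], [12, 0, 31758, 23721, 31507, 31795, 11722], [6, 0, 28529, 31508, 31797, 4580], [6, 0, 17109, 31531, 6802], [12, 0, 6869, 31531, 2860], [14, 0, 17235, 31531, 6884], [28, 0, 22638, 31531], [14, 0, 31596, 17214, 31533, 22605], [7, 0, 6677, 31535], [8, 0, 6674, 31535], [14, 0, 16887, 31535, 10066], [4, 0, 31537, 25583, 31857, 17270], [6, 0, 30478, 31536, 31869, 25636], [28, 0, 25585, 31536, 31869], [4, 0, 31856, 25588, 31538, 31748, 23690], [6, 0, 25593, 31538, 31748, 23692], [27, 0, 31751, 25595, 31538, 31748], [4, 0, 29908, 31541, 31857, 17270], [3, 0, 29622, 31541, 31857,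 17284, 31750], [10, 0, 30579, 31541, 31857, 17296, 31571], [14, 0, 30574, 31541, 31857, 11072], [9, 0, 28237, 31543], [28, 0, 28240, 31543, 25608], [6, 0, 31545, 30484, 31544, 23321, 31885], [4, 0, 23196, 31547, 17270], [4, 0, 31493, 31552, 16693], [3, 0, 31495, 31552, 16694], [5, 0, 17115, 31552], [12, 0, 31483, 31552], [6, 0, 24639, 31561, 1519], [12, 0, 24651, 31561, 5308], [6, 0, 31706, 21311, 31563, 2846], [14, 0, 21365, 31563, 10066], [8, 0, 6728, 31565], [6, 0, 31570, 30464, 31571, 22471], [9, 0, 17299, 31571], [10, 0, 17296, 31571], [14, 0, 31510, 31571, 19100], [6, 0, 23192, 31572, 31750, 23692, 31876], [8, 0, 19831, 31572, 31750, 14690], [4, 0, 16686, 31574, 6501], [3, 0, 16643, 31574, 6497], [5, 0, 23909, 31574], [6, 0, 23911, 31574], [11, 0, 31355, 31574], [12, 0, 31357, 31574], [28, 0, 16640, 31574], [4, 0, 27623, 31579, 423], [8, 0, 27639, 31579, 1782], [12, 0, 19013, 31579, 2420], [28, 0, 31904, 24647, 31579, 2450], [28, 0, 31906, 24655, 31581, 13676], [4, 0, 5351, 31582, 1513], [8, 0, 14968, 31582, 5300, 31600], [28,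 0, 5348, 31582], [8, 0, 18073, 31595, 1520], [8, 0, 28038, 31597, 5238], [8, 0, 18241, 31599, 1782], [7, 0, 5303, 31600], [8, 0, 5300, 31600], [10, 0, 12855, 31600, 7592], [12, 0, 12865, 31600, 7600], [14, 0, 31952, 12875, 31600, 7608], [4, 0, 31172, 31602, 30963], [3, 0, 22766, 31602, 30981], [5, 0, 16963, 31602], [6, 0, 16968, 31602], [8, 0, 25399, 31602, 19098], [28, 0, 16965, 31602], [14, 0, 15569, 31605], [28, 0, 22544, 31605], [3, 0, 30736, 31607, 25436, 31791], [6, 0, 25367, 31607, 17022], [28, 0, 25369, 31607], [9, 0, 5262, 31610], [10, 0, 5261, 31610], [28, 0, 22534, 31610]]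
def dJ80 : List (List ℕ) := [[8, 0, 17205, 31613, 31860, 5238], [4, 0, 24193, 31617, 22892], [3, 0, 24176, 31617, 4422], [12, 0, 16165, 31617, 8501], [4, 0, 24213, 31619, 6244], [3, 0, 24215, 31619, 8956], [10, 0, 24219, 31619, 16181], [4, 0, 2539, 31627, 421], [6, 0, 4426, 31627, 1098], [8, 0, 9172, 31627, 9843], [12, 0, 6250, 31627, 2492], [28, 0, 2536, 31627], [4, 0, 24009, 31637, 25614, 31669], [6, 0, 24007, 31637, 30733], [8, 0, 24013, 31637, 25628], [28, 0, 30743, 31637], [4, 0, 31761, 24439, 31642, 22443], [6, 0, 24443, 31642, 22436], [8, 0, 24447, 31642, 11758], [12, 0, 24595, 31642, 31446], [13, 0, 16365, 31642], [28, 0, 24453, 31642], [9, 0, 31323, 31647], [10, 0, 31325, 31647], [14, 0, 28292, 31647, 19584], [28, 0, 19598, 31647], [8, 0, 28194, 31653, 19448], [12, 0, 19477, 31653, 11516], [28, 0, 19472, 31653], [3, 0, 23001, 31658, 17047], [5, 0, 19517, 31658], [6, 0, 19514, 31658], [10, 0, 25988, 31658, 17078], [28, 0, 23004, 31658, 17092], [2, 0, 31924, 31754, 31747], [3, 0, 21420, 31661, 31891, 25645], [6, 0, 23218, 31661,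 31891, 25696], [28, 0, 21425, 31661, 31891, 25607], [9, 0, 31202, 31662], [10, 0, 31200, 31662], [14, 0, 31464, 31662], [28, 0, 31350, 31662], [3, 0, 25617, 31669, 32024], [8, 0, 30749, 31669, 32024, 21986], [14, 0, 30755, 31671, 16774], [4, 0, 22501, 31673, 11264], [5, 0, 6723, 31673], [6, 0, 6720, 31673], [28, 0, 15543, 31673], [8, 0, 27547, 31677, 26961], [10, 0, 27537, 31679, 27878], [4, 0, 30130, 31683, 20892], [3, 0, 14589, 31683, 20906, 31816], [6, 0, 22785, 31683, 12376], [8, 0, 23602, 31683, 20910], [10, 0, 30118, 31683, 20920], [12, 0, 30206, 31683, 20924], [14, 0, 30103, 31683, 30529], [28, 0, 14590, 31683, 20932], [10, 0, 26709, 31687, 16230], [12, 0, 24789, 31689, 24256], [28, 0, 24793, 31689, 24203], [3, 0, 28748, 31691, 27399], [10, 0, 26795, 31691, 24266], [14, 0, 26799, 31697], [3, 0, 31698, 27122, 32104, 30129], [6, 0, 27125, 31699, 32131, 30173], [8, 0, 30512, 31699, 32131, 18462], [14, 0, 27131, 31699, 32131, 11258], [28, 0, 27134, 31699, 32131, 30132], [4, 0, 32064, 26031, 31701, 12450], [3, 0, 26032, 31701, 12403],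 [12, 0, 32142, 26037, 31701, 5038], [4, 0, 31702, 30511, 32135, 30176, 32109], [10, 0, 23759, 31703, 32147, 26271], [12, 0, 30580, 31703, 32147, 29546], [28, 0, 23762, 31703, 32147, 29552], [3, 0, 32132, 26042, 31705, 12484], [8, 0, 32150, 30584, 31705, 12496], [10, 0, 23428, 31705, 12508], [14, 0, 31838, 23425, 31705, 12530], [4, 0, 31832, 23017, 31707, 31909, 6778], [8, 0, 32066, 23015, 31707, 31909, 6784], [14, 0, 24239, 31709, 31957, 5392], [6, 0, 18199, 31710, 25202], [12, 0, 26717, 31710, 25206], [13, 0, 31711, 18192, 31959, 12717], [28, 0, 28060, 31710, 32173, 21238], [10, 0, 26585, 31713, 16156, 32167], [10, 0, 24170, 31714], [28, 0, 24399, 31714, 24706], [3, 0, 30341, 31721, 30002], [10, 0, 26849, 31721, 7698], [28, 0, 30301, 31721, 10789], [3, 0, 27988, 31722, 31970, 27949, 31957], [6, 0, 7629, 31722, 31970, 3230], [10, 0, 18280, 31722, 31970, 7592], [12, 0, 18300, 31722, 31970, 7600], [28, 0, 7626, 31722, 31970], [11, 0, 31726, 31725, 32193, 31388], [12, 0, 26819, 31729, 32001, 12694], [14, 0, 26823, 31729, 32001, 12714],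 [28, 0, 26825, 31729, 32001, 12734], [14, 0, 25491, 31733, 29944], [28, 0, 28338, 31733, 10739], [4, 0, 32200, 26839, 31735, 28053], [3, 0, 32204, 26843, 31737, 31957, 5243], [6, 0, 32208, 30489, 31737, 31957, 5368], [14, 0, 17577, 31745, 19688], [28, 0, 24478, 31745, 22779], [4, 0, 32071, 25681, 32068, 14650], [3, 0, 25682, 32068, 14682], [6, 0, 24589, 31748, 23692, 31876, 31922], [2, 0, 32225, 31923, 31877], [6, 0, 25675, 31750, 23692, 32226], [14, 0, 12215, 31753, 24459], [28, 0, 30099, 31753, 22347, 31825], [28, 0, 30101, 31753, 32232], [6, 0, 14733, 31755, 31925, 5842], [14, 0, 23748, 31755, 31925, 14710], [28, 0, 14728, 31755, 31925], [4, 0, 19873, 31756, 12762], [6, 0, 19875, 31756, 5432], [12, 0, 19879, 31756, 9702], [13, 0, 11739, 31756], [14, 0, 11736, 31756], [28, 0, 19881, 31756, 13854], [3, 0, 31780, 23676, 31759, 31849, 11505], [14, 0, 14703, 31759, 31849, 32251], [6, 0, 19369, 31760, 32033, 14238], [12, 0, 28111, 31760, 32033, 22208], [28, 0, 19374, 31760, 32033], [8, 0, 23263, 31763, 22462], [3, 0, 31667, 31764], [4,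 0, 31177, 31764], [7, 0, 31344, 31764], [8, 0, 31342, 31764], [28, 0, 16790, 31764], [8, 0, 25785, 31773, 25090], [8, 0, 23333, 31775, 16744], [4, 0, 32158, 19423, 31776, 17558], [3, 0, 19416, 31776, 17563], [5, 0, 19407, 31776], [6, 0, 19404, 31776], [8, 0, 32258, 19409, 31776, 17556], [10, 0, 31823, 28135, 31776, 22406], [14, 0, 30352, 31776, 22402], [28, 0, 19420, 31776, 22412], [9, 0, 19427, 31778], [10, 0, 19424, 31778], [6, 0, 32295, 23679, 31781, 32255, 32287], [6, 0, 14409, 31783, 22436, 32034], [12, 0, 23376, 31783, 31446, 32278], [14, 0, 23388, 31783, 32040], [28, 0, 14412, 31783, 32043], [28, 0, 14406, 31783, 32308], [14, 0, 11804, 31785], [4, 0, 25436, 31791, 28274], [3, 0, 25439, 31791, 31521], [6, 0, 30726, 31791, 19590], [10, 0, 25443, 31791, 31517], [12, 0, 25448, 31791, 19596], [4, 0, 31407, 31793, 31496], [8, 0, 27049, 31793, 19686], [12, 0, 19753, 31793, 11666], [14, 0, 31806, 19755, 31793, 19732], [28, 0, 19746, 31793], [14, 0, 28462, 31795, 19852], [28, 0, 19868, 31795], [14, 0, 8619, 31797, 8916], [28, 0, 4606,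 31797], [12, 0, 28251, 31800, 19534], [28, 0, 28246, 31800], [14, 0, 19626, 31802, 11592], [28, 0, 11612, 31802], [4, 0, 20943, 31805, 22606, 32207], [8, 0, 20843, 31805, 11640], [10, 0, 12591, 31805, 19662, 32107], [12, 0, 12523, 31807, 20924], [28, 0, 32331, 19741, 31807, 20932, 32116], [28, 0, 32358, 32331, 19743, 31807, 32359], [10, 0, 29481, 31809, 30199], [4, 0, 31810, 22352, 32232, 9818], [6, 0, 32282, 22355, 31811, 32365, 7932], [8, 0, 32364, 18587, 31811, 32365, 7936], [12, 0, 31841, 27144, 31811, 32365, 7940], [14, 0, 24694, 31811, 32365, 9574], [4, 0, 31812, 28425, 31846, 18502], [10, 0, 28421, 31813, 30199, 32362], [28, 0, 28423, 31813, 30164, 32374], [8, 0, 13752, 31815, 7482], [28, 0, 21517, 31815, 7526], [2, 0, 32236, 32105, 31817], [3, 0, 32103, 20909, 32384, 5832], [8, 0, 32149, 26268, 32384, 5844], [3, 0, 29592, 31819, 31925, 14682], [12, 0, 29587, 31819, 31925, 14667, 32220], [4, 0, 31820, 29671, 32147, 26267, 32148, 32389], [10, 0, 32146, 29753, 31821, 32395, 14742], [12, 0, 29665, 31821, 32395, 14746]]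
def dJ81 : List (List ℕ) := [[8, 0, 28139, 31822, 21020, 32399], [11, 0, 31823, 28151, 32104, 32237, 5857], [14, 0, 30375, 31822, 32403, 14840], [28, 0, 28147, 31822, 32403, 14858, 32290, 32403], [7, 0, 18489, 31825, 32232], [8, 0, 18486, 31825, 32232], [8, 0, 21557, 31833, 32163, 17042, 32207], [12, 0, 28363, 31834, 32139, 14681], [7, 0, 31837, 28374, 32330, 32359, 14559], [12, 0, 28377, 31836, 32417, 30257], [2, 0, 32416, 32396, 32108], [3, 0, 30380, 31839, 32161, 30245], [6, 0, 23052, 31839, 32161, 21152], [6, 0, 27141, 31840, 32371, 18544], [8, 0, 32370, 27143, 31840, 32371, 18578], [4, 0, 32426, 28159, 31842, 26014], [5, 0, 28161, 31842], [6, 0, 28170, 31842], [8, 0, 28163, 31842, 26016], [9, 0, 31843, 28156, 31846, 23515], [28, 0, 28167, 31842, 32439, 26019, 32439], [2, 0, 32441, 32438, 31843], [28, 0, 28165, 32442], [27, 0, 31847, 27061, 31844], [5, 0, 19813, 31846], [6, 0, 19814, 31846], [28, 0, 11748, 31849], [14, 0, 28527, 31851, 11680], [8, 0, 25516, 31853, 17090], [9, 0, 31852, 31213, 32230, 10857], [12, 0, 31908, 17105,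 31853, 32459, 14166], [14, 0, 22621, 31853, 32459, 10860], [28, 0, 32458, 22625, 31853, 32459, 14176], [10, 0, 2854, 31855], [28, 0, 22582, 31855], [28, 0, 22649, 31857], [6, 0, 22897, 31860, 1508], [12, 0, 12796, 31860, 5244], [13, 0, 22603, 31860], [14, 0, 22605, 31860], [28, 0, 5282, 31860], [8, 0, 31373, 31867, 424], [6, 0, 18749, 31869, 25636], [14, 0, 27357, 31869, 31527], [4, 0, 32225, 31923, 29614, 31871, 32484, 15703], [3, 0, 29617, 31871, 32484, 29826], [2, 0, 32488, 32225, 31923], [28, 0, 32485, 30480, 31871, 32484, 29879], [4, 0, 23690, 31874], [8, 0, 23695, 32226, 32489, 21010], [28, 0, 25709, 31881, 31873], [14, 0, 29910, 31883, 23700], [28, 0, 29914, 31883, 31878], [28, 0, 29912, 31883, 32504], [6, 0, 29321, 31887, 6802, 32459], [28, 0, 16957, 31893], [9, 0, 17705, 31895], [10, 0, 17706, 31895], [14, 0, 26087, 31895, 31527], [28, 0, 16726, 31897], [3, 0, 31899, 16695, 32230, 4866], [3, 0, 16690, 31898, 32521, 4863], [14, 0, 23143, 31898, 32521, 12156], [28, 0, 32520, 23145, 31898, 32521, 12172], [12, 0, 24643, 31905, 2420],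 [10, 0, 6788, 31909], [14, 0, 22654, 31909], [28, 0, 22573, 31909], [8, 0, 31685, 31911, 424], [6, 0, 22471, 31914], [12, 0, 23305, 31914, 19080], [4, 0, 32321, 25182, 31921, 27664], [14, 0, 21003, 32492, 12454], [28, 0, 32488, 32228, 25676, 32492, 29865], [9, 0, 11719, 31925], [10, 0, 11716, 31925], [14, 0, 19841, 31925, 14710], [11, 0, 31348, 31927], [12, 0, 31346, 31927], [28, 0, 16682, 31927], [14, 0, 10011, 31929, 10556], [28, 0, 6526, 31929], [12, 0, 27619, 31941, 2492], [12, 0, 27635, 31943, 6022], [10, 0, 19009, 31945, 6094], [14, 0, 8953, 31945, 6100], [28, 0, 32528, 19015, 31945, 6120], [8, 0, 6066, 31946, 1782], [28, 0, 2450, 31946], [3, 0, 13681, 31948, 5319], [10, 0, 21418, 31948, 12888], [28, 0, 13676, 31948], [6, 0, 15307, 31951, 346], [8, 0, 5420, 31951, 1520], [28, 0, 1560, 31951], [3, 0, 27949, 31957], [10, 0, 12011, 31957, 5376], [12, 0, 18075, 31957, 5384], [4, 0, 7582, 31959], [10, 0, 18179, 31959, 11832], [12, 0, 18185, 31959, 12694], [6, 0, 7641, 31961, 10837], [10, 0, 18325, 31961, 6016], [12, 0, 18331, 31961,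 6022], [14, 0, 18333, 31961, 6032], [8, 0, 12859, 31967, 18250], [7, 0, 12869, 31969], [8, 0, 12870, 31969], [14, 0, 7608, 31970], [14, 0, 25172, 31973, 16752], [28, 0, 16768, 31973], [5, 0, 19383, 31975], [6, 0, 19384, 31975], [14, 0, 31470, 31975, 14914], [28, 0, 31199, 31975], [28, 0, 25395, 31981], [6, 0, 28539, 31989, 19590], [4, 0, 31383, 31991, 24302], [3, 0, 31385, 31991, 24261], [10, 0, 32608, 31615, 31991, 24400], [12, 0, 24407, 31991, 16238], [14, 0, 32174, 25569, 32001, 12714], [12, 0, 24189, 32003, 32473, 4446], [12, 0, 24175, 32005, 32339, 1120], [4, 0, 8491, 32006, 32570, 4388], [3, 0, 11366, 32006, 32570, 4451], [10, 0, 18990, 32006, 32570, 8456], [28, 0, 8488, 32006, 32570], [4, 0, 32010, 24216, 32009, 32572, 2424], [6, 0, 32166, 24221, 32013, 18989, 32653], [6, 0, 499, 32015, 84], [28, 0, 496, 32015], [28, 0, 4420, 32017], [6, 0, 4727, 32019, 1226], [10, 0, 11896, 32019, 4678], [12, 0, 11928, 32019, 4688], [14, 0, 11992, 32019, 4702], [28, 0, 4724, 32019], [10, 0, 16180, 32021, 6210], [28, 0, 6242, 32021], [28, 0, 25198,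 32024, 32089], [4, 0, 24090, 32026, 16075], [3, 0, 24039, 32026, 16059], [5, 0, 30731, 32026], [6, 0, 30733, 32026], [28, 0, 24036, 32026], [7, 0, 25631, 32028], [8, 0, 25628, 32028], [28, 0, 30751, 32028], [14, 0, 32264, 17545, 32033, 22228], [3, 0, 17535, 32034, 32302, 16031], [5, 0, 32303, 32035, 22439, 32308, 5665], [2, 0, 32546, 32488, 32225], [28, 0, 22930, 32037], [3, 0, 32260, 28112, 32039, 32278, 23285], [6, 0, 24599, 32039, 32278, 14380], [6, 0, 28291, 32049, 19590], [28, 0, 28192, 32053], [13, 0, 22928, 32055], [14, 0, 22926, 32055], [28, 0, 11540, 32055], [14, 0, 21569, 32059, 32207, 29947], [28, 0, 32412, 21572, 32059, 32207, 29949], [2, 0, 32544, 32140, 32064], [28, 0, 26162, 32726, 12470], [4, 0, 32218, 21548, 32067, 32165, 22610], [10, 0, 32728, 26160, 32067, 32165, 17078, 32141, 32545], [7, 0, 25643, 32070], [8, 0, 25640, 32070], [2, 0, 32544, 32140, 32073], [6, 0, 32222, 25699, 32738, 12422], [8, 0, 32739, 30486, 32738, 12434], [10, 0, 32342, 31889, 32074, 32741, 14540], [28, 0, 32740, 32222, 25609, 32074, 32741, 20992],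 [6, 0, 22009, 32087, 14086], [28, 0, 22006, 32087], [3, 0, 32085, 32089], [6, 0, 24096, 32089, 31519], [8, 0, 21987, 32089, 25186], [5, 0, 11497, 32091], [6, 0, 11494, 32091], [14, 0, 19387, 32091, 19050], [28, 0, 22487, 32091], [6, 0, 31405, 32098, 27540], [3, 0, 27863, 32100, 27509], [6, 0, 20895, 32102, 32387, 14592], [8, 0, 20899, 32102, 32387, 14604], [14, 0, 32186, 29515, 32102, 32387, 30074], [8, 0, 30246, 32107, 12384], [10, 0, 19665, 32107, 12390], [28, 0, 22781, 32107, 12416], [3, 0, 30176, 32420, 14609], [6, 0, 32419, 30250, 32420, 23576], [10, 0, 32394, 28433, 32420, 23580], [28, 0, 23600, 32420], [9, 0, 32111, 20922, 32359, 10203], [8, 0, 32785, 30203, 32113, 32356, 12496], [10, 0, 12287, 32114, 12144], [13, 0, 32115, 30526, 32359, 14581], [6, 0, 28694, 32119, 24332]]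
def dJ82 : List (List ℕ) := [[6, 0, 24791, 32121, 32636, 29298], [10, 0, 32642, 32174, 28058, 32123, 25225], [10, 0, 28747, 32125, 27403], [8, 0, 28737, 32127, 25234], [8, 0, 26222, 32133, 32155, 21062], [10, 0, 32282, 26041, 32133, 32155, 30272], [10, 0, 32782, 27023, 32135, 32783, 23640], [12, 0, 32808, 30506, 32135, 32783, 23634], [4, 0, 21381, 32137, 10774], [10, 0, 17081, 32141, 32545, 9765], [28, 0, 32776, 32424, 24722, 32143, 32145, 5048], [2, 0, 32820, 32776, 32424], [6, 0, 26317, 32148, 32389, 14738], [10, 0, 32499, 29645, 32151, 32157, 21102], [3, 0, 29555, 32152, 32417, 14609], [6, 0, 29557, 32152, 32417, 23576, 32784, 32793], [4, 0, 29549, 32157, 21070], [6, 0, 29551, 32157, 21098], [14, 0, 23478, 32159, 21130], [28, 0, 14468, 32159, 29991], [28, 0, 12542, 32161], [5, 0, 11655, 32163], [6, 0, 11658, 32163], [14, 0, 11662, 32163], [28, 0, 15688, 32163], [12, 0, 32456, 25522, 32165, 32819, 14542], [28, 0, 32818, 17098, 32165, 32819, 14548], [4, 0, 16172, 32167, 13820], [10, 0, 32571, 16159, 32167, 13834], [12, 0, 24233, 32167,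 13838], [28, 0, 24241, 32167, 13844], [5, 0, 32169, 25204, 32173, 21213], [6, 0, 26720, 32171], [4, 0, 16799, 32173, 21206], [3, 0, 16796, 32173, 21208], [10, 0, 16801, 32173, 21218], [12, 0, 25207, 32173, 21222], [6, 0, 28057, 32175, 32643, 21210, 32862], [3, 0, 18085, 32177, 13822], [28, 0, 26589, 32177, 13844], [27, 0, 32181, 24711, 32877, 21654], [10, 0, 30343, 32183, 29999], [4, 0, 32882, 26845, 32185, 32191, 3222], [6, 0, 18089, 32189, 5368, 32214], [14, 0, 32878, 26590, 32189, 5392], [8, 0, 7666, 32191, 3232], [12, 0, 7728, 32191, 3240], [14, 0, 9525, 32191, 10160], [28, 0, 3258, 32191], [14, 0, 32128, 32193, 31695], [28, 0, 18272, 32193], [14, 0, 25905, 32195, 18282], [28, 0, 18298, 32195], [6, 0, 31730, 32199, 32593, 13760, 32817], [14, 0, 32592, 20201, 32199, 32593, 13784], [6, 0, 28092, 32203, 21210, 32862], [8, 0, 17045, 32207, 12560], [12, 0, 31742, 32207, 12564], [28, 0, 32600, 28055, 32210, 21204], [28, 0, 12734, 32213], [5, 0, 5371, 32214], [6, 0, 5368, 32214], [8, 0, 5373, 32214, 7540], [12, 0, 13763, 32214, 7548], [8,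 0, 29761, 32216, 32288, 14250], [14, 0, 19691, 32216, 32288, 14282], [4, 0, 14650, 32220], [11, 0, 14668, 32220], [12, 0, 14667, 32220], [28, 0, 14664, 32220], [8, 0, 17295, 32223, 32741, 20974], [4, 0, 17733, 32704, 10902], [3, 0, 17734, 32704, 11135], [8, 0, 26123, 32704, 14470], [6, 0, 31901, 32230, 12178], [8, 0, 32231, 23917, 32230, 12188], [12, 0, 32231, 31902, 32230, 12204], [13, 0, 32231, 24456, 32232, 30042], [5, 0, 11713, 32232], [6, 0, 11710, 32232], [14, 0, 8763, 32237, 9158], [28, 0, 5866, 32237], [28, 0, 23746, 32239], [28, 0, 28465, 32243, 21254], [3, 0, 28471, 32245, 1637], [28, 0, 28475, 32245, 5814], [28, 0, 28479, 32247, 6660], [4, 0, 32966, 28466, 32253, 32257, 12762], [6, 0, 32970, 28476, 32253, 32257, 5432], [12, 0, 32972, 28480, 32253, 32257, 9702], [28, 0, 19458, 32255], [28, 0, 13854, 32257], [4, 0, 16032, 32259, 5659], [12, 0, 32436, 22278, 32259, 14266], [28, 0, 14294, 32259], [28, 0, 28117, 32261], [3, 0, 32277, 31438, 32327, 31826, 32915], [28, 0, 32914, 25093, 32276, 32993, 29995], [7, 0, 16747, 32278],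 [8, 0, 16744, 32278], [14, 0, 25975, 32280, 21130], [8, 0, 32984, 17599, 32283, 7176], [14, 0, 23043, 32283, 17660], [28, 0, 17605, 32283, 22371, 32366], [5, 0, 14861, 32290, 32403], [6, 0, 14863, 32290, 32403], [8, 0, 23770, 32290, 32403, 14762], [14, 0, 23840, 32290, 32403, 14840], [28, 0, 14858, 32290, 32403], [27, 0, 32928, 30240, 32293, 32294], [5, 0, 32285, 32300], [6, 0, 32287, 32300], [6, 0, 23375, 32305, 14380], [28, 0, 23372, 32305], [4, 0, 30553, 32307, 31638], [28, 0, 23394, 32307, 31645], [3, 0, 22442, 32308], [4, 0, 11762, 32308], [7, 0, 11759, 32308], [8, 0, 11756, 32308], [4, 0, 28274, 32314], [6, 0, 30442, 32314, 17022], [12, 0, 30398, 32314, 17028], [4, 0, 25434, 32317], [3, 0, 28559, 32319, 27699], [12, 0, 30724, 32319, 19184], [3, 0, 25180, 32320], [6, 0, 31513, 32320, 32689], [9, 0, 31515, 32320], [10, 0, 31517, 32320], [10, 0, 27733, 32322, 27404], [5, 0, 16707, 32325], [9, 0, 32324, 16704, 32523, 4879], [14, 0, 23139, 32325, 33065, 30028], [28, 0, 33064, 23134, 32325, 33065, 30032], [28, 0, 27045, 32327], [9, 0,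 15673, 32329], [10, 0, 15671, 32329], [14, 0, 22740, 32329, 11680], [28, 0, 11700, 32329], [6, 0, 19737, 32330, 32359, 14550, 32781], [14, 0, 19735, 32330, 32359, 14578, 32796], [28, 0, 28460, 32335], [6, 0, 15225, 32339, 280], [28, 0, 1218, 32339], [28, 0, 19560, 32343], [4, 0, 22856, 32347, 22803], [28, 0, 19624, 32347], [8, 0, 29221, 32351, 12560, 32912], [12, 0, 29231, 32351, 12564], [10, 0, 20837, 32353, 33072], [8, 0, 12559, 32355, 12384, 32821], [11, 0, 5039, 32355], [12, 0, 5036, 32355], [11, 0, 32357, 20926, 32359, 30260], [6, 0, 12377, 32359, 14550, 32781], [7, 0, 32363, 25970, 32711, 14431], [14, 0, 9021, 32365, 9574], [28, 0, 7952, 32365], [5, 0, 7935, 32366], [6, 0, 7932, 32366], [2, 0, 33002, 32984, 32700], [28, 0, 22371, 32366], [8, 0, 7936, 32368], [14, 0, 27166, 32371, 18588], [28, 0, 18604, 32371], [4, 0, 24691, 32373, 1330], [10, 0, 24693, 32373, 622], [3, 0, 18501, 32374], [4, 0, 18502, 32374], [28, 0, 30164, 32374], [3, 0, 32430, 32426, 26050, 32377, 33113, 22321], [28, 0, 23454, 32377, 33113], [7, 0, 23447, 32379],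 [8, 0, 23442, 32379], [9, 0, 23437, 32379], [10, 0, 23434, 32379], [7, 0, 7485, 32380], [8, 0, 7482, 32380], [10, 0, 30906, 32380, 13932], [12, 0, 17945, 32380, 13946], [14, 0, 17951, 32380, 13970], [28, 0, 17955, 32380, 16009], [8, 0, 21525, 32383, 32885, 33157], [28, 0, 30135, 32387], [14, 0, 23806, 32389, 14764], [28, 0, 14782, 32389], [12, 0, 20978, 32391, 32741], [3, 0, 20964, 32393], [6, 0, 32946, 28429, 32395, 14738], [6, 0, 20917, 32397, 32417, 23576, 32784, 32793], [6, 0, 29653, 32399, 23754], [6, 0, 26101, 32401, 23754], [10, 0, 29929, 32401, 23494], [28, 0, 26155, 32401, 23768, 33013], [14, 0, 21043, 32403, 14840], [3, 0, 33014, 30310, 32405, 23818], [6, 0, 29717, 32405, 23822], [10, 0, 29715, 32405, 30360], [9, 0, 22233, 32407]]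
def dJ83 : List (List ℕ) := [[10, 0, 22230, 32407], [6, 0, 23048, 32413, 12518], [10, 0, 32823, 21559, 32413, 5034], [28, 0, 21094, 32415, 32770], [4, 0, 30249, 32418, 32793], [11, 0, 30255, 32418, 32793], [12, 0, 30257, 32418, 32793], [8, 0, 30385, 32423, 32770, 21062], [14, 0, 21088, 32423, 32770], [8, 0, 26053, 32427, 32431, 17644], [8, 0, 18578, 32428], [5, 0, 18543, 32431], [6, 0, 18544, 32431], [8, 0, 22329, 32431, 17644], [9, 0, 18541, 32431], [10, 0, 18550, 32431], [13, 0, 18549, 32431], [14, 0, 18546, 32431], [28, 0, 22384, 32431], [3, 0, 33218, 22275, 32437, 32987, 14325], [28, 0, 22272, 32437, 32987], [5, 0, 32433, 32439, 32440], [6, 0, 32435, 32439, 32440], [8, 0, 23513, 32440, 22240], [9, 0, 23515, 32440], [10, 0, 23520, 32440], [12, 0, 33076, 28397, 32455, 19778], [6, 0, 6801, 32459, 14142], [8, 0, 32850, 17091, 32459, 14150], [14, 0, 17121, 32459, 10860], [8, 0, 22083, 32460, 6784, 32819], [11, 0, 14169, 32460], [12, 0, 14166, 32460], [6, 0, 8127, 32463, 5524], [28, 0, 33258, 17127, 32463, 5600], [8, 0, 22102, 32464, 14150],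 [28, 0, 14176, 32464], [14, 0, 4454, 32473], [28, 0, 22887, 32473], [14, 0, 21306, 32475, 12766], [28, 0, 12790, 32475], [14, 0, 12265, 32483, 2566], [5, 0, 25639, 32484, 32495], [6, 0, 25636, 32484, 32495], [27, 0, 32516, 30570, 32487], [4, 0, 17517, 32489, 32547, 10902], [6, 0, 32490, 30483, 32491, 16025, 33291], [8, 0, 18753, 32495, 17708], [14, 0, 10247, 32495, 29937], [28, 0, 29876, 32495], [3, 0, 29855, 32498, 33178, 14485], [28, 0, 29916, 32498, 33178], [3, 0, 23271, 32501], [11, 0, 23279, 32501], [12, 0, 23276, 32501], [13, 0, 32505, 23703, 32502], [3, 0, 32496, 32504], [8, 0, 14691, 32504, 23354], [8, 0, 22071, 32509, 14150], [6, 0, 31481, 32521, 12132], [14, 0, 11087, 32521, 12156, 32524], [28, 0, 32522, 32518, 32523, 4892], [13, 0, 12159, 32524, 33320], [14, 0, 12156, 32524, 33320], [28, 0, 29907, 32524, 33320, 7062, 33320], [28, 0, 12172, 32526], [8, 0, 27642, 32529, 6028], [10, 0, 27646, 32529, 6094], [14, 0, 20753, 32537, 2566], [4, 0, 23310, 32541], [6, 0, 23308, 32541], [3, 0, 27664, 32542, 25475], [12, 0, 12442, 32545],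 [28, 0, 29862, 32547], [3, 0, 28260, 32553, 23728], [10, 0, 28257, 32553, 23738], [6, 0, 6374, 32561, 2546], [10, 0, 6438, 32561, 2554], [12, 0, 6484, 32561, 2558], [28, 0, 2602, 32561], [10, 0, 19132, 32565, 6210], [14, 0, 27625, 32565, 6218], [28, 0, 33332, 27641, 32567, 14956], [28, 0, 33334, 27645, 32569, 16140], [13, 0, 10003, 32570], [14, 0, 6100, 32570], [28, 0, 6120, 32572], [6, 0, 23081, 32575, 10837, 32602], [28, 0, 6058, 32575], [8, 0, 13818, 32579, 5390], [14, 0, 13930, 32579, 5438], [28, 0, 5464, 32579], [28, 0, 21416, 32581], [8, 0, 15140, 32585, 348], [14, 0, 364, 32585], [28, 0, 15137, 32585], [28, 0, 5416, 32587], [4, 0, 27927, 32593], [11, 0, 31388, 32593], [12, 0, 31386, 32593], [4, 0, 27985, 32595], [9, 0, 31396, 32595], [10, 0, 31394, 32595], [14, 0, 32646, 31716, 32599, 19964], [3, 0, 18189, 32601], [4, 0, 5515, 32602], [5, 0, 10835, 32602], [6, 0, 10837, 32602], [10, 0, 13991, 32602, 7642], [12, 0, 14007, 32602, 7646], [14, 0, 33374, 14025, 32602, 7654], [7, 0, 26859, 32605], [8, 0, 26860, 32605], [12, 0, 31074,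 32605, 13294], [10, 0, 31376, 32607, 13202], [4, 0, 31378, 32609, 16058], [3, 0, 31380, 32609, 16072], [6, 0, 26767, 32610, 13998, 33417], [8, 0, 18253, 32610, 33422], [28, 0, 25170, 32619], [28, 0, 14936, 32627], [4, 0, 19971, 32633, 27726, 33043], [3, 0, 19968, 32633, 27699, 33048], [8, 0, 28545, 32633, 27756], [14, 0, 25010, 32633, 27776], [4, 0, 32635, 24303, 33442, 16114], [12, 0, 24299, 32634, 33451, 19998], [6, 0, 33343, 25479, 32638, 16092], [4, 0, 24201, 32641, 16182], [8, 0, 24376, 32641, 16214], [28, 0, 16240, 32641], [28, 0, 21238, 32643], [10, 0, 32854, 16174, 32645, 11322], [14, 0, 33456, 24195, 32645, 11342], [10, 0, 32876, 32178, 32647, 4514], [6, 0, 4551, 32649, 1124], [10, 0, 11450, 32649, 4514], [14, 0, 11490, 32649, 4522], [28, 0, 4548, 32649], [10, 0, 19136, 32651, 11322], [14, 0, 19200, 32651, 11342], [28, 0, 11364, 32651], [6, 0, 32676, 18987, 32653, 32658, 13826], [12, 0, 33478, 19138, 32653, 32658, 13838], [14, 0, 27608, 32653, 32658, 10816], [6, 0, 8689, 32657, 444], [14, 0, 2680, 32657], [28, 0, 8990, 32657],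 [8, 0, 22815, 32658, 13830], [14, 0, 9034, 32661, 9595], [28, 0, 140, 32661], [10, 0, 4800, 32667, 1228], [12, 0, 4852, 32667, 1234], [28, 0, 1288, 32667], [28, 0, 11888, 32669], [14, 0, 20054, 32671, 11906], [28, 0, 11922, 32671], [4, 0, 20080, 32673, 11930], [6, 0, 20126, 32673, 11956], [10, 0, 20164, 32673, 11964], [28, 0, 11990, 32673], [28, 0, 16176, 32677], [28, 0, 24088, 32683], [6, 0, 24130, 32685, 16092], [12, 0, 24168, 32685, 16118], [28, 0, 16134, 32685], [14, 0, 22228, 32698], [14, 0, 10083, 33122, 10660], [28, 0, 7194, 33122], [28, 0, 5690, 32703], [3, 0, 23285, 32708], [9, 0, 23283, 32708], [10, 0, 23288, 32708], [28, 0, 27780, 32713], [8, 0, 13779, 32723, 32887, 7540, 32924], [28, 0, 29949, 32724], [28, 0, 22779, 32731], [13, 0, 29921, 32733], [14, 0, 29923, 32733], [28, 0, 12470, 32733], [3, 0, 14682, 32741], [8, 0, 12434, 32742], [9, 0, 14537, 32744], [10, 0, 14540, 32744], [28, 0, 20992, 32746], [10, 0, 22042, 32749, 14104], [12, 0, 22054, 32749, 14118], [28, 0, 14136, 32749], [3, 0, 24095, 32755, 33053], [8, 0, 30813,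 32755, 25186, 32756], [7, 0, 25189, 32756], [8, 0, 25186, 32756], [28, 0, 22838, 32763], [4, 0, 27543, 32766, 19308], [6, 0, 27857, 32769, 18882], [4, 0, 14677, 32770], [5, 0, 14595, 32770], [6, 0, 14592, 32770], [11, 0, 14679, 32770], [12, 0, 14681, 32770]]
def dJ84 : List (List ℕ) := [[6, 0, 17815, 32773, 23636], [3, 0, 30003, 32774, 7493], [8, 0, 18442, 32774, 7674], [13, 0, 30076, 32774], [14, 0, 30074, 32774], [28, 0, 7696, 32774], [3, 0, 12395, 32778], [9, 0, 12393, 32778], [10, 0, 12390, 32778], [5, 0, 14553, 32781, 33110], [6, 0, 14550, 32781, 33110], [28, 0, 30181, 32783], [6, 0, 23579, 32784, 32793, 21098], [9, 0, 23583, 32786], [10, 0, 23580, 32786], [3, 0, 10201, 32790], [4, 0, 7926, 32790], [7, 0, 32410, 32790], [8, 0, 32408, 32790], [9, 0, 10203, 32790], [10, 0, 10205, 32790], [28, 0, 30120, 32790], [28, 0, 21118, 32793], [7, 0, 4875, 32795], [8, 0, 4872, 32795], [13, 0, 14581, 32796, 33082], [14, 0, 14578, 32796, 33082], [3, 0, 28693, 32799, 27407], [4, 0, 29295, 32800, 20154], [10, 0, 33576, 29293, 32800, 24830], [3,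 0, 25223, 32802, 21208, 32868], [4, 0, 25226, 32804], [9, 0, 32805, 27400, 33051, 19179], [4, 0, 28742, 32807], [6, 0, 26221, 32809, 33214, 26204], [9, 0, 30274, 32810], [10, 0, 30272, 32810], [10, 0, 23640, 32812], [10, 0, 23631, 32814, 33214, 17788], [11, 0, 23633, 32814, 33214], [12, 0, 23634, 32814, 33214], [5, 0, 13759, 32817], [6, 0, 13760, 32817], [8, 0, 21533, 32817, 12012], [3, 0, 22611, 32819], [5, 0, 32061, 32819], [6, 0, 32063, 32819], [7, 0, 6787, 32819], [8, 0, 6784, 32819], [3, 0, 26312, 32825, 33178, 14485], [9, 0, 21105, 32826, 33178], [10, 0, 21102, 32826, 33178], [6, 0, 26281, 32829, 23636, 33600], [4, 0, 26379, 32831, 21070, 33214], [6, 0, 26277, 32833, 33214, 26204, 33668], [4, 0, 26373, 32835, 33624, 14560], [3, 0, 26374, 32835, 33624, 14609], [3, 0, 33196, 30368, 32837, 33197, 23458], [6, 0, 30414, 32837, 33197, 23460], [28, 0, 23474, 32837, 33197], [27, 0, 33203, 29989, 32838], [4, 0, 32914, 31740, 32851, 33257, 14154], [3, 0, 23232, 32851, 33257, 20569], [6, 0, 31665, 32851, 33257, 22062], [28, 0, 14548, 32852],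 [11, 0, 24245, 32855, 33465], [12, 0, 24246, 32855, 33465], [9, 0, 13837, 32856], [10, 0, 13834, 32856], [4, 0, 24248, 32859, 33486], [3, 0, 32880, 24397, 32861, 32889, 13822, 33469], [5, 0, 21213, 32862], [6, 0, 21210, 32862], [4, 0, 21206, 32866], [3, 0, 21208, 32868], [10, 0, 21221, 32870, 33467, 19176], [3, 0, 25209, 32873], [4, 0, 25210, 32873], [6, 0, 32865, 32873], [10, 0, 20105, 32875, 11946], [28, 0, 20102, 32875], [14, 0, 24393, 32881, 33741, 11424], [12, 0, 18020, 32885, 7496], [28, 0, 7526, 32885], [12, 0, 18146, 32887, 7548], [13, 0, 29945, 32887], [14, 0, 29947, 32887], [28, 0, 7570, 32887], [28, 0, 13844, 32889], [10, 0, 18372, 32891, 7642], [12, 0, 18396, 32891, 7646], [14, 0, 18406, 32891, 7654, 33420], [28, 0, 7664, 32891], [28, 0, 7726, 32893], [10, 0, 3162, 32895, 510], [12, 0, 3212, 32895, 514], [28, 0, 562, 32895], [6, 0, 33453, 30711, 32899, 24262], [28, 0, 24312, 32899], [6, 0, 25901, 32903, 25965], [12, 0, 25899, 32903, 25919], [28, 0, 25903, 32903], [8, 0, 20240, 32907, 12012], [28, 0, 12036, 32907], [14, 0,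 13784, 32908], [28, 0, 14979, 32908], [3, 0, 28197, 32911, 11942], [14, 0, 19455, 32911, 20098], [7, 0, 12563, 32912], [8, 0, 12560, 32912], [9, 0, 31830, 32915, 33723], [10, 0, 31828, 32915, 33723], [28, 0, 21204, 32916], [4, 0, 7546, 32924], [7, 0, 7543, 32924], [8, 0, 7540, 32924], [12, 0, 18109, 32924, 5526], [14, 0, 30797, 32924, 5534], [5, 0, 13765, 32927], [6, 0, 13768, 32927], [14, 0, 30350, 32929], [13, 0, 14285, 32930], [14, 0, 14282, 32930], [7, 0, 20977, 32940], [8, 0, 20974, 32940], [6, 0, 7282, 32943], [12, 0, 16057, 32943], [11, 0, 14489, 32945], [12, 0, 14486, 32945], [5, 0, 12181, 32948], [6, 0, 12178, 32948], [8, 0, 12188, 32950], [3, 0, 12210, 32952, 4866], [12, 0, 12204, 32952], [13, 0, 20661, 32952], [14, 0, 20662, 32952], [14, 0, 30042, 32954, 33868], [28, 0, 12226, 32954], [8, 0, 5636, 32961, 1588], [28, 0, 1672, 32961], [28, 0, 30542, 32969, 5004], [3, 0, 33880, 30545, 32971, 32977, 1637], [28, 0, 21254, 32975], [28, 0, 5814, 32977], [28, 0, 6660, 32979], [6, 0, 7170, 32985, 33003], [6, 0, 23056, 32993, 33723,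 20796], [28, 0, 33722, 29993, 32994, 33723, 30088], [6, 0, 30305, 33001, 33197, 23460], [3, 0, 5656, 33003], [4, 0, 5659, 33003], [14, 0, 17660, 33004, 33007], [3, 0, 14313, 33007], [4, 0, 14318, 33007], [28, 0, 23768, 33013], [28, 0, 23836, 33015], [28, 0, 14524, 33025], [6, 0, 29316, 33029, 31933], [13, 0, 14397, 33031], [14, 0, 14394, 33031], [12, 0, 27723, 33043, 33442, 24152], [6, 0, 27703, 33045, 16208], [10, 0, 27705, 33045, 24324], [14, 0, 27711, 33045, 24334], [3, 0, 27699, 33048, 33444], [12, 0, 27697, 33048, 33444, 19998, 33452], [5, 0, 27397, 33051], [6, 0, 27394, 33051], [9, 0, 27775, 33055], [10, 0, 27772, 33055], [5, 0, 33060, 27736, 33750, 33743], [6, 0, 33063, 33065, 12254], [14, 0, 16421, 33065, 30028], [4, 0, 16425, 33067, 33944, 10970], [14, 0, 10269, 33068, 30028, 33944], [28, 0, 30032, 33068], [10, 0, 19774, 33077], [28, 0, 22743, 33077], [7, 0, 21174, 33081, 33110], [8, 0, 21172, 33081, 33110], [3, 0, 12147, 33082], [4, 0, 12148, 33082], [9, 0, 12145, 33082], [10, 0, 12142, 33082], [14, 0, 306, 33087], [28, 0,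 15111, 33087], [14, 0, 19248, 33093], [28, 0, 22861, 33093], [11, 0, 29217, 33097], [12, 0, 29222, 33097], [8, 0, 29227, 33099, 33723, 12308], [8, 0, 20809, 33101, 33816], [28, 0, 21171, 33103, 33205, 5048, 33205], [3, 0, 30242, 33108], [11, 0, 30260, 33108], [12, 0, 30258, 33108], [14, 0, 12530, 33108], [28, 0, 32841, 33108], [28, 0, 12416, 33110], [28, 0, 3502, 33115]]
def dJ85 : List (List ℕ) := [[28, 0, 27164, 33129], [14, 0, 33352, 16469, 33133, 4972], [14, 0, 33946, 17413, 33135, 624], [3, 0, 22321, 33142], [4, 0, 22326, 33142], [9, 0, 13935, 33158], [10, 0, 13932, 33158], [14, 0, 21819, 33158, 30612], [28, 0, 34014, 23078, 33158, 30614], [7, 0, 17947, 33161], [8, 0, 17948, 33161], [28, 0, 26433, 33161, 21830], [10, 0, 34016, 29984, 33163, 33167, 34013], [12, 0, 34022, 26434, 33165, 33167, 13946], [2, 0, 34024, 34016, 34014], [14, 0, 13970, 33167], [28, 0, 16009, 33167], [28, 0, 23804, 33171], [6, 0, 14741, 33178, 23484], [4, 0, 17874, 33181, 21070, 33214], [3, 0, 17877, 33181, 33208], [4, 0, 29655, 33183, 33184, 17712], [5, 0,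 23753, 33184], [6, 0, 23754, 33184], [11, 0, 23491, 33186, 33295], [12, 0, 23488, 33186, 33295], [9, 0, 26105, 33189], [10, 0, 26102, 33189], [6, 0, 21053, 33191, 23822, 33194], [3, 0, 23818, 33192], [6, 0, 30315, 33192, 23822, 33194, 34056], [5, 0, 23825, 33194, 34056], [6, 0, 23822, 33194, 34056], [5, 0, 12513, 33202], [6, 0, 12518, 33202], [9, 0, 12511, 33202], [10, 0, 12508, 33202], [28, 0, 5048, 33205], [4, 0, 21070, 33214, 34038], [6, 0, 21067, 33214, 34038, 7396], [8, 0, 21065, 33214, 34038, 17878], [6, 0, 17620, 33219], [10, 0, 17622, 33219], [28, 0, 17684, 33227], [3, 0, 14325, 33238], [4, 0, 14326, 33238], [14, 0, 33712, 17895, 33238, 17680], [9, 0, 14513, 33247], [10, 0, 14510, 33247], [14, 0, 23523, 33247, 22268], [8, 0, 28393, 33252, 19770], [12, 0, 19778, 33252], [5, 0, 14145, 33254], [6, 0, 14142, 33254], [6, 0, 17125, 33259, 5524, 33266], [11, 0, 22079, 33261], [12, 0, 22076, 33261], [5, 0, 5523, 33266], [6, 0, 5524, 33266], [8, 0, 14041, 33266, 8154], [9, 0, 5521, 33266], [10, 0, 5518, 33266], [14, 0, 14047, 33266, 8200],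 [28, 0, 34124, 16046, 33266, 8210, 34109], [28, 0, 5600, 33268], [28, 0, 22100, 33271], [28, 0, 21302, 33279], [4, 0, 12233, 33283, 6496], [5, 0, 4871, 33283], [6, 0, 4868, 33283], [9, 0, 7181, 33291], [10, 0, 7178, 33291], [28, 0, 7302, 33293], [28, 0, 29930, 33295], [3, 0, 8057, 33296, 3517], [6, 0, 34024, 34016, 18662, 33296, 8010], [2, 0, 34150, 34024, 34016], [8, 0, 18704, 33296, 8014], [13, 0, 29935, 33296], [14, 0, 29937, 33296], [28, 0, 8054, 33296], [6, 0, 26208, 33301, 17782], [14, 0, 26262, 33301, 17792], [28, 0, 17808, 33301], [7, 0, 23357, 33314], [8, 0, 23354, 33314], [10, 0, 22066, 33317], [5, 0, 12135, 33318], [6, 0, 12132, 33318], [12, 0, 17354, 33320, 7038], [28, 0, 7062, 33320], [28, 0, 4892, 33322], [9, 0, 8023, 33329], [10, 0, 8020, 33329], [12, 0, 20730, 33337, 6514], [4, 0, 32752, 33342, 33455], [10, 0, 25473, 33342, 33455, 24110, 33657], [10, 0, 28258, 33349], [3, 0, 28252, 33351], [12, 0, 16436, 33353, 6336], [28, 0, 6370, 33353], [28, 0, 6434, 33355], [14, 0, 16606, 33357, 6450], [28, 0, 6478, 33357], [13, 0,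 19131, 33361], [14, 0, 19128, 33361], [4, 0, 28102, 33363, 16182, 33467], [14, 0, 24002, 33364, 14938], [28, 0, 14956, 33364], [14, 0, 16136, 33366], [28, 0, 16140, 33366], [14, 0, 21636, 33379, 13798], [28, 0, 13816, 33379], [4, 0, 21716, 33381, 13862], [8, 0, 21788, 33381, 13892], [10, 0, 21816, 33381, 13906], [28, 0, 13928, 33381], [28, 0, 1624, 33387], [14, 0, 19967, 33406, 4522], [5, 0, 13995, 33417], [6, 0, 13998, 33417], [14, 0, 23111, 33417, 18366], [3, 0, 14013, 33419], [5, 0, 14015, 33419], [6, 0, 14018, 33419], [10, 0, 14011, 33419, 31117], [14, 0, 21839, 33419, 18378], [10, 0, 18403, 33420, 7642], [14, 0, 7654, 33420], [14, 0, 18789, 33427, 6408], [14, 0, 29495, 33429, 6450], [7, 0, 16111, 33431], [8, 0, 16108, 33431], [12, 0, 24141, 33431, 24022], [6, 0, 24040, 33433], [8, 0, 29273, 33433], [14, 0, 24051, 33433, 24080], [8, 0, 26769, 33435, 18338], [7, 0, 33424, 33436], [8, 0, 33422, 33436], [8, 0, 24357, 33442, 24146], [8, 0, 28608, 33444, 19982], [28, 0, 20002, 33444], [4, 0, 28548, 33447], [13, 0, 27779, 33448], [14,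 0, 27776, 33448], [6, 0, 19976, 33451], [8, 0, 28575, 33451, 19982], [8, 0, 28601, 33452, 24276], [11, 0, 20001, 33452], [12, 0, 19998, 33452], [14, 0, 19103, 33455, 24124], [28, 0, 24374, 33459], [3, 0, 13820, 33465, 33738], [3, 0, 13822, 33469], [28, 0, 1360, 33471], [14, 0, 19296, 33473, 11424], [28, 0, 11446, 33473], [3, 0, 19330, 33475, 11458], [10, 0, 19344, 33475, 11470], [28, 0, 11486, 33475], [28, 0, 19134, 33479], [8, 0, 27764, 33481, 19160], [28, 0, 19198, 33481], [5, 0, 13829, 33484], [6, 0, 13826, 33484], [3, 0, 34318, 27605, 33489, 5243], [10, 0, 34316, 27607, 33489, 5376], [28, 0, 668, 33491], [7, 0, 13833, 33496], [8, 0, 13830, 33496], [28, 0, 68, 33499], [28, 0, 4796, 33503], [14, 0, 12128, 33505, 4818], [28, 0, 4846, 33505], [4, 0, 28646, 33511, 20006], [3, 0, 24968, 33511, 16587], [8, 0, 28686, 33511, 20032], [10, 0, 24880, 33511, 16564], [28, 0, 20052, 33511], [10, 0, 24782, 33515, 16492], [28, 0, 20078, 33515], [12, 0, 28776, 33517, 20116], [8, 0, 28798, 33519, 20132], [28, 0, 20162, 33519], [28, 0, 24128, 33527],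 [28, 0, 24166, 33529], [12, 0, 7154, 33535, 2986], [28, 0, 3026, 33535], [12, 0, 14076, 33549, 5526], [28, 0, 5556, 33549], [28, 0, 22040, 33571], [28, 0, 22052, 33573], [4, 0, 20635, 33577], [12, 0, 29301, 33577, 25632], [3, 0, 30808, 33579, 21980], [10, 0, 25005, 33579, 21988], [10, 0, 19335, 33587, 34333, 11832, 34237], [12, 0, 19315, 33589, 34335, 33396], [5, 0, 23639, 33600]]
def dJ86 : List (List ℕ) := [[6, 0, 23636, 33600], [8, 0, 20945, 33603, 17962], [13, 0, 12407, 33603], [14, 0, 12404, 33603], [28, 0, 30014, 33603], [10, 0, 26888, 33605, 18360], [14, 0, 27000, 33605, 18424], [28, 0, 18440, 33605], [5, 0, 21101, 33624], [6, 0, 21098, 33624], [3, 0, 28688, 33655, 33941, 11942], [6, 0, 24118, 33657, 34192], [9, 0, 24113, 33657, 34192], [10, 0, 24110, 33657, 34192], [3, 0, 28804, 33658, 34386], [10, 0, 24833, 33658, 33056], [12, 0, 28729, 33658, 25632], [8, 0, 25276, 33661, 16814], [12, 0, 25288, 33661, 16830], [28, 0, 16846, 33661], [4, 0, 20108, 33665, 33750, 33747, 33763], [3, 0, 33663, 33665, 33750, 33749], [8, 0, 28741, 33665,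 33750, 21214], [3, 0, 34162, 26215, 33668, 33708, 17857], [5, 0, 33709, 33669, 26202, 34038, 7395], [2, 0, 34448, 33709, 33669], [10, 0, 26201, 34450, 13333], [28, 0, 34448, 33709, 26216, 34450, 7426], [12, 0, 17770, 33677], [14, 0, 26185, 33677, 17792], [6, 0, 21535, 33687, 20208], [14, 0, 26319, 33699, 17792], [4, 0, 17866, 33705, 7393], [28, 0, 17834, 33705], [28, 0, 17900, 33707, 34038], [10, 0, 34098, 26354, 33711, 33626], [6, 0, 17887, 33713, 34401], [3, 0, 23458, 33714], [4, 0, 27791, 33717, 33896, 21700], [3, 0, 27792, 33717, 33896, 21248], [3, 0, 20569, 33724], [4, 0, 20570, 33724], [5, 0, 22065, 33726], [6, 0, 22062, 33726], [3, 0, 19260, 33750, 33749], [8, 0, 34478, 27767, 33750, 21214], [9, 0, 19179, 33750], [10, 0, 19176, 33750], [8, 0, 24828, 33759, 16498], [12, 0, 24840, 33759, 16514], [28, 0, 16530, 33759], [4, 0, 33747, 33763], [8, 0, 24379, 33763, 19272], [12, 0, 24385, 33763, 19288], [28, 0, 18018, 33765], [14, 0, 26648, 33769, 18128], [28, 0, 18144, 33769], [28, 0, 18370, 33779], [14, 0, 26952, 33781, 18378], [28,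 0, 18394, 33781], [10, 0, 31402, 33783, 7642], [28, 0, 3160, 33789], [28, 0, 3206, 33791], [6, 0, 24262, 33794], [5, 0, 25963, 33798], [6, 0, 25965, 33798], [12, 0, 25967, 33798, 17494], [11, 0, 25917, 33800], [12, 0, 25919, 33800], [28, 0, 25914, 33800], [10, 0, 31427, 33805, 31134], [28, 0, 20238, 33805], [6, 0, 30433, 33813, 20056, 34421], [4, 0, 28731, 33814, 11504], [3, 0, 24034, 33814, 11565], [13, 0, 20101, 33814], [14, 0, 20098, 33814], [3, 0, 18111, 33833], [7, 0, 18113, 33833], [8, 0, 18114, 33833], [8, 0, 14098, 33835], [12, 0, 22021, 33835, 14118], [11, 0, 4883, 33865], [12, 0, 4880, 33865], [13, 0, 33870, 33872], [14, 0, 33868, 33872], [14, 0, 14234, 33877, 5614], [28, 0, 5634, 33877], [28, 0, 5004, 33883], [5, 0, 20799, 33892], [6, 0, 20796, 33892], [14, 0, 27501, 33894, 20812], [28, 0, 30088, 33894], [4, 0, 30420, 33896, 21700, 34476], [5, 0, 23463, 33896], [13, 0, 29377, 33915], [14, 0, 29378, 33915], [12, 0, 24152, 33920, 33923], [3, 0, 19142, 33923], [8, 0, 27715, 33923, 16214], [9, 0, 19149, 33923], [10, 0, 19152,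 33923], [4, 0, 33925, 27407, 33941, 11941], [10, 0, 24327, 33924, 34605, 11964], [14, 0, 34606, 24337, 33926, 34056, 21746], [4, 0, 19140, 33931], [8, 0, 27689, 33931, 24276], [5, 0, 12253, 33942], [6, 0, 12254, 33942], [14, 0, 20717, 33942, 16752], [8, 0, 18840, 33944, 33948, 8068], [13, 0, 30030, 33944, 33948], [14, 0, 30028, 33944, 33948], [28, 0, 8104, 33944, 33948], [8, 0, 17398, 33947, 34005, 3526], [5, 0, 6333, 33948], [6, 0, 6334, 33948], [8, 0, 16413, 33948, 8068], [11, 0, 33978, 33981], [12, 0, 33976, 33981], [11, 0, 20803, 33983], [12, 0, 20800, 33983], [7, 0, 33958, 33985], [8, 0, 33956, 33985], [9, 0, 9628, 34002], [10, 0, 9626, 34002], [13, 0, 9229, 34002], [14, 0, 4972, 34002], [5, 0, 2983, 34005], [6, 0, 2984, 34005], [9, 0, 2981, 34005], [10, 0, 2978, 34005], [4, 0, 34126, 34124, 23077, 34028, 34151, 18610], [8, 0, 27242, 34152, 18622], [28, 0, 18660, 34152], [14, 0, 18656, 34025, 34151], [28, 0, 21830, 34027], [5, 0, 23487, 34036], [6, 0, 23484, 34036], [9, 0, 17789, 34038], [10, 0, 17786, 34038], [11, 0, 33679, 34038],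 [12, 0, 33681, 34038], [14, 0, 23449, 34038, 17896], [4, 0, 17868, 34041], [14, 0, 26357, 34041, 23764], [6, 0, 26327, 34043, 17782, 34453], [3, 0, 21744, 34056, 13876], [12, 0, 21738, 34056], [28, 0, 21750, 34061], [4, 0, 17823, 34079, 7388], [7, 0, 17881, 34080], [8, 0, 17878, 34080], [14, 0, 17683, 34092, 23648], [12, 0, 28388, 34101], [28, 0, 8210, 34109], [28, 0, 21865, 34119, 18932, 34541], [8, 0, 18963, 34127, 8154], [14, 0, 8200, 34127], [14, 0, 23109, 34135, 34590], [8, 0, 8172, 34149, 3526], [28, 0, 3554, 34149], [8, 0, 18695, 34151, 18622], [9, 0, 34011, 34151], [10, 0, 34013, 34151], [11, 0, 8031, 34151], [12, 0, 8028, 34151], [6, 0, 27314, 34155, 18666], [28, 0, 18702, 34155], [28, 0, 26260, 34165], [14, 0, 25732, 34179, 17336], [28, 0, 17352, 34179], [14, 0, 28665, 34189, 16774], [4, 0, 24773, 34192, 33047], [8, 0, 28791, 34192, 25450], [28, 0, 16434, 34199], [4, 0, 24856, 34205, 16532], [6, 0, 24932, 34205, 16566], [28, 0, 16604, 34205], [10, 0, 28105, 34213, 34495], [28, 0, 24000, 34215], [28, 0, 21634, 34223], [28, 0,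 21714, 34227], [28, 0, 21786, 34229], [28, 0, 21814, 34231], [8, 0, 11827, 34237, 11466], [8, 0, 26901, 34242, 22030], [12, 0, 34243, 30792, 34242, 22034], [13, 0, 18369, 34242], [14, 0, 18366, 34242], [9, 0, 31115, 34250], [10, 0, 31117, 34250], [4, 0, 25827, 34253, 26906], [3, 0, 21841, 34253, 26908], [10, 0, 21844, 34253, 26930], [8, 0, 26963, 34255, 18338], [5, 0, 33934, 34259], [6, 0, 33932, 34259], [6, 0, 29497, 34261, 16566], [12, 0, 29501, 34261, 16600]]
def dJ87 : List (List ℕ) := [[28, 0, 29498, 34261, 34757], [6, 0, 34388, 29302, 34267], [7, 0, 24145, 34267], [10, 0, 25161, 34272, 29396], [13, 0, 24083, 34272], [14, 0, 24080, 34272], [4, 0, 26969, 34275, 30951], [3, 0, 26971, 34275, 31067, 34725], [6, 0, 18411, 34275, 26878], [11, 0, 24353, 34281], [12, 0, 24350, 34281], [28, 0, 28606, 34283], [10, 0, 29283, 34295], [11, 0, 28597, 34297], [12, 0, 28594, 34297], [13, 0, 24127, 34302], [14, 0, 24124, 34302], [3, 0, 33738, 34306], [11, 0, 33732, 34306], [12, 0, 33730, 34306], [6, 0, 34798, 27814, 34313, 19266, 34605], [12, 0,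 34796, 27850, 34313, 19288], [28, 0, 19292, 34313], [28, 0, 27762, 34325], [9, 0, 11473, 34333], [10, 0, 11470, 34333], [3, 0, 11458, 34335], [4, 0, 20304, 34347, 12044], [3, 0, 20372, 34347, 12054], [6, 0, 20418, 34347, 12070], [8, 0, 20478, 34347, 12082], [10, 0, 20510, 34347, 12094], [12, 0, 20548, 34347, 12108], [28, 0, 12124, 34347], [28, 0, 28644, 34351], [28, 0, 24966, 34353], [28, 0, 28684, 34355], [28, 0, 24878, 34357], [28, 0, 24780, 34361], [14, 0, 28779, 34365, 28766], [28, 0, 28796, 34367], [28, 0, 7148, 34375], [14, 0, 21934, 34379, 14056], [28, 0, 14074, 34379], [7, 0, 24107, 34391], [8, 0, 24104, 34391], [11, 0, 34392, 30814, 34393], [13, 0, 34289, 34393], [14, 0, 34291, 34393], [6, 0, 11462, 34395], [12, 0, 15995, 34395], [4, 0, 11454, 34397], [28, 0, 30080, 34403], [28, 0, 26886, 34411], [28, 0, 26998, 34413], [6, 0, 20056, 34421], [10, 0, 24733, 34421, 16492], [12, 0, 28697, 34421, 20066], [12, 0, 28803, 34429, 24120], [3, 0, 33040, 34430], [5, 0, 19591, 34430], [6, 0, 19592, 34430], [9, 0, 33058, 34430], [10, 0, 33056,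 34430], [14, 0, 19587, 34430, 24834], [10, 0, 28724, 34433], [28, 0, 25274, 34435], [28, 0, 25286, 34437], [8, 0, 20113, 34441, 19272], [12, 0, 20117, 34441, 19288, 34842], [6, 0, 16808, 34443], [8, 0, 25235, 34443, 16814], [12, 0, 25237, 34443, 16830], [4, 0, 34942, 33666, 34445, 34490, 21249], [12, 0, 17854, 34446, 34453], [5, 0, 17785, 34453], [6, 0, 17782, 34453], [28, 0, 7426, 34454], [4, 0, 30376, 34459, 26226], [6, 0, 20211, 34460, 34635, 18802], [3, 0, 26321, 34463, 26228], [12, 0, 26322, 34463, 26256], [28, 0, 17864, 34465], [14, 0, 22271, 34471, 23596], [7, 0, 17911, 34473], [8, 0, 17908, 34473], [11, 0, 7409, 34473], [12, 0, 7406, 34473], [6, 0, 34478, 30431, 34476, 27818], [10, 0, 21697, 34476, 27822], [4, 0, 27770, 34479], [10, 0, 30435, 34479, 13908], [4, 0, 19258, 34489], [8, 0, 21217, 34490, 21790], [28, 0, 24826, 34497], [28, 0, 24838, 34499], [4, 0, 24382, 34505], [4, 0, 33754, 34507, 34842, 24882], [3, 0, 24388, 34507, 34842, 24890], [28, 0, 26646, 34511], [28, 0, 26950, 34517], [3, 0, 18616, 34521], [8, 0, 27183,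 34521, 18338], [4, 0, 25840, 34533, 17414], [3, 0, 25874, 34533, 17428], [8, 0, 25942, 34533, 17460], [10, 0, 25958, 34533, 17476], [28, 0, 17496, 34533], [14, 0, 27837, 34545, 20072], [10, 0, 28734, 34547, 32551], [10, 0, 24778, 34549, 33564], [14, 0, 24031, 34549, 19556], [8, 0, 22024, 34563], [4, 0, 22122, 34573, 14178], [6, 0, 22160, 34573, 14196], [8, 0, 22184, 34573, 14210], [28, 0, 14232, 34573], [28, 0, 30087, 34583], [28, 0, 27840, 34587], [4, 0, 27718, 34599], [6, 0, 30440, 34599, 24342], [5, 0, 19269, 34605], [6, 0, 19266, 34605], [12, 0, 34800, 27807, 34605, 11978], [5, 0, 16209, 34607], [6, 0, 16206, 34607], [8, 0, 24321, 34607, 20132], [11, 0, 17027, 34607], [12, 0, 17028, 34607], [14, 0, 21749, 34608, 20156], [3, 0, 27693, 34613], [4, 0, 23114, 34619], [10, 0, 23118, 34619], [14, 0, 27450, 34621, 18822], [28, 0, 18838, 34621], [6, 0, 34712, 21866, 34629, 8140], [4, 0, 18610, 34664], [8, 0, 27169, 34664, 8154, 35071], [28, 0, 27240, 34667], [13, 0, 17899, 34686], [14, 0, 17896, 34686], [5, 0, 26365, 34691], [6, 0, 26362,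 34691], [9, 0, 26367, 34691], [8, 0, 17848, 34693], [8, 0, 21753, 34695, 21676], [11, 0, 15987, 34695], [12, 0, 15989, 34695], [8, 0, 7401, 34701, 34968], [13, 0, 23651, 34706], [14, 0, 23648, 34706], [3, 0, 34790, 31434, 34715, 35071, 18908], [28, 0, 35074, 31436, 34715, 35071, 18926], [13, 0, 34592, 34718], [14, 0, 34590, 34718], [28, 0, 8170, 34721], [6, 0, 27295, 34725, 27204], [10, 0, 31358, 34725, 27224], [11, 0, 18691, 34725], [12, 0, 18688, 34725], [28, 0, 27312, 34735], [28, 0, 25730, 34741], [6, 0, 28661, 34745, 31519], [12, 0, 28659, 34745, 25194], [4, 0, 33047, 34746], [5, 0, 34747, 31523, 34746], [9, 0, 25193, 34746], [10, 0, 25190, 34746], [13, 0, 31525, 34746], [14, 0, 31527, 34746], [27, 0, 34747, 33289, 34746], [3, 0, 28787, 34749], [28, 0, 24854, 34753], [28, 0, 24930, 34755], [7, 0, 28107, 34759], [8, 0, 28108, 34759], [7, 0, 11469, 34770], [8, 0, 11466, 34770], [11, 0, 34772, 30826, 34773], [12, 0, 22034, 34774], [4, 0, 26906, 34784], [3, 0, 26908, 34786], [9, 0, 26933, 34788], [10, 0, 26930, 34788], [10, 0, 29396,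 34806], [4, 0, 34814, 26972, 34813, 35071, 18906], [5, 0, 26881, 34816], [6, 0, 26878, 34816], [6, 0, 24925, 34841, 35042], [8, 0, 27833, 34842, 24892], [8, 0, 28890, 34855, 20258], [12, 0, 28904, 34855, 20276], [28, 0, 20302, 34855], [6, 0, 28956, 34857, 20306], [8, 0, 29000, 34857, 20326], [12, 0, 29018, 34857, 20346], [28, 0, 20370, 34857], [3, 0, 29058, 34859, 20376], [28, 0, 20416, 34859], [6, 0, 29094, 34861, 20420]]
def dJ88 : List (List ℕ) := [[12, 0, 29114, 34861, 20440], [14, 0, 29148, 34861, 20460], [28, 0, 20476, 34861], [12, 0, 29164, 34863, 20486], [28, 0, 20508, 34863], [10, 0, 29186, 34865, 20512], [14, 0, 29212, 34865, 20528], [28, 0, 20544, 34865], [13, 0, 34879, 28768, 34939, 24929], [28, 0, 21932, 34885], [6, 0, 24728, 34913], [6, 0, 28700, 34915], [6, 0, 24123, 34916, 28764], [13, 0, 24837, 34928], [14, 0, 24834, 34928], [6, 0, 28751, 34937, 27818, 34976], [13, 0, 28757, 34937], [14, 0, 28758, 34937], [10, 0, 35225, 28761, 34939, 24908], [6, 0, 25240, 34945], [4, 0, 21249, 34946], [6, 0, 34589, 34946, 25242], [10,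 0, 21252, 34946, 25246], [14, 0, 21247, 34946, 25270], [3, 0, 34961, 26230, 34956], [4, 0, 26226, 34956], [3, 0, 27417, 34958, 17967], [5, 0, 18805, 34958], [6, 0, 18802, 34958], [3, 0, 26228, 34960], [11, 0, 26259, 34962], [12, 0, 26256, 34962], [13, 0, 23599, 34966], [14, 0, 23596, 34966], [5, 0, 27821, 34976], [6, 0, 27818, 34976], [9, 0, 27825, 34978], [10, 0, 27822, 34978], [5, 0, 21675, 34983], [6, 0, 21672, 34983], [8, 0, 30437, 34983, 13892], [8, 0, 21793, 34986, 35148], [4, 0, 24882, 34994], [13, 0, 24888, 34994], [14, 0, 24887, 34994], [3, 0, 24890, 34996], [4, 0, 27186, 35005], [28, 0, 25838, 35007], [28, 0, 25872, 35009], [28, 0, 25940, 35011], [28, 0, 25956, 35013], [4, 0, 20077, 35016, 34981], [10, 0, 31331, 35016, 35275], [12, 0, 28709, 35016, 27826, 35179], [14, 0, 20075, 35016, 35232], [14, 0, 24157, 35019, 14710], [13, 0, 24777, 35021], [14, 0, 24774, 35021], [3, 0, 34196, 35022, 16059], [10, 0, 34194, 35022, 33936], [13, 0, 19559, 35022], [14, 0, 19556, 35022], [28, 0, 22120, 35027], [28, 0, 22158, 35029], [28, 0,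 22182, 35031], [5, 0, 24345, 35040], [4, 0, 20097, 35046, 16532], [3, 0, 20070, 35046, 16546], [11, 0, 11981, 35046], [12, 0, 11978, 35046], [11, 0, 25469, 35053], [12, 0, 25454, 35053], [13, 0, 20159, 35058], [14, 0, 20156, 35058], [28, 0, 27448, 35067], [7, 0, 8153, 35071], [8, 0, 8154, 35071], [9, 0, 31136, 35071], [10, 0, 31134, 35071], [11, 0, 8151, 35071], [12, 0, 8148, 35071], [14, 0, 18931, 35071, 18910], [11, 0, 21755, 35091], [12, 0, 21756, 35091], [7, 0, 34970, 35096], [8, 0, 34968, 35096], [3, 0, 18908, 35102], [14, 0, 27566, 35104, 18910], [28, 0, 18926, 35104], [11, 0, 27291, 35113], [12, 0, 27288, 35113], [9, 0, 27227, 35114], [10, 0, 27224, 35114], [4, 0, 24957, 35125, 34191], [8, 0, 28679, 35125, 33583], [12, 0, 20051, 35125, 25194, 35126], [11, 0, 25197, 35126, 35390], [12, 0, 25194, 35126, 35390], [4, 0, 18906, 35170], [6, 0, 27280, 35170, 27204], [11, 0, 24921, 35177], [12, 0, 24918, 35177], [11, 0, 27829, 35179], [12, 0, 27826, 35179], [28, 0, 28888, 35181], [28, 0, 28902, 35183], [28, 0, 28954, 35187], [28, 0, 28998,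 35189], [28, 0, 29016, 35191], [28, 0, 29056, 35195], [28, 0, 29092, 35199], [28, 0, 29112, 35201], [28, 0, 29146, 35203], [28, 0, 29162, 35207], [28, 0, 29184, 35211], [28, 0, 29210, 35213], [13, 0, 24929, 35216], [7, 0, 28753, 35231], [8, 0, 28754, 35231], [5, 0, 24913, 35236], [6, 0, 24914, 35236], [10, 0, 24911, 35236, 24158], [14, 0, 24917, 35236, 24162], [5, 0, 25245, 35242], [6, 0, 25242, 35242], [9, 0, 25249, 35244], [10, 0, 25246, 35244], [13, 0, 25273, 35246], [14, 0, 25270, 35246], [6, 0, 27420, 35253, 26452], [10, 0, 27749, 35281, 21766], [8, 0, 35150, 35282, 35434], [12, 0, 25047, 35303, 21794], [14, 0, 16681, 35303, 21810], [14, 0, 19115, 35305, 21710], [4, 0, 35464, 28712, 35307], [13, 0, 35234, 35308], [14, 0, 35232, 35308], [4, 0, 16115, 35311, 23726], [6, 0, 34422, 35311, 23730], [8, 0, 24147, 35311, 23734], [12, 0, 34594, 35311, 23742], [9, 0, 23741, 35317], [10, 0, 23738, 35317], [3, 0, 23728, 35319], [6, 0, 33756, 35333, 24842], [8, 0, 28723, 35333, 24846], [10, 0, 34930, 35333, 20024], [11, 0, 20093, 35333], [12,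 0, 20090, 35333], [6, 0, 35334, 35222, 35335, 24858], [8, 0, 28707, 35335, 24860], [11, 0, 20069, 35335], [12, 0, 20066, 35335], [10, 0, 31432, 35363, 27556], [28, 0, 27564, 35375], [11, 0, 24955, 35387], [12, 0, 24952, 35387], [12, 0, 28675, 35389, 21996], [4, 0, 28649, 35390, 20006], [6, 0, 20026, 35390], [3, 0, 27276, 35399], [4, 0, 35458, 27279, 35399], [9, 0, 24161, 35442], [10, 0, 24158, 35442], [13, 0, 24165, 35444], [14, 0, 24162, 35444], [4, 0, 27274, 35459], [9, 0, 21769, 35460], [10, 0, 21766, 35460], [6, 0, 20131, 35462, 33745], [7, 0, 35436, 35462], [8, 0, 35434, 35462], [13, 0, 21813, 35466], [14, 0, 21810, 35466], [13, 0, 21713, 35468], [14, 0, 21710, 35468], [4, 0, 23726, 35476], [5, 0, 23733, 35478], [6, 0, 23730, 35478], [3, 0, 34286, 35481], [4, 0, 24150, 35481], [11, 0, 34819, 35481], [12, 0, 34821, 35481], [11, 0, 23745, 35482], [12, 0, 23742, 35482], [5, 0, 24845, 35490], [6, 0, 24842, 35490], [10, 0, 28618, 35490], [12, 0, 28718, 35493], [6, 0, 34802, 35495, 28614], [11, 0, 25635, 35495], [12, 0, 25632, 35495],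 [6, 0, 24858, 35500], [14, 0, 25878, 35500, 24862], [12, 0, 28702, 35503], [9, 0, 27559, 35508], [6, 0, 22001, 35516, 28666], [11, 0, 21999, 35516], [12, 0, 21996, 35516]]
def dJ89 : List (List ℕ) := [[14, 0, 28654, 35519, 28640], [4, 0, 20089, 35541, 11941], [3, 0, 20064, 35541, 11942], [5, 0, 28617, 35580], [6, 0, 28614, 35580], [9, 0, 35576, 35580], [3, 0, 25882, 35589], [4, 0, 25876, 35589], [5, 0, 28669, 35594], [6, 0, 28666, 35594], [13, 0, 28643, 35600], [14, 0, 28640, 35600], [7, 0, 20085, 35603], [8, 0, 20082, 35603], [10, 0, 28715, 35603, 11964], [12, 0, 35578, 35603, 35339], [8, 0, 20060, 35605], [12, 0, 35590, 35605, 35507], [8, 0, 28717, 35629, 20132], [7, 0, 24849, 35631], [8, 0, 24846, 35631], [8, 0, 24860, 35635], [9, 0, 24801, 35637], [10, 0, 24798, 35637], [50, 2, 24753, 35646, 24739], [54, 2, 28781, 35646, 24797], [87, 5, 21720, 35346, 20135, 35646, 24805, 24809, 34926, 32693, 21976, 34808, 34271, 16078, 19982, 34829], [87, 8, 34890, 34425, 35055, 20135, 35646, 16499, 13524, 10984, 10807, 5378, 1522, 1524, 5428, 12910,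 21397], [3, 0, 21980, 35655], [3, 0, 21983, 35655, 21400], [5, 0, 35658, 23124, 35655], [6, 0, 35658, 23123, 35655], [7, 0, 34889, 35655], [8, 0, 34891, 35655], [10, 0, 35064, 35655, 21415], [4, 0, 21974, 35659], [7, 0, 32693, 35659], [8, 0, 32695, 35659], [10, 0, 35168, 35659, 21284], [13, 0, 34809, 35659], [14, 0, 34811, 35659], [27, 0, 35658, 32696, 35659], [3, 0, 21273, 35668, 35062], [9, 0, 21402, 35668], [10, 0, 21415, 35668], [4, 0, 25154, 35677], [6, 0, 30961, 35677, 21274], [3, 0, 35062, 35684], [5, 0, 21993, 35684], [6, 0, 21994, 35684], [9, 0, 21991, 35684], [10, 0, 21988, 35684], [11, 0, 35685, 34893, 35684], [13, 0, 34895, 35684], [14, 0, 34897, 35684], [5, 0, 21277, 35692], [6, 0, 21274, 35692], [11, 0, 22997, 35692], [12, 0, 22999, 35692], [58, 2, 25167, 35716, 21281], [87, 12, 24809, 16522, 35229, 19552, 23162, 19538, 11578, 4576, 11284, 34832, 35665, 35687, 35716, 21281], [36, 1, 35720], [46, 3, 35341, 35646, 24805, 35722, 35718], [36, 1, 35724], [46, 2, 35720, 24803, 35645, 35342, 35726], [50, 1, 35720, 35143, 35726],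 [101, 12, 27147, 18598, 18590, 14812, 32448, 19450, 19434, 32625, 14918, 16755, 35691, 35711, 25169, 35730], [32, 1, 35732], [155, 2, 35708, 33547, 35709], [45, 5, 35596, 35703, 35704, 35700, 35599, 28670], [10, 0, 28670, 35738], [50, 2, 24951, 35740, 28625], [54, 3, 35618, 35740, 35617, 22047], [10, 0, 22044, 35744], [87, 13, 21196, 21190, 12700, 12744, 13537, 12748, 6212, 9195, 11909, 20035, 35740, 35598, 33582, 35133], [87, 8, 35134, 35393, 20035, 35740, 20033, 13611, 11908, 9192, 6210, 13539, 12764, 12746, 12710, 21191], [48, 3, 35750, 35128, 25453], [58, 0, 35750, 24755, 24737], [149, 2, 35750, 35140, 35751], [146, 1, 35752, 35756, 35753], [154, 1, 35754, 35756, 35755], [38, 1, 35754], [52, 1, 24803, 24739, 35754], [73, 3, 18283, 33403, 12712, 12704, 21188, 35764, 35721], [4, 0, 35730, 35766, 26800], [6, 0, 35734, 35766, 34531], [8, 0, 21281, 35766, 26802], [10, 0, 35722, 35766, 26806], [12, 0, 35728, 35766, 34537], [3, 0, 26800, 35768, 35777, 25880], [3, 0, 27146, 35771, 25833], [7, 0, 26805, 35772], [8, 0, 26802, 35772], [9, 0,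 26809, 35774], [10, 0, 26806, 35774], [8, 0, 25169, 35777, 25884], [10, 0, 35726, 35777, 25888], [3, 0, 25880, 35778], [4, 0, 35612, 35778], [3, 0, 25833, 35780], [4, 0, 25864, 35780], [12, 0, 25831, 35780, 27160], [7, 0, 25887, 35790], [8, 0, 25884, 35790], [5, 0, 25893, 35792], [6, 0, 25894, 35792], [9, 0, 25891, 35792], [10, 0, 25888, 35792], [13, 0, 35621, 35792], [14, 0, 35623, 35792], [11, 0, 27163, 35802], [12, 0, 27160, 35802], [49, 1, 35797, 35789, 35765], [35, 1, 35824], [43, 2, 35700, 33580, 35135, 35751, 35824], [45, 1, 35826, 35755, 35649, 35763, 35824], [87, 9, 35566, 16215, 34602, 19275, 19280, 35475, 35633, 16492, 24734, 35763, 35824, 35828, 35708, 27755], [151, 2, 35825, 35757, 35824], [46, 4, 35366, 35537, 27753, 35832, 35566, 24349], [9, 0, 24349, 35836], [10, 0, 24346, 35836], [54, 3, 35840, 35331, 25715], [151, 2, 35840, 34305, 35841], [145, 0, 21722, 35844, 21723], [148, 1, 35842, 35844, 35843], [145, 2, 25713, 35848, 25712], [151, 2, 25715, 35848, 25714], [146, 1, 21872, 35852, 21873], [147, 2, 35084, 35854, 35085],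 [143, 8, 35856, 23766, 34047, 34048, 35078, 7396, 34975, 17828, 26300], [45, 5, 28910, 35858, 35086, 25722, 21876], [55, 1, 35858, 35082, 35860, 28908], [6, 0, 26303, 35863, 28906], [12, 0, 35859, 35863, 28914], [5, 0, 28909, 35864], [6, 0, 28906, 35864], [11, 0, 35860, 35864, 26311], [12, 0, 28914, 35866], [3, 0, 29178, 35872, 21872], [12, 0, 26308, 35872], [12, 0, 29176, 35877], [56, 2, 35566, 35331, 35880, 29169], [6, 0, 29166, 35882], [42, 3, 35809, 25451, 35558, 23737, 35884, 29173], [4, 0, 29175, 35886, 35162], [8, 0, 29173, 35886, 25944], [8, 0, 26307, 35889, 26926], [7, 0, 25947, 35890], [7, 0, 26929, 35892], [8, 0, 26926, 35892], [44, 4, 28913, 20300, 35898, 35165, 25855], [58, 3, 35878, 35898, 26937], [87, 11, 25853, 35166, 35897, 17832, 17830, 35371, 13333, 35089, 34949, 13330, 35368, 17831, 35898, 35165, 25863], [4, 0, 35800, 35904, 25856], [3, 0, 25866, 35904, 25859], [11, 0, 25863, 35904], [4, 0, 25856, 35906], [8, 0, 25819, 35906, 27152], [4, 0, 35798, 35909], [6, 0, 34529, 35909, 25920], [8, 0, 25935, 35909, 17462], [7,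 0, 27155, 35914], [8, 0, 27152, 35914], [5, 0, 25923, 35918], [6, 0, 25920, 35918], [11, 0, 25931, 35921], [12, 0, 25928, 35921], [101, 10, 35898, 35163, 35809, 35752, 21198, 21190, 33408, 7604, 7554, 34559, 5530, 1591, 9211, 12044, 20257], [4, 0, 28859, 35934, 20507], [3, 0, 28863, 35934, 26292], [6, 0, 20257, 35934, 35868], [6, 0, 28861, 35937, 35885], [5, 0, 28921, 35939], [4, 0, 20297, 35940, 12057], [3, 0, 26344, 35940, 12045], [5, 0, 35870, 35940], [6, 0, 35868, 35940], [8, 0, 28913, 35940, 20258], [10, 0, 20298, 35940, 14194], [12, 0, 35874, 35940, 20276], [14, 0, 20294, 35940], [4, 0, 35561, 35942, 20377], [3, 0, 35563, 35942, 20378], [8, 0, 23737, 35942, 29026], [10, 0, 35962, 35832, 35942, 29030], [12, 0, 35565, 35942, 29036], [10, 0, 26296, 35947, 13155], [14, 0, 17861, 35947, 20366], [10, 0, 26347, 35949, 12094], [10, 0, 35900, 35955, 28868], [5, 0, 35952, 35957], [6, 0, 35950, 35957], [8, 0, 35897, 35957, 22104], [12, 0, 35878, 35957, 22110], [14, 0, 17831, 35957, 22116], [5, 0, 35083, 35959], [6, 0, 35085, 35959], [10,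 0, 35087, 35959, 28892], [14, 0, 23767, 35959, 28898], [8, 0, 27755, 35963, 20392]]
def dJ90 : List (List ℕ) := [[12, 0, 27753, 35963, 20404], [3, 0, 20378, 35964], [4, 0, 20374, 35964], [6, 0, 28926, 35964, 28586], [14, 0, 25851, 35964, 28602], [7, 0, 29029, 35966], [8, 0, 29026, 35966], [3, 0, 29034, 35968, 20376], [11, 0, 29039, 35970], [12, 0, 29036, 35970], [6, 0, 35945, 35973, 14196], [13, 0, 20369, 35974], [14, 0, 20366, 35974], [8, 0, 35895, 35977, 20480], [12, 0, 35880, 35977, 20486], [14, 0, 20504, 35977], [4, 0, 28971, 35978, 35913], [3, 0, 28872, 35978, 25859], [9, 0, 28871, 35978], [10, 0, 28868, 35978], [4, 0, 22109, 35984, 35161], [7, 0, 22107, 35984], [8, 0, 22104, 35984], [4, 0, 22115, 35986, 21871], [11, 0, 22113, 35986], [13, 0, 22119, 35988], [14, 0, 22116, 35988], [4, 0, 29011, 35994, 35258], [3, 0, 28896, 35994, 35249], [9, 0, 28895, 35994], [13, 0, 28901, 35996], [14, 0, 28898, 35996], [6, 0, 29061, 35998, 34923], [7, 0, 20395, 35998], [8, 0, 20392, 35998], [5, 0, 20409, 36000], [6, 0, 20410, 36000], [10, 0, 29071,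 36000, 35536], [11, 0, 20407, 36000], [12, 0, 20404, 36000], [14, 0, 35433, 36000, 27758], [4, 0, 36006, 28924, 36021, 22124], [10, 0, 28929, 36007, 36083], [13, 0, 28605, 36008], [14, 0, 28602, 36008], [5, 0, 20401, 36015], [6, 0, 20402, 36015], [9, 0, 20399, 36015], [10, 0, 20396, 36015], [12, 0, 29065, 36015, 36019], [3, 0, 28916, 36021, 22138], [7, 0, 20483, 36026], [8, 0, 20480, 36026], [12, 0, 29105, 36026, 25948], [3, 0, 21872, 36029], [10, 0, 25717, 36029, 29150], [8, 0, 28967, 36033, 35925], [10, 0, 28965, 36033, 27156], [10, 0, 20439, 36035, 25924], [3, 0, 25825, 36040], [4, 0, 35161, 36040], [3, 0, 20503, 36047], [6, 0, 22153, 36047, 21878], [8, 0, 22177, 36047, 21894], [10, 0, 22187, 36047, 21910], [12, 0, 14227, 36047, 21928], [8, 0, 36128, 29007, 36055, 26248], [10, 0, 29005, 36055, 26252], [3, 0, 35249, 36056], [4, 0, 35251, 36056], [8, 0, 29063, 36065, 24808], [5, 0, 29073, 36075], [6, 0, 29074, 36075], [13, 0, 27761, 36080], [14, 0, 27758, 36080], [5, 0, 28589, 36083], [6, 0, 28586, 36083], [5, 0, 29067, 36099], [6,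 0, 29068, 36099], [3, 0, 22138, 36100], [4, 0, 22141, 36100], [3, 0, 36126, 29101, 36107], [7, 0, 29107, 36107], [8, 0, 29102, 36107], [9, 0, 29099, 36107], [10, 0, 29096, 36107], [7, 0, 29155, 36110], [9, 0, 29153, 36110], [11, 0, 29157, 36110], [9, 0, 22169, 36113], [10, 0, 22166, 36113], [9, 0, 27159, 36114], [10, 0, 27156, 36114], [9, 0, 25927, 36116], [10, 0, 25924, 36116], [11, 0, 22149, 36125], [12, 0, 22146, 36125], [9, 0, 28993, 36127], [10, 0, 28982, 36127], [11, 0, 22173, 36127], [12, 0, 22170, 36127], [11, 0, 21931, 36130], [12, 0, 21928, 36130], [7, 0, 26251, 36132], [8, 0, 26248, 36132], [9, 0, 26255, 36134], [10, 0, 26252, 36134], [4, 0, 35764, 36140, 29078], [3, 0, 35142, 36140, 29080], [7, 0, 24807, 36140], [8, 0, 24808, 36140], [9, 0, 35787, 36140], [10, 0, 35789, 36140], [12, 0, 24805, 36140, 29082], [4, 0, 29078, 36214], [3, 0, 29080, 36216], [6, 0, 29087, 36226, 24794], [11, 0, 29085, 36226], [12, 0, 29082, 36226], [5, 0, 24797, 36232], [6, 0, 24794, 36232], [9, 0, 35651, 36232, 36169], [5, 0, 28783, 36243], [6,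 0, 28780, 36243], [40, 4, 36163, 36246, 20149, 36239, 28985], [147, 2, 36246, 34881, 36247], [143, 0, 22086, 34487, 19534, 35323, 32686, 35585, 35819, 35808, 25948, 36250], [3, 0, 36163, 36252], [5, 0, 36245, 36252], [6, 0, 36247, 36252], [7, 0, 36165, 36252], [8, 0, 36167, 36252], [9, 0, 36169, 36252], [10, 0, 36171, 36252], [11, 0, 25951, 36252], [12, 0, 25948, 36252], [27, 0, 36253, 36250, 36252], [145, 2, 36255, 36272, 36254], [148, 1, 36248, 36274, 36249], [51, 0, 36268, 35162, 26934], [29, 2, 36278, 36254], [49, 3, 36278, 36264, 28882], [73, 5, 36278, 22090, 22086, 34481, 33823, 20815, 29469], [9, 0, 29469, 36284], [9, 0, 29466, 36284, 36283], [4, 0, 28991, 36288, 29454], [3, 0, 28882, 36288, 29456], [8, 0, 28879, 36288, 29462], [9, 0, 36283, 36288], [12, 0, 28877, 36288, 29470], [4, 0, 29454, 36290], [3, 0, 29456, 36292], [7, 0, 29465, 36294], [8, 0, 29462, 36294], [11, 0, 29473, 36298], [12, 0, 29470, 36298], [101, 0, 36278, 36256, 24752, 24736, 35221, 16475, 6409, 6020, 34239, 18341, 35292, 27207, 35524, 26462], [101, 2, 36278,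 36260, 36157, 35038, 36147, 35285, 35574, 35639, 16546, 35586, 16548, 16540, 24850, 24964], [101, 7, 36278, 36258, 20133, 16477, 35220, 16475, 10990, 10984, 6020, 34241, 35002, 18622, 27204, 35524], [115, 6, 27298, 35535, 26464, 36312, 36278, 22086, 14154, 20812, 36301], [3, 0, 28985, 36318], [4, 0, 36301, 36318], [6, 0, 36249, 36318], [7, 0, 28987, 36318], [8, 0, 28988, 36318], [9, 0, 36196, 36318], [10, 0, 36194, 36318], [11, 0, 28981, 36318], [12, 0, 28978, 36318], [27, 0, 36319, 36277, 36318], [145, 0, 36278, 36273, 36279], [40, 4, 24753, 36257, 36279, 36315, 24965], [32, 1, 36342], [42, 0, 36342, 24735, 35220, 24737, 36344], [101, 9, 36342, 24735, 16475, 34794, 34597, 9412, 9406, 2496, 5316, 5312, 12710, 12698, 12713, 13801, 21574], [4, 0, 24965, 36349, 21591], [5, 0, 36344, 36349], [6, 0, 36343, 36349], [7, 0, 36348, 36346, 36349], [13, 0, 24853, 36349], [14, 0, 24850, 36349], [5, 0, 36315, 36351], [13, 0, 24961, 36351], [14, 0, 24958, 36351], [155, 2, 36366, 34871, 36367], [143, 8, 36368, 36364, 35441, 16120, 10930, 33415, 7646,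 18378, 26910], [145, 0, 21591, 36368, 21590], [153, 0, 36370, 36368, 36371], [37, 1, 36370], [51, 0, 36370, 21589, 21618], [145, 0, 36378, 36375, 36379], [55, 0, 36376, 26912, 26934], [41, 1, 29460, 36307, 35990, 35903, 36382], [53, 3, 36296, 36382, 21594, 21610], [6, 0, 21613, 36386, 29458], [5, 0, 29461, 36388], [6, 0, 29458, 36388], [7, 0, 36384, 36388, 21617], [7, 0, 21617, 36394], [8, 0, 21614, 36394]]
def dJ91 : List (List ℕ) := [[129, 6, 19854, 19537, 34484, 14164, 22084, 36279, 36382, 36364, 20009, 35609], [4, 0, 24027, 36400, 28434], [3, 0, 24064, 36400, 28436], [6, 0, 35607, 36400, 28442], [8, 0, 34805, 36400, 28446], [10, 0, 35611, 36400, 28450], [12, 0, 24025, 36400, 28456], [4, 0, 28434, 36402], [3, 0, 28436, 36404], [10, 0, 28440, 36404], [5, 0, 28445, 36406], [6, 0, 28442, 36406], [7, 0, 28449, 36408], [8, 0, 28446, 36408], [4, 0, 28455, 36410, 33752], [9, 0, 28453, 36410], [10, 0, 28450, 36410], [11, 0, 28459, 36412], [12, 0, 28456, 36412], [10, 0, 36418, 36429, 25278], [14, 0, 28245, 36429, 25282], [9, 0, 25281, 36438],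 [10, 0, 25278, 36438], [13, 0, 25285, 36440], [14, 0, 25282, 36440], [40, 2, 36322, 36391, 21588, 36383, 36281], [42, 4, 21879, 21897, 36450, 36328, 28939], [56, 0, 36199, 36450, 36336, 28961], [6, 0, 28961, 36454, 22162], [5, 0, 22165, 36456], [6, 0, 22162, 36456], [101, 0, 27662, 23199, 22212, 14270, 14442, 34578, 14155, 22087, 36254, 36450, 36328, 20365, 36071, 35061, 24288], [13, 0, 27663, 36463], [14, 0, 27660, 36463], [74, 3, 35840, 24294, 36466, 19089, 33338, 33545], [87, 2, 25254, 16832, 16204, 24276, 36466, 19099, 30890, 31936, 23932, 32045, 19539, 19544, 36446, 25268], [116, 5, 36159, 35287, 35284, 36148, 19173, 35061, 36466, 33338, 23371], [14, 0, 23371, 36472, 22154], [13, 0, 22157, 36474], [14, 0, 22154, 36474], [155, 2, 36466, 32631, 36467], [74, 4, 21722, 36469, 22217, 23198, 23158, 36467], [46, 2, 35653, 34828, 34824, 34827, 36482], [73, 0, 23198, 23158, 36465, 36482, 21722, 21684], [102, 1, 36136, 25720, 25710, 36172, 36145, 21681, 36486, 33540, 14393, 14431, 34007, 33224, 33137, 26561, 26563], [14, 0, 26561, 36488,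 29180], [13, 0, 29183, 36490], [14, 0, 29180, 36490], [115, 6, 21722, 21690, 36486, 33540, 36476, 22124, 35530, 24078], [102, 4, 25728, 25718, 36137, 36495, 33136, 33223, 17659, 34090, 14381, 33541, 36487, 21689, 21680, 36142, 36136], [7, 0, 25729, 36499], [8, 0, 25726, 36499], [87, 8, 25855, 36038, 36310, 36305, 36059, 36502, 17344, 17338, 10097, 13968, 34018, 7498, 7488, 17962, 26479], [14, 0, 26479, 36504, 25868], [13, 0, 25871, 36506], [14, 0, 25868, 36506], [73, 1, 35292, 35385, 36510, 35166, 36121, 14216, 22178], [14, 0, 22181, 36512, 26882], [13, 0, 26885, 36514], [14, 0, 26882, 36514], [144, 8, 18669, 27299, 36338, 36336, 36460, 36518, 31077, 35255, 20237, 28855], [12, 0, 28855, 36520, 35119], [14, 0, 20237, 36523, 27236], [13, 0, 27239, 36524], [14, 0, 27236, 36524], [115, 3, 17431, 36511, 17966, 36526, 35293, 18354, 36519, 36118, 25952], [14, 0, 25955, 36530, 25834], [13, 0, 25837, 36532], [14, 0, 25834, 36532], [87, 0, 29160, 36263, 36264, 20444, 12110, 12094, 36105, 36536, 35924, 36183, 36335, 36328, 36212, 36207, 21920],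 [13, 0, 29161, 36539], [14, 0, 29158, 36539], [116, 8, 18381, 18391, 35163, 36536, 17415, 7123, 10027, 16433, 24684], [10, 0, 24687, 36544, 34783], [13, 0, 21829, 36547], [14, 0, 21826, 36547], [129, 5, 23978, 14940, 6031, 6346, 10034, 36548, 34245, 34246, 14938, 23954], [5, 0, 23979, 36553], [6, 0, 23976, 36553], [11, 0, 23981, 36553], [12, 0, 23982, 36553], [153, 2, 36560, 34761, 36561], [145, 0, 23957, 36562, 23956], [51, 3, 23957, 36558, 23952], [130, 1, 25712, 36542, 36155, 24294, 36466, 33340, 23199, 36487, 21693], [129, 6, 18700, 8073, 35257, 12024, 36526, 35396, 8142, 8156, 18934, 27570], [6, 0, 27573, 36570, 27322], [6, 0, 27322, 36572], [40, 3, 27575, 18937, 18934, 36574, 31739, 27579], [5, 0, 27579, 36576], [6, 0, 27580, 36576], [130, 1, 36580, 31738, 18699, 18669, 35535, 36316, 36363, 21589, 13799, 9701], [3, 0, 27574, 36583, 33400], [6, 0, 36579, 36583, 33839], [6, 0, 18939, 36585, 7604], [4, 0, 31739, 36587, 7552], [14, 0, 10287, 36589, 7712], [14, 0, 18701, 36591, 18014], [13, 0, 11261, 36592], [14, 0, 7712, 36592], [13,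 0, 18017, 36594], [14, 0, 18014, 36594], [116, 6, 18129, 7555, 36597, 15599, 8019, 36602, 7553, 18131, 26626], [4, 0, 26626, 36604, 26624], [10, 0, 31429, 36604], [4, 0, 26624, 36606], [144, 0, 35380, 18667, 36602, 7497, 27918, 11171, 18045, 30195, 28303], [144, 4, 35380, 18667, 36602, 7497, 27918, 11171, 33643, 18045, 30195, 28303], [13, 0, 28303, 36614], [14, 0, 28300, 36614], [27, 0, 36613, 36614], [146, 3, 35525, 36620, 35524], [73, 2, 36618, 33821, 34483, 19676, 36619, 35524], [116, 7, 36321, 27297, 18679, 35523, 36618, 34482, 20815, 36303, 29111], [14, 0, 29108, 36626], [130, 8, 17431, 36509, 17979, 26455, 35525, 36618, 30196, 33136, 18591, 27151], [6, 0, 27151, 36630, 25812], [5, 0, 25815, 36632], [6, 0, 25812, 36632], [144, 7, 35342, 35810, 36536, 35295, 35822, 36636, 36535, 36269, 36258, 28795], [14, 0, 28792, 36638], [87, 0, 28622, 20010, 35641, 35336, 11964, 20132, 36640, 20133, 11965, 35337, 35640, 20011, 28623, 28630], [130, 6, 36450, 36320, 36628, 20457, 36240, 20148, 36640, 36257, 36254], [35, 1, 36624], [45, 5, 36624,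 35378, 31675, 35381, 36646], [129, 4, 20331, 36458, 36516, 35292, 27204, 27220, 36616, 34482, 34581, 23450], [14, 0, 23453, 36650, 28884], [13, 0, 28887, 36652], [14, 0, 28884, 36652], [115, 4, 18590, 14812, 33235, 34006, 15937, 36654, 20262, 20460, 29116], [3, 0, 29116, 36658, 35912], [3, 0, 35912, 36660], [4, 0, 25858, 36660], [8, 0, 25855, 36660, 29134], [10, 0, 36037, 36660, 29138], [12, 0, 35911, 36660, 29142], [7, 0, 29137, 36666], [8, 0, 29134, 36666], [9, 0, 29141, 36668], [10, 0, 29138, 36668], [11, 0, 29145, 36670], [12, 0, 29142, 36670], [143, 2, 21620, 13800, 33839, 7550, 33770, 34069, 14426, 33144, 36654, 28864], [5, 0, 28867, 36684], [6, 0, 28864, 36684], [42, 0, 36688, 20259, 35981, 36043, 26913], [54, 0, 36688, 36678, 29121], [36, 1, 36692], [87, 8, 36692, 21619, 36397, 21607, 36397, 21599, 36364, 24934, 35743, 28622, 35582, 34927, 36221, 29091], [151, 2, 36692, 36380, 36693], [34, 1, 36696], [34, 1, 36690], [87, 12, 23985, 14946, 14940, 6026, 6094, 12998, 9705, 5430, 5390, 13801, 36397, 21607, 21621, 36702], [43, 3,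 23960, 23984, 36705, 36703, 36693, 36697], [7, 0, 36700, 36706], [8, 0, 36697, 36706], [13, 0, 29091, 36706], [14, 0, 29088, 36706], [73, 1, 23953, 23972, 36714, 36224, 35794, 17450, 25910], [13, 0, 25913, 36716], [14, 0, 25910, 36716], [42, 4, 23985, 36555, 36710, 29119, 36673, 25845], [5, 0, 25845, 36722], [6, 0, 25842, 36722], [13, 0, 36087, 36722], [14, 0, 36089, 36722], [48, 1, 23985, 23954, 36710], [58, 2, 23985, 36559, 36710], [38, 1, 36734], [46, 1, 36377, 21607, 21621, 36694, 36734], [144, 9, 36699, 36734, 36726, 36509, 31360, 26455, 36316, 26935, 26913], [153, 0, 36735, 36698, 36734], [87, 0, 36711, 23960, 23984, 36735, 36695, 36691, 36740, 36709, 23973, 36559, 36710, 36692, 36702, 26918], [144, 7, 36152, 36729, 36742, 36736, 29119, 20461, 20443, 36240, 24813], [38, 1, 36746], [52, 3, 36746, 22125, 36191], [56, 3, 36746, 36152, 34827], [144, 0, 36746, 36152, 36729, 36736, 29119, 20461, 20443, 36240, 24813], [153, 0, 36747, 36755, 36746], [144, 2, 36466, 19081, 32538, 34832, 35514, 35439, 35531, 36756, 36748], [42, 0, 36758,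 24277, 34526, 24279, 36752], [48, 1, 36452, 36750, 36760], [58, 3, 36748, 36760, 36746], [48, 3, 36160, 36764, 22125, 22145], [8, 0, 22145, 36766, 28930], [7, 0, 28933, 36768], [8, 0, 28930, 36768], [101, 9, 36151, 36764, 22125, 14197, 13150, 12104, 36031, 13151, 14196, 22124, 36765, 36150, 36004, 20415, 29076], [3, 0, 29076, 36774, 36004], [14, 0, 20412, 36777], [87, 0, 24894, 35526, 36424, 36437, 33936, 36066, 36778, 36067, 33937, 36436, 36425, 35527, 24895, 24900], [116, 5, 36740, 36732, 36730, 19995, 36004, 36778, 20376, 29043], [144, 8, 29195, 20529, 35215, 12109, 12073, 36778, 36077, 36072, 20531, 29209], [11, 0, 29209, 36784], [12, 0, 29206, 36784], [30, 2, 36782, 36379], [40, 0, 36782, 26911, 35163, 35809, 35752], [48, 0, 36782, 36690, 36790], [52, 0, 36782, 36377, 21590], [145, 2, 36782, 36374, 36783]]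
def dJ92 : List (List ℕ) := [[38, 1, 36796], [56, 1, 35762, 36353, 36796], [130, 3, 26633, 36611, 18129, 33838, 12712, 21191, 21203, 36792, 36791], [144, 9, 35760, 35754, 36792, 29041, 36017, 36156, 36541, 35262, 26235], [60, 2, 26237, 36806], [73, 2, 36806, 35648, 24738, 16504, 24810, 36762], [155, 2, 36806, 35760, 36807], [151, 0, 36810, 36812, 36811], [150, 3, 36453, 36814, 36452], [143, 0, 28682, 35619, 14120, 10844, 1570, 1580, 5614, 14196, 36193, 36816], [13, 0, 28683, 36819], [14, 0, 28680, 36819], [130, 7, 14381, 33339, 36465, 24293, 36752, 36751, 36822, 35617, 23106, 22051], [14, 0, 22051, 36824, 14516], [13, 0, 14519, 36826], [14, 0, 14516, 36826], [87, 2, 14106, 34561, 14118, 35747, 35025, 36830, 14431, 33151, 18043, 33636, 5849, 5847, 13637, 14764, 23794], [8, 0, 23797, 36832, 22030], [4, 0, 36835, 23121, 36834, 23772], [7, 0, 22033, 36834], [8, 0, 22030, 36834], [12, 0, 36835, 35157, 36834, 23802], [4, 0, 23776, 36836, 23772, 36836], [12, 0, 23802, 36842], [3, 0, 23774, 36845], [73, 5, 36848, 14770, 14766, 14561, 33629,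 14767, 23801], [10, 0, 23798, 36850], [101, 2, 23780, 36848, 36838, 35699, 21257, 12767, 5248, 1531, 1587, 1591, 4695, 9899, 9904, 14938, 23952], [3, 0, 23956, 36854], [4, 0, 23952, 36854], [9, 0, 36855, 23975, 36854], [11, 0, 36855, 36567, 36854], [13, 0, 36719, 36854], [14, 0, 36721, 36854], [27, 0, 36855, 36565, 36854], [102, 8, 17712, 34951, 35088, 7392, 34400, 14621, 14767, 14775, 36848, 23778, 36856, 36708, 29120, 36664, 25936], [14, 0, 25939, 36870, 26130], [13, 0, 26133, 36872], [14, 0, 26130, 36872], [73, 1, 20345, 36186, 36876, 34053, 33209, 12502, 21114], [14, 0, 21117, 36878, 28994], [13, 0, 28997, 36880], [14, 0, 28994, 36880], [87, 1, 22240, 34094, 14442, 14428, 34070, 12496, 36884, 20327, 13153, 36204, 21897, 36331, 36328, 20356, 29012], [13, 0, 29015, 36886], [14, 0, 29012, 36886], [116, 6, 36493, 33138, 33233, 17655, 34008, 36890, 20365, 20531, 29190], [4, 0, 29190, 36892, 36136], [3, 0, 29193, 36892, 36138], [4, 0, 36136, 36894], [6, 0, 25721, 36894, 29194], [8, 0, 36501, 36894, 29198], [10, 0, 36059, 36894, 29202],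 [4, 0, 29188, 36897], [5, 0, 29197, 36900], [6, 0, 29194, 36900], [11, 0, 36787, 36900], [12, 0, 36789, 36900], [7, 0, 29201, 36902], [8, 0, 29198, 36902], [9, 0, 29205, 36904], [10, 0, 29202, 36904], [144, 0, 21223, 33743, 34551, 19433, 33243, 36890, 20347, 20309, 35287], [35, 1, 36810], [87, 6, 28177, 19449, 32077, 32555, 22981, 6513, 32997, 14386, 36476, 36770, 20310, 36770, 28934, 36810], [33, 1, 36928], [149, 2, 36929, 36813, 36928], [87, 3, 36190, 20324, 36773, 36477, 32998, 6511, 6517, 32272, 32078, 19435, 19440, 28176, 36930, 36926], [60, 2, 21623, 36804], [87, 8, 25269, 36443, 24061, 34270, 16091, 19985, 19990, 36731, 23986, 23972, 36708, 36737, 36705, 36703, 36804], [5, 0, 26635, 36938], [6, 0, 26632, 36938], [13, 0, 36804, 36938], [14, 0, 36937, 36938], [88, 3, 24062, 16078, 19982, 36731, 23985, 23961, 36560, 23987, 36738, 36690, 36945, 25261, 25254, 36445], [144, 0, 25251, 35447, 14445, 14429, 34580, 20815, 36309, 36687, 36945], [87, 0, 36948, 36442, 25268, 25252, 35453, 21718, 36497, 36949, 36444, 16831, 16817, 35451, 21721,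 21728], [101, 5, 24079, 35531, 36161, 20307, 20329, 20345, 20423, 36231, 25462, 35816, 20008, 35441, 24078, 36948], [115, 5, 21772, 21736, 21732, 36952, 36416, 19854, 19450, 28176], [155, 2, 36953, 35846, 36952], [73, 4, 36956, 21776, 21772, 21681, 35838, 24361], [101, 9, 23827, 34059, 34063, 13876, 13870, 35553, 30963, 34614, 10855, 14150, 34487, 19555, 28179, 36956], [130, 1, 36956, 21771, 36144, 36899, 20529, 36071, 35039, 24361, 24373], [145, 2, 36957, 36933, 36956], [32, 1, 36964], [144, 1, 36964, 28177, 19431, 33021, 33840, 22239, 33244, 28179, 36933], [147, 2, 36964, 36933, 36965], [143, 8, 36972, 24360, 36154, 20488, 36031, 36093, 36019, 24358, 36969], [87, 5, 36930, 36806, 24735, 16493, 35505, 35642, 16565, 20035, 20040, 36823, 36453, 36810, 36928, 36974], [73, 1, 36976, 28177, 23174, 19450, 19438, 28176], [30, 1, 36957, 36978], [50, 2, 36957, 36977, 36980], [52, 2, 36957, 36970, 36980], [144, 2, 36941, 36946, 21619, 36392, 20813, 34641, 34067, 14447, 33719, 23473], [8, 0, 36987, 30428, 36986, 26636], [12, 0, 23473, 36986, 26642],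 [8, 0, 26636, 36988], [11, 0, 26645, 36990], [12, 0, 26642, 36990], [87, 9, 30362, 36996, 36992, 36608, 36992, 18136, 18130, 34559, 13215, 6344, 6338, 34648, 8068, 18825, 27441], [8, 0, 27441, 36998, 23826], [6, 0, 36962, 37000, 27434], [7, 0, 23829, 37000], [8, 0, 23826, 37000], [10, 0, 37001, 30426, 37000, 31681], [12, 0, 37001, 30328, 37000, 27446], [5, 0, 27437, 37002], [6, 0, 27434, 37002], [3, 0, 27428, 37008], [10, 0, 31681, 37008], [12, 0, 27446, 37010], [144, 6, 18425, 31139, 35256, 18825, 35349, 37020, 37013, 21771, 35365, 36568], [4, 0, 25713, 37022, 26978], [3, 0, 25710, 37022, 26980], [6, 0, 36568, 37022, 26982], [8, 0, 36173, 37022, 26986], [10, 0, 36175, 37022, 26990], [12, 0, 36177, 37022, 26994], [4, 0, 26978, 37024], [3, 0, 26980, 37026], [10, 0, 35593, 37026, 21876], [5, 0, 26985, 37028], [6, 0, 26982, 37028], [7, 0, 26989, 37030], [8, 0, 26986, 37030], [9, 0, 26993, 37032], [10, 0, 26990, 37032], [11, 0, 26997, 37034], [12, 0, 26994, 37034], [3, 0, 21870, 37040], [4, 0, 36108, 37040], [6, 0, 35992, 37040, 27548],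 [8, 0, 35902, 37040, 27552], [9, 0, 21875, 37040], [10, 0, 21876, 37040], [12, 0, 36049, 37040, 27560], [5, 0, 27551, 37062], [6, 0, 27548, 37062], [7, 0, 27555, 37064], [8, 0, 27552, 37064], [11, 0, 27563, 37070], [12, 0, 27560, 37070], [39, 4, 28938, 20350, 37072, 37058, 21878], [101, 12, 24951, 20042, 36823, 37084, 28938, 20350, 36304, 36393, 21588, 36366, 16586, 35520, 20035, 28625], [101, 5, 24951, 36821, 37084, 28953, 36327, 36322, 36391, 21588, 21601, 36364, 16586, 35521, 20006, 28620], [143, 4, 21796, 35549, 16646, 32557, 32558, 35546, 35268, 35407, 36780], [144, 0, 35406, 35269, 35547, 32556, 16647, 35548, 21797, 37091, 36781], [146, 3, 35471, 37092, 35470], [31, 1, 37090], [41, 1, 35572, 35641, 16566, 24892, 37090], [101, 6, 36946, 36378, 26911, 36044, 14179, 14199, 36159, 20318, 35289, 33752, 35239, 35290, 24892, 37090], [30, 1, 35470, 37100], [50, 0, 37100, 36471, 37102], [36, 1, 37104], [44, 1, 36432, 36425, 35527, 24895, 37104], [87, 1, 35826, 35749, 24756, 16478, 35633, 35474, 19273, 34601, 35570, 36012, 36096, 36067,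 19190, 35709], [87, 4, 21284, 35782, 18283, 32614, 12891, 13648, 13000, 2673, 2563, 13092, 6450, 35638, 20024, 28620], [37, 1, 37112], [45, 5, 35743, 37112, 21284, 35717, 35686], [153, 0, 37112, 35683, 37113], [144, 7, 37089, 36643, 37118, 37115, 35661, 21395, 13648, 12897, 21397], [146, 3, 28638, 37118, 28639], [153, 0, 37116, 37122, 37117], [46, 1, 37115, 21283, 35715, 35688, 37120], [44, 3, 28385, 19771, 33952, 19773, 28387], [87, 10, 37128, 28385, 19771, 13479, 11682, 11638, 33614, 34647, 33107, 33617, 11640, 11683, 19773, 28387], [46, 0, 37130, 28385, 34708, 28387, 37130, 28385], [8, 0, 37132, 37128, 37133, 19772], [8, 0, 19770, 37135], [0, 0], [31, 1, 37138], [39, 2, 26234, 36139, 36145, 21736, 37138], [41, 1, 37012, 37004, 34065, 21718, 37138], [53, 1, 36753, 35652, 37138], [55, 1, 37140, 36485, 37138], [63, 2, 37139, 21725, 37138], [77, 2, 37139, 21727, 37138], [91, 2, 37139, 21729, 37138], [101, 10, 36957, 36968, 36980, 21780, 21772, 21736, 37138, 37142, 36928, 36965, 36980, 21771, 21736, 37141], [105, 2, 37139, 21731, 37138],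 [119, 2, 37139, 21733, 37138], [129, 3, 24951, 35619, 36828, 14271, 22226, 22224, 36468, 21723, 37138], [129, 9, 37162, 24951, 35619, 36828, 14271, 22226, 36468, 21723, 37138], [143, 9, 37162, 37087, 37112, 35678, 34269, 24060, 36496, 37138, 37148], [59, 1, 37150, 37162], [74, 2, 37162, 37126, 28624, 36821, 21885, 36750], [0, 0], [59, 1, 21798, 37172], [59, 2, 37174, 37172], [73, 1, 36695, 36945, 36471, 37101, 21800, 37172], [74, 4, 36791, 36945, 25259, 37102, 37107, 37172], [85, 2, 37173, 21801, 37172], [99, 2, 37173, 21803, 37172], [101, 1, 36724, 17429, 17460, 35929, 35796, 24863, 16547, 16569, 24895, 35470, 37091, 35470, 21804, 37172], [113, 2, 37173, 21805, 37172], [127, 2, 37173, 21807, 37172], [141, 2, 37173, 21809, 37172], [143, 1, 35830, 24864, 35587, 35504, 35472, 35271, 21794, 37094, 37172], [155, 2, 37173, 37095, 37172], [31, 1, 37194]]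
def dJ93 : List (List ℕ) := [[41, 5, 37194, 35828, 35696, 36841, 23778], [55, 3, 37194, 35830, 37198], [45, 2, 36797, 21608, 36801, 37181, 37202], [57, 2, 36862, 37200, 37202], [0, 0], [35, 1, 37208], [43, 2, 36976, 36930, 36926, 36934, 37208], [45, 1, 36926, 28936, 20310, 36193, 37208], [49, 2, 37146, 36751, 37208], [53, 2, 21912, 21878, 37208], [67, 2, 37209, 21883, 37208], [81, 2, 37209, 21885, 37208], [95, 2, 37209, 21887, 37208], [109, 2, 37209, 21889, 37208], [123, 2, 37209, 21891, 37208], [137, 2, 37209, 21893, 37208], [151, 2, 37209, 36817, 37208], [101, 0, 36763, 36753, 35060, 19162, 34795, 11969, 35345, 13875, 35278, 21679, 21723, 37141, 37217, 37226], [59, 1, 37220, 37234], [73, 5, 37222, 37234, 37085, 37208, 37237, 36927], [129, 8, 37230, 37234, 37085, 21880, 14058, 13953, 13954, 17336, 21915], [143, 8, 37232, 37234, 28938, 20348, 36025, 34950, 34457, 17792, 26232], [87, 8, 36960, 36970, 37213, 37209, 36935, 28944, 37236, 37212, 36976, 36930, 37242, 37210, 36453, 37235]]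
def dJS : List (List ℕ) := List.flatten [dJ0, dJ1, dJ2, dJ3, dJ4, dJ5, dJ6, dJ7, dJ8, dJ9, dJ10, dJ11, dJ12, dJ13, dJ14, dJ15, dJ16, dJ17, dJ18, dJ19, dJ20, dJ21, dJ22, dJ23, dJ24, dJ25, dJ26, dJ27, dJ28, dJ29, dJ30, dJ31, dJ32, dJ33, dJ34, dJ35, dJ36, dJ37, dJ38, dJ39, dJ40, dJ41, dJ42, dJ43, dJ44, dJ45, dJ46, dJ47, dJ48, dJ49, dJ50, dJ51, dJ52, dJ53, dJ54, dJ55, dJ56, dJ57, dJ58, dJ59, dJ60, dJ61, dJ62, dJ63, dJ64, dJ65, dJ66, dJ67, dJ68, dJ69, dJ70, dJ71, dJ72, dJ73, dJ74, dJ75, dJ76, dJ77, dJ78, dJ79, dJ80, dJ81, dJ82, dJ83, dJ84, dJ85, dJ86, dJ87, dJ88, dJ89, dJ90, dJ91, dJ92, dJ93]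
def dLive_0 : BT := .node (.node (.node (.node (.node (.node (.node (.leaf 0) (.leaf 1663)) (.leaf 758)) (.node (.node (.leaf 417) (.leaf 2365)) (.leaf 1227))) (.node (.node (.node (.leaf 237) (.leaf 2054)) (.leaf 995)) (.node (.leaf 617) (.leaf 1439)))) (.node (.node (.node (.node (.leaf 85) (.leaf 1817)) (.leaf 899)) (.node (.node (.leaf 516) (.leaf 2669)) (.leaf 1379))) (.node (.node (.node (.leaf 343) (.leaf 2170)) (.leaf 1165)) (.node (.leaf 676) (.leaf 1520))))) (.node (.node (.node (.node (.node (.leaf 54) (.leaf 1709)) (.leaf 799)) (.node (.node (.leaf 453) (.leaf 2539)) (.leaf 1328))) (.node (.node (.node (.leaf 284) (.leaf 2102)) (.leaf 1125)) (.node (.leaf 643) (.leaf 1482)))) (.node (.node (.node (.node (.leaf 205) (.leaf 1928)) (.leaf 959)) (.node (.node (.leaf 546) (.leaf 3118)) (.leaf 1412))) (.node (.node (.node (.leaf 373) (.leaf 2292)) (.leaf 1206)) (.node (.leaf 700) (.leaf 1568)))))) (.node (.node (.node (.node (.node (.node (.leaf 14) (.leaf 1687)) (.leaf 788)) (.node (.node (.leaf 441) (.leaf 2474)) (.leaf 1287)))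 (.node (.node (.node (.leaf 272) (.leaf 2096)) (.leaf 1057)) (.node (.leaf 634) (.leaf 1463)))) (.node (.node (.node (.node (.leaf 100) (.leaf 1858)) (.leaf 927)) (.node (.node (.leaf 530) (.leaf 2939)) (.leaf 1401))) (.node (.node (.node (.leaf 361) (.leaf 2247)) (.leaf 1175)) (.node (.leaf 696) (.leaf 1563))))) (.node (.node (.node (.node (.node (.leaf 69) (.leaf 1765)) (.leaf 838)) (.node (.node (.leaf 507) (.leaf 2599)) (.leaf 1349))) (.node (.node (.node (.leaf 324) (.leaf 2115)) (.leaf 1143)) (.node (.leaf 663) (.leaf 1503)))) (.node (.node (.node (.node (.leaf 218) (.leaf 1973)) (.leaf 979)) (.node (.node (.leaf 576) (.leaf 3279)) (.leaf 1419))) (.node (.node (.node (.leaf 400) (.leaf 2316)) (.leaf 1223)) (.node (.leaf 727) (.leaf 1597))))))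
def dLive_1 : BT := .node (.node (.node (.node (.node (.node (.node (.leaf 12) (.leaf 1674)) (.leaf 772)) (.node (.node (.leaf 419) (.leaf 2385)) (.leaf 1258))) (.node (.node (.node (.leaf 270) (.leaf 2059)) (.leaf 1046)) (.node (.leaf 626) (.leaf 1443)))) (.node (.node (.node (.node (.leaf 98) (.leaf 1849)) (.leaf 910)) (.node (.node (.leaf 518) (.leaf 2810)) (.leaf 1385))) (.node (.node (.node (.leaf 345) (.leaf 2239)) (.leaf 1172)) (.node (.leaf 678) (.leaf 1540))))) (.node (.node (.node (.node (.node (.leaf 67) (.leaf 1725)) (.leaf 822)) (.node (.node (.leaf 493) (.leaf 2589)) (.leaf 1343))) (.node (.node (.node (.leaf 294) (.leaf 2112)) (.leaf 1130)) (.node (.leaf 656) (.leaf 1497)))) (.node (.node (.node (.node (.leaf 209) (.leaf 1940)) (.leaf 961)) (.node (.node (.leaf 553) (.leaf 3250)) (.leaf 1414))) (.node (.node (.node (.leaf 390) (.leaf 2305)) (.leaf 1210)) (.node (.leaf 725) (.leaf 1578)))))) (.node (.node (.node (.node (.node (.node (.leaf 17) (.leaf 1689)) (.leaf 795)) (.node (.node (.leaf 449) (.leaf 2494)) (.leaf 1323)))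 (.node (.node (.node (.leaf 282) (.leaf 2100)) (.leaf 1122)) (.node (.leaf 636) (.leaf 1477)))) (.node (.node (.node (.node (.leaf 121) (.leaf 1897)) (.leaf 943)) (.node (.node (.leaf 532) (.leaf 2990)) (.leaf 1404))) (.node (.node (.node (.leaf 369) (.leaf 2288)) (.leaf 1199)) (.node (.leaf 698) (.leaf 1566))))) (.node (.node (.node (.node (.node (.leaf 82) (.leaf 1801)) (.leaf 862)) (.node (.node (.leaf 514) (.leaf 2614)) (.leaf 1376))) (.node (.node (.node (.leaf 335) (.leaf 2121)) (.leaf 1158)) (.node (.leaf 673) (.leaf 1505)))) (.node (.node (.node (.node (.leaf 220) (.leaf 2003)) (.leaf 988)) (.node (.node (.leaf 578) (.leaf 3385)) (.leaf 1432))) (.node (.node (.node (.leaf 415) (.leaf 2333)) (.leaf 1225)) (.node (.leaf 751) (.leaf 1602))))))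
def dLive_2 : BT := .node dLive_0 dLive_1
def dLive_3 : BT := .node (.node (.node (.node (.node (.node (.node (.leaf 1) (.leaf 1665)) (.leaf 761)) (.node (.node (.leaf 418) (.leaf 2371)) (.leaf 1228))) (.node (.node (.node (.leaf 238) (.leaf 2057)) (.leaf 1035)) (.node (.leaf 618) (.leaf 1440)))) (.node (.node (.node (.node (.leaf 86) (.leaf 1825)) (.leaf 908)) (.node (.node (.leaf 517) (.leaf 2693)) (.leaf 1380))) (.node (.node (.node (.leaf 344) (.leaf 2232)) (.leaf 1166)) (.node (.leaf 677) (.leaf 1522))))) (.node (.node (.node (.node (.node (.leaf 56) (.leaf 1717)) (.leaf 813)) (.node (.node (.leaf 492) (.leaf 2550)) (.leaf 1329))) (.node (.node (.node (.leaf 285) (.leaf 2106)) (.leaf 1129)) (.node (.leaf 653) (.leaf 1487)))) (.node (.node (.node (.node (.leaf 206) (.leaf 1938)) (.leaf 960)) (.node (.node (.leaf 552) (.leaf 3193)) (.leaf 1413))) (.node (.node (.node (.leaf 388) (.leaf 2300)) (.leaf 1207)) (.node (.leaf 701) (.leaf 1569)))))) (.node (.node (.node (.node (.node (.node (.leaf 15) (.leaf 1688)) (.leaf 794)) (.node (.node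 (.leaf 448) (.leaf 2492)) (.leaf 1288))) (.node (.node (.node (.leaf 273) (.leaf 2097)) (.leaf 1071)) (.node (.leaf 635) (.leaf 1472)))) (.node (.node (.node (.node (.leaf 101) (.leaf 1882)) (.leaf 942)) (.node (.node (.leaf 531) (.leaf 2942)) (.leaf 1403))) (.node (.node (.node (.leaf 368) (.leaf 2259)) (.leaf 1181)) (.node (.leaf 697) (.leaf 1564))))) (.node (.node (.node (.node (.node (.leaf 81) (.leaf 1779)) (.leaf 861)) (.node (.node (.leaf 508) (.leaf 2610)) (.leaf 1362))) (.node (.node (.node (.leaf 326) (.leaf 2118)) (.leaf 1157)) (.node (.leaf 668) (.leaf 1504)))) (.node (.node (.node (.node (.leaf 219) (.leaf 1987)) (.leaf 980)) (.node (.node (.leaf 577) (.leaf 3384)) (.leaf 1420))) (.node (.node (.node (.leaf 408) (.leaf 2332)) (.leaf 1224)) (.node (.leaf 735) (.leaf 1601))))))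
def dLive_4 : BT := .node (.node (.node (.node (.node (.node (.node (.leaf 13) (.leaf 1686)) (.leaf 781)) (.node (.node (.leaf 420) (.leaf 2388)) (.leaf 1279))) (.node (.node (.node (.leaf 271) (.leaf 2077)) (.leaf 1047)) (.node (.leaf 627) (.leaf 1457)))) (.node (.node (.node (.node (.leaf 99) (.leaf 1853)) (.leaf 925)) (.node (.node (.leaf 519) (.leaf 2843)) (.leaf 1396))) (.node (.node (.node (.leaf 346) (.leaf 2243)) (.leaf 1174)) (.node (.leaf 691) (.leaf 1561))))) (.node (.node (.node (.node (.node (.leaf 68) (.leaf 1754)) (.leaf 831)) (.node (.node (.leaf 499) (.leaf 2590)) (.leaf 1344))) (.node (.node (.node (.leaf 295) (.leaf 2114)) (.leaf 1142)) (.node (.leaf 657) (.leaf 1500)))) (.node (.node (.node (.node (.leaf 210) (.leaf 1953)) (.leaf 969)) (.node (.node (.leaf 556) (.leaf 3264)) (.leaf 1418))) (.node (.node (.node (.leaf 391) (.leaf 2313)) (.leaf 1218)) (.node (.leaf 726) (.leaf 1594)))))) (.node (.node (.node (.node (.node (.node (.leaf 53) (.leaf 1690)) (.leaf 798)) (.node (.node (.leaf 451) (.leaf 2503)) (.leaf 1324)))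 (.node (.node (.node (.leaf 283) (.leaf 2101)) (.leaf 1124)) (.node (.leaf 642) (.leaf 1478)))) (.node (.node (.node (.node (.leaf 122) (.leaf 1925)) (.leaf 944)) (.node (.node (.leaf 539) (.leaf 3004)) (.leaf 1408))) (.node (.node (.node (.leaf 370) (.leaf 2289)) (.leaf 1203)) (.node (.leaf 699) (.leaf 1567))))) (.node (.node (.node (.node (.node (.leaf 83) (.leaf 1812)) (.leaf 883)) (.node (.node (.leaf 515) (.leaf 2619)) (.leaf 1377))) (.node (.node (.node (.leaf 336) (.leaf 2122)) (.leaf 1164)) (.node (.leaf 675) (.leaf 1508)))) (.node (.node (.node (.node (.leaf 221) (.leaf 2029)) (.leaf 989)) (.node (.node (.leaf 580) (.leaf 3386)) (.leaf 1433))) (.node (.node (.node (.leaf 416) (.leaf 2334)) (.leaf 1226)) (.node (.leaf 752) (.leaf 1626))))))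
def dLive_5 : BT := .node dLive_3 dLive_4
def dLive_6 : BT := .node dLive_2 dLive_5
def dLive : BT := dLive_6
def dPos_0 : BT := .node (.node (.node (.node (.node (.node (.node (.leaf 0) (.leaf 0)) (.node (.leaf 0) (.leaf 0))) (.node (.node (.leaf 0) (.leaf 0)) (.leaf 0))) (.node (.node (.node (.leaf 0) (.leaf 0)) (.node (.leaf 0) (.leaf 0))) (.node (.node (.leaf 0) (.leaf 0)) (.leaf 0)))) (.node (.node (.node (.node (.leaf 0) (.leaf 0)) (.node (.leaf 0) (.leaf 0))) (.node (.node (.leaf 0) (.leaf 0)) (.leaf 0))) (.node (.node (.node (.leaf 0) (.leaf 0)) (.leaf 215)) (.node (.node (.leaf 0) (.leaf 0)) (.leaf 0))))) (.node (.node (.node (.node (.node (.leaf 0) (.leaf 298)) (.node (.leaf 0) (.leaf 0))) (.node (.node (.leaf 92) (.leaf 0)) (.leaf 0))) (.node (.node (.node (.leaf 0) (.leaf 0)) (.leaf 203)) (.node (.node (.leaf 0) (.leaf 0)) (.leaf 0)))) (.node (.node (.node (.node (.leaf 0) (.leaf 0)) (.node (.leaf 0) (.leaf 347))) (.node (.node (.leaf 0) (.leaf 0)) (.leaf 0))) (.node (.node (.node (.leaf 69) (.leaf 0)) (.leaf 229)) (.node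 (.node (.leaf 153) (.leaf 0)) (.leaf 0)))))) (.node (.node (.node (.node (.node (.node (.leaf 0) (.leaf 0)) (.node (.leaf 0) (.leaf 0))) (.node (.node (.leaf 0) (.leaf 0)) (.leaf 248))) (.node (.node (.node (.leaf 0) (.leaf 0)) (.node (.leaf 0) (.leaf 0))) (.node (.node (.leaf 0) (.leaf 0)) (.leaf 0)))) (.node (.node (.node (.node (.leaf 0) (.leaf 0)) (.node (.leaf 0) (.leaf 0))) (.node (.node (.leaf 0) (.leaf 0)) (.leaf 0))) (.node (.node (.node (.leaf 63) (.leaf 0)) (.leaf 225)) (.node (.node (.leaf 0) (.leaf 0)) (.leaf 0))))) (.node (.node (.node (.node (.node (.leaf 0) (.leaf 0)) (.node (.leaf 0) (.leaf 0))) (.node (.node (.leaf 0) (.leaf 0)) (.leaf 0))) (.node (.node (.node (.leaf 0) (.leaf 0)) (.leaf 206)) (.node (.node (.leaf 0) (.leaf 0)) (.leaf 0)))) (.node (.node (.node (.node (.leaf 0) (.leaf 0)) (.node (.leaf 0) (.leaf 0))) (.node (.node (.leaf 0) (.leaf 0)) (.leaf 0))) (.node (.node (.node (.leaf 0) (.leaf 0)) (.leaf 237)) (.node (.node (.leaf 0) (.leaf 0)) (.leaf 0))))))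
def dPos_1 : BT := .node (.node (.node (.node (.node (.node (.node (.leaf 0) (.leaf 0)) (.node (.leaf 0) (.leaf 0))) (.node (.node (.leaf 0) (.leaf 0)) (.leaf 0))) (.node (.node (.node (.leaf 36) (.leaf 0)) (.node (.leaf 0) (.leaf 0))) (.node (.node (.leaf 0) (.leaf 0)) (.leaf 0)))) (.node (.node (.node (.node (.leaf 0) (.leaf 0)) (.node (.leaf 0) (.leaf 0))) (.node (.node (.leaf 106) (.leaf 0)) (.leaf 0))) (.node (.node (.node (.leaf 60) (.leaf 0)) (.leaf 0)) (.node (.node (.leaf 0) (.leaf 0)) (.leaf 0))))) (.node (.node (.node (.node (.node (.leaf 0) (.leaf 0)) (.node (.leaf 0) (.leaf 0))) (.node (.node (.leaf 0) (.leaf 0)) (.leaf 0))) (.node (.node (.node (.leaf 47) (.leaf 0)) (.leaf 0)) (.node (.node (.leaf 0) (.leaf 0)) (.leaf 0)))) (.node (.node (.node (.node (.leaf 0) (.leaf 0)) (.node (.leaf 0) (.leaf 0))) (.node (.node (.leaf 0) (.leaf 0)) (.leaf 0))) (.node (.node (.node (.leaf 0) (.leaf 0)) (.leaf 0)) (.node (.node (.leaf 0) (.leaf 0)) (.leaf 0)))))) (.node (.node (.node (.node (.node (.node (.leaf 0) (.leaf 292)) (.node (.leaf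 0) (.leaf 0))) (.node (.node (.leaf 0) (.leaf 0)) (.leaf 0))) (.node (.node (.node (.leaf 0) (.leaf 0)) (.node (.leaf 200) (.leaf 0))) (.node (.node (.leaf 0) (.leaf 0)) (.leaf 0)))) (.node (.node (.node (.node (.leaf 0) (.leaf 0)) (.node (.leaf 0) (.leaf 0))) (.node (.node (.leaf 0) (.leaf 0)) (.leaf 0))) (.node (.node (.node (.leaf 0) (.leaf 0)) (.leaf 0)) (.node (.node (.leaf 151) (.leaf 0)) (.leaf 0))))) (.node (.node (.node (.node (.node (.leaf 0) (.leaf 0)) (.node (.leaf 0) (.leaf 0))) (.node (.node (.leaf 0) (.leaf 0)) (.leaf 0))) (.node (.node (.node (.leaf 53) (.leaf 0)) (.leaf 0)) (.node (.node (.leaf 0) (.leaf 0)) (.leaf 0)))) (.node (.node (.node (.node (.leaf 0) (.leaf 310)) (.node (.leaf 0) (.leaf 0))) (.node (.node (.leaf 127) (.leaf 0)) (.leaf 0))) (.node (.node (.node (.leaf 0) (.leaf 0)) (.leaf 240)) (.node (.node (.leaf 0) (.leaf 0)) (.leaf 0))))))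
def dPos_2 : BT := .node dPos_0 dPos_1
def dPos_3 : BT := .node (.node (.node (.node (.node (.node (.node (.leaf 0) (.leaf 0)) (.node (.leaf 0) (.leaf 0))) (.node (.node (.leaf 0) (.leaf 0)) (.leaf 0))) (.node (.node (.node (.leaf 0) (.leaf 0)) (.node (.leaf 197) (.leaf 0))) (.node (.node (.leaf 0) (.leaf 0)) (.leaf 0)))) (.node (.node (.node (.node (.leaf 0) (.leaf 0)) (.node (.leaf 0) (.leaf 0))) (.node (.node (.leaf 0) (.leaf 0)) (.leaf 0))) (.node (.node (.node (.leaf 0) (.leaf 0)) (.leaf 0)) (.node (.node (.leaf 0) (.leaf 0)) (.leaf 280))))) (.node (.node (.node (.node (.node (.leaf 0) (.leaf 0)) (.node (.leaf 0) (.leaf 0))) (.node (.node (.leaf 0) (.leaf 0)) (.leaf 0))) (.node (.node (.node (.leaf 0) (.leaf 0)) (.leaf 0)) (.node (.node (.leaf 0) (.leaf 0)) (.leaf 0)))) (.node (.node (.node (.node (.leaf 0) (.leaf 0)) (.node (.leaf 189) (.leaf 0))) (.node (.node (.leaf 0) (.leaf 0)) (.leaf 0))) (.node (.node (.node (.leaf 0) (.leaf 0)) (.leaf 0)) (.node (.node (.leaf 0) (.leaf 0)) (.leaf 0)))))) (.node (.node (.node (.node (.node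 (.node (.leaf 0) (.leaf 0)) (.node (.leaf 0) (.leaf 0))) (.node (.node (.leaf 89) (.leaf 0)) (.leaf 0))) (.node (.node (.node (.leaf 0) (.leaf 0)) (.node (.leaf 0) (.leaf 0))) (.node (.node (.leaf 0) (.leaf 0)) (.leaf 0)))) (.node (.node (.node (.node (.leaf 0) (.leaf 0)) (.node (.leaf 0) (.leaf 0))) (.node (.node (.leaf 0) (.leaf 0)) (.leaf 0))) (.node (.node (.node (.leaf 0) (.leaf 0)) (.leaf 0)) (.node (.node (.leaf 0) (.leaf 0)) (.leaf 0))))) (.node (.node (.node (.node (.node (.leaf 0) (.leaf 0)) (.node (.leaf 0) (.leaf 0))) (.node (.node (.leaf 0) (.leaf 0)) (.leaf 0))) (.node (.node (.node (.leaf 0) (.leaf 0)) (.leaf 0)) (.node (.node (.leaf 0) (.leaf 0)) (.leaf 0)))) (.node (.node (.node (.node (.leaf 0) (.leaf 0)) (.node (.leaf 0) (.leaf 0))) (.node (.node (.leaf 0) (.leaf 0)) (.leaf 0))) (.node (.node (.node (.leaf 0) (.leaf 0)) (.leaf 0)) (.node (.node (.leaf 0) (.leaf 0)) (.leaf 0))))))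
def dPos_4 : BT := .node (.node (.node (.node (.node (.node (.node (.leaf 0) (.leaf 0)) (.node (.leaf 0) (.leaf 0))) (.node (.node (.leaf 0) (.leaf 0)) (.leaf 0))) (.node (.node (.node (.leaf 0) (.leaf 0)) (.node (.leaf 0) (.leaf 0))) (.node (.node (.leaf 0) (.leaf 0)) (.leaf 0)))) (.node (.node (.node (.node (.leaf 0) (.leaf 0)) (.node (.leaf 0) (.leaf 0))) (.node (.node (.leaf 0) (.leaf 0)) (.leaf 261))) (.node (.node (.node (.leaf 61) (.leaf 0)) (.leaf 222)) (.node (.node (.leaf 0) (.leaf 0)) (.leaf 0))))) (.node (.node (.node (.node (.node (.leaf 0) (.leaf 0)) (.node (.leaf 0) (.leaf 0))) (.node (.node (.leaf 0) (.leaf 0)) (.leaf 0))) (.node (.node (.node (.leaf 49) (.leaf 0)) (.leaf 0)) (.node (.node (.leaf 0) (.leaf 0)) (.leaf 0)))) (.node (.node (.node (.node (.leaf 0) (.leaf 0)) (.node (.leaf 0) (.leaf 0))) (.node (.node (.leaf 0) (.leaf 0)) (.leaf 0))) (.node (.node (.node (.leaf 0) (.leaf 0)) (.leaf 0)) (.node (.node (.leaf 0) (.leaf 0)) (.leaf 0)))))) (.node (.node (.node (.node (.node (.node (.leaf 9) (.leaf 0)) (.node (.leaf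 0) (.leaf 0))) (.node (.node (.leaf 0) (.leaf 0)) (.leaf 0))) (.node (.node (.node (.leaf 0) (.leaf 0)) (.node (.leaf 0) (.leaf 349))) (.node (.node (.leaf 0) (.leaf 0)) (.leaf 0)))) (.node (.node (.node (.node (.leaf 0) (.leaf 305)) (.node (.leaf 0) (.leaf 0))) (.node (.node (.leaf 116) (.leaf 0)) (.leaf 0))) (.node (.node (.node (.leaf 0) (.leaf 0)) (.leaf 0)) (.node (.node (.leaf 0) (.leaf 0)) (.leaf 0))))) (.node (.node (.node (.node (.node (.leaf 0) (.leaf 0)) (.node (.leaf 0) (.leaf 0))) (.node (.node (.leaf 0) (.leaf 0)) (.leaf 0))) (.node (.node (.node (.leaf 0) (.leaf 0)) (.leaf 0)) (.node (.node (.leaf 0) (.leaf 0)) (.leaf 0)))) (.node (.node (.node (.node (.leaf 0) (.leaf 0)) (.node (.leaf 0) (.leaf 0))) (.node (.node (.leaf 0) (.leaf 0)) (.leaf 0))) (.node (.node (.node (.leaf 0) (.leaf 0)) (.leaf 0)) (.node (.node (.leaf 0) (.leaf 0)) (.leaf 0))))))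
def dPos_5 : BT := .node dPos_3 dPos_4
def dPos_6 : BT := .node dPos_2 dPos_5
def dPos_7 : BT := .node (.node (.node (.node (.node (.node (.node (.leaf 0) (.leaf 0)) (.node (.leaf 0) (.leaf 0))) (.node (.node (.leaf 80) (.leaf 0)) (.leaf 242))) (.node (.node (.node (.leaf 0) (.leaf 0)) (.node (.leaf 0) (.leaf 0))) (.node (.node (.leaf 130) (.leaf 0)) (.leaf 0)))) (.node (.node (.node (.node (.leaf 0) (.leaf 0)) (.node (.leaf 0) (.leaf 0))) (.node (.node (.leaf 0) (.leaf 0)) (.leaf 0))) (.node (.node (.node (.leaf 57) (.leaf 0)) (.leaf 216)) (.node (.node (.leaf 0) (.leaf 0)) (.leaf 0))))) (.node (.node (.node (.node (.node (.leaf 11) (.leaf 0)) (.node (.leaf 0) (.leaf 0))) (.node (.node (.leaf 95) (.leaf 0)) (.leaf 0))) (.node (.node (.node (.leaf 44) (.leaf 0)) (.leaf 0)) (.node (.node (.leaf 0) (.leaf 0)) (.leaf 0)))) (.node (.node (.node (.node (.leaf 0) (.leaf 0)) (.node (.leaf 0) (.leaf 0))) (.node (.node (.leaf 0) (.leaf 0)) (.leaf 0))) (.node (.node (.node (.leaf 0) (.leaf 0)) (.leaf 0)) (.node (.node (.leaf 0) (.leaf 0)) (.leaf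 0)))))) (.node (.node (.node (.node (.node (.node (.leaf 0) (.leaf 0)) (.node (.leaf 0) (.leaf 0))) (.node (.node (.leaf 0) (.leaf 0)) (.leaf 0))) (.node (.node (.node (.leaf 0) (.leaf 0)) (.node (.leaf 0) (.leaf 0))) (.node (.node (.leaf 0) (.leaf 0)) (.leaf 0)))) (.node (.node (.node (.node (.leaf 0) (.leaf 0)) (.node (.leaf 0) (.leaf 0))) (.node (.node (.leaf 112) (.leaf 0)) (.leaf 0))) (.node (.node (.node (.leaf 67) (.leaf 0)) (.leaf 0)) (.node (.node (.leaf 0) (.leaf 0)) (.leaf 0))))) (.node (.node (.node (.node (.node (.leaf 20) (.leaf 0)) (.node (.leaf 167) (.leaf 0))) (.node (.node (.leaf 0) (.leaf 0)) (.leaf 0))) (.node (.node (.node (.leaf 0) (.leaf 0)) (.leaf 209)) (.node (.node (.leaf 0) (.leaf 0)) (.leaf 0)))) (.node (.node (.node (.node (.leaf 0) (.leaf 0)) (.node (.leaf 0) (.leaf 0))) (.node (.node (.leaf 0) (.leaf 0)) (.leaf 0))) (.node (.node (.node (.leaf 0) (.leaf 0)) (.leaf 239)) (.node (.node (.leaf 0) (.leaf 0)) (.leaf 0))))))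
def dPos_8 : BT := .node (.node (.node (.node (.node (.node (.node (.leaf 0) (.leaf 0)) (.node (.leaf 0) (.leaf 0))) (.node (.node (.leaf 86) (.leaf 0)) (.leaf 0))) (.node (.node (.node (.leaf 0) (.leaf 0)) (.node (.leaf 0) (.leaf 0))) (.node (.node (.leaf 132) (.leaf 0)) (.leaf 271)))) (.node (.node (.node (.node (.leaf 0) (.leaf 0)) (.node (.leaf 178) (.leaf 0))) (.node (.node (.leaf 0) (.leaf 0)) (.leaf 0))) (.node (.node (.node (.leaf 0) (.leaf 0)) (.leaf 0)) (.node (.node (.leaf 0) (.leaf 0)) (.leaf 282))))) (.node (.node (.node (.node (.node (.leaf 0) (.leaf 0)) (.node (.leaf 0) (.leaf 0))) (.node (.node (.leaf 0) (.leaf 0)) (.leaf 0))) (.node (.node (.node (.leaf 0) (.leaf 323)) (.leaf 0)) (.node (.node (.leaf 0) (.leaf 0)) (.leaf 0)))) (.node (.node (.node (.node (.leaf 0) (.leaf 0)) (.node (.leaf 0) (.leaf 0))) (.node (.node (.leaf 0) (.leaf 0)) (.leaf 0))) (.node (.node (.node (.leaf 0) (.leaf 0)) (.leaf 0)) (.node (.node (.leaf 157) (.leaf 0)) (.leaf 0)))))) (.node (.node (.node (.node (.node (.node (.leaf 0) (.leaf 294))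 (.node (.leaf 0) (.leaf 0))) (.node (.node (.leaf 0) (.leaf 0)) (.leaf 0))) (.node (.node (.node (.leaf 0) (.leaf 0)) (.node (.leaf 0) (.leaf 0))) (.node (.node (.leaf 0) (.leaf 0)) (.leaf 0)))) (.node (.node (.node (.node (.leaf 0) (.leaf 0)) (.node (.leaf 0) (.leaf 0))) (.node (.node (.leaf 0) (.leaf 0)) (.leaf 0))) (.node (.node (.node (.leaf 0) (.leaf 0)) (.leaf 0)) (.node (.node (.leaf 0) (.leaf 0)) (.leaf 0))))) (.node (.node (.node (.node (.node (.leaf 0) (.leaf 0)) (.node (.leaf 0) (.leaf 0))) (.node (.node (.leaf 0) (.leaf 0)) (.leaf 0))) (.node (.node (.node (.leaf 0) (.leaf 0)) (.leaf 211)) (.node (.node (.leaf 0) (.leaf 0)) (.leaf 0)))) (.node (.node (.node (.node (.leaf 0) (.leaf 312)) (.node (.leaf 0) (.leaf 0))) (.node (.node (.leaf 0) (.leaf 0)) (.leaf 0))) (.node (.node (.node (.leaf 0) (.leaf 0)) (.leaf 0)) (.node (.node (.leaf 0) (.leaf 0)) (.leaf 0))))))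
def dPos_9 : BT := .node dPos_7 dPos_8
def dPos_10 : BT := .node (.node (.node (.node (.node (.node (.node (.leaf 2) (.leaf 0)) (.node (.leaf 0) (.leaf 0))) (.node (.node (.leaf 0) (.leaf 0)) (.leaf 0))) (.node (.node (.node (.leaf 0) (.leaf 316)) (.node (.leaf 0) (.leaf 0))) (.node (.node (.leaf 0) (.leaf 0)) (.leaf 0)))) (.node (.node (.node (.node (.leaf 0) (.leaf 0)) (.node (.leaf 175) (.leaf 0))) (.node (.node (.leaf 0) (.leaf 0)) (.leaf 0))) (.node (.node (.node (.leaf 0) (.leaf 0)) (.leaf 221)) (.node (.node (.leaf 145) (.leaf 0)) (.leaf 0))))) (.node (.node (.node (.node (.node (.leaf 0) (.leaf 0)) (.node (.leaf 0) (.leaf 0))) (.node (.node (.leaf 0) (.leaf 0)) (.leaf 0))) (.node (.node (.node (.leaf 0) (.leaf 0)) (.leaf 0)) (.node (.node (.leaf 0) (.leaf 0)) (.leaf 0)))) (.node (.node (.node (.node (.leaf 0) (.leaf 0)) (.node (.leaf 193) (.leaf 0))) (.node (.node (.leaf 0) (.leaf 0)) (.leaf 0))) (.node (.node (.node (.leaf 0) (.leaf 0)) (.leaf 0)) (.node (.node (.leaf 0) (.leaf 0)) (.leaf 0)))))) (.node (.node (.node (.node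 (.node (.node (.leaf 0) (.leaf 0)) (.node (.leaf 0) (.leaf 0))) (.node (.node (.leaf 91) (.leaf 0)) (.leaf 0))) (.node (.node (.node (.leaf 0) (.leaf 0)) (.node (.leaf 199) (.leaf 0))) (.node (.node (.leaf 0) (.leaf 0)) (.leaf 0)))) (.node (.node (.node (.node (.leaf 0) (.leaf 0)) (.node (.leaf 0) (.leaf 0))) (.node (.node (.leaf 0) (.leaf 0)) (.leaf 0))) (.node (.node (.node (.leaf 0) (.leaf 0)) (.leaf 0)) (.node (.node (.leaf 0) (.leaf 0)) (.leaf 0))))) (.node (.node (.node (.node (.node (.leaf 0) (.leaf 0)) (.node (.leaf 0) (.leaf 0))) (.node (.node (.leaf 0) (.leaf 0)) (.leaf 0))) (.node (.node (.node (.leaf 0) (.leaf 0)) (.leaf 0)) (.node (.node (.leaf 0) (.leaf 0)) (.leaf 0)))) (.node (.node (.node (.node (.leaf 0) (.leaf 0)) (.node (.leaf 0) (.leaf 0))) (.node (.node (.leaf 0) (.leaf 0)) (.leaf 0))) (.node (.node (.node (.leaf 73) (.leaf 0)) (.leaf 0)) (.node (.node (.leaf 0) (.leaf 0)) (.leaf 0))))))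
def dPos_11 : BT := .node (.node (.node (.node (.node (.node (.node (.leaf 0) (.leaf 0)) (.node (.leaf 0) (.leaf 0))) (.node (.node (.leaf 0) (.leaf 0)) (.leaf 245))) (.node (.node (.node (.leaf 40) (.leaf 317)) (.node (.leaf 0) (.leaf 0))) (.node (.node (.leaf 0) (.leaf 0)) (.leaf 0)))) (.node (.node (.node (.node (.leaf 0) (.leaf 0)) (.node (.leaf 0) (.leaf 0))) (.node (.node (.leaf 109) (.leaf 0)) (.leaf 0))) (.node (.node (.node (.leaf 0) (.leaf 0)) (.leaf 0)) (.node (.node (.leaf 0) (.leaf 0)) (.leaf 0))))) (.node (.node (.node (.node (.node (.leaf 0) (.leaf 0)) (.node (.leaf 0) (.leaf 0))) (.node (.node (.leaf 0) (.leaf 0)) (.leaf 0))) (.node (.node (.node (.leaf 0) (.leaf 0)) (.leaf 0)) (.node (.node (.leaf 0) (.leaf 0)) (.leaf 0)))) (.node (.node (.node (.node (.leaf 30) (.leaf 0)) (.node (.leaf 0) (.leaf 0))) (.node (.node (.leaf 0) (.leaf 0)) (.leaf 0))) (.node (.node (.node (.leaf 0) (.leaf 0)) (.leaf 235)) (.node (.node (.leaf 158) (.leaf 0)) (.leaf 0)))))) (.node (.node (.node (.node (.node (.node (.leaf 0) (.leaf 0)) (.node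 (.leaf 0) (.leaf 0))) (.node (.node (.leaf 0) (.leaf 0)) (.leaf 0))) (.node (.node (.node (.leaf 0) (.leaf 0)) (.leaf 0)) (.node (.node (.leaf 0) (.leaf 0)) (.leaf 0)))) (.node (.node (.node (.node (.leaf 0) (.leaf 0)) (.node (.leaf 0) (.leaf 0))) (.node (.node (.leaf 120) (.leaf 0)) (.leaf 0))) (.node (.node (.node (.leaf 0) (.leaf 325)) (.leaf 0)) (.node (.node (.leaf 0) (.leaf 343)) (.leaf 0))))) (.node (.node (.node (.node (.node (.leaf 0) (.leaf 0)) (.node (.leaf 0) (.leaf 0))) (.node (.node (.leaf 102) (.leaf 0)) (.leaf 0))) (.node (.node (.node (.leaf 0) (.leaf 0)) (.leaf 214)) (.node (.node (.leaf 0) (.leaf 0)) (.leaf 0)))) (.node (.node (.node (.node (.leaf 0) (.leaf 313)) (.node (.leaf 0) (.leaf 0))) (.node (.node (.leaf 0) (.leaf 0)) (.leaf 0))) (.node (.node (.node (.leaf 77) (.leaf 0)) (.leaf 0)) (.node (.node (.leaf 0) (.leaf 0)) (.leaf 0))))))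
def dPos_12 : BT := .node dPos_10 dPos_11
def dPos_13 : BT := .node dPos_9 dPos_12
def dPos_14 : BT := .node dPos_6 dPos_13
def dPos_15 : BT := .node (.node (.node (.node (.node (.node (.node (.leaf 0) (.leaf 0)) (.node (.leaf 0) (.leaf 0))) (.node (.node (.leaf 78) (.leaf 0)) (.leaf 0))) (.node (.node (.node (.leaf 0) (.leaf 0)) (.node (.leaf 0) (.leaf 0))) (.node (.node (.leaf 0) (.leaf 0)) (.leaf 0)))) (.node (.node (.node (.node (.leaf 0) (.leaf 0)) (.node (.leaf 0) (.leaf 0))) (.node (.node (.leaf 103) (.leaf 0)) (.leaf 0))) (.node (.node (.node (.leaf 0) (.leaf 0)) (.leaf 0)) (.node (.node (.leaf 0) (.leaf 0)) (.leaf 0))))) (.node (.node (.node (.node (.node (.leaf 0) (.leaf 299)) (.node (.leaf 0) (.leaf 0))) (.node (.node (.leaf 94) (.leaf 0)) (.leaf 254))) (.node (.node (.node (.leaf 0) (.leaf 0)) (.leaf 0)) (.node (.node (.leaf 0) (.leaf 0)) (.leaf 276)))) (.node (.node (.node (.node (.leaf 0) (.leaf 0)) (.node (.leaf 187) (.leaf 0))) (.node (.node (.leaf 0) (.leaf 0)) (.leaf 0))) (.node (.node (.node (.leaf 0) (.leaf 0)) (.leaf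 0)) (.node (.node (.leaf 0) (.leaf 0)) (.leaf 0)))))) (.node (.node (.node (.node (.node (.node (.leaf 0) (.leaf 0)) (.node (.leaf 0) (.leaf 0))) (.node (.node (.leaf 88) (.leaf 0)) (.leaf 0))) (.node (.node (.node (.leaf 0) (.leaf 0)) (.node (.leaf 0) (.leaf 0))) (.node (.node (.leaf 0) (.leaf 0)) (.leaf 0)))) (.node (.node (.node (.node (.leaf 0) (.leaf 0)) (.node (.leaf 0) (.leaf 0))) (.node (.node (.leaf 0) (.leaf 0)) (.leaf 0))) (.node (.node (.node (.leaf 65) (.leaf 0)) (.leaf 0)) (.node (.node (.leaf 0) (.leaf 0)) (.leaf 0))))) (.node (.node (.node (.node (.node (.leaf 18) (.leaf 0)) (.node (.leaf 166) (.leaf 0))) (.node (.node (.leaf 0) (.leaf 0)) (.leaf 0))) (.node (.node (.node (.leaf 0) (.leaf 0)) (.leaf 0)) (.node (.node (.leaf 0) (.leaf 0)) (.leaf 0)))) (.node (.node (.node (.node (.leaf 0) (.leaf 0)) (.node (.leaf 0) (.leaf 0))) (.node (.node (.leaf 0) (.leaf 0)) (.leaf 0))) (.node (.node (.node (.leaf 0) (.leaf 0)) (.leaf 0)) (.node (.node (.leaf 0) (.leaf 0)) (.leaf 0))))))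
def dPos_16 : BT := .node (.node (.node (.node (.node (.node (.node (.leaf 0) (.leaf 0)) (.node (.leaf 0) (.leaf 0))) (.node (.node (.leaf 84) (.leaf 0)) (.leaf 0))) (.node (.node (.node (.leaf 0) (.leaf 0)) (.node (.leaf 0) (.leaf 0))) (.node (.node (.leaf 0) (.leaf 0)) (.leaf 0)))) (.node (.node (.node (.node (.leaf 0) (.leaf 0)) (.node (.leaf 0) (.leaf 0))) (.node (.node (.leaf 0) (.leaf 0)) (.leaf 0))) (.node (.node (.node (.leaf 0) (.leaf 0)) (.leaf 0)) (.node (.node (.leaf 0) (.leaf 0)) (.leaf 281))))) (.node (.node (.node (.node (.node (.leaf 14) (.leaf 0)) (.node (.leaf 0) (.leaf 0))) (.node (.node (.leaf 0) (.leaf 0)) (.leaf 0))) (.node (.node (.node (.leaf 0) (.leaf 0)) (.leaf 205)) (.node (.node (.leaf 0) (.leaf 0)) (.leaf 0)))) (.node (.node (.node (.node (.leaf 27) (.leaf 0)) (.node (.leaf 0) (.leaf 0))) (.node (.node (.leaf 0) (.leaf 0)) (.leaf 0))) (.node (.node (.node (.leaf 0) (.leaf 0)) (.leaf 0)) (.node (.node (.leaf 0) (.leaf 0)) (.leaf 0)))))) (.node (.node (.node (.node (.node (.node (.leaf 0) (.leaf 0)) (.node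 (.leaf 0) (.leaf 0))) (.node (.node (.leaf 0) (.leaf 333)) (.leaf 0))) (.node (.node (.node (.leaf 0) (.leaf 0)) (.node (.leaf 0) (.leaf 0))) (.node (.node (.leaf 0) (.leaf 0)) (.leaf 0)))) (.node (.node (.node (.node (.leaf 0) (.leaf 0)) (.node (.leaf 0) (.leaf 346))) (.node (.node (.leaf 0) (.leaf 0)) (.leaf 0))) (.node (.node (.node (.leaf 0) (.leaf 0)) (.leaf 0)) (.node (.node (.leaf 0) (.leaf 0)) (.leaf 0))))) (.node (.node (.node (.node (.node (.leaf 0) (.leaf 0)) (.node (.leaf 0) (.leaf 0))) (.node (.node (.leaf 98) (.leaf 0)) (.leaf 0))) (.node (.node (.node (.leaf 55) (.leaf 0)) (.leaf 0)) (.node (.node (.leaf 0) (.leaf 0)) (.leaf 0)))) (.node (.node (.node (.node (.leaf 0) (.leaf 0)) (.node (.leaf 0) (.leaf 0))) (.node (.node (.leaf 0) (.leaf 0)) (.leaf 0))) (.node (.node (.node (.leaf 0) (.leaf 0)) (.leaf 241)) (.node (.node (.leaf 0) (.leaf 0)) (.leaf 0))))))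
def dPos_17 : BT := .node dPos_15 dPos_16
def dPos_18 : BT := .node (.node (.node (.node (.node (.node (.node (.leaf 0) (.leaf 0)) (.node (.leaf 0) (.leaf 0))) (.node (.node (.leaf 0) (.leaf 0)) (.leaf 0))) (.node (.node (.node (.leaf 0) (.leaf 0)) (.node (.leaf 0) (.leaf 0))) (.node (.node (.leaf 0) (.leaf 0)) (.leaf 0)))) (.node (.node (.node (.node (.leaf 0) (.leaf 0)) (.node (.leaf 0) (.leaf 0))) (.node (.node (.leaf 0) (.leaf 0)) (.leaf 258))) (.node (.node (.node (.leaf 0) (.leaf 0)) (.leaf 219)) (.node (.node (.leaf 0) (.leaf 0)) (.leaf 0))))) (.node (.node (.node (.node (.node (.leaf 0) (.leaf 303)) (.node (.leaf 0) (.leaf 0))) (.node (.node (.leaf 0) (.leaf 0)) (.leaf 0))) (.node (.node (.node (.leaf 0) (.leaf 0)) (.leaf 0)) (.node (.node (.leaf 0) (.leaf 0)) (.leaf 0)))) (.node (.node (.node (.node (.leaf 0) (.leaf 0)) (.node (.leaf 191) (.leaf 0))) (.node (.node (.leaf 0) (.leaf 0)) (.leaf 0))) (.node (.node (.node (.leaf 0) (.leaf 0)) (.leaf 232)) (.node (.node (.leaf 0) (.leaf 0)) (.leaf 0)))))) (.node (.node (.node (.node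 (.node (.node (.leaf 0) (.leaf 0)) (.node (.leaf 0) (.leaf 0))) (.node (.node (.leaf 0) (.leaf 0)) (.leaf 250))) (.node (.node (.node (.leaf 0) (.leaf 0)) (.node (.leaf 0) (.leaf 0))) (.node (.node (.leaf 0) (.leaf 0)) (.leaf 0)))) (.node (.node (.node (.node (.leaf 0) (.leaf 0)) (.node (.leaf 0) (.leaf 0))) (.node (.node (.leaf 0) (.leaf 0)) (.leaf 0))) (.node (.node (.node (.leaf 0) (.leaf 324)) (.leaf 0)) (.node (.node (.leaf 0) (.leaf 0)) (.leaf 0))))) (.node (.node (.node (.node (.node (.leaf 0) (.leaf 0)) (.node (.leaf 170) (.leaf 0))) (.node (.node (.leaf 97) (.leaf 0)) (.leaf 0))) (.node (.node (.node (.leaf 0) (.leaf 0)) (.leaf 0)) (.node (.node (.leaf 0) (.leaf 0)) (.leaf 0)))) (.node (.node (.node (.node (.leaf 0) (.leaf 0)) (.node (.leaf 194) (.leaf 0))) (.node (.node (.leaf 0) (.leaf 0)) (.leaf 0))) (.node (.node (.node (.leaf 0) (.leaf 0)) (.leaf 0)) (.node (.node (.leaf 0) (.leaf 0)) (.leaf 0))))))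
def dPos_19 : BT := .node (.node (.node (.node (.node (.node (.node (.leaf 0) (.leaf 0)) (.node (.leaf 0) (.leaf 0))) (.node (.node (.leaf 0) (.leaf 0)) (.leaf 0))) (.node (.node (.node (.leaf 38) (.leaf 0)) (.node (.leaf 0) (.leaf 0))) (.node (.node (.leaf 133) (.leaf 0)) (.leaf 0)))) (.node (.node (.node (.node (.leaf 0) (.leaf 0)) (.node (.leaf 0) (.leaf 0))) (.node (.node (.leaf 0) (.leaf 0)) (.leaf 263))) (.node (.node (.node (.leaf 0) (.leaf 0)) (.leaf 0)) (.node (.node (.leaf 0) (.leaf 0)) (.leaf 0))))) (.node (.node (.node (.node (.node (.leaf 0) (.leaf 0)) (.node (.leaf 0) (.leaf 0))) (.node (.node (.leaf 0) (.leaf 0)) (.leaf 255))) (.node (.node (.node (.leaf 51) (.leaf 0)) (.leaf 0)) (.node (.node (.leaf 0) (.leaf 0)) (.leaf 277)))) (.node (.node (.node (.node (.leaf 28) (.leaf 0)) (.node (.leaf 0) (.leaf 0))) (.node (.node (.leaf 0) (.leaf 0)) (.leaf 267))) (.node (.node (.node (.leaf 0) (.leaf 0)) (.leaf 0)) (.node (.node (.leaf 0) (.leaf 0)) (.leaf 0)))))) (.node (.node (.node (.node (.node (.node (.leaf 0) (.leaf 297))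 (.node (.leaf 0) (.leaf 0))) (.node (.node (.leaf 0) (.leaf 0)) (.leaf 251))) (.node (.node (.node (.leaf 0) (.leaf 0)) (.node (.leaf 0) (.leaf 351))) (.node (.node (.leaf 0) (.leaf 0)) (.leaf 0)))) (.node (.node (.node (.node (.leaf 0) (.leaf 0)) (.node (.leaf 186) (.leaf 0))) (.node (.node (.leaf 118) (.leaf 0)) (.leaf 0))) (.node (.node (.node (.leaf 0) (.leaf 0)) (.leaf 0)) (.node (.node (.leaf 0) (.leaf 0)) (.leaf 0))))) (.node (.node (.node (.node (.node (.leaf 23) (.leaf 304)) (.node (.leaf 0) (.leaf 0))) (.node (.node (.leaf 100) (.leaf 0)) (.leaf 0))) (.node (.node (.node (.leaf 0) (.leaf 0)) (.leaf 0)) (.node (.node (.leaf 0) (.leaf 0)) (.leaf 0)))) (.node (.node (.node (.node (.leaf 0) (.leaf 0)) (.node (.leaf 0) (.leaf 0))) (.node (.node (.leaf 0) (.leaf 338)) (.leaf 0))) (.node (.node (.node (.leaf 0) (.leaf 0)) (.leaf 0)) (.node (.node (.leaf 0) (.leaf 0)) (.leaf 0))))))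
def dPos_20 : BT := .node dPos_18 dPos_19
def dPos_21 : BT := .node dPos_17 dPos_20
def dPos_22 : BT := .node (.node (.node (.node (.node (.node (.node (.leaf 0) (.leaf 288)) (.node (.leaf 0) (.leaf 0))) (.node (.node (.leaf 82) (.leaf 0)) (.leaf 0))) (.node (.node (.node (.leaf 0) (.leaf 0)) (.node (.leaf 0) (.leaf 0))) (.node (.node (.leaf 0) (.leaf 0)) (.leaf 0)))) (.node (.node (.node (.node (.leaf 0) (.leaf 0)) (.node (.leaf 174) (.leaf 0))) (.node (.node (.leaf 0) (.leaf 0)) (.leaf 0))) (.node (.node (.node (.leaf 58) (.leaf 0)) (.leaf 218)) (.node (.node (.leaf 0) (.leaf 0)) (.leaf 0))))) (.node (.node (.node (.node (.node (.leaf 0) (.leaf 301)) (.node (.leaf 0) (.leaf 0))) (.node (.node (.leaf 0) (.leaf 0)) (.leaf 0))) (.node (.node (.node (.leaf 45) (.leaf 0)) (.leaf 0)) (.node (.node (.leaf 140) (.leaf 0)) (.leaf 0)))) (.node (.node (.node (.node (.leaf 0) (.leaf 0)) (.node (.leaf 0) (.leaf 0))) (.node (.node (.leaf 0) (.leaf 0)) (.leaf 0))) (.node (.node (.node (.leaf 0) (.leaf 0)) (.leaf 231)) (.node (.node (.leaf 0) (.leaf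 0)) (.leaf 0)))))) (.node (.node (.node (.node (.node (.node (.leaf 0) (.leaf 0)) (.node (.leaf 0) (.leaf 0))) (.node (.node (.leaf 0) (.leaf 0)) (.leaf 0))) (.node (.node (.node (.leaf 42) (.leaf 0)) (.node (.leaf 0) (.leaf 0))) (.node (.node (.leaf 0) (.leaf 0)) (.leaf 0)))) (.node (.node (.node (.node (.leaf 0) (.leaf 0)) (.node (.leaf 0) (.leaf 0))) (.node (.node (.leaf 114) (.leaf 0)) (.leaf 0))) (.node (.node (.node (.leaf 0) (.leaf 0)) (.leaf 0)) (.node (.node (.leaf 0) (.leaf 0)) (.leaf 0))))) (.node (.node (.node (.node (.node (.leaf 0) (.leaf 0)) (.node (.leaf 0) (.leaf 0))) (.node (.node (.leaf 0) (.leaf 0)) (.leaf 0))) (.node (.node (.node (.leaf 0) (.leaf 0)) (.leaf 0)) (.node (.node (.leaf 0) (.leaf 0)) (.leaf 0)))) (.node (.node (.node (.node (.leaf 0) (.leaf 0)) (.node (.leaf 0) (.leaf 0))) (.node (.node (.leaf 0) (.leaf 0)) (.leaf 0))) (.node (.node (.node (.leaf 0) (.leaf 0)) (.leaf 0)) (.node (.node (.leaf 0) (.leaf 0)) (.leaf 0))))))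
def dPos_23 : BT := .node (.node (.node (.node (.node (.node (.node (.leaf 0) (.leaf 0)) (.node (.leaf 162) (.leaf 0))) (.node (.node (.leaf 0) (.leaf 0)) (.leaf 0))) (.node (.node (.node (.leaf 0) (.leaf 0)) (.node (.leaf 0) (.leaf 0))) (.node (.node (.leaf 0) (.leaf 0)) (.leaf 0)))) (.node (.node (.node (.node (.leaf 0) (.leaf 0)) (.node (.leaf 179) (.leaf 0))) (.node (.node (.leaf 0) (.leaf 0)) (.leaf 259))) (.node (.node (.node (.leaf 0) (.leaf 0)) (.leaf 0)) (.node (.node (.leaf 0) (.leaf 0)) (.leaf 0))))) (.node (.node (.node (.node (.node (.leaf 17) (.leaf 0)) (.node (.leaf 0) (.leaf 0))) (.node (.node (.leaf 0) (.leaf 0)) (.leaf 0))) (.node (.node (.node (.leaf 0) (.leaf 0)) (.leaf 0)) (.node (.node (.leaf 0) (.leaf 0)) (.leaf 0)))) (.node (.node (.node (.node (.leaf 0) (.leaf 0)) (.node (.leaf 0) (.leaf 0))) (.node (.node (.leaf 123) (.leaf 0)) (.leaf 0))) (.node (.node (.node (.leaf 0) (.leaf 0)) (.leaf 0)) (.node (.node (.leaf 0) (.leaf 0)) (.leaf 0)))))) (.node (.node (.node (.node (.node (.node (.leaf 8) (.leaf 296)) (.node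 (.leaf 0) (.leaf 0))) (.node (.node (.leaf 0) (.leaf 334)) (.leaf 0))) (.node (.node (.node (.leaf 0) (.leaf 0)) (.node (.leaf 0) (.leaf 0))) (.node (.node (.leaf 138) (.leaf 0)) (.leaf 0)))) (.node (.node (.node (.node (.leaf 0) (.leaf 0)) (.node (.leaf 184) (.leaf 0))) (.node (.node (.leaf 0) (.leaf 0)) (.leaf 0))) (.node (.node (.node (.leaf 0) (.leaf 0)) (.leaf 0)) (.node (.node (.leaf 0) (.leaf 0)) (.leaf 0))))) (.node (.node (.node (.node (.node (.leaf 0) (.leaf 0)) (.node (.leaf 171) (.leaf 0))) (.node (.node (.leaf 0) (.leaf 0)) (.leaf 0))) (.node (.node (.node (.leaf 0) (.leaf 0)) (.leaf 0)) (.node (.node (.leaf 0) (.leaf 0)) (.leaf 0)))) (.node (.node (.node (.node (.leaf 0) (.leaf 0)) (.node (.leaf 0) (.leaf 0))) (.node (.node (.leaf 128) (.leaf 0)) (.leaf 0))) (.node (.node (.node (.leaf 0) (.leaf 329)) (.leaf 0)) (.node (.node (.leaf 0) (.leaf 0)) (.leaf 0))))))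
def dPos_24 : BT := .node dPos_22 dPos_23
def dPos_25 : BT := .node (.node (.node (.node (.node (.node (.node (.leaf 4) (.leaf 0)) (.node (.leaf 0) (.leaf 0))) (.node (.node (.leaf 0) (.leaf 0)) (.leaf 0))) (.node (.node (.node (.leaf 34) (.leaf 0)) (.node (.leaf 0) (.leaf 0))) (.node (.node (.leaf 0) (.leaf 0)) (.leaf 0)))) (.node (.node (.node (.node (.leaf 0) (.leaf 0)) (.node (.leaf 177) (.leaf 0))) (.node (.node (.leaf 0) (.leaf 0)) (.leaf 0))) (.node (.node (.node (.leaf 0) (.leaf 0)) (.leaf 0)) (.node (.node (.leaf 146) (.leaf 0)) (.leaf 0))))) (.node (.node (.node (.node (.node (.leaf 0) (.leaf 0)) (.node (.leaf 0) (.leaf 0))) (.node (.node (.leaf 0) (.leaf 0)) (.leaf 0))) (.node (.node (.node (.leaf 0) (.leaf 0)) (.leaf 0)) (.node (.node (.leaf 0) (.leaf 0)) (.leaf 0)))) (.node (.node (.node (.node (.leaf 25) (.leaf 0)) (.node (.leaf 0) (.leaf 0))) (.node (.node (.leaf 0) (.leaf 0)) (.leaf 0))) (.node (.node (.node (.leaf 0) (.leaf 0)) (.leaf 0)) (.node (.node (.leaf 0) (.leaf 0)) (.leaf 0)))))) (.node (.node (.node (.node (.node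 (.node (.leaf 0) (.leaf 0)) (.node (.leaf 0) (.leaf 344))) (.node (.node (.leaf 0) (.leaf 0)) (.leaf 0))) (.node (.node (.node (.leaf 0) (.leaf 0)) (.node (.leaf 0) (.leaf 0))) (.node (.node (.leaf 0) (.leaf 0)) (.leaf 0)))) (.node (.node (.node (.node (.leaf 0) (.leaf 0)) (.node (.leaf 0) (.leaf 0))) (.node (.node (.leaf 0) (.leaf 0)) (.leaf 0))) (.node (.node (.node (.leaf 0) (.leaf 0)) (.leaf 0)) (.node (.node (.leaf 149) (.leaf 342)) (.leaf 0))))) (.node (.node (.node (.node (.node (.leaf 0) (.leaf 0)) (.node (.leaf 0) (.leaf 0))) (.node (.node (.leaf 0) (.leaf 0)) (.leaf 0))) (.node (.node (.node (.leaf 0) (.leaf 0)) (.leaf 0)) (.node (.node (.leaf 0) (.leaf 0)) (.leaf 0)))) (.node (.node (.node (.node (.leaf 33) (.leaf 0)) (.node (.leaf 0) (.leaf 0))) (.node (.node (.leaf 0) (.leaf 0)) (.leaf 0))) (.node (.node (.node (.leaf 0) (.leaf 0)) (.leaf 0)) (.node (.node (.leaf 0) (.leaf 0)) (.leaf 0))))))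
def dPos_26 : BT := .node (.node (.node (.node (.node (.node (.node (.leaf 0) (.leaf 0)) (.node (.leaf 0) (.leaf 0))) (.node (.node (.leaf 0) (.leaf 331)) (.leaf 246))) (.node (.node (.node (.leaf 0) (.leaf 319)) (.node (.leaf 0) (.leaf 0))) (.node (.node (.leaf 135) (.leaf 0)) (.leaf 0)))) (.node (.node (.node (.node (.leaf 0) (.leaf 0)) (.node (.leaf 0) (.leaf 0))) (.node (.node (.leaf 0) (.leaf 0)) (.leaf 0))) (.node (.node (.node (.leaf 0) (.leaf 0)) (.leaf 0)) (.node (.node (.leaf 0) (.leaf 0)) (.leaf 0))))) (.node (.node (.node (.node (.node (.leaf 0) (.leaf 0)) (.node (.leaf 0) (.leaf 0))) (.node (.node (.leaf 0) (.leaf 0)) (.leaf 0))) (.node (.node (.node (.leaf 0) (.leaf 0)) (.leaf 0)) (.node (.node (.leaf 142) (.leaf 0)) (.leaf 0)))) (.node (.node (.node (.node (.leaf 0) (.leaf 0)) (.node (.leaf 0) (.leaf 0))) (.node (.node (.leaf 0) (.leaf 0)) (.leaf 0))) (.node (.node (.node (.leaf 0) (.leaf 0)) (.leaf 0)) (.node (.node (.leaf 0) (.leaf 0)) (.leaf 0)))))) (.node (.node (.node (.node (.node (.node (.leaf 0) (.leaf 0)) (.node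 (.leaf 0) (.leaf 0))) (.node (.node (.leaf 0) (.leaf 0)) (.leaf 0))) (.node (.node (.node (.leaf 0) (.leaf 0)) (.leaf 0)) (.node (.node (.leaf 0) (.leaf 0)) (.leaf 0)))) (.node (.node (.node (.node (.leaf 0) (.leaf 0)) (.node (.leaf 0) (.leaf 0))) (.node (.node (.leaf 0) (.leaf 0)) (.leaf 0))) (.node (.node (.node (.leaf 0) (.leaf 326)) (.leaf 0)) (.node (.node (.leaf 0) (.leaf 0)) (.leaf 0))))) (.node (.node (.node (.node (.node (.leaf 0) (.leaf 0)) (.node (.leaf 0) (.leaf 0))) (.node (.node (.leaf 0) (.leaf 0)) (.leaf 0))) (.node (.node (.node (.leaf 0) (.leaf 0)) (.leaf 0)) (.node (.node (.leaf 0) (.leaf 341)) (.leaf 0)))) (.node (.node (.node (.node (.leaf 0) (.leaf 0)) (.node (.leaf 0) (.leaf 0))) (.node (.node (.leaf 0) (.leaf 0)) (.leaf 0))) (.node (.node (.node (.leaf 0) (.leaf 0)) (.leaf 0)) (.node (.node (.leaf 0) (.leaf 0)) (.leaf 0))))))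
def dPos_27 : BT := .node dPos_25 dPos_26
def dPos_28 : BT := .node dPos_24 dPos_27
def dPos_29 : BT := .node dPos_21 dPos_28
def dPos_30 : BT := .node dPos_14 dPos_29
def dPos_31 : BT := .node (.node (.node (.node (.node (.node (.node (.leaf 1) (.leaf 0)) (.node (.leaf 0) (.leaf 0))) (.node (.node (.leaf 0) (.leaf 0)) (.leaf 0))) (.node (.node (.node (.leaf 0) (.leaf 314)) (.node (.leaf 0) (.leaf 0))) (.node (.node (.leaf 0) (.leaf 0)) (.leaf 0)))) (.node (.node (.node (.node (.leaf 0) (.leaf 0)) (.node (.leaf 0) (.leaf 0))) (.node (.node (.leaf 0) (.leaf 0)) (.leaf 257))) (.node (.node (.node (.leaf 0) (.leaf 0)) (.leaf 0)) (.node (.node (.leaf 0) (.leaf 0)) (.leaf 0))))) (.node (.node (.node (.node (.node (.leaf 0) (.leaf 0)) (.node (.leaf 0) (.leaf 0))) (.node (.node (.leaf 93) (.leaf 0)) (.leaf 253))) (.node (.node (.node (.leaf 0) (.leaf 0)) (.leaf 0)) (.node (.node (.leaf 0) (.leaf 0)) (.leaf 0)))) (.node (.node (.node (.node (.leaf 0) (.leaf 0)) (.node (.leaf 0) (.leaf 0))) (.node (.node (.leaf 0) (.leaf 0)) (.leaf 0))) (.node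 (.node (.node (.leaf 70) (.leaf 0)) (.leaf 0)) (.node (.node (.leaf 154) (.leaf 0)) (.leaf 0)))))) (.node (.node (.node (.node (.node (.node (.leaf 0) (.leaf 0)) (.node (.leaf 164) (.leaf 0))) (.node (.node (.leaf 0) (.leaf 0)) (.leaf 249))) (.node (.node (.node (.leaf 0) (.leaf 0)) (.node (.leaf 0) (.leaf 0))) (.node (.node (.leaf 0) (.leaf 0)) (.leaf 273)))) (.node (.node (.node (.node (.leaf 0) (.leaf 0)) (.node (.leaf 0) (.leaf 0))) (.node (.node (.leaf 110) (.leaf 0)) (.leaf 0))) (.node (.node (.node (.leaf 64) (.leaf 0)) (.leaf 0)) (.node (.node (.leaf 0) (.leaf 0)) (.leaf 283))))) (.node (.node (.node (.node (.node (.leaf 0) (.leaf 0)) (.node (.leaf 0) (.leaf 0))) (.node (.node (.leaf 0) (.leaf 0)) (.leaf 0))) (.node (.node (.node (.leaf 0) (.leaf 0)) (.leaf 207)) (.node (.node (.leaf 0) (.leaf 0)) (.leaf 0)))) (.node (.node (.node (.node (.leaf 0) (.leaf 0)) (.node (.leaf 0) (.leaf 0))) (.node (.node (.leaf 0) (.leaf 0)) (.leaf 0))) (.node (.node (.node (.leaf 0) (.leaf 0)) (.leaf 238)) (.node (.node (.leaf 0) (.leaf 0)) (.leaf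 0))))))
def dPos_32 : BT := .node (.node (.node (.node (.node (.node (.node (.leaf 6) (.leaf 0)) (.node (.leaf 0) (.leaf 0))) (.node (.node (.leaf 0) (.leaf 0)) (.leaf 0))) (.node (.node (.node (.leaf 37) (.leaf 0)) (.node (.leaf 0) (.leaf 0))) (.node (.node (.leaf 0) (.leaf 0)) (.leaf 0)))) (.node (.node (.node (.node (.leaf 0) (.leaf 0)) (.node (.leaf 0) (.leaf 0))) (.node (.node (.leaf 107) (.leaf 0)) (.leaf 0))) (.node (.node (.node (.leaf 0) (.leaf 0)) (.leaf 0)) (.node (.node (.leaf 0) (.leaf 0)) (.leaf 0))))) (.node (.node (.node (.node (.node (.leaf 13) (.leaf 0)) (.node (.leaf 0) (.leaf 0))) (.node (.node (.leaf 0) (.leaf 0)) (.leaf 0))) (.node (.node (.node (.leaf 0) (.leaf 322)) (.leaf 0)) (.node (.node (.leaf 0) (.leaf 0)) (.leaf 0)))) (.node (.node (.node (.node (.leaf 26) (.leaf 0)) (.node (.leaf 0) (.leaf 0))) (.node (.node (.leaf 0) (.leaf 0)) (.leaf 0))) (.node (.node (.node (.leaf 0) (.leaf 0)) (.leaf 0)) (.node (.node (.leaf 0) (.leaf 0)) (.leaf 0)))))) (.node (.node (.node (.node (.node (.node (.leaf 0) (.leaf 293))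 (.node (.leaf 0) (.leaf 0))) (.node (.node (.leaf 0) (.leaf 0)) (.leaf 0))) (.node (.node (.node (.leaf 0) (.leaf 0)) (.node (.leaf 201) (.leaf 0))) (.node (.node (.leaf 0) (.leaf 0)) (.leaf 0)))) (.node (.node (.node (.node (.leaf 0) (.leaf 0)) (.node (.leaf 0) (.leaf 0))) (.node (.node (.leaf 0) (.leaf 0)) (.leaf 0))) (.node (.node (.node (.leaf 0) (.leaf 0)) (.leaf 227)) (.node (.node (.leaf 0) (.leaf 0)) (.leaf 0))))) (.node (.node (.node (.node (.node (.leaf 0) (.leaf 0)) (.node (.leaf 0) (.leaf 0))) (.node (.node (.leaf 0) (.leaf 0)) (.leaf 0))) (.node (.node (.node (.leaf 54) (.leaf 0)) (.leaf 0)) (.node (.node (.leaf 0) (.leaf 0)) (.leaf 0)))) (.node (.node (.node (.node (.leaf 0) (.leaf 311)) (.node (.leaf 0) (.leaf 0))) (.node (.node (.leaf 0) (.leaf 0)) (.leaf 0))) (.node (.node (.node (.leaf 0) (.leaf 0)) (.leaf 0)) (.node (.node (.leaf 0) (.leaf 0)) (.leaf 0))))))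
def dPos_33 : BT := .node dPos_31 dPos_32
def dPos_34 : BT := .node (.node (.node (.node (.node (.node (.node (.leaf 0) (.leaf 289)) (.node (.leaf 0) (.leaf 0))) (.node (.node (.leaf 0) (.leaf 0)) (.leaf 0))) (.node (.node (.node (.leaf 0) (.leaf 315)) (.node (.leaf 0) (.leaf 0))) (.node (.node (.leaf 0) (.leaf 0)) (.leaf 270)))) (.node (.node (.node (.node (.leaf 0) (.leaf 0)) (.node (.leaf 0) (.leaf 0))) (.node (.node (.leaf 0) (.leaf 0)) (.leaf 0))) (.node (.node (.node (.leaf 0) (.leaf 0)) (.leaf 0)) (.node (.node (.leaf 0) (.leaf 0)) (.leaf 0))))) (.node (.node (.node (.node (.node (.leaf 0) (.leaf 302)) (.node (.leaf 0) (.leaf 0))) (.node (.node (.leaf 0) (.leaf 0)) (.leaf 0))) (.node (.node (.node (.leaf 0) (.leaf 0)) (.leaf 0)) (.node (.node (.leaf 0) (.leaf 0)) (.leaf 0)))) (.node (.node (.node (.node (.leaf 0) (.leaf 0)) (.node (.leaf 190) (.leaf 0))) (.node (.node (.leaf 0) (.leaf 0)) (.leaf 0))) (.node (.node (.node (.leaf 0) (.leaf 0)) (.leaf 0)) (.node (.node (.leaf 155) (.leaf 0)) (.leaf 0)))))) (.node (.node (.node (.node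 (.node (.node (.leaf 0) (.leaf 0)) (.node (.leaf 0) (.leaf 0))) (.node (.node (.leaf 90) (.leaf 0)) (.leaf 0))) (.node (.node (.node (.leaf 0) (.leaf 0)) (.node (.leaf 0) (.leaf 0))) (.node (.node (.leaf 0) (.leaf 0)) (.leaf 0)))) (.node (.node (.node (.node (.leaf 0) (.leaf 0)) (.node (.leaf 0) (.leaf 0))) (.node (.node (.leaf 0) (.leaf 0)) (.leaf 0))) (.node (.node (.node (.leaf 0) (.leaf 0)) (.leaf 0)) (.node (.node (.leaf 0) (.leaf 0)) (.leaf 0))))) (.node (.node (.node (.node (.node (.leaf 0) (.leaf 0)) (.node (.leaf 169) (.leaf 0))) (.node (.node (.leaf 96) (.leaf 0)) (.leaf 0))) (.node (.node (.node (.leaf 52) (.leaf 0)) (.leaf 210)) (.node (.node (.leaf 0) (.leaf 0)) (.leaf 278)))) (.node (.node (.node (.node (.leaf 0) (.leaf 0)) (.node (.leaf 0) (.leaf 0))) (.node (.node (.leaf 0) (.leaf 0)) (.leaf 0))) (.node (.node (.node (.leaf 0) (.leaf 0)) (.leaf 0)) (.node (.node (.leaf 0) (.leaf 0)) (.leaf 0))))))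
def dPos_35 : BT := .node (.node (.node (.node (.node (.node (.node (.leaf 0) (.leaf 0)) (.node (.leaf 0) (.leaf 0))) (.node (.node (.leaf 0) (.leaf 0)) (.leaf 243))) (.node (.node (.node (.leaf 0) (.leaf 0)) (.node (.leaf 0) (.leaf 0))) (.node (.node (.leaf 0) (.leaf 0)) (.leaf 272)))) (.node (.node (.node (.node (.leaf 0) (.leaf 0)) (.node (.leaf 0) (.leaf 0))) (.node (.node (.leaf 0) (.leaf 0)) (.leaf 262))) (.node (.node (.node (.leaf 0) (.leaf 0)) (.leaf 223)) (.node (.node (.leaf 0) (.leaf 0)) (.leaf 0))))) (.node (.node (.node (.node (.node (.leaf 0) (.leaf 0)) (.node (.leaf 0) (.leaf 0))) (.node (.node (.leaf 0) (.leaf 0)) (.leaf 0))) (.node (.node (.node (.leaf 50) (.leaf 0)) (.leaf 0)) (.node (.node (.leaf 0) (.leaf 0)) (.leaf 0)))) (.node (.node (.node (.node (.leaf 0) (.leaf 0)) (.node (.leaf 0) (.leaf 0))) (.node (.node (.leaf 0) (.leaf 0)) (.leaf 0))) (.node (.node (.node (.leaf 0) (.leaf 0)) (.leaf 234)) (.node (.node (.leaf 0) (.leaf 0)) (.leaf 0)))))) (.node (.node (.node (.node (.node (.node (.leaf 0) (.leaf 0)) (.node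 (.leaf 0) (.leaf 0))) (.node (.node (.leaf 0) (.leaf 0)) (.leaf 0))) (.node (.node (.node (.leaf 0) (.leaf 0)) (.node (.leaf 0) (.leaf 350))) (.node (.node (.leaf 0) (.leaf 0)) (.leaf 274)))) (.node (.node (.node (.node (.leaf 0) (.leaf 0)) (.node (.leaf 0) (.leaf 0))) (.node (.node (.leaf 117) (.leaf 0)) (.leaf 0))) (.node (.node (.node (.leaf 68) (.leaf 0)) (.leaf 0)) (.node (.node (.leaf 0) (.leaf 0)) (.leaf 0))))) (.node (.node (.node (.node (.node (.leaf 22) (.leaf 0)) (.node (.leaf 0) (.leaf 345))) (.node (.node (.leaf 0) (.leaf 0)) (.leaf 0))) (.node (.node (.node (.leaf 0) (.leaf 0)) (.leaf 212)) (.node (.node (.leaf 0) (.leaf 0)) (.leaf 0)))) (.node (.node (.node (.node (.leaf 0) (.leaf 0)) (.node (.leaf 0) (.leaf 0))) (.node (.node (.leaf 129) (.leaf 0)) (.leaf 0))) (.node (.node (.node (.leaf 0) (.leaf 0)) (.leaf 0)) (.node (.node (.leaf 0) (.leaf 0)) (.leaf 0))))))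
def dPos_36 : BT := .node dPos_34 dPos_35
def dPos_37 : BT := .node dPos_33 dPos_36
def dPos_38 : BT := .node (.node (.node (.node (.node (.node (.node (.leaf 0) (.leaf 0)) (.node (.leaf 0) (.leaf 0))) (.node (.node (.leaf 81) (.leaf 0)) (.leaf 0))) (.node (.node (.node (.leaf 0) (.leaf 0)) (.node (.leaf 0) (.leaf 0))) (.node (.node (.leaf 0) (.leaf 0)) (.leaf 0)))) (.node (.node (.node (.node (.leaf 0) (.leaf 0)) (.node (.leaf 173) (.leaf 0))) (.node (.node (.leaf 0) (.leaf 337)) (.leaf 0))) (.node (.node (.node (.leaf 0) (.leaf 0)) (.leaf 217)) (.node (.node (.leaf 0) (.leaf 0)) (.leaf 279))))) (.node (.node (.node (.node (.node (.leaf 12) (.leaf 0)) (.node (.leaf 0) (.leaf 0))) (.node (.node (.leaf 0) (.leaf 0)) (.leaf 0))) (.node (.node (.node (.leaf 0) (.leaf 0)) (.leaf 204)) (.node (.node (.leaf 0) (.leaf 0)) (.leaf 0)))) (.node (.node (.node (.node (.leaf 0) (.leaf 0)) (.node (.leaf 0) (.leaf 0))) (.node (.node (.leaf 0) (.leaf 0)) (.leaf 0))) (.node (.node (.node (.leaf 72) (.leaf 0)) (.leaf 230)) (.node (.node (.leaf 0) (.leaf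 0)) (.leaf 0)))))) (.node (.node (.node (.node (.node (.node (.leaf 0) (.leaf 0)) (.node (.leaf 0) (.leaf 0))) (.node (.node (.leaf 0) (.leaf 0)) (.leaf 0))) (.node (.node (.node (.leaf 0) (.leaf 0)) (.node (.leaf 0) (.leaf 0))) (.node (.node (.leaf 0) (.leaf 0)) (.leaf 0)))) (.node (.node (.node (.node (.leaf 0) (.leaf 0)) (.node (.leaf 0) (.leaf 0))) (.node (.node (.leaf 113) (.leaf 0)) (.leaf 0))) (.node (.node (.node (.leaf 0) (.leaf 0)) (.leaf 0)) (.node (.node (.leaf 0) (.leaf 0)) (.leaf 0))))) (.node (.node (.node (.node (.node (.leaf 21) (.leaf 0)) (.node (.leaf 168) (.leaf 0))) (.node (.node (.leaf 0) (.leaf 0)) (.leaf 0))) (.node (.node (.node (.leaf 0) (.leaf 0)) (.leaf 0)) (.node (.node (.leaf 0) (.leaf 0)) (.leaf 0)))) (.node (.node (.node (.node (.leaf 0) (.leaf 0)) (.node (.leaf 0) (.leaf 0))) (.node (.node (.leaf 0) (.leaf 0)) (.leaf 268))) (.node (.node (.node (.leaf 0) (.leaf 0)) (.leaf 0)) (.node (.node (.leaf 0) (.leaf 0)) (.leaf 0))))))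
def dPos_39 : BT := .node (.node (.node (.node (.node (.node (.node (.leaf 0) (.leaf 0)) (.node (.leaf 0) (.leaf 0))) (.node (.node (.leaf 0) (.leaf 0)) (.leaf 0))) (.node (.node (.node (.leaf 0) (.leaf 0)) (.node (.leaf 0) (.leaf 0))) (.node (.node (.leaf 0) (.leaf 0)) (.leaf 0)))) (.node (.node (.node (.node (.leaf 0) (.leaf 0)) (.node (.leaf 0) (.leaf 0))) (.node (.node (.leaf 0) (.leaf 0)) (.leaf 0))) (.node (.node (.node (.leaf 0) (.leaf 0)) (.leaf 0)) (.node (.node (.leaf 0) (.leaf 0)) (.leaf 0))))) (.node (.node (.node (.node (.node (.leaf 16) (.leaf 0)) (.node (.leaf 0) (.leaf 0))) (.node (.node (.leaf 0) (.leaf 0)) (.leaf 0))) (.node (.node (.node (.leaf 0) (.leaf 0)) (.leaf 0)) (.node (.node (.leaf 0) (.leaf 0)) (.leaf 0)))) (.node (.node (.node (.node (.leaf 0) (.leaf 0)) (.node (.leaf 0) (.leaf 0))) (.node (.node (.leaf 122) (.leaf 0)) (.leaf 0))) (.node (.node (.node (.leaf 0) (.leaf 0)) (.leaf 0)) (.node (.node (.leaf 0) (.leaf 0)) (.leaf 0)))))) (.node (.node (.node (.node (.node (.node (.leaf 7) (.leaf 295)) (.node (.leaf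 0) (.leaf 0))) (.node (.node (.leaf 0) (.leaf 0)) (.leaf 0))) (.node (.node (.node (.leaf 0) (.leaf 0)) (.node (.leaf 0) (.leaf 0))) (.node (.node (.leaf 0) (.leaf 0)) (.leaf 0)))) (.node (.node (.node (.node (.leaf 0) (.leaf 0)) (.node (.leaf 0) (.leaf 0))) (.node (.node (.leaf 0) (.leaf 0)) (.leaf 265))) (.node (.node (.node (.leaf 0) (.leaf 0)) (.leaf 0)) (.node (.node (.leaf 0) (.leaf 0)) (.leaf 284))))) (.node (.node (.node (.node (.node (.leaf 0) (.leaf 0)) (.node (.leaf 0) (.leaf 0))) (.node (.node (.leaf 0) (.leaf 0)) (.leaf 0))) (.node (.node (.node (.leaf 56) (.leaf 0)) (.leaf 0)) (.node (.node (.leaf 0) (.leaf 0)) (.leaf 0)))) (.node (.node (.node (.node (.leaf 0) (.leaf 0)) (.node (.leaf 0) (.leaf 0))) (.node (.node (.leaf 0) (.leaf 0)) (.leaf 0))) (.node (.node (.node (.leaf 0) (.leaf 0)) (.leaf 0)) (.node (.node (.leaf 0) (.leaf 0)) (.leaf 0))))))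
def dPos_40 : BT := .node dPos_38 dPos_39
def dPos_41 : BT := .node (.node (.node (.node (.node (.node (.node (.leaf 3) (.leaf 0)) (.node (.leaf 0) (.leaf 0))) (.node (.node (.leaf 0) (.leaf 0)) (.leaf 0))) (.node (.node (.node (.leaf 0) (.leaf 0)) (.node (.leaf 0) (.leaf 0))) (.node (.node (.leaf 131) (.leaf 0)) (.leaf 0)))) (.node (.node (.node (.node (.leaf 0) (.leaf 0)) (.node (.leaf 176) (.leaf 0))) (.node (.node (.leaf 105) (.leaf 0)) (.leaf 0))) (.node (.node (.node (.leaf 0) (.leaf 0)) (.leaf 0)) (.node (.node (.leaf 0) (.leaf 0)) (.leaf 0))))) (.node (.node (.node (.node (.node (.leaf 0) (.leaf 0)) (.node (.leaf 0) (.leaf 0))) (.node (.node (.leaf 0) (.leaf 0)) (.leaf 0))) (.node (.node (.node (.leaf 0) (.leaf 0)) (.leaf 0)) (.node (.node (.leaf 0) (.leaf 0)) (.leaf 0)))) (.node (.node (.node (.node (.leaf 24) (.leaf 0)) (.node (.leaf 0) (.leaf 0))) (.node (.node (.leaf 0) (.leaf 0)) (.leaf 0))) (.node (.node (.node (.leaf 0) (.leaf 0)) (.leaf 0)) (.node (.node (.leaf 0) (.leaf 0)) (.leaf 0)))))) (.node (.node (.node (.node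 (.node (.node (.leaf 0) (.leaf 0)) (.node (.leaf 0) (.leaf 0))) (.node (.node (.leaf 0) (.leaf 0)) (.leaf 0))) (.node (.node (.node (.leaf 0) (.leaf 0)) (.node (.leaf 0) (.leaf 0))) (.node (.node (.leaf 137) (.leaf 0)) (.leaf 0)))) (.node (.node (.node (.node (.leaf 0) (.leaf 0)) (.node (.leaf 0) (.leaf 0))) (.node (.node (.leaf 0) (.leaf 0)) (.leaf 264))) (.node (.node (.node (.leaf 0) (.leaf 0)) (.leaf 0)) (.node (.node (.leaf 0) (.leaf 0)) (.leaf 0))))) (.node (.node (.node (.node (.node (.leaf 0) (.leaf 0)) (.node (.leaf 0) (.leaf 0))) (.node (.node (.leaf 0) (.leaf 336)) (.leaf 0))) (.node (.node (.node (.leaf 0) (.leaf 0)) (.leaf 0)) (.node (.node (.leaf 0) (.leaf 0)) (.leaf 0)))) (.node (.node (.node (.node (.leaf 32) (.leaf 0)) (.node (.leaf 0) (.leaf 0))) (.node (.node (.leaf 0) (.leaf 0)) (.leaf 0))) (.node (.node (.node (.leaf 74) (.leaf 0)) (.leaf 0)) (.node (.node (.leaf 0) (.leaf 0)) (.leaf 287))))))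
def dPos_42 : BT := .node (.node (.node (.node (.node (.node (.node (.leaf 0) (.leaf 291)) (.node (.leaf 0) (.leaf 0))) (.node (.node (.leaf 0) (.leaf 330)) (.leaf 0))) (.node (.node (.node (.leaf 41) (.leaf 318)) (.node (.leaf 0) (.leaf 0))) (.node (.node (.leaf 0) (.leaf 0)) (.leaf 0)))) (.node (.node (.node (.node (.leaf 0) (.leaf 0)) (.node (.leaf 181) (.leaf 0))) (.node (.node (.leaf 0) (.leaf 0)) (.leaf 0))) (.node (.node (.node (.leaf 0) (.leaf 0)) (.leaf 0)) (.node (.node (.leaf 147) (.leaf 0)) (.leaf 0))))) (.node (.node (.node (.node (.node (.leaf 0) (.leaf 0)) (.node (.leaf 0) (.leaf 0))) (.node (.node (.leaf 0) (.leaf 0)) (.leaf 0))) (.node (.node (.node (.leaf 0) (.leaf 0)) (.leaf 0)) (.node (.node (.leaf 141) (.leaf 0)) (.leaf 0)))) (.node (.node (.node (.node (.leaf 31) (.leaf 0)) (.node (.leaf 0) (.leaf 0))) (.node (.node (.leaf 0) (.leaf 0)) (.leaf 0))) (.node (.node (.node (.leaf 0) (.leaf 0)) (.leaf 0)) (.node (.node (.leaf 159) (.leaf 0)) (.leaf 0)))))) (.node (.node (.node (.node (.node (.node (.leaf 0) (.leaf 0))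 (.node (.leaf 0) (.leaf 0))) (.node (.node (.leaf 0) (.leaf 0)) (.leaf 252))) (.node (.node (.node (.leaf 0) (.leaf 320)) (.leaf 0)) (.node (.node (.leaf 0) (.leaf 0)) (.leaf 275)))) (.node (.node (.node (.node (.leaf 0) (.leaf 0)) (.node (.leaf 0) (.leaf 0))) (.node (.node (.leaf 121) (.leaf 0)) (.leaf 266))) (.node (.node (.node (.leaf 0) (.leaf 0)) (.leaf 0)) (.node (.node (.leaf 0) (.leaf 0)) (.leaf 0))))) (.node (.node (.node (.node (.node (.leaf 0) (.leaf 0)) (.node (.leaf 0) (.leaf 0))) (.node (.node (.leaf 0) (.leaf 0)) (.leaf 0))) (.node (.node (.node (.leaf 0) (.leaf 0)) (.leaf 0)) (.node (.node (.leaf 0) (.leaf 0)) (.leaf 0)))) (.node (.node (.node (.node (.leaf 0) (.leaf 0)) (.node (.leaf 0) (.leaf 0))) (.node (.node (.leaf 0) (.leaf 0)) (.leaf 0))) (.node (.node (.node (.leaf 0) (.leaf 0)) (.leaf 0)) (.node (.node (.leaf 0) (.leaf 0)) (.leaf 0))))))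
def dPos_43 : BT := .node dPos_41 dPos_42
def dPos_44 : BT := .node dPos_40 dPos_43
def dPos_45 : BT := .node dPos_37 dPos_44
def dPos_46 : BT := .node (.node (.node (.node (.node (.node (.node (.leaf 0) (.leaf 0)) (.node (.leaf 0) (.leaf 0))) (.node (.node (.leaf 79) (.leaf 0)) (.leaf 0))) (.node (.node (.node (.leaf 0) (.leaf 0)) (.node (.leaf 0) (.leaf 0))) (.node (.node (.leaf 0) (.leaf 0)) (.leaf 0)))) (.node (.node (.node (.node (.leaf 0) (.leaf 0)) (.node (.leaf 0) (.leaf 0))) (.node (.node (.leaf 104) (.leaf 0)) (.leaf 0))) (.node (.node (.node (.leaf 0) (.leaf 0)) (.leaf 0)) (.node (.node (.leaf 144) (.leaf 0)) (.leaf 0))))) (.node (.node (.node (.node (.node (.leaf 10) (.leaf 300)) (.node (.leaf 0) (.leaf 0))) (.node (.node (.leaf 0) (.leaf 0)) (.leaf 0))) (.node (.node (.node (.leaf 0) (.leaf 321)) (.leaf 0)) (.node (.node (.leaf 0) (.leaf 0)) (.leaf 0)))) (.node (.node (.node (.node (.leaf 0) (.leaf 307)) (.node (.leaf 0) (.leaf 0))) (.node (.node (.leaf 0) (.leaf 0)) (.leaf 0))) (.node (.node (.node (.leaf 71) (.leaf 0))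 (.leaf 0)) (.node (.node (.leaf 0) (.leaf 0)) (.leaf 285)))))) (.node (.node (.node (.node (.node (.node (.leaf 0) (.leaf 0)) (.node (.leaf 0) (.leaf 0))) (.node (.node (.leaf 0) (.leaf 0)) (.leaf 0))) (.node (.node (.node (.leaf 0) (.leaf 0)) (.node (.leaf 0) (.leaf 0))) (.node (.node (.leaf 0) (.leaf 0)) (.leaf 0)))) (.node (.node (.node (.node (.leaf 0) (.leaf 0)) (.node (.leaf 0) (.leaf 0))) (.node (.node (.leaf 111) (.leaf 0)) (.leaf 0))) (.node (.node (.node (.leaf 66) (.leaf 0)) (.leaf 226)) (.node (.node (.leaf 0) (.leaf 0)) (.leaf 0))))) (.node (.node (.node (.node (.node (.leaf 19) (.leaf 0)) (.node (.leaf 0) (.leaf 0))) (.node (.node (.leaf 0) (.leaf 0)) (.leaf 0))) (.node (.node (.node (.leaf 0) (.leaf 0)) (.leaf 208)) (.node (.node (.leaf 0) (.leaf 0)) (.leaf 0)))) (.node (.node (.node (.node (.leaf 0) (.leaf 0)) (.node (.leaf 0) (.leaf 0))) (.node (.node (.leaf 0) (.leaf 0)) (.leaf 0))) (.node (.node (.node (.leaf 0) (.leaf 0)) (.leaf 0)) (.node (.node (.leaf 160) (.leaf 0)) (.leaf 0))))))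
def dPos_47 : BT := .node (.node (.node (.node (.node (.node (.node (.leaf 0) (.leaf 0)) (.node (.leaf 0) (.leaf 0))) (.node (.node (.leaf 85) (.leaf 0)) (.leaf 0))) (.node (.node (.node (.leaf 0) (.leaf 0)) (.node (.leaf 0) (.leaf 0))) (.node (.node (.leaf 0) (.leaf 0)) (.leaf 0)))) (.node (.node (.node (.node (.leaf 0) (.leaf 0)) (.node (.leaf 0) (.leaf 0))) (.node (.node (.leaf 0) (.leaf 0)) (.leaf 0))) (.node (.node (.node (.leaf 0) (.leaf 0)) (.leaf 0)) (.node (.node (.leaf 0) (.leaf 0)) (.leaf 0))))) (.node (.node (.node (.node (.node (.leaf 15) (.leaf 0)) (.node (.leaf 0) (.leaf 0))) (.node (.node (.leaf 0) (.leaf 0)) (.leaf 0))) (.node (.node (.node (.leaf 0) (.leaf 0)) (.leaf 0)) (.node (.node (.leaf 0) (.leaf 0)) (.leaf 0)))) (.node (.node (.node (.node (.leaf 0) (.leaf 309)) (.node (.leaf 0) (.leaf 0))) (.node (.node (.leaf 0) (.leaf 0)) (.leaf 0))) (.node (.node (.node (.leaf 0) (.leaf 0)) (.leaf 0)) (.node (.node (.leaf 156) (.leaf 0)) (.leaf 286)))))) (.node (.node (.node (.node (.node (.node (.leaf 0) (.leaf 0)) (.node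 (.leaf 0) (.leaf 0))) (.node (.node (.leaf 0) (.leaf 0)) (.leaf 0))) (.node (.node (.node (.leaf 0) (.leaf 0)) (.node (.leaf 0) (.leaf 0))) (.node (.node (.leaf 0) (.leaf 0)) (.leaf 0)))) (.node (.node (.node (.node (.leaf 0) (.leaf 0)) (.node (.leaf 183) (.leaf 0))) (.node (.node (.leaf 115) (.leaf 0)) (.leaf 0))) (.node (.node (.node (.leaf 0) (.leaf 0)) (.leaf 0)) (.node (.node (.leaf 0) (.leaf 0)) (.leaf 0))))) (.node (.node (.node (.node (.node (.leaf 0) (.leaf 0)) (.node (.leaf 0) (.leaf 0))) (.node (.node (.leaf 99) (.leaf 0)) (.leaf 0))) (.node (.node (.node (.leaf 0) (.leaf 0)) (.leaf 0)) (.node (.node (.leaf 143) (.leaf 0)) (.leaf 0)))) (.node (.node (.node (.node (.leaf 0) (.leaf 0)) (.node (.leaf 0) (.leaf 0))) (.node (.node (.leaf 0) (.leaf 0)) (.leaf 269))) (.node (.node (.node (.leaf 75) (.leaf 0)) (.leaf 0)) (.node (.node (.leaf 0) (.leaf 0)) (.leaf 0))))))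
def dPos_48 : BT := .node dPos_46 dPos_47
def dPos_49 : BT := .node (.node (.node (.node (.node (.node (.node (.leaf 0) (.leaf 290)) (.node (.leaf 161) (.leaf 0))) (.node (.node (.leaf 0) (.leaf 0)) (.leaf 0))) (.node (.node (.node (.leaf 0) (.leaf 0)) (.node (.leaf 0) (.leaf 0))) (.node (.node (.leaf 0) (.leaf 0)) (.leaf 0)))) (.node (.node (.node (.node (.leaf 0) (.leaf 0)) (.node (.leaf 0) (.leaf 0))) (.node (.node (.leaf 0) (.leaf 0)) (.leaf 0))) (.node (.node (.node (.leaf 0) (.leaf 0)) (.leaf 220)) (.node (.node (.leaf 0) (.leaf 0)) (.leaf 0))))) (.node (.node (.node (.node (.node (.leaf 0) (.leaf 0)) (.node (.leaf 0) (.leaf 0))) (.node (.node (.leaf 0) (.leaf 0)) (.leaf 0))) (.node (.node (.node (.leaf 0) (.leaf 0)) (.leaf 0)) (.node (.node (.leaf 0) (.leaf 0)) (.leaf 0)))) (.node (.node (.node (.node (.leaf 0) (.leaf 0)) (.node (.leaf 192) (.leaf 0))) (.node (.node (.leaf 0) (.leaf 0)) (.leaf 0))) (.node (.node (.node (.leaf 0) (.leaf 0)) (.leaf 0)) (.node (.node (.leaf 0) (.leaf 0)) (.leaf 0)))))) (.node (.node (.node (.node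 (.node (.node (.leaf 0) (.leaf 0)) (.node (.leaf 0) (.leaf 0))) (.node (.node (.leaf 0) (.leaf 0)) (.leaf 0))) (.node (.node (.node (.leaf 0) (.leaf 0)) (.node (.leaf 198) (.leaf 0))) (.node (.node (.leaf 0) (.leaf 0)) (.leaf 0)))) (.node (.node (.node (.node (.leaf 0) (.leaf 0)) (.node (.leaf 0) (.leaf 0))) (.node (.node (.leaf 0) (.leaf 0)) (.leaf 0))) (.node (.node (.node (.leaf 0) (.leaf 0)) (.leaf 0)) (.node (.node (.leaf 0) (.leaf 0)) (.leaf 0))))) (.node (.node (.node (.node (.node (.leaf 0) (.leaf 0)) (.node (.leaf 0) (.leaf 0))) (.node (.node (.leaf 0) (.leaf 0)) (.leaf 0))) (.node (.node (.node (.leaf 0) (.leaf 0)) (.leaf 0)) (.node (.node (.leaf 0) (.leaf 0)) (.leaf 0)))) (.node (.node (.node (.node (.leaf 0) (.leaf 0)) (.node (.leaf 0) (.leaf 0))) (.node (.node (.leaf 0) (.leaf 0)) (.leaf 0))) (.node (.node (.node (.leaf 0) (.leaf 328)) (.leaf 0)) (.node (.node (.leaf 0) (.leaf 0)) (.leaf 0))))))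
def dPos_50 : BT := .node (.node (.node (.node (.node (.node (.node (.leaf 0) (.leaf 0)) (.node (.leaf 0) (.leaf 0))) (.node (.node (.leaf 87) (.leaf 0)) (.leaf 244))) (.node (.node (.node (.leaf 39) (.leaf 0)) (.node (.leaf 0) (.leaf 0))) (.node (.node (.leaf 134) (.leaf 339)) (.leaf 0)))) (.node (.node (.node (.node (.leaf 0) (.leaf 0)) (.node (.leaf 0) (.leaf 0))) (.node (.node (.leaf 0) (.leaf 0)) (.leaf 0))) (.node (.node (.node (.leaf 0) (.leaf 0)) (.leaf 0)) (.node (.node (.leaf 0) (.leaf 0)) (.leaf 0))))) (.node (.node (.node (.node (.node (.leaf 0) (.leaf 0)) (.node (.leaf 0) (.leaf 0))) (.node (.node (.leaf 0) (.leaf 0)) (.leaf 0))) (.node (.node (.node (.leaf 0) (.leaf 0)) (.leaf 0)) (.node (.node (.leaf 0) (.leaf 0)) (.leaf 0)))) (.node (.node (.node (.node (.leaf 29) (.leaf 0)) (.node (.leaf 0) (.leaf 0))) (.node (.node (.leaf 0) (.leaf 0)) (.leaf 0))) (.node (.node (.node (.leaf 0) (.leaf 0)) (.leaf 0)) (.node (.node (.leaf 0) (.leaf 0)) (.leaf 0)))))) (.node (.node (.node (.node (.node (.node (.leaf 0) (.leaf 0)) (.node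 (.leaf 0) (.leaf 0))) (.node (.node (.leaf 0) (.leaf 335)) (.leaf 0))) (.node (.node (.node (.leaf 0) (.leaf 0)) (.leaf 0)) (.node (.node (.leaf 0) (.leaf 0)) (.leaf 0)))) (.node (.node (.node (.node (.leaf 0) (.leaf 0)) (.node (.leaf 0) (.leaf 0))) (.node (.node (.leaf 119) (.leaf 0)) (.leaf 0))) (.node (.node (.node (.leaf 0) (.leaf 0)) (.leaf 0)) (.node (.node (.leaf 0) (.leaf 0)) (.leaf 0))))) (.node (.node (.node (.node (.node (.leaf 0) (.leaf 0)) (.node (.leaf 0) (.leaf 0))) (.node (.node (.leaf 101) (.leaf 0)) (.leaf 0))) (.node (.node (.node (.leaf 0) (.leaf 0)) (.leaf 213)) (.node (.node (.leaf 0) (.leaf 340)) (.leaf 0)))) (.node (.node (.node (.node (.leaf 0) (.leaf 0)) (.node (.leaf 0) (.leaf 0))) (.node (.node (.leaf 0) (.leaf 0)) (.leaf 0))) (.node (.node (.node (.leaf 76) (.leaf 0)) (.leaf 0)) (.node (.node (.leaf 0) (.leaf 0)) (.leaf 0))))))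
def dPos_51 : BT := .node dPos_49 dPos_50
def dPos_52 : BT := .node dPos_48 dPos_51
def dPos_53 : BT := .node (.node (.node (.node (.node (.node (.node (.leaf 0) (.leaf 0)) (.node (.leaf 0) (.leaf 0))) (.node (.node (.leaf 83) (.leaf 0)) (.leaf 0))) (.node (.node (.node (.leaf 0) (.leaf 0)) (.node (.leaf 196) (.leaf 0))) (.node (.node (.leaf 0) (.leaf 0)) (.leaf 0)))) (.node (.node (.node (.node (.leaf 0) (.leaf 0)) (.node (.leaf 0) (.leaf 0))) (.node (.node (.leaf 0) (.leaf 0)) (.leaf 0))) (.node (.node (.node (.leaf 59) (.leaf 0)) (.leaf 0)) (.node (.node (.leaf 0) (.leaf 0)) (.leaf 0))))) (.node (.node (.node (.node (.node (.leaf 0) (.leaf 0)) (.node (.leaf 0) (.leaf 0))) (.node (.node (.leaf 0) (.leaf 0)) (.leaf 0))) (.node (.node (.node (.leaf 0) (.leaf 0)) (.leaf 0)) (.node (.node (.leaf 0) (.leaf 0)) (.leaf 0)))) (.node (.node (.node (.node (.leaf 0) (.leaf 308)) (.node (.leaf 188) (.leaf 0))) (.node (.node (.leaf 0) (.leaf 0)) (.leaf 0))) (.node (.node (.node (.leaf 0) (.leaf 327)) (.leaf 0)) (.node (.node (.leaf 0) (.leaf 0))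 (.leaf 0)))))) (.node (.node (.node (.node (.node (.node (.leaf 0) (.leaf 0)) (.node (.leaf 0) (.leaf 0))) (.node (.node (.leaf 0) (.leaf 332)) (.leaf 0))) (.node (.node (.node (.leaf 43) (.leaf 0)) (.node (.leaf 0) (.leaf 0))) (.node (.node (.leaf 0) (.leaf 0)) (.leaf 0)))) (.node (.node (.node (.node (.leaf 0) (.leaf 0)) (.node (.leaf 0) (.leaf 0))) (.node (.node (.leaf 0) (.leaf 0)) (.leaf 0))) (.node (.node (.node (.leaf 0) (.leaf 0)) (.leaf 0)) (.node (.node (.leaf 0) (.leaf 0)) (.leaf 0))))) (.node (.node (.node (.node (.node (.leaf 0) (.leaf 0)) (.node (.leaf 0) (.leaf 0))) (.node (.node (.leaf 0) (.leaf 0)) (.leaf 0))) (.node (.node (.node (.leaf 0) (.leaf 0)) (.leaf 0)) (.node (.node (.leaf 0) (.leaf 0)) (.leaf 0)))) (.node (.node (.node (.node (.leaf 0) (.leaf 0)) (.node (.leaf 0) (.leaf 0))) (.node (.node (.leaf 0) (.leaf 0)) (.leaf 0))) (.node (.node (.node (.leaf 0) (.leaf 0)) (.leaf 0)) (.node (.node (.leaf 0) (.leaf 0)) (.leaf 0))))))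
def dPos_54 : BT := .node (.node (.node (.node (.node (.node (.node (.leaf 0) (.leaf 0)) (.node (.leaf 163) (.leaf 0))) (.node (.node (.leaf 0) (.leaf 0)) (.leaf 0))) (.node (.node (.node (.leaf 0) (.leaf 0)) (.node (.leaf 0) (.leaf 0))) (.node (.node (.leaf 0) (.leaf 0)) (.leaf 0)))) (.node (.node (.node (.node (.leaf 0) (.leaf 0)) (.node (.leaf 180) (.leaf 0))) (.node (.node (.leaf 108) (.leaf 0)) (.leaf 260))) (.node (.node (.node (.leaf 0) (.leaf 0)) (.leaf 0)) (.node (.node (.leaf 0) (.leaf 0)) (.leaf 0))))) (.node (.node (.node (.node (.node (.leaf 0) (.leaf 0)) (.node (.leaf 0) (.leaf 0))) (.node (.node (.leaf 0) (.leaf 0)) (.leaf 0))) (.node (.node (.node (.leaf 48) (.leaf 0)) (.leaf 0)) (.node (.node (.leaf 0) (.leaf 0)) (.leaf 0)))) (.node (.node (.node (.node (.leaf 0) (.leaf 0)) (.node (.leaf 0) (.leaf 0))) (.node (.node (.leaf 124) (.leaf 0)) (.leaf 0))) (.node (.node (.node (.leaf 0) (.leaf 0)) (.leaf 0)) (.node (.node (.leaf 0) (.leaf 0)) (.leaf 0)))))) (.node (.node (.node (.node (.node (.node (.leaf 0) (.leaf 0)) (.node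 (.leaf 0) (.leaf 0))) (.node (.node (.leaf 0) (.leaf 0)) (.leaf 0))) (.node (.node (.node (.leaf 0) (.leaf 0)) (.node (.leaf 0) (.leaf 0))) (.node (.node (.leaf 0) (.leaf 0)) (.leaf 0)))) (.node (.node (.node (.node (.leaf 0) (.leaf 0)) (.node (.leaf 185) (.leaf 0))) (.node (.node (.leaf 0) (.leaf 0)) (.leaf 0))) (.node (.node (.node (.leaf 0) (.leaf 0)) (.leaf 228)) (.node (.node (.leaf 0) (.leaf 0)) (.leaf 0))))) (.node (.node (.node (.node (.node (.leaf 0) (.leaf 0)) (.node (.leaf 172) (.leaf 0))) (.node (.node (.leaf 0) (.leaf 0)) (.leaf 0))) (.node (.node (.node (.leaf 0) (.leaf 0)) (.leaf 0)) (.node (.node (.leaf 0) (.leaf 0)) (.leaf 0)))) (.node (.node (.node (.node (.leaf 0) (.leaf 0)) (.node (.leaf 0) (.leaf 0))) (.node (.node (.leaf 0) (.leaf 0)) (.leaf 0))) (.node (.node (.node (.leaf 0) (.leaf 0)) (.leaf 0)) (.node (.node (.leaf 0) (.leaf 0)) (.leaf 0))))))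
def dPos_55 : BT := .node dPos_53 dPos_54
def dPos_56 : BT := .node (.node (.node (.node (.node (.node (.node (.leaf 5) (.leaf 0)) (.node (.leaf 0) (.leaf 0))) (.node (.node (.leaf 0) (.leaf 0)) (.leaf 0))) (.node (.node (.node (.leaf 35) (.leaf 0)) (.node (.leaf 0) (.leaf 0))) (.node (.node (.leaf 0) (.leaf 0)) (.leaf 0)))) (.node (.node (.node (.node (.leaf 0) (.leaf 0)) (.node (.leaf 0) (.leaf 0))) (.node (.node (.leaf 0) (.leaf 0)) (.leaf 0))) (.node (.node (.node (.leaf 0) (.leaf 0)) (.leaf 0)) (.node (.node (.leaf 0) (.leaf 0)) (.leaf 0))))) (.node (.node (.node (.node (.node (.leaf 0) (.leaf 0)) (.node (.leaf 0) (.leaf 0))) (.node (.node (.leaf 0) (.leaf 0)) (.leaf 0))) (.node (.node (.node (.leaf 46) (.leaf 0)) (.leaf 0)) (.node (.node (.leaf 0) (.leaf 0)) (.leaf 0)))) (.node (.node (.node (.node (.leaf 0) (.leaf 0)) (.node (.leaf 0) (.leaf 348))) (.node (.node (.leaf 0) (.leaf 0)) (.leaf 0))) (.node (.node (.node (.leaf 0) (.leaf 0)) (.leaf 233)) (.node (.node (.leaf 0) (.leaf 0)) (.leaf 0)))))) (.node (.node (.node (.node (.node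 (.node (.leaf 0) (.leaf 0)) (.node (.leaf 165) (.leaf 0))) (.node (.node (.leaf 0) (.leaf 0)) (.leaf 0))) (.node (.node (.node (.leaf 0) (.leaf 0)) (.node (.leaf 0) (.leaf 0))) (.node (.node (.leaf 0) (.leaf 0)) (.leaf 0)))) (.node (.node (.node (.node (.leaf 0) (.leaf 0)) (.node (.leaf 182) (.leaf 0))) (.node (.node (.leaf 0) (.leaf 0)) (.leaf 0))) (.node (.node (.node (.leaf 0) (.leaf 0)) (.leaf 0)) (.node (.node (.leaf 150) (.leaf 0)) (.leaf 0))))) (.node (.node (.node (.node (.node (.leaf 0) (.leaf 0)) (.node (.leaf 0) (.leaf 0))) (.node (.node (.leaf 0) (.leaf 0)) (.leaf 0))) (.node (.node (.node (.leaf 0) (.leaf 0)) (.leaf 0)) (.node (.node (.leaf 0) (.leaf 0)) (.leaf 0)))) (.node (.node (.node (.node (.leaf 0) (.leaf 0)) (.node (.leaf 0) (.leaf 0))) (.node (.node (.leaf 126) (.leaf 0)) (.leaf 0))) (.node (.node (.node (.leaf 0) (.leaf 0)) (.leaf 0)) (.node (.node (.leaf 0) (.leaf 0)) (.leaf 0))))))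
def dPos_57 : BT := .node (.node (.node (.node (.node (.node (.node (.leaf 0) (.leaf 0)) (.node (.leaf 0) (.leaf 0))) (.node (.node (.leaf 0) (.leaf 0)) (.leaf 247))) (.node (.node (.node (.leaf 0) (.leaf 0)) (.node (.leaf 0) (.leaf 0))) (.node (.node (.leaf 136) (.leaf 0)) (.leaf 0)))) (.node (.node (.node (.node (.leaf 0) (.leaf 0)) (.node (.leaf 0) (.leaf 0))) (.node (.node (.leaf 0) (.leaf 0)) (.leaf 0))) (.node (.node (.node (.leaf 62) (.leaf 0)) (.leaf 224)) (.node (.node (.leaf 148) (.leaf 0)) (.leaf 0))))) (.node (.node (.node (.node (.node (.leaf 0) (.leaf 0)) (.node (.leaf 0) (.leaf 0))) (.node (.node (.leaf 0) (.leaf 0)) (.leaf 0))) (.node (.node (.node (.leaf 0) (.leaf 0)) (.leaf 0)) (.node (.node (.leaf 0) (.leaf 0)) (.leaf 0)))) (.node (.node (.node (.node (.leaf 0) (.leaf 0)) (.node (.leaf 0) (.leaf 0))) (.node (.node (.leaf 125) (.leaf 0)) (.leaf 0))) (.node (.node (.node (.leaf 0) (.leaf 0)) (.leaf 236)) (.node (.node (.leaf 0) (.leaf 0)) (.leaf 0)))))) (.node (.node (.node (.node (.node (.node (.leaf 0) (.leaf 0)) (.node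 (.leaf 0) (.leaf 0))) (.node (.node (.leaf 0) (.leaf 0)) (.leaf 0))) (.node (.node (.node (.leaf 0) (.leaf 0)) (.leaf 202)) (.node (.node (.leaf 139) (.leaf 0)) (.leaf 0)))) (.node (.node (.node (.node (.leaf 0) (.leaf 306)) (.node (.leaf 0) (.leaf 0))) (.node (.node (.leaf 0) (.leaf 0)) (.leaf 0))) (.node (.node (.node (.leaf 0) (.leaf 0)) (.leaf 0)) (.node (.node (.leaf 152) (.leaf 0)) (.leaf 0))))) (.node (.node (.node (.node (.node (.leaf 0) (.leaf 0)) (.node (.leaf 0) (.leaf 0))) (.node (.node (.leaf 0) (.leaf 0)) (.leaf 256))) (.node (.node (.node (.leaf 0) (.leaf 0)) (.leaf 0)) (.node (.node (.leaf 0) (.leaf 0)) (.leaf 0)))) (.node (.node (.node (.node (.leaf 0) (.leaf 0)) (.node (.leaf 195) (.leaf 0))) (.node (.node (.leaf 0) (.leaf 0)) (.leaf 0))) (.node (.node (.node (.leaf 0) (.leaf 0)) (.leaf 0)) (.node (.node (.leaf 0) (.leaf 0)) (.leaf 0))))))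
def dPos_58 : BT := .node dPos_56 dPos_57
def dPos_59 : BT := .node dPos_55 dPos_58
def dPos_60 : BT := .node dPos_52 dPos_59
def dPos_61 : BT := .node dPos_45 dPos_60
def dPos_62 : BT := .node dPos_30 dPos_61
def dPos : BT := dPos_62
def dFin_0 : BT := .node (.node (.node (.node (.node (.node (.node (.leaf 0) (.leaf 37012)) (.leaf 11221)) (.node (.leaf 15613) (.leaf 36434))) (.node (.node (.leaf 5568) (.leaf 33207)) (.node (.leaf 34168) (.leaf 18633)))) (.node (.node (.node (.node (.leaf 10145) (.leaf 24905)) (.leaf 22807)) (.node (.leaf 9379) (.leaf 33052))) (.node (.node (.leaf 33891) (.leaf 14189)) (.node (.leaf 10055) (.leaf 36885))))) (.node (.node (.node (.node (.node (.leaf 8601) (.leaf 36868)) (.leaf 34830)) (.node (.leaf 13251) (.leaf 35641))) (.node (.node (.leaf 2556) (.leaf 15922)) (.node (.leaf 31588) (.leaf 19543)))) (.node (.node (.node (.node (.leaf 9869) (.leaf 28185)) (.leaf 35254)) (.node (.leaf 33265) (.leaf 17725))) (.node (.node (.leaf 33117) (.leaf 14475)) (.node (.leaf 11145) (.leaf 35824)))))) (.node (.node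 (.node (.node (.node (.node (.leaf 32663) (.leaf 36254)) (.leaf 10227)) (.node (.leaf 9375) (.leaf 35841))) (.node (.node (.leaf 6022) (.leaf 12777)) (.node (.leaf 34249) (.leaf 19091)))) (.node (.node (.node (.node (.leaf 13265) (.leaf 26463)) (.leaf 19982)) (.node (.leaf 32248) (.leaf 35297))) (.node (.node (.leaf 32597) (.leaf 14275)) (.node (.leaf 15966) (.leaf 36683))))) (.node (.node (.node (.node (.node (.leaf 15167) (.leaf 24373)) (.leaf 35400)) (.node (.leaf 9253) (.leaf 35710))) (.node (.node (.leaf 31913) (.leaf 14067)) (.node (.leaf 34757) (.leaf 20037)))) (.node (.node (.node (.node (.leaf 9311) (.leaf 37153)) (.leaf 13151)) (.node (.leaf 5674) (.leaf 18295))) (.node (.node (.leaf 8659) (.leaf 14766)) (.node (.leaf 13444) (.leaf 36356))))))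
def dFin_1 : BT := .node (.node (.node (.node (.node (.node (.node (.leaf 8831) (.leaf 21885)) (.leaf 17980)) (.node (.leaf 32551) (.leaf 16105))) (.node (.node (.leaf 10361) (.leaf 12716)) (.node (.leaf 13638) (.leaf 37079)))) (.node (.node (.node (.node (.leaf 12948) (.leaf 35812)) (.leaf 11675)) (.node (.leaf 33811) (.leaf 17341))) (.node (.node (.leaf 9547) (.leaf 14238)) (.node (.leaf 34639) (.leaf 20390))))) (.node (.node (.node (.node (.node (.leaf 358) (.leaf 36496)) (.leaf 11337)) (.node (.leaf 34617) (.leaf 16575))) (.node (.node (.leaf 10563) (.leaf 13908)) (.node (.leaf 10029) (.leaf 36002)))) (.node (.node (.node (.node (.leaf 1636) (.leaf 36793)) (.leaf 12062)) (.node (.leaf 15493) (.leaf 18044))) (.node (.node (.leaf 36596) (.leaf 33623)) (.node (.leaf 35089) (.leaf 21265)))))) (.node (.node (.node (.node (.node (.node (.leaf 1128) (.leaf 22215)) (.leaf 35069)) (.node (.leaf 35624) (.leaf 16487))) (.node (.node (.leaf 15347) (.leaf 31321)) (.node (.leaf 9997) (.leaf 35271)))) (.node (.node (.node (.node (.leaf 4580) (.leaf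 27208)) (.leaf 13520)) (.node (.leaf 10833) (.leaf 36534))) (.node (.node (.leaf 10781) (.leaf 22256)) (.node (.leaf 33670) (.leaf 20525))))) (.node (.node (.node (.node (.node (.leaf 32467) (.leaf 36749)) (.leaf 15748)) (.node (.leaf 5242) (.leaf 16821))) (.node (.node (.leaf 13293) (.leaf 35025)) (.node (.leaf 16752) (.leaf 35409)))) (.node (.node (.node (.leaf 33393) (.leaf 12311)) (.node (.leaf 9773) (.leaf 37053))) (.node (.node (.leaf 8663) (.leaf 14853)) (.node (.leaf 33836) (.leaf 21627))))))
def dFin_2 : BT := .node dFin_0 dFin_1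
def dFin_3 : BT := .node (.node (.node (.node (.node (.node (.node (.leaf 9137) (.leaf 21796)) (.leaf 15834)) (.node (.leaf 22553) (.leaf 16080))) (.node (.node (.leaf 13043) (.leaf 12700)) (.node (.leaf 14764) (.leaf 35121)))) (.node (.node (.node (.node (.leaf 34525) (.leaf 37101)) (.leaf 11643)) (.node (.leaf 10497) (.leaf 32512))) (.node (.node (.leaf 33853) (.leaf 14209)) (.node (.leaf 31979) (.leaf 20357))))) (.node (.node (.node (.node (.node (.leaf 1568) (.leaf 23986)) (.leaf 13467)) (.node (.leaf 10433) (.leaf 24862))) (.node (.node (.leaf 9431) (.leaf 21736)) (.node (.leaf 31651) (.leaf 19683)))) (.node (.node (.node (.node (.leaf 15457) (.leaf 28637)) (.leaf 20276)) (.node (.leaf 9755) (.leaf 26452))) (.node (.node (.leaf 8068) (.leaf 14569)) (.node (.leaf 34167) (.leaf 21227)))))) (.node (.node (.node (.node (.node (.node (.leaf 520) (.leaf 36085)) (.leaf 10239)) (.node (.leaf 33509) (.leaf 16339))) (.node (.node (.leaf 9393) (.leaf 33011)) (.node (.leaf 16118) (.leaf 19175)))) (.node (.node (.node (.node (.leaf 8901) (.leaf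 36374)) (.leaf 11908)) (.node (.leaf 13656) (.leaf 17462))) (.node (.node (.leaf 7642) (.leaf 15938)) (.node (.leaf 17414) (.leaf 20493))))) (.node (.node (.node (.node (.node (.leaf 2498) (.leaf 35130)) (.leaf 11509)) (.node (.leaf 15643) (.leaf 35395))) (.node (.node (.leaf 32533) (.leaf 32751)) (.node (.leaf 22983) (.leaf 20143)))) (.node (.node (.node (.node (.leaf 9965) (.leaf 37191)) (.leaf 20512)) (.node (.leaf 10913) (.leaf 36121))) (.node (.node (.leaf 5252) (.leaf 14807)) (.node (.leaf 11169) (.leaf 36364))))))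
def dFin_4 : BT := .node (.node (.node (.node (.node (.node (.node (.leaf 9143) (.leaf 21907)) (.leaf 33231)) (.node (.leaf 9363) (.leaf 16187))) (.node (.node (.leaf 5840) (.leaf 13426)) (.node (.leaf 9835) (.leaf 19052)))) (.node (.node (.node (.node (.leaf 9060) (.leaf 26237)) (.leaf 33955)) (.node (.leaf 34341) (.leaf 17423))) (.node (.node (.leaf 15581) (.leaf 22236)) (.node (.leaf 11067) (.leaf 36238))))) (.node (.node (.node (.node (.node (.leaf 9929) (.leaf 24287)) (.leaf 13653)) (.node (.leaf 33104) (.leaf 16599))) (.node (.node (.leaf 33889) (.leaf 13957)) (.node (.leaf 10991) (.leaf 20010)))) (.node (.node (.node (.node (.leaf 5032) (.leaf 36737)) (.leaf 15728)) (.node (.leaf 33907) (.leaf 18135))) (.node (.node (.leaf 13237) (.leaf 14750)) (.node (.leaf 35081) (.leaf 35682)))))) (.node (.node (.node (.node (.node (.node (.leaf 13249) (.leaf 22249)) (.leaf 22462)) (.node (.leaf 10416) (.leaf 34989))) (.node (.node (.leaf 10625) (.leaf 13805)) (.node (.leaf 15785) (.leaf 19432)))) (.node (.node (.node (.node (.leaf 4688) (.leaf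 27298)) (.leaf 11952)) (.node (.leaf 14084) (.leaf 17651))) (.node (.node (.leaf 10797) (.leaf 30363)) (.node (.leaf 11125) (.leaf 36323))))) (.node (.node (.node (.node (.node (.leaf 10087) (.leaf 24869)) (.leaf 11580)) (.node (.leaf 12744) (.leaf 16843))) (.node (.node (.leaf 10643) (.leaf 22084)) (.node (.leaf 13558) (.leaf 36773)))) (.node (.node (.node (.leaf 33828) (.leaf 12431)) (.node (.leaf 32361) (.leaf 18593))) (.node (.node (.leaf 8677) (.leaf 36557)) (.node (.leaf 33399) (.leaf 21693))))))
def dFin_5 : BT := .node dFin_3 dFin_4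
def dFin_6 : BT := .node dFin_2 dFin_5
def dFin_7 : BT := .node (.node (.node (.node (.node (.node (.node (.leaf 13231) (.leaf 21781)) (.leaf 18338)) (.node (.leaf 11592) (.leaf 32691))) (.node (.node (.leaf 1584) (.leaf 12503)) (.node (.leaf 15519) (.leaf 35381)))) (.node (.node (.node (.node (.leaf 516) (.leaf 37168)) (.leaf 11603)) (.node (.leaf 22907) (.leaf 17257))) (.node (.node (.leaf 10667) (.leaf 20324)) (.node (.leaf 11035) (.leaf 20350))))) (.node (.node (.node (.node (.node (.leaf 9687) (.leaf 23962)) (.leaf 30963)) (.node (.leaf 33967) (.leaf 16543))) (.node (.node (.leaf 10545) (.leaf 35344)) (.node (.leaf 13564) (.leaf 19672)))) (.node (.node (.node (.node (.leaf 1238) (.leaf 37127)) (.leaf 12023)) (.node (.leaf 33273) (.leaf 17797))) (.node (.node (.leaf 9615) (.leaf 34416)) (.node (.leaf 34457) (.leaf 21203)))))) (.node (.node (.node (.node (.node (.node (.leaf 9531) (.leaf 22093)) (.leaf 18666)) (.node (.leaf 13371) (.leaf 16229))) (.node (.node (.leaf 33377) (.leaf 12899)) (.node (.leaf 9905) (.leaf 35536)))) (.node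 (.node (.node (.node (.leaf 8888) (.leaf 36370)) (.leaf 15886)) (.node (.leaf 13862) (.leaf 17451))) (.node (.node (.leaf 13395) (.leaf 34171)) (.node (.leaf 17336) (.leaf 35425))))) (.node (.node (.node (.node (.node (.leaf 2566) (.leaf 24741)) (.leaf 34845)) (.node (.leaf 12496) (.leaf 16763))) (.node (.node (.leaf 15373) (.leaf 35599)) (.node (.leaf 10997) (.leaf 36259)))) (.node (.node (.node (.node (.leaf 1519) (.leaf 37206)) (.leaf 13594)) (.node (.leaf 10911) (.leaf 36519))) (.node (.node (.leaf 9291) (.leaf 33139)) (.node (.leaf 31087) (.leaf 21585))))))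
def dFin_8 : BT := .node (.node (.node (.node (.node (.node (.node (.leaf 344) (.leaf 21896)) (.leaf 13449)) (.node (.leaf 9361) (.leaf 35533))) (.node (.node (.leaf 9119) (.leaf 12908)) (.node (.leaf 33198) (.leaf 18923)))) (.node (.node (.node (.node (.leaf 15411) (.leaf 25467)) (.leaf 34103)) (.node (.leaf 9697) (.leaf 36637))) (.node (.node (.leaf 33157) (.leaf 14247)) (.node (.leaf 32849) (.leaf 20425))))) (.node (.node (.node (.node (.node (.leaf 33879) (.leaf 35060)) (.leaf 11347)) (.node (.leaf 10455) (.leaf 16584))) (.node (.node (.leaf 9705) (.leaf 13919)) (.node (.leaf 34792) (.leaf 19991)))) (.node (.node (.node (.node (.leaf 12967) (.leaf 29051)) (.leaf 36069)) (.node (.leaf 33919) (.leaf 33141))) (.node (.node (.leaf 30854) (.leaf 14717)) (.node (.leaf 15840) (.leaf 37114)))))) (.node (.node (.node (.node (.node (.node (.leaf 286) (.leaf 33242)) (.leaf 10281)) (.node (.leaf 15557) (.leaf 36234))) (.node (.node (.leaf 9940) (.leaf 31577)) (.node (.leaf 13539) (.leaf 19283)))) (.node (.node (.node (.node (.leaf 8923) (.leaf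 27219)) (.leaf 11946)) (.node (.leaf 9743) (.leaf 34006))) (.node (.node (.leaf 7606) (.leaf 14437)) (.node (.leaf 11123) (.leaf 20530))))) (.node (.node (.node (.node (.node (.leaf 10075) (.leaf 36754)) (.leaf 35323)) (.node (.leaf 13169) (.leaf 25268))) (.node (.node (.leaf 34184) (.leaf 15956)) (.node (.leaf 32266) (.leaf 20285)))) (.node (.node (.node (.leaf 9087) (.leaf 12424)) (.node (.leaf 33991) (.leaf 18439))) (.node (.node (.leaf 34315) (.leaf 14917)) (.node (.leaf 11197) (.leaf 35838))))))
def dFin_9 : BT := .node dFin_7 dFin_8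
def dFin_10 : BT := .node (.node (.node (.node (.node (.node (.node (.leaf 9047) (.leaf 37095)) (.leaf 18378)) (.node (.leaf 13407) (.leaf 35667))) (.node (.node (.leaf 5672) (.leaf 15872)) (.node (.leaf 9818) (.leaf 18829)))) (.node (.node (.node (.node (.leaf 10165) (.leaf 25261)) (.leaf 11668)) (.node (.leaf 33396) (.leaf 17283))) (.node (.node (.leaf 34145) (.leaf 14215)) (.node (.leaf 10967) (.leaf 36094))))) (.node (.node (.node (.node (.node (.leaf 9739) (.leaf 23997)) (.leaf 11324)) (.node (.leaf 10435) (.leaf 35285))) (.node (.node (.leaf 34136) (.leaf 13901)) (.node (.leaf 10483) (.leaf 19854)))) (.node (.node (.node (.node (.leaf 9884) (.leaf 28941)) (.leaf 35185)) (.node (.leaf 14250) (.leaf 17975))) (.node (.node (.leaf 15597) (.leaf 34685)) (.node (.leaf 10173) (.leaf 35696)))))) (.node (.node (.node (.node (.node (.node (.leaf 15211) (.leaf 22137)) (.leaf 31076)) (.node (.leaf 9199) (.leaf 35221))) (.node (.node (.leaf 9195) (.leaf 13669)) (.node (.leaf 33531) (.leaf 19187)))) (.node (.node (.node (.node (.leaf 8543) (.leaf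 26941)) (.leaf 11943)) (.node (.leaf 34729) (.leaf 17473))) (.node (.node (.leaf 10773) (.leaf 36476)) (.node (.leaf 13608) (.leaf 37046))))) (.node (.node (.node (.node (.node (.leaf 13011) (.leaf 24767)) (.leaf 19448)) (.node (.leaf 33773) (.leaf 32681))) (.node (.node (.leaf 6742) (.leaf 14111)) (.node (.leaf 15897) (.leaf 36308)))) (.node (.node (.node (.node (.leaf 5384) (.leaf 37234)) (.leaf 12119)) (.node (.leaf 33690) (.leaf 18387))) (.node (.node (.leaf 8641) (.leaf 30360)) (.node (.leaf 11173) (.leaf 36378))))))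
def dFin_11 : BT := .node (.node (.node (.node (.node (.node (.node (.leaf 440) (.leaf 36540)) (.leaf 10223)) (.node (.leaf 11678) (.leaf 16196))) (.node (.node (.leaf 9165) (.leaf 21282)) (.node (.leaf 10923) (.leaf 23199)))) (.node (.node (.node (.node (.leaf 1103) (.leaf 26454)) (.leaf 11729)) (.node (.leaf 15565) (.leaf 36680))) (.node (.node (.leaf 33770) (.leaf 33018)) (.node (.leaf 33846) (.leaf 20453))))) (.node (.node (.node (.node (.node (.leaf 9843) (.leaf 36976)) (.leaf 11421)) (.node (.leaf 33997) (.leaf 16651))) (.node (.node (.leaf 10577) (.leaf 21878)) (.node (.leaf 35336) (.leaf 20023)))) (.node (.node (.node (.node (.leaf 8855) (.leaf 36699)) (.leaf 20460)) (.node (.leaf 13574) (.leaf 35785))) (.node (.node (.leaf 33734) (.leaf 15908)) (.node (.leaf 7492) (.leaf 21405)))))) (.node (.node (.node (.node (.node (.node (.leaf 1326) (.leaf 36862)) (.leaf 15756)) (.node (.leaf 12044) (.leaf 16521))) (.node (.node (.leaf 13283) (.leaf 21676)) (.node (.leaf 9406) (.leaf 32715)))) (.node (.node (.node (.node (.leaf 32675) (.leaf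 36956)) (.leaf 11971)) (.node (.leaf 10851) (.leaf 34055))) (.node (.node (.leaf 7940) (.leaf 14457)) (.node (.leaf 33284) (.leaf 20821))))) (.node (.node (.node (.node (.node (.leaf 34659) (.leaf 24894)) (.leaf 13452)) (.node (.leaf 8937) (.leaf 17008))) (.node (.node (.leaf 9487) (.leaf 14180)) (.node (.leaf 16204) (.leaf 20321)))) (.node (.node (.node (.leaf 15253) (.leaf 33596)) (.node (.leaf 9797) (.leaf 27204))) (.node (.node (.leaf 11500) (.leaf 14949)) (.node (.leaf 32901) (.leaf 21725))))))
def dFin_12 : BT := .node dFin_10 dFin_11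
def dFin_13 : BT := .node dFin_9 dFin_12
def dFin_14 : BT := .node dFin_6 dFin_13
def dFin_15 : BT := .node (.node (.node (.node (.node (.node (.node (.leaf 8) (.leaf 21772)) (.leaf 11225)) (.node (.leaf 22527) (.leaf 16065))) (.node (.node (.leaf 10337) (.leaf 33703)) (.node (.leaf 9803) (.leaf 35535)))) (.node (.node (.node (.node (.leaf 1242) (.leaf 37087)) (.leaf 11599)) (.node (.leaf 15503) (.leaf 35585))) (.node (.node (.leaf 10660) (.leaf 35325)) (.node (.leaf 31551) (.leaf 20339))))) (.node (.node (.node (.node (.node (.leaf 1520) (.leaf 23960)) (.leaf 11293)) (.node (.leaf 34867) (.leaf 16535))) (.node (.node (.leaf 10541) (.leaf 34062)) (.node (.leaf 31529) (.leaf 19551)))) (.node (.node (.node (.node (.leaf 9873) (.leaf 36933)) (.leaf 36526)) (.node (.leaf 13367) (.leaf 36209))) (.node (.node (.leaf 34187) (.leaf 15851)) (.node (.leaf 14484) (.leaf 21195)))))) (.node (.node (.node (.node (.node (.node (.leaf 510) (.leaf 36268)) (.leaf 15812)) (.node (.leaf 10535) (.leaf 16221))) (.node (.node (.leaf 13199) (.leaf 12912)) (.node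 (.leaf 14938) (.leaf 32631)))) (.node (.node (.node (.node (.leaf 32665) (.leaf 36783)) (.leaf 11877)) (.node (.leaf 9711) (.leaf 35815))) (.node (.node (.leaf 7600) (.leaf 14281)) (.node (.leaf 13966) (.leaf 20469))))) (.node (.node (.node (.node (.node (.leaf 2546) (.leaf 24736)) (.leaf 13644)) (.node (.leaf 9257) (.leaf 16754))) (.node (.node (.leaf 10509) (.leaf 35671)) (.node (.leaf 30891) (.leaf 20045)))) (.node (.node (.node (.node (.leaf 15345) (.leaf 37165)) (.leaf 20486)) (.node (.leaf 10907) (.leaf 35175))) (.node (.node (.leaf 11284) (.leaf 14775)) (.node (.leaf 34409) (.leaf 21577))))))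
def dFin_16 : BT := .node (.node (.node (.node (.node (.node (.node (.leaf 15113) (.leaf 21893)) (.leaf 31141)) (.node (.leaf 9357) (.leaf 35438))) (.node (.node (.leaf 12951) (.leaf 12723)) (.node (.leaf 32235) (.leaf 18915)))) (.node (.node (.node (.node (.leaf 9027) (.leaf 25459)) (.leaf 22749)) (.node (.leaf 33402) (.leaf 17349))) (.node (.node (.leaf 9551) (.leaf 33533)) (.node (.leaf 13471) (.leaf 36218))))) (.node (.node (.node (.node (.node (.leaf 12975) (.leaf 24073)) (.leaf 19160)) (.node (.leaf 34625) (.leaf 35147))) (.node (.node (.leaf 6098) (.leaf 13913)) (.node (.leaf 15860) (.leaf 34829)))) (.node (.node (.node (.node (.leaf 8803) (.leaf 29042)) (.leaf 12066)) (.node (.leaf 5666) (.leaf 18051))) (.node (.node (.leaf 9657) (.leaf 35487)) (.node (.leaf 10179) (.leaf 21401)))))) (.node (.node (.node (.node (.node (.node (.leaf 8629) (.leaf 22223)) (.leaf 35354)) (.node (.leaf 10395) (.leaf 20148))) (.node (.node (.leaf 23891) (.leaf 13713)) (.node (.leaf 10001) (.leaf 35475)))) (.node (.node (.node (.node (.leaf 8916) (.leaf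 27211)) (.leaf 34363)) (.node (.leaf 34556) (.leaf 17487))) (.node (.node (.leaf 15589) (.leaf 14428)) (.node (.leaf 11119) (.leaf 36911))))) (.node (.node (.node (.node (.node (.leaf 10071) (.leaf 24819)) (.leaf 33693)) (.node (.leaf 12694) (.leaf 16829))) (.node (.node (.leaf 31859) (.leaf 14123)) (.node (.leaf 11021) (.leaf 36920)))) (.node (.node (.node (.leaf 5428) (.leaf 15708)) (.node (.leaf 5835) (.leaf 18431))) (.node (.node (.leaf 13025) (.leaf 31189)) (.node (.leaf 18128) (.leaf 36380))))))
def dFin_17 : BT := .node dFin_15 dFin_16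
def dFin_18 : BT := .node (.node (.node (.node (.node (.node (.node (.leaf 9043) (.leaf 21803)) (.leaf 34246)) (.node (.leaf 11664) (.leaf 16088))) (.node (.node (.leaf 34575) (.leaf 12703)) (.node (.leaf 9815) (.leaf 37019)))) (.node (.node (.node (.node (.leaf 3236) (.leaf 25252)) (.leaf 15770)) (.node (.leaf 34852) (.leaf 17275))) (.node (.node (.leaf 13387) (.leaf 14212)) (.node (.leaf 17006) (.leaf 35417))))) (.node (.node (.node (.node (.node (.leaf 1592) (.leaf 23989)) (.leaf 31983)) (.node (.leaf 33863) (.leaf 16558))) (.node (.node (.leaf 15359) (.leaf 35367)) (.node (.leaf 10479) (.leaf 36423)))) (.node (.node (.node (.node (.leaf 34139) (.leaf 36934)) (.leaf 13588)) (.node (.leaf 9759) (.leaf 36508))) (.node (.node (.leaf 9635) (.leaf 14608)) (.node (.leaf 13542) (.leaf 21235)))))) (.node (.node (.node (.node (.node (.node (.leaf 8741) (.leaf 22129)) (.leaf 8072)) (.node (.leaf 13209) (.leaf 16347))) (.node (.node (.leaf 9397) (.leaf 13660)) (.node (.leaf 13616) (.leaf 36066)))) (.node (.node (.node (.node (.leaf 8649) (.leaf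 36286)) (.leaf 11915)) (.node (.leaf 34233) (.leaf 17465))) (.node (.node (.leaf 10769) (.leaf 14380)) (.node (.leaf 35930) (.leaf 20501))))) (.node (.node (.node (.node (.node (.leaf 442) (.leaf 35136)) (.leaf 11513)) (.node (.leaf 34069) (.leaf 16783))) (.node (.node (.leaf 10599) (.leaf 14106)) (.node (.leaf 11003) (.leaf 20262)))) (.node (.node (.node (.node (.leaf 32590) (.leaf 37218)) (.leaf 12115)) (.node (.leaf 15501) (.leaf 26934))) (.node (.node (.leaf 11342) (.leaf 32446)) (.node (.leaf 33634) (.leaf 21600))))))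
def dFin_19 : BT := .node (.node (.node (.node (.node (.node (.node (.leaf 416) (.leaf 37240)) (.leaf 10219)) (.node (.leaf 15621) (.leaf 34298))) (.node (.node (.leaf 9158) (.leaf 33885)) (.node (.leaf 34279) (.leaf 19061)))) (.node (.node (.node (.node (.leaf 9067) (.leaf 26245)) (.leaf 23175)) (.node (.leaf 10819) (.leaf 17429))) (.node (.node (.leaf 32920) (.leaf 14261)) (.node (.leaf 11071) (.leaf 36629))))) (.node (.node (.node (.node (.node (.leaf 9933) (.leaf 36481)) (.leaf 33973)) (.node (.leaf 13159) (.leaf 32273))) (.node (.node (.leaf 31994) (.leaf 15867)) (.node (.leaf 16532) (.leaf 20015)))) (.node (.node (.node (.node (.leaf 8851) (.leaf 29127)) (.leaf 20420)) (.node (.leaf 14426) (.leaf 18143))) (.node (.node (.leaf 34711) (.leaf 14753)) (.node (.leaf 10191) (.leaf 35689)))))) (.node (.node (.node (.node (.node (.node (.leaf 33507) (.leaf 36856)) (.leaf 11271)) (.node (.leaf 10423) (.leaf 34924))) (.node (.node (.leaf 6336) (.leaf 13811)) (.node (.leaf 35051) (.leaf 19441)))) (.node (.node (.node (.node (.leaf 13273)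 (.leaf 27307)) (.leaf 20132)) (.node (.leaf 10844) (.leaf 33237))) (.node (.node (.leaf 33633) (.leaf 14451)) (.node (.leaf 15858) (.leaf 36311))))) (.node (.node (.node (.node (.node (.leaf 15385) (.leaf 24877)) (.leaf 11578)) (.node (.leaf 8933) (.leaf 35556))) (.node (.node (.leaf 6344) (.leaf 14163)) (.node (.leaf 32275) (.leaf 20313)))) (.node (.node (.node (.leaf 10317) (.leaf 12485)) (.node (.leaf 9790) (.leaf 18601))) (.node (.node (.leaf 8681) (.leaf 14940)) (.node (.leaf 13490) (.leaf 21720))))))
def dFin_20 : BT := .node dFin_18 dFin_19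
def dFin_21 : BT := .node dFin_17 dFin_20
def dFin_22 : BT := .node (.node (.node (.node (.node (.node (.node (.leaf 34343) (.leaf 35471)) (.leaf 11235)) (.node (.leaf 9343) (.leaf 16078))) (.node (.node (.leaf 1582) (.leaf 12507)) (.node (.leaf 34674) (.leaf 18675)))) (.node (.node (.node (.node (.leaf 13105) (.leaf 24945)) (.leaf 11640)) (.node (.leaf 10490) (.leaf 32031))) (.node (.node (.leaf 7276) (.leaf 14203)) (.node (.leaf 15960) (.leaf 20348))))) (.node (.node (.node (.node (.node (.leaf 15181) (.leaf 23970)) (.leaf 11298)) (.node (.leaf 10429) (.leaf 35587))) (.node (.node (.leaf 2562) (.leaf 13884)) (.node (.leaf 31593) (.leaf 19675)))) (.node (.node (.node (.node (.leaf 8791) (.leaf 28629)) (.leaf 12057)) (.node (.leaf 13152) (.leaf 17805))) (.node (.node (.leaf 9619) (.leaf 35267)) (.node (.leaf 13500) (.leaf 37109)))))) (.node (.node (.node (.node (.node (.node (.leaf 9535) (.leaf 36272)) (.leaf 36600)) (.node (.leaf 13373) (.leaf 23933))) (.node (.node (.leaf 6094) (.leaf 15791)) (.node (.leaf 16058) (.leaf 19167)))) (.node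 (.node (.node (.node (.leaf 8897) (.leaf 26919)) (.leaf 35521)) (.node (.leaf 35095) (.leaf 17459))) (.node (.node (.leaf 32197) (.leaf 14365)) (.node (.leaf 10103) (.leaf 37050))))) (.node (.node (.node (.node (.node (.leaf 10023) (.leaf 24749)) (.leaf 32299)) (.node (.leaf 9259) (.leaf 34191))) (.node (.node (.leaf 2848) (.leaf 14093)) (.node (.leaf 11001) (.leaf 36641)))) (.node (.node (.node (.node (.leaf 5320) (.leaf 37177)) (.leaf 35209)) (.node (.leaf 14442) (.leaf 18353))) (.node (.node (.leaf 15551) (.leaf 14800)) (.node (.leaf 11165) (.leaf 36362))))))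
def dFin_23 : BT := .node (.node (.node (.node (.node (.node (.node (.leaf 33389) (.leaf 21899)) (.leaf 34415)) (.node (.leaf 33039) (.leaf 16129))) (.node (.node (.leaf 15289) (.leaf 12748)) (.node (.leaf 9831) (.leaf 19070)))) (.node (.node (.node (.node (.leaf 34656) (.leaf 36928)) (.leaf 13478)) (.node (.leaf 9701) (.leaf 36537))) (.node (.node (.leaf 10709) (.leaf 14254)) (.node (.leaf 6882) (.leaf 20433))))) (.node (.node (.node (.node (.node (.leaf 9957) (.leaf 34826)) (.leaf 15794)) (.node (.leaf 5023) (.leaf 16591))) (.node (.node (.leaf 12947) (.leaf 34018)) (.node (.leaf 10984) (.leaf 34823)))) (.node (.node (.node (.node (.leaf 34577) (.leaf 37179)) (.leaf 12075)) (.node (.leaf 10891) (.leaf 36609))) (.node (.node (.leaf 3536) (.leaf 14723)) (.node (.leaf 7396) (.leaf 21291)))))) (.node (.node (.node (.node (.node (.node (.leaf 1234) (.leaf 36888)) (.leaf 10285)) (.node (.leaf 33682) (.leaf 16507))) (.node (.node (.leaf 9947) (.leaf 21606)) (.node (.leaf 9399) (.leaf 19554)))) (.node (.node (.node (.node (.leaf 10369) (.leaf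 36451)) (.leaf 11948)) (.node (.leaf 15485) (.leaf 17642))) (.node (.node (.leaf 36599) (.leaf 33145)) (.node (.leaf 17658) (.leaf 20539))))) (.node (.node (.node (.node (.node (.leaf 2552) (.leaf 35826)) (.leaf 11571)) (.node (.leaf 32919) (.leaf 16835))) (.node (.node (.leaf 10635) (.leaf 34487)) (.node (.leaf 6516) (.leaf 20293)))) (.node (.node (.node (.leaf 9091) (.leaf 35312)) (.node (.leaf 13632) (.leaf 35925))) (.node (.node (.leaf 34851) (.leaf 15892)) (.node (.leaf 33395) (.leaf 21685))))))
def dFin_24 : BT := .node dFin_22 dFin_23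
def dFin_25 : BT := .node (.node (.node (.node (.node (.node (.node (.leaf 282) (.leaf 37208)) (.leaf 11247)) (.node (.leaf 33079) (.leaf 16097))) (.node (.node (.leaf 10357) (.leaf 33745)) (.node (.leaf 14798) (.leaf 18837)))) (.node (.node (.node (.node (.leaf 10169) (.leaf 36950)) (.leaf 33650)) (.node (.leaf 13531) (.leaf 36916))) (.node (.node (.leaf 13333) (.leaf 15948)) (.node (.leaf 22547) (.leaf 20382))))) (.node (.node (.node (.node (.node (.leaf 360) (.leaf 36954)) (.leaf 11333)) (.node (.leaf 15631) (.leaf 35403))) (.node (.node (.leaf 10556) (.leaf 34767)) (.node (.leaf 6342) (.leaf 19863)))) (.node (.node (.node (.node (.leaf 9891) (.leaf 28949)) (.leaf 13155)) (.node (.leaf 10871) (.leaf 33136))) (.node (.node (.leaf 8140) (.leaf 14615)) (.node (.leaf 10177) (.leaf 35706)))))) (.node (.node (.node (.node (.node (.node (.leaf 280) (.leaf 31186)) (.leaf 13600)) (.node (.leaf 9203) (.leaf 35315))) (.node (.node (.leaf 8945) (.leaf 31261)) (.node (.leaf 6096) (.leaf 19195)))) (.node (.node (.node (.node (.leaf 15435) (.leaf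 26949)) (.leaf 35507)) (.node (.leaf 10829) (.leaf 35811))) (.node (.node (.leaf 7674) (.leaf 14389)) (.node (.leaf 35015) (.leaf 20517))))) (.node (.node (.node (.node (.node (.leaf 33495) (.leaf 36751)) (.leaf 11521)) (.node (.leaf 9271) (.leaf 35453))) (.node (.node (.leaf 2860) (.leaf 14117)) (.node (.leaf 34614) (.leaf 20269)))) (.node (.node (.node (.node (.leaf 13071) (.leaf 37227)) (.leaf 12308)) (.node (.leaf 9766) (.leaf 35001))) (.node (.node (.leaf 34308) (.leaf 14847)) (.node (.leaf 15719) (.leaf 21620))))))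
def dFin_26 : BT := .node (.node (.node (.node (.node (.node (.node (.leaf 13077) (.leaf 21923)) (.leaf 18622)) (.node (.leaf 32313) (.leaf 33797))) (.node (.node (.leaf 1786) (.leaf 12773)) (.node (.leaf 15545) (.leaf 19082)))) (.node (.node (.node (.node (.leaf 4384) (.leaf 36312)) (.leaf 11733)) (.node (.leaf 5432) (.leaf 17436))) (.node (.node (.leaf 10735) (.leaf 34094)) (.node (.leaf 11075) (.leaf 36662))))) (.node (.node (.node (.node (.node (.leaf 9281) (.leaf 24365)) (.leaf 34985)) (.node (.leaf 9765) (.leaf 16659))) (.node (.node (.leaf 10583) (.leaf 14058)) (.node (.leaf 13620) (.leaf 20034)))) (.node (.node (.node (.node (.leaf 5238) (.leaf 37146)) (.leaf 12091)) (.node (.leaf 33720) (.leaf 18287))) (.node (.node (.leaf 8655) (.leaf 23778)) (.node (.leaf 31083) (.leaf 21413)))))) (.node (.node (.node (.node (.node (.node (.leaf 8597) (.leaf 23787)) (.leaf 32539)) (.node (.leaf 12108) (.leaf 16529))) (.node (.node (.leaf 34201) (.leaf 13865)) (.node (.leaf 9413) (.leaf 23162)))) (.node (.node (.node (.node (.leaf 1230) (.leaf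 36974)) (.leaf 15880)) (.node (.leaf 33963) (.leaf 17717))) (.node (.node (.leaf 13021) (.leaf 14472)) (.node (.leaf 34159) (.leaf 35035))))) (.node (.node (.node (.node (.node (.leaf 3062) (.leaf 24897)) (.leaf 32051)) (.node (.leaf 32615) (.leaf 17017))) (.node (.node (.leaf 15573) (.leaf 37080)) (.node (.leaf 10051) (.leaf 36458)))) (.node (.node (.node (.leaf 34117) (.leaf 13580)) (.node (.leaf 9801) (.leaf 36529))) (.node (.node (.leaf 9331) (.leaf 16075)) (.node (.leaf 33405) (.leaf 21733))))))
def dFin_27 : BT := .node dFin_25 dFin_26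
def dFin_28 : BT := .node dFin_24 dFin_27
def dFin_29 : BT := .node dFin_21 dFin_28
def dFin_30 : BT := .node dFin_14 dFin_29
def dFin_31 : BT := .node (.node (.node (.node (.node (.node (.node (.leaf 4) (.leaf 36983)) (.leaf 11223)) (.node (.leaf 32721) (.leaf 16061))) (.node (.node (.leaf 10335) (.leaf 34419)) (.node (.leaf 32937) (.leaf 18637)))) (.node (.node (.node (.node (.leaf 10147) (.leaf 37092)) (.leaf 11594)) (.node (.leaf 13428) (.leaf 35675))) (.node (.node (.leaf 34143) (.leaf 15737)) (.node (.leaf 6692) (.leaf 20335))))) (.node (.node (.node (.node (.node (.leaf 1506) (.leaf 36554)) (.leaf 11291)) (.node (.leaf 15627) (.leaf 35496))) (.node (.node (.leaf 6408) (.leaf 34765)) (.node (.leaf 31633) (.leaf 19547)))) (.node (.node (.node (.node (.leaf 9871) (.leaf 28189)) (.leaf 35357)) (.node (.leaf 10863) (.leaf 36139))) (.node (.node (.leaf 8010) (.leaf 14479)) (.node (.leaf 11147) (.leaf 21190)))))) (.node (.node (.node (.node (.node (.node (.leaf 506) (.leaf 36260)) (.leaf 13604)) (.node (.leaf 9377) (.leaf 24358))) (.node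 (.node (.leaf 10375) (.leaf 12894)) (.node (.leaf 13202) (.leaf 19095)))) (.node (.node (.node (.node (.leaf 15333) (.leaf 26467)) (.leaf 34301)) (.node (.leaf 9709) (.leaf 17446))) (.node (.node (.leaf 31962) (.leaf 14279)) (.node (.leaf 32471) (.leaf 20465))))) (.node (.node (.node (.node (.node (.leaf 32023) (.leaf 24738)) (.leaf 11429)) (.node (.leaf 9255) (.leaf 35686))) (.node (.node (.leaf 6736) (.leaf 14069)) (.node (.leaf 31930) (.leaf 20041)))) (.node (.node (.node (.node (.leaf 13067) (.leaf 37159)) (.leaf 36105)) (.node (.leaf 33557) (.leaf 33803))) (.node (.node (.leaf 11264) (.leaf 14771)) (.node (.leaf 15738) (.leaf 36801))))))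
def dFin_32 : BT := .node (.node (.node (.node (.node (.node (.node (.leaf 13133) (.leaf 21889)) (.leaf 7676)) (.node (.leaf 32251) (.leaf 34371))) (.node (.node (.leaf 1634) (.leaf 12721)) (.node (.leaf 15523) (.leaf 37083)))) (.node (.node (.node (.node (.leaf 9115) (.leaf 35816)) (.leaf 11677)) (.node (.leaf 33839) (.leaf 17345))) (.node (.node (.leaf 9549) (.leaf 32515)) (.node (.leaf 11047) (.leaf 36229))))) (.node (.node (.node (.node (.node (.leaf 8767) (.leaf 24069)) (.leaf 34611)) (.node (.leaf 4878) (.leaf 16579))) (.node (.node (.leaf 10565) (.leaf 35549)) (.node (.leaf 13517) (.leaf 19984)))) (.node (.node (.node (.node (.leaf 12961) (.leaf 37181)) (.leaf 12064)) (.node (.leaf 32989) (.leaf 18047))) (.node (.node (.leaf 9655) (.leaf 35559)) (.node (.leaf 34949) (.leaf 21269)))))) (.node (.node (.node (.node (.node (.node (.leaf 8627) (.leaf 22219)) (.leaf 8142)) (.node (.leaf 35339) (.leaf 16491))) (.node (.node (.leaf 32679) (.leaf 13709)) (.node (.leaf 9999) (.leaf 35275)))) (.node (.node (.node (.node (.leaf 4588) (.leaf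 35378)) (.leaf 15878)) (.node (.leaf 34554) (.leaf 17483))) (.node (.node (.leaf 13399) (.leaf 14430)) (.node (.leaf 33903) (.leaf 35429))))) (.node (.node (.node (.node (.node (.leaf 10066) (.leaf 24815)) (.leaf 32057)) (.node (.leaf 5240) (.leaf 16825))) (.node (.node (.leaf 15377) (.leaf 14120)) (.node (.leaf 11019) (.leaf 37072)))) (.node (.node (.node (.leaf 1528) (.leaf 13440)) (.node (.leaf 9775) (.leaf 18426))) (.node (.node (.leaf 8665) (.leaf 30980)) (.node (.leaf 31113) (.leaf 21631))))))
def dFin_33 : BT := .node dFin_31 dFin_32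
def dFin_34 : BT := .node (.node (.node (.node (.node (.node (.node (.leaf 9595) (.leaf 21799)) (.leaf 34515)) (.node (.leaf 11638) (.leaf 16084))) (.node (.node (.leaf 15261) (.leaf 12696)) (.node (.leaf 9813) (.leaf 37015)))) (.node (.node (.node (.node (.leaf 3228) (.leaf 25254)) (.leaf 13476)) (.node (.leaf 10499) (.leaf 35139))) (.node (.node (.leaf 10689) (.leaf 36118)) (.node (.leaf 31300) (.leaf 20361))))) (.node (.node (.node (.node (.node (.leaf 1572) (.leaf 36735)) (.leaf 15763)) (.node (.leaf 4865) (.leaf 16554))) (.node (.node (.leaf 13093) (.leaf 13894)) (.node (.leaf 33916) (.leaf 33071)))) (.node (.node (.node (.node (.leaf 34349) (.leaf 36763)) (.leaf 12047)) (.node (.leaf 9757) (.leaf 35382))) (.node (.node (.leaf 30914) (.leaf 14571)) (.node (.leaf 34398) (.leaf 21231)))))) (.node (.node (.node (.node (.node (.node (.leaf 96) (.leaf 35530)) (.leaf 10241)) (.node (.leaf 4694) (.leaf 16343))) (.node (.node (.leaf 9395) (.leaf 32296)) (.node (.leaf 10933) (.leaf 35488)))) (.node (.node (.node (.node (.leaf 4452) (.leaf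 36382)) (.leaf 11913)) (.node (.leaf 15511) (.leaf 35933))) (.node (.node (.leaf 34257) (.leaf 32507)) (.node (.leaf 17460) (.leaf 20497))))) (.node (.node (.node (.node (.node (.leaf 2564) (.leaf 35132)) (.leaf 11511)) (.node (.leaf 33995) (.leaf 16779))) (.node (.node (.leaf 10597) (.leaf 35699)) (.node (.leaf 32554) (.leaf 20147)))) (.node (.node (.node (.node (.leaf 9967) (.leaf 37197)) (.leaf 20528)) (.node (.leaf 13576) (.leaf 36042))) (.node (.node (.leaf 11322) (.leaf 15823)) (.node (.leaf 33630) (.leaf 21596))))))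
def dFin_35 : BT := .node (.node (.node (.node (.node (.node (.node (.leaf 9145) (.leaf 36275)) (.leaf 18588)) (.node (.leaf 13411) (.leaf 24276))) (.node (.node (.leaf 5848) (.leaf 15788)) (.node (.leaf 10920) (.leaf 19057)))) (.node (.node (.node (.node (.leaf 9065) (.leaf 26241)) (.leaf 32451)) (.node (.leaf 34836) (.leaf 17427))) (.node (.node (.leaf 33767) (.leaf 14257)) (.node (.leaf 11069) (.leaf 36267))))) (.node (.node (.node (.node (.node (.leaf 9931) (.leaf 24291)) (.leaf 22804)) (.node (.leaf 9243) (.leaf 23938))) (.node (.node (.leaf 22524) (.leaf 13961)) (.node (.leaf 10993) (.leaf 35819)))) (.node (.node (.node (.node (.leaf 8846) (.leaf 29123)) (.leaf 35197)) (.node (.leaf 5670) (.leaf 18139))) (.node (.node (.leaf 15601) (.leaf 14748)) (.node (.leaf 10189) (.leaf 35660)))))) (.node (.node (.node (.node (.node (.node (.leaf 15237) (.leaf 22253)) (.leaf 31192)) (.node (.leaf 10421) (.leaf 34920))) (.node (.node (.leaf 2550) (.leaf 13809)) (.node (.leaf 33523) (.leaf 19437)))) (.node (.node (.node (.node (.leaf 9849) (.leaf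 27303)) (.leaf 11968)) (.node (.leaf 14104) (.leaf 17655))) (.node (.node (.leaf 10799) (.leaf 14446)) (.node (.leaf 13508) (.leaf 36307))))) (.node (.node (.node (.node (.node (.leaf 13305) (.leaf 24873)) (.leaf 19552)) (.node (.leaf 12766) (.leaf 34935))) (.node (.node (.leaf 7044) (.leaf 14159)) (.node (.leaf 15972) (.leaf 28934)))) (.node (.node (.node (.leaf 5526) (.leaf 12433)) (.node (.leaf 33595) (.leaf 18597))) (.node (.node (.leaf 8679) (.leaf 23972)) (.node (.leaf 11211) (.leaf 21722))))))
def dFin_36 : BT := .node dFin_34 dFin_35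
def dFin_37 : BT := .node dFin_33 dFin_36
def dFin_38 : BT := .node (.node (.node (.node (.node (.node (.node (.leaf 15213) (.leaf 21785)) (.leaf 30917)) (.node (.leaf 9341) (.leaf 34269))) (.node (.node (.leaf 1586) (.leaf 12505)) (.node (.leaf 32241) (.leaf 18671)))) (.node (.node (.node (.node (.leaf 9011) (.leaf 24941)) (.leaf 33612)) (.node (.leaf 31585) (.leaf 17261))) (.node (.node (.leaf 10669) (.leaf 36479)) (.node (.leaf 13544) (.leaf 36329))))) (.node (.node (.node (.node (.node (.leaf 12997) (.leaf 23966)) (.leaf 19098)) (.node (.leaf 33327) (.leaf 35145))) (.node (.node (.leaf 6030) (.leaf 13880)) (.node (.leaf 15907) (.leaf 19670)))) (.node (.node (.node (.node (.leaf 1236) (.leaf 36642)) (.leaf 12025)) (.node (.leaf 14196) (.leaf 17801))) (.node (.node (.leaf 9617) (.leaf 33629)) (.node (.leaf 11153) (.leaf 33752)))))) (.node (.node (.node (.node (.node (.node (.leaf 9533) (.leaf 22097)) (.leaf 31365)) (.node (.leaf 10385) (.leaf 32269))) (.node (.node (.leaf 5316) (.leaf 13425)) (.node (.leaf 9907) (.leaf 36149)))) (.node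 (.node (.node (.node (.leaf 33275) (.leaf 26915)) (.leaf 34285)) (.node (.leaf 13892) (.leaf 17455))) (.node (.node (.leaf 15585) (.leaf 33309)) (.node (.leaf 10101) (.leaf 36157))))) (.node (.node (.node (.node (.node (.leaf 10021) (.leaf 24745)) (.leaf 33023)) (.node (.leaf 33988) (.leaf 16767))) (.node (.node (.leaf 31987) (.leaf 14089)) (.node (.leaf 10999) (.leaf 35644)))) (.node (.node (.node (.node (.leaf 9954) (.leaf 37202)) (.leaf 15732)) (.node (.leaf 34091) (.leaf 18347))) (.node (.node (.leaf 13369) (.leaf 33149)) (.node (.leaf 36603) (.leaf 36372))))))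
def dFin_39 : BT := .node (.node (.node (.node (.node (.node (.node (.leaf 9134) (.leaf 36198)) (.leaf 15745)) (.node (.leaf 4592) (.leaf 16125))) (.node (.node (.leaf 12935) (.leaf 13537)) (.node (.leaf 14840) (.leaf 35511)))) (.node (.node (.node (.node (.leaf 33999) (.leaf 37238)) (.leaf 11685)) (.node (.leaf 9699) (.leaf 36178))) (.node (.node (.leaf 7496) (.leaf 14249)) (.node (.leaf 33858) (.leaf 20429))))) (.node (.node (.node (.node (.node (.leaf 1517) (.leaf 24278)) (.leaf 13626)) (.node (.leaf 10457) (.leaf 36367))) (.node (.node (.leaf 9441) (.leaf 13952)) (.node (.leaf 11954) (.leaf 19995)))) (.node (.node (.node (.node (.leaf 15471) (.leaf 29055)) (.leaf 36079)) (.node (.leaf 10889) (.leaf 36943))) (.node (.node (.leaf 35353) (.leaf 14721)) (.node (.leaf 34965) (.leaf 21287)))))) (.node (.node (.node (.node (.node (.node (.leaf 284) (.leaf 33248)) (.leaf 10283)) (.node (.leaf 33521) (.leaf 16503))) (.node (.node (.leaf 9945) (.leaf 36390)) (.node (.leaf 12764) (.leaf 19287)))) (.node (.node (.node (.node (.leaf 8925) (.leaf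 36620)) (.leaf 34553)) (.node (.leaf 13143) (.leaf 17644))) (.node (.node (.leaf 31110) (.leaf 15936)) (.node (.leaf 34088) (.leaf 20535))))) (.node (.node (.node (.node (.node (.leaf 10519) (.leaf 37198)) (.leaf 11569)) (.node (.leaf 15559) (.leaf 16832))) (.node (.node (.leaf 33324) (.leaf 34385)) (.node (.leaf 32270) (.leaf 20289)))) (.node (.node (.node (.leaf 9089) (.leaf 33567)) (.node (.leaf 9783) (.leaf 35917))) (.node (.node (.leaf 34899) (.leaf 14925)) (.node (.leaf 11199) (.leaf 36486))))))
def dFin_40 : BT := .node dFin_38 dFin_39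
def dFin_41 : BT := .node (.node (.node (.node (.node (.node (.node (.leaf 81) (.leaf 21880)) (.leaf 11245)) (.node (.leaf 15617) (.leaf 35512))) (.node (.node (.leaf 10352) (.leaf 33825)) (.node (.leaf 33637) (.leaf 18833)))) (.node (.node (.node (.node (.leaf 10167) (.leaf 25265)) (.leaf 33964)) (.node (.leaf 10809) (.leaf 37038))) (.node (.node (.leaf 7394) (.leaf 14219)) (.node (.leaf 10969) (.leaf 29040))))) (.node (.node (.node (.node (.node (.leaf 9741) (.leaf 36742)) (.leaf 34211)) (.node (.leaf 13421) (.leaf 24892))) (.node (.node (.leaf 6510) (.leaf 15924)) (.node (.leaf 10026) (.leaf 19859)))) (.node (.node (.node (.node (.leaf 9889) (.leaf 28945)) (.leaf 20306)) (.node (.leaf 14266) (.leaf 17979))) (.node (.node (.leaf 34627) (.leaf 14611)) (.node (.leaf 10175) (.leaf 35700)))))) (.node (.node (.node (.node (.node (.node (.leaf 34337) (.leaf 33540)) (.leaf 10257)) (.node (.leaf 9201) (.leaf 16478))) (.node (.node (.leaf 2494) (.leaf 13671)) (.node (.leaf 12906) (.leaf 19191)))) (.node (.node (.node (.node (.leaf 13123) (.leaf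 26945)) (.leaf 35633)) (.node (.leaf 34031) (.leaf 35299))) (.node (.node (.leaf 10774) (.leaf 14385)) (.node (.leaf 15864) (.leaf 37054))))) (.node (.node (.node (.node (.node (.leaf 15185) (.leaf 24771)) (.leaf 11516)) (.node (.leaf 9269) (.leaf 35449))) (.node (.node (.leaf 31548) (.leaf 14115)) (.node (.leaf 32559) (.leaf 20265)))) (.node (.node (.node (.node (.leaf 10299) (.leaf 37223)) (.leaf 34483)) (.node (.leaf 9762) (.leaf 18391))) (.node (.node (.leaf 8643) (.leaf 14842)) (.node (.leaf 13494) (.leaf 36691))))))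
def dFin_42 : BT := .node (.node (.node (.node (.node (.node (.node (.leaf 9465) (.leaf 21919)) (.leaf 35073)) (.node (.leaf 31224) (.leaf 16200))) (.node (.node (.leaf 9167) (.leaf 12768)) (.node (.leaf 13299) (.leaf 19084)))) (.node (.node (.node (.node (.leaf 8864) (.leaf 36624)) (.leaf 11731)) (.node (.leaf 33777) (.leaf 17432))) (.node (.node (.leaf 10733) (.leaf 22226)) (.node (.leaf 30461) (.leaf 20457))))) (.node (.node (.node (.node (.node (.leaf 2492) (.leaf 24360)) (.leaf 11423)) (.node (.leaf 12422) (.leaf 16655))) (.node (.node (.leaf 10579) (.leaf 21910)) (.node (.leaf 10039) (.leaf 24950)))) (.node (.node (.node (.node (.leaf 1515) (.leaf 37140)) (.leaf 12089)) (.node (.leaf 15497) (.leaf 34537))) (.node (.node (.leaf 33368) (.leaf 33909)) (.node (.leaf 17962) (.leaf 21409)))))) (.node (.node (.node (.node (.node (.node (.leaf 1332) (.leaf 23783)) (.leaf 32765)) (.node (.leaf 12082) (.leaf 16525))) (.node (.node (.leaf 15353) (.leaf 35092)) (.node (.leaf 9411) (.leaf 34484)))) (.node (.node (.node (.node (.leaf 4686) (.leaf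 36930)) (.leaf 13522)) (.node (.leaf 10853) (.leaf 36877))) (.node (.node (.leaf 9577) (.leaf 17726)) (.node (.leaf 11136) (.leaf 20825))))) (.node (.node (.node (.node (.node (.leaf 512) (.leaf 35404)) (.leaf 15750)) (.node (.leaf 5312) (.leaf 17013))) (.node (.node (.leaf 13219) (.leaf 36045)) (.node (.leaf 10046) (.leaf 35413)))) (.node (.node (.node (.leaf 34381) (.leaf 12488)) (.node (.leaf 9799) (.leaf 35385))) (.node (.node (.leaf 11514) (.leaf 14951)) (.node (.leaf 7604) (.leaf 21729))))))
def dFin_43 : BT := .node dFin_41 dFin_42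
def dFin_44 : BT := .node dFin_40 dFin_43
def dFin_45 : BT := .node dFin_37 dFin_44
def dFin_46 : BT := .node (.node (.node (.node (.node (.node (.node (.leaf 9597) (.leaf 21777)) (.leaf 35002)) (.node (.leaf 4576) (.leaf 16069))) (.node (.node (.leaf 10339) (.leaf 36882)) (.node (.leaf 13634) (.leaf 27222)))) (.node (.node (.node (.node (.leaf 518) (.leaf 35743)) (.leaf 11601)) (.node (.leaf 32583) (.leaf 17253))) (.node (.node (.leaf 10665) (.leaf 14198)) (.node (.leaf 6690) (.leaf 20343))))) (.node (.node (.node (.node (.node (.leaf 1524) (.leaf 36712)) (.leaf 11295)) (.node (.leaf 34177) (.leaf 16539))) (.node (.node (.leaf 10543) (.leaf 35450)) (.node (.leaf 10465) (.leaf 34480)))) (.node (.node (.node (.node (.leaf 1590) (.leaf 37088)) (.leaf 12021)) (.node (.leaf 15489) (.leaf 35263))) (.node (.node (.leaf 34156) (.leaf 33303)) (.node (.leaf 7288) (.leaf 21199)))))) (.node (.node (.node (.node (.node (.node (.leaf 522) (.leaf 22089)) (.leaf 34669)) (.node (.leaf 35152) (.leaf 16225))) (.node (.node (.leaf 15325) (.leaf 12892))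 (.node (.leaf 9903) (.leaf 36070)))) (.node (.node (.node (.node (.leaf 1510) (.leaf 36703)) (.leaf 13528)) (.node (.leaf 9713) (.leaf 36867))) (.node (.node (.leaf 10751) (.leaf 33312)) (.node (.leaf 13968) (.leaf 20473))))) (.node (.node (.node (.node (.node (.leaf 2554) (.leaf 35763)) (.leaf 15782)) (.node (.leaf 33986) (.leaf 16759))) (.node (.node (.leaf 13279) (.leaf 33580)) (.node (.leaf 35109) (.leaf 34873)))) (.node (.node (.node (.node (.leaf 32481) (.leaf 37186)) (.leaf 12101)) (.node (.leaf 10909) (.leaf 18342))) (.node (.node (.leaf 11296) (.leaf 14777)) (.node (.leaf 27941) (.leaf 21581))))))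
def dFin_47 : BT := .node (.node (.node (.node (.node (.node (.node (.leaf 33971) (.leaf 36280)) (.leaf 11251)) (.node (.leaf 9359) (.leaf 35529))) (.node (.node (.leaf 9112) (.leaf 12725)) (.node (.leaf 33008) (.leaf 18919)))) (.node (.node (.node (.node (.leaf 12957) (.leaf 25463)) (.leaf 37137)) (.node (.leaf 13798) (.leaf 35123))) (.node (.node (.leaf 3227) (.leaf 14243)) (.node (.leaf 15692) (.leaf 36237))))) (.node (.node (.node (.node (.node (.leaf 15131) (.leaf 24077)) (.leaf 19182)) (.node (.leaf 10453) (.leaf 35441))) (.node (.node (.leaf 13001) (.leaf 13917)) (.node (.leaf 34751) (.leaf 19987)))) (.node (.node (.node (.node (.leaf 8807) (.leaf 29047)) (.leaf 36005)) (.node (.leaf 14358) (.leaf 18055))) (.node (.node (.leaf 9659) (.leaf 14712)) (.node (.leaf 13335) (.leaf 35672)))))) (.node (.node (.node (.node (.node (.node (.leaf 8631) (.leaf 32991)) (.leaf 18910)) (.node (.leaf 13375) (.leaf 16500))) (.node (.node (.leaf 31622) (.leaf 15902)) (.node (.leaf 6214) (.leaf 19279)))) (.node (.node (.node (.node (.leaf 8921) (.leaf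 27215)) (.leaf 33742)) (.node (.leaf 5528) (.leaf 17491))) (.node (.node (.leaf 33611) (.leaf 14433)) (.node (.leaf 11121) (.leaf 36923))))) (.node (.node (.node (.node (.node (.leaf 10073) (.leaf 24823)) (.leaf 33564)) (.node (.leaf 9973) (.leaf 35290))) (.node (.node (.leaf 5510) (.leaf 14127)) (.node (.leaf 11023) (.leaf 36063)))) (.node (.node (.node (.leaf 5438) (.leaf 34585)) (.node (.leaf 14556) (.leaf 18435))) (.node (.node (.leaf 15609) (.leaf 31195)) (.node (.leaf 11195) (.leaf 37042))))))
def dFin_48 : BT := .node dFin_46 dFin_47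
def dFin_49 : BT := .node (.node (.node (.node (.node (.node (.node (.leaf 9045) (.leaf 21807)) (.leaf 34783)) (.node (.leaf 9347) (.leaf 34387))) (.node (.node (.leaf 5664) (.leaf 13432)) (.node (.leaf 9817) (.leaf 18824)))) (.node (.node (.node (.node (.leaf 10160) (.leaf 25257)) (.leaf 33553)) (.node (.leaf 10804) (.leaf 17279))) (.node (.node (.leaf 15577) (.leaf 36201)) (.node (.leaf 10965) (.leaf 36090))))) (.node (.node (.node (.node (.node (.leaf 9737) (.leaf 23993)) (.leaf 12760)) (.node (.leaf 33867) (.leaf 16562))) (.node (.node (.leaf 34207) (.leaf 13897)) (.node (.leaf 10481) (.leaf 36433)))) (.node (.node (.node (.node (.leaf 4876) (.leaf 28936)) (.leaf 15726)) (.node (.leaf 33901) (.leaf 17971))) (.node (.node (.leaf 13139) (.leaf 14606)) (.node (.leaf 36050) (.leaf 36924)))))) (.node (.node (.node (.node (.node (.node (.leaf 13019) (.leaf 22133)) (.leaf 8070)) (.node (.leaf 11906) (.leaf 31771))) (.node (.node (.leaf 2496) (.leaf 13665)) (.node (.leaf 15982) (.leaf 19184)))) (.node (.node (.node (.node (.leaf 1122) (.leaf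 36317)) (.leaf 11917)) (.node (.leaf 5508) (.leaf 17469))) (.node (.node (.leaf 10771) (.leaf 33545)) (.node (.leaf 10113) (.leaf 36899))))) (.node (.node (.node (.node (.node (.leaf 8983) (.leaf 24763)) (.leaf 11518)) (.node (.leaf 5034) (.leaf 16787))) (.node (.node (.leaf 10601) (.leaf 34776)) (.node (.leaf 13552) (.leaf 20260)))) (.node (.node (.node (.node (.leaf 1522) (.leaf 37210)) (.leaf 12117)) (.node (.leaf 33913) (.leaf 18383))) (.node (.node (.leaf 8639) (.leaf 34065)) (.node (.leaf 18042) (.leaf 21604))))))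
def dFin_50 : BT := .node (.node (.node (.node (.node (.node (.node (.leaf 424) (.leaf 21912)) (.leaf 10221)) (.node (.leaf 32707) (.leaf 16190))) (.node (.node (.leaf 9163) (.leaf 35713)) (.node (.leaf 13294) (.leaf 19067)))) (.node (.node (.node (.node (.leaf 9069) (.leaf 36813)) (.leaf 19852)) (.node (.leaf 13624) (.leaf 36672))) (.node (.node (.leaf 10722) (.leaf 15940)) (.node (.leaf 17270) (.leaf 20449))))) (.node (.node (.node (.node (.node (.leaf 421) (.leaf 36969)) (.leaf 11419)) (.node (.leaf 15639) (.leaf 32557))) (.node (.node (.leaf 32479) (.leaf 34673)) (.node (.leaf 35638) (.leaf 20019)))) (.node (.node (.node (.node (.leaf 8853) (.leaf 29131)) (.leaf 36186)) (.node (.leaf 10895) (.leaf 35794))) (.node (.node (.leaf 4390) (.leaf 14757)) (.node (.leaf 10193) (.leaf 21396)))))) (.node (.node (.node (.node (.node (.node (.leaf 1126) (.leaf 37200)) (.leaf 13458)) (.node (.leaf 10425) (.leaf 35229))) (.node (.node (.leaf 10525) (.leaf 13877)) (.node (.leaf 34600) (.leaf 19445)))) (.node (.node (.node (.node (.leaf 15341) (.leaf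 27311)) (.leaf 35054)) (.node (.leaf 10849) (.leaf 34044))) (.node (.node (.leaf 33127) (.leaf 14455)) (.node (.leaf 34087) (.leaf 20817))))) (.node (.node (.node (.node (.node (.leaf 34377) (.leaf 37103)) (.leaf 11583)) (.node (.leaf 8935) (.leaf 34424))) (.node (.node (.leaf 2988) (.leaf 14165)) (.node (.leaf 34941) (.leaf 20317)))) (.node (.node (.node (.leaf 13255) (.leaf 34702)) (.node (.leaf 33609) (.leaf 34001))) (.node (.node (.leaf 4575) (.leaf 14945)) (.node (.leaf 15832) (.leaf 36485))))))
def dFin_51 : BT := .node dFin_49 dFin_50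
def dFin_52 : BT := .node dFin_48 dFin_51
def dFin_53 : BT := .node (.node (.node (.node (.node (.node (.node (.leaf 82) (.leaf 37098)) (.leaf 13492)) (.node (.leaf 9345) (.leaf 35681))) (.node (.node (.leaf 9105) (.leaf 33408)) (.node (.leaf 33626) (.leaf 18679)))) (.node (.node (.node (.node (.leaf 15393) (.leaf 24949)) (.leaf 19668)) (.node (.leaf 10495) (.leaf 33287))) (.node (.node (.leaf 7286) (.leaf 14207)) (.node (.leaf 31655) (.leaf 20353))))) (.node (.node (.node (.node (.node (.leaf 32589) (.leaf 36733)) (.leaf 11301)) (.node (.leaf 10431) (.leaf 16552))) (.node (.node (.leaf 2560) (.leaf 13886)) (.node (.leaf 16334) (.leaf 19679)))) (.node (.node (.node (.node (.leaf 13131) (.leaf 28633)) (.leaf 20258)) (.node (.leaf 9750) (.leaf 34739))) (.node (.node (.leaf 3519) (.leaf 14565)) (.node (.leaf 15848) (.leaf 21224)))))) (.node (.node (.node (.node (.node (.node (.leaf 362) (.leaf 36150)) (.leaf 10237)) (.node (.leaf 15553) (.leaf 31937))) (.node (.node (.leaf 33371) (.leaf 33385)) (.node (.leaf 34265) (.leaf 19171)))) (.node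 (.node (.node (.node (.leaf 8899) (.leaf 26923)) (.leaf 16564)) (.node (.leaf 9717) (.leaf 36665))) (.node (.node (.leaf 33412) (.leaf 14369)) (.node (.leaf 10105) (.leaf 36543))))) (.node (.node (.node (.node (.node (.leaf 10025) (.leaf 35760)) (.leaf 34550)) (.node (.leaf 13253) (.leaf 33583))) (.node (.node (.leaf 32531) (.leaf 15952)) (.node (.leaf 6499) (.leaf 20139)))) (.node (.node (.node (.node (.leaf 9963) (.leaf 37185)) (.leaf 36073)) (.node (.leaf 5680) (.leaf 18357))) (.node (.node (.leaf 32097) (.leaf 14803)) (.node (.leaf 11167) (.leaf 21594))))))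
def dFin_54 : BT := .node (.node (.node (.node (.node (.node (.node (.leaf 9141) (.leaf 21903)) (.leaf 33225)) (.node (.leaf 31166) (.leaf 16133))) (.node (.node (.leaf 33887) (.leaf 12753)) (.node (.leaf 9833) (.leaf 19068)))) (.node (.node (.node (.node (.leaf 34660) (.leaf 37242)) (.leaf 15772)) (.node (.leaf 34834) (.leaf 17419))) (.node (.node (.leaf 13391) (.leaf 14252)) (.node (.leaf 17248) (.leaf 35421))))) (.node (.node (.node (.node (.node (.leaf 9924) (.leaf 24283)) (.leaf 34327)) (.node (.leaf 34647) (.leaf 16595))) (.node (.node (.leaf 15367) (.leaf 13948)) (.node (.leaf 10989) (.leaf 36420)))) (.node (.node (.node (.node (.leaf 5024) (.leaf 36711)) (.leaf 13590)) (.node (.leaf 10893) (.leaf 18130))) (.node (.node (.leaf 9667) (.leaf 33209)) (.node (.leaf 34678) (.leaf 21295)))))) (.node (.node (.node (.node (.node (.node (.leaf 9183) (.leaf 22245)) (.leaf 11266)) (.node (.leaf 10725) (.leaf 16511))) (.node (.node (.leaf 9949) (.leaf 13800)) (.node (.leaf 13439) (.leaf 19434)))) (.node (.node (.node (.node (.leaf 9840) (.leaf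 36330)) (.leaf 11950)) (.node (.leaf 34887) (.leaf 17647))) (.node (.node (.leaf 10795) (.leaf 35446)) (.node (.leaf 7184) (.leaf 20543))))) (.node (.node (.node (.node (.node (.leaf 2986) (.leaf 24864)) (.leaf 11573)) (.node (.leaf 5250) (.leaf 16839))) (.node (.node (.leaf 10639) (.leaf 34173)) (.node (.leaf 11025) (.leaf 36158)))) (.node (.node (.node (.leaf 5506) (.leaf 12429)) (.node (.leaf 15515) (.leaf 35823))) (.node (.node (.leaf 8672) (.leaf 32629)) (.node (.leaf 34276) (.leaf 21689))))))
def dFin_55 : BT := .node dFin_53 dFin_54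
def dFin_56 : BT := .node (.node (.node (.node (.node (.node (.node (.leaf 300) (.leaf 36820)) (.leaf 11249)) (.node (.leaf 32959) (.leaf 16101))) (.node (.node (.leaf 10359) (.leaf 34492)) (.node (.leaf 9821) (.leaf 37058)))) (.node (.node (.node (.node (.leaf 1330) (.leaf 35808)) (.leaf 11673)) (.node (.leaf 15563) (.leaf 36912))) (.node (.node (.leaf 9542) (.leaf 35329)) (.node (.leaf 33816) (.leaf 20386))))) (.node (.node (.node (.node (.node (.leaf 1588) (.leaf 36442)) (.leaf 11335)) (.node (.leaf 33875) (.leaf 16571))) (.node (.node (.leaf 10561) (.leaf 35268)) (.node (.leaf 6338) (.leaf 19867)))) (.node (.node (.node (.node (.leaf 9893) (.leaf 36814)) (.leaf 36025)) (.node (.leaf 13505) (.leaf 33146))) (.node (.node (.leaf 31146) (.leaf 15914)) (.node (.leaf 7391) (.leaf 21261)))))) (.node (.node (.node (.node (.node (.node (.leaf 8623) (.leaf 22210)) (.leaf 15808)) (.node (.leaf 11930) (.leaf 16483))) (.node (.node (.leaf 13091) (.leaf 13706)) (.node (.leaf 34219) (.leaf 33547)))) (.node (.node (.node (.node (.leaf 33477) (.leaf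 35522)) (.leaf 11933)) (.node (.leaf 10831) (.leaf 17478))) (.node (.node (.leaf 31104) (.leaf 14391)) (.node (.leaf 33118) (.leaf 20521))))) (.node (.node (.node (.node (.node (.leaf 2846) (.leaf 36761)) (.leaf 13450)) (.node (.leaf 9273) (.leaf 35457))) (.node (.node (.leaf 10615) (.leaf 23106)) (.node (.leaf 6512) (.leaf 20273)))) (.node (.node (.node (.node (.leaf 15365) (.leaf 37231)) (.leaf 34643)) (.node (.leaf 9771) (.leaf 37045))) (.node (.node (.leaf 11410) (.leaf 14851)) (.node (.leaf 33643) (.leaf 21623))))))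
def dFin_57 : BT := .node (.node (.node (.node (.node (.node (.node (.leaf 15079) (.leaf 21927)) (.leaf 34730)) (.node (.leaf 9373) (.leaf 36154))) (.node (.node (.leaf 1784) (.leaf 12775)) (.node (.leaf 33441) (.leaf 19087)))) (.node (.node (.node (.node (.leaf 8871) (.leaf 26459)) (.leaf 33928)) (.node (.leaf 5430) (.leaf 17440))) (.node (.node (.leaf 10737) (.leaf 35264)) (.node (.leaf 13550) (.leaf 36675))))) (.node (.node (.node (.node (.node (.leaf 13175) (.leaf 24369)) (.leaf 19272)) (.node (.leaf 33554) (.leaf 32083))) (.node (.node (.leaf 2843) (.leaf 14063)) (.node (.leaf 15974) (.leaf 35596)))) (.node (.node (.node (.node (.leaf 5244) (.leaf 37162)) (.leaf 12093)) (.node (.leaf 14374) (.leaf 18291))) (.node (.node (.leaf 8657) (.leaf 36853)) (.node (.leaf 10943) (.leaf 21591)))))) (.node (.node (.node (.node (.node (.node (.leaf 8599) (.leaf 23791)) (.leaf 31916)) (.node (.leaf 9213) (.leaf 16549))) (.node (.node (.leaf 34633) (.leaf 13869)) (.node (.leaf 9415) (.leaf 36446)))) (.node (.node (.node (.node (.leaf 4756) (.leaf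 28181)) (.leaf 34369)) (.node (.leaf 14150) (.leaf 17721))) (.node (.node (.leaf 15593) (.leaf 34051)) (.node (.leaf 11143) (.leaf 36803))))) (.node (.node (.node (.node (.node (.leaf 10143) (.leaf 24901)) (.leaf 22793)) (.node (.leaf 5310) (.leaf 17021))) (.node (.node (.leaf 34883) (.leaf 14185)) (.node (.leaf 10053) (.leaf 36182)))) (.node (.node (.node (.leaf 1574) (.leaf 15694)) (.node (.leaf 32933) (.leaf 18629))) (.node (.node (.leaf 13403) (.leaf 34262)) (.node (.leaf 18282) (.leaf 35846))))))
def dFin_58 : BT := .node dFin_56 dFin_57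
def dFin_59 : BT := .node dFin_55 dFin_58
def dFin_60 : BT := .node dFin_52 dFin_59
def dFin_61 : BT := .node dFin_45 dFin_60
def dFin_62 : BT := .node dFin_30 dFin_61
def dFin_63 : BT := .node (.node (.node (.node (.node (.node (.node (.leaf 2) (.leaf 37157)) (.leaf 13486)) (.node (.leaf 9337) (.leaf 35320))) (.node (.node (.leaf 10333) (.leaf 34077)) (.node (.leaf 32548) (.leaf 18635)))) (.node (.node (.node (.node (.leaf 15389) (.leaf 24907)) (.leaf 22821)) (.node (.leaf 9381) (.leaf 32689))) (.node (.node (.leaf 7174) (.leaf 14191)) (.node (.leaf 34439) (.leaf 20333))))) (.node (.node (.node (.node (.node (.leaf 34311) (.leaf 23955)) (.leaf 11289)) (.node (.leaf 9217) (.leaf 20024))) (.node (.node (.leaf 13297) (.leaf 13873)) (.node (.leaf 23897) (.leaf 19545)))) (.node (.node (.node (.node (.leaf 13355) (.leaf 28187)) (.leaf 12014)) (.node (.leaf 10860) (.leaf 34147))) (.node (.node (.leaf 3521) (.leaf 14477)) (.node (.leaf 15846) (.leaf 35755)))))) (.node (.node (.node (.node (.node (.node (.leaf 354) (.leaf 36256)) (.leaf 10229))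 (.node (.leaf 15623) (.leaf 36016))) (.node (.node (.leaf 6032) (.leaf 34133)) (.node (.leaf 6026) (.leaf 19093)))) (.node (.node (.node (.node (.leaf 8875) (.leaf 26465)) (.leaf 16090)) (.node (.leaf 9707) (.leaf 35615))) (.node (.node (.leaf 3230) (.leaf 14277)) (.node (.leaf 11081) (.leaf 20462))))) (.node (.node (.node (.node (.node (.leaf 9287) (.leaf 36973)) (.leaf 11426)) (.node (.leaf 13053) (.leaf 35804))) (.node (.node (.leaf 31997) (.leaf 15958)) (.node (.leaf 6501) (.leaf 20039)))) (.node (.node (.node (.node (.leaf 9313) (.leaf 37155)) (.leaf 36093)) (.node (.leaf 33857) (.leaf 18297))) (.node (.node (.leaf 32655) (.leaf 14769)) (.node (.leaf 10947) (.leaf 21608))))))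
def dFin_64 : BT := .node (.node (.node (.node (.node (.node (.node (.leaf 8833) (.leaf 21887)) (.leaf 35172)) (.node (.leaf 11720) (.leaf 16107))) (.node (.node (.leaf 33539) (.leaf 12719)) (.node (.leaf 9825) (.leaf 37066)))) (.node (.node (.node (.node (.leaf 622) (.leaf 35343)) (.leaf 15752)) (.node (.leaf 12712) (.leaf 17343))) (.node (.node (.leaf 13229) (.leaf 22465)) (.node (.leaf 32847) (.leaf 35419))))) (.node (.node (.node (.node (.node (.leaf 1638) (.leaf 24067)) (.leaf 34323)) (.node (.leaf 12306) (.leaf 16577))) (.node (.node (.leaf 15361) (.leaf 21794)) (.node (.leaf 10031) (.leaf 36153)))) (.node (.node (.node (.node (.leaf 4520) (.leaf 36795)) (.leaf 13586)) (.node (.leaf 10877) (.leaf 36492))) (.node (.node (.leaf 9653) (.leaf 35555)) (.node (.leaf 13330) (.leaf 21267)))))) (.node (.node (.node (.node (.node (.node (.leaf 8625) (.leaf 22217)) (.leaf 35397)) (.node (.leaf 11964) (.leaf 16489))) (.node (.node (.leaf 8951) (.leaf 31769)) (.node (.leaf 13005) (.leaf 19274)))) (.node (.node (.node (.node (.leaf 4584) (.leaf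 36646)) (.leaf 11937)) (.node (.leaf 34033) (.leaf 17481))) (.node (.node (.leaf 10783) (.leaf 34578)) (.node (.leaf 17640) (.leaf 20527))))) (.node (.node (.node (.node (.node (.leaf 2858) (.leaf 24812)) (.leaf 11527)) (.node (.leaf 9971) (.leaf 16823))) (.node (.node (.leaf 10619) (.leaf 35747)) (.node (.leaf 11017) (.leaf 20280)))) (.node (.node (.node (.leaf 5318) (.leaf 12313)) (.node (.leaf 15513) (.leaf 37057))) (.node (.node (.leaf 11424) (.leaf 33911)) (.node (.leaf 34559) (.leaf 21629))))))
def dFin_65 : BT := .node dFin_63 dFin_64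
def dFin_66 : BT := .node (.node (.node (.node (.node (.node (.node (.leaf 94) (.leaf 37172)) (.leaf 11241)) (.node (.leaf 4582) (.leaf 16082))) (.node (.node (.leaf 9109) (.leaf 13535)) (.node (.leaf 9811) (.leaf 37016)))) (.node (.node (.node (.node (.leaf 3222) (.leaf 36940)) (.leaf 11645)) (.node (.leaf 15535) (.leaf 33306))) (.node (.node (.leaf 10686) (.leaf 35327)) (.node (.leaf 31567) (.leaf 20359))))) (.node (.node (.node (.node (.node (.leaf 350) (.leaf 36705)) (.leaf 11305)) (.node (.leaf 33331) (.leaf 16550))) (.node (.node (.leaf 9433) (.leaf 36142)) (.node (.leaf 31318) (.leaf 19685)))) (.node (.node (.node (.node (.leaf 8797) (.leaf 37118)) (.leaf 35961)) (.node (.leaf 13157) (.leaf 17964))) (.node (.node (.leaf 34651) (.leaf 15912)) (.node (.leaf 7393) (.leaf 21229)))))) (.node (.node (.node (.node (.node (.node (.leaf 620) (.leaf 36747)) (.leaf 15806)) (.node (.leaf 9425) (.leaf 16341))) (.node (.node (.leaf 13087) (.leaf 32734)) (.node (.leaf 10930) (.leaf 34847)))) (.node (.node (.node (.node (.leaf 33277) (.leaf 36278))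 (.leaf 11911)) (.node (.leaf 9721) (.leaf 36189))) (.node (.node (.leaf 7646) (.leaf 14373)) (.node (.leaf 17444) (.leaf 20495))))) (.node (.node (.node (.node (.node (.leaf 444) (.leaf 35751)) (.leaf 13472)) (.node (.leaf 9265) (.leaf 16776))) (.node (.node (.leaf 10595) (.leaf 23104)) (.node (.leaf 14921) (.leaf 20145)))) (.node (.node (.node (.node (.leaf 15317) (.leaf 37193)) (.leaf 12110)) (.node (.leaf 10915) (.leaf 26910))) (.node (.node (.leaf 8635) (.leaf 14809)) (.node (.leaf 34509) (.leaf 21592))))))
def dFin_67 : BT := .node (.node (.node (.node (.node (.node (.node (.leaf 15083) (.leaf 21909)) (.leaf 7942)) (.node (.leaf 9365) (.leaf 34527))) (.node (.node (.leaf 5844) (.leaf 12757)) (.node (.leaf 33017) (.leaf 19055)))) (.node (.node (.node (.node (.leaf 9063) (.leaf 26239)) (.leaf 19450)) (.node (.leaf 33737) (.leaf 17425))) (.node (.node (.leaf 10715) (.leaf 33841)) (.node (.leaf 13548) (.leaf 20444))))) (.node (.node (.node (.node (.node (.leaf 13081) (.leaf 24289)) (.leaf 11412)) (.node (.leaf 34407) (.leaf 34871)))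 (.node (.node (.leaf 2845) (.leaf 13959)) (.node (.leaf 15883) (.leaf 35582)))) (.node (.node (.node (.node (.leaf 33107) (.leaf 36741)) (.leaf 12081)) (.node (.leaf 34066) (.leaf 18137))) (.node (.node (.leaf 9671) (.leaf 34052)) (.node (.leaf 10187) (.leaf 35656)))))) (.node (.node (.node (.node (.node (.node (.leaf 9187) (.leaf 22251)) (.leaf 11268)) (.node (.leaf 10419) (.leaf 34918))) (.node (.node (.leaf 2548) (.leaf 13807)) (.node (.leaf 9405) (.leaf 28176)))) (.node (.node (.node (.node (.leaf 4702) (.leaf 27301)) (.leaf 33761)) (.node (.leaf 34561) (.leaf 17653))) (.node (.node (.leaf 15591) (.leaf 36994)) (.node (.leaf 11127) (.leaf 36393))))) (.node (.node (.node (.node (.node (.leaf 10089) (.leaf 24871)) (.leaf 22597)) (.node (.leaf 5246) (.leaf 16845))) (.node (.node (.leaf 34181) (.leaf 14157)) (.node (.leaf 11029) (.leaf 20310)))) (.node (.node (.node (.leaf 34123) (.leaf 15698)) (.node (.leaf 5833) (.leaf 18595))) (.node (.node (.leaf 13243) (.leaf 23984)) (.node (.leaf 31695) (.leaf 35845))))))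
def dFin_68 : BT := .node dFin_66 dFin_67
def dFin_69 : BT := .node dFin_65 dFin_68
def dFin_70 : BT := .node (.node (.node (.node (.node (.node (.node (.leaf 9601) (.leaf 21783)) (.leaf 7644)) (.node (.leaf 9339) (.leaf 16073))) (.node (.node (.leaf 5532) (.leaf 13584)) (.node (.leaf 9809) (.leaf 27296)))) (.node (.node (.node (.node (.leaf 3174) (.leaf 24939)) (.leaf 33095)) (.node (.leaf 13704) (.leaf 17259))) (.node (.node (.leaf 15575) (.leaf 36193)) (.node (.leaf 11037) (.leaf 28952))))) (.node (.node (.node (.node (.node (.leaf 9689) (.leaf 23964)) (.leaf 31976)) (.node (.leaf 34564) (.leaf 16545))) (.node (.node (.leaf 34203) (.leaf 13878)) (.node (.leaf 10469) (.leaf 33823)))) (.node (.node (.node (.node (.leaf 13125) (.leaf 37112)) (.leaf 15742)) (.node (.leaf 14178) (.leaf 17799))) (.node (.node (.leaf 13233) (.leaf 14558)) (.node (.leaf 17792) (.leaf 35757)))))) (.node (.node (.node (.node (.node (.node (.leaf 13225) (.leaf 22095)) (.leaf 8016)) (.node (.leaf 11872) (.leaf 34305))) (.node (.node (.leaf 2424) (.leaf 12901))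 (.node (.leaf 15547) (.leaf 36076)))) (.node (.node (.node (.node (.leaf 4446) (.leaf 36744)) (.leaf 11883)) (.node (.leaf 35276) (.leaf 17453))) (.node (.node (.leaf 10755) (.leaf 14360)) (.node (.leaf 10099) (.leaf 37061))))) (.node (.node (.node (.node (.node (.leaf 10019) (.leaf 24743)) (.leaf 11504)) (.node (.leaf 34073) (.leaf 16765))) (.node (.node (.leaf 10515) (.leaf 35106)) (.node (.leaf 13554) (.leaf 20134)))) (.node (.node (.node (.node (.leaf 31965) (.leaf 37204)) (.leaf 12105)) (.node (.leaf 33347) (.leaf 18345))) (.node (.node (.leaf 9293) (.leaf 32448)) (.node (.leaf 7498) (.leaf 21587))))))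
def dFin_71 : BT := .node (.node (.node (.node (.node (.node (.node (.leaf 348) (.leaf 36333)) (.leaf 11255)) (.node (.leaf 32453) (.leaf 16123))) (.node (.node (.leaf 9121) (.leaf 12750)) (.node (.leaf 5856) (.leaf 18925)))) (.node (.node (.node (.node (.leaf 9033) (.leaf 35758)) (.leaf 11682)) (.node (.leaf 13434) (.leaf 35922))) (.node (.node (.leaf 7488) (.leaf 15944)) (.node (.leaf 31641) (.leaf 20427))))) (.node (.node (.node (.node (.node (.leaf 423) (.leaf 36759)) (.leaf 11349)) (.node (.leaf 15635) (.leaf 35515))) (.node (.node (.leaf 6630) (.leaf 34769)) (.node (.leaf 16498) (.leaf 19993)))) (.node (.node (.node (.node (.leaf 8811) (.leaf 29053)) (.leaf 36097)) (.node (.leaf 10887) (.leaf 36611))) (.node (.node (.leaf 34114) (.leaf 14719)) (.node (.leaf 10185) (.leaf 35678)))))) (.node (.node (.node (.node (.node (.node (.leaf 1224) (.leaf 22240)) (.leaf 13602)) (.node (.leaf 10401) (.leaf 24810))) (.node (.node (.leaf 9943) (.leaf 21574)) (.node (.leaf 6212) (.leaf 19285)))) (.node (.node (.node (.node (.leaf 15449) (.leaf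 27221)) (.leaf 35499)) (.node (.leaf 9745) (.leaf 33222))) (.node (.node (.leaf 7652) (.leaf 14439)) (.node (.leaf 33125) (.leaf 20533))))) (.node (.node (.node (.node (.node (.leaf 32469) (.leaf 35797)) (.leaf 11567)) (.node (.leaf 9977) (.leaf 36445))) (.node (.node (.leaf 7038) (.leaf 14131)) (.node (.leaf 34174) (.leaf 20287)))) (.node (.node (.node (.leaf 12941) (.leaf 33849)) (.node (.leaf 33653) (.leaf 34909))) (.node (.node (.leaf 34903) (.leaf 14923)) (.node (.leaf 15826) (.leaf 35364))))))
def dFin_72 : BT := .node dFin_70 dFin_71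
def dFin_73 : BT := .node (.node (.node (.node (.node (.node (.node (.leaf 33501) (.leaf 37084)) (.leaf 11243)) (.node (.leaf 9351) (.leaf 34427))) (.node (.node (.leaf 5678) (.leaf 12709)) (.node (.leaf 32956) (.leaf 18831)))) (.node (.node (.node (.node (.leaf 13329) (.leaf 25263)) (.leaf 19686)) (.node (.leaf 33809) (.leaf 31873))) (.node (.node (.leaf 7388) (.leaf 14217)) (.node (.leaf 15962) (.leaf 36019))))) (.node (.node (.node (.node (.node (.leaf 15123) (.leaf 23999)) (.leaf 34839)) (.node (.leaf 10437) (.leaf 16568))) (.node (.node (.leaf 22980) (.leaf 13903)) (.node (.leaf 31645) (.leaf 19857)))) (.node (.node (.node (.node (.leaf 9887) (.leaf 28943)) (.leaf 12055)) (.node (.leaf 11139) (.leaf 17977))) (.node (.node (.leaf 9641) (.leaf 35101)) (.node (.leaf 13540) (.leaf 37110)))))) (.node (.node (.node (.node (.node (.node (.leaf 8747) (.leaf 36756)) (.leaf 18822)) (.node (.leaf 13211) (.leaf 24734))) (.node (.node (.leaf 6210) (.leaf 15804)) (.node (.leaf 6216) (.leaf 19189)))) (.node (.node (.node (.node (.leaf 8545) (.leaf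 26943)) (.leaf 34911)) (.node (.leaf 13946) (.leaf 17475))) (.node (.node (.leaf 33785) (.leaf 14383)) (.node (.leaf 10117) (.leaf 20514))))) (.node (.node (.node (.node (.node (.leaf 8987) (.leaf 24769)) (.leaf 32079)) (.node (.leaf 9267) (.leaf 34993))) (.node (.node (.leaf 34104) (.leaf 14113)) (.node (.leaf 11009) (.leaf 36657)))) (.node (.node (.node (.node (.leaf 5392) (.leaf 37221)) (.leaf 35215)) (.node (.leaf 33694) (.leaf 18389))) (.node (.node (.leaf 15605) (.leaf 30327)) (.node (.leaf 11175) (.leaf 36686))))))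
def dFin_74 : BT := .node (.node (.node (.node (.node (.node (.node (.leaf 448) (.leaf 21917)) (.leaf 33131)) (.node (.leaf 11734) (.leaf 16198))) (.node (.node (.leaf 15303) (.leaf 35717)) (.node (.leaf 10925) (.leaf 33341)))) (.node (.node (.node (.node (.leaf 1096) (.leaf 28097)) (.leaf 13456)) (.node (.leaf 10825) (.leaf 36511))) (.node (.node (.leaf 10731) (.leaf 14270)) (.node (.leaf 31919) (.leaf 20455))))) (.node (.node (.node (.node (.node (.leaf 9307) (.leaf 36971)) (.leaf 15780)) (.node (.leaf 5021) (.leaf 16653))) (.node (.node (.leaf 13289) (.leaf 21894)) (.node (.leaf 10036) (.leaf 34869)))) (.node (.node (.node (.node (.leaf 34075) (.leaf 37142)) (.leaf 12087)) (.node (.leaf 10899) (.leaf 36225))) (.node (.node (.leaf 4386) (.leaf 14761)) (.node (.leaf 27909) (.leaf 21407)))))) (.node (.node (.node (.node (.node (.node (.leaf 302) (.leaf 36864)) (.leaf 11277)) (.node (.leaf 12070) (.leaf 16523))) (.node (.node (.leaf 10529) (.leaf 35272)) (.node (.leaf 9409) (.leaf 19536)))) (.node (.node (.node (.node (.leaf 1578) (.leaf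 36965)) (.leaf 11973)) (.node (.leaf 15487) (.leaf 34048))) (.node (.node (.leaf 9574) (.leaf 33719)) (.node (.leaf 17708) (.leaf 20823))))) (.node (.node (.node (.node (.node (.leaf 10329) (.leaf 37107)) (.leaf 11587)) (.node (.leaf 33281) (.leaf 17011))) (.node (.node (.leaf 9489) (.leaf 35980)) (.node (.leaf 16830) (.leaf 20323)))) (.node (.node (.node (.leaf 10323) (.leaf 33217)) (.node (.leaf 13630) (.leaf 18624))) (.node (.node (.leaf 11278) (.leaf 15890)) (.node (.leaf 33401) (.leaf 21727))))))
def dFin_75 : BT := .node dFin_73 dFin_74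
def dFin_76 : BT := .node dFin_72 dFin_75
def dFin_77 : BT := .node dFin_69 dFin_76
def dFin_78 : BT := .node (.node (.node (.node (.node (.node (.node (.leaf 10) (.leaf 21775)) (.leaf 32905)) (.node (.leaf 11560) (.leaf 16067))) (.node (.node (.leaf 15257) (.leaf 33210)) (.node (.leaf 9805) (.leaf 18668)))) (.node (.node (.node (.node (.leaf 2992) (.leaf 24936)) (.leaf 13480)) (.node (.leaf 9385) (.leaf 17250))) (.node (.node (.leaf 10663) (.leaf 22124)) (.node (.leaf 31648) (.leaf 20341))))) (.node (.node (.node (.node (.node (.leaf 9682) (.leaf 36558)) (.leaf 15765)) (.node (.leaf 4867) (.leaf 16537))) (.node (.node (.leaf 13285) (.leaf 21718)) (.node (.leaf 31591) (.leaf 32345)))) (.node (.node (.node (.node (.leaf 34345) (.leaf 28624)) (.leaf 12019)) (.node (.leaf 10867) (.leaf 36213))) (.node (.node (.leaf 34733) (.leaf 14483)) (.node (.leaf 34953) (.leaf 21197)))))) (.node (.node (.node (.node (.node (.node (.leaf 514) (.leaf 22086)) (.leaf 10233)) (.node (.leaf 4684) (.leaf 16223))) (.node (.node (.leaf 10379) (.leaf 12890))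 (.node (.leaf 9901) (.leaf 35039)))) (.node (.node (.node (.node (.leaf 1101) (.leaf 26912)) (.leaf 11879)) (.node (.leaf 15509) (.leaf 34534))) (.node (.node (.leaf 32617) (.leaf 33241)) (.node (.leaf 10097) (.leaf 20471))))) (.node (.node (.node (.node (.node (.leaf 426) (.leaf 35649)) (.leaf 11433)) (.node (.leaf 33559) (.leaf 16757))) (.node (.node (.leaf 10511) (.leaf 14086)) (.node (.leaf 31934) (.leaf 20047)))) (.node (.node (.node (.node (.leaf 9321) (.leaf 37167)) (.leaf 36031)) (.node (.leaf 13496) (.leaf 18340))) (.node (.node (.leaf 4578) (.leaf 15916)) (.node (.leaf 7500) (.leaf 21579))))))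
def dFin_79 : BT := .node (.node (.node (.node (.node (.node (.node (.leaf 8837) (.leaf 36817)) (.leaf 18424)) (.node (.leaf 13409) (.leaf 36424))) (.node (.node (.leaf 1632) (.leaf 15874)) (.node (.leaf 33591) (.leaf 18917)))) (.node (.node (.node (.node (.leaf 9029) (.leaf 25461)) (.leaf 22947)) (.node (.leaf 5386) (.leaf 17351))) (.node (.node (.leaf 34955) (.leaf 14241)) (.node (.leaf 11051) (.leaf 36222))))) (.node (.node (.node (.node (.node (.leaf 8771) (.leaf 24075)) (.leaf 34495)) (.node (.leaf 10451) (.leaf 16586))) (.node (.node (.leaf 2676) (.leaf 13915)) (.node (.leaf 10035) (.leaf 36731)))) (.node (.node (.node (.node (.leaf 34655) (.leaf 29045)) (.leaf 35193)) (.node (.leaf 33036) (.leaf 18053))) (.node (.node (.leaf 15599) (.leaf 35571)) (.node (.leaf 10181) (.leaf 35663)))))) (.node (.node (.node (.node (.node (.node (.leaf 15223) (.leaf 22225)) (.leaf 35358)) (.node (.leaf 10397) (.leaf 36241))) (.node (.node (.leaf 6270) (.leaf 13715)) (.node (.leaf 34221) (.leaf 19277)))) (.node (.node (.node (.node (.leaf 8919) (.leaf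 27213)) (.leaf 11941)) (.node (.leaf 13215) (.leaf 17489))) (.node (.node (.leaf 10787) (.leaf 36654)) (.node (.leaf 13506) (.leaf 36919))))) (.node (.node (.node (.node (.node (.leaf 13195) (.leaf 24821)) (.leaf 11562)) (.node (.leaf 12714) (.leaf 34933))) (.node (.node (.leaf 2975) (.leaf 14125)) (.node (.leaf 15895) (.leaf 20278)))) (.node (.node (.node (.leaf 1526) (.leaf 12317)) (.node (.leaf 33621) (.leaf 18433))) (.node (.node (.leaf 8669) (.leaf 14931)) (.node (.leaf 11193) (.leaf 21680))))))
def dFin_80 : BT := .node dFin_78 dFin_79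
def dFin_81 : BT := .node (.node (.node (.node (.node (.node (.node (.leaf 13109) (.leaf 21805)) (.leaf 7650)) (.node (.leaf 11680) (.leaf 33525))) (.node (.node (.leaf 5654) (.leaf 12705)) (.node (.leaf 15521) (.leaf 37021)))) (.node (.node (.node (.node (.leaf 3240) (.leaf 36944)) (.leaf 11649)) (.node (.leaf 33685) (.leaf 17277))) (.node (.node (.leaf 10693) (.leaf 36181)) (.node (.leaf 10963) (.leaf 20377))))) (.node (.node (.node (.node (.node (.leaf 9735) (.leaf 23991)) (.leaf 11328)) (.node (.leaf 10859) (.leaf 16560))) (.node (.node (.leaf 9437) (.leaf 21770)) (.node (.leaf 13566) (.leaf 36427)))) (.node (.node (.node (.node (.leaf 33649) (.leaf 36810)) (.leaf 12051)) (.node (.leaf 35033) (.leaf 17969))) (.node (.node (.leaf 9637) (.leaf 34401)) (.node (.leaf 34972) (.leaf 21237)))))) (.node (.node (.node (.node (.node (.node (.leaf 8743) (.leaf 22131)) (.leaf 35257)) (.node (.leaf 4690) (.leaf 16349))) (.node (.node (.leaf 33373) (.leaf 13663)) (.node (.leaf 10937) (.leaf 33939)))) (.node (.node (.node (.node (.leaf 4514) (.leaf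 26936)) (.leaf 15884)) (.node (.leaf 33411) (.leaf 17467))) (.node (.node (.leaf 13397) (.leaf 32996)) (.node (.leaf 10110) (.leaf 35427))))) (.node (.node (.node (.node (.node (.leaf 33493) (.leaf 24761)) (.leaf 32981)) (.node (.leaf 33819) (.leaf 16785))) (.node (.node (.leaf 15375) (.leaf 35159)) (.node (.leaf 11005) (.leaf 36689)))) (.node (.node (.node (.node (.leaf 32923) (.leaf 37212)) (.leaf 13596)) (.node (.leaf 10919) (.leaf 18380))) (.node (.node (.leaf 8637) (.leaf 34058)) (.node (.leaf 33638) (.leaf 21602))))))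
def dFin_82 : BT := .node (.node (.node (.node (.node (.node (.node (.leaf 84) (.leaf 36206)) (.leaf 13646)) (.node (.leaf 9369) (.leaf 31692))) (.node (.node (.leaf 9161) (.leaf 21256)) (.node (.leaf 6018) (.leaf 19065)))) (.node (.node (.node (.node (.leaf 15421) (.leaf 26247)) (.leaf 11722)) (.node (.leaf 10821) (.leaf 36727))) (.node (.node (.leaf 33831) (.leaf 14263)) (.node (.leaf 31555) (.leaf 20447))))) (.node (.node (.node (.node (.node (.leaf 32577) (.leaf 36979)) (.leaf 11417)) (.node (.leaf 9247) (.leaf 32076))) (.node (.node (.leaf 6688) (.leaf 13965)) (.node (.leaf 16566) (.leaf 20017)))) (.node (.node (.node (.node (.leaf 13137) (.leaf 29129)) (.leaf 12084)) (.node (.leaf 14444) (.leaf 34999))) (.node (.node (.leaf 4388) (.leaf 14755)) (.node (.leaf 15844) (.leaf 37116)))))) (.node (.node (.node (.node (.node (.node (.leaf 304) (.leaf 23780)) (.leaf 11273)) (.node (.leaf 15625) (.leaf 16516))) (.node (.node (.leaf 34652) (.leaf 34763)) (.node (.leaf 16214) (.leaf 19443)))) (.node (.node (.node (.node (.leaf 9855) (.leaf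 27309)) (.leaf 11966)) (.node (.leaf 10847) (.leaf 17712))) (.node (.node (.leaf 33121) (.leaf 14453)) (.node (.leaf 11131) (.leaf 20814))))) (.node (.node (.node (.node (.node (.leaf 10093) (.leaf 35835)) (.leaf 35226)) (.node (.leaf 12987) (.leaf 25450))) (.node (.node (.leaf 13212) (.leaf 15711)) (.node (.leaf 33748) (.leaf 20315)))) (.node (.node (.node (.leaf 10319) (.leaf 33592)) (.node (.leaf 33599) (.leaf 18603))) (.node (.node (.leaf 34321) (.leaf 14943)) (.node (.leaf 11215) (.leaf 36483))))))
def dFin_83 : BT := .node dFin_81 dFin_82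
def dFin_84 : BT := .node dFin_80 dFin_83
def dFin_85 : BT := .node (.node (.node (.node (.node (.node (.node (.leaf 76) (.leaf 37096)) (.leaf 11237)) (.node (.leaf 15615) (.leaf 24060))) (.node (.node (.leaf 5614) (.leaf 33645)) (.node (.leaf 5846) (.leaf 18677)))) (.node (.node (.node (.node (.leaf 9015) (.leaf 24947)) (.leaf 33614)) (.node (.leaf 10493) (.leaf 33304))) (.node (.node (.leaf 33851) (.leaf 14205)) (.node (.leaf 11041) (.leaf 36891))))) (.node (.node (.node (.node (.node (.leaf 9693) (.leaf 36563)) (.leaf 35550)) (.node (.leaf 13419) (.leaf 35643))) (.node (.node (.leaf 13205) (.leaf 15920)) (.node (.leaf 31638) (.leaf 19677)))) (.node (.node (.node (.node (.leaf 8793) (.leaf 28631)) (.leaf 35983)) (.node (.leaf 36202) (.leaf 17807))) (.node (.node (.leaf 34161) (.leaf 14563)) (.node (.leaf 11157) (.leaf 36430)))))) (.node (.node (.node (.node (.node (.node (.leaf 33793) (.leaf 36161)) (.leaf 10235)) (.node (.leaf 10389) (.leaf 32047))) (.node (.node (.leaf 2422) (.leaf 12905)) (.node (.leaf 16092) (.leaf 19169)))) (.node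 (.node (.node (.node (.leaf 13165) (.leaf 26921)) (.leaf 20032)) (.node (.leaf 9714) (.leaf 34539))) (.node (.node (.leaf 33827) (.leaf 14367)) (.node (.leaf 15862) (.leaf 20488))))) (.node (.node (.node (.node (.node (.leaf 15177) (.leaf 24751)) (.leaf 19430)) (.node (.leaf 9261) (.leaf 31519))) (.node (.node (.leaf 33697) (.leaf 14095)) (.node (.leaf 31939) (.leaf 20137)))) (.node (.node (.node (.node (.leaf 9961) (.leaf 37183)) (.leaf 20364)) (.node (.leaf 34097) (.leaf 18355))) (.node (.node (.leaf 9297) (.leaf 33235)) (.node (.leaf 13482) (.leaf 36396))))))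
def dFin_86 : BT := .node (.node (.node (.node (.node (.node (.node (.leaf 9139) (.leaf 21901)) (.leaf 14812)) (.node (.leaf 4590) (.leaf 16131))) (.node (.node (.leaf 9125) (.leaf 35454)) (.node (.leaf 13640) (.leaf 22810)))) (.node (.node (.node (.node (.leaf 3526) (.leaf 36926)) (.leaf 11689)) (.node (.leaf 34225) (.leaf 17417))) (.node (.node (.leaf 10711) (.leaf 33020)) (.node (.leaf 31635) (.leaf 20435))))) (.node (.node (.node (.node (.node (.leaf 2420) (.leaf 36464)) (.leaf 11353)) (.node (.leaf 33618) (.leaf 16593))) (.node (.node (.leaf 9445) (.leaf 13950)) (.node (.leaf 10987) (.leaf 20008)))) (.node (.node (.node (.node (.leaf 5018) (.leaf 29120)) (.leaf 12077)) (.node (.leaf 15495) (.leaf 36997))) (.node (.node (.leaf 34717) (.leaf 32965)) (.node (.leaf 34705) (.leaf 21293)))))) (.node (.node (.node (.node (.node (.node (.leaf 1244) (.leaf 22243)) (.leaf 35377)) (.node (.leaf 12012) (.leaf 16509))) (.node (.node (.leaf 15349) (.leaf 21618)) (.node (.leaf 9401) (.leaf 33245)))) (.node (.node (.node (.node (.leaf 1226) (.leaf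 36326)) (.leaf 13518)) (.node (.leaf 9749) (.leaf 33232))) (.node (.node (.leaf 10793) (.leaf 34474)) (.node (.leaf 34085) (.leaf 20541))))) (.node (.node (.node (.node (.node (.leaf 34663) (.leaf 35830)) (.leaf 15768)) (.node (.leaf 5248) (.leaf 16837))) (.node (.node (.leaf 13377) (.leaf 14152)) (.node (.leaf 16774) (.leaf 35411)))) (.node (.node (.node (.leaf 33383) (.leaf 12427)) (.node (.leaf 9787) (.leaf 36185))) (.node (.node (.leaf 34901) (.leaf 14929)) (.node (.leaf 7596) (.leaf 21687))))))
def dFin_87 : BT := .node dFin_85 dFin_86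
def dFin_88 : BT := .node (.node (.node (.node (.node (.node (.node (.leaf 8829) (.leaf 36190)) (.leaf 15830)) (.node (.leaf 11574) (.leaf 16099))) (.node (.node (.leaf 13261) (.leaf 35542)) (.node (.leaf 34568) (.leaf 35349)))) (.node (.node (.node (.node (.leaf 32897) (.leaf 36230)) (.leaf 11671)) (.node (.leaf 10813) (.leaf 37069))) (.node (.node (.leaf 34975) (.leaf 14223)) (.node (.leaf 32842) (.leaf 20384))))) (.node (.node (.node (.node (.node (.leaf 1530) (.leaf 36948)) (.leaf 13437)) (.node (.leaf 10441) (.leaf 36146))) (.node (.node (.leaf 10559) (.leaf 35241)) (.node (.leaf 34780) (.leaf 19865)))) (.node (.node (.node (.node (.leaf 15467) (.leaf 28951)) (.leaf 20346)) (.node (.leaf 10873) (.leaf 30197))) (.node (.node (.leaf 3528) (.leaf 14617)) (.node (.leaf 34467) (.leaf 21259)))))) (.node (.node (.node (.node (.node (.node (.leaf 8867) (.leaf 33542)) (.leaf 10261)) (.node (.leaf 33513) (.leaf 16481))) (.node (.node (.leaf 8947) (.leaf 31933)) (.node (.leaf 13649) (.leaf 19197)))) (.node (.node (.node (.node (.leaf 8551)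 (.leaf 36340)) (.leaf 35472)) (.node (.leaf 13512) (.leaf 36102))) (.node (.node (.leaf 3238) (.leaf 15934)) (.node (.leaf 33904) (.leaf 20519))))) (.node (.node (.node (.node (.node (.leaf 2840) (.leaf 36753)) (.leaf 11523)) (.node (.leaf 15645) (.leaf 25250))) (.node (.node (.leaf 6884) (.leaf 34383)) (.node (.leaf 32999) (.leaf 20271)))) (.node (.node (.node (.node (.leaf 10303) (.leaf 37229)) (.leaf 33820)) (.node (.leaf 9769) (.leaf 37037))) (.node (.node (.leaf 4518) (.leaf 14849)) (.node (.leaf 11179) (.leaf 36947))))))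
def dFin_89 : BT := .node (.node (.node (.node (.node (.node (.node (.leaf 9469) (.leaf 21925)) (.leaf 34726)) (.node (.leaf 9371) (.leaf 24294))) (.node (.node (.leaf 33415) (.leaf 13650)) (.node (.leaf 10929) (.leaf 36467)))) (.node (.node (.node (.node (.leaf 4398) (.leaf 26457)) (.leaf 32337)) (.node (.leaf 12910) (.leaf 17438))) (.node (.node (.leaf 15583) (.leaf 14268)) (.node (.leaf 11077) (.leaf 29118))))) (.node (.node (.node (.node (.node (.leaf 9283) (.leaf 24367)) (.leaf 35045)) (.node (.leaf 33345) (.leaf 16661))) (.node (.node (.leaf 31999) (.leaf 14061)) (.node (.leaf 10043) (.leaf 35741)))) (.node (.node (.node (.node (.leaf 9304) (.leaf 37148)) (.leaf 15730)) (.node (.leaf 10902) (.leaf 18289))) (.node (.node (.leaf 13163) (.leaf 36838)) (.node (.leaf 34404) (.leaf 37124)))))) (.node (.node (.node (.node (.node (.node (.leaf 13033) (.leaf 23789)) (.leaf 11286)) (.node (.leaf 9210) (.leaf 34991))) (.node (.node (.leaf 6020) (.leaf 13867)) (.node (.leaf 15978) (.leaf 19534)))) (.node (.node (.node (.node (.leaf 13351)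 (.leaf 28178)) (.leaf 11977)) (.node (.leaf 34107) (.leaf 17719))) (.node (.node (.leaf 9581) (.leaf 33700)) (.node (.leaf 11141) (.leaf 35753))))) (.node (.node (.node (.node (.node (.leaf 10141) (.leaf 24899)) (.leaf 22803)) (.node (.leaf 12888) (.leaf 17019))) (.node (.node (.leaf 9495) (.leaf 36053)) (.node (.leaf 13654) (.leaf 20328)))) (.node (.node (.node (.leaf 10326) (.leaf 12492)) (.node (.leaf 33169) (.leaf 18627))) (.node (.node (.leaf 9333) (.leaf 32686)) (.node (.leaf 7602) (.leaf 21735))))))
def dFin_90 : BT := .node dFin_88 dFin_89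
def dFin_91 : BT := .node dFin_87 dFin_90
def dFin_92 : BT := .node dFin_84 dFin_91
def dFin_93 : BT := .node dFin_77 dFin_92
def dFin_94 : BT := .node (.node (.node (.node (.node (.node (.node (.leaf 6) (.leaf 36985)) (.leaf 15828)) (.node (.leaf 4573) (.leaf 16063))) (.node (.node (.leaf 13259) (.leaf 12498)) (.node (.leaf 14710) (.leaf 35077)))) (.node (.node (.node (.node (.leaf 34523) (.leaf 28638)) (.leaf 11597)) (.node (.leaf 9383) (.leaf 34927))) (.node (.node (.leaf 7182) (.leaf 14193)) (.node (.leaf 22594) (.leaf 20337))))) (.node (.node (.node (.node (.node (.leaf 346) (.leaf 36708)) (.leaf 13469)) (.node (.leaf 9219) (.leaf 36361))) (.node (.node (.leaf 10539) (.leaf 13875)) (.node (.leaf 31625) (.leaf 19549)))) (.node (.node (.node (.node (.leaf 15453) (.leaf 28191)) (.leaf 31138)) (.node (.leaf 10865) (.leaf 26232))) (.node (.node (.leaf 8014) (.leaf 14481)) (.node (.leaf 33299) (.leaf 21193)))))) (.node (.node (.node (.node (.node (.node (.leaf 88) (.leaf 36264)) (.leaf 10231)) (.node (.leaf 31799) (.leaf 16219))) (.node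 (.node (.leaf 10377) (.leaf 12896)) (.node (.leaf 6024) (.leaf 19097)))) (.node (.node (.node (.node (.leaf 8877) (.leaf 36623)) (.leaf 11874)) (.node (.leaf 12925) (.leaf 35807))) (.node (.node (.leaf 7592) (.leaf 15932)) (.node (.leaf 10094) (.leaf 20467))))) (.node (.node (.node (.node (.node (.leaf 10016) (.leaf 36355)) (.leaf 11431)) (.node (.leaf 15641) (.leaf 35714))) (.node (.node (.leaf 31985) (.leaf 35219)) (.node (.leaf 22975) (.leaf 20043)))) (.node (.node (.node (.node (.leaf 9317) (.leaf 37161)) (.leaf 12096)) (.node (.leaf 10905) (.leaf 35372))) (.node (.node (.leaf 32092) (.leaf 14773)) (.node (.leaf 10949) (.leaf 36358))))))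
def dFin_95 : BT := .node (.node (.node (.node (.node (.node (.node (.leaf 8835) (.leaf 21891)) (.leaf 18360)) (.node (.leaf 9355) (.leaf 24078))) (.node (.node (.leaf 5434) (.leaf 13618)) (.node (.leaf 9827) (.leaf 18912)))) (.node (.node (.node (.node (.leaf 3468) (.leaf 25457)) (.leaf 32333)) (.node (.leaf 5388) (.leaf 17347))) (.node (.node (.leaf 15579) (.leaf 22208)) (.node (.leaf 11049) (.leaf 20422))))) (.node (.node (.node (.node (.node (.leaf 8769) (.leaf 24071)) (.leaf 34795)) (.node (.leaf 34636) (.leaf 16581))) (.node (.node (.leaf 32563) (.leaf 13911)) (.node (.leaf 10033) (.leaf 34825)))) (.node (.node (.node (.node (.leaf 1328) (.leaf 36797)) (.leaf 15724)) (.node (.leaf 33032) (.leaf 18049))) (.node (.node (.leaf 13235) (.leaf 36010)) (.node (.leaf 36022) (.leaf 35737)))))) (.node (.node (.node (.node (.node (.node (.leaf 13241) (.leaf 22221)) (.leaf 35350)) (.node (.leaf 10392) (.leaf 34877))) (.node (.node (.leaf 6256) (.leaf 13711)) (.node (.leaf 15786) (.leaf 35407)))) (.node (.node (.node (.node (.leaf 4594) (.leaf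 36616)) (.leaf 11939)) (.node (.leaf 5530) (.leaf 17485))) (.node (.node (.leaf 10785) (.leaf 33153)) (.node (.leaf 11117) (.leaf 36907))))) (.node (.node (.node (.node (.node (.leaf 10069) (.leaf 24817)) (.leaf 11564)) (.node (.leaf 34848) (.leaf 16827))) (.node (.node (.leaf 10621) (.leaf 36828)) (.node (.leaf 13556) (.leaf 36304)))) (.node (.node (.node (.leaf 5390) (.leaf 12315)) (.node (.leaf 33729) (.leaf 18429))) (.node (.node (.leaf 8667) (.leaf 32622)) (.node (.leaf 7550) (.leaf 21633))))))
def dFin_96 : BT := .node dFin_94 dFin_95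
def dFin_97 : BT := .node (.node (.node (.node (.node (.node (.node (.leaf 9041) (.leaf 21801)) (.leaf 34244)) (.node (.leaf 33072) (.leaf 16086))) (.node (.node (.leaf 9111) (.leaf 21188)) (.node (.leaf 13636) (.leaf 37004)))) (.node (.node (.node (.node (.leaf 3232) (.leaf 36470)) (.leaf 11647)) (.node (.leaf 31587) (.leaf 17273))) (.node (.node (.leaf 10691) (.leaf 36461)) (.node (.leaf 6738) (.leaf 20363))))) (.node (.node (.node (.node (.node (.leaf 1580) (.leaf 36728)) (.leaf 11307)) (.node (.leaf 33861) (.leaf 16556))) (.node (.node (.leaf 9435) (.leaf 35539)) (.node (.leaf 10477) (.leaf 36415)))) (.node (.node (.node (.node (.leaf 4862) (.leaf 28938)) (.leaf 12049)) (.node (.leaf 15491) (.leaf 31361))) (.node (.node (.leaf 34622) (.leaf 32789)) (.node (.leaf 35371) (.leaf 21233)))))) (.node (.node (.node (.node (.node (.node (.leaf 624) (.leaf 22127)) (.leaf 34737)) (.node (.leaf 9192) (.leaf 16345))) (.node (.node (.leaf 15327) (.leaf 32934)) (.node (.leaf 10935) (.leaf 34923)))) (.node (.node (.node (.node (.leaf 1124) (.leaf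 37076)) (.leaf 13610)) (.node (.leaf 9723) (.leaf 36874))) (.node (.node (.leaf 10767) (.leaf 33339)) (.node (.leaf 17476) (.leaf 20499))))) (.node (.node (.node (.node (.node (.leaf 2672) (.leaf 24756)) (.leaf 15766)) (.node (.leaf 9761) (.leaf 16781))) (.node (.node (.leaf 13291) (.leaf 36841)) (.node (.leaf 35546) (.leaf 34881)))) (.node (.node (.node (.node (.leaf 31955) (.leaf 37216)) (.leaf 12113)) (.node (.leaf 10917) (.leaf 35167))) (.node (.node (.leaf 4448) (.leaf 14811)) (.node (.leaf 30157) (.leaf 21598))))))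
def dFin_98 : BT := .node (.node (.node (.node (.node (.node (.node (.leaf 33391) (.leaf 21914)) (.leaf 10217)) (.node (.leaf 9367) (.leaf 16192))) (.node (.node (.leaf 5854) (.leaf 12759)) (.node (.leaf 34241) (.leaf 19059)))) (.node (.node (.node (.node (.leaf 13117) (.leaf 26243)) (.leaf 11724)) (.node (.leaf 10816) (.leaf 35295))) (.node (.node (.leaf 3225) (.leaf 14259)) (.node (.leaf 15964) (.leaf 20442))))) (.node (.node (.node (.node (.node (.leaf 15155) (.leaf 24293)) (.leaf 11414)) (.node (.leaf 9245) (.leaf 16648))) (.node (.node (.leaf 31865) (.leaf 13963)) (.node (.leaf 34501) (.leaf 20013)))) (.node (.node (.node (.node (.leaf 8849) (.leaf 29125)) (.leaf 20344)) (.node (.leaf 34070) (.leaf 18141))) (.node (.node (.leaf 9673) (.leaf 36060)) (.node (.leaf 13606) (.leaf 35664)))))) (.node (.node (.node (.node (.node (.node (.leaf 9189) (.leaf 32445)) (.leaf 19050)) (.node (.leaf 13415) (.leaf 36221))) (.node (.node (.leaf 34648) (.leaf 15928)) (.node (.leaf 34596) (.leaf 19439)))) (.node (.node (.node (.node (.leaf 9851) (.leaf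 27305)) (.leaf 35048)) (.node (.leaf 14118) (.leaf 17657))) (.node (.node (.leaf 33787) (.leaf 14449)) (.node (.leaf 11129) (.leaf 36296))))) (.node (.node (.node (.node (.node (.leaf 10091) (.leaf 24875)) (.leaf 32044)) (.node (.leaf 8931) (.leaf 35129))) (.node (.node (.leaf 2990) (.leaf 14161)) (.node (.leaf 11031) (.leaf 35289)))) (.node (.node (.node (.leaf 5534) (.leaf 33569)) (.node (.leaf 14604) (.leaf 18599))) (.node (.node (.leaf 15611) (.leaf 36561)) (.node (.leaf 11213) (.leaf 37138))))))
def dFin_99 : BT := .node dFin_97 dFin_98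
def dFin_100 : BT := .node dFin_96 dFin_99
def dFin_101 : BT := .node (.node (.node (.node (.node (.node (.node (.leaf 9603) (.leaf 36967)) (.leaf 34779)) (.node (.leaf 13405) (.leaf 34271))) (.node (.node (.leaf 13099) (.leaf 15696)) (.node (.leaf 14620) (.leaf 18673)))) (.node (.node (.node (.node (.leaf 9013) (.leaf 24943)) (.leaf 30154)) (.node (.leaf 31556) (.leaf 17263))) (.node (.node (.leaf 33537) (.leaf 14201)) (.node (.leaf 11039) (.leaf 36210))))) (.node (.node (.node (.node (.node (.leaf 9691) (.leaf 23968)) (.leaf 30888)) (.node (.leaf 10427) (.leaf 16547))) (.node (.node (.leaf 6346) (.leaf 13882)) (.node (.leaf 10471) (.leaf 36619)))) (.node (.node (.node (.node (.leaf 4818) (.leaf 28627)) (.leaf 34543)) (.node (.leaf 14210) (.leaf 17803))) (.node (.node (.leaf 15595) (.leaf 33213)) (.node (.leaf 11155) (.leaf 35572)))))) (.node (.node (.node (.node (.node (.node (.leaf 15205) (.leaf 22099)) (.leaf 35119)) (.node (.leaf 10387) (.leaf 16336))) (.node (.node (.leaf 6028) (.leaf 12903)) (.node (.leaf 34217) (.leaf 19165))))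 (.node (.node (.node (.node (.leaf 8895) (.leaf 26917)) (.leaf 20006)) (.node (.leaf 13906) (.leaf 17457))) (.node (.node (.leaf 10757) (.leaf 33310)) (.node (.leaf 13514) (.leaf 36263))))) (.node (.node (.node (.node (.node (.leaf 13187) (.leaf 24747)) (.leaf 11502)) (.node (.leaf 33993) (.leaf 33439))) (.node (.node (.leaf 6778) (.leaf 14091)) (.node (.leaf 15898) (.leaf 35340)))) (.node (.node (.node (.node (.leaf 5308) (.leaf 37174)) (.leaf 12107)) (.node (.leaf 14392) (.leaf 18351))) (.node (.node (.leaf 9295) (.leaf 33251)) (.node (.leaf 11163) (.leaf 21589))))))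
def dFin_102 : BT := .node (.node (.node (.node (.node (.node (.node (.leaf 356) (.leaf 36645)) (.leaf 11257)) (.node (.leaf 32845) (.leaf 16127))) (.node (.node (.leaf 9123) (.leaf 12746)) (.node (.leaf 9829) (.leaf 19062)))) (.node (.node (.node (.node (.leaf 3516) (.leaf 26234)) (.leaf 11687)) (.node (.leaf 15507) (.leaf 35820))) (.node (.node (.leaf 7502) (.leaf 32263)) (.node (.leaf 31630) (.leaf 20431))))) (.node (.node (.node (.node (.node (.leaf 1782) (.leaf 35652)) (.leaf 11351)) (.node (.leaf 33951) (.leaf 16589))) (.node (.node (.leaf 9443) (.leaf 13954)) (.node (.leaf 16514) (.leaf 19997)))) (.node (.node (.node (.node (.leaf 8813) (.leaf 36799)) (.leaf 36779)) (.node (.leaf 13572) (.leaf 36993))) (.node (.node (.leaf 34120) (.leaf 15918)) (.node (.leaf 34689) (.leaf 21289)))))) (.node (.node (.node (.node (.node (.node (.leaf 1228) (.leaf 22238)) (.leaf 15810)) (.node (.leaf 10941) (.leaf 16505))) (.node (.node (.leaf 13275) (.leaf 36399)) (.node (.leaf 34208) (.leaf 35037)))) (.node (.node (.node (.node (.leaf 32341) (.leaf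 36320)) (.leaf 11944)) (.node (.leaf 9747) (.leaf 33228))) (.node (.node (.leaf 3242) (.leaf 14441)) (.node (.leaf 34083) (.leaf 20537))))) (.node (.node (.node (.node (.node (.leaf 508) (.leaf 35828)) (.leaf 13474)) (.node (.leaf 9979) (.leaf 36449))) (.node (.node (.leaf 10633) (.leaf 14154)) (.node (.leaf 31227) (.leaf 20291)))) (.node (.node (.node (.leaf 15285) (.leaf 33175)) (.node (.leaf 9785) (.leaf 36634))) (.node (.node (.leaf 35155) (.leaf 14927)) (.node (.leaf 34513) (.leaf 21683))))))
def dFin_103 : BT := .node dFin_101 dFin_102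
def dFin_104 : BT := .node (.node (.node (.node (.node (.node (.node (.leaf 278) (.leaf 36453)) (.leaf 13488)) (.node (.leaf 9353) (.leaf 34833))) (.node (.node (.leaf 10355) (.leaf 34503)) (.node (.leaf 5850) (.leaf 18835)))) (.node (.node (.node (.node (.leaf 15407) (.leaf 25267)) (.leaf 11666)) (.node (.leaf 10811) (.leaf 36908))) (.node (.node (.leaf 35368) (.leaf 14221)) (.node (.leaf 31609) (.leaf 20380))))) (.node (.node (.node (.node (.node (.leaf 34235) (.leaf 36416)) (.leaf 11331)) (.node (.leaf 10439) (.leaf 35526))) (.node (.node (.leaf 6514) (.leaf 13905)) (.node (.leaf 6340) (.leaf 19861)))) (.node (.node (.node (.node (.leaf 13365) (.leaf 28947)) (.leaf 20326)) (.node (.leaf 33845) (.leaf 34905))) (.node (.node (.leaf 8074) (.leaf 14613)) (.node (.leaf 15842) (.leaf 35704)))))) (.node (.node (.node (.node (.node (.node (.leaf 1094) (.leaf 22212)) (.leaf 10259)) (.node (.leaf 15555) (.leaf 24754))) (.node (.node (.leaf 6218) (.leaf 32939)) (.node (.leaf 12998) (.leaf 19193)))) (.node (.node (.node (.node (.leaf 8549) (.leaf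 26947)) (.leaf 16492)) (.node (.leaf 10827) (.leaf 35162))) (.node (.node (.leaf 7598) (.leaf 14387)) (.node (.leaf 10119) (.leaf 36495))))) (.node (.node (.node (.node (.node (.leaf 8989) (.leaf 35140)) (.leaf 22829)) (.node (.leaf 13049) (.leaf 16816))) (.node (.node (.leaf 6880) (.leaf 15954)) (.node (.leaf 14919) (.leaf 20267)))) (.node (.node (.node (.node (.leaf 10301) (.leaf 37225)) (.leaf 34581)) (.node (.leaf 34110) (.leaf 18393))) (.node (.node (.leaf 33483) (.leaf 14845)) (.node (.leaf 11177) (.leaf 36693))))))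
def dFin_105 : BT := .node (.node (.node (.node (.node (.node (.node (.leaf 9467) (.leaf 21921)) (.leaf 8012)) (.node (.leaf 4596) (.leaf 16202))) (.node (.node (.leaf 32963) (.leaf 12771)) (.node (.leaf 10927) (.leaf 23158)))) (.node (.node (.node (.node (.leaf 8891) (.leaf 36648)) (.leaf 15754)) (.node (.leaf 12762) (.leaf 17434))) (.node (.node (.leaf 13393) (.leaf 22254)) (.node (.leaf 11072) (.leaf 35423))))) (.node (.node (.node (.node (.node (.leaf 2500) (.leaf 24363)) (.leaf 33975)) (.node (.leaf 33563) (.leaf 16657))) (.node (.node (.leaf 15371) (.leaf 36205)) (.node (.leaf 10041) (.leaf 35619)))) (.node (.node (.node (.node (.leaf 1508) (.leaf 37144)) (.leaf 13592)) (.node (.leaf 10901) (.leaf 18284))) (.node (.node (.leaf 8653) (.leaf 36848)) (.node (.leaf 7490) (.leaf 21411)))))) (.node (.node (.node (.node (.node (.node (.leaf 8595) (.leaf 23785)) (.leaf 33035)) (.node (.leaf 12094) (.leaf 16527))) (.node (.node (.leaf 10531) (.leaf 35553)) (.node (.leaf 13622) (.leaf 19538)))) (.node (.node (.node (.node (.leaf 9861) (.leaf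 36961)) (.leaf 11975)) (.node (.leaf 33575) (.leaf 17715))) (.node (.node (.leaf 9579) (.leaf 34677)) (.node (.leaf 33854) (.leaf 20827))))) (.node (.node (.node (.node (.node (.leaf 13306) (.leaf 36780)) (.leaf 11589)) (.node (.leaf 5314) (.leaf 17015))) (.node (.node (.leaf 9493) (.leaf 14182)) (.node (.leaf 10049) (.leaf 20330)))) (.node (.node (.node (.leaf 1576) (.leaf 12490)) (.node (.leaf 15517) (.leaf 35116))) (.node (.node (.leaf 32716) (.leaf 34761)) (.node (.leaf 32612) (.leaf 21731))))))
def dFin_106 : BT := .node dFin_104 dFin_105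
def dFin_107 : BT := .node dFin_103 dFin_106
def dFin_108 : BT := .node dFin_100 dFin_107
def dFin_109 : BT := .node (.node (.node (.node (.node (.node (.node (.leaf 9599) (.leaf 21779)) (.leaf 34238)) (.node (.leaf 11576) (.leaf 16071))) (.node (.node (.leaf 34129) (.leaf 12501)) (.node (.leaf 9807) (.leaf 31675)))) (.node (.node (.node (.node (.leaf 13096) (.leaf 37121)) (.leaf 15774)) (.node (.leaf 31621) (.leaf 17255))) (.node (.node (.leaf 13385) (.leaf 36770)) (.node (.leaf 22826) (.leaf 35415))))) (.node (.node (.node (.node (.node (.leaf 419) (.leaf 23958)) (.leaf 32511)) (.node (.leaf 33646) (.leaf 16541))) (.node (.node (.leaf 15357) (.leaf 34697)) (.node (.leaf 10467) (.leaf 30194)))) (.node (.node (.node (.node (.leaf 4700) (.leaf 28622)) (.leaf 13446)) (.node (.leaf 10869) (.leaf 17794))) (.node (.node (.leaf 9613) (.leaf 14560)) (.node (.leaf 34681) (.leaf 21201)))))) (.node (.node (.node (.node (.node (.node (.leaf 9529) (.leaf 22091)) (.leaf 8018)) (.node (.leaf 4680) (.leaf 16227))) (.node (.node (.leaf 10381) (.leaf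 21394)) (.node (.leaf 13207) (.leaf 19162)))) (.node (.node (.node (.node (.leaf 8887) (.leaf 36739)) (.leaf 11881)) (.node (.leaf 32983) (.leaf 17449))) (.node (.node (.leaf 10753) (.leaf 14362)) (.node (.leaf 7040) (.leaf 20475))))) (.node (.node (.node (.node (.node (.leaf 2558) (.leaf 36807)) (.leaf 11435)) (.node (.leaf 5026) (.leaf 16761))) (.node (.node (.leaf 10513) (.leaf 35703)) (.node (.leaf 10995) (.leaf 24752)))) (.node (.node (.node (.node (.leaf 1513) (.leaf 37194)) (.leaf 12103)) (.node (.leaf 15499) (.leaf 31079))) (.node (.node (.leaf 9288) (.leaf 34035)) (.node (.leaf 34021) (.leaf 21583))))))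
def dFin_110 : BT := .node (.node (.node (.node (.node (.node (.node (.leaf 79) (.leaf 36325)) (.leaf 11253)) (.node (.leaf 15619) (.leaf 16120))) (.node (.node (.leaf 5782) (.leaf 33463)) (.node (.leaf 14762) (.leaf 18921)))) (.node (.node (.node (.node (.leaf 9031) (.leaf 25465)) (.leaf 33953)) (.node (.leaf 9695) (.leaf 17431))) (.node (.node (.leaf 27919) (.leaf 14245)) (.node (.leaf 11053) (.leaf 36715))))) (.node (.node (.node (.node (.node (.leaf 8773) (.leaf 36959)) (.leaf 11344)) (.node (.leaf 13423) (.leaf 24934))) (.node (.node (.leaf 2674) (.leaf 15926)) (.node (.leaf 16474) (.leaf 19989)))) (.node (.node (.node (.node (.leaf 8809) (.leaf 29049)) (.leaf 12072)) (.node (.leaf 14376) (.leaf 18057))) (.node (.node (.leaf 35111) (.leaf 14715)) (.node (.leaf 10183) (.leaf 21284)))))) (.node (.node (.node (.node (.node (.node (.leaf 33089) (.leaf 34009)) (.leaf 10279)) (.node (.leaf 10399) (.leaf 35647))) (.node (.node (.leaf 31559) (.leaf 13717)) (.node (.leaf 34328) (.leaf 19281)))) (.node (.node (.node (.node (.leaf 13349) (.leaf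 27217)) (.leaf 35627)) (.node (.leaf 14056) (.leaf 35301))) (.node (.node (.leaf 7554) (.leaf 14435)) (.node (.leaf 15856) (.leaf 36915))))) (.node (.node (.node (.node (.node (.leaf 15195) (.leaf 24825)) (.leaf 19532)) (.node (.leaf 9975) (.leaf 35239))) (.node (.node (.leaf 10627) (.leaf 14129)) (.node (.leaf 32621) (.leaf 20283)))) (.node (.node (.node (.leaf 9085) (.leaf 33560)) (.node (.leaf 33641) (.leaf 18437))) (.node (.node (.leaf 8671) (.leaf 14914)) (.node (.leaf 13484) (.leaf 21678))))))
def dFin_111 : BT := .node dFin_109 dFin_110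
def dFin_112 : BT := .node (.node (.node (.node (.node (.node (.node (.leaf 15089) (.leaf 21809)) (.leaf 7648)) (.node (.leaf 9349) (.leaf 16094))) (.node (.node (.leaf 5668) (.leaf 12707)) (.node (.leaf 33173) (.leaf 18827)))) (.node (.node (.node (.node (.leaf 10163) (.leaf 25259)) (.leaf 33960)) (.node (.leaf 5378) (.leaf 17281))) (.node (.node (.leaf 10695) (.leaf 36516)) (.node (.leaf 13546) (.leaf 36013))))) (.node (.node (.node (.node (.node (.leaf 13149) (.leaf 23995)) (.leaf 22813)) (.node (.leaf 34571) (.leaf 34875))) (.node (.node (.leaf 6496) (.leaf 13899)) (.node (.leaf 15976) (.leaf 36437)))) (.node (.node (.node (.node (.leaf 34567) (.leaf 37236)) (.leaf 12053)) (.node (.leaf 14236) (.leaf 17973))) (.node (.node (.leaf 9639) (.leaf 33675)) (.node (.leaf 10171) (.leaf 35694)))))) (.node (.node (.node (.node (.node (.node (.leaf 8745) (.leaf 22135)) (.leaf 31149)) (.node (.leaf 9197) (.leaf 16476))) (.node (.node (.leaf 4396) (.leaf 13667)) (.node (.leaf 10939) (.leaf 35709)))) (.node (.node (.node (.node (.leaf 4522) (.leaf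 26939)) (.leaf 34359)) (.node (.leaf 33154) (.leaf 17471))) (.node (.node (.leaf 15587) (.leaf 14378)) (.node (.leaf 10115) (.leaf 36145))))) (.node (.node (.node (.node (.node (.leaf 8985) (.leaf 24765)) (.leaf 32625)) (.node (.leaf 34640) (.leaf 16789))) (.node (.node (.leaf 32535) (.leaf 14109)) (.node (.leaf 11007) (.leaf 36676)))) (.node (.node (.node (.node (.leaf 5376) (.leaf 37214)) (.leaf 15734)) (.node (.leaf 33688) (.leaf 18385))) (.node (.node (.leaf 13059) (.leaf 37007)) (.node (.leaf 11170) (.leaf 36369))))))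
def dFin_113 : BT := .node (.node (.node (.node (.node (.node (.node (.leaf 9685) (.leaf 35260)) (.leaf 15820)) (.node (.leaf 11590) (.leaf 16194))) (.node (.node (.leaf 13047) (.leaf 35782)) (.node (.leaf 14912) (.leaf 33585)))) (.node (.node (.node (.node (.leaf 34723) (.leaf 35525)) (.leaf 11727)) (.node (.leaf 10823) (.leaf 35164))) (.node (.node (.leaf 7548) (.leaf 14265)) (.node (.leaf 30457) (.leaf 20451))))) (.node (.node (.node (.node (.node (.leaf 1098) (.leaf 37245)) (.leaf 13642)) (.node (.leaf 9249) (.leaf 32081))) (.node (.node (.leaf 10575) (.leaf 36122)) (.node (.leaf 16582) (.leaf 20021)))) (.node (.node (.node (.node (.leaf 15481) (.leaf 29133)) (.leaf 20440)) (.node (.leaf 10897) (.leaf 35926))) (.node (.node (.leaf 8646) (.leaf 14759)) (.node (.leaf 34469) (.leaf 21399)))))) (.node (.node (.node (.node (.node (.node (.leaf 1240) (.leaf 36860)) (.leaf 11275)) (.node (.leaf 33807) (.leaf 16519))) (.node (.node (.leaf 10527) (.leaf 35279)) (.node (.leaf 35568) (.leaf 19447)))) (.node (.node (.node (.node (.leaf 9859)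 (.leaf 36338)) (.leaf 35347)) (.node (.leaf 13578) (.leaf 17710))) (.node (.node (.leaf 9793) (.leaf 15942)) (.node (.leaf 11134) (.leaf 20819))))) (.node (.node (.node (.node (.node (.leaf 1232) (.leaf 37090)) (.leaf 11585)) (.node (.leaf 15505) (.leaf 35057))) (.node (.node (.leaf 7122) (.leaf 34131)) (.node (.leaf 16814) (.leaf 20319)))) (.node (.node (.node (.leaf 10321) (.leaf 33673)) (.node (.leaf 9795) (.leaf 35293))) (.node (.node (.leaf 32761) (.leaf 14947)) (.node (.leaf 11217) (.leaf 36952))))))
def dFin_114 : BT := .node dFin_112 dFin_113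
def dFin_115 : BT := .node dFin_111 dFin_114
def dFin_116 : BT := .node (.node (.node (.node (.node (.node (.node (.leaf 86) (.leaf 37105)) (.leaf 11239)) (.node (.leaf 32349) (.leaf 16076))) (.node (.node (.leaf 9107) (.leaf 12698)) (.node (.leaf 14746) (.leaf 18681)))) (.node (.node (.node (.node (.leaf 9017) (.leaf 37123)) (.leaf 33842)) (.node (.leaf 13571) (.leaf 32737))) (.node (.node (.leaf 34140) (.leaf 15946)) (.node (.leaf 6740) (.leaf 20355))))) (.node (.node (.node (.node (.node (.leaf 352) (.leaf 36724)) (.leaf 11303)) (.node (.leaf 15629) (.leaf 35504))) (.node (.node (.leaf 6450) (.leaf 34699)) (.node (.leaf 6272) (.leaf 19681)))) (.node (.node (.node (.node (.leaf 8795) (.leaf 28635)) (.leaf 14194)) (.node (.leaf 9753) (.leaf 17966))) (.node (.node (.leaf 34630) (.leaf 14567)) (.node (.leaf 11159) (.leaf 35286)))))) (.node (.node (.node (.node (.node (.node (.leaf 446) (.leaf 36765)) (.leaf 13598)) (.node (.leaf 10391) (.leaf 31766))) (.node (.node (.leaf 9391) (.leaf 33176)) (.node (.leaf 35484) (.leaf 19173)))) (.node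 (.node (.node (.node (.leaf 15429) (.leaf 26925)) (.leaf 35392)) (.node (.leaf 9719) (.leaf 35929))) (.node (.node (.leaf 3234) (.leaf 14371)) (.node (.leaf 34743) (.leaf 20491))))) (.node (.node (.node (.node (.node (.leaf 33359) (.leaf 24758)) (.leaf 11507)) (.node (.leaf 9263) (.leaf 35135))) (.node (.node (.leaf 33262) (.leaf 14097)) (.node (.leaf 16646) (.leaf 20141)))) (.node (.node (.node (.node (.leaf 13069) (.leaf 37189)) (.leaf 20458)) (.node (.leaf 36831) (.leaf 34907))) (.node (.node (.leaf 4450) (.leaf 14805)) (.node (.leaf 15824) (.leaf 36376))))))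
def dFin_117 : BT := .node (.node (.node (.node (.node (.node (.node (.leaf 13045) (.leaf 21905)) (.leaf 33221)) (.node (.leaf 32719) (.leaf 34373))) (.node (.node (.leaf 5830) (.leaf 12755)) (.node (.leaf 15525) (.leaf 22818)))) (.node (.node (.node (.node (.leaf 3534) (.leaf 36809)) (.leaf 11691)) (.node (.leaf 34331) (.leaf 17421))) (.node (.node (.leaf 10713) (.leaf 33201)) (.node (.leaf 11065) (.leaf 36302))))) (.node (.node (.node (.node (.node (.leaf 9927) (.leaf 24285)) (.leaf 22809)) (.node (.leaf 33617) (.leaf 16597))) (.node (.node (.leaf 9447) (.leaf 36551)) (.node (.leaf 13525) (.leaf 28620)))) (.node (.node (.node (.node (.leaf 34644) (.leaf 36695)) (.leaf 12079)) (.node (.leaf 32311) (.leaf 18133))) (.node (.node (.leaf 9669) (.leaf 34047)) (.node (.leaf 34682) (.leaf 21297)))))) (.node (.node (.node (.node (.node (.node (.leaf 9185) (.leaf 22247)) (.leaf 32758)) (.node (.leaf 31107) (.leaf 16513))) (.node (.node (.leaf 31629) (.leaf 13803)) (.node (.leaf 9403) (.leaf 23172)))) (.node (.node (.node (.node (.leaf 4678)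 (.leaf 36334)) (.leaf 15876)) (.node (.leaf 23091) (.leaf 17649))) (.node (.node (.leaf 13401) (.leaf 30425)) (.node (.leaf 35098) (.leaf 35431))))) (.node (.node (.node (.node (.node (.leaf 2994) (.leaf 24867)) (.leaf 33091)) (.node (.leaf 12710) (.leaf 16841))) (.node (.node (.leaf 15561) (.leaf 34113)) (.node (.leaf 11027) (.leaf 20308)))) (.node (.node (.node (.leaf 1570) (.leaf 13628)) (.node (.leaf 9789) (.leaf 18590))) (.node (.node (.leaf 8675) (.leaf 36859)) (.node (.leaf 7594) (.leaf 21691))))))
def dFin_118 : BT := .node dFin_116 dFin_117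
def dFin_119 : BT := .node (.node (.node (.node (.node (.node (.node (.leaf 33969) (.leaf 21883)) (.leaf 34519)) (.node (.leaf 4586) (.leaf 16103))) (.node (.node (.leaf 15273) (.leaf 21222)) (.node (.leaf 9823) (.leaf 37075)))) (.node (.node (.node (.node (.leaf 2678) (.leaf 25452)) (.leaf 13454)) (.node (.leaf 10815) (.leaf 17338))) (.node (.node (.leaf 9545) (.leaf 22447)) (.node (.leaf 33075) (.leaf 20388))))) (.node (.node (.node (.node (.node (.leaf 1630) (.leaf 24062)) (.leaf 15776)) (.node (.leaf 10855) (.leaf 16573))) (.node (.node (.leaf 13287) (.leaf 35545)) (.node (.leaf 36548) (.leaf 33085)))) (.node (.node (.node (.node (.leaf 34183) (.leaf 36791)) (.leaf 12058)) (.node (.leaf 10875) (.leaf 33150))) (.node (.node (.leaf 35361) (.leaf 14619)) (.node (.leaf 34950) (.leaf 21263)))))) (.node (.node (.node (.node (.node (.node (.leaf 1120) (.leaf 36468)) (.leaf 10263)) (.node (.leaf 35042) (.leaf 16485))) (.node (.node (.leaf 8949) (.leaf 31303)) (.node (.leaf 9995) (.leaf 34981)))) (.node (.node (.node (.node (.leaf 4570) (.leaf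 27206)) (.leaf 11935)) (.node (.leaf 15483) (.leaf 36271))) (.node (.node (.leaf 33606) (.leaf 33027)) (.node (.leaf 7176) (.leaf 20523))))) (.node (.node (.node (.node (.node (.leaf 31862) (.leaf 37170)) (.leaf 11525)) (.node (.leaf 33551) (.leaf 16819))) (.node (.node (.leaf 10617) (.leaf 35616)) (.node (.leaf 31169) (.leaf 20275)))) (.node (.node (.node (.node (.leaf 10305) (.leaf 37233)) (.leaf 20812)) (.node (.leaf 12981) (.leaf 37049))) (.node (.node (.leaf 4516) (.leaf 15910)) (.node (.leaf 7552) (.leaf 21625))))))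
def dFin_120 : BT := .node (.node (.node (.node (.node (.node (.node (.leaf 9471) (.leaf 35851)) (.leaf 34671)) (.node (.leaf 13413) (.leaf 16216))) (.node (.node (.leaf 6016) (.leaf 15930)) (.node (.leaf 9898) (.leaf 19089)))) (.node (.node (.node (.node (.leaf 8873) (.leaf 26461)) (.leaf 34293)) (.node (.leaf 9702) (.leaf 17442))) (.node (.node (.leaf 33775) (.leaf 14273)) (.node (.leaf 11079) (.leaf 36679))))) (.node (.node (.node (.node (.node (.leaf 9285) (.leaf 24371)) (.leaf 34603)) (.node (.leaf 9251) (.leaf 35691))) (.node (.node (.leaf 32095) (.leaf 14065)) (.node (.leaf 10045) (.leaf 36823)))) (.node (.node (.node (.node (.leaf 32476) (.leaf 37151)) (.leaf 35205)) (.node (.leaf 14470) (.leaf 18293))) (.node (.node (.leaf 15549) (.leaf 36847)) (.node (.leaf 10945) (.leaf 36352)))))) (.node (.node (.node (.node (.node (.node (.leaf 15243) (.leaf 23793)) (.leaf 19080)) (.node (.leaf 9215) (.leaf 35575))) (.node (.node (.leaf 10807) (.leaf 13871)) (.node (.leaf 33461) (.leaf 19541)))) (.node (.node (.node (.node (.leaf 9867) (.leaf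 28183)) (.leaf 12016)) (.node (.leaf 10856) (.leaf 17723))) (.node (.node (.leaf 9583) (.leaf 35078)) (.node (.leaf 13498) (.leaf 35749))))) (.node (.node (.node (.node (.node (.leaf 13313) (.leaf 24903)) (.leaf 34338)) (.node (.leaf 13658) (.leaf 31993))) (.node (.node (.leaf 33898) (.leaf 14187)) (.node (.leaf 15968) (.leaf 36337)))) (.node (.node (.node (.leaf 13309) (.leaf 12494)) (.node (.leaf 5842) (.leaf 18631))) (.node (.node (.leaf 9335) (.leaf 33936)) (.node (.leaf 11219) (.leaf 36981))))))
def dFin_121 : BT := .node dFin_119 dFin_120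
def dFin_122 : BT := .node dFin_118 dFin_121
def dFin_123 : BT := .node dFin_115 dFin_122
def dFin_124 : BT := .node dFin_108 dFin_123
def dFin_125 : BT := .node dFin_93 dFin_124
def dFin_126 : BT := .node dFin_62 dFin_125
def dFin_127 : BT := .node (.node (.node (.node (.node (.node (.node (.leaf 1) (.leaf 37014)) (.leaf 11220)) (.node (.leaf 15612) (.leaf 36436))) (.node (.node (.leaf 10861) (.leaf 33206)) (.node (.leaf 34170) (.leaf 18632)))) (.node (.node (.node (.node (.leaf 10144) (.leaf 24904)) (.leaf 22805)) (.node (.leaf 9378) (.leaf 34386))) (.node (.node (.leaf 33890) (.leaf 14188)) (.node (.leaf 10054) (.leaf 36883))))) (.node (.node (.node (.node (.node (.leaf 8600) (.leaf 36869)) (.leaf 34832)) (.node (.leaf 13250) (.leaf 35639))) (.node (.node (.leaf 2555) (.leaf 15923)) (.node (.leaf 6257) (.leaf 19542)))) (.node (.node (.node (.node (.leaf 9868) (.leaf 28184)) (.leaf 35256)) (.node (.leaf 33263) (.leaf 17724))) (.node (.node (.leaf 33116) (.leaf 14474)) (.node (.leaf 11144) (.leaf 35827)))))) (.node (.node (.node (.node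 (.node (.node (.leaf 32662) (.leaf 36279)) (.leaf 10226)) (.node (.leaf 9374) (.leaf 35839))) (.node (.node (.leaf 6025) (.leaf 12776)) (.node (.leaf 34247) (.leaf 19090)))) (.node (.node (.node (.node (.leaf 13264) (.leaf 26462)) (.leaf 19985)) (.node (.leaf 32250) (.leaf 35296))) (.node (.node (.leaf 32591) (.leaf 14274)) (.node (.leaf 15967) (.leaf 36681))))) (.node (.node (.node (.node (.node (.leaf 15166) (.leaf 24372)) (.leaf 35402)) (.node (.leaf 9252) (.leaf 35712))) (.node (.node (.leaf 31912) (.leaf 14066)) (.node (.leaf 34756) (.leaf 20036)))) (.node (.node (.node (.node (.leaf 9310) (.leaf 37152)) (.leaf 14181)) (.node (.leaf 5673) (.leaf 18294))) (.node (.node (.leaf 8658) (.leaf 14765)) (.node (.leaf 13445) (.leaf 36357))))))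
def dFin_128 : BT := .node (.node (.node (.node (.node (.node (.node (.leaf 8830) (.leaf 21884)) (.leaf 12017)) (.node (.leaf 32549) (.leaf 16104))) (.node (.node (.leaf 10360) (.leaf 12715)) (.node (.leaf 13639) (.leaf 37077)))) (.node (.node (.node (.node (.leaf 12950) (.leaf 35814)) (.leaf 11674)) (.node (.leaf 33810) (.leaf 17340))) (.node (.node (.leaf 9546) (.leaf 14237)) (.node (.leaf 34637) (.leaf 20391))))) (.node (.node (.node (.node (.node (.leaf 357) (.leaf 36953)) (.leaf 11336)) (.node (.leaf 34615) (.leaf 16574))) (.node (.node (.leaf 10562) (.leaf 13907)) (.node (.leaf 10028) (.leaf 36004)))) (.node (.node (.node (.node (.leaf 1331) (.leaf 36802)) (.leaf 12063)) (.node (.leaf 15492) (.leaf 18043))) (.node (.node (.leaf 36598) (.leaf 33622)) (.node (.leaf 35088) (.leaf 21264)))))) (.node (.node (.node (.node (.node (.node (.leaf 8917) (.leaf 22214)) (.leaf 35068)) (.node (.leaf 35626) (.leaf 16486))) (.node (.node (.leaf 15346) (.leaf 31319)) (.node (.leaf 9996) (.leaf 35269)))) (.node (.node (.node (.node (.leaf 4583)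 (.leaf 27223)) (.leaf 13521)) (.node (.leaf 10832) (.leaf 36536))) (.node (.node (.leaf 10780) (.leaf 34007)) (.node (.leaf 33672) (.leaf 20524))))) (.node (.node (.node (.node (.node (.leaf 32466) (.leaf 36746)) (.leaf 15749)) (.node (.leaf 32596) (.leaf 16820))) (.node (.node (.leaf 13292) (.leaf 35024)) (.node (.leaf 16755) (.leaf 35408)))) (.node (.node (.node (.leaf 33392) (.leaf 12310)) (.node (.leaf 9772) (.leaf 37051))) (.node (.node (.leaf 8662) (.leaf 14852)) (.node (.leaf 33838) (.leaf 21626))))))
def dFin_129 : BT := .node dFin_127 dFin_128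
def dFin_130 : BT := .node (.node (.node (.node (.node (.node (.node (.leaf 9135) (.leaf 21795)) (.leaf 15835)) (.node (.leaf 22546) (.leaf 16081))) (.node (.node (.leaf 13042) (.leaf 12711)) (.node (.leaf 14767) (.leaf 35120)))) (.node (.node (.node (.node (.leaf 34524) (.leaf 37102)) (.leaf 11642)) (.node (.leaf 10496) (.leaf 32514))) (.node (.node (.leaf 33852) (.leaf 14208)) (.node (.leaf 31977) (.leaf 20356))))) (.node (.node (.node (.node (.node (.leaf 1571) (.leaf 23985)) (.leaf 13466)) (.node (.leaf 10432) (.leaf 24865))) (.node (.node (.leaf 9430) (.leaf 21681)) (.node (.leaf 31649) (.leaf 19682)))) (.node (.node (.node (.node (.leaf 15456) (.leaf 28636)) (.leaf 20279)) (.node (.leaf 9754) (.leaf 26455))) (.node (.node (.leaf 8071) (.leaf 14568)) (.node (.leaf 34166) (.leaf 21226)))))) (.node (.node (.node (.node (.node (.node (.leaf 519) (.leaf 36084)) (.leaf 10238)) (.node (.leaf 33508) (.leaf 16338))) (.node (.node (.leaf 9392) (.leaf 33009)) (.node (.leaf 16121) (.leaf 19174)))) (.node (.node (.node (.node (.leaf 8900) (.leaf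 36375)) (.leaf 11907)) (.node (.leaf 13657) (.leaf 17461))) (.node (.node (.leaf 7645) (.leaf 15939)) (.node (.leaf 17428) (.leaf 20492))))) (.node (.node (.node (.node (.node (.leaf 2425) (.leaf 35131)) (.leaf 11508)) (.node (.leaf 15642) (.leaf 35393))) (.node (.node (.leaf 32532) (.leaf 32750)) (.node (.leaf 22981) (.leaf 20142)))) (.node (.node (.node (.node (.leaf 9964) (.leaf 37190)) (.leaf 20515)) (.node (.leaf 10912) (.leaf 35163))) (.node (.node (.leaf 5251) (.leaf 14806)) (.node (.leaf 11168) (.leaf 36366))))))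
def dFin_131 : BT := .node (.node (.node (.node (.node (.node (.node (.leaf 9142) (.leaf 21906)) (.leaf 33229)) (.node (.leaf 9362) (.leaf 34610))) (.node (.node (.leaf 5843) (.leaf 13427)) (.node (.leaf 9834) (.leaf 19051)))) (.node (.node (.node (.node (.leaf 625) (.leaf 26236)) (.leaf 33954)) (.node (.leaf 34339) (.leaf 17422))) (.node (.node (.leaf 15580) (.leaf 22239)) (.node (.leaf 11066) (.leaf 36240))))) (.node (.node (.node (.node (.node (.leaf 9928) (.leaf 24286)) (.leaf 13652)) (.node (.leaf 33106) (.leaf 16598))) (.node (.node (.leaf 33888) (.leaf 13956)) (.node (.leaf 10990) (.leaf 20025)))) (.node (.node (.node (.node (.leaf 5035) (.leaf 36734)) (.leaf 15729)) (.node (.leaf 14255) (.leaf 18134))) (.node (.node (.leaf 13236) (.leaf 14763)) (.node (.leaf 35079) (.leaf 35683)))))) (.node (.node (.node (.node (.node (.node (.leaf 13248) (.leaf 22248)) (.leaf 22464)) (.node (.leaf 4757) (.leaf 34988))) (.node (.node (.leaf 10518) (.leaf 13804)) (.node (.leaf 15784) (.leaf 19431)))) (.node (.node (.node (.node (.leaf 4691) (.leaf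 27297)) (.leaf 11953)) (.node (.leaf 14087) (.leaf 17650))) (.node (.node (.leaf 10796) (.leaf 30361)) (.node (.leaf 11124) (.leaf 36303))))) (.node (.node (.node (.node (.node (.leaf 10086) (.leaf 24868)) (.leaf 11591)) (.node (.leaf 12747) (.leaf 16842))) (.node (.node (.leaf 10642) (.leaf 22087)) (.node (.leaf 13559) (.leaf 36771)))) (.node (.node (.node (.leaf 33830) (.leaf 12430)) (.node (.leaf 32360) (.leaf 18592))) (.node (.node (.leaf 8676) (.leaf 36555)) (.node (.leaf 33397) (.leaf 21692))))))
def dFin_132 : BT := .node dFin_130 dFin_131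
def dFin_133 : BT := .node dFin_129 dFin_132
def dFin_134 : BT := .node (.node (.node (.node (.node (.node (.node (.leaf 13230) (.leaf 21780)) (.leaf 18341)) (.node (.leaf 11595) (.leaf 32690))) (.node (.node (.leaf 1591) (.leaf 12502)) (.node (.leaf 15518) (.leaf 35379)))) (.node (.node (.node (.node (.leaf 515) (.leaf 37163)) (.leaf 11602)) (.node (.leaf 22906) (.leaf 17256))) (.node (.node (.leaf 10666) (.leaf 20311)) (.node (.leaf 11034) (.leaf 20365))))) (.node (.node (.node (.node (.node (.leaf 9686) (.leaf 23963)) (.leaf 30981)) (.node (.leaf 33965) (.leaf 16542))) (.node (.node (.leaf 10544) (.leaf 35346)) (.node (.leaf 13565) (.leaf 19687)))) (.node (.node (.node (.node (.leaf 1241) (.leaf 35742)) (.leaf 12022)) (.node (.leaf 33272) (.leaf 17796))) (.node (.node (.leaf 9614) (.leaf 34418)) (.node (.leaf 34456) (.leaf 21202)))))) (.node (.node (.node (.node (.node (.node (.leaf 9530) (.leaf 22092)) (.leaf 18669)) (.node (.leaf 13370) (.leaf 16228))) (.node (.node (.leaf 33376) (.leaf 12898)) (.node (.leaf 9904) (.leaf 35538))))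 (.node (.node (.node (.node (.leaf 8890) (.leaf 36377)) (.leaf 15887)) (.node (.leaf 13874) (.leaf 17450))) (.node (.node (.leaf 13394) (.leaf 34169)) (.node (.leaf 17339) (.leaf 35424))))) (.node (.node (.node (.node (.node (.leaf 10557) (.leaf 24740)) (.leaf 34844)) (.node (.leaf 12499) (.leaf 16762))) (.node (.node (.leaf 15372) (.leaf 35597)) (.node (.leaf 10996) (.leaf 36257)))) (.node (.node (.node (.node (.leaf 1516) (.leaf 37201)) (.leaf 13595)) (.node (.leaf 10910) (.leaf 36517))) (.node (.node (.leaf 9290) (.leaf 14813)) (.node (.leaf 31086) (.leaf 21584))))))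
def dFin_135 : BT := .node (.node (.node (.node (.node (.node (.node (.leaf 347) (.leaf 21895)) (.leaf 13448)) (.node (.leaf 9360) (.leaf 35531))) (.node (.node (.leaf 9118) (.leaf 12763)) (.node (.leaf 33200) (.leaf 18922)))) (.node (.node (.node (.node (.leaf 15410) (.leaf 25466)) (.leaf 34102)) (.node (.leaf 9696) (.leaf 36635))) (.node (.node (.leaf 33155) (.leaf 14246)) (.node (.leaf 32848) (.leaf 20424))))) (.node (.node (.node (.node (.node (.leaf 33878) (.leaf 24295)) (.leaf 11346)) (.node (.leaf 10454) (.leaf 16583))) (.node (.node (.leaf 9703) (.leaf 13918)) (.node (.leaf 34794) (.leaf 19990)))) (.node (.node (.node (.node (.leaf 12966) (.leaf 29050)) (.leaf 36067)) (.node (.leaf 33917) (.leaf 33140))) (.node (.node (.leaf 35072) (.leaf 14716)) (.node (.leaf 15841) (.leaf 37113)))))) (.node (.node (.node (.node (.node (.node (.leaf 353) (.leaf 33244)) (.leaf 10280)) (.node (.leaf 15556) (.leaf 36236))) (.node (.node (.leaf 2501) (.leaf 31576)) (.node (.leaf 13538) (.leaf 19282)))) (.node (.node (.node (.node (.leaf 8922) (.leaf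 27218)) (.leaf 11955)) (.node (.leaf 9742) (.leaf 34008))) (.node (.node (.leaf 7605) (.leaf 14436)) (.node (.leaf 11122) (.leaf 20529))))) (.node (.node (.node (.node (.node (.leaf 10074) (.leaf 36755)) (.leaf 35321)) (.node (.leaf 13168) (.leaf 25255))) (.node (.node (.leaf 34186) (.leaf 15957)) (.node (.leaf 32268) (.leaf 20284)))) (.node (.node (.node (.leaf 9086) (.leaf 12423)) (.node (.leaf 33989) (.leaf 18438))) (.node (.node (.leaf 34314) (.leaf 14916)) (.node (.leaf 11196) (.leaf 35840))))))
def dFin_136 : BT := .node dFin_134 dFin_135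
def dFin_137 : BT := .node (.node (.node (.node (.node (.node (.node (.leaf 9046) (.leaf 37094)) (.leaf 18381)) (.node (.leaf 13406) (.leaf 35665))) (.node (.node (.leaf 5675) (.leaf 15873)) (.node (.leaf 33631) (.leaf 18828)))) (.node (.node (.node (.node (.leaf 10164) (.leaf 25260)) (.leaf 11679)) (.node (.leaf 33398) (.leaf 17282))) (.node (.node (.leaf 34144) (.leaf 14214)) (.node (.leaf 10966) (.leaf 36096))))) (.node (.node (.node (.node (.node (.leaf 9738) (.leaf 23996)) (.leaf 11323)) (.node (.leaf 10434) (.leaf 35291))) (.node (.node (.leaf 34138) (.leaf 13900)) (.node (.leaf 10482) (.leaf 19853)))) (.node (.node (.node (.node (.leaf 1245) (.leaf 28940)) (.leaf 35184)) (.node (.leaf 14253) (.leaf 17974))) (.node (.node (.leaf 15596) (.leaf 34683)) (.node (.leaf 10172) (.leaf 35698)))))) (.node (.node (.node (.node (.node (.node (.leaf 15210) (.leaf 22136)) (.leaf 31078)) (.node (.leaf 9198) (.leaf 35220))) (.node (.node (.leaf 9193) (.leaf 13668)) (.node (.leaf 33530) (.leaf 19186)))) (.node (.node (.node (.node (.leaf 8542)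 (.leaf 26940)) (.leaf 11931)) (.node (.leaf 34727) (.leaf 17472))) (.node (.node (.leaf 10772) (.leaf 36478)) (.node (.leaf 13609) (.leaf 37048))))) (.node (.node (.node (.node (.node (.leaf 13010) (.leaf 24766)) (.leaf 19435)) (.node (.leaf 33771) (.leaf 32680))) (.node (.node (.leaf 6693) (.leaf 14110)) (.node (.leaf 15896) (.leaf 36310)))) (.node (.node (.node (.node (.leaf 5387) (.leaf 37237)) (.leaf 12118)) (.node (.leaf 33692) (.leaf 18386))) (.node (.node (.leaf 8640) (.leaf 30362)) (.node (.leaf 11172) (.leaf 36790))))))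
def dFin_138 : BT := .node (.node (.node (.node (.node (.node (.node (.leaf 443) (.leaf 36542)) (.leaf 10222)) (.node (.leaf 11669) (.leaf 16197))) (.node (.node (.leaf 9164) (.leaf 21285)) (.node (.leaf 10922) (.leaf 33338)))) (.node (.node (.node (.node (.leaf 1095) (.leaf 26453)) (.leaf 11728)) (.node (.leaf 15564) (.leaf 36682))) (.node (.node (.leaf 33772) (.leaf 33019)) (.node (.leaf 33848) (.leaf 20452))))) (.node (.node (.node (.node (.node (.leaf 9841) (.leaf 36960)) (.leaf 11420)) (.node (.leaf 33996) (.leaf 16650))) (.node (.node (.leaf 10576) (.leaf 21881)) (.node (.leaf 35338) (.leaf 20022)))) (.node (.node (.node (.node (.leaf 8854) (.leaf 36698)) (.leaf 20463)) (.node (.leaf 13575) (.leaf 35783))) (.node (.node (.leaf 33736) (.leaf 15909)) (.node (.leaf 10940) (.leaf 21404)))))) (.node (.node (.node (.node (.node (.node (.leaf 1329) (.leaf 36863)) (.leaf 15757)) (.node (.leaf 12054) (.leaf 16520))) (.node (.node (.leaf 13282) (.leaf 21679)) (.node (.leaf 6219) (.leaf 32714)))) (.node (.node (.node (.node (.leaf 32674)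 (.leaf 36978)) (.leaf 11970)) (.node (.leaf 10850) (.leaf 34053))) (.node (.node (.leaf 7943) (.leaf 14456)) (.node (.leaf 33286) (.leaf 20820))))) (.node (.node (.node (.node (.node (.leaf 34657) (.leaf 24893)) (.leaf 13453)) (.node (.leaf 8936) (.leaf 17007))) (.node (.node (.leaf 9486) (.leaf 14179)) (.node (.leaf 16193) (.leaf 20320)))) (.node (.node (.node (.leaf 15252) (.leaf 33598)) (.node (.leaf 9796) (.leaf 27207))) (.node (.node (.leaf 11503) (.leaf 14948)) (.node (.leaf 32900) (.leaf 21724))))))
def dFin_139 : BT := .node dFin_137 dFin_138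
def dFin_140 : BT := .node dFin_136 dFin_139
def dFin_141 : BT := .node dFin_133 dFin_140
def dFin_142 : BT := .node (.node (.node (.node (.node (.node (.node (.leaf 9) (.leaf 21771)) (.leaf 11224)) (.node (.leaf 22525) (.leaf 16064))) (.node (.node (.leaf 10336) (.leaf 33701)) (.node (.leaf 9802) (.leaf 35523)))) (.node (.node (.node (.node (.leaf 1585) (.leaf 37089)) (.leaf 11598)) (.node (.leaf 15502) (.leaf 35583))) (.node (.node (.leaf 2995) (.leaf 35324)) (.node (.leaf 31549) (.leaf 20338))))) (.node (.node (.node (.node (.node (.leaf 1523) (.leaf 23973)) (.leaf 11292)) (.node (.leaf 34866) (.leaf 16534))) (.node (.node (.leaf 10540) (.leaf 34064)) (.node (.leaf 31528) (.leaf 19550)))) (.node (.node (.node (.node (.leaf 9872) (.leaf 36932)) (.leaf 36528)) (.node (.leaf 13366) (.leaf 36207))) (.node (.node (.leaf 34185) (.leaf 15850)) (.node (.leaf 17713) (.leaf 21194)))))) (.node (.node (.node (.node (.node (.node (.leaf 513) (.leaf 36270)) (.leaf 15813)) (.node (.leaf 10921) (.leaf 16220))) (.node (.node (.leaf 13198) (.leaf 12911))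 (.node (.leaf 14941) (.leaf 32630)))) (.node (.node (.node (.node (.leaf 32664) (.leaf 36379)) (.leaf 11876)) (.node (.leaf 9710) (.leaf 35813))) (.node (.node (.leaf 7603) (.leaf 14280)) (.node (.leaf 13955) (.leaf 20468))))) (.node (.node (.node (.node (.node (.leaf 2549) (.leaf 24735)) (.leaf 13645)) (.node (.leaf 9256) (.leaf 16753))) (.node (.node (.leaf 10508) (.leaf 35657)) (.node (.leaf 30889) (.leaf 20044)))) (.node (.node (.node (.node (.leaf 15344) (.leaf 37164)) (.leaf 20489)) (.node (.leaf 10906) (.leaf 35173))) (.node (.node (.leaf 11287) (.leaf 14774)) (.node (.leaf 34408) (.leaf 21576))))))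
def dFin_143 : BT := .node (.node (.node (.node (.node (.node (.node (.leaf 15112) (.leaf 21892)) (.leaf 31139)) (.node (.leaf 9356) (.leaf 35440))) (.node (.node (.leaf 12949) (.leaf 12722)) (.node (.leaf 32234) (.leaf 18914)))) (.node (.node (.node (.node (.leaf 9026) (.leaf 25458)) (.leaf 22748)) (.node (.leaf 33404) (.leaf 17348))) (.node (.node (.leaf 9550) (.leaf 33532)) (.node (.leaf 13470) (.leaf 36220))))) (.node (.node (.node (.node (.node (.leaf 12974) (.leaf 24072)) (.leaf 19163)) (.node (.leaf 34623) (.leaf 35146))) (.node (.node (.leaf 6215) (.leaf 13912)) (.node (.leaf 15861) (.leaf 34827)))) (.node (.node (.node (.node (.leaf 8802) (.leaf 29041)) (.leaf 12067)) (.node (.leaf 5665) (.leaf 18050))) (.node (.node (.leaf 9656) (.leaf 35485)) (.node (.leaf 10178) (.leaf 35670)))))) (.node (.node (.node (.node (.node (.node (.leaf 8628) (.leaf 22222)) (.leaf 35356)) (.node (.leaf 10394) (.leaf 24739))) (.node (.node (.leaf 23890) (.leaf 13712)) (.node (.leaf 10000) (.leaf 35473)))) (.node (.node (.node (.node (.leaf 1129) (.leaf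 27210)) (.leaf 34362)) (.node (.leaf 34558) (.leaf 17486))) (.node (.node (.leaf 15588) (.leaf 14427)) (.node (.leaf 11118) (.leaf 36909))))) (.node (.node (.node (.node (.node (.leaf 10070) (.leaf 24818)) (.leaf 33691)) (.node (.leaf 12697) (.leaf 16828))) (.node (.node (.leaf 31858) (.leaf 14122)) (.node (.leaf 11020) (.leaf 36922)))) (.node (.node (.node (.leaf 5431) (.leaf 15709)) (.node (.leaf 5831) (.leaf 18430))) (.node (.node (.leaf 13024) (.leaf 31187)) (.node (.leaf 18131) (.leaf 36381))))))
def dFin_144 : BT := .node dFin_142 dFin_143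
def dFin_145 : BT := .node (.node (.node (.node (.node (.node (.node (.leaf 9042) (.leaf 21802)) (.leaf 34248)) (.node (.leaf 11667) (.leaf 16089))) (.node (.node (.leaf 34574) (.leaf 12702)) (.node (.leaf 9814) (.leaf 37018)))) (.node (.node (.node (.node (.leaf 3239) (.leaf 25251)) (.leaf 15771)) (.node (.leaf 33394) (.leaf 17274))) (.node (.node (.leaf 13386) (.leaf 14211)) (.node (.leaf 17009) (.leaf 35416))))) (.node (.node (.node (.node (.node (.leaf 10353) (.leaf 23988)) (.leaf 31982)) (.node (.leaf 33862) (.leaf 16559))) (.node (.node (.leaf 15358) (.leaf 35365)) (.node (.leaf 10478) (.leaf 36421)))) (.node (.node (.node (.node (.leaf 34137) (.leaf 36452)) (.leaf 13589)) (.node (.leaf 9758) (.leaf 36510))) (.node (.node (.leaf 9634) (.leaf 14621)) (.node (.leaf 13543) (.leaf 21234)))))) (.node (.node (.node (.node (.node (.node (.leaf 8740) (.leaf 22128)) (.leaf 8075)) (.node (.leaf 13208) (.leaf 16346))) (.node (.node (.leaf 9396) (.leaf 13659)) (.node (.leaf 13617) (.leaf 36068)))) (.node (.node (.node (.node (.leaf 8647) (.leaf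 36297)) (.leaf 11914)) (.node (.leaf 34232) (.leaf 17464))) (.node (.node (.leaf 10768) (.leaf 14393)) (.node (.leaf 35932) (.leaf 20500))))) (.node (.node (.node (.node (.node (.leaf 441) (.leaf 35138)) (.leaf 11512)) (.node (.leaf 34067) (.leaf 16782))) (.node (.node (.leaf 10598) (.leaf 14105)) (.node (.leaf 11002) (.leaf 20331)))) (.node (.node (.node (.node (.leaf 5243) (.leaf 37241)) (.leaf 12114)) (.node (.leaf 15500) (.leaf 26937))) (.node (.node (.leaf 11345) (.leaf 32447)) (.node (.leaf 33636) (.leaf 21601))))))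
def dFin_146 : BT := .node (.node (.node (.node (.node (.node (.node (.leaf 420) (.leaf 37219)) (.leaf 10218)) (.node (.leaf 15620) (.leaf 34300))) (.node (.node (.leaf 1639) (.leaf 33884)) (.node (.leaf 34277) (.leaf 19060)))) (.node (.node (.node (.node (.leaf 9066) (.leaf 26244)) (.leaf 23173)) (.node (.leaf 10818) (.leaf 17430))) (.node (.node (.leaf 32922) (.leaf 14260)) (.node (.leaf 11070) (.leaf 36628))))) (.node (.node (.node (.node (.node (.leaf 9932) (.leaf 36480)) (.leaf 33972)) (.node (.leaf 13158) (.leaf 32271))) (.node (.node (.leaf 31996) (.leaf 15866)) (.node (.leaf 16546) (.leaf 20014)))) (.node (.node (.node (.node (.leaf 8850) (.leaf 29126)) (.leaf 20423)) (.node (.leaf 14429) (.leaf 18142))) (.node (.node (.leaf 34710) (.leaf 14752)) (.node (.leaf 10190) (.leaf 35687)))))) (.node (.node (.node (.node (.node (.node (.leaf 33506) (.leaf 36858)) (.leaf 11270)) (.node (.leaf 10422) (.leaf 34926))) (.node (.node (.leaf 6339) (.leaf 13810)) (.node (.leaf 35049) (.leaf 19440)))) (.node (.node (.node (.node (.leaf 13272)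 (.leaf 27306)) (.leaf 20135)) (.node (.leaf 5535) (.leaf 33236))) (.node (.node (.leaf 9819) (.leaf 14450)) (.node (.leaf 15859) (.leaf 36309))))) (.node (.node (.node (.node (.node (.leaf 15384) (.leaf 24876)) (.leaf 11577)) (.node (.leaf 8932) (.leaf 35558))) (.node (.node (.leaf 6343) (.leaf 14162)) (.node (.leaf 32274) (.leaf 20312)))) (.node (.node (.node (.leaf 10316) (.leaf 33590)) (.node (.leaf 9792) (.leaf 18600))) (.node (.node (.leaf 8680) (.leaf 14939)) (.node (.leaf 13491) (.leaf 21719))))))
def dFin_147 : BT := .node dFin_145 dFin_146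
def dFin_148 : BT := .node dFin_144 dFin_147
def dFin_149 : BT := .node (.node (.node (.node (.node (.node (.node (.leaf 34342) (.leaf 37100)) (.leaf 11234)) (.node (.leaf 9342) (.leaf 16091))) (.node (.node (.leaf 1581) (.leaf 12506)) (.node (.leaf 34676) (.leaf 18674)))) (.node (.node (.node (.node (.leaf 13104) (.leaf 24944)) (.leaf 11639)) (.node (.leaf 5321) (.leaf 32030))) (.node (.node (.leaf 10903) (.leaf 14202)) (.node (.leaf 15961) (.leaf 20347))))) (.node (.node (.node (.node (.node (.leaf 15180) (.leaf 23971)) (.leaf 11297)) (.node (.leaf 10428) (.leaf 35586))) (.node (.node (.leaf 2565) (.leaf 13885)) (.node (.leaf 31592) (.leaf 19674)))) (.node (.node (.node (.node (.leaf 8790) (.leaf 28628)) (.leaf 12045)) (.node (.leaf 13154) (.leaf 17804))) (.node (.node (.leaf 9618) (.leaf 35265)) (.node (.leaf 13501) (.leaf 37099)))))) (.node (.node (.node (.node (.node (.node (.leaf 9534) (.leaf 36273)) (.leaf 36602)) (.node (.leaf 13372) (.leaf 23932))) (.node (.node (.leaf 6097) (.leaf 15790)) (.node (.leaf 16072) (.leaf 19166))))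 (.node (.node (.node (.node (.leaf 8896) (.leaf 26918)) (.leaf 35520)) (.node (.leaf 35093) (.leaf 17458))) (.node (.node (.leaf 32196) (.leaf 14364)) (.node (.leaf 10102) (.leaf 37052))))) (.node (.node (.node (.node (.node (.leaf 10022) (.leaf 24748)) (.leaf 32297)) (.node (.leaf 9258) (.leaf 33053))) (.node (.node (.leaf 2847) (.leaf 14092)) (.node (.leaf 11000) (.leaf 36640)))) (.node (.node (.node (.node (.leaf 10491) (.leaf 37176)) (.leaf 35208)) (.node (.leaf 14431) (.leaf 18352))) (.node (.node (.leaf 15550) (.leaf 14799)) (.node (.leaf 11164) (.leaf 36383))))))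
def dFin_150 : BT := .node (.node (.node (.node (.node (.node (.node (.leaf 33388) (.leaf 21898)) (.leaf 34414)) (.node (.leaf 33037) (.leaf 16128))) (.node (.node (.leaf 15288) (.leaf 12765)) (.node (.leaf 9830) (.leaf 19071)))) (.node (.node (.node (.node (.leaf 34658) (.leaf 36931)) (.leaf 13479)) (.node (.leaf 9700) (.leaf 36535))) (.node (.node (.leaf 10708) (.leaf 33905)) (.node (.leaf 6881) (.leaf 20432))))) (.node (.node (.node (.node (.node (.leaf 9955) (.leaf 34828)) (.leaf 15795)) (.node (.leaf 5019) (.leaf 16590))) (.node (.node (.leaf 12946) (.leaf 34020)) (.node (.leaf 6409) (.leaf 34822)))) (.node (.node (.node (.node (.leaf 34576) (.leaf 36732)) (.leaf 12074)) (.node (.leaf 10890) (.leaf 36608))) (.node (.node (.leaf 3535) (.leaf 14722)) (.node (.leaf 7395) (.leaf 21290)))))) (.node (.node (.node (.node (.node (.node (.leaf 1237) (.leaf 36890)) (.leaf 10284)) (.node (.leaf 33684) (.leaf 16506))) (.node (.node (.leaf 9946) (.leaf 21595)) (.node (.leaf 9398) (.leaf 19451)))) (.node (.node (.node (.node (.leaf 10017) (.leaf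 36324)) (.leaf 11949)) (.node (.leaf 15484) (.leaf 17641))) (.node (.node (.leaf 36597) (.leaf 33144)) (.node (.leaf 17645) (.leaf 20538))))) (.node (.node (.node (.node (.node (.leaf 2551) (.leaf 35825)) (.leaf 11570)) (.node (.leaf 32918) (.leaf 16834))) (.node (.node (.leaf 10634) (.leaf 34485)) (.node (.leaf 6515) (.leaf 20292)))) (.node (.node (.node (.leaf 9090) (.leaf 35314)) (.node (.leaf 13633) (.leaf 35923))) (.node (.node (.leaf 34849) (.leaf 15893)) (.node (.leaf 34902) (.leaf 21684))))))
def dFin_151 : BT := .node dFin_149 dFin_150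
def dFin_152 : BT := .node (.node (.node (.node (.node (.node (.node (.leaf 285) (.leaf 37211)) (.leaf 11246)) (.node (.leaf 33078) (.leaf 16096))) (.node (.node (.leaf 10356) (.leaf 33743)) (.node (.leaf 14801) (.leaf 18836)))) (.node (.node (.node (.node (.leaf 10168) (.leaf 36951)) (.leaf 33652)) (.node (.leaf 13530) (.leaf 36918))) (.node (.node (.leaf 13331) (.leaf 15949)) (.node (.leaf 6779) (.leaf 20383))))) (.node (.node (.node (.node (.node (.leaf 363) (.leaf 36955)) (.leaf 11332)) (.node (.leaf 15630) (.leaf 35401))) (.node (.node (.leaf 2567) (.leaf 34766)) (.node (.leaf 6345) (.leaf 19862)))) (.node (.node (.node (.node (.leaf 9890) (.leaf 28948)) (.leaf 13153)) (.node (.leaf 10870) (.leaf 33138))) (.node (.node (.leaf 8143) (.leaf 14614)) (.node (.leaf 10176) (.leaf 35708)))))) (.node (.node (.node (.node (.node (.node (.leaf 279) (.leaf 31188)) (.leaf 13601)) (.node (.leaf 9202) (.leaf 35313))) (.node (.node (.leaf 8944) (.leaf 31639)) (.node (.leaf 6095) (.leaf 19194)))) (.node (.node (.node (.node (.leaf 15434) (.leaf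 26948)) (.leaf 35505)) (.node (.leaf 10828) (.leaf 35809))) (.node (.node (.leaf 7677) (.leaf 14388)) (.node (.leaf 35014) (.leaf 20516))))) (.node (.node (.node (.node (.node (.leaf 33494) (.leaf 36762)) (.leaf 11520)) (.node (.leaf 9270) (.leaf 35451))) (.node (.node (.leaf 2859) (.leaf 14116)) (.node (.leaf 34616) (.leaf 20268)))) (.node (.node (.node (.node (.leaf 13070) (.leaf 37226)) (.leaf 12307)) (.node (.leaf 5783) (.leaf 35000))) (.node (.node (.leaf 11329) (.leaf 14846)) (.node (.leaf 15718) (.leaf 21619))))))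
def dFin_153 : BT := .node (.node (.node (.node (.node (.node (.node (.leaf 13076) (.leaf 21922)) (.leaf 18625)) (.node (.leaf 32312) (.leaf 33796))) (.node (.node (.leaf 10368) (.leaf 12772)) (.node (.leaf 15544) (.leaf 19081)))) (.node (.node (.node (.node (.leaf 4387) (.leaf 36316)) (.leaf 11732)) (.node (.leaf 5435) (.leaf 17437))) (.node (.node (.leaf 10734) (.leaf 34096)) (.node (.leaf 11074) (.leaf 36664))))) (.node (.node (.node (.node (.node (.leaf 9280) (.leaf 24364)) (.leaf 34502)) (.node (.leaf 9763) (.leaf 16658))) (.node (.node (.leaf 10582) (.leaf 14057)) (.node (.leaf 13621) (.leaf 20033)))) (.node (.node (.node (.node (.leaf 5241) (.leaf 37171)) (.leaf 12090)) (.node (.leaf 33721) (.leaf 18286))) (.node (.node (.leaf 8654) (.leaf 23781)) (.node (.leaf 31082) (.leaf 21412)))))) (.node (.node (.node (.node (.node (.node (.leaf 8596) (.leaf 23786)) (.leaf 32538)) (.node (.leaf 12111) (.leaf 16528))) (.node (.node (.leaf 34200) (.leaf 13864)) (.node (.leaf 9412) (.leaf 23163)))) (.node (.node (.node (.node (.leaf 1229) (.leaf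 36970)) (.leaf 15881)) (.node (.leaf 10854) (.leaf 17716))) (.node (.node (.leaf 13020) (.leaf 14471)) (.node (.leaf 34157) (.leaf 35034))))) (.node (.node (.node (.node (.node (.leaf 10687) (.leaf 24896)) (.leaf 32050)) (.node (.leaf 32613) (.leaf 17016))) (.node (.node (.leaf 15572) (.leaf 37082)) (.node (.leaf 10050) (.leaf 36460)))) (.node (.node (.node (.leaf 34115) (.leaf 13581)) (.node (.leaf 9800) (.leaf 36527))) (.node (.node (.leaf 9330) (.leaf 16059)) (.node (.leaf 33403) (.leaf 21732))))))
def dFin_154 : BT := .node dFin_152 dFin_153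
def dFin_155 : BT := .node dFin_151 dFin_154
def dFin_156 : BT := .node dFin_148 dFin_155
def dFin_157 : BT := .node dFin_141 dFin_156
def dFin_158 : BT := .node (.node (.node (.node (.node (.node (.node (.leaf 5) (.leaf 36982)) (.leaf 11222)) (.node (.leaf 32720) (.leaf 16060))) (.node (.node (.leaf 10334) (.leaf 34417)) (.node (.leaf 32935) (.leaf 18636)))) (.node (.node (.node (.node (.leaf 10146) (.leaf 37093)) (.leaf 11593)) (.node (.leaf 13429) (.leaf 35673))) (.node (.node (.leaf 34141) (.leaf 15736)) (.node (.leaf 6741) (.leaf 20334))))) (.node (.node (.node (.node (.node (.leaf 1512) (.leaf 36556)) (.leaf 11290)) (.node (.leaf 15626) (.leaf 35498))) (.node (.node (.leaf 10985) (.leaf 34764)) (.node (.leaf 31631) (.leaf 19546)))) (.node (.node (.node (.node (.leaf 9870) (.leaf 28188)) (.leaf 35355)) (.node (.leaf 10862) (.leaf 36906))) (.node (.node (.leaf 8013) (.leaf 14478)) (.node (.leaf 11146) (.leaf 21189)))))) (.node (.node (.node (.node (.node (.node (.leaf 509) (.leaf 36262)) (.leaf 13605)) (.node (.leaf 9376) (.leaf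 24361))) (.node (.node (.leaf 10374) (.leaf 12909)) (.node (.leaf 13204) (.leaf 19094)))) (.node (.node (.node (.node (.leaf 15332) (.leaf 26466)) (.leaf 34299)) (.node (.leaf 9708) (.leaf 17445))) (.node (.node (.leaf 31964) (.leaf 14278)) (.node (.leaf 32470) (.leaf 20464))))) (.node (.node (.node (.node (.node (.leaf 32022) (.leaf 24753)) (.leaf 11428)) (.node (.leaf 9254) (.leaf 35688))) (.node (.node (.leaf 6739) (.leaf 14068)) (.node (.leaf 31932) (.leaf 20040)))) (.node (.node (.node (.node (.leaf 13066) (.leaf 37158)) (.leaf 36103)) (.node (.leaf 33555) (.leaf 33802))) (.node (.node (.leaf 4593) (.leaf 14770)) (.node (.leaf 15739) (.leaf 36796))))))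
def dFin_159 : BT := .node (.node (.node (.node (.node (.node (.node (.leaf 13132) (.leaf 21888)) (.leaf 7675)) (.node (.leaf 32249) (.leaf 34370))) (.node (.node (.leaf 1637) (.leaf 12720)) (.node (.leaf 15522) (.leaf 37081)))) (.node (.node (.node (.node (.leaf 9113) (.leaf 35818)) (.leaf 11676)) (.node (.leaf 33837) (.leaf 17344))) (.node (.node (.leaf 9548) (.leaf 32513)) (.node (.leaf 11046) (.leaf 36231))))) (.node (.node (.node (.node (.node (.leaf 8766) (.leaf 24068)) (.leaf 34597)) (.node (.leaf 4877) (.leaf 16578))) (.node (.node (.leaf 10564) (.leaf 35547)) (.node (.leaf 13516) (.leaf 19983)))) (.node (.node (.node (.node (.leaf 12960) (.leaf 37205)) (.leaf 12065)) (.node (.leaf 32988) (.leaf 18046))) (.node (.node (.leaf 9654) (.leaf 35557)) (.node (.leaf 34948) (.leaf 21268)))))) (.node (.node (.node (.node (.node (.node (.leaf 8626) (.leaf 22218)) (.leaf 8141)) (.node (.leaf 35337) (.leaf 16490))) (.node (.node (.leaf 32678) (.leaf 13708)) (.node (.leaf 9998) (.leaf 35273)))) (.node (.node (.node (.node (.leaf 4591) (.leaf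 35380)) (.leaf 15879)) (.node (.leaf 13953) (.leaf 17482))) (.node (.node (.leaf 13398) (.leaf 14443)) (.node (.leaf 33902) (.leaf 35428))))) (.node (.node (.node (.node (.node (.leaf 449) (.leaf 24814)) (.leaf 32056)) (.node (.leaf 5239) (.leaf 16824))) (.node (.node (.leaf 15376) (.leaf 14119)) (.node (.leaf 11018) (.leaf 37074)))) (.node (.node (.node (.leaf 1531) (.leaf 13441)) (.node (.leaf 9774) (.leaf 18425))) (.node (.node (.leaf 8664) (.leaf 14918)) (.node (.leaf 31111) (.leaf 21630))))))
def dFin_160 : BT := .node dFin_158 dFin_159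
def dFin_161 : BT := .node (.node (.node (.node (.node (.node (.node (.leaf 11) (.leaf 21798)) (.leaf 34514)) (.node (.leaf 11641) (.leaf 16085))) (.node (.node (.leaf 15260) (.leaf 12695)) (.node (.leaf 9812) (.leaf 37013)))) (.node (.node (.node (.node (.leaf 3231) (.leaf 25269)) (.leaf 13477)) (.node (.leaf 10498) (.leaf 35137))) (.node (.node (.leaf 10688) (.leaf 36120)) (.node (.leaf 31302) (.leaf 20360))))) (.node (.node (.node (.node (.node (.leaf 1575) (.leaf 36736)) (.leaf 15762)) (.node (.leaf 4866) (.leaf 16555))) (.node (.node (.leaf 13092) (.leaf 13893)) (.node (.leaf 33918) (.leaf 33070)))) (.node (.node (.node (.node (.leaf 34348) (.leaf 37085)) (.leaf 12046)) (.node (.leaf 9756) (.leaf 35384))) (.node (.node (.leaf 30916) (.leaf 14570)) (.node (.leaf 34400) (.leaf 21230)))))) (.node (.node (.node (.node (.node (.node (.leaf 95) (.leaf 35532)) (.leaf 10240)) (.node (.leaf 4701) (.leaf 16342))) (.node (.node (.leaf 9394) (.leaf 32298)) (.node (.leaf 10932) (.leaf 33929)))) (.node (.node (.node (.node (.leaf 4389) (.leaf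 36363)) (.leaf 11912)) (.node (.leaf 15510) (.leaf 35931))) (.node (.node (.leaf 34256) (.leaf 32506)) (.node (.leaf 17463) (.leaf 20496))))) (.node (.node (.node (.node (.node (.leaf 2563) (.leaf 35134)) (.leaf 11510)) (.node (.leaf 33994) (.leaf 16778))) (.node (.node (.leaf 10596) (.leaf 35697)) (.node (.leaf 32556) (.leaf 20146)))) (.node (.node (.node (.node (.leaf 9966) (.leaf 37196)) (.leaf 20531)) (.node (.leaf 13577) (.leaf 36044))) (.node (.node (.leaf 11325) (.leaf 15822)) (.node (.leaf 33632) (.leaf 21597))))))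
def dFin_162 : BT := .node (.node (.node (.node (.node (.node (.node (.leaf 9144) (.leaf 36274)) (.leaf 18591)) (.node (.leaf 13410) (.leaf 24279))) (.node (.node (.leaf 5851) (.leaf 15789)) (.node (.leaf 6021) (.leaf 19056)))) (.node (.node (.node (.node (.leaf 9064) (.leaf 26240)) (.leaf 32449)) (.node (.leaf 34838) (.leaf 17426))) (.node (.node (.leaf 33766) (.leaf 14256)) (.node (.leaf 11068) (.leaf 36265))))) (.node (.node (.node (.node (.node (.leaf 9930) (.leaf 24290)) (.leaf 22806)) (.node (.leaf 9242) (.leaf 32267))) (.node (.node (.leaf 22526) (.leaf 13960)) (.node (.leaf 10992) (.leaf 35817)))) (.node (.node (.node (.node (.leaf 1333) (.leaf 29122)) (.leaf 35196)) (.node (.leaf 5669) (.leaf 18138))) (.node (.node (.leaf 15600) (.leaf 14747)) (.node (.leaf 10188) (.leaf 35662)))))) (.node (.node (.node (.node (.node (.node (.leaf 15236) (.leaf 22252)) (.leaf 31194)) (.node (.leaf 10420) (.leaf 34922))) (.node (.node (.leaf 2553) (.leaf 13808)) (.node (.leaf 33522) (.leaf 19436)))) (.node (.node (.node (.node (.leaf 9848) (.leaf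 27302)) (.leaf 16477)) (.node (.leaf 14107) (.leaf 17654))) (.node (.node (.leaf 10798) (.leaf 14445)) (.node (.leaf 13509) (.leaf 36305))))) (.node (.node (.node (.node (.node (.leaf 13304) (.leaf 24872)) (.leaf 19539)) (.node (.leaf 12769) (.leaf 34934))) (.node (.node (.leaf 10027) (.leaf 14158)) (.node (.leaf 15973) (.leaf 28937)))) (.node (.node (.node (.leaf 5529) (.leaf 12432)) (.node (.leaf 33593) (.leaf 18596))) (.node (.node (.leaf 8678) (.leaf 23961)) (.node (.leaf 11210) (.leaf 21737))))))
def dFin_163 : BT := .node dFin_161 dFin_162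
def dFin_164 : BT := .node dFin_160 dFin_163
def dFin_165 : BT := .node (.node (.node (.node (.node (.node (.node (.leaf 15212) (.leaf 21784)) (.leaf 30915)) (.node (.leaf 9340) (.leaf 34268))) (.node (.node (.leaf 1589) (.leaf 12504)) (.node (.leaf 32240) (.leaf 18670)))) (.node (.node (.node (.node (.leaf 9010) (.leaf 24940)) (.leaf 33689)) (.node (.leaf 31584) (.leaf 17260))) (.node (.node (.leaf 10668) (.leaf 36477)) (.node (.leaf 13545) (.leaf 36327))))) (.node (.node (.node (.node (.node (.leaf 12996) (.leaf 23967)) (.leaf 19085)) (.node (.leaf 33325) (.leaf 35144))) (.node (.node (.leaf 9424) (.leaf 13881)) (.node (.leaf 15906) (.leaf 19669)))) (.node (.node (.node (.node (.leaf 1235) (.leaf 36643)) (.leaf 12024)) (.node (.leaf 14199) (.leaf 17800))) (.node (.node (.leaf 9616) (.leaf 33627)) (.node (.leaf 11152) (.leaf 35284)))))) (.node (.node (.node (.node (.node (.node (.leaf 9532) (.leaf 22096)) (.leaf 31364)) (.node (.leaf 10384) (.leaf 23939))) (.node (.node (.leaf 5315) (.leaf 13424)) (.node (.leaf 9906) (.leaf 36147))))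 (.node (.node (.node (.node (.leaf 33274) (.leaf 26914)) (.leaf 34284)) (.node (.leaf 13895) (.leaf 17454))) (.node (.node (.leaf 15584) (.leaf 33307)) (.node (.leaf 10100) (.leaf 36155))))) (.node (.node (.node (.node (.node (.leaf 10020) (.leaf 24744)) (.leaf 33021)) (.node (.leaf 33990) (.leaf 16766))) (.node (.node (.leaf 31986) (.leaf 14088)) (.node (.leaf 10998) (.leaf 35646)))) (.node (.node (.node (.node (.leaf 9956) (.leaf 37203)) (.leaf 15733)) (.node (.leaf 14271) (.leaf 18346))) (.node (.node (.leaf 13368) (.leaf 33147)) (.node (.leaf 36601) (.leaf 36373))))))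
def dFin_166 : BT := .node (.node (.node (.node (.node (.node (.node (.leaf 9136) (.leaf 36200)) (.leaf 15744)) (.node (.leaf 11267) (.leaf 16124))) (.node (.node (.leaf 12934) (.leaf 13536)) (.node (.leaf 14843) (.leaf 35510)))) (.node (.node (.node (.node (.leaf 33998) (.leaf 37143)) (.leaf 11684)) (.node (.leaf 9698) (.leaf 36180))) (.node (.node (.leaf 7499) (.leaf 14248)) (.node (.leaf 33860) (.leaf 20428))))) (.node (.node (.node (.node (.node (.leaf 1518) (.leaf 24277)) (.leaf 13627)) (.node (.leaf 10456) (.leaf 36365))) (.node (.node (.leaf 9440) (.leaf 34245)) (.node (.leaf 11947) (.leaf 19994)))) (.node (.node (.node (.node (.leaf 15470) (.leaf 29054)) (.leaf 36077)) (.node (.leaf 10888) (.leaf 36941))) (.node (.node (.leaf 35351) (.leaf 14720)) (.node (.leaf 34964) (.leaf 21286)))))) (.node (.node (.node (.node (.node (.node (.leaf 283) (.leaf 33250)) (.leaf 10282)) (.node (.leaf 33520) (.leaf 16502))) (.node (.node (.leaf 9944) (.leaf 36392)) (.node (.leaf 12749) (.leaf 19286)))) (.node (.node (.node (.node (.leaf 8924) (.leaf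 36621)) (.leaf 34551)) (.node (.leaf 13142) (.leaf 17659))) (.node (.node (.leaf 31112) (.leaf 15937)) (.node (.leaf 34090) (.leaf 20534))))) (.node (.node (.node (.node (.node (.leaf 2974) (.leaf 37195)) (.leaf 11568)) (.node (.leaf 15558) (.leaf 16831))) (.node (.node (.leaf 33326) (.leaf 34384)) (.node (.leaf 32272) (.leaf 20288)))) (.node (.node (.node (.leaf 9088) (.leaf 33565)) (.node (.leaf 9782) (.leaf 36663))) (.node (.node (.leaf 34898) (.leaf 14924)) (.node (.leaf 11198) (.leaf 36469))))))
def dFin_167 : BT := .node dFin_165 dFin_166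
def dFin_168 : BT := .node (.node (.node (.node (.node (.node (.node (.leaf 77) (.leaf 21879)) (.leaf 11244)) (.node (.leaf 15616) (.leaf 35514))) (.node (.node (.leaf 1593) (.leaf 33824)) (.node (.leaf 33635) (.leaf 18832)))) (.node (.node (.node (.node (.leaf 10166) (.leaf 25264)) (.leaf 33966)) (.node (.leaf 10808) (.leaf 21915))) (.node (.node (.leaf 7397) (.leaf 14218)) (.node (.leaf 10968) (.leaf 29043))))) (.node (.node (.node (.node (.node (.leaf 9740) (.leaf 36743)) (.leaf 34209)) (.node (.leaf 13420) (.leaf 24895))) (.node (.node (.leaf 6513) (.leaf 15925)) (.node (.leaf 10095) (.leaf 19858)))) (.node (.node (.node (.node (.leaf 9888) (.leaf 28944)) (.leaf 20309)) (.node (.leaf 14269) (.leaf 17978))) (.node (.node (.leaf 34626) (.leaf 14610)) (.node (.leaf 10174) (.leaf 35702)))))) (.node (.node (.node (.node (.node (.node (.leaf 34336) (.leaf 23198)) (.leaf 10256)) (.node (.leaf 9200) (.leaf 16493))) (.node (.node (.leaf 2493) (.leaf 13670)) (.node (.leaf 12897) (.leaf 19190)))) (.node (.node (.node (.node (.leaf 13122) (.leaf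 26944)) (.leaf 35632)) (.node (.leaf 34030) (.leaf 35298))) (.node (.node (.leaf 7493) (.leaf 14384)) (.node (.leaf 15865) (.leaf 37056))))) (.node (.node (.node (.node (.node (.leaf 15184) (.leaf 24770)) (.leaf 11515)) (.node (.leaf 9268) (.leaf 35447))) (.node (.node (.leaf 31550) (.leaf 14114)) (.node (.leaf 32558) (.leaf 20264)))) (.node (.node (.node (.node (.leaf 10298) (.leaf 37222)) (.leaf 14155)) (.node (.leaf 9764) (.leaf 18390))) (.node (.node (.leaf 8642) (.leaf 14841)) (.node (.leaf 13495) (.leaf 36702))))))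
def dFin_169 : BT := .node (.node (.node (.node (.node (.node (.node (.leaf 9464) (.leaf 21918)) (.leaf 35003)) (.node (.leaf 31226) (.leaf 16201))) (.node (.node (.leaf 9166) (.leaf 12767)) (.node (.leaf 13298) (.leaf 19099)))) (.node (.node (.node (.node (.leaf 8866) (.leaf 36647)) (.leaf 11730)) (.node (.leaf 33776) (.leaf 17433))) (.node (.node (.leaf 10732) (.leaf 22213)) (.node (.leaf 30460) (.leaf 20456))))) (.node (.node (.node (.node (.node (.leaf 2495) (.leaf 24359)) (.leaf 11422)) (.node (.leaf 12425) (.leaf 16654))) (.node (.node (.leaf 10578) (.leaf 21913)) (.node (.leaf 10038) (.leaf 28625)))) (.node (.node (.node (.node (.leaf 1507) (.leaf 37139)) (.leaf 12088)) (.node (.leaf 15496) (.leaf 34535))) (.node (.node (.leaf 33370) (.leaf 33908)) (.node (.leaf 17965) (.leaf 21408)))))) (.node (.node (.node (.node (.node (.node (.leaf 8847) (.leaf 23782)) (.leaf 32764)) (.node (.leaf 12085) (.leaf 16524))) (.node (.node (.leaf 15352) (.leaf 35094)) (.node (.leaf 9410) (.leaf 34486)))) (.node (.node (.node (.node (.leaf 4685)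 (.leaf 36929)) (.leaf 13523)) (.node (.leaf 10852) (.leaf 36875))) (.node (.node (.leaf 9576) (.leaf 14485)) (.node (.leaf 11138) (.leaf 20824))))) (.node (.node (.node (.node (.node (.leaf 511) (.leaf 35406)) (.leaf 15751)) (.node (.leaf 5319) (.leaf 17012))) (.node (.node (.leaf 13218) (.leaf 36043)) (.node (.leaf 6631) (.leaf 35412)))) (.node (.node (.node (.leaf 34380) (.leaf 12489)) (.node (.leaf 9798) (.leaf 35383))) (.node (.node (.leaf 11517) (.leaf 14950)) (.node (.leaf 7607) (.leaf 21728))))))
def dFin_170 : BT := .node dFin_168 dFin_169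
def dFin_171 : BT := .node dFin_167 dFin_170
def dFin_172 : BT := .node dFin_164 dFin_171
def dFin_173 : BT := .node (.node (.node (.node (.node (.node (.node (.leaf 9596) (.leaf 21776)) (.leaf 30855)) (.node (.leaf 4579) (.leaf 16068))) (.node (.node (.leaf 10338) (.leaf 36884)) (.node (.leaf 13635) (.leaf 27209)))) (.node (.node (.node (.node (.leaf 521) (.leaf 37126)) (.leaf 11600)) (.node (.leaf 32582) (.leaf 17252))) (.node (.node (.leaf 10664) (.leaf 14197)) (.node (.leaf 6689) (.leaf 20342))))) (.node (.node (.node (.node (.node (.leaf 1527) (.leaf 36714)) (.leaf 11294)) (.node (.leaf 34175) (.leaf 16538))) (.node (.node (.leaf 10542) (.leaf 35452)) (.node (.leaf 10464) (.leaf 34482)))) (.node (.node (.node (.node (.leaf 1243) (.leaf 37086)) (.leaf 12020)) (.node (.leaf 15488) (.leaf 35261))) (.node (.node (.leaf 34158) (.leaf 33302)) (.node (.leaf 7287) (.leaf 21198)))))) (.node (.node (.node (.node (.node (.node (.leaf 10161) (.leaf 22088)) (.leaf 34668)) (.node (.leaf 35154) (.leaf 16224))) (.node (.node (.leaf 15324) (.leaf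 13648)) (.node (.leaf 9902) (.leaf 36072)))) (.node (.node (.node (.node (.leaf 1509) (.leaf 36690)) (.leaf 13529)) (.node (.leaf 9712) (.leaf 36865))) (.node (.node (.leaf 10750) (.leaf 33305)) (.node (.leaf 13951) (.leaf 20472))))) (.node (.node (.node (.node (.node (.leaf 2557) (.leaf 35754)) (.leaf 15783)) (.node (.leaf 12484) (.leaf 16758))) (.node (.node (.leaf 13278) (.leaf 33582)) (.node (.leaf 35107) (.leaf 34872)))) (.node (.node (.node (.node (.leaf 32480) (.leaf 37178)) (.leaf 12100)) (.node (.leaf 10908) (.leaf 18361))) (.node (.node (.leaf 11299) (.leaf 14776)) (.node (.leaf 27940) (.leaf 21580))))))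
def dFin_174 : BT := .node (.node (.node (.node (.node (.node (.node (.leaf 33970) (.leaf 36255)) (.leaf 11250)) (.node (.leaf 9358) (.leaf 35527))) (.node (.node (.leaf 9114) (.leaf 12724)) (.node (.leaf 33010) (.leaf 18918)))) (.node (.node (.node (.node (.leaf 12956) (.leaf 25462)) (.leaf 37136)) (.node (.leaf 13801) (.leaf 35122))) (.node (.node (.leaf 3223) (.leaf 14242)) (.node (.leaf 15693) (.leaf 36235))))) (.node (.node (.node (.node (.node (.leaf 15130) (.leaf 24076)) (.leaf 19185)) (.node (.leaf 10452) (.leaf 35439))) (.node (.node (.leaf 12999) (.leaf 13916)) (.node (.leaf 34750) (.leaf 19986)))) (.node (.node (.node (.node (.leaf 8806) (.leaf 29046)) (.leaf 20376)) (.node (.leaf 14361) (.leaf 18054))) (.node (.node (.leaf 9658) (.leaf 14711)) (.node (.leaf 13334) (.leaf 35674)))))) (.node (.node (.node (.node (.node (.node (.leaf 8630) (.leaf 32990)) (.leaf 18913)) (.node (.leaf 13374) (.leaf 16499))) (.node (.node (.leaf 31624) (.leaf 15903)) (.node (.leaf 6217) (.leaf 19278)))) (.node (.node (.node (.node (.leaf 8920)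 (.leaf 27214)) (.leaf 33744)) (.node (.leaf 5527) (.leaf 17490))) (.node (.node (.leaf 33610) (.leaf 14432)) (.node (.leaf 11120) (.leaf 36921))))) (.node (.node (.node (.node (.node (.leaf 10072) (.leaf 24822)) (.leaf 33566)) (.node (.leaf 9972) (.leaf 33753))) (.node (.node (.leaf 5509) (.leaf 14126)) (.node (.leaf 11022) (.leaf 36061)))) (.node (.node (.node (.leaf 9715) (.leaf 34584)) (.node (.leaf 14559) (.leaf 18434))) (.node (.node (.leaf 15608) (.leaf 31193)) (.node (.leaf 11194) (.leaf 37044))))))
def dFin_175 : BT := .node dFin_173 dFin_174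
def dFin_176 : BT := .node (.node (.node (.node (.node (.node (.node (.leaf 9044) (.leaf 21806)) (.leaf 34781)) (.node (.leaf 9346) (.leaf 34190))) (.node (.node (.leaf 5667) (.leaf 13433)) (.node (.leaf 9816) (.leaf 18823)))) (.node (.node (.node (.node (.leaf 523) (.leaf 25256)) (.leaf 33552)) (.node (.leaf 10806) (.leaf 17278))) (.node (.node (.leaf 15576) (.leaf 36199)) (.node (.leaf 10964) (.leaf 36092))))) (.node (.node (.node (.node (.node (.leaf 9736) (.leaf 23992)) (.leaf 12751)) (.node (.leaf 33866) (.leaf 16563))) (.node (.node (.leaf 34206) (.leaf 13896)) (.node (.leaf 10480) (.leaf 36431)))) (.node (.node (.node (.node (.leaf 4879) (.leaf 28935)) (.leaf 15727)) (.node (.leaf 5655) (.leaf 17970))) (.node (.node (.leaf 13138) (.leaf 14605)) (.node (.leaf 36052) (.leaf 36925)))))) (.node (.node (.node (.node (.node (.node (.leaf 13018) (.leaf 22132)) (.leaf 8069)) (.node (.leaf 11909) (.leaf 31770))) (.node (.node (.leaf 2499) (.leaf 13664)) (.node (.leaf 15983) (.leaf 19183)))) (.node (.node (.node (.node (.leaf 1121) (.leaf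 36313)) (.leaf 11916)) (.node (.leaf 5511) (.leaf 17468))) (.node (.node (.leaf 10770) (.leaf 33543)) (.node (.leaf 10112) (.leaf 36138))))) (.node (.node (.node (.node (.node (.leaf 8982) (.leaf 24762)) (.leaf 11581)) (.node (.leaf 5033) (.leaf 16786))) (.node (.node (.leaf 10600) (.leaf 34778)) (.node (.leaf 13553) (.leaf 20259)))) (.node (.node (.node (.node (.leaf 1521) (.leaf 37209)) (.leaf 12116)) (.node (.leaf 33912) (.leaf 18382))) (.node (.node (.leaf 8638) (.leaf 34063)) (.node (.leaf 18045) (.leaf 21605))))))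
def dFin_177 : BT := .node (.node (.node (.node (.node (.node (.node (.leaf 427) (.leaf 21911)) (.leaf 10220)) (.node (.leaf 32706) (.leaf 16191))) (.node (.node (.leaf 9162) (.leaf 35711)) (.node (.leaf 13296) (.leaf 19066)))) (.node (.node (.node (.node (.leaf 9068) (.leaf 36812)) (.leaf 19855)) (.node (.leaf 13625) (.leaf 36674))) (.node (.node (.leaf 10724) (.leaf 15941)) (.node (.leaf 33313) (.leaf 20448))))) (.node (.node (.node (.node (.node (.leaf 422) (.leaf 36964)) (.leaf 11418)) (.node (.leaf 15638) (.leaf 32555))) (.node (.node (.leaf 32477) (.leaf 34672)) (.node (.leaf 35640) (.leaf 20018)))) (.node (.node (.node (.node (.leaf 8852) (.leaf 29130)) (.leaf 36188)) (.node (.leaf 10894) (.leaf 35796))) (.node (.node (.leaf 4397) (.leaf 14756)) (.node (.leaf 10192) (.leaf 21395)))))) (.node (.node (.node (.node (.node (.node (.leaf 1125) (.leaf 37207)) (.leaf 13459)) (.node (.leaf 10424) (.leaf 35227))) (.node (.node (.leaf 10524) (.leaf 13863)) (.node (.leaf 34602) (.leaf 19444)))) (.node (.node (.node (.node (.leaf 15340) (.leaf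 27310)) (.leaf 35056)) (.node (.leaf 10848) (.leaf 34046))) (.node (.node (.leaf 33126) (.leaf 14454)) (.node (.leaf 34086) (.leaf 20816))))) (.node (.node (.node (.node (.node (.leaf 34376) (.leaf 35470)) (.leaf 11582)) (.node (.leaf 8934) (.leaf 34426))) (.node (.node (.leaf 2987) (.leaf 14164)) (.node (.leaf 34940) (.leaf 20316)))) (.node (.node (.node (.leaf 13254) (.leaf 34704)) (.node (.leaf 33607) (.leaf 34000))) (.node (.node (.leaf 4571) (.leaf 14944)) (.node (.leaf 15833) (.leaf 36484))))))
def dFin_178 : BT := .node dFin_176 dFin_177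
def dFin_179 : BT := .node dFin_175 dFin_178
def dFin_180 : BT := .node (.node (.node (.node (.node (.node (.node (.leaf 85) (.leaf 37108)) (.leaf 13493)) (.node (.leaf 9344) (.leaf 35679))) (.node (.node (.leaf 9104) (.leaf 12713)) (.node (.leaf 33628) (.leaf 18678)))) (.node (.node (.node (.node (.leaf 15392) (.leaf 24948)) (.leaf 19671)) (.node (.leaf 10494) (.leaf 33285))) (.node (.node (.leaf 7289) (.leaf 14206)) (.node (.leaf 31654) (.leaf 20352))))) (.node (.node (.node (.node (.node (.leaf 32588) (.leaf 37187)) (.leaf 11300)) (.node (.leaf 10430) (.leaf 16565))) (.node (.node (.leaf 2559) (.leaf 13887)) (.node (.leaf 16337) (.leaf 19678)))) (.node (.node (.node (.node (.leaf 13130) (.leaf 28632)) (.leaf 20261)) (.node (.leaf 5615) (.leaf 34738))) (.node (.node (.leaf 3520) (.leaf 14564)) (.node (.leaf 15849) (.leaf 21223)))))) (.node (.node (.node (.node (.node (.node (.leaf 305) (.leaf 36152)) (.leaf 10236)) (.node (.leaf 15552) (.leaf 31935))) (.node (.node (.leaf 33369) (.leaf 33384)) (.node (.leaf 34263) (.leaf 19170))))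 (.node (.node (.node (.node (.leaf 8898) (.leaf 26922)) (.leaf 16553)) (.node (.leaf 9716) (.leaf 35916))) (.node (.node (.leaf 33414) (.leaf 14368)) (.node (.leaf 10104) (.leaf 36541))))) (.node (.node (.node (.node (.node (.leaf 10024) (.leaf 35761)) (.leaf 34552)) (.node (.leaf 13252) (.leaf 33581))) (.node (.node (.leaf 32530) (.leaf 15953)) (.node (.leaf 6500) (.leaf 20138)))) (.node (.node (.node (.node (.leaf 9962) (.leaf 37184)) (.leaf 36071)) (.node (.leaf 5679) (.leaf 18356))) (.node (.node (.leaf 32096) (.leaf 14802)) (.node (.leaf 11166) (.leaf 21607))))))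
def dFin_181 : BT := .node (.node (.node (.node (.node (.node (.node (.leaf 9140) (.leaf 21902)) (.leaf 33223)) (.node (.leaf 31168) (.leaf 16132))) (.node (.node (.leaf 33886) (.leaf 12752)) (.node (.leaf 9832) (.leaf 19069)))) (.node (.node (.node (.node (.leaf 34662) (.leaf 37215)) (.leaf 15773)) (.node (.leaf 34309) (.leaf 17418))) (.node (.node (.leaf 13390) (.leaf 14251)) (.node (.leaf 17251) (.leaf 35420))))) (.node (.node (.node (.node (.node (.leaf 418) (.leaf 24282)) (.leaf 34326)) (.node (.leaf 34645) (.leaf 16594))) (.node (.node (.leaf 15366) (.leaf 13947)) (.node (.leaf 10988) (.leaf 36422)))) (.node (.node (.node (.node (.leaf 5027) (.leaf 36709)) (.leaf 13591)) (.node (.leaf 10892) (.leaf 18129))) (.node (.node (.leaf 9666) (.leaf 34688)) (.node (.leaf 34680) (.leaf 21294)))))) (.node (.node (.node (.node (.node (.node (.leaf 9182) (.leaf 22244)) (.leaf 11265)) (.node (.leaf 10723) (.leaf 16510))) (.node (.node (.leaf 9948) (.leaf 13799)) (.node (.leaf 13438) (.leaf 19449)))) (.node (.node (.node (.node (.leaf 9842) (.leaf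 36332)) (.leaf 11951)) (.node (.leaf 34886) (.leaf 17646))) (.node (.node (.leaf 10794) (.leaf 35448)) (.node (.leaf 7183) (.leaf 20542))))) (.node (.node (.node (.node (.node (.leaf 2989) (.leaf 24863)) (.leaf 11572)) (.node (.leaf 5253) (.leaf 16838))) (.node (.node (.leaf 10638) (.leaf 34172)) (.node (.leaf 11024) (.leaf 36160)))) (.node (.node (.node (.leaf 33826) (.leaf 12428)) (.node (.leaf 15514) (.leaf 35821))) (.node (.node (.leaf 4523) (.leaf 32628)) (.node (.leaf 34278) (.leaf 21688))))))
def dFin_182 : BT := .node dFin_180 dFin_181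
def dFin_183 : BT := .node (.node (.node (.node (.node (.node (.node (.leaf 303) (.leaf 36822)) (.leaf 11248)) (.node (.leaf 32957) (.leaf 16100))) (.node (.node (.leaf 10358) (.leaf 34494)) (.node (.leaf 9820) (.leaf 37060)))) (.node (.node (.node (.node (.leaf 1635) (.leaf 35810)) (.leaf 11672)) (.node (.leaf 15562) (.leaf 36914))) (.node (.node (.leaf 3175) (.leaf 35328)) (.node (.leaf 33818) (.leaf 20387))))) (.node (.node (.node (.node (.node (.leaf 1587) (.leaf 36444)) (.leaf 11334)) (.node (.leaf 33874) (.leaf 16570))) (.node (.node (.leaf 10560) (.leaf 35270)) (.node (.leaf 6337) (.leaf 19866)))) (.node (.node (.node (.node (.leaf 9892) (.leaf 36815)) (.leaf 36023)) (.node (.leaf 13504) (.leaf 33148))) (.node (.node (.leaf 31148) (.leaf 15915)) (.node (.leaf 7392) (.leaf 21260)))))) (.node (.node (.node (.node (.node (.node (.leaf 8622) (.leaf 22209)) (.leaf 15809)) (.node (.leaf 11940) (.leaf 16482))) (.node (.node (.leaf 13090) (.leaf 13705)) (.node (.leaf 34218) (.leaf 33546)))) (.node (.node (.node (.node (.leaf 33476) (.leaf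 35524)) (.leaf 11932)) (.node (.leaf 10830) (.leaf 17477))) (.node (.node (.leaf 31106) (.leaf 14390)) (.node (.leaf 33120) (.leaf 20520))))) (.node (.node (.node (.node (.node (.leaf 2849) (.leaf 36760)) (.leaf 13451)) (.node (.leaf 9272) (.leaf 35455))) (.node (.node (.leaf 10614) (.leaf 23107)) (.node (.leaf 6511) (.leaf 20272)))) (.node (.node (.node (.node (.leaf 15364) (.leaf 37230)) (.leaf 34641)) (.node (.leaf 9770) (.leaf 37043))) (.node (.node (.leaf 11413) (.leaf 14850)) (.node (.leaf 33642) (.leaf 21622))))))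
def dFin_184 : BT := .node (.node (.node (.node (.node (.node (.node (.leaf 15078) (.leaf 21926)) (.leaf 34732)) (.node (.leaf 9372) (.leaf 36156))) (.node (.node (.leaf 1783) (.leaf 12774)) (.node (.leaf 33440) (.leaf 19086)))) (.node (.node (.node (.node (.leaf 8870) (.leaf 26458)) (.leaf 35554)) (.node (.leaf 5429) (.leaf 17441))) (.node (.node (.leaf 10736) (.leaf 35266)) (.node (.leaf 13551) (.leaf 36673))))) (.node (.node (.node (.node (.node (.leaf 13174) (.leaf 24368)) (.leaf 19275)) (.node (.leaf 33556) (.leaf 32082))) (.node (.node (.leaf 2844) (.leaf 14062)) (.node (.leaf 15975) (.leaf 35598)))) (.node (.node (.node (.node (.leaf 5247) (.leaf 37169)) (.leaf 12092)) (.node (.leaf 14363) (.leaf 18290))) (.node (.node (.leaf 8656) (.leaf 36852)) (.node (.leaf 10942) (.leaf 21575)))))) (.node (.node (.node (.node (.node (.node (.leaf 8598) (.leaf 23790)) (.leaf 31918)) (.node (.leaf 9212) (.leaf 16533))) (.node (.node (.leaf 34631) (.leaf 13868)) (.node (.leaf 9414) (.leaf 36448)))) (.node (.node (.node (.node (.leaf 10417) (.leaf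 28180)) (.leaf 34368)) (.node (.leaf 14153) (.leaf 17720))) (.node (.node (.leaf 15592) (.leaf 34049)) (.node (.leaf 11142) (.leaf 36792))))) (.node (.node (.node (.node (.node (.leaf 10142) (.leaf 24900)) (.leaf 22792)) (.node (.leaf 5309) (.leaf 17020))) (.node (.node (.leaf 34882) (.leaf 14184)) (.node (.leaf 10052) (.leaf 36184)))) (.node (.node (.node (.leaf 1573) (.leaf 15695)) (.node (.leaf 33561) (.leaf 18628))) (.node (.node (.leaf 13402) (.leaf 34264)) (.node (.leaf 18285) (.leaf 35847))))))
def dFin_185 : BT := .node dFin_183 dFin_184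
def dFin_186 : BT := .node dFin_182 dFin_185
def dFin_187 : BT := .node dFin_179 dFin_186
def dFin_188 : BT := .node dFin_172 dFin_187
def dFin_189 : BT := .node dFin_157 dFin_188
def dFin_190 : BT := .node (.node (.node (.node (.node (.node (.node (.leaf 3) (.leaf 37145)) (.leaf 13487)) (.node (.leaf 9336) (.leaf 35322))) (.node (.node (.leaf 10332) (.leaf 33208)) (.node (.leaf 32550) (.leaf 18634)))) (.node (.node (.node (.node (.leaf 15388) (.leaf 24906)) (.leaf 22819)) (.node (.leaf 9380) (.leaf 32687))) (.node (.node (.leaf 7177) (.leaf 14190)) (.node (.leaf 34438) (.leaf 20332))))) (.node (.node (.node (.node (.node (.leaf 34310) (.leaf 36857)) (.leaf 11288)) (.node (.leaf 9216) (.leaf 20011))) (.node (.node (.leaf 13295) (.leaf 13872)) (.node (.leaf 23896) (.leaf 19544)))) (.node (.node (.node (.node (.leaf 13354) (.leaf 28186)) (.leaf 12013)) (.node (.leaf 5569) (.leaf 34146))) (.node (.node (.leaf 3517) (.leaf 14476)) (.node (.leaf 15847) (.leaf 35762)))))) (.node (.node (.node (.node (.node (.node (.leaf 287) (.leaf 36258))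 (.leaf 10228)) (.node (.leaf 15622) (.leaf 36018))) (.node (.node (.leaf 10931) (.leaf 34132)) (.node (.leaf 6029) (.leaf 19092)))) (.node (.node (.node (.node (.leaf 8874) (.leaf 26464)) (.leaf 16079)) (.node (.leaf 9706) (.leaf 35795))) (.node (.node (.leaf 3229) (.leaf 14276)) (.node (.leaf 11080) (.leaf 20461))))) (.node (.node (.node (.node (.node (.leaf 9286) (.leaf 36972)) (.leaf 11425)) (.node (.leaf 13052) (.leaf 35806))) (.node (.node (.leaf 31995) (.leaf 15959)) (.node (.leaf 6497) (.leaf 20038)))) (.node (.node (.node (.node (.leaf 9312) (.leaf 37154)) (.leaf 36091)) (.node (.leaf 33855) (.leaf 18296))) (.node (.node (.leaf 32654) (.leaf 14768)) (.node (.leaf 10946) (.leaf 21609))))))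
def dFin_191 : BT := .node (.node (.node (.node (.node (.node (.node (.leaf 8832) (.leaf 21886)) (.leaf 35174)) (.node (.leaf 11723) (.leaf 16106))) (.node (.node (.leaf 33538) (.leaf 12718)) (.node (.leaf 9824) (.leaf 37068)))) (.node (.node (.node (.node (.leaf 621) (.leaf 35341)) (.leaf 15753)) (.node (.leaf 33400) (.leaf 17342))) (.node (.node (.leaf 13228) (.leaf 22463)) (.node (.leaf 32846) (.leaf 35418))))) (.node (.node (.node (.node (.node (.leaf 9159) (.leaf 24066)) (.leaf 34322)) (.node (.leaf 12309) (.leaf 16576))) (.node (.node (.leaf 15360) (.leaf 21797)) (.node (.leaf 10030) (.leaf 36151)))) (.node (.node (.node (.node (.leaf 4519) (.leaf 36794)) (.leaf 13587)) (.node (.leaf 10876) (.leaf 36494))) (.node (.node (.leaf 9652) (.leaf 35489)) (.node (.leaf 13332) (.leaf 21266)))))) (.node (.node (.node (.node (.node (.node (.leaf 8624) (.leaf 22216)) (.leaf 35373)) (.node (.leaf 11967) (.leaf 16488))) (.node (.node (.leaf 8950) (.leaf 31767)) (.node (.leaf 13004) (.leaf 19273)))) (.node (.node (.node (.node (.leaf 4587) (.leaf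 36625)) (.leaf 11936)) (.node (.leaf 34032) (.leaf 17480))) (.node (.node (.leaf 10782) (.leaf 34580)) (.node (.leaf 17643) (.leaf 20526))))) (.node (.node (.node (.node (.node (.leaf 2861) (.leaf 24811)) (.leaf 11526)) (.node (.leaf 9970) (.leaf 16822))) (.node (.node (.leaf 10618) (.leaf 35746)) (.node (.leaf 11016) (.leaf 20351)))) (.node (.node (.node (.leaf 5249) (.leaf 12312)) (.node (.leaf 15512) (.leaf 37055))) (.node (.node (.leaf 11427) (.leaf 33910)) (.node (.leaf 34557) (.leaf 21628))))))
def dFin_192 : BT := .node dFin_190 dFin_191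
def dFin_193 : BT := .node (.node (.node (.node (.node (.node (.node (.leaf 97) (.leaf 37175)) (.leaf 11240)) (.node (.leaf 4581) (.leaf 16083))) (.node (.node (.leaf 9108) (.leaf 13534)) (.node (.leaf 9810) (.leaf 37017)))) (.node (.node (.node (.node (.leaf 3224) (.leaf 36942)) (.leaf 11644)) (.node (.leaf 15534) (.leaf 33308))) (.node (.node (.leaf 3063) (.leaf 35326)) (.node (.leaf 31566) (.leaf 20358))))) (.node (.node (.node (.node (.node (.leaf 349) (.leaf 36738)) (.leaf 11304)) (.node (.leaf 33330) (.leaf 16551))) (.node (.node (.leaf 9432) (.leaf 36144)) (.node (.leaf 31320) (.leaf 19684)))) (.node (.node (.node (.node (.leaf 8796) (.leaf 37119)) (.leaf 35960)) (.node (.leaf 13156) (.leaf 17963))) (.node (.node (.leaf 34649) (.leaf 15913)) (.node (.leaf 7389) (.leaf 21228)))))) (.node (.node (.node (.node (.node (.node (.leaf 623) (.leaf 36748)) (.leaf 15807)) (.node (.leaf 9899) (.leaf 16340))) (.node (.node (.leaf 13086) (.leaf 32736)) (.node (.leaf 6033) (.leaf 34846)))) (.node (.node (.node (.node (.leaf 33276) (.leaf 36281))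 (.leaf 11910)) (.node (.leaf 9720) (.leaf 36187))) (.node (.node (.leaf 7649) (.leaf 14372)) (.node (.leaf 17447) (.leaf 20494))))) (.node (.node (.node (.node (.node (.leaf 447) (.leaf 35748)) (.leaf 13473)) (.node (.leaf 9264) (.leaf 16775))) (.node (.node (.leaf 10594) (.leaf 23105)) (.node (.leaf 14930) (.leaf 20144)))) (.node (.node (.node (.node (.leaf 15316) (.leaf 37192)) (.leaf 12109)) (.node (.leaf 10914) (.leaf 26913))) (.node (.node (.leaf 8634) (.leaf 14808)) (.node (.leaf 34508) (.leaf 21593))))))
def dFin_194 : BT := .node (.node (.node (.node (.node (.node (.node (.leaf 15082) (.leaf 21908)) (.leaf 7941)) (.node (.leaf 9364) (.leaf 34526))) (.node (.node (.leaf 5847) (.leaf 12756)) (.node (.leaf 33016) (.leaf 19054)))) (.node (.node (.node (.node (.leaf 9062) (.leaf 26238)) (.leaf 19537)) (.node (.leaf 33735) (.leaf 17424))) (.node (.node (.leaf 10714) (.leaf 33840)) (.node (.leaf 13549) (.leaf 20459))))) (.node (.node (.node (.node (.node (.leaf 13080) (.leaf 24288)) (.leaf 11411)) (.node (.leaf 34405) (.leaf 34870)))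 (.node (.node (.leaf 2841) (.leaf 13958)) (.node (.leaf 15882) (.leaf 35584)))) (.node (.node (.node (.node (.leaf 33105) (.leaf 36745)) (.leaf 12080)) (.node (.leaf 34068) (.leaf 18136))) (.node (.node (.leaf 9670) (.leaf 34054)) (.node (.leaf 10186) (.leaf 21400)))))) (.node (.node (.node (.node (.node (.node (.leaf 9186) (.leaf 22250)) (.leaf 11279)) (.node (.leaf 10418) (.leaf 24759))) (.node (.node (.leaf 2547) (.leaf 13806)) (.node (.leaf 9404) (.leaf 28179)))) (.node (.node (.node (.node (.leaf 10393) (.leaf 27300)) (.leaf 33760)) (.node (.leaf 34560) (.leaf 17652))) (.node (.node (.leaf 15590) (.leaf 36996)) (.node (.leaf 11126) (.leaf 36391))))) (.node (.node (.node (.node (.node (.leaf 10088) (.leaf 24870)) (.leaf 22595)) (.node (.leaf 5245) (.leaf 16844))) (.node (.node (.leaf 34180) (.leaf 14156)) (.node (.leaf 11028) (.leaf 20325)))) (.node (.node (.node (.leaf 34121) (.leaf 15699)) (.node (.leaf 5834) (.leaf 18594))) (.node (.node (.leaf 13242) (.leaf 23987)) (.node (.leaf 31693) (.leaf 35844))))))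
def dFin_195 : BT := .node dFin_193 dFin_194
def dFin_196 : BT := .node dFin_192 dFin_195
def dFin_197 : BT := .node (.node (.node (.node (.node (.node (.node (.leaf 9600) (.leaf 21782)) (.leaf 7643)) (.node (.leaf 9338) (.leaf 16074))) (.node (.node (.leaf 5531) (.leaf 13585)) (.node (.leaf 9808) (.leaf 27299)))) (.node (.node (.node (.node (.leaf 9543) (.leaf 24938)) (.leaf 33094)) (.node (.leaf 13707) (.leaf 17258))) (.node (.node (.leaf 15574) (.leaf 36191)) (.node (.leaf 11036) (.leaf 28939))))) (.node (.node (.node (.node (.node (.leaf 9688) (.leaf 23965)) (.leaf 31978)) (.node (.leaf 34566) (.leaf 16544))) (.node (.node (.leaf 34202) (.leaf 13879)) (.node (.leaf 10468) (.leaf 33821)))) (.node (.node (.node (.node (.leaf 13124) (.leaf 37115)) (.leaf 15743)) (.node (.leaf 13150) (.leaf 17798))) (.node (.node (.leaf 13232) (.leaf 14557)) (.node (.leaf 17795) (.leaf 35756)))))) (.node (.node (.node (.node (.node (.node (.leaf 13224) (.leaf 22094)) (.leaf 8015)) (.node (.leaf 11875) (.leaf 34304))) (.node (.node (.leaf 2497) (.leaf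 12900)) (.node (.leaf 15546) (.leaf 36078)))) (.node (.node (.node (.node (.leaf 4449) (.leaf 36740)) (.leaf 11882)) (.node (.leaf 35278) (.leaf 17452))) (.node (.node (.leaf 10754) (.leaf 14359)) (.node (.leaf 10098) (.leaf 36123))))) (.node (.node (.node (.node (.node (.leaf 10018) (.leaf 24742)) (.leaf 11565)) (.node (.leaf 34071) (.leaf 16764))) (.node (.node (.leaf 10514) (.leaf 35108)) (.node (.leaf 13555) (.leaf 20133)))) (.node (.node (.node (.node (.leaf 31963) (.leaf 37180)) (.leaf 12104)) (.node (.leaf 33346) (.leaf 18344))) (.node (.node (.leaf 9292) (.leaf 32450)) (.node (.leaf 7497) (.leaf 21586))))))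
def dFin_198 : BT := .node (.node (.node (.node (.node (.node (.node (.leaf 351) (.leaf 36331)) (.leaf 11254)) (.node (.leaf 32452) (.leaf 16122))) (.node (.node (.leaf 9120) (.leaf 12761)) (.node (.leaf 5855) (.leaf 18924)))) (.node (.node (.node (.node (.leaf 9032) (.leaf 35759)) (.leaf 11681)) (.node (.leaf 13435) (.leaf 35924))) (.node (.node (.leaf 7491) (.leaf 15945)) (.node (.leaf 31260) (.leaf 20426))))) (.node (.node (.node (.node (.node (.leaf 417) (.leaf 36752)) (.leaf 11348)) (.node (.leaf 15634) (.leaf 35513))) (.node (.node (.leaf 10047) (.leaf 34768)) (.node (.leaf 16501) (.leaf 19992)))) (.node (.node (.node (.node (.leaf 8810) (.leaf 29052)) (.leaf 36095)) (.node (.leaf 10886) (.leaf 36610))) (.node (.node (.leaf 34116) (.leaf 14718)) (.node (.leaf 10184) (.leaf 35680)))))) (.node (.node (.node (.node (.node (.node (.leaf 1227) (.leaf 22255)) (.leaf 13603)) (.node (.leaf 10400) (.leaf 24813))) (.node (.node (.leaf 9942) (.leaf 21588)) (.node (.leaf 6211) (.leaf 19284)))) (.node (.node (.node (.node (.leaf 15448) (.leaf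 27220)) (.leaf 35497)) (.node (.leaf 9744) (.leaf 33224))) (.node (.node (.leaf 7651) (.leaf 14438)) (.node (.leaf 33124) (.leaf 20532))))) (.node (.node (.node (.node (.node (.leaf 32468) (.leaf 35614)) (.leaf 11566)) (.node (.leaf 9976) (.leaf 36443))) (.node (.node (.leaf 7041) (.leaf 14130)) (.node (.leaf 34176) (.leaf 20286)))) (.node (.node (.node (.leaf 12940) (.leaf 33847)) (.node (.leaf 33651) (.leaf 34908))) (.node (.node (.leaf 34853) (.leaf 14922)) (.node (.leaf 15827) (.leaf 35366))))))
def dFin_199 : BT := .node dFin_197 dFin_198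
def dFin_200 : BT := .node (.node (.node (.node (.node (.node (.node (.leaf 33500) (.leaf 36750)) (.leaf 11242)) (.node (.leaf 9350) (.leaf 34425))) (.node (.node (.leaf 5681) (.leaf 12708)) (.node (.leaf 32958) (.leaf 18830)))) (.node (.node (.node (.node (.leaf 13328) (.leaf 25262)) (.leaf 19673)) (.node (.leaf 33808) (.leaf 31872))) (.node (.node (.leaf 7390) (.leaf 14216)) (.node (.leaf 15963) (.leaf 36017))))) (.node (.node (.node (.node (.node (.leaf 15122) (.leaf 23998)) (.leaf 34837)) (.node (.leaf 10436) (.leaf 16567))) (.node (.node (.leaf 22982) (.leaf 13902)) (.node (.leaf 31644) (.leaf 19856)))) (.node (.node (.node (.node (.leaf 9886) (.leaf 28942)) (.leaf 12056)) (.node (.leaf 11137) (.leaf 17976))) (.node (.node (.leaf 9640) (.leaf 35099)) (.node (.leaf 13541) (.leaf 35829)))))) (.node (.node (.node (.node (.node (.node (.leaf 8746) (.leaf 36757)) (.leaf 18825)) (.node (.leaf 13210) (.leaf 24737))) (.node (.node (.leaf 6213) (.leaf 15805)) (.node (.leaf 6099) (.leaf 19188)))) (.node (.node (.node (.node (.leaf 8544) (.leaf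 26942)) (.leaf 34910)) (.node (.leaf 13949) (.leaf 17474))) (.node (.node (.leaf 33784) (.leaf 14382)) (.node (.leaf 10116) (.leaf 20513))))) (.node (.node (.node (.node (.node (.leaf 8986) (.leaf 24768)) (.leaf 32077)) (.node (.leaf 9266) (.leaf 35240))) (.node (.node (.leaf 34106) (.leaf 14112)) (.node (.leaf 11008) (.leaf 36655)))) (.node (.node (.node (.node (.leaf 10817) (.leaf 37220)) (.leaf 35214)) (.node (.leaf 33696) (.leaf 18388))) (.node (.node (.leaf 15604) (.leaf 30326)) (.node (.leaf 11174) (.leaf 36688))))))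
def dFin_201 : BT := .node (.node (.node (.node (.node (.node (.node (.leaf 10067) (.leaf 21916)) (.leaf 33130)) (.node (.leaf 11725) (.leaf 16199))) (.node (.node (.leaf 15302) (.leaf 35715)) (.node (.leaf 10924) (.leaf 33340)))) (.node (.node (.node (.node (.leaf 1099) (.leaf 28096)) (.leaf 13457)) (.node (.leaf 10824) (.leaf 36509))) (.node (.node (.leaf 10730) (.leaf 34089)) (.node (.leaf 31917) (.leaf 20454))))) (.node (.node (.node (.node (.node (.leaf 9305) (.leaf 36975)) (.leaf 15781)) (.node (.leaf 5022) (.leaf 16652))) (.node (.node (.leaf 13288) (.leaf 21897)) (.node (.leaf 6451) (.leaf 34868)))) (.node (.node (.node (.node (.leaf 34074) (.leaf 37217)) (.leaf 12086)) (.node (.leaf 10898) (.leaf 36223))) (.node (.node (.leaf 4385) (.leaf 14760)) (.node (.leaf 27908) (.leaf 21406)))))) (.node (.node (.node (.node (.node (.node (.leaf 301) (.leaf 36866)) (.leaf 11276)) (.node (.leaf 12073) (.leaf 16522))) (.node (.node (.leaf 10528) (.leaf 35274)) (.node (.leaf 9408) (.leaf 19555)))) (.node (.node (.node (.node (.leaf 1233) (.leaf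 36968)) (.leaf 11972)) (.node (.leaf 15486) (.leaf 34050))) (.node (.node (.leaf 3469) (.leaf 33718)) (.node (.leaf 17711) (.leaf 20822))))) (.node (.node (.node (.node (.node (.leaf 10327) (.leaf 37104)) (.leaf 11586)) (.node (.leaf 33280) (.leaf 17010))) (.node (.node (.leaf 9488) (.leaf 35982)) (.node (.leaf 16833) (.leaf 20322)))) (.node (.node (.node (.leaf 10322) (.leaf 33216)) (.node (.leaf 13631) (.leaf 18623))) (.node (.node (.leaf 11269) (.leaf 15891)) (.node (.leaf 33409) (.leaf 21726))))))
def dFin_202 : BT := .node dFin_200 dFin_201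
def dFin_203 : BT := .node dFin_199 dFin_202
def dFin_204 : BT := .node dFin_196 dFin_203
def dFin_205 : BT := .node (.node (.node (.node (.node (.node (.node (.leaf 9594) (.leaf 21774)) (.leaf 32904)) (.node (.leaf 11563) (.leaf 16066))) (.node (.node (.leaf 15256) (.leaf 33212)) (.node (.leaf 9804) (.leaf 18667)))) (.node (.node (.node (.node (.leaf 2991) (.leaf 24935)) (.leaf 13481)) (.node (.leaf 9384) (.leaf 17249))) (.node (.node (.leaf 10662) (.leaf 36159)) (.node (.leaf 31650) (.leaf 20340))))) (.node (.node (.node (.node (.node (.leaf 9684) (.leaf 36560)) (.leaf 15764)) (.node (.leaf 4863) (.leaf 16536))) (.node (.node (.leaf 13284) (.leaf 21721)) (.node (.leaf 31590) (.leaf 32344)))) (.node (.node (.node (.node (.leaf 34344) (.leaf 28639)) (.leaf 12018)) (.node (.leaf 10866) (.leaf 36211))) (.node (.node (.leaf 34731) (.leaf 14482)) (.node (.leaf 34951) (.leaf 21196)))))) (.node (.node (.node (.node (.node (.node (.leaf 517) (.leaf 22085)) (.leaf 10232)) (.node (.leaf 4687) (.leaf 16222))) (.node (.node (.leaf 10378) (.leaf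 12889)) (.node (.leaf 9900) (.leaf 35061)))) (.node (.node (.node (.node (.leaf 1102) (.leaf 26911)) (.leaf 11878)) (.node (.leaf 15508) (.leaf 34536))) (.node (.node (.leaf 32616) (.leaf 33240)) (.node (.leaf 10096) (.leaf 20470))))) (.node (.node (.node (.node (.node (.leaf 425) (.leaf 35648)) (.leaf 11432)) (.node (.leaf 33558) (.leaf 16756))) (.node (.node (.leaf 10510) (.leaf 14085)) (.node (.leaf 31936) (.leaf 20046)))) (.node (.node (.node (.node (.leaf 9320) (.leaf 37166)) (.leaf 36030)) (.node (.leaf 13497) (.leaf 18339))) (.node (.node (.leaf 4577) (.leaf 15917)) (.node (.leaf 7553) (.leaf 21578))))))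
def dFin_206 : BT := .node (.node (.node (.node (.node (.node (.node (.leaf 8836) (.leaf 36816)) (.leaf 18427)) (.node (.leaf 13408) (.leaf 36426))) (.node (.node (.leaf 1631) (.leaf 15875)) (.node (.leaf 33987) (.leaf 18916)))) (.node (.node (.node (.node (.leaf 9028) (.leaf 25460)) (.leaf 22946)) (.node (.leaf 5385) (.leaf 17350))) (.node (.node (.leaf 34954) (.leaf 14240)) (.node (.leaf 11050) (.leaf 36224))))) (.node (.node (.node (.node (.node (.leaf 8770) (.leaf 24074)) (.leaf 34493)) (.node (.leaf 10450) (.leaf 20009))) (.node (.node (.leaf 2679) (.leaf 13914)) (.node (.leaf 10034) (.leaf 36729)))) (.node (.node (.node (.node (.leaf 34653) (.leaf 29044)) (.leaf 35192)) (.node (.leaf 33038) (.leaf 18052))) (.node (.node (.leaf 15598) (.leaf 35569)) (.node (.leaf 10180) (.leaf 35661)))))) (.node (.node (.node (.node (.node (.node (.leaf 15222) (.leaf 22224)) (.leaf 35360)) (.node (.leaf 10396) (.leaf 36239))) (.node (.node (.leaf 6273) (.leaf 13714)) (.node (.leaf 34220) (.leaf 19276)))) (.node (.node (.node (.node (.leaf 8918)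 (.leaf 27212)) (.leaf 11942)) (.node (.leaf 13213) (.leaf 17488))) (.node (.node (.leaf 10786) (.leaf 36656)) (.node (.leaf 13507) (.leaf 36917))))) (.node (.node (.node (.node (.node (.leaf 13194) (.leaf 24820)) (.leaf 11561)) (.node (.leaf 12717) (.leaf 34932))) (.node (.node (.leaf 10624) (.leaf 14124)) (.node (.leaf 15894) (.leaf 20277)))) (.node (.node (.node (.leaf 1525) (.leaf 12316)) (.node (.leaf 33619) (.leaf 18432))) (.node (.node (.leaf 8668) (.leaf 14920)) (.node (.leaf 11192) (.leaf 21723))))))
def dFin_207 : BT := .node dFin_205 dFin_206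
def dFin_208 : BT := .node (.node (.node (.node (.node (.node (.node (.leaf 13108) (.leaf 21804)) (.leaf 7653)) (.node (.leaf 11683) (.leaf 33524))) (.node (.node (.leaf 33899) (.leaf 12704)) (.node (.leaf 15520) (.leaf 37020)))) (.node (.node (.node (.node (.leaf 3243) (.leaf 36946)) (.leaf 11648)) (.node (.leaf 33683) (.leaf 17276))) (.node (.node (.leaf 10692) (.leaf 36179)) (.node (.leaf 10962) (.leaf 36003))))) (.node (.node (.node (.node (.node (.leaf 9734) (.leaf 23990)) (.leaf 34835)) (.node (.leaf 10857) (.leaf 16561))) (.node (.node (.leaf 9436) (.leaf 21773)) (.node (.leaf 13567) (.leaf 36425)))) (.node (.node (.node (.node (.leaf 33647) (.leaf 36927)) (.leaf 12050)) (.node (.leaf 35032) (.leaf 17968))) (.node (.node (.leaf 9636) (.leaf 34399)) (.node (.leaf 34974) (.leaf 21236)))))) (.node (.node (.node (.node (.node (.node (.leaf 8742) (.leaf 22130)) (.leaf 35255)) (.node (.leaf 4689) (.leaf 16348))) (.node (.node (.leaf 33372) (.leaf 13662)) (.node (.leaf 10936) (.leaf 33937)))) (.node (.node (.node (.node (.leaf 4517)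 (.leaf 26935)) (.leaf 15885)) (.node (.leaf 5507) (.leaf 17466))) (.node (.node (.leaf 13396) (.leaf 32998)) (.node (.leaf 7123) (.leaf 35426))))) (.node (.node (.node (.node (.node (.leaf 33492) (.leaf 24760)) (.leaf 32980)) (.node (.leaf 33817) (.leaf 16784))) (.node (.node (.leaf 15374) (.leaf 35158)) (.node (.leaf 11004) (.leaf 36687)))) (.node (.node (.node (.node (.leaf 32921) (.leaf 37244)) (.leaf 13597)) (.node (.leaf 10918) (.leaf 18379))) (.node (.node (.leaf 8636) (.leaf 34059)) (.node (.leaf 33640) (.leaf 21603))))))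
def dFin_209 : BT := .node (.node (.node (.node (.node (.node (.node (.leaf 83) (.leaf 36208)) (.leaf 13647)) (.node (.leaf 9368) (.leaf 31694))) (.node (.node (.leaf 9160) (.leaf 35690)) (.node (.leaf 6017) (.leaf 19064)))) (.node (.node (.node (.node (.leaf 15420) (.leaf 26246)) (.leaf 11721)) (.node (.leaf 10820) (.leaf 36725))) (.node (.node (.leaf 33829) (.leaf 14262)) (.node (.leaf 31554) (.leaf 20446))))) (.node (.node (.node (.node (.node (.leaf 32576) (.leaf 36980)) (.leaf 11416)) (.node (.leaf 9246) (.leaf 32078))) (.node (.node (.leaf 6691) (.leaf 13964)) (.node (.leaf 16569) (.leaf 20016)))) (.node (.node (.node (.node (.leaf 13136) (.leaf 29128)) (.leaf 12083)) (.node (.leaf 14447) (.leaf 34998))) (.node (.node (.leaf 4451) (.leaf 14754)) (.node (.leaf 15845) (.leaf 37120)))))) (.node (.node (.node (.node (.node (.node (.leaf 361) (.leaf 23779)) (.leaf 11272)) (.node (.leaf 15624) (.leaf 16515))) (.node (.node (.leaf 34654) (.leaf 34762)) (.node (.leaf 16217) (.leaf 19442)))) (.node (.node (.node (.node (.leaf 9854) (.leaf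 27308)) (.leaf 11965)) (.node (.leaf 10846) (.leaf 17727))) (.node (.node (.leaf 33119) (.leaf 14452)) (.node (.leaf 11130) (.leaf 20813))))) (.node (.node (.node (.node (.node (.leaf 10092) (.leaf 35834)) (.leaf 35228)) (.node (.leaf 12986) (.leaf 25453))) (.node (.node (.leaf 13214) (.leaf 15710)) (.node (.leaf 34984) (.leaf 20314)))) (.node (.node (.node (.leaf 10318) (.leaf 33594)) (.node (.leaf 33597) (.leaf 18602))) (.node (.node (.leaf 34320) (.leaf 14942)) (.node (.leaf 11214) (.leaf 35653))))))
def dFin_210 : BT := .node dFin_208 dFin_209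
def dFin_211 : BT := .node dFin_207 dFin_210
def dFin_212 : BT := .node (.node (.node (.node (.node (.node (.node (.leaf 78) (.leaf 37091)) (.leaf 11236)) (.node (.leaf 15614) (.leaf 24063))) (.node (.node (.leaf 9751) (.leaf 33644)) (.node (.leaf 5845) (.leaf 18676)))) (.node (.node (.node (.node (.leaf 9014) (.leaf 24946)) (.leaf 33616)) (.node (.leaf 10492) (.leaf 17271))) (.node (.node (.leaf 33850) (.leaf 14204)) (.node (.leaf 11040) (.leaf 36889))))) (.node (.node (.node (.node (.node (.leaf 9692) (.leaf 36562)) (.leaf 35552)) (.node (.leaf 13418) (.leaf 35642))) (.node (.node (.leaf 13203) (.leaf 15921)) (.node (.leaf 31640) (.leaf 19676)))) (.node (.node (.node (.node (.leaf 8792) (.leaf 28630)) (.leaf 35981)) (.node (.leaf 36204) (.leaf 17806))) (.node (.node (.leaf 34160) (.leaf 14562)) (.node (.leaf 11156) (.leaf 36432)))))) (.node (.node (.node (.node (.node (.node (.leaf 33792) (.leaf 22125)) (.leaf 10234)) (.node (.leaf 10388) (.leaf 32045))) (.node (.node (.leaf 2421) (.leaf 12904)) (.node (.leaf 16095) (.leaf 19168))))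 (.node (.node (.node (.node (.leaf 13164) (.leaf 26920)) (.leaf 20035)) (.node (.leaf 5439) (.leaf 34538))) (.node (.node (.leaf 33410) (.leaf 14366)) (.node (.leaf 15863) (.leaf 20487))))) (.node (.node (.node (.node (.node (.leaf 15176) (.leaf 24750)) (.leaf 19433)) (.node (.leaf 9260) (.leaf 31518))) (.node (.node (.leaf 33695) (.leaf 14094)) (.node (.leaf 31938) (.leaf 20136)))) (.node (.node (.node (.node (.leaf 9960) (.leaf 37182)) (.leaf 20281)) (.node (.leaf 34095) (.leaf 18354))) (.node (.node (.leaf 9296) (.leaf 33233)) (.node (.leaf 13483) (.leaf 36398))))))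
def dFin_213 : BT := .node (.node (.node (.node (.node (.node (.node (.leaf 9138) (.leaf 21900)) (.leaf 33137)) (.node (.leaf 4589) (.leaf 16130))) (.node (.node (.leaf 9124) (.leaf 35456)) (.node (.leaf 13641) (.leaf 22812)))) (.node (.node (.node (.node (.leaf 3529) (.leaf 36811)) (.leaf 11688)) (.node (.leaf 34224) (.leaf 17416))) (.node (.node (.leaf 10710) (.leaf 33022)) (.node (.leaf 31634) (.leaf 20434))))) (.node (.node (.node (.node (.node (.leaf 2423) (.leaf 36466)) (.leaf 11352)) (.node (.leaf 33620) (.leaf 16592))) (.node (.node (.leaf 9444) (.leaf 13969)) (.node (.leaf 10986) (.leaf 20007)))) (.node (.node (.node (.node (.leaf 5020) (.leaf 29119)) (.leaf 12076)) (.node (.leaf 15494) (.leaf 36995))) (.node (.node (.leaf 34716) (.leaf 32964)) (.node (.leaf 34703) (.leaf 21292)))))) (.node (.node (.node (.node (.node (.node (.leaf 9885) (.leaf 22242)) (.leaf 35376)) (.node (.leaf 12015) (.leaf 16508))) (.node (.node (.leaf 15348) (.leaf 21621)) (.node (.leaf 9400) (.leaf 33243)))) (.node (.node (.node (.node (.leaf 1225) (.leaf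 36328)) (.leaf 13519)) (.node (.leaf 9748) (.leaf 33234))) (.node (.node (.leaf 10792) (.leaf 34475)) (.node (.leaf 34084) (.leaf 20540))))) (.node (.node (.node (.node (.node (.leaf 34661) (.leaf 35831)) (.leaf 15769)) (.node (.leaf 5313) (.leaf 16836))) (.node (.node (.leaf 13376) (.leaf 14151)) (.node (.leaf 16777) (.leaf 35410)))) (.node (.node (.node (.leaf 33382) (.leaf 12426)) (.node (.leaf 9786) (.leaf 36183))) (.node (.node (.leaf 34900) (.leaf 14928)) (.node (.leaf 7599) (.leaf 21686))))))
def dFin_214 : BT := .node dFin_212 dFin_213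
def dFin_215 : BT := .node (.node (.node (.node (.node (.node (.node (.leaf 8828) (.leaf 36192)) (.leaf 15831)) (.node (.leaf 11505) (.leaf 16098))) (.node (.node (.leaf 13260) (.leaf 35544)) (.node (.leaf 34570) (.leaf 35348)))) (.node (.node (.node (.node (.leaf 32896) (.leaf 35752)) (.leaf 11670)) (.node (.leaf 10812) (.leaf 37067))) (.node (.node (.leaf 34973) (.leaf 14222)) (.node (.leaf 32844) (.leaf 20385))))) (.node (.node (.node (.node (.node (.leaf 1529) (.leaf 36949)) (.leaf 13436)) (.node (.leaf 10440) (.leaf 36148))) (.node (.node (.leaf 10558) (.leaf 34980)) (.node (.leaf 34782) (.leaf 19864)))) (.node (.node (.node (.node (.leaf 15466) (.leaf 28950)) (.leaf 20349)) (.node (.leaf 10872) (.leaf 30195))) (.node (.node (.leaf 3527) (.leaf 14616)) (.node (.leaf 34466) (.leaf 21258)))))) (.node (.node (.node (.node (.node (.node (.leaf 8865) (.leaf 33544)) (.leaf 10260)) (.node (.leaf 33512) (.leaf 16480))) (.node (.node (.leaf 8946) (.leaf 31931)) (.node (.leaf 12893) (.leaf 19196)))) (.node (.node (.node (.node (.leaf 8550)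 (.leaf 36341)) (.leaf 35474)) (.node (.leaf 13513) (.leaf 36104))) (.node (.node (.leaf 3237) (.leaf 15935)) (.node (.leaf 33906) (.leaf 20518))))) (.node (.node (.node (.node (.node (.leaf 2842) (.leaf 36758)) (.leaf 11522)) (.node (.leaf 15644) (.leaf 25253))) (.node (.node (.leaf 11073) (.leaf 34382)) (.node (.leaf 32997) (.leaf 20270)))) (.node (.node (.node (.node (.leaf 10302) (.leaf 37228)) (.leaf 33822)) (.node (.leaf 9768) (.leaf 37039))) (.node (.node (.leaf 4521) (.leaf 14848)) (.node (.leaf 11178) (.leaf 36945))))))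
def dFin_216 : BT := .node (.node (.node (.node (.node (.node (.node (.leaf 9468) (.leaf 21924)) (.leaf 34728)) (.node (.leaf 9370) (.leaf 35038))) (.node (.node (.leaf 33413) (.leaf 13651)) (.node (.leaf 10928) (.leaf 36465)))) (.node (.node (.node (.node (.leaf 9289) (.leaf 26456)) (.leaf 32336)) (.node (.leaf 12913) (.leaf 17439))) (.node (.node (.leaf 15582) (.leaf 14267)) (.node (.leaf 11076) (.leaf 29121))))) (.node (.node (.node (.node (.node (.leaf 9282) (.leaf 24366)) (.leaf 35043)) (.node (.leaf 33344) (.leaf 16660))) (.node (.node (.leaf 31998) (.leaf 14060)) (.node (.leaf 10042) (.leaf 35740)))) (.node (.node (.node (.node (.leaf 9306) (.leaf 37149)) (.leaf 15731)) (.node (.leaf 11135) (.leaf 18288))) (.node (.node (.leaf 13162) (.leaf 36840)) (.node (.leaf 34406) (.leaf 37125)))))) (.node (.node (.node (.node (.node (.node (.leaf 13032) (.leaf 23788)) (.leaf 11285)) (.node (.leaf 4819) (.leaf 34990))) (.node (.node (.leaf 10534) (.leaf 13866)) (.node (.leaf 15979) (.leaf 19533)))) (.node (.node (.node (.node (.leaf 13350)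 (.leaf 28177)) (.leaf 11976)) (.node (.leaf 34105) (.leaf 17718))) (.node (.node (.leaf 9580) (.leaf 33702)) (.node (.leaf 11140) (.leaf 36228))))) (.node (.node (.node (.node (.node (.leaf 10140) (.leaf 24898)) (.leaf 19063)) (.node (.leaf 12891) (.leaf 17018))) (.node (.node (.leaf 9494) (.leaf 36051)) (.node (.leaf 13655) (.leaf 20327)))) (.node (.node (.node (.leaf 10328) (.leaf 12493)) (.node (.leaf 33168) (.leaf 18626))) (.node (.node (.leaf 9332) (.leaf 32688)) (.node (.leaf 7601) (.leaf 21734))))))
def dFin_217 : BT := .node dFin_215 dFin_216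
def dFin_218 : BT := .node dFin_214 dFin_217
def dFin_219 : BT := .node dFin_211 dFin_218
def dFin_220 : BT := .node dFin_204 dFin_219
def dFin_221 : BT := .node (.node (.node (.node (.node (.node (.node (.leaf 7) (.leaf 36984)) (.leaf 15829)) (.node (.leaf 4574) (.leaf 16062))) (.node (.node (.leaf 13258) (.leaf 12497)) (.node (.leaf 14713) (.leaf 35076)))) (.node (.node (.node (.node (.leaf 34522) (.leaf 24951)) (.leaf 11596)) (.node (.leaf 9382) (.leaf 34925))) (.node (.node (.leaf 7185) (.leaf 14192)) (.node (.leaf 22596) (.leaf 20336))))) (.node (.node (.node (.node (.node (.leaf 345) (.leaf 36710)) (.leaf 13468)) (.node (.leaf 9218) (.leaf 36359))) (.node (.node (.leaf 10538) (.leaf 13876)) (.node (.leaf 31623) (.leaf 19548)))) (.node (.node (.node (.node (.leaf 15452) (.leaf 28190)) (.leaf 31140)) (.node (.leaf 10864) (.leaf 26235))) (.node (.node (.leaf 8017) (.leaf 14480)) (.node (.leaf 33298) (.leaf 21192)))))) (.node (.node (.node (.node (.node (.node (.leaf 87) (.leaf 36266)) (.leaf 10230)) (.node (.leaf 31798) (.leaf 16218)))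 (.node (.node (.leaf 10376) (.leaf 12907)) (.node (.leaf 6023) (.leaf 19096)))) (.node (.node (.node (.node (.leaf 8876) (.leaf 36622)) (.leaf 11873)) (.node (.leaf 12924) (.leaf 35805))) (.node (.node (.leaf 7595) (.leaf 15933)) (.node (.leaf 7045) (.leaf 20466))))) (.node (.node (.node (.node (.node (.leaf 1787) (.leaf 36353)) (.leaf 11430)) (.node (.leaf 15640) (.leaf 35716))) (.node (.node (.leaf 31984) (.leaf 35218)) (.node (.leaf 22974) (.leaf 20042)))) (.node (.node (.node (.node (.leaf 9316) (.leaf 37160)) (.leaf 12095)) (.node (.leaf 10904) (.leaf 35292))) (.node (.node (.leaf 32094) (.leaf 14772)) (.node (.leaf 10948) (.leaf 36360))))))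
def dFin_222 : BT := .node (.node (.node (.node (.node (.node (.node (.leaf 8834) (.leaf 21890)) (.leaf 18343)) (.node (.leaf 9354) (.leaf 36414))) (.node (.node (.leaf 5433) (.leaf 13619)) (.node (.leaf 9826) (.leaf 18911)))) (.node (.node (.node (.node (.leaf 9575) (.leaf 25456)) (.leaf 32332)) (.node (.leaf 5391) (.leaf 17346))) (.node (.node (.leaf 15578) (.leaf 22211)) (.node (.leaf 11048) (.leaf 20421))))) (.node (.node (.node (.node (.node (.leaf 8768) (.leaf 24070)) (.leaf 34793)) (.node (.leaf 34638) (.leaf 16580))) (.node (.node (.leaf 32562) (.leaf 13910)) (.node (.leaf 10032) (.leaf 34824)))) (.node (.node (.node (.node (.leaf 1327) (.leaf 36800)) (.leaf 15725)) (.node (.leaf 33034) (.leaf 18048))) (.node (.node (.leaf 13234) (.leaf 36012)) (.node (.leaf 36024) (.leaf 35736)))))) (.node (.node (.node (.node (.node (.node (.leaf 13240) (.leaf 22220)) (.leaf 35352)) (.node (.leaf 4703) (.leaf 34876))) (.node (.node (.leaf 31620) (.leaf 13710)) (.node (.leaf 15787) (.leaf 35405)))) (.node (.node (.node (.node (.leaf 4597) (.leaf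 36618)) (.leaf 11938)) (.node (.leaf 5533) (.leaf 17484))) (.node (.node (.leaf 10784) (.leaf 33151)) (.node (.leaf 11116) (.leaf 36898))))) (.node (.node (.node (.node (.node (.leaf 10068) (.leaf 24816)) (.leaf 11575)) (.node (.leaf 34850) (.leaf 16826))) (.node (.node (.leaf 10620) (.leaf 36830)) (.node (.leaf 13557) (.leaf 36306)))) (.node (.node (.node (.leaf 5389) (.leaf 12314)) (.node (.leaf 33728) (.leaf 18428))) (.node (.node (.leaf 8666) (.leaf 32624)) (.node (.leaf 7549) (.leaf 21632))))))
def dFin_223 : BT := .node dFin_221 dFin_222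
def dFin_224 : BT := .node (.node (.node (.node (.node (.node (.node (.leaf 9040) (.leaf 21800)) (.leaf 34555)) (.node (.leaf 33074) (.leaf 16087))) (.node (.node (.leaf 9110) (.leaf 21191)) (.node (.leaf 13637) (.leaf 37006)))) (.node (.node (.node (.node (.leaf 3235) (.leaf 36471)) (.leaf 11646)) (.node (.leaf 31586) (.leaf 17272))) (.node (.node (.leaf 10690) (.leaf 36459)) (.node (.leaf 6737) (.leaf 20362))))) (.node (.node (.node (.node (.node (.leaf 1583) (.leaf 36730)) (.leaf 11306)) (.node (.leaf 33859) (.leaf 16557))) (.node (.node (.leaf 9434) (.leaf 35537)) (.node (.leaf 10476) (.leaf 36417)))) (.node (.node (.node (.node (.leaf 4864) (.leaf 28953)) (.leaf 12048)) (.node (.leaf 15490) (.leaf 31360))) (.node (.node (.leaf 34624) (.leaf 32788)) (.node (.leaf 35369) (.leaf 21232)))))) (.node (.node (.node (.node (.node (.node (.leaf 9061) (.leaf 22126)) (.leaf 34736)) (.node (.leaf 9194) (.leaf 16344))) (.node (.node (.leaf 15326) (.leaf 32936)) (.node (.leaf 10934) (.leaf 34921)))) (.node (.node (.node (.node (.leaf 1127) (.leaf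 37078)) (.leaf 13611)) (.node (.leaf 9722) (.leaf 36876))) (.node (.node (.leaf 10766) (.leaf 33541)) (.node (.leaf 17479) (.leaf 20498))))) (.node (.node (.node (.node (.node (.leaf 2675) (.leaf 24755)) (.leaf 15767)) (.node (.leaf 33613) (.leaf 16780))) (.node (.node (.leaf 13290) (.leaf 36839)) (.node (.leaf 35548) (.leaf 34880)))) (.node (.node (.node (.node (.leaf 31954) (.leaf 37239)) (.leaf 12112)) (.node (.leaf 10916) (.leaf 35165))) (.node (.node (.leaf 4447) (.leaf 14810)) (.node (.leaf 30155) (.leaf 21599))))))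
def dFin_225 : BT := .node (.node (.node (.node (.node (.node (.node (.leaf 33390) (.leaf 37036)) (.leaf 10216)) (.node (.leaf 9366) (.leaf 16205))) (.node (.node (.leaf 5857) (.leaf 12758)) (.node (.leaf 34239) (.leaf 19058)))) (.node (.node (.node (.node (.leaf 13116) (.leaf 26242)) (.leaf 11735)) (.node (.leaf 5393) (.leaf 35294))) (.node (.node (.leaf 3226) (.leaf 14258)) (.node (.leaf 15965) (.leaf 20441))))) (.node (.node (.node (.node (.node (.leaf 15154) (.leaf 24292)) (.leaf 11415)) (.node (.leaf 9244) (.leaf 16647))) (.node (.node (.leaf 31863) (.leaf 13962)) (.node (.leaf 34500) (.leaf 20012)))) (.node (.node (.node (.node (.leaf 8848) (.leaf 29124)) (.leaf 20263)) (.node (.leaf 34072) (.leaf 18140))) (.node (.node (.leaf 9672) (.leaf 36062)) (.node (.leaf 13607) (.leaf 35666)))))) (.node (.node (.node (.node (.node (.node (.leaf 9188) (.leaf 32444)) (.leaf 19053)) (.node (.leaf 13414) (.leaf 36219))) (.node (.node (.leaf 34650) (.leaf 15929)) (.node (.leaf 16186) (.leaf 19438)))) (.node (.node (.node (.node (.leaf 9850) (.leaf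 27304)) (.leaf 35050)) (.node (.leaf 14121) (.leaf 17656))) (.node (.node (.leaf 33786) (.leaf 14448)) (.node (.leaf 11128) (.leaf 36287))))) (.node (.node (.node (.node (.node (.leaf 10090) (.leaf 24874)) (.leaf 32046)) (.node (.leaf 8930) (.leaf 34919))) (.node (.node (.leaf 2993) (.leaf 14160)) (.node (.leaf 11030) (.leaf 35287)))) (.node (.node (.node (.leaf 10845) (.leaf 33568)) (.node (.leaf 14607) (.leaf 18598))) (.node (.node (.leaf 15610) (.leaf 36559)) (.node (.leaf 11212) (.leaf 37141))))))
def dFin_226 : BT := .node dFin_224 dFin_225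
def dFin_227 : BT := .node dFin_223 dFin_226
def dFin_228 : BT := .node (.node (.node (.node (.node (.node (.node (.leaf 9602) (.leaf 36966)) (.leaf 34777)) (.node (.leaf 13404) (.leaf 34270))) (.node (.node (.leaf 13097) (.leaf 15697)) (.node (.leaf 14561) (.leaf 18672)))) (.node (.node (.node (.node (.leaf 9012) (.leaf 24942)) (.leaf 30156)) (.node (.leaf 31558) (.leaf 17262))) (.node (.node (.leaf 33536) (.leaf 14200)) (.node (.leaf 11038) (.leaf 36212))))) (.node (.node (.node (.node (.node (.leaf 9690) (.leaf 23969)) (.leaf 30890)) (.node (.leaf 10426) (.leaf 16548))) (.node (.node (.leaf 6341) (.leaf 13883)) (.node (.leaf 10470) (.leaf 36617)))) (.node (.node (.node (.node (.leaf 9211) (.leaf 28626)) (.leaf 34542)) (.node (.leaf 14213) (.leaf 17802))) (.node (.node (.leaf 15594) (.leaf 33211)) (.node (.leaf 11154) (.leaf 35574)))))) (.node (.node (.node (.node (.node (.node (.leaf 15204) (.leaf 22098)) (.leaf 35117)) (.node (.leaf 10386) (.leaf 16335))) (.node (.node (.leaf 6027) (.leaf 12902)) (.node (.leaf 34216) (.leaf 19164))))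 (.node (.node (.node (.node (.leaf 8894) (.leaf 26916)) (.leaf 16587)) (.node (.leaf 13909) (.leaf 17456))) (.node (.node (.leaf 10756) (.leaf 33311)) (.node (.leaf 13515) (.leaf 36261))))) (.node (.node (.node (.node (.node (.leaf 13186) (.leaf 24746)) (.leaf 11501)) (.node (.leaf 33992) (.leaf 33438))) (.node (.node (.leaf 22552) (.leaf 14090)) (.node (.leaf 15899) (.leaf 35342)))) (.node (.node (.node (.node (.leaf 5311) (.leaf 37173)) (.leaf 12106)) (.node (.leaf 14381) (.leaf 18350))) (.node (.node (.leaf 9294) (.leaf 33249)) (.node (.leaf 11162) (.leaf 21590))))))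
def dFin_229 : BT := .node (.node (.node (.node (.node (.node (.node (.leaf 359) (.leaf 36644)) (.leaf 11256)) (.node (.leaf 32843) (.leaf 16126))) (.node (.node (.leaf 9122) (.leaf 12745)) (.node (.leaf 9828) (.leaf 22808)))) (.node (.node (.node (.node (.leaf 3518) (.leaf 26233)) (.leaf 11686)) (.node (.leaf 15506) (.leaf 35822))) (.node (.node (.leaf 11171) (.leaf 32262)) (.node (.leaf 31632) (.leaf 20430))))) (.node (.node (.node (.node (.node (.leaf 1785) (.leaf 36482)) (.leaf 11350)) (.node (.leaf 33950) (.leaf 16588))) (.node (.node (.leaf 9442) (.leaf 13967)) (.node (.leaf 16517) (.leaf 19996)))) (.node (.node (.node (.node (.leaf 8812) (.leaf 36798)) (.leaf 36778)) (.node (.leaf 13573) (.leaf 36992))) (.node (.node (.leaf 34122) (.leaf 15919)) (.node (.leaf 34076) (.leaf 21288)))))) (.node (.node (.node (.node (.node (.node (.leaf 1231) (.leaf 22237)) (.leaf 15811)) (.node (.leaf 10775) (.leaf 16504))) (.node (.node (.leaf 13274) (.leaf 36397)) (.node (.leaf 34210) (.leaf 35036)))) (.node (.node (.node (.node (.leaf 32340) (.leaf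 36322)) (.leaf 11945)) (.node (.leaf 9746) (.leaf 33230))) (.node (.node (.leaf 3241) (.leaf 14440)) (.node (.leaf 34082) (.leaf 20536))))) (.node (.node (.node (.node (.node (.leaf 507) (.leaf 37111)) (.leaf 13475)) (.node (.leaf 9978) (.leaf 36447))) (.node (.node (.leaf 10632) (.leaf 34481)) (.node (.leaf 31225) (.leaf 20290)))) (.node (.node (.node (.leaf 15284) (.leaf 33174)) (.node (.leaf 9784) (.leaf 36636))) (.node (.node (.leaf 35153) (.leaf 14926)) (.node (.leaf 34512) (.leaf 21682))))))
def dFin_230 : BT := .node dFin_228 dFin_229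
def dFin_231 : BT := .node (.node (.node (.node (.node (.node (.node (.leaf 281) (.leaf 36935)) (.leaf 13489)) (.node (.leaf 9352) (.leaf 34831))) (.node (.node (.leaf 10354) (.leaf 33749)) (.node (.leaf 5849) (.leaf 18834)))) (.node (.node (.node (.node (.leaf 15406) (.leaf 25266)) (.leaf 11665)) (.node (.leaf 10810) (.leaf 36910))) (.node (.node (.leaf 35370) (.leaf 14220)) (.node (.leaf 31608) (.leaf 20381))))) (.node (.node (.node (.node (.node (.leaf 34234) (.leaf 24079)) (.leaf 11330)) (.node (.leaf 10438) (.leaf 35528))) (.node (.node (.leaf 6517) (.leaf 13904)) (.node (.leaf 6347) (.leaf 19860)))) (.node (.node (.node (.node (.leaf 13364) (.leaf 28946)) (.leaf 20329)) (.node (.leaf 33843) (.leaf 34904))) (.node (.node (.leaf 8019) (.leaf 14612)) (.node (.leaf 15843) (.leaf 35705)))))) (.node (.node (.node (.node (.node (.node (.leaf 1100) (.leaf 22227)) (.leaf 10258)) (.node (.leaf 15554) (.leaf 24757))) (.node (.node (.leaf 9407) (.leaf 32938)) (.node (.leaf 13000) (.leaf 19192)))) (.node (.node (.node (.node (.leaf 8548) (.leaf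 26946)) (.leaf 16479)) (.node (.leaf 10826) (.leaf 36119))) (.node (.node (.leaf 7597) (.leaf 14386)) (.node (.leaf 10118) (.leaf 36493))))) (.node (.node (.node (.node (.node (.leaf 8988) (.leaf 35141)) (.leaf 22827)) (.node (.leaf 13048) (.leaf 16815))) (.node (.node (.leaf 6883) (.leaf 15955)) (.node (.leaf 30962) (.leaf 20266)))) (.node (.node (.node (.node (.leaf 10300) (.leaf 37224)) (.leaf 34579)) (.node (.leaf 34112) (.leaf 18392))) (.node (.node (.leaf 33482) (.leaf 14844)) (.node (.leaf 11176) (.leaf 36694))))))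
def dFin_232 : BT := .node (.node (.node (.node (.node (.node (.node (.leaf 9466) (.leaf 21920)) (.leaf 8011)) (.node (.leaf 4595) (.leaf 16203))) (.node (.node (.leaf 32962) (.leaf 12770)) (.node (.leaf 10926) (.leaf 23159)))) (.node (.node (.node (.node (.leaf 8889) (.leaf 36649)) (.leaf 15755)) (.node (.leaf 12895) (.leaf 17435))) (.node (.node (.leaf 13392) (.leaf 22241)) (.node (.leaf 6885) (.leaf 35422))))) (.node (.node (.node (.node (.node (.leaf 9941) (.leaf 24362)) (.leaf 33974)) (.node (.leaf 33562) (.leaf 16656))) (.node (.node (.leaf 15370) (.leaf 36203)) (.node (.leaf 10040) (.leaf 35617)))) (.node (.node (.node (.node (.leaf 1511) (.leaf 37156)) (.leaf 13593)) (.node (.leaf 10900) (.leaf 18283))) (.node (.node (.leaf 8652) (.leaf 36849)) (.node (.leaf 7489) (.leaf 21410)))))) (.node (.node (.node (.node (.node (.node (.leaf 8594) (.leaf 23784)) (.leaf 22446)) (.node (.leaf 12097) (.leaf 16526))) (.node (.node (.leaf 10530) (.leaf 35551)) (.node (.leaf 13623) (.leaf 19553)))) (.node (.node (.node (.node (.leaf 9860) (.leaf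 36977)) (.leaf 11974)) (.node (.leaf 33574) (.leaf 17714))) (.node (.node (.leaf 9578) (.leaf 34675)) (.node (.leaf 33856) (.leaf 20826))))) (.node (.node (.node (.node (.node (.leaf 13308) (.leaf 36781)) (.leaf 11588)) (.node (.leaf 5317) (.leaf 17014))) (.node (.node (.leaf 9492) (.leaf 14195)) (.node (.leaf 10048) (.leaf 20345)))) (.node (.node (.node (.leaf 1579) (.leaf 12491)) (.node (.leaf 15516) (.leaf 35118))) (.node (.node (.leaf 32718) (.leaf 34760)) (.node (.leaf 32614) (.leaf 21730))))))
def dFin_233 : BT := .node dFin_231 dFin_232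
def dFin_234 : BT := .node dFin_230 dFin_233
def dFin_235 : BT := .node dFin_227 dFin_234
def dFin_236 : BT := .node (.node (.node (.node (.node (.node (.node (.leaf 9598) (.leaf 21778)) (.leaf 34240)) (.node (.leaf 11579) (.leaf 16070))) (.node (.node (.leaf 34128) (.leaf 12500)) (.node (.leaf 9806) (.leaf 31674)))) (.node (.node (.node (.node (.leaf 13098) (.leaf 37117)) (.leaf 15775)) (.node (.leaf 31589) (.leaf 17254))) (.node (.node (.leaf 13384) (.leaf 36772)) (.node (.leaf 22828) (.leaf 35414))))) (.node (.node (.node (.node (.node (.leaf 9925) (.leaf 23959)) (.leaf 32510)) (.node (.leaf 33648) (.leaf 16540))) (.node (.node (.leaf 15356) (.leaf 34696)) (.node (.leaf 10466) (.leaf 30196)))) (.node (.node (.node (.node (.leaf 4695) (.leaf 28621)) (.leaf 13447)) (.node (.leaf 10868) (.leaf 17793))) (.node (.node (.leaf 9612) (.leaf 14609)) (.node (.leaf 34679) (.leaf 21200)))))) (.node (.node (.node (.node (.node (.node (.leaf 9528) (.leaf 22090)) (.leaf 8073)) (.node (.leaf 4679) (.leaf 16226))) (.node (.node (.leaf 10380) (.leaf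 21397)) (.node (.leaf 13206) (.leaf 19161)))) (.node (.node (.node (.node (.leaf 8886) (.leaf 36704)) (.leaf 11880)) (.node (.leaf 32982) (.leaf 17448))) (.node (.node (.leaf 10752) (.leaf 14375)) (.node (.leaf 7039) (.leaf 20474))))) (.node (.node (.node (.node (.node (.leaf 2561) (.leaf 36808)) (.leaf 11434)) (.node (.leaf 5025) (.leaf 16760))) (.node (.node (.leaf 10512) (.leaf 35701)) (.node (.leaf 10994) (.leaf 20149)))) (.node (.node (.node (.node (.leaf 1514) (.leaf 37199)) (.leaf 12102)) (.node (.leaf 15498) (.leaf 31077))) (.node (.node (.leaf 4399) (.leaf 34034)) (.node (.leaf 34019) (.leaf 21582))))))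
def dFin_237 : BT := .node (.node (.node (.node (.node (.node (.node (.leaf 80) (.leaf 36450)) (.leaf 11252)) (.node (.leaf 15618) (.leaf 16119))) (.node (.node (.leaf 9767) (.leaf 33462)) (.node (.leaf 14751) (.leaf 18920)))) (.node (.node (.node (.node (.leaf 9030) (.leaf 25464)) (.leaf 33952)) (.node (.leaf 9694) (.leaf 17415))) (.node (.node (.leaf 27918) (.leaf 14244)) (.node (.leaf 11052) (.leaf 36713))))) (.node (.node (.node (.node (.node (.leaf 8772) (.leaf 36958)) (.leaf 11343)) (.node (.leaf 13422) (.leaf 24937))) (.node (.node (.leaf 2673) (.leaf 15927)) (.node (.leaf 11969) (.leaf 19988)))) (.node (.node (.node (.node (.leaf 8808) (.leaf 29048)) (.leaf 12071)) (.node (.leaf 14379) (.leaf 18056))) (.node (.node (.leaf 35110) (.leaf 14714)) (.node (.leaf 10182) (.leaf 21283)))))) (.node (.node (.node (.node (.node (.node (.leaf 33088) (.leaf 22257)) (.leaf 10278)) (.node (.leaf 10398) (.leaf 35645))) (.node (.node (.leaf 31557) (.leaf 13716)) (.node (.leaf 34330) (.leaf 19280)))) (.node (.node (.node (.node (.leaf 13348) (.leaf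 27216)) (.leaf 35625)) (.node (.leaf 14059) (.leaf 35300))) (.node (.node (.leaf 7501) (.leaf 14434)) (.node (.leaf 15857) (.leaf 36913))))) (.node (.node (.node (.node (.node (.leaf 15194) (.leaf 24824)) (.leaf 19535)) (.node (.leaf 9974) (.leaf 35238))) (.node (.node (.leaf 10626) (.leaf 14128)) (.node (.leaf 32620) (.leaf 20282)))) (.node (.node (.node (.leaf 9084) (.leaf 33177)) (.node (.leaf 33639) (.leaf 18436))) (.node (.node (.leaf 8670) (.leaf 14913)) (.node (.leaf 13485) (.leaf 21677))))))
def dFin_238 : BT := .node dFin_236 dFin_237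
def dFin_239 : BT := .node (.node (.node (.node (.node (.node (.node (.leaf 15088) (.leaf 21808)) (.leaf 7647)) (.node (.leaf 9348) (.leaf 16093))) (.node (.node (.leaf 5671) (.leaf 12706)) (.node (.leaf 33172) (.leaf 18826)))) (.node (.node (.node (.node (.leaf 10162) (.leaf 25258)) (.leaf 33962)) (.node (.leaf 5377) (.leaf 17280))) (.node (.node (.leaf 10694) (.leaf 36518)) (.node (.leaf 13547) (.leaf 36011))))) (.node (.node (.node (.node (.node (.leaf 13148) (.leaf 23994)) (.leaf 22811)) (.node (.leaf 34569) (.leaf 34874))) (.node (.node (.leaf 6498) (.leaf 13898)) (.node (.leaf 15977) (.leaf 36435)))) (.node (.node (.node (.node (.leaf 34565) (.leaf 37235)) (.leaf 12052)) (.node (.leaf 14239) (.leaf 17972))) (.node (.node (.leaf 9638) (.leaf 33674)) (.node (.leaf 10170) (.leaf 21257)))))) (.node (.node (.node (.node (.node (.node (.leaf 8744) (.leaf 22134)) (.leaf 31147)) (.node (.leaf 9196) (.leaf 16475))) (.node (.node (.leaf 4391) (.leaf 13666)) (.node (.leaf 10938) (.leaf 35707)))) (.node (.node (.node (.node (.leaf 8673) (.leaf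 26938)) (.leaf 34358)) (.node (.leaf 33156) (.leaf 17470))) (.node (.node (.leaf 15586) (.leaf 14377)) (.node (.leaf 10114) (.leaf 36143))))) (.node (.node (.node (.node (.node (.leaf 8984) (.leaf 24764)) (.leaf 32623)) (.node (.leaf 34642) (.leaf 16788))) (.node (.node (.leaf 32534) (.leaf 14108)) (.node (.leaf 11006) (.leaf 36678)))) (.node (.node (.node (.node (.leaf 5379) (.leaf 37243)) (.leaf 15735)) (.node (.leaf 9760) (.leaf 18384))) (.node (.node (.leaf 13058) (.leaf 37005)) (.node (.leaf 7503) (.leaf 36368))))))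
def dFin_240 : BT := .node (.node (.node (.node (.node (.node (.node (.leaf 9683) (.leaf 35262)) (.leaf 15821)) (.node (.leaf 11519) (.leaf 16195))) (.node (.node (.leaf 13046) (.leaf 35784)) (.node (.leaf 14915) (.leaf 33584)))) (.node (.node (.node (.node (.leaf 34722) (.leaf 35534)) (.leaf 11726)) (.node (.leaf 10822) (.leaf 35166))) (.node (.node (.leaf 7551) (.leaf 14264)) (.node (.leaf 30456) (.leaf 20450))))) (.node (.node (.node (.node (.node (.leaf 1097) (.leaf 37213)) (.leaf 13643)) (.node (.leaf 9248) (.leaf 32080))) (.node (.node (.leaf 10574) (.leaf 37059)) (.node (.leaf 16585) (.leaf 20020)))) (.node (.node (.node (.node (.leaf 15480) (.leaf 29132)) (.leaf 20443)) (.node (.leaf 10896) (.leaf 35928))) (.node (.node (.leaf 8648) (.leaf 14758)) (.node (.leaf 34468) (.leaf 21398)))))) (.node (.node (.node (.node (.node (.node (.leaf 1239) (.leaf 36861)) (.leaf 11274)) (.node (.leaf 33806) (.leaf 16518))) (.node (.node (.leaf 10526) (.leaf 35277)) (.node (.leaf 35570) (.leaf 19446)))) (.node (.node (.node (.node (.leaf 9858)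 (.leaf 36339)) (.leaf 35345)) (.node (.leaf 13579) (.leaf 17709))) (.node (.node (.leaf 9791) (.leaf 15943)) (.node (.leaf 7277) (.leaf 20818))))) (.node (.node (.node (.node (.node (.leaf 1577) (.leaf 37097)) (.leaf 11584)) (.node (.leaf 15504) (.leaf 35055))) (.node (.node (.leaf 10111) (.leaf 34130)) (.node (.leaf 16817) (.leaf 20318)))) (.node (.node (.node (.leaf 10320) (.leaf 33671)) (.node (.leaf 9794) (.leaf 35396))) (.node (.node (.leaf 32759) (.leaf 14946)) (.node (.leaf 11216) (.leaf 36497))))))
def dFin_241 : BT := .node dFin_239 dFin_240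
def dFin_242 : BT := .node dFin_238 dFin_241
def dFin_243 : BT := .node (.node (.node (.node (.node (.node (.node (.leaf 89) (.leaf 37106)) (.leaf 11238)) (.node (.leaf 32348) (.leaf 16077))) (.node (.node (.leaf 9106) (.leaf 12699)) (.node (.leaf 14749) (.leaf 18680)))) (.node (.node (.node (.node (.leaf 9016) (.leaf 37122)) (.leaf 33844)) (.node (.leaf 13570) (.leaf 32735))) (.node (.node (.leaf 34142) (.leaf 15947)) (.node (.leaf 6743) (.leaf 20354))))) (.node (.node (.node (.node (.node (.leaf 355) (.leaf 36726)) (.leaf 11302)) (.node (.leaf 15628) (.leaf 35506))) (.node (.node (.leaf 10037) (.leaf 34698)) (.node (.leaf 6271) (.leaf 19680)))) (.node (.node (.node (.node (.leaf 8794) (.leaf 28634)) (.leaf 14183)) (.node (.leaf 9752) (.leaf 17981))) (.node (.node (.leaf 34632) (.leaf 14566)) (.node (.leaf 11158) (.leaf 35288)))))) (.node (.node (.node (.node (.node (.node (.leaf 445) (.leaf 36764)) (.leaf 13599)) (.node (.leaf 10390) (.leaf 31768))) (.node (.node (.leaf 9390) (.leaf 32932)) (.node (.leaf 35486) (.leaf 19172)))) (.node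 (.node (.node (.node (.leaf 15428) (.leaf 26924)) (.leaf 35394)) (.node (.leaf 9718) (.leaf 35927))) (.node (.node (.leaf 3233) (.leaf 14370)) (.node (.leaf 34742) (.leaf 20490))))) (.node (.node (.node (.node (.node (.leaf 33358) (.leaf 35128)) (.leaf 11506)) (.node (.leaf 9262) (.leaf 35133))) (.node (.node (.leaf 33264) (.leaf 14096)) (.node (.leaf 16649) (.leaf 20140)))) (.node (.node (.node (.node (.leaf 13068) (.leaf 37188)) (.leaf 20445)) (.node (.leaf 36829) (.leaf 34906))) (.node (.node (.leaf 4453) (.leaf 14804)) (.node (.leaf 15825) (.leaf 36371))))))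
def dFin_244 : BT := .node (.node (.node (.node (.node (.node (.node (.leaf 13044) (.leaf 21904)) (.leaf 33220)) (.node (.leaf 32717) (.leaf 34372))) (.node (.node (.leaf 5832) (.leaf 12754)) (.node (.leaf 15524) (.leaf 22820)))) (.node (.node (.node (.node (.leaf 3537) (.leaf 36806)) (.leaf 11690)) (.node (.leaf 34329) (.leaf 17420))) (.node (.node (.leaf 10712) (.leaf 33199)) (.node (.leaf 11064) (.leaf 36321))))) (.node (.node (.node (.node (.node (.leaf 9926) (.leaf 24284)) (.leaf 22802)) (.node (.leaf 33615) (.leaf 16596))) (.node (.node (.leaf 9446) (.leaf 36549)) (.node (.leaf 13524) (.leaf 28623)))) (.node (.node (.node (.node (.leaf 34646) (.leaf 36692)) (.leaf 12078)) (.node (.leaf 32310) (.leaf 18132))) (.node (.node (.leaf 9668) (.leaf 34045)) (.node (.leaf 34684) (.leaf 21296)))))) (.node (.node (.node (.node (.node (.node (.leaf 9184) (.leaf 22246)) (.leaf 32760)) (.node (.leaf 31105) (.leaf 16512))) (.node (.node (.leaf 31628) (.leaf 13802)) (.node (.leaf 9402) (.leaf 23174)))) (.node (.node (.node (.node (.leaf 4681)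 (.leaf 36336)) (.leaf 15877)) (.node (.leaf 23090) (.leaf 17648))) (.node (.node (.leaf 13400) (.leaf 30424)) (.node (.leaf 35100) (.leaf 35430))))) (.node (.node (.node (.node (.node (.leaf 10661) (.leaf 24866)) (.leaf 33090)) (.node (.leaf 12701) (.leaf 16840))) (.node (.node (.leaf 15560) (.leaf 34111)) (.node (.leaf 11026) (.leaf 20307)))) (.node (.node (.node (.leaf 1569) (.leaf 13629)) (.node (.leaf 9788) (.leaf 18589))) (.node (.node (.leaf 8674) (.leaf 23954)) (.node (.leaf 7593) (.leaf 21690))))))
def dFin_245 : BT := .node dFin_243 dFin_244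
def dFin_246 : BT := .node (.node (.node (.node (.node (.node (.node (.leaf 33968) (.leaf 21882)) (.leaf 34518)) (.node (.leaf 4585) (.leaf 16102))) (.node (.node (.leaf 15272) (.leaf 21225)) (.node (.leaf 9822) (.leaf 37073)))) (.node (.node (.node (.node (.leaf 2677) (.leaf 25451)) (.leaf 13455)) (.node (.leaf 10814) (.leaf 17337))) (.node (.node (.leaf 9544) (.leaf 33033)) (.node (.leaf 33073) (.leaf 20389))))) (.node (.node (.node (.node (.node (.leaf 1633) (.leaf 24061)) (.leaf 15777)) (.node (.leaf 33961) (.leaf 16572))) (.node (.node (.leaf 13286) (.leaf 35543)) (.node (.leaf 36550) (.leaf 33084)))) (.node (.node (.node (.node (.leaf 34182) (.leaf 36782)) (.leaf 12059)) (.node (.leaf 10874) (.leaf 33152))) (.node (.node (.leaf 35359) (.leaf 14618)) (.node (.leaf 34952) (.leaf 21262)))))) (.node (.node (.node (.node (.node (.node (.leaf 1123) (.leaf 36487)) (.leaf 10262)) (.node (.leaf 35044) (.leaf 16484))) (.node (.node (.leaf 8948) (.leaf 31301)) (.node (.leaf 9994) (.leaf 34992)))) (.node (.node (.node (.node (.leaf 4572) (.leaf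 27205)) (.leaf 11934)) (.node (.leaf 15482) (.leaf 36269))) (.node (.node (.leaf 33608) (.leaf 33026)) (.node (.leaf 7175) (.leaf 20522))))) (.node (.node (.node (.node (.node (.leaf 31864) (.leaf 37147)) (.leaf 11524)) (.node (.leaf 33550) (.leaf 16818))) (.node (.node (.leaf 10616) (.leaf 35618)) (.node (.leaf 31167) (.leaf 20274)))) (.node (.node (.node (.node (.leaf 10304) (.leaf 37232)) (.leaf 20815)) (.node (.leaf 12980) (.leaf 37047))) (.node (.node (.leaf 4515) (.leaf 15911)) (.node (.leaf 7555) (.leaf 21624))))))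
def dFin_247 : BT := .node (.node (.node (.node (.node (.node (.node (.leaf 9470) (.leaf 35850)) (.leaf 34670)) (.node (.leaf 13412) (.leaf 16215))) (.node (.node (.leaf 6019) (.leaf 15931)) (.node (.leaf 6031) (.leaf 19088)))) (.node (.node (.node (.node (.leaf 8872) (.leaf 26460)) (.leaf 34292)) (.node (.leaf 9704) (.leaf 17443))) (.node (.node (.leaf 33774) (.leaf 14272)) (.node (.leaf 11078) (.leaf 36677))))) (.node (.node (.node (.node (.node (.leaf 9284) (.leaf 24370)) (.leaf 34601)) (.node (.leaf 9250) (.leaf 35695))) (.node (.node (.leaf 32093) (.leaf 14064)) (.node (.leaf 10044) (.leaf 36821)))) (.node (.node (.node (.node (.leaf 32478) (.leaf 37150)) (.leaf 35204)) (.node (.leaf 14473) (.leaf 18292))) (.node (.node (.leaf 15548) (.leaf 36846)) (.node (.leaf 10944) (.leaf 36354)))))) (.node (.node (.node (.node (.node (.node (.leaf 15242) (.leaf 23792)) (.leaf 19083)) (.node (.leaf 9214) (.leaf 35573))) (.node (.node (.leaf 10805) (.leaf 13870)) (.node (.leaf 33460) (.leaf 19540)))) (.node (.node (.node (.node (.leaf 9866) (.leaf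 28182)) (.leaf 17967)) (.node (.leaf 10858) (.leaf 17722))) (.node (.node (.leaf 9582) (.leaf 35080)) (.node (.leaf 13499) (.leaf 35750))))) (.node (.node (.node (.node (.node (.leaf 13312) (.leaf 24902)) (.leaf 34340)) (.node (.leaf 13661) (.leaf 31992))) (.node (.node (.leaf 33900) (.leaf 14186)) (.node (.leaf 15969) (.leaf 36335)))) (.node (.node (.node (.leaf 13307) (.leaf 12495)) (.node (.leaf 5841) (.leaf 18630))) (.node (.node (.leaf 9334) (.leaf 33938)) (.node (.leaf 11218) (.leaf 36957))))))
def dFin_248 : BT := .node dFin_246 dFin_247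
def dFin_249 : BT := .node dFin_245 dFin_248
def dFin_250 : BT := .node dFin_242 dFin_249
def dFin_251 : BT := .node dFin_235 dFin_250
def dFin_252 : BT := .node dFin_220 dFin_251
def dFin_253 : BT := .node dFin_189 dFin_252
def dFin_254 : BT := .node dFin_126 dFin_253
def dFin : BT := dFin_254
theorem chk_all : chkAll dD dJS 0 = true := by decide +kernel
theorem chk_fin : chkFin dD 352 dJS.length dLive dPos dFin = true := by decide +kernel
end Cfsg.Agent.Lib.Helper66.M22Up
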