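import Cfsg.Agent.Lib.Helper66.M22G
import Cfsg.Agent.Lib.Helper66.M22Up
import Cfsg.Agent.Lib.Helper66.M22Pres
import Cfsg.Agent.S2116

/-! # The Schur multiplier of `M22` has order at most 12; a presentation bound for `M22` -/

set_option autoImplicit false
set_option maxRecDepth 100000

namespace Cfsg.Agent.Lib.Helper66.M22U

open scoped commutatorElement
open Cfsg Cfsg.Agent.Lib.Helper66 Cfsg.Agent.Lib.Helper66.AltStem Cfsg.Agent.Lib.Helper66.TCE Cfsg.Agent.Lib.Helper66.M22G

theorem carRel_of_SR {Δ : Type*} [Group Δ] (d : ℕ → Δ) (h : ∀ w ∈ SR, ev d w = 1) :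
    CarRel 5 d ⊥ := by
  simp only [SR, List.forall_mem_cons, List.not_mem_nil, false_imp_iff, implies_true, and_true] at h
  simp only [ev, L, List.map_cons, List.map_nil, List.prod_cons, List.prod_nil] at h
  norm_num at h
  obtain ⟨a0, a1, a2, a3, a4, b0, b1, b2, b3, c02, c03, c04, c13, c14, c24⟩ := h
  refine ⟨?_, ?_, ?_, ?_⟩
  · simpa [pow_succ, mul_assoc, Subgroup.mem_bot] using a0
  · intro i h1 h2
    interval_cases i
    · simpa [pow_succ, mul_assoc, Subgroup.mem_bot] using a1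
    · simpa [pow_succ, mul_assoc, Subgroup.mem_bot] using a2
    · simpa [pow_succ, mul_assoc, Subgroup.mem_bot] using a3
    · simpa [pow_succ, mul_assoc, Subgroup.mem_bot] using a4
  · intro i h1
    have hi : i < 4 := by omega
    interval_cases i
    · simpa [pow_succ, mul_assoc, Subgroup.mem_bot] using b0
    · simpa [pow_succ, mul_assoc, Subgroup.mem_bot] using b1
    · simpa [pow_succ, mul_assoc, Subgroup.mem_bot] using b2
    · simpa [pow_succ, mul_assoc, Subgroup.mem_bot] using b3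
  · intro i j h1 h2
    have hi : i < 3 := by omega
    interval_cases i <;> interval_cases j <;>
      first
      | omega
      | simpa [pow_succ, mul_assoc, Subgroup.mem_bot] using c02
      | simpa [pow_succ, mul_assoc, Subgroup.mem_bot] using c03
      | simpa [pow_succ, mul_assoc, Subgroup.mem_bot] using c04
      | simpa [pow_succ, mul_assoc, Subgroup.mem_bot] using c13
      | simpa [pow_succ, mul_assoc, Subgroup.mem_bot] using c14
      | simpa [pow_succ, mul_assoc, Subgroup.mem_bot] using c24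

theorem exists_hom_A7 {Δ : Type*} [Group Δ] (d : ℕ → Δ) (h : CarRel 5 d ⊥) :
    ∃ ψ : alternatingGroup (Fin 7) →* Δ, ∀ i < 5, d i ∈ ψ.range := by
  obtain ⟨φ₀⟩ := Cfsg.Agent.S3335.result 7 (by norm_num)
  have φ : PresentedGroup (carRels 5) ≃* alternatingGroup (Fin 7) := φ₀
  have hl : ∀ r ∈ carRels 5, FreeGroup.lift (fun i : Fin 5 => d i.val) r = 1 := fun r hr =>
    Subgroup.mem_bot.mp (lift_mem_of_carRel h r hr)
  refine ⟨(PresentedGroup.toGroup hl).comp φ.symm.toMonoidHom, fun i hi => ?_⟩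
  refine ⟨φ (PresentedGroup.of ⟨i, hi⟩), ?_⟩
  simp

theorem card_A7 : Nat.card (alternatingGroup (Fin 7)) = 2520 := by
  rw [nat_card_alternatingGroup]
  simp [Nat.factorial]

theorem pres_rels : ∀ w ∈ M22Pres.dRels, cls 5 (SR ++ EX) [] [] w = true := by decide +kernel

/-- **Presentation bound**: a group generated by elements satisfying the relators of `M22`
has at most `|M22|` elements. -/
theorem PB (Δ : Type) [Group Δ] [Finite Δ] (d : ℕ → Δ)
    (hgen : Subgroup.closure {x | ∃ i < 6, x = d i} = ⊤) (hR : ∀ w ∈ SR ++ EX, ev d w = 1) :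
    Nat.card Δ ≤ Nat.card ↥Spor.M22 := by
  obtain ⟨ψ, hψ⟩ := exists_hom_A7 d (carRel_of_SR d fun w hw => hR w (List.mem_append_left _ hw))
  obtain ⟨g, hg⟩ : ∃ g : ℕ → Δ, g = fun i => if i < 6 then d i else 1 := ⟨_, rfl⟩
  have hgd : ∀ i < 6, g i = d i := fun i hi => by rw [hg]; simp [hi]
  have hg1 : ∀ i, 6 ≤ i → g i = 1 := fun i hi => by
    rw [hg]; simp [show ¬ i < 6 by omega]
  have hev : ∀ w ∈ SR ++ EX, ev g w = 1 := by
    intro w hw
    rw [← hR w hw]
    apply ev_congr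
    intro a ha
    apply hgd
    have h12 : a < 12 := by
      rcases List.mem_append.mp hw with h | h
      · exact lt_of_chk (List.all_eq_true.mp SR_chk w h) a ha
      · exact lt_of_chk (List.all_eq_true.mp EX_chk w h) a ha
    omega
  have h := card_le (g := g) (S := ψ.range) (D := M22Pres.dD) (hg1 6 le_rfl)
    (by
      have : {x | ∃ i < M22Pres.dD.k, x = g i} = {x | ∃ i < 6, x = d i} := by
        ext x
        constructor
        · rintro ⟨i, hi, rfl⟩; exact ⟨i, hi, hgd i hi⟩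
        · rintro ⟨i, hi, rfl⟩; exact ⟨i, hi, (hgd i hi).symm⟩
      rw [this, hgen])
    (fun w hw => good_of_cls ψ.range g 5 (SR ++ EX) [] []
      (fun i hi => by rw [hg1 i hi]; exact one_mem _)
      (fun w hw x => by rw [hev w hw]; simp [one_mem])
      (fun j hj => absurd hj (by simp)) rfl w (pres_rels w hw))
    (by
      intro a ha
      apply L_mem
      have ha' : a ∈ [0, 2, 4, 6, 8] := ha
      have h5 : a / 2 < 5 := by
        simp only [List.mem_cons, List.not_mem_nil, or_false] at ha'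
        rcases ha' with rfl | rfl | rfl | rfl | rfl <;> norm_num
      rw [hgd _ (by omega)]
      exact hψ _ h5)
    M22Pres.dJS M22Pres.chk_all 176 M22Pres.dLive M22Pres.dPos M22Pres.dFin M22Pres.chk_fin
  have h2 : Nat.card ψ.range ≤ 2520 := by
    rw [← card_A7]
    exact Nat.card_le_card_of_surjective ψ.rangeRestrict ψ.rangeRestrict_surjective
  rw [card_M22]
  calc Nat.card Δ ≤ 176 * Nat.card ψ.range := h
    _ ≤ 176 * 2520 := Nat.mul_le_mul_left _ h2
    _ = 443520 := by norm_num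

/-- the relators used for the upper bound -/
def EX7 : List (List ℕ) := EX.take 7

theorem up_rels : ∀ w ∈ M22Up.dRels, cls 5 SR EX7 [13, 22] w = true := by decide +kernel

theorem EX7_chk : EX7.all chkW = true := by decide +kernel

theorem commutator_A7 : commutator (alternatingGroup (Fin 7)) = ⊤ := by
  have : IsSimpleGroup (alternatingGroup (Fin 7)) := alternatingGroup.isSimpleGroup (by simp)
  rcases (inferInstance : (commutator (alternatingGroup (Fin 7))).Normal).eq_bot_or_eq_top with h | h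
  · exfalso
    have hcomm : ∀ a b : alternatingGroup (Fin 7), a * b = b * a := by
      intro a b
      have : ⁅a, b⁆ ∈ commutator (alternatingGroup (Fin 7)) :=
        Subgroup.commutator_mem_commutator (Subgroup.mem_top a) (Subgroup.mem_top b)
      rw [h, Subgroup.mem_bot, commutatorElement_eq_one_iff_mul_comm] at this
      exact this
    have hc : Subgroup.center (alternatingGroup (Fin 7)) = ⊤ := by
      rw [eq_top_iff]; intro a _; rw [Subgroup.mem_center_iff]; intro b; exact hcomm b a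
    rw [alternatingGroup.center_eq_bot (by simp)] at hc
    have := Subgroup.card_top (G := alternatingGroup (Fin 7))
    rw [← hc, Subgroup.card_bot, card_A7] at this
    omega
  · exact h

theorem card_ker_le (Γ : Type) [Group Γ] [Finite Γ] (π : Γ →* ↥Spor.M22)
    (hπ : Cfsg.IsStemExtension π) : Nat.card π.ker ≤ 12 := by
  have hSRg : ∀ w ∈ SR, ev gb w = 1 := fun w hw => ev_gb_of_chk (List.all_eq_true.mp SR_chk w hw)
  obtain ⟨ψ, hψ⟩ := exists_hom_A7 gb (carRel_of_SR gb hSRg)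
  obtain ⟨H₁, hcard, hlift⟩ := link ψ π hπ.1 hπ.2.1 commutator_A7
  have hy : ∀ i, ∃ γ : Γ, π γ = gb i ∧ (i < 5 → γ ∈ H₁) := by
    intro i
    by_cases hi : i < 5
    · obtain ⟨a, ha⟩ := hψ i hi
      obtain ⟨γ, hγ, hγa⟩ := hlift a
      exact ⟨γ, hγa.trans ha, fun _ => hγ⟩
    · obtain ⟨γ, hγ⟩ := hπ.1 (gb i)
      exact ⟨γ, hγ, fun h => absurd h hi⟩
  choose g₁ hg₁π hg₁H using hy
  have hker : ∀ (g' : ℕ → Γ), (∀ i, π (g' i) = gb i) → ∀ w, chkW w = true →
      ev g' w ∈ π.ker := by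
    intro g' hg' w hw
    rw [MonoidHom.mem_ker, ev_map]
    have : (fun i => π (g' i)) = gb := funext hg'
    rw [this]
    exact ev_gb_of_chk hw
  have hE0 : chkW [10, 10] = true := by decide +kernel
  have hE5 : chkW [10, 1, 2, 10, 1, 2, 10, 1, 2] = true := by decide +kernel
  obtain ⟨c, hc⟩ : ∃ c, c = ev g₁ [10, 10] * (ev g₁ [10, 1, 2, 10, 1, 2, 10, 1, 2])⁻¹ := ⟨_, rfl⟩
  have hck : c ∈ π.ker := by
    rw [hc]; exact mul_mem (hker g₁ hg₁π _ hE0) (inv_mem (hker g₁ hg₁π _ hE5))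
  have hcc : c ∈ Subgroup.center Γ := hπ.2.1 hck
  obtain ⟨g₂, hg₂⟩ : ∃ g₂, g₂ = Function.update g₁ 5 (g₁ 5 * c) := ⟨_, rfl⟩
  have hg₂π : ∀ i, π (g₂ i) = gb i := by
    intro i
    rw [hg₂]
    by_cases hi : i = 5
    · subst hi
      rw [Function.update_self, map_mul, hg₁π, MonoidHom.mem_ker.mp hck, mul_one]
    · rw [Function.update_of_ne hi, hg₁π]
  have hg₂H : ∀ i < 5, g₂ i ∈ H₁ := by
    intro i hi
    rw [hg₂, Function.update_of_ne (by omega)]
    exact hg₁H i hi
  have hnorm : (ev g₂ [10, 10])⁻¹ * ev g₂ [10, 1, 2, 10, 1, 2, 10, 1, 2] = 1 := by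
    rw [hg₂, ev_scale g₁ 5 hcc, ev_scale g₁ 5 hcc]
    have e1 : es 5 [10, 10] = 2 := by decide
    have e2 : es 5 [10, 1, 2, 10, 1, 2, 10, 1, 2] = 3 := by decide
    rw [e1, e2]
    have hz0 := hπ.2.1 (hker g₁ hg₁π _ hE0)
    have hz5 := hπ.2.1 (hker g₁ hg₁π _ hE5)
    obtain ⟨a, ha⟩ : ∃ a, a = ev g₁ [10, 10] := ⟨_, rfl⟩
    obtain ⟨b, hb⟩ : ∃ b, b = ev g₁ [10, 1, 2, 10, 1, 2, 10, 1, 2] := ⟨_, rfl⟩
    rw [← ha, ← hb] at hc
    rw [← ha] at hz0
    rw [← hb] at hz5
    rw [← ha, ← hb]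
    have hba : b * a = a * b := Subgroup.mem_center_iff.mp hz0 b
    have hc2 : ∀ x, c ^ (2 : ℤ) * x = x * c ^ (2 : ℤ) := fun x =>
      (Subgroup.mem_center_iff.mp (zpow_mem hcc 2) x).symm
    calc (a * c ^ (2 : ℤ))⁻¹ * (b * c ^ (3 : ℤ))
        = (c ^ (2 : ℤ))⁻¹ * (c ^ (2 : ℤ) * (a⁻¹ * b * c)) := by rw [hc2 (a⁻¹ * b * c)]; group
      _ = a⁻¹ * b * c := by group
      _ = a⁻¹ * (b * a) * b⁻¹ := by rw [hc]; group
      _ = 1 := by rw [hba]; group
  obtain ⟨g, hg⟩ : ∃ g : ℕ → Γ, g = fun i => if i < 6 then g₂ i else ev g₂ (EX7.getD (i - 6) []) :=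
    ⟨_, rfl⟩
  have hg6 : ∀ i < 6, g i = g₂ i := fun i hi => by rw [hg]; simp [hi]
  have hgz : ∀ i, 6 ≤ i → g i = ev g₂ (EX7.getD (i - 6) []) := fun i hi => by
    rw [hg]; simp [show ¬ i < 6 by omega]
  have hev : ∀ w, chkW w = true → ev g w = ev g₂ w := by
    intro w hw
    apply ev_congr
    intro a ha
    have := lt_of_chk hw a ha
    exact hg6 _ (by omega)
  have hcen : ∀ i, 5 + 1 ≤ i → g i ∈ Subgroup.center Γ := by
    intro i hi
    rw [hgz i hi]
    by_cases hj : i - 6 < EX7.length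
    · rw [List.getD_eq_getElem _ _ hj]
      exact hπ.2.1 (hker g₂ hg₂π _ (List.all_eq_true.mp EX7_chk _ (List.getElem_mem hj)))
    · rw [List.getD_eq_default _ _ (by omega)]
      simp [one_mem]
  have hdef : ∀ j (hj : j < EX7.length), g (5 + 1 + j) = ev g EX7[j] := by
    intro j hj
    rw [hgz _ (by omega), hev _ (List.all_eq_true.mp EX7_chk _ (List.getElem_mem hj)),
      show 5 + 1 + j - 6 = j by omega, List.getD_eq_getElem _ _ hj]
  have hsr : ∀ w ∈ SR, ∀ x : Γ, x * ev g w * x⁻¹ ∈ H₁ := by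
    intro w hw x
    have hw' := List.all_eq_true.mp SR_chk w hw
    have h1 : ev g w ∈ Subgroup.center Γ := by
      rw [hev w hw']; exact hπ.2.1 (hker g₂ hg₂π _ hw')
    have h2 : x * ev g w * x⁻¹ = ev g w := by
      rw [Subgroup.mem_center_iff.mp h1 x]; simp
    rw [h2]
    apply ev_mem
    intro a ha
    have h10 : ∀ w ∈ SR, ∀ a ∈ w, a < 10 := by decide
    have := h10 w hw a ha
    rw [hg6 _ (by omega)]
    exact hg₂H _ (by omega)
  have hnw : ev g [13, 22] = 1 := by
    have e1 : L g 13 = (g 6)⁻¹ := by unfold L; norm_num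
    have e2 : L g 22 = g 11 := by unfold L; norm_num
    rw [ev_cons, ev_cons, ev_nil, e1, e2, hgz 6 le_rfl, hgz 11 (by norm_num), mul_one]
    exact hnorm
  have hgen : Subgroup.closure {x | ∃ i < M22Up.dD.k, x = g i} = ⊤ := by
    apply Cfsg.Agent.Lib.Helper66.IsStemExtension.closure_eq_top hπ
    rw [eq_top_iff, ← closure_gb]
    apply Subgroup.closure_mono
    rintro _ ⟨i, hi, rfl⟩
    exact ⟨g i, ⟨i, by change i < 13; omega, rfl⟩, by rw [hg6 i hi, hg₂π]⟩
  have h := card_le (g := g) (S := H₁) (D := M22Up.dD)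
    (by
      change g 13 = 1
      rw [hgz 13 (by norm_num)]
      rfl)
    hgen
    (fun w hw => good_of_cls H₁ g 5 SR EX7 [13, 22] hcen hsr hdef hnw w (up_rels w hw))
    (by
      intro a ha
      apply L_mem
      have ha' : a ∈ [0, 2, 4, 6, 8] := ha
      have h5 : a / 2 < 5 := by
        simp only [List.mem_cons, List.not_mem_nil, or_false] at ha'
        rcases ha' with rfl | rfl | rfl | rfl | rfl <;> norm_num
      rw [hg6 _ (by omega)]
      exact hg₂H _ h5)
    M22Up.dJS M22Up.chk_all 352 M22Up.dLive M22Up.dPos M22Up.dFin M22Up.chk_fin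
  have hH : Nat.card H₁ ≤ 6 * 2520 := by
    rw [Cfsg.Agent.S2116.card_schurM 7 (Or.inr rfl), card_A7] at hcard
    exact hcard
  have h3 : Nat.card Γ = Nat.card ↥Spor.M22 * Nat.card π.ker := by
    rw [Subgroup.card_eq_card_quotient_mul_card_subgroup π.ker,
      Nat.card_congr (QuotientGroup.quotientKerEquivOfSurjective π hπ.1).toEquiv]
  rw [card_M22] at h3
  have h4 : Nat.card Γ ≤ 352 * (6 * 2520) := h.trans (Nat.mul_le_mul_left _ hH)
  rw [h3] at h4
  omega

end Cfsg.Agent.Lib.Helper66.M22U
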