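import Cfsg.Agent.Lib.Helper66.O8G0

/-! # Generators and relators of `Ω8+(2)` adapted to a subgroup `Sp6(2)`, II -/

set_option autoImplicit false
set_option maxRecDepth 100000

namespace Cfsg.Agent.Lib.Helper66.O8G

open Matrix Cfsg
open Cfsg.Agent.Lib.Helper66.TCE (ev L appW chkEq allBelow allBelow_iff nbeq nblt ev_cons ev_nil)

theorem dec_surj (v : V8) : ∃ n < 256, dec n = v := by
  have hb : ∀ j, (v j).val < 2 := fun j => ZMod.val_lt _
  have h0 := hb (Sum.inl 0); have h1 := hb (Sum.inl 1); have h2 := hb (Sum.inl 2)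
  have h3 := hb (Sum.inl 3)
  have h4 := hb (Sum.inr 0); have h5 := hb (Sum.inr 1); have h6 := hb (Sum.inr 2)
  have h7 := hb (Sum.inr 3)
  refine ⟨(v (Sum.inl 0)).val + 2 * (v (Sum.inl 1)).val + 4 * (v (Sum.inl 2)).val
    + 8 * (v (Sum.inl 3)).val + 16 * (v (Sum.inr 0)).val + 32 * (v (Sum.inr 1)).val
    + 64 * (v (Sum.inr 2)).val + 128 * (v (Sum.inr 3)).val, by omega, ?_⟩
  funext j
  unfold dec
  have key : ∀ (x : ℕ) (c : ZMod 2), x % 2 = c.val → ((x : ℕ) : ZMod 2) = c := by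
    intro x c h
    rw [← ZMod.natCast_zmod_val c, ZMod.natCast_eq_natCast_iff']
    rw [h, Nat.mod_eq_of_lt (ZMod.val_lt c)]
  apply key
  have h4c : ∀ i : Fin 4, i = 0 ∨ i = 1 ∨ i = 2 ∨ i = 3 := by decide
  rcases j with i | i <;> rcases h4c i with rfl | rfl | rfl | rfl <;> simp only [idx] <;>
    norm_num <;> omega

def enc (v : V8) : ℕ :=
  (v (Sum.inl 0)).val + 2 * (v (Sum.inl 1)).val + 4 * (v (Sum.inl 2)).val
    + 8 * (v (Sum.inl 3)).val + 16 * (v (Sum.inr 0)).val + 32 * (v (Sum.inr 1)).val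
    + 64 * (v (Sum.inr 2)).val + 128 * (v (Sum.inr 3)).val

theorem enc_dec : ∀ p < 256, enc (dec p) = p := by decide +kernel

theorem rmat_sq {n : ℕ} (hn : n ∈ cen) : rmat n * rmat n = 1 := by
  rw [Matrix.ext_iff_mulVec]
  intro x
  obtain ⟨p, hp, rfl⟩ := dec_surj x
  rw [← Matrix.mulVec_mulVec, rmat_dec n hn p hp, rmat_dec n hn _ (rr_lt n hn p hp),
    rr_rr n hn p hp, Matrix.one_mulVec]

theorem rmat_Q {n : ℕ} (hn : n ∈ cen) (x : V8) :
    quadFormPlus 4 (ZMod 2) (rmat n *ᵥ x) = quadFormPlus 4 (ZMod 2) x := by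
  obtain ⟨p, hp, rfl⟩ := dec_surj x
  rw [rmat_dec n hn p hp, rr_Q n hn p hp]

open Classical in
/-- the reflections, in the isometry group -/
noncomputable def ro (n : ℕ) : OO :=
  if h : n ∈ cen then
    ⟨⟨rmat n, rmat n, rmat_sq h, rmat_sq h⟩, fun u _ => rmat_Q h u⟩
  else 1

/-- the action on vectors -/
def act (g : OO) (x : V8) : V8 := (g.1.1 : Matrix I8 I8 (ZMod 2)) *ᵥ x

theorem act_mul (g h : OO) (x : V8) : act (g * h) x = act g (act h x) := by
  unfold act
  rw [Matrix.mulVec_mulVec]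
  rfl

theorem act_one (x : V8) : act 1 x = x := by
  unfold act
  change (1 : Matrix I8 I8 (ZMod 2)) *ᵥ x = x
  rw [Matrix.one_mulVec]

theorem act_ext {g h : OO} (H : ∀ x, act g x = act h x) : g = h := by
  apply Subtype.ext
  apply Units.ext
  rw [Matrix.ext_iff_mulVec]
  exact H

theorem act_ro {n : ℕ} (hn : n ∈ cen) {p : ℕ} (hp : p < 256) : act (ro n) (dec p) = dec (rr n p) := by
  unfold act ro
  rw [dif_pos hn]
  exact rmat_dec n hn p hp

theorem ro_mul_self {n : ℕ} (hn : n ∈ cen) : ro n * ro n = 1 := by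
  apply act_ext
  intro x
  obtain ⟨p, hp, rfl⟩ := dec_surj x
  rw [act_mul, act_ro hn hp, act_ro hn (rr_lt n hn p hp), rr_rr n hn p hp, act_one]

theorem ro_inv {n : ℕ} (hn : n ∈ cen) : (ro n)⁻¹ = ro n :=
  inv_eq_of_mul_eq_one_right (ro_mul_self hn)

def n1 (i : ℕ) : ℕ := n1L.getD i 0
def n2 (i : ℕ) : ℕ := n2L.getD i 0

theorem n1_mem (i : ℕ) : n1 i ∈ cen := by
  by_cases hi : i < 8
  · have : ∀ i < 8, n1 i ∈ cen := by decide
    exact this i hi
  · have : n1 i = 0 := by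
      unfold n1; rw [List.getD_eq_default]; simp [n1L]; omega
    rw [this]; decide

theorem n2_mem (i : ℕ) : n2 i ∈ cen := by
  by_cases hi : i < 8
  · have : ∀ i < 8, n2 i ∈ cen := by decide
    exact this i hi
  · have : n2 i = 0 := by
      unfold n2; rw [List.getD_eq_default]; simp [n2L]; omega
    rw [this]; decide

/-- the generators in the isometry group -/
noncomputable def gs (i : ℕ) : OO := ro (n1 i) * ro (n2 i)

def tab (a p : ℕ) : ℕ :=
  bif Nat.beq (a % 2) 0 then rr (n1 (a / 2)) (rr (n2 (a / 2)) p) else rr (n2 (a / 2)) (rr (n1 (a / 2)) p)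

theorem L_gs (a : ℕ) {p : ℕ} (hp : p < 256) :
    act (L gs a) (dec p) = dec (tab a p) ∧ tab a p < 256 := by
  unfold L tab gs
  by_cases ha : a % 2 = 0
  · have hb : Nat.beq (a % 2) 0 = true := nbeq.mpr ha
    rw [if_pos ha, hb]
    simp only [cond_true]
    have h2 := rr_lt _ (n2_mem (a / 2)) p hp
    rw [act_mul, act_ro (n2_mem _) hp, act_ro (n1_mem _) h2]
    exact ⟨rfl, rr_lt _ (n1_mem _) _ h2⟩
  · have hb : Nat.beq (a % 2) 0 = false := by
      rw [← Bool.not_eq_true, nbeq]; exact ha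
    rw [if_neg ha, hb]
    simp only [cond_false]
    have h1 := rr_lt _ (n1_mem (a / 2)) p hp
    rw [_root_.mul_inv_rev, ro_inv (n1_mem _), ro_inv (n2_mem _), act_mul, act_ro (n1_mem _) hp,
      act_ro (n2_mem _) h1]
    exact ⟨rfl, rr_lt _ (n2_mem _) _ h1⟩

theorem ev_gs (w : List ℕ) {p : ℕ} (hp : p < 256) :
    act (ev gs w) (dec p) = dec (appW tab w p) ∧ appW tab w p < 256 := by
  induction w with
  | nil =>
    rw [ev_nil, act_one]
    exact ⟨rfl, hp⟩
  | cons a w ih =>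
    rw [ev_cons, act_mul, ih.1]
    exact L_gs a ih.2

def chkW (w : List ℕ) : Bool :=
  w.all (fun a => Nat.blt a 16) && chkEq tab 256 w []

theorem ev_gs_of_chk {w : List ℕ} (h : chkW w = true) : ev gs w = 1 := by
  simp only [chkW, Bool.and_eq_true] at h
  apply act_ext
  intro x
  obtain ⟨p, hp, rfl⟩ := dec_surj x
  rw [(ev_gs w hp).1, act_one]
  have := nbeq.mp ((allBelow_iff _ _).mp h.2 p hp)
  rw [this]; rfl

theorem lt_of_chk {w : List ℕ} (h : chkW w = true) : ∀ a ∈ w, a < 16 := by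
  simp only [chkW, Bool.and_eq_true, List.all_eq_true] at h
  exact fun a ha => by simpa [Nat.blt_eq] using h.1 a ha

/-- the relators of `Sp6(2)` -/
def SR : List (List ℕ) := Sp6G.SR ++ Sp6G.EX

theorem SR_chk : SR.all chkW = true := by decide +kernel
theorem EX_chk : EX.all chkW = true := by decide +kernel

end Cfsg.Agent.Lib.Helper66.O8G
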