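import Cfsg.Agent.Lib.Helper66.TCE

set_option autoImplicit false
set_option maxRecDepth 100000
namespace Cfsg.Agent.Lib.Helper66.Sp6Pres
open Cfsg.Agent.Lib.Helper66.TCE
def dF_0 : BT := .node (.node (.node (.node (.node (.node (.node (.leaf 0) (.leaf 37580973184)) (.leaf 14495520138)) (.node (.leaf 11274290568) (.leaf 22548586122))) (.node (.node (.leaf 5905580678) (.leaf 17716746636)) (.node (.leaf 10737422210) (.leaf 35970359682)))) (.node (.node (.node (.leaf 2684355210) (.leaf 24696067842)) (.node (.leaf 14495517702) (.leaf 24159199234))) (.node (.node (.leaf 8589936393) (.leaf 29527905162)) (.node (.leaf 20401097738) (.leaf 38117842692))))) (.node (.node (.node (.node (.leaf 1073742088) (.leaf 23622325126)) (.node (.leaf 9663679488) (.leaf 33286003584))) (.node (.node (.leaf 7516193921) (.leaf 28454165002)) (.node (.leaf 18253615366) (.leaf 37044101504)))) (.node (.node (.node (.leaf 2147484674) (.leaf 25769809674)) (.node (.leaf 9126809224) (.leaf 30601650176))) (.node (.node (.leaf 10200548364)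 (.leaf 31675390468)) (.node (.leaf 18790487174) (.leaf 33822876684)))))) (.node (.node (.node (.node (.node (.leaf 536871040) (.leaf 20401100162)) (.node (.leaf 11811162888) (.leaf 32749133324))) (.node (.node (.leaf 6442452480) (.leaf 27917293568)) (.node (.leaf 10200551556) (.leaf 29527908868)))) (.node (.node (.node (.leaf 3221226379) (.leaf 25232938764)) (.node (.leaf 15032388736) (.leaf 30601650180))) (.node (.node (.leaf 9126807686) (.leaf 30601647106)) (.node (.leaf 21474839684) (.leaf 38654713730))))) (.node (.node (.node (.node (.leaf 2147483910) (.leaf 24159196170)) (.node (.leaf 13958646662) (.leaf 33286002186))) (.node (.node (.leaf 6979323778) (.leaf 28991036044)) (.node (.leaf 19327355784) (.leaf 37580972546)))) (.node (.node (.node (.leaf 2147484936) (.leaf 26306680968)) (.node (.leaf 16106131206) (.leaf 35433486598))) (.node (.node (.leaf 10737420808) (.leaf 32212261508)) (.node (.leaf 22011711873) (.leaf 39191585666))))))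
def dF_1 : BT := .node (.node (.node (.node (.node (.node (.leaf 8) (.leaf 23085454082)) (.node (.leaf 11811161612) (.leaf 32749133314))) (.node (.node (.leaf 2684356100) (.leaf 27380423050)) (.node (.leaf 17179871875) (.leaf 35970357641)))) (.node (.node (.node (.leaf 3758097155) (.leaf 25232938882)) (.node (.leaf 12884905344) (.leaf 34359745674))) (.node (.node (.leaf 8589936389) (.leaf 30064777472)) (.node (.leaf 20937969665) (.leaf 38117843465))))) (.node (.node (.node (.node (.leaf 1610613124) (.leaf 15032391300)) (.node (.leaf 13421774598) (.leaf 33286003590))) (.node (.node (.leaf 8053065346) (.leaf 28991036034)) (.node (.leaf 18253615364) (.leaf 30064779917)))) (.node (.node (.node (.leaf 4831838851) (.leaf 26306678668)) (.node (.leaf 9663680132) (.leaf 34896617608))) (.node (.node (.leaf 10200548487) (.leaf 22548585858)) (.node (.leaf 18790484877) (.leaf 39191584646)))))) (.node (.node (.node (.node (.node (.leaf 536871050) (.leaf 23622324224)) (.node (.leaf 12348032644) (.leaf 28991037064)))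 (.node (.node (.leaf 6979322630) (.leaf 19327359490)) (.node (.leaf 17716744330) (.leaf 36507230337)))) (.node (.node (.node (.leaf 1610613766) (.leaf 25769809798)) (.node (.leaf 15032387590) (.leaf 24159199245))) (.node (.node (.leaf 9663678726) (.leaf 22011714952)) (.node (.leaf 22011711876) (.leaf 38654714501))))) (.node (.node (.node (.node (.leaf 1073742476) (.leaf 15569262342)) (.node (.leaf 12348034304) (.leaf 33822874624))) (.node (.node (.leaf 8589936385) (.leaf 20401101572)) (.node (.leaf 12348035724) (.leaf 35433489152)))) (.node (.node (.node (.leaf 5368710404) (.leaf 26843549700)) (.node (.leaf 16643000586) (.leaf 35433488525))) (.node (.node (.leaf 5368711820) (.leaf 31675391499)) (.node (.leaf 22548582912) (.leaf 39191585541))))))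
def dF_2 : BT := .node dF_0 dF_1
def dF_3 : BT := .node (.node (.node (.node (.node (.node (.node (.leaf 4) (.leaf 23085454088)) (.node (.leaf 11274291844) (.leaf 32749132552))) (.node (.node (.leaf 5905581450) (.leaf 27380423042)) (.node (.leaf 17179871500) (.leaf 35970359431)))) (.node (.node (.node (.leaf 1610613633) (.leaf 25232936586)) (.node (.leaf 14495517698) (.leaf 34359745668))) (.node (.node (.leaf 8589936395) (.leaf 20937972740)) (.node (.leaf 12884906892) (.leaf 38117843464))))) (.node (.node (.node (.node (.leaf 1073742210) (.leaf 23622323720)) (.node (.leaf 13421774476) (.leaf 33286003586))) (.node (.node (.leaf 8053064582) (.leaf 19327359754)) (.node (.leaf 18253613706) (.leaf 30601650824)))) (.node (.node (.node (.leaf 4831838604) (.leaf 25769809924)) (.node (.leaf 15569260162) (.leaf 34896615556))) (.node (.node (.leaf 10200548739) (.leaf 31675389196)) (.node (.leaf 18790485761) (.leaf 38654714759)))))) (.node (.node (.node (.node (.node (.leaf 536871046) (.leaf 14495520268))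 (.node (.leaf 11811162884) (.leaf 32212262530))) (.node (.node (.leaf 6442452490) (.leaf 27917292045)) (.node (.leaf 17716744322) (.leaf 36507229194)))) (.node (.node (.node (.leaf 3221226373) (.leaf 25769807500)) (.node (.leaf 15032388738) (.leaf 30601647117))) (.node (.node (.leaf 4294969608) (.leaf 31138518028)) (.node (.leaf 13958648962) (.leaf 38654714500))))) (.node (.node (.node (.node (.leaf 2147484160) (.leaf 24159196171)) (.node (.leaf 13958646666) (.leaf 23622328196))) (.node (.node (.leaf 8589935500) (.leaf 28454165250)) (.node (.leaf 19327355908) (.leaf 37580972557)))) (.node (.node (.node (.leaf 5368710406) (.leaf 26306678795)) (.node (.leaf 16106131204) (.leaf 35433488648))) (.node (.node (.leaf 10737420804) (.leaf 32212260608)) (.node (.leaf 13958649096) (.leaf 39191585677))))))) (.node (.node (.node (.node (.node (.node (.leaf 140) (.leaf 20401100166)) (.node (.leaf 11811162882) (.leaf 32749133190))) (.node (.node (.leaf 6442452482) (.leaf 18790488584)) (.node (.leaf 17179871624)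 (.leaf 35970359563)))) (.node (.node (.node (.leaf 3758097161) (.leaf 16643004292)) (.node (.leaf 8053067276) (.leaf 31138520206))) (.node (.node (.leaf 9126806532) (.leaf 21474843656)) (.node (.leaf 20937968777) (.leaf 38117843457))))) (.node (.node (.node (.node (.leaf 1610613130) (.leaf 24159196166)) (.node (.leaf 8053067012) (.leaf 33286003592))) (.node (.node (.leaf 6979323786) (.leaf 28991035910)) (.node (.leaf 18790484866) (.leaf 30064780038)))) (.node (.node (.node (.leaf 4831839370) (.leaf 26306679043)) (.node (.leaf 16106129548) (.leaf 34896615691))) (.node (.node (.leaf 5368711690) (.leaf 22548585990)) (.node (.leaf 13958648973) (.leaf 39191585544)))))) (.node (.node (.node (.node (.node (.leaf 1073741956) (.leaf 23622325122)) (.node (.leaf 6979324936) (.leaf 23085457164))) (.node (.node (.leaf 3221227276) (.leaf 28454162950)) (.node (.leaf 18253613580) (.leaf 37044100098)))) (.node (.node (.node (.leaf 4294967810) (.leaf 25769807624)) (.node (.leaf 15032388746) (.leaf 30601650182)))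 (.node (.node (.leaf 5368711426) (.leaf 31675390464)) (.node (.leaf 22011711882) (.leaf 38117843975))))) (.node (.node (.node (.node (.leaf 2684355200) (.leaf 24696067844)) (.node (.leaf 8053067144) (.leaf 33822873225))) (.node (.node (.leaf 8589936387) (.leaf 29527905036)) (.node (.leaf 19864227585) (.leaf 37044101898)))) (.node (.node (.node (.leaf 5905580556) (.leaf 26843549832)) (.node (.leaf 16643000834) (.leaf 26843554188))) (.node (.node (.leaf 11274291840) (.leaf 32212261505)) (.node (.leaf 14495520004) (.leaf 38117844098)))))))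
def dF_4 : BT := .node dF_2 dF_3
def dF_5 : BT := .node (.node (.node (.node (.node (.node (.node (.leaf 2) (.leaf 23085452682)) (.node (.leaf 11274290569) (.leaf 32749131018))) (.node (.node (.leaf 5905580679) (.leaf 27380420748)) (.node (.leaf 9663680524) (.leaf 35970359430)))) (.node (.node (.node (.leaf 1610613504) (.leaf 15569262474)) (.node (.leaf 14495516928) (.leaf 34359744130))) (.node (.node (.leaf 8589936394) (.leaf 29527905163)) (.node (.leaf 20401098624) (.leaf 38117843072))))) (.node (.node (.node (.node (.leaf 1073742090) (.leaf 23622325127)) (.node (.leaf 6979325068) (.leaf 33286002817))) (.node (.node (.leaf 3758098310) (.leaf 27917294218)) (.node (.leaf 18253615368) (.leaf 36507230854)))) (.node (.node (.node (.leaf 1610613900) (.leaf 25769809675)) (.node (.leaf 15569258632) (.leaf 26306683012))) (.node (.node (.leaf 10200548738) (.leaf 31675389197)) (.node (.leaf 18790486670) (.leaf 38654713865)))))) (.node (.node (.node (.node (.node (.leaf 536871042) (.leaf 20401100168))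 (.node (.leaf 11811162890) (.leaf 28991037056))) (.node (.node (.leaf 6442452488) (.leaf 27917292034)) (.node (.leaf 17716742532) (.leaf 36507229060)))) (.node (.node (.node (.leaf 3221226377) (.leaf 15569262604)) (.node (.leaf 15032387969) (.leaf 30601647116))) (.node (.node (.leaf 9126807690) (.leaf 21474843916)) (.node (.leaf 17716745216) (.leaf 38654714496))))) (.node (.node (.node (.node (.leaf 2147484164) (.leaf 24159196167)) (.node (.leaf 13958645888) (.leaf 33286002187))) (.node (.node (.leaf 3758098444) (.leaf 25232939776)) (.node (.leaf 19327356544) (.leaf 37580972682)))) (.node (.node (.node (.leaf 5368709640) (.leaf 26306678794)) (.node (.leaf 16106131210) (.leaf 35433488644))) (.node (.node (.leaf 10737420800) (.leaf 32212261512)) (.node (.leaf 22011711877) (.leaf 39191585802))))))) (.node (.node (.node (.node (.node (.node (.leaf 10) (.leaf 23085454086)) (.node (.leaf 11811162880) (.leaf 32749131140))) (.node (.node (.leaf 6442451588) (.leaf 27380423044)) (.node (.leaf 17179873286)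 (.leaf 35970359562)))) (.node (.node (.node (.leaf 3758097157) (.leaf 25232936836)) (.node (.leaf 12884905350) (.leaf 34359745797))) (.node (.node (.leaf 4294969476) (.leaf 30064776200)) (.node (.leaf 20937968776) (.leaf 38117842827))))) (.node (.node (.node (.node (.leaf 1610613128) (.leaf 24159194628)) (.node (.leaf 13421774599) (.leaf 33286003591))) (.node (.node (.leaf 8053065354) (.leaf 28991034116)) (.node (.leaf 12348035458) (.leaf 37044101638)))) (.node (.node (.node (.leaf 4831839368) (.leaf 26306679042)) (.node (.leaf 9126809356) (.leaf 34896615690))) (.node (.node (.leaf 10200549770) (.leaf 27917294980)) (.node (.leaf 16106132609) (.leaf 39191585540)))))) (.node (.node (.node (.node (.node (.leaf 536871172) (.leaf 23622325121)) (.node (.leaf 9126808448) (.leaf 32749131141))) (.node (.node (.leaf 6979322880) (.leaf 19327359622)) (.node (.leaf 10737422604) (.leaf 30064779906)))) (.node (.node (.node (.leaf 4294967686) (.leaf 25769809799)) (.node (.leaf 15032387591) (.leaf 24159199244)))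 (.node (.node (.leaf 9663677698) (.leaf 31675389064)) (.node (.leaf 22011711878) (.leaf 38654714241))))) (.node (.node (.node (.node (.leaf 2684354828) (.leaf 24696065670)) (.node (.leaf 12348034310) (.leaf 33822873224))) (.node (.node (.leaf 8589936386) (.leaf 20401101708)) (.node (.leaf 19864226700) (.leaf 36507230978)))) (.node (.node (.node (.leaf 2147485068) (.leaf 26843552002)) (.node (.leaf 16643002248) (.leaf 35433488524))) (.node (.node (.leaf 11274290444) (.leaf 32212262283)) (.node (.leaf 22548581764) (.leaf 39191585545)))))))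
def dF_6 : BT := .node (.node (.node (.node (.node (.node (.node (.leaf 6) (.leaf 23085454080)) (.node (.leaf 6442453772) (.leaf 32749131648))) (.node (.node (.leaf 5905581444) (.leaf 27380423046)) (.node (.leaf 17179871874) (.leaf 35970357640)))) (.node (.node (.node (.leaf 3758097153) (.leaf 25232938888)) (.node (.leaf 12884905346) (.leaf 34359745670))) (.node (.node (.leaf 8589936388) (.leaf 30064776068)) (.node (.leaf 20937968652) (.leaf 38117842826))))) (.node (.node (.node (.node (.leaf 1610612994) (.leaf 23622323721)) (.node (.leaf 13421775232) (.leaf 33286003587))) (.node (.node (.leaf 8053065344) (.leaf 28991033866)) (.node (.leaf 18253613707) (.leaf 30064779916)))) (.node (.node (.node (.leaf 4831838850) (.leaf 16643004556)) (.node (.leaf 15569258756) (.leaf 34896617602))) (.node (.node (.leaf 10200548486) (.leaf 25769811328)) (.node (.leaf 18790484876) (.leaf 33822876806)))))) (.node (.node (.node (.node (.node (.leaf 536871048) (.leaf 23622323596)) (.node (.leaf 6979324804) (.leaf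 31675391622))) (.node (.node (.leaf 3221227142) (.leaf 27917292044)) (.node (.leaf 17716744326) (.leaf 36507229195)))) (.node (.node (.node (.leaf 3221226371) (.leaf 25769809922)) (.node (.leaf 15032388739) (.leaf 27380424705))) (.node (.node (.leaf 9663677448) (.leaf 31138519425)) (.node (.leaf 22011710722) (.leaf 38654713864))))) (.node (.node (.node (.node (.leaf 2147484170) (.leaf 24159196161)) (.node (.leaf 12348034314) (.leaf 33822873092))) (.node (.node (.leaf 8589935744) (.leaf 27917294342)) (.node (.leaf 12884906500) (.leaf 37580972556)))) (.node (.node (.node (.leaf 5368710400) (.leaf 17179875588)) (.node (.leaf 9663680394) (.leaf 35433488642))) (.node (.node (.leaf 10737420806) (.leaf 32212261513)) (.node (.leaf 22548581640) (.leaf 39191585676))))))) (.node (.node (.node (.node (.node (.node (.leaf 536870924) (.leaf 16643003776)) (.node (.leaf 11811162886) (.leaf 32749133325))) (.node (.node (.leaf 6442452486) (.leaf 27917291912)) (.node (.leaf 17179871625) (.leaf 35970359684))))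 (.node (.node (.node (.leaf 3758097163) (.leaf 25232938765)) (.node (.leaf 15032387468) (.leaf 30601648513))) (.node (.node (.leaf 9126807682) (.leaf 21474843778)) (.node (.leaf 13421777924) (.leaf 33822876674))))) (.node (.node (.node (.node (.leaf 1073742342) (.leaf 24159195264)) (.node (.leaf 13958645636) (.leaf 33286003593))) (.node (.node (.leaf 4294969216) (.leaf 28991036045)) (.node (.leaf 12348035592) (.leaf 37580971014)))) (.node (.node (.node (.leaf 4831839364) (.leaf 26306680966)) (.node (.leaf 16106131202) (.leaf 26843554054))) (.node (.node (.leaf 10737419530) (.leaf 32212260102)) (.node (.leaf 13958648972) (.leaf 39191585024)))))) (.node (.node (.node (.node (.node (.leaf 1073742080) (.leaf 23622325123)) (.node (.leaf 12884903560) (.leaf 33286002060))) (.node (.node (.leaf 7516193548) (.leaf 24696068736)) (.node (.leaf 18253615360) (.leaf 37044100232)))) (.node (.node (.node (.leaf 4294968330) (.leaf 25769807625)) (.node (.leaf 15032388747) (.leaf 30601650186))) (.node (.node (.leaf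 4294969740) (.leaf 31675389186)) (.node (.leaf 18790487178) (.leaf 33822876685))))) (.node (.node (.node (.node (.leaf 2684355208) (.leaf 24696067848)) (.node (.leaf 14495516552) (.leaf 33822873857))) (.node (.node (.leaf 8589936392) (.leaf 29527906432)) (.node (.leaf 12884906762) (.leaf 33286005636)))) (.node (.node (.node (.leaf 5905581440) (.leaf 26843549833)) (.node (.leaf 16643002246) (.leaf 35970357516))) (.node (.node (.leaf 11274291846) (.leaf 32212261509)) (.node (.leaf 15569261824) (.leaf 38654715018)))))))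
def dF_7 : BT := .node dF_5 dF_6
def dF_8 : BT := .node dF_4 dF_7
def dF : BT := dF_8
def dP_0 : BT := .node (.node (.node (.node (.node (.node (.node (.leaf 0) (.leaf 5762)) (.leaf 2316)) (.node (.leaf 908) (.leaf 3724))) (.node (.node (.node (.leaf 390) (.leaf 8066)) (.leaf 3204)) (.node (.leaf 1672) (.leaf 4996)))) (.node (.node (.node (.node (.leaf 262) (.leaf 7044)) (.leaf 2952)) (.node (.leaf 1290) (.leaf 4488))) (.node (.node (.leaf 644) (.leaf 3468)) (.node (.leaf 1932) (.leaf 5382))))) (.node (.node (.node (.node (.node (.leaf 132) (.leaf 6406)) (.leaf 2572)) (.node (.leaf 1032) (.leaf 4100))) (.node (.node (.leaf 520) (.leaf 3336)) (.node (.leaf 1924) (.leaf 5132)))) (.node (.node (.node (.node (.leaf 384) (.leaf 7174)) (.leaf 3082)) (.node (.leaf 1548) (.leaf 4618))) (.node (.node (.leaf 780) (.leaf 3718)) (.node (.leaf 2188) (.leaf 5516)))))) (.node (.node (.node (.node (.node (.node (.leaf 12) (.leaf 6276)) (.leaf 2436)) (.node (.leaf 1028) (.leaf 3980))) (.node (.node (.node (.leaf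 396) (.leaf 8070)) (.leaf 3330)) (.node (.leaf 1676) (.leaf 5122)))) (.node (.node (.node (.node (.leaf 268) (.leaf 7170)) (.leaf 2956)) (.node (.leaf 1292) (.leaf 4614))) (.node (.node (.leaf 774) (.leaf 3588)) (.node (.leaf 2184) (.leaf 5386))))) (.node (.node (.node (.node (.node (.leaf 258) (.leaf 6412)) (.leaf 2946)) (.node (.leaf 1036) (.leaf 4236))) (.node (.node (.leaf 524) (.leaf 3466)) (.node (.leaf 1928) (.leaf 5256)))) (.node (.node (.node (.node (.leaf 385) (.leaf 7940)) (.leaf 3084)) (.node (.leaf 1668) (.leaf 4876))) (.node (.node (.leaf 902) (.leaf 3722)) (.node (.leaf 2314) (.leaf 5636))))))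
def dP : BT := dP_0
def dRels : List (List ℕ) := [[], [0, 1], [1, 0], [2, 3], [3, 2], [4, 5], [5, 4], [6, 7], [7, 6], [8, 9], [9, 8], [10, 11], [11, 10], [12, 13], [13, 12], [0, 0, 0], [1, 1, 1], [2, 2], [3, 3], [4, 4], [5, 5], [6, 6], [7, 7], [8, 8], [9, 9], [10, 10], [11, 11], [0, 2, 0, 2, 0, 2], [3, 1, 3, 1, 3, 1], [2, 4, 2, 4, 2, 4], [5, 3, 5, 3, 5, 3], [4, 6, 4, 6, 4, 6], [7, 5, 7, 5, 7, 5], [6, 8, 6, 8, 6, 8], [9, 7, 9, 7, 9, 7], [8, 10, 8, 10, 8, 10], [11, 9, 11, 9, 11, 9], [0, 4, 0, 4], [5, 1, 5, 1], [0, 6, 0, 6], [7, 1, 7, 1], [0, 8, 0, 8], [9, 1, 9, 1], [0, 10, 0, 10], [11, 1, 11, 1], [2, 6, 2, 6], [7, 3, 7, 3], [2, 8, 2, 8], [9, 3, 9, 3], [2, 10, 2, 10], [11, 3, 11, 3], [4, 8, 4, 8], [9, 5, 9, 5], [4, 10, 4, 10], [11, 5, 11, 5], [6, 10, 6, 10], [11, 7, 11, 7], [12, 12], [13, 13], [12, 0, 13, 1], [0, 12, 1, 13], [12, 2, 13, 3], [2, 12, 3, 13], [12, 6, 13, 7], [6, 12, 7, 13], [12, 8, 13, 9], [8, 12, 9, 13], [12, 10, 13, 11], [10, 12, 11, 13], [12, 4, 12, 4, 12, 4, 12, 4, 12, 4, 12,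 4], [5, 13, 5, 13, 5, 13, 5, 13, 5, 13, 5, 13], [12, 4, 12, 4, 12, 4, 2, 5, 13, 5, 13, 5, 13, 3], [2, 12, 4, 12, 4, 12, 4, 3, 5, 13, 5, 13, 5, 13], [12, 4, 12, 4, 12, 4, 4, 5, 13, 5, 13, 5, 13, 5], [4, 12, 4, 12, 4, 12, 4, 5, 5, 13, 5, 13, 5, 13], [12, 4, 12, 4, 12, 4, 6, 5, 13, 5, 13, 5, 13, 7], [6, 12, 4, 12, 4, 12, 4, 7, 5, 13, 5, 13, 5, 13], [12, 4, 12, 4, 12, 4, 8, 5, 13, 5, 13, 5, 13, 9], [8, 12, 4, 12, 4, 12, 4, 9, 5, 13, 5, 13, 5, 13], [12, 4, 12, 4, 12, 4, 10, 5, 13, 5, 13, 5, 13, 11], [10, 12, 4, 12, 4, 12, 4, 11, 5, 13, 5, 13, 5, 13], [12, 4, 12, 4, 12, 4, 12, 5, 13, 5, 13, 5, 13, 13], [12, 12, 4, 12, 4, 12, 4, 13, 5, 13, 5, 13, 5, 13], [12, 4, 12, 4, 12, 4, 0, 5, 13, 5, 13, 5, 13, 0], [1, 12, 4, 12, 4, 12, 4, 1, 5, 13, 5, 13, 5, 13], [12, 4, 2, 1, 6, 4, 2, 0, 8, 6, 4, 2, 10, 8, 6, 4, 13, 5, 7, 9, 11, 3, 5, 7, 9, 1, 3, 5, 7, 0, 3, 5], [4, 2, 1, 6, 4, 2, 0, 8, 6, 4, 2, 10, 8, 6, 4, 12, 5, 7, 9, 11, 3, 5, 7, 9, 1, 3, 5, 7, 0, 3, 5, 13], [12, 1, 2, 4, 6, 10, 12, 1, 2, 4, 6, 10, 12, 1,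 2, 4, 6, 10, 12, 1, 2, 4, 6, 10, 12, 1, 2, 4, 6, 10], [11, 7, 5, 3, 0, 13, 11, 7, 5, 3, 0, 13, 11, 7, 5, 3, 0, 13, 11, 7, 5, 3, 0, 13, 11, 7, 5, 3, 0, 13]]
def dD : Data := ⟨7, dF, dP, dRels, [0, 2, 4, 6, 8, 10]⟩
def dJ0 : List (List ℕ) := [[1, 0], [1, 0], [1, 0], [1, 0], [1, 0], [1, 0], [0, 0], [59, 1, 12], [61, 1, 13, 1, 12], [63, 1, 13, 3, 12], [65, 1, 13, 7, 12], [67, 1, 13, 9, 12], [69, 1, 13, 11, 12], [0, 0], [21, 1, 26], [39, 2, 28, 16, 26], [53, 1, 28, 22, 26], [55, 1, 28, 24, 26], [0, 0], [19, 1, 36], [31, 1, 38, 28, 18, 26, 36], [49, 1, 38, 32, 36], [51, 1, 38, 34, 36], [0, 0], [23, 1, 46], [33, 2, 48, 28, 20, 26, 46], [41, 2, 48, 30, 46], [57, 1, 48, 34, 46], [0, 0], [59, 1, 56], [61, 1, 57, 31, 56], [67, 1, 57, 33, 56], [69, 1, 57, 35, 56], [0, 0], [0, 0], [18, 1, 67, 68], [30, 2, 67, 37, 31, 39, 68], [40, 2, 67, 41, 68], [44, 2, 67, 43, 68], [46, 2, 67, 45, 68], [28, 1, 78], [26, 1, 76], [22, 1, 74], [20, 1, 72], [0, 0], [23, 1, 88], [47, 2, 48, 36, 88], [57, 1, 90, 44, 88], [51,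 0, 94, 92, 54], [0, 0], [59, 1, 98], [63, 1, 57, 39, 98], [64, 2, 57, 36, 98], [67, 1, 99, 43, 98], [69, 1, 99, 45, 98], [73, 3, 100, 40, 38, 27, 13, 5, 15, 29, 59, 103, 100, 40, 98], [0, 0], [25, 1, 112], [35, 2, 114, 48, 32, 46, 112], [43, 2, 114, 52, 112], [53, 2, 114, 50, 112], [0, 0], [59, 1, 122], [61, 1, 123, 53, 122], [65, 1, 57, 49, 122], [66, 2, 57, 46, 122], [69, 1, 123, 55, 122], [77, 3, 124, 50, 48, 27, 13, 5, 15, 29, 59, 129, 124, 50, 122], [0, 0], [21, 1, 136], [31, 2, 138, 105, 110, 102, 136], [33, 1, 138, 131, 134, 128, 136], [39, 2, 138, 60, 136], [53, 1, 138, 62, 136], [55, 1, 138, 64, 136], [0, 0], [23, 1, 150], [41, 2, 90, 66, 150], [0, 0], [59, 1, 156], [62, 2, 99, 66, 156], [0, 0], [23, 1, 162], [41, 2, 152, 71, 162], [47, 2, 152, 73, 162], [57, 1, 152, 79, 162], [27, 1, 170], [45, 0, 170, 154, 94], [19, 1, 168], [0, 0], [59, 1, 178], [61, 1, 99, 68, 178], [62, 2, 157, 71, 178], [63, 1, 157, 86, 178], [64, 2, 157, 73, 178], [67, 1, 157, 82, 178], [68, 2, 157, 77, 178],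 [69, 1, 157, 80, 178], [70, 2, 157, 79, 178], [85, 3, 158, 75, 69, 41, 101, 111, 99, 41, 101, 161, 158, 75, 178], [86, 10, 157, 84, 181, 184, 158, 75, 178, 198, 158, 75, 70, 84, 181], [0, 0], [21, 1, 202], [31, 2, 204, 92, 50, 96, 202], [33, 1, 204, 90, 40, 88, 202], [55, 1, 204, 94, 202], [0, 0], [25, 1, 212], [35, 2, 214, 90, 42, 88, 212], [49, 2, 114, 96, 212], [19, 1, 218], [0, 0], [59, 1, 222], [63, 1, 123, 93, 222], [64, 2, 123, 96, 222], [65, 1, 99, 91, 222], [66, 2, 99, 88, 222], [69, 1, 223, 95, 222], [0, 0], [27, 1, 236], [37, 2, 238, 114, 54, 112, 236], [45, 2, 238, 118, 236], [55, 2, 238, 120, 236], [57, 2, 238, 116, 236], [0, 0], [59, 1, 248], [61, 1, 249, 119, 248], [65, 1, 249, 117, 248], [67, 1, 123, 115, 248], [68, 2, 123, 112, 248], [79, 3, 250, 120, 114, 51, 125, 135, 123, 51, 125, 257, 250, 120, 248], [0, 0], [59, 1, 262], [61, 1, 263, 145, 262], [63, 1, 263, 141, 262], [65, 1, 263, 143, 262], [67, 1, 263, 147, 262], [69, 1, 263, 149, 262], [71, 1, 264, 138, 58, 28, 14, 4,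 12, 26, 56, 136, 262], [0, 0], [21, 1, 278], [39, 0, 280, 154, 202], [0, 0], [25, 1, 284], [43, 0, 286, 154, 212], [0, 0], [59, 1, 290], [61, 1, 223, 155, 290], [65, 1, 157, 153, 290], [66, 2, 157, 150, 290], [0, 0], [21, 1, 300], [33, 1, 280, 152, 75, 162, 300], [39, 2, 204, 174, 300], [55, 1, 280, 172, 300], [27, 1, 308], [17, 2, 306, 282], [41, 3, 306, 208, 282], [0, 0], [25, 1, 316], [35, 2, 286, 152, 77, 162, 316], [43, 2, 214, 174, 316], [49, 2, 286, 176, 316], [19, 1, 324], [17, 2, 322, 288], [41, 3, 322, 216, 288], [0, 0], [59, 1, 332], [61, 1, 291, 167, 332], [62, 2, 223, 174, 332], [63, 1, 291, 169, 332], [64, 2, 291, 176, 332], [65, 1, 179, 165, 332], [66, 2, 179, 162, 332], [69, 1, 291, 171, 332], [70, 2, 291, 172, 332], [0, 0], [25, 1, 352], [49, 2, 354, 206, 352], [53, 2, 214, 202, 352], [21, 1, 358], [0, 0], [59, 1, 362], [63, 1, 363, 207, 362], [65, 1, 363, 209, 362], [69, 1, 363, 211, 362], [73, 3, 364, 204, 92, 51, 125, 135, 123, 51, 125, 227, 224, 202, 362], [0, 0], [27, 1,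 374], [37, 2, 376, 214, 94, 212, 374], [51, 2, 238, 220, 374], [57, 2, 376, 216, 374], [47, 0, 382, 380, 246], [0, 0], [59, 1, 386], [63, 1, 249, 219, 386], [64, 2, 249, 220, 386], [65, 1, 387, 217, 386], [67, 1, 223, 215, 386], [68, 2, 223, 212, 386]]
def dJ1 : List (List ℕ) := [[0, 0], [21, 1, 400], [31, 2, 402, 226, 134, 229, 400], [33, 1, 402, 230, 110, 233, 400], [55, 1, 402, 234, 400], [0, 0], [59, 1, 410], [61, 1, 411, 243, 410], [65, 1, 411, 247, 410], [67, 1, 411, 241, 410], [69, 1, 249, 239, 410], [70, 2, 249, 236, 410], [81, 3, 412, 244, 238, 121, 251, 261, 249, 121, 251, 421, 412, 244, 410], [0, 0], [19, 1, 426], [0, 0], [25, 1, 430], [43, 2, 354, 282, 430], [53, 2, 286, 278, 430], [21, 1, 436], [0, 0], [59, 1, 440], [62, 2, 363, 282, 440], [0, 0], [27, 1, 446], [45, 2, 376, 288, 446], [0, 0], [59, 1, 452], [62, 2, 387, 288, 452], [67, 1, 291, 287, 452], [68, 2, 291, 284, 452], [0, 0], [21, 1, 462], [39, 0, 464, 294, 400], [0, 0], [19, 1, 468], [31, 1, 428, 280, 176, 300, 468], [47,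 1, 428, 314, 468], [51, 1, 428, 310, 468], [27, 1, 476], [23, 1, 474], [89, 6, 442, 283, 206, 204, 90, 44, 98, 183, 186, 201, 347, 348, 292, 167, 168, 278, 314, 308, 440, 444, 366, 372, 368, 370, 364, 307, 468, 472, 480, 476], [4, 0, 445, 483], [15, 0, 443, 483], [16, 0, 440, 483], [42, 3, 481, 484, 369], [65, 2, 481, 486, 314], [66, 1, 481, 488, 314], [62, 2, 488, 312, 494], [73, 9, 488, 279, 293, 341, 334, 300, 494, 472, 486, 280, 176, 303, 492], [0, 0], [25, 1, 500], [43, 2, 432, 312, 500], [53, 2, 318, 300, 500], [21, 1, 506], [39, 0, 506, 322, 360], [0, 0], [27, 1, 512], [37, 2, 448, 286, 172, 316, 512], [45, 2, 448, 328, 512], [51, 2, 448, 326, 512], [57, 2, 448, 330, 512], [23, 1, 522], [41, 0, 522, 450, 382], [19, 1, 520], [25, 1, 516], [0, 0], [59, 1, 532], [61, 1, 387, 323, 532], [62, 2, 453, 328, 532], [63, 1, 453, 325, 532], [64, 2, 453, 326, 532], [65, 1, 453, 321, 532], [66, 2, 453, 330, 532], [67, 1, 333, 319, 532], [68, 2, 333, 316, 532], [0, 0], [21, 1, 552], [33, 1, 464, 296,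 201, 347, 552], [39, 2, 402, 339, 552], [55, 1, 464, 351, 552], [78, 7, 463, 291, 281, 487, 473, 495, 304, 489, 499, 493, 302, 332, 552], [82, 7, 463, 291, 281, 487, 473, 495, 308, 489, 499, 493, 302, 332, 552], [86, 7, 463, 291, 281, 487, 473, 495, 313, 489, 499, 493, 302, 332, 552], [0, 0], [23, 1, 568], [33, 2, 570, 358, 216, 360, 568], [35, 1, 570, 354, 208, 352, 568], [47, 2, 570, 356, 568], [0, 0], [27, 1, 578], [37, 2, 580, 354, 210, 352, 578], [51, 2, 580, 356, 578], [55, 2, 376, 360, 578], [21, 1, 586], [87, 16, 573, 569, 353, 211, 207, 203, 89, 43, 68, 72, 84, 165, 166, 169, 303, 494, 472, 428, 283, 208, 204, 92, 52, 112, 116, 120, 220, 374, 378, 382, 588], [88, 15, 573, 569, 353, 211, 207, 203, 89, 43, 68, 72, 84, 165, 166, 169, 303, 492, 472, 428, 283, 208, 204, 92, 52, 112, 116, 120, 220, 374, 378, 382, 588], [0, 0], [59, 1, 594], [63, 1, 595, 357, 594], [65, 1, 590, 569, 594], [66, 2, 590, 570, 594], [67, 1, 363, 355, 594], [68, 2, 363, 352, 594], [69, 1, 593, 579, 594], [70, 2,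 593, 580, 594], [73, 3, 596, 358, 218, 121, 251, 261, 249, 121, 251, 391, 388, 360, 594], [0, 0], [59, 1, 614], [63, 1, 411, 381, 614], [64, 2, 411, 384, 614], [65, 1, 615, 383, 614], [67, 1, 615, 379, 614], [69, 1, 387, 377, 614], [70, 2, 387, 374, 614], [0, 0], [21, 1, 630], [31, 2, 632, 390, 260, 393, 630], [53, 1, 402, 399, 630], [80, 7, 401, 223, 205, 365, 373, 363, 352, 594, 612, 596, 358, 386, 630], [0, 0], [59, 1, 640], [63, 1, 641, 405, 640], [65, 1, 641, 407, 640], [69, 1, 641, 409, 640], [71, 1, 642, 402, 224, 202, 362, 372, 364, 204, 222, 400, 640], [0, 0], [25, 1, 652], [43, 2, 604, 485, 652], [49, 2, 432, 426, 652], [67, 2, 431, 489, 652], [68, 1, 431, 487, 652], [63, 1, 660, 659, 662], [0, 0], [23, 1, 666], [41, 0, 668, 434, 568], [45, 1, 656, 608, 670], [27, 1, 672], [0, 0], [27, 1, 676], [51, 2, 672, 658, 676], [55, 2, 448, 438, 676], [57, 2, 674, 668, 676], [69, 2, 675, 662, 676], [70, 1, 675, 660, 676], [62, 0, 688, 671, 593], [63, 1, 686, 681, 688], [66, 0, 688, 667, 663],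 [87, 10, 680, 672, 654, 480, 472, 488, 279, 151, 82, 78, 86, 74, 153, 287, 289, 221, 121, 117, 118, 219, 359, 594, 612, 598, 657, 694, 682, 528, 518, 530, 522], [0, 0], [59, 1, 698], [61, 1, 615, 451, 698], [69, 1, 453, 449, 698], [70, 2, 453, 446, 698], [0, 0], [21, 1, 708], [39, 2, 632, 457, 708], [53, 1, 464, 461, 708], [25, 1, 714], [0, 0], [19, 1, 718], [0, 0], [59, 1, 722], [62, 2, 641, 466, 722], [0, 0], [25, 1, 728], [43, 2, 654, 497, 728], [49, 2, 502, 468, 728], [53, 2, 654, 499, 728], [67, 2, 501, 494, 728], [68, 1, 501, 492, 728], [62, 0, 740, 511, 597], [63, 1, 738, 735, 740], [73, 3, 740, 506, 324, 437, 663, 737, 738, 509, 535, 542, 454, 438, 661], [0, 0], [23, 1, 748], [33, 2, 668, 436, 330, 508, 748], [35, 1, 668, 432, 314, 500, 748], [41, 2, 570, 510, 748], [87, 24, 671, 577, 573, 569, 510, 735, 747, 662, 436, 326, 329, 330, 508, 744, 732, 654, 480, 472, 428, 310, 500, 748, 752, 689, 697, 523, 531, 447, 325, 507, 751], [38, 0, 758, 675, 653, 477, 731], [28, 1, 760], [46, 1,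 675, 733, 760], [56, 1, 675, 737, 760], [0, 0], [27, 1, 768], [37, 2, 678, 432, 310, 500, 768], [45, 2, 580, 510, 768], [51, 2, 761, 734, 768], [55, 2, 514, 508, 768], [57, 2, 763, 750, 768], [69, 2, 762, 740, 768], [70, 1, 762, 738, 768], [87, 7, 772, 684, 746, 734, 768, 772, 684, 746, 738, 509, 331, 285, 171, 177, 281, 305, 503, 511, 357, 361, 217, 288, 325, 507, 739, 736, 658, 505, 748, 752, 692], [63, 1, 782, 777, 784], [66, 0, 784, 749, 741], [68, 0, 784, 758, 689], [87, 17, 525, 517, 513, 327, 437, 669, 755, 764, 681, 697, 523, 518, 521, 779, 784, 752, 692, 691, 603, 612, 598, 742, 730, 474, 499, 470, 308, 430, 666, 767, 785], [0, 0], [59, 1, 796]]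
def dJ2 : List (List ℕ) := [[61, 1, 699, 519, 796], [62, 2, 615, 526, 796], [63, 1, 699, 521, 796], [64, 2, 699, 528, 796], [65, 1, 699, 523, 796], [66, 2, 699, 524, 796], [67, 1, 699, 517, 796], [68, 2, 699, 530, 796], [69, 1, 533, 515, 796], [70, 2, 533, 512, 796], [0, 0], [21, 1, 820], [39, 2, 710, 539, 820], [53, 1, 554, 551, 820], [80, 7, 553, 333, 303, 492, 498, 488, 430, 661, 746, 740, 506, 532, 820], [86, 7, 631, 387, 359, 597, 613, 595, 435, 661, 746, 740, 506, 532, 820], [0, 0], [19, 1, 832], [31, 1, 720, 464, 343, 552, 832], [47, 1, 720, 563, 832], [51, 1, 720, 565, 832], [73, 7, 723, 463, 291, 281, 487, 427, 489, 499, 493, 302, 332, 552, 832], [22, 1, 837, 842], [4, 0, 727, 844], [7, 0, 842, 844], [15, 0, 725, 844], [16, 0, 722, 844], [40, 3, 849, 846, 651], [72, 11, 849, 852, 463, 291, 281, 487, 473, 495, 301, 335, 555], [73, 2, 836, 850, 464, 343, 555, 856, 849, 852, 463, 291, 169, 332, 552], [77, 6, 849, 852, 463, 291, 281, 487, 475, 493, 302, 332, 552, 858, 836], [81, 6, 849,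 852, 463, 291, 281, 487, 477, 493, 302, 332, 552, 858, 836], [85, 6, 849, 852, 463, 291, 281, 487, 497, 493, 302, 332, 552, 858, 836], [0, 0], [21, 1, 866], [31, 2, 868, 618, 424, 621, 866], [53, 1, 868, 624, 866], [55, 1, 632, 629, 866], [82, 7, 631, 387, 359, 597, 613, 595, 578, 592, 572, 591, 586, 614, 866], [0, 0], [23, 1, 878], [33, 2, 880, 632, 394, 630, 878], [35, 1, 880, 636, 406, 639, 878], [47, 2, 880, 634, 878], [77, 8, 867, 615, 587, 590, 569, 594, 612, 596, 358, 386, 630, 878, 883], [88, 15, 867, 623, 625, 628, 392, 261, 255, 258, 127, 227, 403, 407, 466, 721, 837, 859, 554, 340, 337, 344, 198, 189, 182, 106, 233, 400, 404, 408, 639, 878, 882], [0, 0], [59, 1, 892], [63, 1, 893, 635, 892], [65, 1, 891, 879, 892], [66, 2, 891, 880, 892], [67, 1, 641, 637, 892], [68, 2, 641, 639, 892], [69, 1, 888, 876, 892], [70, 2, 888, 874, 892], [71, 1, 894, 632, 388, 360, 594, 612, 596, 358, 386, 630, 892], [0, 0], [21, 1, 912], [55, 1, 710, 707, 912], [82, 7, 709, 453, 437, 663, 737, 738, 768,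 784, 752, 687, 682, 698, 912], [86, 7, 867, 615, 587, 590, 573, 593, 775, 784, 752, 687, 682, 698, 912], [0, 0], [19, 1, 922], [49, 1, 720, 716, 922], [87, 7, 902, 646, 650, 644, 648, 905, 898, 868, 615, 587, 601, 606, 371, 367, 373, 369, 605, 657, 665, 439, 321, 322, 221, 121, 248, 260, 393, 537, 544, 708, 922], [41, 3, 928, 898, 921], [43, 3, 928, 902, 847], [61, 0, 928, 893, 713], [62, 3, 928, 894, 713], [87, 9, 914, 807, 816, 548, 344, 198, 157, 84, 165, 319, 515, 529, 683, 695, 653, 484, 367, 373, 369, 485, 427, 279, 290, 462, 718, 846, 646, 650, 644, 847, 932], [0, 0], [23, 1, 940], [47, 2, 930, 924, 940], [57, 1, 938, 916, 940], [65, 2, 939, 937, 940], [66, 1, 939, 935, 940], [62, 0, 950, 920, 891], [63, 1, 948, 945, 950], [70, 0, 950, 918, 936], [0, 0], [21, 1, 958], [39, 2, 868, 803, 958], [53, 1, 914, 815, 958], [55, 1, 822, 819, 958], [80, 7, 913, 699, 683, 686, 753, 785, 772, 688, 767, 783, 778, 796, 958], [82, 7, 821, 533, 507, 741, 747, 660, 676, 688, 767, 783, 778, 796, 958],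 [86, 7, 913, 699, 683, 686, 753, 785, 787, 688, 767, 783, 778, 796, 958], [0, 0], [19, 1, 974], [29, 2, 924, 712, 634, 831, 974], [31, 1, 924, 710, 543, 820, 974], [49, 1, 834, 829, 974], [73, 7, 935, 709, 453, 437, 663, 665, 661, 746, 740, 506, 532, 820, 974], [87, 3, 898, 868, 618, 414, 418, 416, 424, 621, 626, 396, 230, 110, 99, 41, 91, 215, 377, 385, 245, 247, 241, 243, 381, 587, 601, 742, 745, 509, 532, 820, 974], [42, 0, 986, 900, 963], [61, 2, 986, 894, 831], [62, 1, 986, 893, 831], [68, 2, 859, 829, 992], [24, 1, 988], [0, 0], [23, 1, 998], [33, 2, 942, 710, 547, 820, 998], [35, 1, 942, 714, 563, 829, 998], [41, 2, 880, 831, 998], [47, 2, 997, 976, 998], [57, 1, 989, 966, 998], [65, 2, 988, 991, 998], [66, 1, 988, 993, 998], [77, 7, 948, 913, 699, 683, 686, 667, 661, 746, 740, 506, 532, 820, 998], [87, 24, 953, 887, 883, 879, 831, 977, 984, 937, 710, 543, 538, 547, 820, 974, 978, 926, 860, 836, 720, 565, 829, 998, 1002, 948, 913, 809, 814, 706, 541, 823, 1001], [73, 6, 1016, 948, 913,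 699, 683, 686, 681, 688, 767, 783, 778, 796, 958], [81, 6, 1016, 948, 913, 699, 683, 686, 675, 662, 436, 452, 708, 934, 985], [85, 6, 1016, 948, 913, 699, 683, 686, 765, 783, 778, 796, 958, 1013, 1002]]
def dJS : List (List ℕ) := List.flatten [dJ0, dJ1, dJ2]
def dLive_0 : BT := .node (.node (.node (.node (.node (.node (.node (.leaf 0) (.leaf 66)) (.leaf 32)) (.node (.leaf 16) (.leaf 49))) (.node (.node (.leaf 8) (.leaf 41)) (.node (.leaf 24) (.leaf 57)))) (.node (.node (.node (.node (.leaf 4) (.leaf 70)) (.leaf 36)) (.node (.leaf 20) (.leaf 53))) (.node (.node (.leaf 12) (.leaf 45)) (.node (.leaf 28) (.leaf 62))))) (.node (.node (.node (.node (.node (.leaf 2) (.leaf 68)) (.leaf 34)) (.node (.leaf 18) (.leaf 51))) (.node (.node (.leaf 10) (.leaf 43)) (.node (.leaf 26) (.leaf 60)))) (.node (.node (.node (.node (.leaf 6) (.leaf 72)) (.leaf 39)) (.node (.leaf 22) (.leaf 55))) (.node (.node (.leaf 14) (.leaf 47)) (.node (.leaf 30) (.leaf 64)))))) (.node (.node (.node (.node (.node (.node (.leaf 1)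 (.leaf 67)) (.leaf 33)) (.node (.leaf 17) (.leaf 50))) (.node (.node (.leaf 9) (.leaf 42)) (.node (.leaf 25) (.leaf 59)))) (.node (.node (.node (.node (.leaf 5) (.leaf 71)) (.leaf 38)) (.node (.leaf 21) (.leaf 54))) (.node (.node (.leaf 13) (.leaf 46)) (.node (.leaf 29) (.leaf 63))))) (.node (.node (.node (.node (.node (.leaf 3) (.leaf 69)) (.leaf 35)) (.node (.leaf 19) (.leaf 52))) (.node (.node (.leaf 11) (.leaf 44)) (.node (.leaf 27) (.leaf 61)))) (.node (.node (.node (.node (.leaf 7) (.leaf 73)) (.leaf 40)) (.node (.leaf 23) (.leaf 56))) (.node (.node (.leaf 15) (.leaf 48)) (.node (.leaf 31) (.leaf 65))))))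
def dLive : BT := dLive_0
def dPos_0 : BT := .node (.node (.node (.node (.node (.node (.node (.leaf 0) (.leaf 62)) (.leaf 32)) (.node (.leaf 16) (.leaf 47))) (.node (.node (.node (.leaf 8) (.leaf 70)) (.leaf 39)) (.node (.leaf 24) (.leaf 55)))) (.node (.node (.node (.node (.leaf 4) (.leaf 66)) (.leaf 36)) (.node (.leaf 20) (.leaf 51))) (.node (.node (.leaf 12) (.leaf 43)) (.node (.leaf 28) (.leaf 58))))) (.node (.node (.node (.node (.node (.leaf 2) (.leaf 64)) (.leaf 34)) (.node (.leaf 18) (.leaf 49))) (.node (.node (.leaf 10) (.leaf 41)) (.node (.leaf 26) (.leaf 0)))) (.node (.node (.node (.node (.leaf 6) (.leaf 68)) (.leaf 37)) (.node (.leaf 22) (.leaf 53))) (.node (.node (.leaf 14) (.leaf 45)) (.node (.leaf 30) (.leaf 60)))))) (.node (.node (.node (.node (.node (.node (.leaf 1) (.leaf 63)) (.leaf 33)) (.node (.leaf 17) (.leaf 48))) (.node (.node (.node (.leaf 9) (.leaf 71)) (.leaf 40)) (.node (.leaf 25) (.leaf 56)))) (.node (.node (.node (.node (.leaf 5) (.leaf 67)) (.leaf 0)) (.node (.leaf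 21) (.leaf 52))) (.node (.node (.leaf 13) (.leaf 44)) (.node (.leaf 29) (.leaf 59))))) (.node (.node (.node (.node (.node (.leaf 3) (.leaf 65)) (.leaf 35)) (.node (.leaf 19) (.leaf 50))) (.node (.node (.leaf 11) (.leaf 42)) (.node (.leaf 27) (.leaf 57)))) (.node (.node (.node (.node (.leaf 7) (.leaf 69)) (.leaf 38)) (.node (.leaf 23) (.leaf 54))) (.node (.node (.leaf 15) (.leaf 46)) (.node (.leaf 31) (.leaf 61))))))
def dPos : BT := dPos_0
def dFin_0 : BT := .node (.node (.node (.node (.node (.node (.node (.leaf 0) (.leaf 432)) (.node (.leaf 360) (.leaf 700))) (.node (.node (.leaf 102) (.leaf 611)) (.node (.leaf 320) (.leaf 952)))) (.node (.node (.node (.leaf 112) (.leaf 744)) (.node (.leaf 264) (.leaf 780))) (.node (.node (.leaf 172) (.leaf 650)) (.node (.leaf 457) (.leaf 1019))))) (.node (.node (.node (.node (.leaf 28) (.leaf 454)) (.node (.leaf 240) (.leaf 734))) (.node (.node (.leaf 128) (.leaf 803)) (.node (.leaf 578) (.leaf 914)))) (.node (.node (.node (.leaf 156) (.leaf 544)) (.node (.leaf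 343) (.leaf 971))) (.node (.node (.leaf 182) (.leaf 759)) (.node (.leaf 424) (.leaf 991)))))) (.node (.node (.node (.node (.node (.leaf 18) (.leaf 448)) (.node (.leaf 230) (.leaf 864))) (.node (.node (.leaf 120) (.leaf 592)) (.node (.leaf 551) (.leaf 896)))) (.node (.node (.node (.leaf 64) (.leaf 795)) (.node (.leaf 328) (.leaf 812))) (.node (.node (.leaf 158) (.leaf 694)) (.node (.leaf 404) (.leaf 966))))) (.node (.node (.node (.node (.leaf 88) (.leaf 491)) (.node (.leaf 423) (.leaf 752))) (.node (.node (.leaf 146) (.leaf 634)) (.node (.leaf 364) (.leaf 938)))) (.node (.node (.node (.leaf 174) (.leaf 829)) (.node (.leaf 302) (.leaf 857))) (.node (.node (.leaf 206) (.leaf 678)) (.leaf 480)))))) (.node (.node (.node (.node (.node (.node (.leaf 8) (.leaf 528)) (.node (.leaf 386) (.leaf 940))) (.node (.node (.leaf 108) (.leaf 586)) (.node (.leaf 336) (.leaf 884)))) (.node (.node (.node (.leaf 105) (.leaf 768)) (.node (.leaf 314) (.leaf 800))) (.node (.node (.leaf 201) (.leaf 642)) (.node (.leaf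 396) (.leaf 1020))))) (.node (.node (.node (.node (.leaf 56) (.leaf 563)) (.node (.leaf 393) (.leaf 763))) (.node (.node (.leaf 144) (.leaf 624)) (.node (.leaf 372) (.leaf 949)))) (.node (.node (.node (.leaf 162) (.leaf 558)) (.node (.leaf 351) (.leaf 836))) (.node (.node (.leaf 190) (.leaf 680)) (.node (.leaf 412) (.leaf 1000)))))) (.node (.node (.node (.node (.node (.leaf 24) (.leaf 708)) (.node (.leaf 242) (.leaf 932))) (.node (.node (.leaf 248) (.leaf 600)) (.node (.leaf 356) (.leaf 906)))) (.node (.node (.node (.leaf 75) (.leaf 796)) (.node (.leaf 286) (.leaf 974))) (.node (.node (.leaf 164) (.leaf 765)) (.node (.leaf 408) (.leaf 980))))) (.node (.node (.node (.node (.leaf 52) (.leaf 728)) (.node (.leaf 276) (.leaf 783))) (.node (.node (.leaf 176) (.leaf 877)) (.node (.leaf 382) (.leaf 1024)))) (.node (.node (.node (.leaf 212) (.leaf 576)) (.node (.leaf 494) (.leaf 901))) (.node (.node (.leaf 210) (.leaf 912)) (.leaf 434))))))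
def dFin_1 : BT := .node (.node (.node (.node (.node (.node (.node (.leaf 4) (.leaf 661)) (.node (.leaf 214) (.leaf 922))) (.node (.node (.leaf 233) (.leaf 690)) (.node (.leaf 512) (.leaf 882)))) (.node (.node (.node (.leaf 122) (.leaf 748)) (.node (.leaf 426) (.leaf 770))) (.node (.node (.leaf 185) (.leaf 905)) (.node (.leaf 630) (.leaf 950))))) (.node (.node (.node (.node (.leaf 32) (.leaf 718)) (.node (.leaf 410) (.leaf 790))) (.node (.node (.leaf 132) (.leaf 866)) (.node (.leaf 485) (.leaf 969)))) (.node (.node (.node (.leaf 87) (.leaf 819)) (.node (.leaf 296) (.leaf 855))) (.node (.node (.leaf 198) (.leaf 687)) (.node (.leaf 418) (.leaf 1008)))))) (.node (.node (.node (.node (.node (.leaf 20) (.leaf 539)) (.node (.leaf 234) (.leaf 848))) (.node (.node (.leaf 114) (.leaf 598)) (.node (.leaf 334) (.leaf 898)))) (.node (.node (.node (.leaf 71) (.leaf 516)) (.node (.leaf 438) (.leaf 798))) (.node (.node (.leaf 168) (.leaf 674)) (.node (.leaf 406) (.leaf 978))))) (.node (.node (.node (.node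 (.leaf 44) (.leaf 472)) (.node (.leaf 266) (.leaf 754))) (.node (.node (.leaf 262) (.leaf 878)) (.node (.leaf 380) (.leaf 956)))) (.node (.node (.node (.leaf 202) (.leaf 858)) (.node (.leaf 500) (.leaf 870))) (.node (.node (.leaf 208) (.leaf 702)) (.leaf 478)))))) (.node (.node (.node (.node (.node (.node (.leaf 12) (.leaf 524)) (.node (.leaf 226) (.leaf 919))) (.node (.node (.leaf 118) (.leaf 582)) (.node (.leaf 552) (.leaf 890)))) (.node (.node (.node (.leaf 131) (.leaf 518)) (.node (.leaf 310) (.leaf 958))) (.node (.node (.leaf 193) (.leaf 658)) (.node (.leaf 388) (.leaf 997))))) (.node (.node (.node (.node (.leaf 38) (.leaf 565)) (.node (.leaf 254) (.leaf 756))) (.node (.node (.leaf 138) (.leaf 616)) (.node (.leaf 607) (.leaf 924)))) (.node (.node (.node (.leaf 81) (.leaf 554)) (.node (.leaf 306) (.leaf 995))) (.node (.node (.leaf 180) (.leaf 684)) (.node (.leaf 428) (.leaf 1010)))))) (.node (.node (.node (.node (.node (.leaf 30) (.leaf 458)) (.node (.leaf 244) (.leaf 850))) (.node (.node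 (.leaf 229) (.leaf 608)) (.node (.leaf 568) (.leaf 973)))) (.node (.node (.node (.leaf 77) (.leaf 540)) (.node (.leaf 452) (.leaf 998))) (.node (.node (.leaf 170) (.leaf 767)) (.node (.leaf 414) (.leaf 982))))) (.node (.node (.node (.node (.leaf 50) (.leaf 493)) (.node (.leaf 272) (.leaf 776))) (.node (.node (.leaf 152) (.leaf 847)) (.node (.leaf 376) (.leaf 1017)))) (.node (.node (.node (.leaf 222) (.leaf 570)) (.node (.leaf 324) (.leaf 874))) (.node (.node (.leaf 288) (.leaf 815)) (.leaf 436))))))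
def dFin_2 : BT := .node dFin_0 dFin_1
def dFin_3 : BT := .node (.node (.node (.node (.node (.node (.node (.leaf 2) (.leaf 676)) (.node (.leaf 216) (.leaf 712))) (.node (.node (.leaf 110) (.leaf 591)) (.node (.leaf 318) (.leaf 886)))) (.node (.node (.node (.leaf 54) (.leaf 506)) (.node (.leaf 312) (.leaf 772))) (.node (.node (.leaf 290) (.leaf 646)) (.node (.leaf 390) (.leaf 946))))) (.node (.node (.node (.node (.leaf 46) (.leaf 567)) (.node (.leaf 238) (.leaf 736))) (.node (.node (.leaf 259) (.leaf 618)) (.node (.leaf 594) (.leaf 930)))) (.node (.node (.node (.leaf 69) (.leaf 548)) (.node (.leaf 462) (.leaf 992))) (.node (.node (.leaf 186) (.leaf 672)) (.node (.leaf 416) (.leaf 1006)))))) (.node (.node (.node (.node (.node (.leaf 26) (.leaf 698)) (.node (.leaf 399) (.leaf 720))) (.node (.node (.leaf 116) (.leaf 742)) (.node (.leaf 348) (.leaf 910)))) (.node (.node (.node (.leaf 58) (.leaf 522)) (.node (.leaf 326) (.leaf 816))) (.node (.node (.leaf 166) (.leaf 654)) (.node (.leaf 402) (.leaf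 1013))))) (.node (.node (.node (.node (.leaf 42) (.leaf 470)) (.node (.leaf 250) (.leaf 750))) (.node (.node (.leaf 148) (.leaf 632)) (.node (.leaf 526) (.leaf 926)))) (.node (.node (.node (.leaf 92) (.leaf 560)) (.node (.leaf 304) (.leaf 921))) (.node (.node (.leaf 204) (.leaf 688)) (.leaf 652)))))) (.node (.node (.node (.node (.node (.node (.leaf 10) (.leaf 696)) (.node (.leaf 339) (.leaf 714))) (.node (.node (.leaf 100) (.leaf 603)) (.node (.leaf 340) (.leaf 909)))) (.node (.node (.node (.leaf 136) (.leaf 739)) (.node (.leaf 430) (.leaf 804))) (.node (.node (.leaf 299) (.leaf 656)) (.node (.leaf 629) (.leaf 960))))) (.node (.node (.node (.node (.leaf 66) (.leaf 716)) (.node (.leaf 260) (.leaf 740))) (.node (.node (.leaf 140) (.leaf 626)) (.node (.leaf 368) (.leaf 928)))) (.node (.node (.node (.leaf 83) (.leaf 832)) (.node (.leaf 292) (.leaf 838))) (.node (.node (.leaf 194) (.leaf 682)) (.node (.leaf 497) (.leaf 1004)))))) (.node (.node (.node (.node (.node (.leaf 14) (.leaf 547)) (.node (.leaf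 384) (.leaf 862))) (.node (.node (.leaf 126) (.leaf 604)) (.node (.leaf 358) (.leaf 894)))) (.node (.node (.node (.leaf 150) (.leaf 536)) (.node (.leaf 446) (.leaf 822))) (.node (.node (.leaf 316) (.leaf 692)) (.node (.leaf 640) (.leaf 989))))) (.node (.node (.node (.node (.leaf 96) (.leaf 476)) (.node (.leaf 270) (.leaf 774))) (.node (.node (.leaf 278) (.leaf 892)) (.node (.leaf 378) (.leaf 944)))) (.node (.node (.node (.leaf 94) (.leaf 572)) (.node (.leaf 322) (.leaf 872))) (.node (.node (.leaf 362) (.leaf 811)) (.leaf 664))))))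
def dFin_4 : BT := .node (.node (.node (.node (.node (.node (.node (.leaf 6) (.leaf 450)) (.node (.leaf 374) (.leaf 710))) (.node (.node (.leaf 106) (.leaf 584)) (.node (.leaf 532) (.leaf 880)))) (.node (.node (.node (.leaf 60) (.leaf 502)) (.node (.leaf 280) (.leaf 784))) (.node (.node (.leaf 189) (.leaf 648)) (.node (.leaf 394) (.leaf 962))))) (.node (.node (.node (.node (.leaf 34) (.leaf 464)) (.node (.leaf 252) (.leaf 730))) (.node (.node (.leaf 124) (.leaf 622)) (.node (.leaf 366) (.leaf 916)))) (.node (.node (.node (.leaf 85) (.leaf 534)) (.node (.leaf 461) (.leaf 834))) (.node (.node (.leaf 347) (.leaf 786)) (.node (.leaf 420) (.leaf 1002)))))) (.node (.node (.node (.node (.node (.leaf 22) (.leaf 543)) (.node (.leaf 224) (.leaf 860))) (.node (.node (.leaf 236) (.leaf 612)) (.node (.leaf 510) (.leaf 902)))) (.node (.node (.node (.leaf 73) (.leaf 514)) (.node (.leaf 330) (.leaf 824))) (.node (.node (.leaf 300) (.leaf 662)) (.node (.leaf 639) (.leaf 976))))) (.node (.node (.node (.node (.leaf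 98) (.leaf 474)) (.node (.leaf 268) (.leaf 761))) (.node (.node (.leaf 154) (.leaf 636)) (.node (.leaf 588) (.leaf 937)))) (.node (.node (.node (.leaf 90) (.leaf 670)) (.node (.leaf 308) (.leaf 868))) (.node (.node (.leaf 352) (.leaf 807)) (.leaf 486)))))) (.node (.node (.node (.node (.node (.node (.leaf 16) (.leaf 530)) (.node (.leaf 400) (.leaf 934))) (.node (.node (.leaf 220) (.leaf 580)) (.node (.leaf 344) (.leaf 987)))) (.node (.node (.node (.leaf 62) (.leaf 520)) (.node (.leaf 489) (.leaf 808))) (.node (.node (.leaf 197) (.leaf 746)) (.node (.leaf 466) (.leaf 964))))) (.node (.node (.node (.node (.leaf 40) (.leaf 853)) (.node (.leaf 256) (.leaf 788))) (.node (.node (.leaf 142) (.leaf 831)) (.node (.leaf 370) (.leaf 985)))) (.node (.node (.node (.leaf 178) (.leaf 556)) (.node (.leaf 468) (.leaf 840))) (.node (.node (.leaf 282) (.leaf 792)) (.node (.leaf 499) (.leaf 1014)))))) (.node (.node (.node (.node (.node (.leaf 36) (.leaf 707)) (.node (.leaf 246) (.leaf 732))) (.node (.node (.leaf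 134) (.leaf 596)) (.node (.leaf 354) (.leaf 954)))) (.node (.node (.node (.leaf 79) (.leaf 820)) (.node (.leaf 294) (.leaf 826))) (.node (.node (.leaf 332) (.leaf 668)) (.node (.leaf 621) (.leaf 1022))))) (.node (.node (.node (.node (.leaf 48) (.leaf 504)) (.node (.leaf 274) (.leaf 778))) (.node (.node (.leaf 284) (.leaf 644)) (.node (.leaf 614) (.leaf 942)))) (.node (.node (.node (.leaf 161) (.leaf 574)) (.node (.leaf 508) (.leaf 889))) (.node (.node (.leaf 218) (.leaf 704)) (.leaf 666))))))
def dFin_5 : BT := .node dFin_3 dFin_4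
def dFin_6 : BT := .node dFin_2 dFin_5
def dFin_7 : BT := .node (.node (.node (.node (.node (.node (.node (.leaf 1) (.leaf 431)) (.node (.leaf 359) (.leaf 699))) (.node (.node (.leaf 104) (.leaf 609)) (.node (.leaf 331) (.leaf 1007)))) (.node (.node (.node (.leaf 115) (.leaf 735)) (.node (.leaf 263) (.leaf 791))) (.node (.node (.leaf 171) (.leaf 651)) (.node (.leaf 537) (.leaf 1005))))) (.node (.node (.node (.node (.leaf 27) (.leaf 453)) (.node (.leaf 241) (.leaf 745))) (.node (.node (.leaf 130) (.leaf 703)) (.node (.leaf 581) (.leaf 913)))) (.node (.node (.node (.leaf 159) (.leaf 546)) (.node (.leaf 341) (.leaf 967))) (.node (.node (.leaf 184) (.leaf 755)) (.node (.leaf 425) (.leaf 993)))))) (.node (.node (.node (.node (.node (.leaf 19) (.leaf 447)) (.node (.leaf 232) (.leaf 846))) (.node (.node (.leaf 121) (.leaf 590)) (.node (.leaf 549) (.leaf 897)))) (.node (.node (.node (.leaf 65) (.leaf 779)) (.node (.leaf 289) (.leaf 814))) (.node (.node (.leaf 157) (.leaf 685)) (.node (.leaf 405) (.leaf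 970))))) (.node (.node (.node (.node (.leaf 91) (.leaf 496)) (.node (.leaf 421) (.leaf 766))) (.node (.node (.leaf 147) (.leaf 635)) (.node (.leaf 363) (.leaf 931)))) (.node (.node (.node (.leaf 155) (.leaf 827)) (.node (.leaf 301) (.leaf 859))) (.node (.node (.leaf 207) (.leaf 677)) (.leaf 475)))))) (.node (.node (.node (.node (.node (.node (.leaf 9) (.leaf 521)) (.node (.leaf 389) (.leaf 943))) (.node (.node (.leaf 109) (.leaf 589)) (.node (.leaf 338) (.leaf 885)))) (.node (.node (.node (.leaf 103) (.leaf 771)) (.node (.leaf 305) (.leaf 802))) (.node (.node (.leaf 199) (.leaf 641)) (.node (.leaf 398) (.leaf 1009))))) (.node (.node (.node (.node (.leaf 59) (.leaf 557)) (.node (.leaf 391) (.leaf 760))) (.node (.node (.leaf 145) (.leaf 625)) (.node (.leaf 373) (.leaf 951)))) (.node (.node (.node (.leaf 165) (.leaf 566)) (.node (.leaf 349) (.leaf 849))) (.node (.node (.leaf 192) (.leaf 693)) (.node (.leaf 411) (.leaf 999)))))) (.node (.node (.node (.node (.node (.leaf 25) (.leaf 711)) (.node (.leaf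 243) (.leaf 927))) (.node (.node (.leaf 251) (.leaf 602)) (.node (.leaf 357) (.leaf 908)))) (.node (.node (.node (.leaf 84) (.leaf 799)) (.node (.leaf 285) (.leaf 977))) (.node (.node (.leaf 163) (.leaf 671)) (.node (.leaf 409) (.leaf 984))))) (.node (.node (.node (.node (.leaf 53) (.leaf 731)) (.node (.leaf 277) (.leaf 785))) (.node (.node (.leaf 169) (.leaf 875)) (.node (.leaf 383) (.leaf 953)))) (.node (.node (.node (.leaf 215) (.leaf 577)) (.node (.leaf 492) (.leaf 899))) (.node (.node (.leaf 211) (.leaf 915)) (.leaf 505))))))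
def dFin_8 : BT := .node (.node (.node (.node (.node (.node (.node (.leaf 5) (.leaf 663)) (.node (.leaf 213) (.leaf 925))) (.node (.node (.leaf 231) (.leaf 775)) (.node (.leaf 515) (.leaf 883)))) (.node (.node (.node (.leaf 125) (.leaf 751)) (.node (.leaf 429) (.leaf 769))) (.node (.node (.leaf 160) (.leaf 903)) (.node (.leaf 633) (.leaf 948))))) (.node (.node (.node (.node (.leaf 33) (.leaf 721)) (.node (.leaf 413) (.leaf 781))) (.node (.node (.leaf 133) (.leaf 869)) (.node (.leaf 490) (.leaf 965)))) (.node (.node (.node (.leaf 72) (.leaf 817)) (.node (.leaf 298) (.leaf 865))) (.node (.node (.leaf 200) (.leaf 689)) (.node (.leaf 419) (.leaf 1021)))))) (.node (.node (.node (.node (.node (.leaf 21) (.leaf 456)) (.node (.leaf 235) (.leaf 837))) (.node (.node (.leaf 113) (.leaf 599)) (.node (.leaf 333) (.leaf 900)))) (.node (.node (.node (.leaf 67) (.leaf 531)) (.node (.leaf 437) (.leaf 797))) (.node (.node (.leaf 177) (.leaf 673)) (.node (.leaf 407) (.leaf 986))))) (.node (.node (.node (.node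 (.leaf 45) (.leaf 498)) (.node (.leaf 267) (.leaf 758))) (.node (.node (.leaf 265) (.leaf 881)) (.node (.leaf 385) (.leaf 947)))) (.node (.node (.node (.leaf 205) (.leaf 856)) (.node (.leaf 503) (.leaf 871))) (.node (.node (.leaf 209) (.leaf 801)) (.leaf 477)))))) (.node (.node (.node (.node (.node (.node (.leaf 15) (.leaf 523)) (.node (.leaf 228) (.leaf 917))) (.node (.node (.leaf 119) (.leaf 583)) (.node (.leaf 555) (.leaf 888)))) (.node (.node (.node (.leaf 129) (.leaf 527)) (.node (.leaf 309) (.leaf 961))) (.node (.node (.leaf 191) (.leaf 665)) (.node (.leaf 387) (.leaf 988))))) (.node (.node (.node (.node (.leaf 37) (.leaf 561)) (.node (.leaf 255) (.leaf 764))) (.node (.node (.leaf 137) (.leaf 615)) (.node (.leaf 605) (.leaf 923)))) (.node (.node (.node (.leaf 78) (.leaf 553)) (.node (.leaf 313) (.leaf 983))) (.node (.node (.leaf 179) (.leaf 695)) (.node (.leaf 427) (.leaf 1023)))))) (.node (.node (.node (.node (.node (.leaf 31) (.leaf 460)) (.node (.leaf 245) (.leaf 852))) (.node (.node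 (.leaf 227) (.leaf 610)) (.node (.leaf 571) (.leaf 920)))) (.node (.node (.node (.leaf 82) (.leaf 542)) (.node (.leaf 455) (.leaf 1001))) (.node (.node (.leaf 173) (.leaf 753)) (.node (.leaf 415) (.leaf 994))))) (.node (.node (.node (.node (.leaf 51) (.leaf 495)) (.node (.leaf 273) (.leaf 789))) (.node (.node (.leaf 151) (.leaf 854)) (.node (.leaf 375) (.leaf 1003)))) (.node (.node (.node (.leaf 225) (.leaf 569)) (.node (.leaf 327) (.leaf 876))) (.node (.node (.leaf 323) (.leaf 813)) (.leaf 439))))))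
def dFin_9 : BT := .node dFin_7 dFin_8
def dFin_10 : BT := .node (.node (.node (.node (.node (.node (.node (.leaf 3) (.leaf 679)) (.node (.leaf 217) (.leaf 825))) (.node (.node (.leaf 111) (.leaf 593)) (.node (.leaf 317) (.leaf 887)))) (.node (.node (.node (.leaf 55) (.leaf 509)) (.node (.leaf 283) (.leaf 793))) (.node (.node (.leaf 293) (.leaf 647)) (.node (.leaf 392) (.leaf 957))))) (.node (.node (.node (.node (.leaf 49) (.leaf 467)) (.node (.leaf 237) (.leaf 747))) (.node (.node (.leaf 257) (.leaf 620)) (.node (.leaf 597) (.leaf 939)))) (.node (.node (.node (.leaf 70) (.leaf 550)) (.node (.leaf 465) (.leaf 990))) (.node (.node (.leaf 188) (.leaf 675)) (.node (.leaf 417) (.leaf 1025)))))) (.node (.node (.node (.node (.node (.leaf 29) (.leaf 701)) (.node (.leaf 397) (.leaf 719))) (.node (.node (.leaf 117) (.leaf 657)) (.node (.leaf 350) (.leaf 911)))) (.node (.node (.node (.leaf 57) (.leaf 525)) (.node (.leaf 325) (.leaf 818))) (.node (.node (.leaf 175) (.leaf 653)) (.node (.leaf 401) (.leaf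 1015))))) (.node (.node (.node (.node (.leaf 43) (.leaf 469)) (.node (.leaf 249) (.leaf 749))) (.node (.node (.leaf 149) (.leaf 631)) (.node (.leaf 451) (.leaf 933)))) (.node (.node (.node (.leaf 97) (.leaf 564)) (.node (.leaf 315) (.leaf 963))) (.node (.node (.leaf 203) (.leaf 686)) (.leaf 655)))))) (.node (.node (.node (.node (.node (.node (.leaf 11) (.leaf 683)) (.node (.leaf 295) (.leaf 717))) (.node (.node (.leaf 99) (.leaf 601)) (.node (.leaf 342) (.leaf 907)))) (.node (.node (.node (.leaf 139) (.leaf 741)) (.node (.leaf 433) (.leaf 806))) (.node (.node (.leaf 297) (.leaf 733)) (.node (.leaf 627) (.leaf 959))))) (.node (.node (.node (.node (.leaf 68) (.leaf 715)) (.node (.leaf 261) (.leaf 738))) (.node (.node (.leaf 141) (.leaf 628)) (.node (.leaf 369) (.leaf 979)))) (.node (.node (.node (.leaf 76) (.leaf 835)) (.node (.leaf 291) (.leaf 861))) (.node (.node (.leaf 196) (.leaf 697)) (.node (.leaf 484) (.leaf 1018)))))) (.node (.node (.node (.node (.node (.leaf 13) (.leaf 545)) (.node (.leaf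 381) (.leaf 841))) (.node (.node (.leaf 127) (.leaf 606)) (.node (.leaf 361) (.leaf 893)))) (.node (.node (.node (.leaf 153) (.leaf 538)) (.node (.leaf 449) (.leaf 821))) (.node (.node (.leaf 319) (.leaf 681)) (.node (.leaf 643) (.leaf 996))))) (.node (.node (.node (.node (.leaf 93) (.leaf 479)) (.node (.leaf 271) (.leaf 787))) (.node (.node (.leaf 281) (.leaf 895)) (.node (.leaf 379) (.leaf 955)))) (.node (.node (.node (.leaf 95) (.leaf 573)) (.node (.leaf 329) (.leaf 873))) (.node (.node (.leaf 365) (.leaf 809)) (.leaf 659))))))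
def dFin_11 : BT := .node (.node (.node (.node (.node (.node (.node (.leaf 7) (.leaf 519)) (.node (.leaf 377) (.leaf 709))) (.node (.node (.leaf 107) (.leaf 585)) (.node (.leaf 535) (.leaf 879)))) (.node (.node (.node (.leaf 61) (.leaf 501)) (.node (.leaf 279) (.leaf 782))) (.node (.node (.leaf 187) (.leaf 649)) (.node (.leaf 395) (.leaf 972))))) (.node (.node (.node (.node (.leaf 35) (.leaf 463)) (.node (.leaf 253) (.leaf 729))) (.node (.node (.leaf 123) (.leaf 623)) (.node (.leaf 367) (.leaf 918)))) (.node (.node (.node (.leaf 74) (.leaf 533)) (.node (.leaf 459) (.leaf 833))) (.node (.node (.leaf 345) (.leaf 691)) (.node (.leaf 422) (.leaf 1016)))))) (.node (.node (.node (.node (.node (.leaf 23) (.leaf 541)) (.node (.leaf 223) (.leaf 839))) (.node (.node (.leaf 239) (.leaf 613)) (.node (.leaf 435) (.leaf 904)))) (.node (.node (.node (.leaf 86) (.leaf 513)) (.node (.leaf 321) (.leaf 830))) (.node (.node (.leaf 303) (.leaf 660)) (.node (.leaf 637) (.leaf 975))))) (.node (.node (.node (.node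 (.leaf 101) (.leaf 481)) (.node (.leaf 269) (.leaf 762))) (.node (.node (.leaf 167) (.leaf 638)) (.node (.leaf 587) (.leaf 935)))) (.node (.node (.node (.leaf 89) (.leaf 757)) (.node (.leaf 311) (.leaf 867))) (.node (.node (.leaf 355) (.leaf 805)) (.leaf 488)))))) (.node (.node (.node (.node (.node (.node (.leaf 17) (.leaf 517)) (.node (.leaf 403) (.leaf 936))) (.node (.node (.leaf 219) (.leaf 579)) (.node (.leaf 346) (.leaf 929)))) (.node (.node (.node (.leaf 63) (.leaf 529)) (.node (.leaf 487) (.leaf 810))) (.node (.node (.leaf 195) (.leaf 737)) (.node (.leaf 559) (.leaf 968))))) (.node (.node (.node (.node (.leaf 41) (.leaf 851)) (.node (.leaf 258) (.leaf 777))) (.node (.node (.leaf 143) (.leaf 713)) (.node (.leaf 371) (.leaf 981)))) (.node (.node (.node (.leaf 181) (.leaf 562)) (.node (.leaf 471) (.leaf 863))) (.node (.node (.leaf 307) (.leaf 773)) (.node (.leaf 473) (.leaf 1012)))))) (.node (.node (.node (.node (.node (.leaf 39) (.leaf 705)) (.node (.leaf 247) (.leaf 743))) (.node (.node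 (.leaf 135) (.leaf 595)) (.node (.leaf 353) (.leaf 945)))) (.node (.node (.node (.leaf 80) (.leaf 823)) (.node (.leaf 337) (.leaf 828))) (.node (.node (.leaf 335) (.leaf 667)) (.node (.leaf 619) (.leaf 1011))))) (.node (.node (.node (.node (.leaf 47) (.leaf 511)) (.node (.leaf 275) (.leaf 794))) (.node (.node (.leaf 287) (.leaf 645)) (.node (.leaf 617) (.leaf 941)))) (.node (.node (.node (.leaf 183) (.leaf 575)) (.node (.leaf 507) (.leaf 891))) (.node (.node (.leaf 221) (.leaf 706)) (.leaf 669))))))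
def dFin_12 : BT := .node dFin_10 dFin_11
def dFin_13 : BT := .node dFin_9 dFin_12
def dFin_14 : BT := .node dFin_6 dFin_13
def dFin : BT := dFin_14
theorem chk_all : chkAll dD dJS 0 = true := by decide +kernel
theorem chk_fin : chkFin dD 72 dJS.length dLive dPos dFin = true := by decide +kernel
end Cfsg.Agent.Lib.Helper66.Sp6Pres
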