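import Cfsg.Agent.Lib.Helper66.TCE

set_option autoImplicit false
set_option maxRecDepth 100000
namespace Cfsg.Agent.Lib.Helper66.Sp6Up
open Cfsg.Agent.Lib.Helper66.TCE
def dF_0 : BT := .node (.node (.node (.node (.node (.node (.node (.leaf 0) (.leaf 122406597140)) (.node (.leaf 35970359702) (.leaf 161061312024))) (.node (.node (.leaf 34359746601) (.leaf 120259119500)) (.leaf 108447943695))) (.node (.node (.node (.leaf 20937968417) (.leaf 130996511361)) (.node (.leaf 77309429782) (.leaf 171261861786))) (.node (.node (.leaf 53150232997) (.leaf 153008218765)) (.leaf 14495518510)))) (.node (.node (.node (.node (.leaf 11274291856) (.leaf 129385920679)) (.node (.leaf 51539610118) (.leaf 160524441472))) (.node (.node (.leaf 36507230594) (.leaf 54760869422)) (.leaf 119185370900))) (.node (.node (.node (.leaf 1610616206) (.leaf 143881438737)) (.node (.leaf 84288736391) (.leaf 173409345939))) (.node (.node (.leaf 51002748682) (.leaf 156766343720)) (.leaf 55834588186))))) (.node (.node (.node (.node (.node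 (.leaf 5368710402) (.leaf 134217760130)) (.node (.leaf 55834588183) (.leaf 158913827857))) (.node (.node (.leaf 37580972831) (.leaf 151934504346)) (.leaf 56371473452))) (.node (.node (.node (.leaf 10737424686) (.leaf 142270825735)) (.node (.leaf 83751882380) (.leaf 165356280345))) (.node (.node (.leaf 57445201309) (.leaf 163208796291)) (.leaf 77846300815)))) (.node (.node (.node (.node (.leaf 17179872046) (.leaf 129385920663)) (.node (.leaf 81604398215) (.leaf 171261861805))) (.node (.node (.leaf 1073756430) (.leaf 536880814)) (.leaf 54760853934))) (.node (.node (.node (.leaf 45634038400) (.leaf 55834608682)) (.node (.leaf 95563045251) (.leaf 174483088024))) (.node (.node (.leaf 10200564629) (.leaf 158913827872)) (.leaf 122943468199)))))) (.node (.node (.node (.node (.node (.node (.leaf 1610613137) (.leaf 120795983880)) (.node (.leaf 60129556503) (.leaf 159987569940))) (.node (.node (.leaf 39728456995) (.leaf 151397633325)) (.leaf 104152976777))) (.node (.node (.node (.leaf 26306681093) (.leaf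 136365244334)) (.node (.leaf 79456913923) (.leaf 164282538264))) (.node (.node (.leaf 55297717153) (.leaf 154618859548)) (.leaf 11274291867)))) (.node (.node (.node (.node (.leaf 17716744453) (.leaf 129385920671)) (.node (.leaf 38117843864) (.leaf 171261861893))) (.node (.node (.leaf 63887653760) (.leaf 37580972843)) (.leaf 119722241949))) (.node (.node (.node (.leaf 48318393728) (.leaf 142807696676)) (.node (.leaf 98247400450) (.leaf 175019959063))) (.node (.node (.leaf 5905595946) (.leaf 157840085796)) (.leaf 126701554825))))) (.node (.node (.node (.node (.node (.leaf 14495518220) (.leaf 127775307565)) (.node (.leaf 53150232980) (.leaf 120795992750))) (.node (.node (.leaf 35970359698) (.leaf 121869732992)) (.leaf 111132305539))) (.node (.node (.node (.leaf 29527907209) (.leaf 140123341484)) (.node (.leaf 89120592656) (.leaf 172872474898))) (.node (.node (.leaf 59592685456) (.leaf 155692601642)) (.leaf 40802199084)))) (.node (.node (.node (.node (.leaf 11274291879) (.leaf 129922791694)) (.node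 (.leaf 81604398116) (.leaf 164819409317))) (.node (.node (.leaf 51002748841) (.leaf 151397633323)) (.leaf 57982080174))) (.node (.node (.node (.leaf 42412812162) (.leaf 57445221802)) (.node (.leaf 103079239820) (.leaf 175556830094))) (.node (.node (.leaf 72477575598) (.leaf 159987569948)) (.leaf 120795984031))))))
def dF_1 : BT := .node (.node (.node (.node (.node (.node (.node (.leaf 1610612879) (.leaf 121332855056)) (.node (.leaf 38654714901) (.leaf 161061312022))) (.node (.node (.leaf 40802199077) (.leaf 152471372673)) (.leaf 106300465799))) (.node (.node (.node (.leaf 11274294446) (.leaf 130996511243)) (.node (.leaf 80530656016) (.leaf 164819409298))) (.node (.node (.leaf 54223975075) (.leaf 153008246442)) (.leaf 57982066821)))) (.node (.node (.node (.node (.leaf 11274291880) (.leaf 129385920675)) (.node (.leaf 53150232970) (.leaf 158376956935))) (.node (.node (.leaf 55834588292) (.leaf 39191612428)) (.leaf 115427272960))) (.node (.node (.node (.leaf 39728457096) (.leaf 143344567708)) (.node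 (.leaf 65498273292) (.leaf 173409313547))) (.node (.node (.leaf 64961395844) (.leaf 157303214759)) (.leaf 124017210379))))) (.node (.node (.node (.node (.node (.leaf 536872970) (.leaf 135828373140)) (.node (.leaf 14495518087) (.leaf 162135044910))) (.node (.node (.leaf 36507230749) (.leaf 150323891204)) (.leaf 113816646189))) (.node (.node (.node (.leaf 31675391493) (.leaf 146028923054)) (.node (.leaf 91268076816) (.leaf 122406608777))) (.node (.node (.leaf 58518943378) (.leaf 163208796204)) (.leaf 38117843885)))) (.node (.node (.node (.node (.leaf 12348033838) (.leaf 129385920659)) (.node (.leaf 82141269151) (.leaf 165356280335))) (.node (.node (.leaf 59592685481) (.leaf 11274323758)) (.leaf 84288759726))) (.node (.node (.node (.leaf 44023425282) (.leaf 121332859434)) (.node (.leaf 57445201160) (.leaf 176093701139))) (.node (.node (.leaf 5368709270) (.leaf 159450698911)) (.leaf 121869726115)))))) (.node (.node (.node (.node (.node (.node (.leaf 536871059) (.leaf 127238436505)) (.node (.leaf 536871065)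 (.leaf 161061312019))) (.node (.node (.leaf 38654714913) (.leaf 151934504354)) (.leaf 117037886860))) (.node (.node (.node (.leaf 25232935715) (.leaf 136365230092)) (.node (.leaf 39728465962) (.leaf 135828380590))) (.node (.node (.leaf 56371459231) (.leaf 157303214858)) (.leaf 37580987054)))) (.node (.node (.node (.node (.leaf 17716744337) (.leaf 129385920667)) (.node (.leaf 11274307244) (.leaf 172335603865))) (.node (.node (.leaf 62277040647) (.leaf 37044101803)) (.leaf 112742918796))) (.node (.node (.node (.leaf 47781522734) (.leaf 141733954592)) (.node (.leaf 99321142537) (.leaf 174483088132))) (.node (.node (.leaf 69256362267) (.leaf 158376956835)) (.leaf 124017210285))))) (.node (.node (.node (.node (.node (.leaf 14495518082) (.leaf 132070275874)) (.node (.leaf 11274291850) (.leaf 155692602373))) (.node (.node (.leaf 35433488657) (.leaf 151397633289)) (.leaf 118648499864))) (.node (.node (.node (.leaf 10200554926) (.leaf 142270825624)) (.node (.leaf 53687111950) (.leaf 153008251145))) (.node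 (.node (.leaf 51002748816) (.leaf 160524440974)) (.leaf 34896617627)))) (.node (.node (.node (.node (.leaf 20937970693) (.leaf 52613381761)) (.node (.leaf 77309429794) (.leaf 171798732821))) (.node (.node (.leaf 52076490919) (.leaf 153545117451)) (.leaf 58518957614))) (.node (.node (.node (.leaf 41875941157) (.leaf 55834610059)) (.node (.leaf 104152981899) (.leaf 175556830123))) (.node (.node (.leaf 9126821294) (.leaf 160524440987)) (.leaf 123480339224))))))
def dF_2 : BT := .node dF_0 dF_1
def dF_3 : BT := .node (.node (.node (.node (.node (.node (.node (.leaf 1073741839) (.leaf 121869726099)) (.node (.leaf 37580972804) (.leaf 156766343702))) (.node (.node (.leaf 37580972839) (.leaf 147639536041)) (.leaf 107374201615))) (.node (.node (.node (.leaf 10200552865) (.leaf 35970381953)) (.node (.leaf 81067527059) (.leaf 164282538375))) (.node (.node (.leaf 58518943395) (.leaf 153008246428)) (.leaf 77309436206)))) (.node (.node (.node (.node (.leaf 12884904960) (.leaf 129385920677)) (.node (.leaf 54760846104)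 (.leaf 161598173836))) (.node (.node (.leaf 51539619969) (.leaf 123480342574)) (.leaf 119185370918))) (.node (.node (.node (.leaf 35433488772) (.leaf 144955148971)) (.node (.leaf 83215003661) (.leaf 173409345953))) (.node (.node (.leaf 51539620099) (.leaf 161061312040)) (.leaf 55297732618))))) (.node (.node (.node (.node (.node (.leaf 7516194734) (.leaf 57445219630)) (.node (.leaf 34359746569) (.leaf 163208796294))) (.node (.node (.leaf 40802199069) (.leaf 150323873932)) (.leaf 55834602412))) (.node (.node (.node (.leaf 35) (.leaf 146565789317)) (.node (.leaf 88046850690) (.leaf 171261861788))) (.node (.node (.leaf 53150232989) (.leaf 163745667233)) (.leaf 41875941005)))) (.node (.node (.node (.node (.leaf 11274291869) (.leaf 129385920661)) (.node (.leaf 82141257899) (.leaf 164282538282))) (.node (.node (.leaf 60129556499) (.leaf 35970359723)) (.leaf 53150240814))) (.node (.node (.node (.leaf 44560296494) (.leaf 141197083399)) (.node (.leaf 94489294345) (.leaf 175556830213))) (.node (.node (.leaf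 5368726806) (.leaf 163208796190)) (.leaf 122406597156)))))) (.node (.node (.node (.node (.node (.node (.leaf 4294967315) (.leaf 40802219660)) (.node (.leaf 60129542574) (.leaf 156229467785))) (.node (.node (.leaf 35433488675) (.leaf 151934504358)) (.leaf 112742918534))) (.node (.node (.node (.leaf 28454165120) (.leaf 136365244180)) (.node (.leaf 78383171847) (.leaf 158376958219))) (.node (.node (.leaf 51002748833) (.leaf 154618859564)) (.leaf 93415538862)))) (.node (.node (.node (.node (.leaf 19864228480) (.leaf 129385920669)) (.node (.leaf 76235687820) (.leaf 123480350853))) (.node (.node (.leaf 63350782724) (.leaf 35433499694)) (.leaf 53687103918))) (.node (.node (.node (.leaf 48855264814) (.leaf 141197083559)) (.node (.leaf 33822891434) (.leaf 175019959073))) (.node (.node (.leaf 9126821932) (.leaf 162135054116)) (.leaf 124017210267))))) (.node (.node (.node (.node (.node (.leaf 15032389125) (.leaf 132070275858)) (.node (.leaf 34359746585) (.leaf 121332863746))) (.node (.node (.leaf 39728456977)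 (.leaf 151934504334)) (.leaf 110058556815))) (.node (.node (.node (.leaf 31138515493) (.leaf 142270825626)) (.node (.leaf 56371467022) (.leaf 172872474914))) (.node (.node (.leaf 55297717136) (.leaf 159987569962)) (.leaf 119185370907)))) (.node (.node (.node (.node (.leaf 536871079) (.leaf 127775285507)) (.node (.leaf 80530656036) (.leaf 172335601163))) (.node (.node (.leaf 56371459239) (.leaf 35970387840)) (.leaf 12884919982))) (.node (.node (.node (.leaf 41875941128) (.leaf 148713278209)) (.node (.leaf 76772565004) (.leaf 175556830106))) (.node (.node (.leaf 1454) (.leaf 156229472667)) (.leaf 120259112988))))))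
def dF_4 : BT := .node (.node (.node (.node (.node (.node (.node (.leaf 2147483776) (.leaf 121332855054)) (.node (.leaf 34359746581) (.leaf 156229472661))) (.node (.node (.leaf 36507230757) (.leaf 152471375393)) (.leaf 77846307214))) (.node (.node (.node (.leaf 5806) (.leaf 124017199879)) (.node (.leaf 36507241258) (.leaf 158913829132))) (.node (.node (.leaf 59592685473) (.leaf 39728484354)) (.leaf 34359752192)))) (.node (.node (.node (.node (.leaf 10737420800) (.leaf 129385920673)) (.node (.leaf 54760846082) (.leaf 166966893574))) (.node (.node (.leaf 60129556618) (.leaf 56371479726)) (.leaf 119722241939))) (.node (.node (.node (.leaf 44023425411) (.leaf 142807696772)) (.node (.leaf 58518951937) (.leaf 175019959057))) (.node (.node (.leaf 65498266884) (.leaf 161598183079)) (.leaf 81604408622))))) (.node (.node (.node (.node (.node (.leaf 10200549900) (.leaf 135828373156)) (.node (.leaf 57445201300) (.leaf 122943477642))) (.node (.node (.leaf 40265328018) (.leaf 151397633300)) (.leaf 85899372814)))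 (.node (.node (.node (.leaf 536878628) (.leaf 145492051864)) (.node (.leaf 88583721621) (.leaf 172872471936))) (.node (.node (.leaf 54223975058) (.leaf 159450698925)) (.leaf 80530656045)))) (.node (.node (.node (.node (.leaf 14495518111) (.leaf 129385920657)) (.node (.leaf 81604398098) (.leaf 171798732838))) (.node (.node (.leaf 55297717161) (.leaf 129385920683)) (.leaf 35433502894))) (.node (.node (.node (.leaf 42949683210) (.leaf 38117867648)) (.node (.leaf 57982081029) (.leaf 175556825985))) (.node (.node (.leaf 72477575575) (.leaf 155692601628)) (.leaf 121332855072)))))) (.node (.node (.node (.node (.node (.node (.leaf 6442450965) (.leaf 129922791820)) (.node (.leaf 33822881411) (.leaf 163208796177))) (.node (.node (.leaf 34359746593) (.leaf 151934504350)) (.leaf 117037880461))) (.node (.node (.node (.leaf 27380423172) (.leaf 137975857412)) (.node (.leaf 37580982827) (.leaf 122406608771))) (.node (.node (.leaf 52076490911) (.leaf 161598183179)) (.leaf 70330089518)))) (.node (.node (.node (.node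 (.leaf 17716744321) (.leaf 129385920665)) (.node (.leaf 77309429899) (.leaf 172335603879))) (.node (.node (.leaf 61203298563) (.leaf 36507251595)) (.leaf 88583721484))) (.node (.node (.node (.leaf 46707780484) (.leaf 142807696896)) (.node (.leaf 97710529413) (.leaf 174483088044))) (.node (.node (.leaf 70866963866) (.leaf 162671925155)) (.leaf 123480339240))))) (.node (.node (.node (.node (.node (.leaf 10200549778) (.leaf 129385920681)) (.node (.leaf 50465877771) (.leaf 159987540232))) (.node (.node (.leaf 40265327880) (.leaf 121869726123)) (.leaf 118648479876))) (.node (.node (.node (.leaf 1610613157) (.leaf 144955180821)) (.node (.leaf 85362495493) (.leaf 173409345798))) (.node (.node (.leaf 57445201162) (.leaf 157840085774)) (.leaf 37044101787)))) (.node (.node (.node (.node (.leaf 24696067840) (.leaf 131533404334)) (.node (.leaf 80530656024) (.leaf 171798732833))) (.node (.node (.leaf 57445201317) (.leaf 153545117464)) (.leaf 34896617615))) (.node (.node (.node (.leaf 38654714921) (.leaf 147639536015))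 (.leaf 108447950215)) (.node (.node (.leaf 40265328022) (.leaf 156766343704)) (.leaf 122943468183))))))
def dF_5 : BT := .node dF_3 dF_4
def dF_6 : BT := .node dF_2 dF_5
def dF_7 : BT := .node (.node (.node (.node (.node (.node (.node (.leaf 8) (.leaf 120259112980)) (.node (.leaf 40802199048) (.leaf 155692577928))) (.node (.node (.leaf 39728456999) (.leaf 147639536035)) (.leaf 107911076138))) (.node (.node (.node (.leaf 20937970829) (.leaf 36507253166)) (.node (.leaf 79456913940) (.leaf 158376958339))) (.node (.node (.leaf 51002748837) (.leaf 153008246420)) (.leaf 10200549901)))) (.node (.node (.node (.node (.leaf 14495517956) (.leaf 131533404837)) (.node (.leaf 52613361944) (.leaf 161598182916))) (.node (.node (.leaf 34359746564) (.leaf 38117853614)) (.leaf 119185370910))) (.node (.node (.node (.leaf 1610616620) (.leaf 144418305710)) (.node (.leaf 83751882158) (.leaf 173409345945))) (.node (.node (.leaf 51002748800) (.leaf 158913827880)) (.leaf 119722241934))))) (.node (.node (.node (.node (.node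 (.leaf 6979323661) (.leaf 56371478154)) (.node (.leaf 53687104023) (.leaf 155692601729))) (.node (.node (.leaf 35433488671) (.leaf 151934504344)) (.leaf 115427273618))) (.node (.node (.node (.leaf 536877614) (.leaf 144418309893)) (.node (.leaf 85899366534) (.leaf 165356280353))) (.node (.node (.leaf 55297717149) (.leaf 163745667225)) (.leaf 37580972815)))) (.node (.node (.node (.node (.leaf 11811162909) (.leaf 131533404821)) (.node (.leaf 82678140165) (.leaf 171798732842))) (.node (.node (.leaf 60129542553) (.leaf 10200549803)) (.leaf 55834588205))) (.node (.node (.node (.leaf 45097167368) (.leaf 141197063082)) (.node (.leaf 94489303175) (.leaf 174483088034))) (.node (.node (.leaf 5368726536) (.leaf 161061312032)) (.leaf 120795984039)))))) (.node (.node (.node (.node (.node (.node (.leaf 4831838227) (.leaf 120259097476)) (.node (.leaf 33822875543) (.leaf 157840085780))) (.node (.node (.leaf 37580972835) (.leaf 151934504360)) (.leaf 110595434380))) (.node (.node (.node (.leaf 28454165257) (.leaf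 136365244164)) (.node (.leaf 78920042889) (.leaf 164282538270))) (.node (.node (.leaf 53150232993) (.leaf 154618859556)) (.leaf 61203287598)))) (.node (.node (.node (.node (.leaf 19864228611) (.leaf 131533404829)) (.node (.leaf 12884919692) (.leaf 122943479817))) (.node (.node (.leaf 63887653768) (.leaf 124017211532)) (.leaf 119722241957))) (.node (.node (.node (.leaf 49929006720) (.leaf 141733954600)) (.node (.leaf 100394882564) (.leaf 175019959067))) (.node (.node (.leaf 7516208938) (.leaf 159987569956)) (.leaf 124017210259))))) (.node (.node (.node (.node (.node (.leaf 15569260162) (.leaf 132070252803)) (.node (.leaf 41339070104) (.leaf 120795992588))) (.node (.node (.leaf 41339070080) (.leaf 150860762249)) (.leaf 110595427727))) (.node (.node (.node (.leaf 10200554917) (.leaf 144418309786)) (.node (.leaf 57982080012) (.leaf 172872474906))) (.node (.node (.leaf 57445201296) (.leaf 157840085802)) (.leaf 40802199066)))) (.node (.node (.node (.node (.leaf 13421776039) (.leaf 127775307534)) (.node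 (.leaf 80530656040) (.leaf 165356280354))) (.node (.node (.leaf 58518943399) (.leaf 153545117578)) (.leaf 56908330255))) (.node (.node (.node (.leaf 41875931179) (.leaf 40265353485)) (.node (.leaf 13958668460) (.leaf 175556830102))) (.node (.node (.leaf 10200549781) (.leaf 162135054108)) (.leaf 122406597148))))))
def dF_8 : BT := .node (.node (.node (.node (.node (.node (.node (.leaf 3221225489) (.leaf 122943468175)) (.node (.leaf 36507230741) (.leaf 155692601616))) (.node (.node (.leaf 38654714917) (.leaf 152471375385)) (.leaf 105763594757))) (.node (.node (.node (.leaf 10200552878) (.leaf 124017199745)) (.node (.leaf 78383171856) (.leaf 164819409304))) (.node (.node (.leaf 52076490915) (.leaf 155155721992)) (.leaf 57982066827)))) (.node (.node (.node (.node (.leaf 10200549761) (.leaf 131533404833)) (.node (.leaf 54760846090) (.leaf 164819409412))) (.node (.node (.leaf 57982072449) (.leaf 37580982830)) (.leaf 56908345216))) (.node (.node (.node (.leaf 41875941253) (.leaf 143344567718)) (.node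 (.leaf 92878677659) (.leaf 154618864397))) (.node (.node (.leaf 65498261263) (.leaf 159450698919)) (.leaf 126164694537))))) (.node (.node (.node (.node (.node (.leaf 9126807854) (.leaf 135828373148)) (.node (.leaf 11274291847) (.leaf 162671925252))) (.node (.node (.leaf 34359746589) (.leaf 150860762263)) (.leaf 113279783055))) (.node (.node (.node (.leaf 33286004480) (.leaf 145492047493)) (.node (.leaf 90731205781) (.leaf 122406608774))) (.node (.node (.leaf 56371459218) (.leaf 157303214765)) (.leaf 37580972844)))) (.node (.node (.node (.node (.leaf 11274291870) (.leaf 131533404817)) (.node (.leaf 82141269159) (.leaf 171261861801))) (.node (.node (.leaf 57445201321) (.leaf 11274291883)) (.leaf 53150232975))) (.node (.node (.node (.leaf 43486554242) (.leaf 122406601003)) (.node (.leaf 56371454221) (.leaf 176093701128))) (.node (.node (.leaf 66572009262) (.leaf 161598183071)) (.leaf 123480339232)))))) (.node (.node (.node (.node (.node (.node (.leaf 1610613139) (.leaf 127775307650)) (.node (.leaf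 59592685449) (.leaf 158913827859))) (.node (.node (.leaf 36507230753) (.leaf 151934504352)) (.leaf 58518957612))) (.node (.node (.node (.leaf 26843548194) (.leaf 136365244200)) (.node (.leaf 39728465963) (.leaf 57982098862))) (.node (.node (.leaf 54223975071) (.leaf 159450699021)) (.leaf 69793218606)))) (.node (.node (.node (.node (.leaf 18253615360) (.leaf 131533404825)) (.node (.leaf 75698801679) (.leaf 172335603873))) (.node (.node (.leaf 61740169608) (.leaf 36507251589)) (.leaf 88046857100))) (.node (.node (.node (.leaf 47244651526) (.leaf 141197083551)) (.node (.leaf 38654729102) (.leaf 175019959081))) (.node (.node (.leaf 69793235343) (.leaf 160524440995)) (.leaf 121869726125))))) (.node (.node (.node (.node (.node (.leaf 12348033938) (.leaf 131533404841)) (.node (.leaf 16106131210) (.leaf 159987570690))) (.node (.node (.leaf 40802199173) (.leaf 121869730222)) (.leaf 34896637576))) (.node (.node (.node (.leaf 7854) (.leaf 144418309782)) (.node (.leaf 86436229647) (.leaf 173946216711))) (.node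 (.node (.leaf 59592685442) (.leaf 162671925134)) (.leaf 81067527066)))) (.node (.node (.node (.node (.leaf 23085454853) (.leaf 135828354178)) (.node (.leaf 80530656030) (.leaf 171798732825))) (.node (.node (.leaf 59592685477) (.leaf 153545117456)) (.leaf 58518951214))) (.node (.node (.node (.leaf 40802199081) (.leaf 147639533189)) (.leaf 106300466057)) (.node (.node (.leaf 41875941143) (.leaf 162671925147)) (.leaf 121332855064))))))
def dF_9 : BT := .node dF_7 dF_8
def dF_10 : BT := .node (.node (.node (.node (.node (.node (.node (.leaf 1073742086) (.leaf 123480339216)) (.node (.leaf 40802199061) (.leaf 158913827862))) (.node (.node (.leaf 35433488679) (.leaf 150323891331)) (.leaf 106837330575))) (.node (.node (.node (.leaf 22548580897) (.leaf 35970359821)) (.node (.leaf 78920042899) (.leaf 158913829259))) (.node (.node (.leaf 56371459235) (.leaf 153008246434)) (.leaf 57982066816)))) (.node (.node (.node (.node (.leaf 40) (.leaf 131533404835)) (.node (.leaf 56908330264) (.leaf 160524441094))) (.node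 (.node (.leaf 53687104138) (.leaf 54760869256)) (.leaf 119185350912))) (.node (.node (.node (.leaf 37580972934) (.leaf 57445221803)) (.node (.leaf 69256369549) (.leaf 173409345961))) (.node (.node (.leaf 64424524808) (.leaf 163208796198)) (.leaf 121869726221))))) (.node (.node (.node (.node (.node (.leaf 7516194579) (.leaf 57982089991)) (.node (.leaf 10737420820) (.leaf 129385928584))) (.node (.node (.leaf 38654714909) (.leaf 150323891218)) (.leaf 114353525135))) (.node (.node (.node (.leaf 29527907333) (.leaf 146565793941)) (.node (.leaf 90194334860) (.leaf 171261861783))) (.node (.node (.leaf 51002748829) (.leaf 163745667241)) (.leaf 38117843855)))) (.node (.node (.node (.node (.leaf 10200549789) (.leaf 131533404819)) (.node (.leaf 82141269141) (.leaf 170188119694))) (.node (.node (.leaf 60129556514) (.leaf 34896617643)) (.leaf 56371467054))) (.node (.node (.node (.leaf 44023425284) (.leaf 140660212361)) (.node (.leaf 34896622860) (.leaf 158376961024))) (.node (.node (.leaf 536888366) (.leaf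 157303214751)) (.leaf 120259112996)))))) (.node (.node (.node (.node (.node (.node (.leaf 3758096514) (.leaf 127238436497)) (.node (.leaf 536873006) (.leaf 163208796179))) (.node (.node (.leaf 40802199073) (.leaf 151934504356)) (.leaf 114890402690))) (.node (.node (.node (.leaf 25232938881) (.leaf 136365244186)) (.node (.leaf 77846300805) (.leaf 165356269952))) (.node (.node (.leaf 58518943391) (.leaf 56371482888)) (.leaf 70866960558)))) (.node (.node (.node (.node (.leaf 19327357440) (.leaf 131533404827)) (.node (.leaf 75161945518) (.leaf 172335603861))) (.node (.node (.leaf 62813896749) (.leaf 40802191790)) (.leaf 112742918574))) (.node (.node (.node (.leaf 48318393602) (.leaf 142270825635)) (.node (.leaf 99858013450) (.leaf 151397638794))) (.node (.node (.leaf 60129558540) (.leaf 156229472675)) (.leaf 124017210275))))) (.node (.node (.node (.node (.node (.leaf 15032389130) (.leaf 132070275866)) (.node (.leaf 13421776024) (.leaf 158913803272))) (.node (.node (.leaf 37580972817) (.leaf 151934501505))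 (.leaf 57982086799))) (.node (.node (.node (.leaf 11274296494) (.leaf 144418309784)) (.node (.leaf 55297724942) (.leaf 172872474922))) (.node (.node (.leaf 53150232976) (.leaf 162135054122)) (.leaf 53150232987)))) (.node (.node (.node (.node (.leaf 10737421454) (.leaf 127775285514)) (.node (.leaf 79456913954) (.leaf 171798721153))) (.node (.node (.leaf 54223975079) (.leaf 154081988502)) (.leaf 10737421486))) (.node (.node (.node (.leaf 41875941149) (.leaf 120259119918)) (.node (.leaf 101468605229) (.leaf 175556830115))) (.node (.node (.leaf 50465877781) (.leaf 158376956827)) (.leaf 121869726107))))))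
def dF_11 : BT := .node (.node (.node (.node (.node (.node (.node (.leaf 536871057) (.leaf 123480339079)) (.node (.leaf 38117843842) (.leaf 162135054100))) (.node (.node (.leaf 34359746597) (.leaf 152471375401)) (.leaf 104689851434))) (.node (.node (.node (.leaf 1610613153) (.leaf 78383182337)) (.node (.leaf 79993784964) (.leaf 164282538256))) (.node (.node (.leaf 57445201313) (.leaf 154618859540)) (.leaf 36507230735)))) (.node (.node (.node (.node (.leaf 16106130831) (.leaf 131533404831)) (.node (.leaf 35970359704) (.leaf 169114377735))) (.node (.node (.leaf 62277040772) (.leaf 39728480013)) (.leaf 119722241928))) (.node (.node (.node (.leaf 46170909569) (.leaf 142807696668)) (.node (.leaf 96099916288) (.leaf 175019959046))) (.node (.node (.leaf 536880811) (.leaf 155692601636)) (.leaf 80530666378))))) (.node (.node (.node (.node (.node (.leaf 12348034060) (.leaf 135828373164)) (.node (.leaf 55297717140) (.leaf 156766335243))) (.node (.node (.leaf 38117843858) (.leaf 151397633298)) (.leaf 111669162029)))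 (.node (.node (.node (.leaf 30064778158) (.leaf 138512728334)) (.node (.leaf 90194334738) (.leaf 38117875978))) (.node (.node (.leaf 52076490898) (.leaf 161598183085)) (.leaf 35433488684)))) (.node (.node (.node (.node (.leaf 30) (.leaf 131533404815)) (.node (.leaf 81604398108) (.leaf 164282538278))) (.node (.node (.leaf 53150233001) (.leaf 53150233003)) (.leaf 51539627694))) (.node (.node (.node (.leaf 42949683204) (.leaf 123480342570)) (.node (.leaf 75698822796) (.leaf 175556829831))) (.node (.node (.leaf 10737420808) (.leaf 157840085788)) (.leaf 122943468191)))))) (.node (.node (.node (.node (.node (.node (.leaf 5905580053) (.leaf 132070275974)) (.node (.leaf 57982072343) (.leaf 161061312017))) (.node (.node (.leaf 39728456991) (.leaf 151934504348)) (.leaf 117037886592))) (.node (.node (.node (.leaf 11811166126) (.leaf 140123341577)) (.node (.leaf 35433499691) (.leaf 165356280337))) (.node (.node (.leaf 59592685469) (.leaf 163745636617)) (.leaf 536871084)))) (.node (.node (.node (.node (.leaf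 16643001245) (.leaf 131533404823)) (.node (.leaf 79456914057) (.leaf 168040635660))) (.node (.node (.leaf 61203298568) (.leaf 34896628910)) (.leaf 88583728046))) (.node (.node (.node (.leaf 46170898475) (.leaf 56371479722)) (.node (.leaf 96636773007) (.leaf 174483088017))) (.node (.node (.leaf 71940719494) (.leaf 156766343712)) (.leaf 121332855080))))) (.node (.node (.node (.node (.node (.leaf 13421776016) (.leaf 131533404839)) (.node (.leaf 39191585929) (.leaf 158913827328))) (.node (.node (.leaf 39191585794) (.leaf 78383162414)) (.leaf 50465894146))) (.node (.node (.node (.leaf 33822875521) (.leaf 142807696661)) (.node (.leaf 84288753280) (.leaf 173409345923))) (.node (.node (.leaf 54223974922) (.leaf 155692601614)) (.leaf 78920042906)))) (.node (.node (.node (.node (.leaf 536876576) (.leaf 35970381959)) (.node (.leaf 79456913942) (.leaf 171798732677))) (.node (.node (.leaf 55297717157) (.leaf 153008218497)) (.leaf 11811177902))) (.node (.node (.node (.leaf 36507230761) (.leaf 147639536023))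 (.leaf 108984817707)) (.node (.node (.leaf 38117843862) (.leaf 158913827864)) (.leaf 120795984023))))))
def dF_12 : BT := .node dF_10 dF_11
def dF_13 : BT := .node dF_9 dF_12
def dF_14 : BT := .node dF_6 dF_13
def dF_15 : BT := .node (.node (.node (.node (.node (.node (.node (.leaf 4) (.leaf 121332855060)) (.node (.leaf 34896617622) (.leaf 162135054104))) (.node (.node (.leaf 40802199079) (.leaf 147639536031)) (.leaf 95026177323))) (.node (.node (.node (.leaf 21474841518) (.leaf 36507253253)) (.node (.leaf 80530656020) (.leaf 158376958338))) (.node (.node (.leaf 52076490917) (.leaf 153008246416)) (.leaf 10200549787)))) (.node (.node (.node (.node (.leaf 10200549776) (.leaf 128312178599)) (.node (.leaf 51539619850) (.leaf 162671924870))) (.node (.node (.leaf 35433488518) (.leaf 38654734849)) (.leaf 119185370904))) (.node (.node (.node (.leaf 14495514797) (.leaf 142807696657)) (.node (.leaf 51539627532) (.leaf 173409345941))) (.node (.node (.leaf 50465877760) (.leaf 157840085800)) (.leaf 55297717147)))))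 (.node (.node (.node (.node (.node (.leaf 536872213) (.leaf 135291502214)) (.node (.leaf 54760846103) (.leaf 157840085777))) (.node (.node (.leaf 36507230751) (.leaf 150860762266)) (.leaf 89120599054))) (.node (.node (.node (.leaf 10200553902) (.leaf 143344567809)) (.node (.leaf 84825624450) (.leaf 165356280349))) (.node (.node (.leaf 56371459229) (.leaf 155692603532)) (.leaf 39728456975)))) (.node (.node (.node (.node (.leaf 12348034990) (.leaf 128312178583)) (.node (.leaf 82678130179) (.leaf 164819409325))) (.node (.node (.leaf 1610627083) (.leaf 10200556935)) (.leaf 89120599086))) (.node (.node (.node (.leaf 45634038404) (.leaf 141733954435)) (.node (.leaf 95026174213) (.leaf 174483088030))) (.node (.node (.leaf 72477590278) (.leaf 159987569952)) (.leaf 121869726119)))))) (.node (.node (.node (.node (.node (.node (.leaf 3758097421) (.leaf 54760861696)) (.node (.leaf 1610613142) (.leaf 158913827860))) (.node (.node (.leaf 38654714915) (.leaf 150323891245)) (.leaf 13958669958))) (.node (.node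 (.node (.leaf 27380423173) (.leaf 136365223944)) (.node (.leaf 78920033195) (.leaf 160524443778))) (.node (.node (.leaf 54223975073) (.leaf 154618859552)) (.leaf 11274291855)))) (.node (.node (.node (.node (.leaf 18790486533) (.leaf 128312178591)) (.node (.leaf 39191585944) (.leaf 172335571465))) (.node (.node (.leaf 63887653764) (.leaf 124017211522)) (.leaf 119722241953))) (.node (.node (.node (.leaf 49392135813) (.leaf 142807696680)) (.node (.leaf 99321142536) (.leaf 150860768011))) (.node (.node (.leaf 7516208792) (.leaf 158913827876)) (.leaf 124017210255))))) (.node (.node (.node (.node (.node (.leaf 15569256475) (.leaf 131533382023)) (.node (.leaf 51539619860) (.leaf 120795992842))) (.node (.node (.leaf 34896617618) (.leaf 150323891330)) (.leaf 111132291117))) (.node (.node (.node (.leaf 31138515492) (.leaf 141197083564)) (.node (.leaf 88046850576) (.leaf 172872474902))) (.node (.node (.leaf 58518943376) (.leaf 156766343722)) (.leaf 39728457004)))) (.node (.node (.node (.node (.leaf 11811162918)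 (.leaf 128849049614)) (.node (.leaf 81604398120) (.leaf 171798732834))) (.node (.node (.leaf 59592685479) (.leaf 119185378948)) (.leaf 57445201325))) (.node (.node (.node (.leaf 41875941126) (.leaf 147102642219)) (.node (.leaf 102005497518) (.leaf 175556830098))) (.node (.node (.leaf 50465882926) (.leaf 161061312028)) (.leaf 123480339228))))))
def dF_16 : BT := .node (.node (.node (.node (.node (.node (.node (.leaf 2147484301) (.leaf 120259112976)) (.node (.leaf 37580972821) (.leaf 162135054102))) (.node (.node (.leaf 39728456997) (.leaf 152471375365)) (.leaf 97710531242))) (.node (.node (.node (.leaf 10737423662) (.leaf 129385898379)) (.node (.leaf 79456913936) (.leaf 164819409302))) (.node (.node (.leaf 53150232995) (.leaf 119185379336)) (.leaf 57982066825)))) (.node (.node (.node (.node (.leaf 10737420841) (.leaf 128312178595)) (.node (.leaf 53687104011) (.leaf 55297743112))) (.node (.node (.leaf 56908330378) (.leaf 39191585963)) (.leaf 119722221581))) (.node (.node (.node (.leaf 40802199172)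 (.leaf 143344567712)) (.node (.leaf 1610634795) (.leaf 174483088133))) (.node (.node (.leaf 61203299500) (.leaf 158376956839)) (.leaf 125090952453))))) (.node (.node (.node (.node (.node (.leaf 9126807819) (.leaf 135828373144)) (.node (.leaf 70866977300) (.leaf 123480348298))) (.node (.node (.leaf 35433488669) (.leaf 150323891207)) (.leaf 113279789708))) (.node (.node (.node (.leaf 32749133579) (.leaf 145492051842)) (.node (.leaf 91268076820) (.leaf 121869736456))) (.node (.node (.leaf 57445201298) (.leaf 156229472685)) (.leaf 78920042924)))) (.node (.node (.node (.node (.leaf 11811163148) (.leaf 128312178579)) (.node (.leaf 82141269155) (.leaf 164282538255))) (.node (.node (.leaf 58518943401) (.leaf 57982072363)) (.leaf 52613361965))) (.node (.node (.node (.leaf 43486554414) (.leaf 139586470277)) (.node (.leaf 89657463817) (.leaf 174483088391))) (.node (.node (.leaf 5905580055) (.leaf 160524440991)) (.leaf 120795984035)))))) (.node (.node (.node (.node (.node (.node (.leaf 1073742098) (.leaf 127238408746))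 (.node (.leaf 41875947438) (.leaf 159987569939))) (.node (.node (.leaf 37580972833) (.leaf 150860762274)) (.leaf 118111618946))) (.node (.node (.node (.leaf 25232938887) (.leaf 136365244196)) (.node (.leaf 77309423369) (.leaf 56908356782))) (.node (.node (.leaf 55297717151) (.leaf 158376956934)) (.leaf 80530656015)))) (.node (.node (.node (.node (.leaf 19327357317) (.leaf 128312178587)) (.node (.leaf 13958661900) (.leaf 172335603869))) (.node (.node (.leaf 61740169774) (.leaf 35970370478)) (.leaf 56908330373))) (.node (.node (.node (.leaf 47781522562) (.leaf 142270825631)) (.node (.leaf 98784271499) (.leaf 156766347904))) (.node (.node (.leaf 64961396878) (.leaf 159450698915)) (.leaf 122943468205))))) (.node (.node (.node (.node (.node (.leaf 13421776018) (.leaf 132070275878)) (.node (.leaf 14495518091) (.leaf 159987568640))) (.node (.node (.leaf 34359746577) (.leaf 121332859438)) (.leaf 34896637569))) (.node (.node (.node (.leaf 536878638) (.leaf 141197083544)) (.node (.leaf 86436237708) (.leaf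 38117876109))) (.node (.node (.leaf 60129542539) (.leaf 161598183054)) (.leaf 82141269146)))) (.node (.node (.node (.node (.leaf 22011712773) (.leaf 56371478146)) (.node (.leaf 80530656032) (.leaf 171798732823))) (.node (.node (.leaf 51002748839) (.leaf 153545089677)) (.leaf 57982072347))) (.node (.node (.node (.leaf 41875941161) (.leaf 147639529475)) (.leaf 105226723973)) (.node (.node (.leaf 9126807703) (.leaf 161598183067)) (.leaf 122406597144))))))
def dF_17 : BT := .node dF_15 dF_16
def dF_18 : BT := .node (.node (.node (.node (.node (.node (.node (.leaf 1073742082) (.leaf 120795984019)) (.node (.leaf 41339070086) (.leaf 157840085782))) (.node (.node (.leaf 36507230759) (.leaf 147639536045)) (.leaf 96636789675))) (.node (.node (.node (.leaf 23085454852) (.leaf 35970381963)) (.node (.leaf 79993784979) (.leaf 121332865417))) (.node (.node (.leaf 57445201315) (.leaf 153008246431)) (.leaf 40265342254)))) (.node (.node (.node (.node (.leaf 11811162880) (.leaf 128312178597)) (.node (.leaf 55834588184)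 (.leaf 122943477643))) (.node (.node (.leaf 52613362052) (.leaf 55834608686)) (.leaf 119185355020))) (.node (.node (.node (.leaf 36507230848) (.leaf 143881433003)) (.node (.leaf 1610634650) (.leaf 173409345957))) (.node (.node (.leaf 64424510863) (.leaf 162135054120)) (.leaf 120795984134))))) (.node (.node (.node (.node (.node (.leaf 7516192791) (.leaf 34896641070)) (.node (.leaf 57982072341) (.leaf 163208796290))) (.node (.node (.leaf 39728456989) (.leaf 150323891214)) (.leaf 114890402691))) (.node (.node (.node (.leaf 1610613155) (.leaf 146565793921)) (.node (.leaf 89120592774) (.leaf 171261861779))) (.node (.node (.leaf 52076490909) (.leaf 163745667237)) (.leaf 38654729134)))) (.node (.node (.node (.node (.leaf 10737420829) (.leaf 128312178581)) (.node (.leaf 82141269137) (.leaf 169114377614))) (.node (.node (.leaf 60129556510) (.leaf 57982088750)) (.leaf 54760846095))) (.node (.node (.node (.leaf 44560296320) (.leaf 140660207659)) (.node (.leaf 89657464845) (.leaf 151397639181))) (.node (.node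 (.leaf 74088187144) (.leaf 156229472671)) (.leaf 121332855076)))))) (.node (.node (.node (.node (.node (.node (.leaf 4294968337) (.leaf 127238436480)) (.node (.leaf 1610626951) (.leaf 156229472658))) (.node (.node (.leaf 34359746595) (.leaf 150860762278)) (.leaf 113816660620))) (.node (.node (.node (.leaf 536877602) (.leaf 136365244182)) (.node (.leaf 77846291627) (.leaf 164819406080))) (.node (.node (.leaf 59592685471) (.leaf 154618831882)) (.leaf 1073745454)))) (.node (.node (.node (.node (.leaf 536875548) (.leaf 128312178589)) (.node (.leaf 16106145668) (.leaf 172335603857))) (.node (.node (.leaf 62813911688) (.leaf 40265346818)) (.leaf 53150233356))) (.node (.node (.node (.leaf 48855253035) (.leaf 141733954596)) (.node (.leaf 99858009514) (.leaf 53150261897))) (.node (.node (.leaf 68719493126) (.leaf 163208796194)) (.leaf 124017210271))))) (.node (.node (.node (.node (.node (.leaf 15032389126) (.leaf 132070275862)) (.node (.leaf 10737420825) (.leaf 121332863756))) (.node (.node (.leaf 38654714897)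 (.leaf 151934504323)) (.leaf 118648479874))) (.node (.node (.node (.leaf 11811167150) (.leaf 141197083546)) (.node (.leaf 88583713807) (.leaf 172872474918))) (.node (.node (.leaf 54223975056) (.leaf 161061312042)) (.leaf 52613361946)))) (.node (.node (.node (.node (.leaf 38) (.leaf 127775290886)) (.node (.leaf 80530656034) (.leaf 161061314572))) (.node (.node (.leaf 55297717159) (.leaf 154081988498)) (.leaf 33822870830))) (.node (.node (.node (.leaf 41875941137) (.leaf 149787016836)) (.node (.leaf 102542362255) (.leaf 175556830111))) (.node (.node (.leaf 536871063) (.leaf 157303214747)) (.leaf 122943468187))))))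
def dF_19 : BT := .node (.node (.node (.node (.node (.node (.node (.leaf 536871041) (.leaf 120259112974)) (.node (.leaf 39728456964) (.leaf 163208796180))) (.node (.node (.leaf 35433488677) (.leaf 152471375397)) (.leaf 105226723715))) (.node (.node (.node (.leaf 33) (.leaf 79456924417)) (.node (.leaf 79993774763) (.leaf 158913829122))) (.node (.node (.leaf 58518943393) (.leaf 154618859536)) (.leaf 34359746575)))) (.node (.node (.node (.node (.leaf 15032389388) (.leaf 128312178593)) (.node (.leaf 34896617624) (.leaf 168040635661))) (.node (.node (.leaf 61203298689) (.leaf 40265330478)) (.leaf 52613377927))) (.node (.node (.node (.leaf 45097167495) (.leaf 82141283596)) (.node (.leaf 95026174212) (.leaf 136365253379))) (.node (.node (.leaf 65498266888) (.leaf 162671925159)) (.leaf 81067537582))))) (.node (.node (.node (.node (.node (.leaf 11274291980) (.leaf 135828373160)) (.node (.leaf 56371459220) (.leaf 156229464459))) (.node (.node (.leaf 39191585938) (.leaf 150860762259)) (.leaf 112206047493)))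 (.node (.node (.node (.leaf 29527907201) (.leaf 145492051841)) (.node (.leaf 87509979541) (.leaf 172872474882))) (.node (.node (.leaf 53150232978) (.leaf 160524441005)) (.leaf 81604398125)))) (.node (.node (.node (.node (.leaf 536871071) (.leaf 128312178577)) (.node (.leaf 81604398102) (.leaf 165356280358))) (.node (.node (.leaf 54223975081) (.leaf 52613361962)) (.leaf 13421791022))) (.node (.node (.node (.leaf 42949683200) (.leaf 137975857158)) (.node (.leaf 100931747099) (.leaf 175556830084))) (.node (.node (.leaf 10200564617) (.leaf 156766343708)) (.leaf 120259112992)))))) (.node (.node (.node (.node (.node (.node (.leaf 5905581614) (.leaf 130996533890)) (.node (.leaf 58518937615) (.leaf 162135054097))) (.node (.node (.leaf 40802199071) (.leaf 150860762270)) (.leaf 89657470094))) (.node (.node (.node (.leaf 26843548195) (.leaf 139049599493)) (.node (.leaf 36507241259) (.leaf 165356269960))) (.node (.node (.leaf 51002748831) (.leaf 162671925253)) (.leaf 65498261294)))) (.node (.node (.node (.node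 (.leaf 11274293379) (.leaf 128312178585)) (.node (.leaf 78383171973) (.leaf 165356281741))) (.node (.node (.leaf 61203298560) (.leaf 119722247726)) (.leaf 114890396206))) (.node (.node (.node (.leaf 46170909442) (.leaf 142807676203)) (.node (.leaf 37580987022) (.leaf 174483088040))) (.node (.node (.leaf 17051) (.leaf 155692601632)) (.leaf 122406597160))))) (.node (.node (.node (.node (.node (.leaf 14495518080) (.leaf 128312178601)) (.node (.leaf 40802199051) (.leaf 159987568908))) (.node (.node (.leaf 39728456842) (.leaf 120259117870)) (.leaf 34359766790))) (.node (.node (.node (.leaf 33822867845) (.leaf 143881438741)) (.node (.leaf 84825624451) (.leaf 173409345929))) (.node (.node (.leaf 56371459076) (.leaf 156766343694)) (.leaf 79993784986)))) (.node (.node (.node (.node (.leaf 24159196800) (.leaf 129385920260)) (.node (.leaf 80530656022) (.leaf 171261859083))) (.node (.node (.leaf 56371459237) (.leaf 153008246423)) (.leaf 35970359695))) (.node (.node (.node (.leaf 37580972841) (.leaf 147639536019))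 (.leaf 109521689987)) (.node (.node (.leaf 39191585942) (.leaf 157840085784)) (.leaf 121869726103))))))
def dF_20 : BT := .node dF_18 dF_19
def dF_21 : BT := .node dF_17 dF_20
def dF_22 : BT := .node (.node (.node (.node (.node (.node (.node (.leaf 140) (.leaf 122943468179)) (.node (.leaf 39191585926) (.leaf 155692601622))) (.node (.node (.leaf 38654714919) (.leaf 147639536037)) (.leaf 96099918890))) (.node (.node (.node (.leaf 22548580896) (.leaf 36507253004)) (.node (.leaf 78383171860) (.leaf 120795994372))) (.node (.node (.leaf 59592685475) (.leaf 153008240768)) (.leaf 10737420827)))) (.node (.node (.node (.node (.leaf 13421776001) (.leaf 130459662757)) (.node (.leaf 53687104024) (.leaf 161598173826))) (.node (.node (.leaf 50465877898) (.leaf 38654741645)) (.leaf 119185370914))) (.node (.node (.node (.leaf 34359746689) (.leaf 127238440450)) (.node (.leaf 83215011211) (.leaf 173409345949))) (.node (.node (.leaf 51539619840) (.leaf 159987569960)) (.leaf 119185355021))))) (.node (.node (.node (.node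 (.node (.leaf 8053063703) (.leaf 56908348846)) (.node (.leaf 52613361943) (.leaf 147639538185))) (.node (.node (.leaf 34359746591) (.leaf 150860762264)) (.leaf 115427267215))) (.node (.node (.node (.leaf 6830) (.leaf 145492051968)) (.node (.leaf 86973108620) (.leaf 155692603915))) (.node (.node (.leaf 54223975069) (.leaf 163745667229)) (.leaf 26)))) (.node (.node (.node (.node (.leaf 11274291842) (.leaf 130459662741)) (.node (.leaf 34359758123) (.leaf 165356280362))) (.node (.node (.leaf 8589948942) (.leaf 51539617165)) (.leaf 55297717135))) (.node (.node (.node (.leaf 45097167360) (.leaf 141197083393)) (.node (.leaf 94489294339) (.leaf 174483088038))) (.node (.node (.leaf 73551332616) (.leaf 162135054112)) (.leaf 123480339236)))))) (.node (.node (.node (.node (.node (.node (.leaf 4294968494) (.leaf 55297732614)) (.node (.leaf 11274291863) (.leaf 155692601730))) (.node (.node (.leaf 36507230755) (.leaf 150860762280)) (.leaf 111669176450))) (.node (.node (.node (.leaf 28991036160) (.leaf 136365244176))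 (.node (.leaf 38654724394) (.leaf 120795994369))) (.node (.node (.leaf 52076490913) (.leaf 154618859560)) (.leaf 93952409774)))) (.node (.node (.node (.node (.leaf 20401099520) (.leaf 130459662749)) (.node (.leaf 75161945740) (.leaf 123480350849))) (.node (.node (.leaf 63350782720) (.leaf 124017210283)) (.leaf 119722241961))) (.node (.node (.node (.leaf 49392135854) (.leaf 142270825639)) (.node (.leaf 100394884490) (.leaf 175019959069))) (.node (.node (.leaf 9126821802) (.leaf 161061312036)) (.leaf 124017210263))))) (.node (.node (.node (.node (.node (.leaf 15032389120) (.leaf 132070275854)) (.node (.leaf 40265328024) (.leaf 121332863757))) (.node (.node (.leaf 40802199057) (.leaf 151934504336)) (.leaf 110595434158))) (.node (.node (.node (.leaf 31675391492) (.leaf 143344567706)) (.node (.leaf 89657455887) (.leaf 172872474910))) (.node (.node (.leaf 56371459216) (.leaf 158913827882)) (.leaf 39728456986)))) (.node (.node (.node (.node (.leaf 14495518119) (.leaf 127775308590)) (.node (.leaf 80530656038)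 (.leaf 164282538274))) (.node (.node (.leaf 57445201319) (.leaf 37044129676)) (.leaf 35433493645))) (.node (.node (.node (.leaf 41875941122) (.leaf 147639536138)) (.node (.leaf 12884926380) (.leaf 151934509963))) (.node (.node (.leaf 536871047) (.leaf 163208796186)) (.leaf 121332855068))))))
def dF_23 : BT := .node (.node (.node (.node (.node (.node (.node (.leaf 2684354577) (.leaf 122406597005)) (.node (.leaf 35433488661) (.leaf 155692601620))) (.node (.node (.leaf 37580972837) (.leaf 152471375389)) (.leaf 105226723848))) (.node (.node (.node (.leaf 536876590) (.leaf 124017199877)) (.node (.leaf 81067516331) (.leaf 164819409310))) (.node (.node (.leaf 51002748835) (.leaf 154618859527)) (.leaf 57982072334)))) (.node (.node (.node (.node (.leaf 1610613160) (.leaf 130459662753)) (.node (.leaf 53150232963) (.leaf 165893151498))) (.node (.node (.leaf 59055814532) (.leaf 124017211950)) (.leaf 119722241937))) (.node (.node (.node (.leaf 42949683337) (.leaf 142807696769)) (.node (.leaf 93415538860) (.leaf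 155692606208))) (.node (.node (.leaf 65498266880) (.leaf 160524440999)) (.leaf 82141279749))))) (.node (.node (.node (.node (.node (.leaf 536872984) (.leaf 135828373152)) (.node (.leaf 11811162900) (.leaf 163208786442))) (.node (.node (.leaf 41339070098) (.leaf 151934504343)) (.leaf 53150247212))) (.node (.node (.node (.leaf 32749133440) (.leaf 145492051860)) (.node (.leaf 89657463701) (.leaf 38117875713))) (.node (.node (.leaf 55297717138) (.leaf 158376956845)) (.leaf 36507230764)))) (.node (.node (.node (.node (.leaf 13421776031) (.leaf 130459662737)) (.node (.leaf 82141268999) (.leaf 164819409321))) (.node (.node (.leaf 56371459241) (.leaf 127775307562)) (.leaf 56908338094))) (.node (.node (.node (.leaf 43486554246) (.leaf 137975853738)) (.node (.leaf 56908330370) (.leaf 175556830254))) (.node (.node (.leaf 66572003095) (.leaf 162671925151)) (.leaf 122406597152)))))) (.node (.node (.node (.node (.node (.node (.leaf 5368710541) (.leaf 128849049734)) (.node (.leaf 33822881582) (.leaf 157840085779)))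 (.node (.node (.leaf 35433488673) (.leaf 150860762272)) (.leaf 57445215532))) (.node (.node (.node (.leaf 10200553891) (.leaf 130996535304)) (.node (.leaf 38654724395) (.leaf 163208797870))) (.node (.node (.leaf 53150232991) (.leaf 160524441095)) (.leaf 41875955246)))) (.node (.node (.node (.node (.leaf 17716742813) (.leaf 130459662745)) (.node (.leaf 75698816678) (.leaf 172335603875))) (.node (.node (.leaf 61740154925) (.leaf 36507251591)) (.leaf 54760846086))) (.node (.node (.node (.leaf 47244651520) (.leaf 141733954588)) (.node (.leaf 98247400329) (.leaf 175019959085))) (.node (.node (.leaf 16909) (.leaf 161598183075)) (.leaf 120795984045))))) (.node (.node (.node (.node (.node (.leaf 11274291858) (.leaf 130459662761)) (.node (.leaf 34359746570) (.leaf 159987570694))) (.node (.node (.leaf 40802198918) (.leaf 121332855083)) (.leaf 34896637578))) (.node (.node (.node (.leaf 37) (.leaf 143344567702)) (.node (.leaf 85899366535) (.leaf 173946216878))) (.node (.node (.leaf 59055814274) (.leaf 158913827854))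 (.leaf 35970359707)))) (.node (.node (.node (.node (.leaf 24159196935) (.leaf 35433510659)) (.node (.leaf 80530656028) (.leaf 171798732829))) (.node (.node (.leaf 58518943397) (.leaf 153545117460)) (.leaf 34359752366))) (.node (.node (.node (.leaf 39728457001) (.leaf 55834610055)) (.leaf 107374208131)) (.node (.node (.leaf 41339070102) (.leaf 155692601624)) (.leaf 120259112984))))))
def dF_24 : BT := .node dF_22 dF_23
def dF_25 : BT := .node (.node (.node (.node (.node (.node (.node (.leaf 1073742090) (.leaf 122406597136)) (.node (.leaf 39728456981) (.leaf 159987569942))) (.node (.node (.leaf 34359746599) (.leaf 151397633415)) (.leaf 79456920334))) (.node (.node (.node (.leaf 11811165102) (.leaf 130996533388)) (.node (.leaf 77846300819) (.leaf 164282536843))) (.node (.node (.leaf 55297717155) (.leaf 153008246439)) (.leaf 57982066819)))) (.node (.node (.node (.node (.leaf 11811163038) (.leaf 130459662755)) (.node (.leaf 57982072344) (.leaf 158376956677))) (.node (.node (.leaf 54760846209) (.leaf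 54760846123)) (.leaf 53150233601))) (.node (.node (.node (.leaf 38654715010) (.leaf 143344563725)) (.node (.leaf 1610634794) (.leaf 173409345965))) (.node (.node (.leaf 64961383951) (.leaf 156229472679)) (.leaf 122943468295))))) (.node (.node (.node (.node (.node (.leaf 6979321992) (.leaf 135828373136)) (.node (.leaf 13958647060) (.leaf 123480348556))) (.node (.node (.leaf 37580972829) (.leaf 150323891222)) (.leaf 86436243982))) (.node (.node (.node (.leaf 30601649413) (.leaf 146565793945)) (.node (.leaf 91268058370) (.leaf 171261861791))) (.node (.node (.leaf 59592685458) (.leaf 163745667243)) (.leaf 38654714924)))) (.node (.node (.node (.node (.leaf 536871069) (.leaf 130459662739)) (.node (.leaf 82141269145) (.leaf 171261861774))) (.node (.node (.leaf 60129556518) (.leaf 10030)) (.leaf 55834588045))) (.node (.node (.node (.leaf 44023414827) (.leaf 121332859435)) (.node (.leaf 57445201154) (.leaf 176093701137))) (.node (.node (.leaf 5368709257) (.leaf 158376956831)) (.leaf 122943468195)))))) (.node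 (.node (.node (.node (.node (.node (.leaf 536871043) (.leaf 127238436501)) (.node (.leaf 2222) (.leaf 162135054099))) (.node (.node (.leaf 39728456993) (.leaf 150860762276)) (.leaf 115964144774))) (.node (.node (.node (.leaf 25769809838) (.leaf 136365244190)) (.node (.leaf 77846300809) (.leaf 121869736451))) (.node (.node (.leaf 57445201311) (.leaf 156229472772)) (.leaf 39728471214)))) (.node (.node (.node (.node (.leaf 18790486417) (.leaf 130459662747)) (.node (.leaf 33822885804) (.leaf 160524443788))) (.node (.node (.leaf 62813911682) (.leaf 40265328043)) (.leaf 85899358989))) (.node (.node (.node (.leaf 48318393604) (.leaf 141197083555)) (.node (.leaf 99858009515) (.leaf 175019959077))) (.node (.node (.leaf 59592685588) (.leaf 157303214755)) (.leaf 124017210279))))) (.node (.node (.node (.node (.node (.leaf 15032389139) (.leaf 132070275870)) (.node (.leaf 11811162904) (.leaf 155692602372))) (.node (.node (.leaf 36507230737) (.leaf 151934504199)) (.leaf 118648499858))) (.node (.node (.node (.leaf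 10737425710) (.leaf 143344567704)) (.node (.leaf 87509971727) (.leaf 172872474924))) (.node (.node (.leaf 52076490896) (.leaf 159450698895)) (.leaf 56908330266)))) (.node (.node (.node (.node (.leaf 1610613149) (.leaf 135828371213)) (.node (.leaf 78383171874) (.leaf 171798732819))) (.node (.node (.leaf 53150232999) (.leaf 153545117614)) (.leaf 50465885614))) (.node (.node (.node (.leaf 41875941153) (.leaf 120259120002)) (.node (.leaf 103079217691) (.leaf 175556830119))) (.node (.node (.leaf 21) (.leaf 159450698907)) (.leaf 120795984027))))))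
def dF_26 : BT := .node (.node (.node (.node (.node (.node (.node (.leaf 1073742096) (.leaf 121869725956)) (.node (.leaf 37044101762) (.leaf 161061312020))) (.node (.node (.leaf 40802199075) (.leaf 152471375405)) (.leaf 99321143594))) (.node (.node (.node (.leaf 25232939013) (.leaf 136365244294)) (.node (.leaf 37580982826) (.leaf 164282538260))) (.node (.node (.leaf 56371459233) (.leaf 154618859544)) (.leaf 11811162925)))) (.node (.node (.node (.node (.leaf 16643002373) (.leaf 130459662751)) (.node (.leaf 37044101784) (.leaf 170188119819))) (.node (.node (.leaf 63350782858) (.leaf 37580993281)) (.leaf 119722241930))) (.node (.node (.node (.leaf 47244651653) (.leaf 142807696672)) (.node (.leaf 97173658374) (.leaf 52613391112))) (.node (.node (.leaf 50465875371) (.leaf 156766343716)) (.leaf 57982088746))))) (.node (.node (.node (.node (.node (.leaf 13421776140) (.leaf 128849049645)) (.node (.leaf 54223975060) (.leaf 156229472773))) (.node (.node (.leaf 37044101778) (.leaf 78383189132)) (.leaf 84288759822)))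 (.node (.node (.node (.leaf 29527903013) (.leaf 139049599404)) (.node (.leaf 90194334736) (.leaf 37581005068))) (.node (.node (.leaf 51002748818) (.leaf 162671925165)) (.leaf 34896617645)))) (.node (.node (.node (.node (.leaf 10737420831) (.leaf 130459662735)) (.node (.leaf 81604398112) (.leaf 171261861797))) (.node (.node (.leaf 52076490921) (.leaf 150323891243)) (.leaf 52613361935))) (.node (.node (.node (.leaf 42412812168) (.leaf 137438984712)) (.node (.leaf 102005497740) (.leaf 175556824332))) (.node (.node (.leaf 13958647049) (.leaf 158913827868)) (.leaf 121869726111)))))) (.node (.node (.node (.node (.node (.node (.leaf 536872212) (.leaf 133144018060)) (.node (.leaf 56908330263) (.leaf 159987569937))) (.node (.node (.leaf 38654714911) (.leaf 150860762268)) (.leaf 116501015698))) (.node (.node (.node (.leaf 11274295470) (.leaf 141197083651)) (.node (.leaf 33822887302) (.leaf 165356280341))) (.node (.node (.leaf 58518943389) (.leaf 127775315977)) (.leaf 536871054)))) (.node (.node (.node (.node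 (.leaf 11811164162) (.leaf 130459662743)) (.node (.leaf 80530656131) (.leaf 172335603885))) (.node (.node (.leaf 61203284013) (.leaf 35433488683)) (.leaf 55297717165))) (.node (.node (.node (.leaf 46170909444) (.leaf 141733934122)) (.node (.leaf 36507244942) (.leaf 174483088020))) (.node (.node (.leaf 5368726404) (.leaf 157840085792)) (.leaf 120259113000))))) (.node (.node (.node (.node (.node (.leaf 12348033936) (.leaf 130459662759)) (.node (.leaf 38117843849) (.leaf 35970389384))) (.node (.node (.leaf 38117843718) (.leaf 122406597163)) (.leaf 119185370896))) (.node (.node (.node (.leaf 33822870029) (.leaf 144955180817)) (.node (.leaf 84288745487) (.leaf 173409345935))) (.node (.node (.leaf 53150232836) (.leaf 155692601640)) (.leaf 38654714906)))) (.node (.node (.node (.node (.leaf 20937970561) (.leaf 130996511239)) (.node (.leaf 78383171862) (.leaf 164819407756))) (.node (.node (.leaf 54223975077) (.leaf 153008246410)) (.leaf 11274292270))) (.node (.node (.node (.leaf 35433488681) (.leaf 120259119501))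 (.leaf 82141275534)) (.node (.node (.leaf 37044101782) (.leaf 159987569944)) (.leaf 123480339220))))))
def dF_27 : BT := .node dF_25 dF_26
def dF_28 : BT := .node dF_24 dF_27
def dF_29 : BT := .node dF_21 dF_28
def dF_30 : BT := .node dF_14 dF_29
def dF_31 : BT := .node (.node (.node (.node (.node (.node (.node (.leaf 2) (.leaf 121869726101)) (.node (.leaf 35433488663) (.leaf 161598183065))) (.node (.node (.leaf 41339070118) (.leaf 147639536029)) (.leaf 81067533454))) (.node (.node (.node (.leaf 20937968416) (.leaf 130996533379)) (.node (.leaf 81067527061) (.leaf 164819409306))) (.node (.node (.leaf 52613361956) (.leaf 153008246414)) (.leaf 10200550702)))) (.node (.node (.node (.node (.leaf 10737420817) (.leaf 128849049638)) (.node (.leaf 51539610119) (.leaf 159987570052))) (.node (.node (.leaf 35970359556) (.leaf 120259113003)) (.leaf 119185370902))) (.node (.node (.node (.leaf 10200550700) (.leaf 143344567696)) (.node (.leaf 83751874319) (.leaf 38117876108))) (.node (.node (.leaf 50465868166)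 (.leaf 157303214761)) (.leaf 54760846106))))) (.node (.node (.node (.node (.node (.leaf 5368709254) (.leaf 134754631172)) (.node (.leaf 55297717142) (.leaf 158376956816))) (.node (.node (.leaf 37044101790) (.leaf 151397633307)) (.leaf 115964144775))) (.node (.node (.node (.leaf 11274291875) (.leaf 142807696777)) (.node (.leaf 84288753409) (.leaf 165356280347))) (.node (.node (.leaf 56908330268) (.leaf 155692603533)) (.leaf 39191600174)))) (.node (.node (.node (.node (.leaf 11811162883) (.leaf 128849049622)) (.node (.leaf 82141269248) (.leaf 165356280364))) (.node (.node (.leaf 60666413486) (.leaf 10200556934)) (.leaf 54760846125))) (.node (.node (.node (.leaf 45634038402) (.leaf 141197063083)) (.node (.leaf 35433502862) (.leaf 174483088028))) (.node (.node (.leaf 71940714260) (.leaf 159450698913)) (.leaf 122406597158)))))) (.node (.node (.node (.node (.node (.node (.leaf 536871810) (.leaf 120259097482)) (.node (.leaf 60129556489) (.leaf 159450698901))) (.node (.node (.leaf 39191585954) (.leaf 150860762284))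 (.leaf 104152980650))) (.node (.node (.node (.leaf 26843552141) (.leaf 136365244167)) (.node (.leaf 79456913925) (.leaf 164282538266))) (.node (.node (.leaf 54760846112) (.leaf 154618859550)) (.leaf 11274291981)))) (.node (.node (.node (.node (.leaf 18253615501) (.leaf 128849049630)) (.node (.leaf 38654714905) (.leaf 171798732935))) (.node (.node (.leaf 63887653762) (.leaf 80530645550)) (.leaf 119722241951))) (.node (.node (.node (.leaf 48855264771) (.leaf 142807696678)) (.node (.leaf 98784271498) (.leaf 150860768010))) (.node (.node (.leaf 66572003093) (.leaf 158376956837)) (.leaf 124017199882))))) (.node (.node (.node (.node (.node (.leaf 15032389252) (.leaf 132070258183)) (.node (.leaf 52613361941) (.leaf 120795992579))) (.node (.node (.leaf 35433488659) (.leaf 150860762256)) (.leaf 111132298895))) (.node (.node (.node (.leaf 11274296485) (.leaf 140660212525)) (.node (.leaf 88583721617) (.leaf 172872474900))) (.node (.node (.leaf 59055814417) (.leaf 156229472683)) (.leaf 40265328045)))) (.node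 (.node (.node (.node (.leaf 10737420838) (.leaf 129385920655)) (.node (.leaf 81604398118) (.leaf 164282538276))) (.node (.node (.leaf 50465877800) (.leaf 151934504362)) (.leaf 57445209134))) (.node (.node (.node (.leaf 41875941294) (.leaf 127238441222)) (.node (.leaf 103616107908) (.leaf 175556830096))) (.node (.node (.leaf 536872238) (.leaf 160524440989)) (.leaf 120259112990))))))
def dF_32 : BT := .node (.node (.node (.node (.node (.node (.node (.leaf 536871424) (.leaf 120795984017)) (.node (.leaf 38117843860) (.leaf 161598183063))) (.node (.node (.leaf 40265328036) (.leaf 140660215297)) (.leaf 106300463787))) (.node (.node (.node (.leaf 11811162913) (.leaf 37044101771)) (.node (.leaf 79993784977) (.leaf 164819409300))) (.node (.node (.leaf 53687104034) (.leaf 153008246444)) (.leaf 57982066824)))) (.node (.node (.node (.node (.leaf 11274291841) (.leaf 128849049634)) (.node (.leaf 54223974958) (.leaf 157840085897))) (.node (.node (.leaf 56371459334) (.leaf 39191612429)) (.leaf 10737446786))) (.node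 (.node (.node (.leaf 40265328134) (.leaf 143344567710)) (.node (.leaf 92341818890) (.leaf 151934509709))) (.node (.node (.leaf 64961395846) (.leaf 157840085798)) (.leaf 124554081411))))) (.node (.node (.node (.node (.node (.leaf 8589936781) (.leaf 135828373142)) (.node (.leaf 16106131220) (.leaf 123480348547))) (.node (.node (.leaf 35970359708) (.leaf 150323891200)) (.leaf 113816660398))) (.node (.node (.node (.leaf 32212262541) (.leaf 145492052014)) (.node (.leaf 91268076818) (.leaf 171261850121))) (.node (.node (.leaf 57982072339) (.leaf 155692601644)) (.leaf 78383171885)))) (.node (.node (.node (.node (.leaf 11811162885) (.leaf 128849049618)) (.node (.leaf 82141269153) (.leaf 164819409294))) (.node (.node (.leaf 59055814440) (.leaf 10737420843)) (.leaf 52613369774))) (.node (.node (.node (.leaf 44023425286) (.leaf 139049595307)) (.node (.leaf 56908330376) (.leaf 174483088390))) (.node (.node (.leaf 5368709271) (.leaf 159987569950)) (.leaf 121332855074)))))) (.node (.node (.node (.node (.node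 (.node (.leaf 19) (.leaf 127238436507)) (.node (.leaf 25) (.leaf 160524440978))) (.node (.node (.leaf 38117843872) (.leaf 151397633315)) (.leaf 117574757889))) (.node (.node (.node (.leaf 25232935714) (.leaf 136365244194)) (.node (.leaf 77846300683) (.leaf 57445227566))) (.node (.node (.leaf 55834588190) (.leaf 157840085896)) (.leaf 37044101775)))) (.node (.node (.node (.node (.leaf 18790484381) (.leaf 128849049626)) (.node (.leaf 75698816773) (.leaf 172335603867))) (.node (.node (.leaf 62277040640) (.leaf 36507251585)) (.leaf 112742912397))) (.node (.node (.node (.leaf 47781522560) (.leaf 141197083553)) (.node (.leaf 98784257167) (.leaf 175019959078))) (.node (.node (.leaf 69256364164) (.leaf 158913827874)) (.leaf 123480339244))))) (.node (.node (.node (.node (.node (.leaf 13958647059) (.leaf 132070275876)) (.node (.leaf 10737420810) (.leaf 163745666350))) (.node (.node (.leaf 34896617616) (.leaf 151397633283)) (.leaf 118648485260))) (.node (.node (.node (.leaf 10737420837) (.leaf 141733954585))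 (.node (.leaf 86973108398) (.leaf 38117875979))) (.node (.node (.leaf 50465877777) (.leaf 161061312015)) (.leaf 35433488666)))) (.node (.node (.node (.node (.leaf 21474841741) (.leaf 56371478144)) (.node (.leaf 81067527073) (.leaf 171798721161))) (.node (.node (.leaf 51539619878) (.leaf 153545089676)) (.leaf 118648485422))) (.node (.node (.node (.leaf 41875941159) (.leaf 147639536558)) (.leaf 104689852931)) (.node (.node (.leaf 41875947054) (.leaf 161061312026)) (.leaf 122943468185))))))
def dF_33 : BT := .node dF_31 dF_32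
def dF_34 : BT := .node (.node (.node (.node (.node (.node (.node (.leaf 1073742080) (.leaf 121332855058)) (.node (.leaf 37044101764) (.leaf 157303214743))) (.node (.node (.leaf 37044101798) (.leaf 53150255488)) (.leaf 107374205354))) (.node (.node (.node (.leaf 23622320288) (.leaf 35970382126)) (.node (.leaf 80530656018) (.leaf 121332865416))) (.node (.node (.leaf 57982072354) (.leaf 153008246427)) (.leaf 50465878029)))) (.node (.node (.node (.node (.leaf 12348033921) (.leaf 128849049636)) (.node (.leaf 55297717145) (.leaf 122943477378))) (.node (.node (.leaf 52076491010) (.leaf 122943468203)) (.leaf 119185370920))) (.node (.node (.node (.leaf 35970359810) (.leaf 143881424140)) (.node (.leaf 83215003407) (.leaf 173409345955))) (.node (.node (.leaf 1073757204) (.leaf 161598183081)) (.leaf 120259113096))))) (.node (.node (.node (.node (.node (.leaf 7516194562) (.leaf 56908348590)) (.node (.leaf 58518943380) (.leaf 163208796288))) (.node (.node (.leaf 40265328028) (.leaf 77846318092)) (.leaf 114890388397)))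 (.node (.node (.node (.leaf 1073742114) (.leaf 127238441093)) (.node (.leaf 88583721732) (.leaf 171261861777))) (.node (.node (.leaf 52613361948) (.leaf 163745667235)) (.leaf 78383171855)))) (.node (.node (.node (.node (.leaf 10200551854) (.leaf 128849049620)) (.node (.leaf 35433499690) (.leaf 168577506575))) (.node (.node (.leaf 60129556508) (.leaf 119722241963)) (.leaf 53150233005))) (.node (.node (.node (.leaf 44560296326) (.leaf 141197083398)) (.node (.leaf 94489294347) (.leaf 176093695245))) (.node (.node (.leaf 5368726807) (.leaf 155692601630)) (.leaf 121869726117)))))) (.node (.node (.node (.node (.node (.node (.leaf 536871826) (.leaf 127238408747)) (.node (.leaf 1610626950) (.leaf 156229472656))) (.node (.node (.leaf 34896617634) (.leaf 151397633319)) (.leaf 113279789578))) (.node (.node (.node (.leaf 28454158371) (.leaf 77309443852)) (.node (.leaf 78383171849) (.leaf 164282512264))) (.node (.node (.leaf 50465877792) (.leaf 154618832130)) (.leaf 10200549805)))) (.node (.node (.node (.node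 (.leaf 19864223773) (.leaf 128849049628)) (.node (.leaf 76772544260) (.leaf 172335603855))) (.node (.node (.leaf 62813911854) (.leaf 56371459243)) (.leaf 53150232967))) (.node (.node (.node (.leaf 48855264644) (.leaf 142270825637)) (.node (.leaf 33822891435) (.leaf 53150261896))) (.node (.node (.leaf 68719491353) (.leaf 162671925157)) (.leaf 124017210269))))) (.node (.node (.node (.node (.node (.leaf 15032385563) (.leaf 132070275860)) (.node (.leaf 50465877785) (.leaf 156766343942))) (.node (.node (.leaf 39191585936) (.leaf 152471375241)) (.leaf 34359766656))) (.node (.node (.node (.leaf 11274296484) (.leaf 141733954587)) (.node (.leaf 89120592775) (.leaf 172872474916))) (.node (.node (.leaf 54760846097) (.leaf 160524441003)) (.leaf 51539619867)))) (.node (.node (.node (.node (.leaf 10200549798) (.leaf 127775308421)) (.node (.leaf 81067527075) (.leaf 160524443659))) (.node (.node (.leaf 55834588198) (.leaf 154081988496)) (.leaf 13958662062))) (.node (.node (.node (.leaf 536880810) (.leaf 149250149250))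 (.node (.leaf 76235694094) (.leaf 175556830109))) (.node (.node (.leaf 536871061) (.leaf 156766343706)) (.leaf 123480339226))))))
def dF_35 : BT := .node (.node (.node (.node (.node (.node (.node (.leaf 536871470) (.leaf 120795984015)) (.node (.leaf 40265328004) (.leaf 156766343700))) (.node (.node (.leaf 35970359716) (.leaf 152471375395)) (.leaf 98247402027))) (.node (.node (.node (.leaf 536871073) (.leaf 124017199878)) (.node (.leaf 81067526915) (.leaf 164282527876))) (.node (.node (.leaf 59055814432) (.leaf 154618859534)) (.leaf 34359766925)))) (.node (.node (.node (.node (.leaf 11274291716) (.leaf 128849049632)) (.node (.leaf 58518943371) (.leaf 167503764612))) (.node (.node (.leaf 60666427660) (.leaf 55834588203)) (.leaf 52613377926))) (.node (.node (.node (.leaf 44560296453) (.leaf 142807696776)) (.node (.leaf 94489303174) (.leaf 136365253378))) (.node (.node (.leaf 65498266886) (.leaf 162135054118)) (.leaf 82141279753))))) (.node (.node (.node (.node (.node (.leaf 10737420932) (.leaf 135828373158))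 (.node (.leaf 56908330261) (.leaf 121869734283))) (.node (.node (.leaf 39728456979) (.leaf 151934504341)) (.leaf 112206040975))) (.node (.node (.node (.leaf 32749133480) (.leaf 145492051866)) (.node (.leaf 88046850580) (.leaf 162671927552))) (.node (.node (.leaf 53687104019) (.leaf 159987569964)) (.leaf 81067527084)))) (.node (.node (.node (.node (.leaf 16106131230) (.leaf 128849049616)) (.node (.leaf 81604398100) (.leaf 171261861799))) (.node (.node (.leaf 54760846120) (.leaf 135828373163)) (.leaf 56371459215))) (.node (.node (.node (.leaf 42949673003) (.leaf 123480342571)) (.node (.leaf 64961404458) (.leaf 175556830082))) (.node (.node (.leaf 50465882902) (.leaf 156229472669)) (.leaf 120795984033)))))) (.node (.node (.node (.node (.node (.node (.leaf 6442452482) (.leaf 130459662849)) (.node (.leaf 58518943369) (.leaf 162671925136))) (.node (.node (.leaf 41339070110) (.leaf 151397633311)) (.leaf 117037880335))) (.node (.node (.node (.leaf 10200553890) (.leaf 138512728461)) (.node (.leaf 79993774762)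 (.leaf 165356269958))) (.node (.node (.leaf 51539619870) (.leaf 162135054211)) (.leaf 536871066)))) (.node (.node (.node (.node (.leaf 17179873280) (.leaf 128849049624)) (.node (.leaf 77846300931) (.leaf 172335603881))) (.node (.node (.leaf 61203298566) (.leaf 36507230763)) (.leaf 88583713677))) (.node (.node (.node (.leaf 46170909614) (.leaf 142270811148)) (.node (.leaf 97710529289) (.leaf 174483088042))) (.node (.node (.leaf 70866977312) (.leaf 163208796192)) (.leaf 122943468201))))) (.node (.node (.node (.node (.node (.leaf 14495518096) (.leaf 128849049640)) (.node (.leaf 50465878028) (.leaf 159987540233))) (.node (.node (.leaf 39728456960) (.leaf 120795991424)) (.leaf 118648499610))) (.node (.node (.node (.leaf 13421780877) (.leaf 144418309780)) (.node (.leaf 51539627790) (.leaf 173409345799))) (.node (.node (.leaf 56908330118) (.leaf 157303214735)) (.leaf 37580972826)))) (.node (.node (.node (.node (.leaf 24159196974) (.leaf 129385921027)) (.node (.leaf 81067527063) (.leaf 171261859082)))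 (.node (.node (.leaf 56908330276) (.leaf 153008246425)) (.leaf 36507244974))) (.node (.node (.node (.leaf 38117843880) (.leaf 147639536017)) (.leaf 108984821248)) (.node (.node (.leaf 39728456983) (.leaf 157303214745)) (.leaf 122406597142))))))
def dF_36 : BT := .node dF_34 dF_35
def dF_37 : BT := .node dF_33 dF_36
def dF_38 : BT := .node (.node (.node (.node (.node (.node (.node (.leaf 10) (.leaf 123480339218)) (.node (.leaf 39728456966) (.leaf 163208796182))) (.node (.node (.leaf 39191585958) (.leaf 55834610058)) (.leaf 107911076139))) (.node (.node (.node (.leaf 11274294433) (.leaf 36507253249)) (.node (.leaf 78920042901) (.leaf 161061314562))) (.node (.node (.leaf 50465877796) (.leaf 153008246402)) (.leaf 10200549775)))) (.node (.node (.node (.node (.leaf 13958647040) (.leaf 130996533796)) (.node (.leaf 53150232985) (.leaf 161598182912))) (.node (.node (.leaf 10200559366) (.leaf 38654741644)) (.leaf 119185370912))) (.node (.node (.node (.leaf 10200555522) (.leaf 144955176581)) (.node (.leaf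 83214999430) (.leaf 173409345947))) (.node (.node (.leaf 52076490798) (.leaf 159450698921)) (.leaf 119722241965))))) (.node (.node (.node (.node (.node (.leaf 7516194697) (.leaf 57445219886)) (.node (.leaf 53150232982) (.leaf 155692601731))) (.node (.node (.leaf 34896617630) (.leaf 151397633305)) (.leaf 114890402579))) (.node (.node (.node (.leaf 10200549795) (.leaf 144955180935)) (.node (.leaf 86436237578) (.leaf 165356269955))) (.node (.node (.leaf 54760846108) (.leaf 163745667227)) (.leaf 14)))) (.node (.node (.node (.node (.leaf 12348033923) (.leaf 130996533780)) (.node (.leaf 82678140169) (.leaf 171261861803))) (.node (.node (.leaf 60129556482) (.leaf 51539617164)) (.leaf 55297717261))) (.node (.node (.node (.leaf 45097156651) (.leaf 120259117867)) (.node (.leaf 94489294337) (.leaf 174483088036))) (.node (.node (.leaf 73014461574) (.leaf 161598183073)) (.leaf 120259112998)))))) (.node (.node (.node (.node (.node (.node (.leaf 4831839360) (.leaf 120259097478)) (.node (.leaf 10737420822) (.leaf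 163208794508))) (.node (.node (.leaf 37044101794) (.leaf 151397633321)) (.leaf 111132305409))) (.node (.node (.node (.leaf 28991029283) (.leaf 136365244174)) (.node (.leaf 78920042883) (.leaf 164282538272))) (.node (.node (.leaf 52613361952) (.leaf 154618859558)) (.leaf 536874414)))) (.node (.node (.node (.node (.leaf 20401094685) (.leaf 130996533788)) (.node (.leaf 74625074692) (.leaf 161061314699))) (.node (.node (.leaf 63887653678) (.leaf 124017211533)) (.leaf 119722241959))) (.node (.node (.node (.leaf 49929006722) (.leaf 141197083561)) (.node (.leaf 92341820804) (.leaf 174483088002))) (.node (.node (.leaf 67645744919) (.leaf 160524440997)) (.leaf 124017210261))))) (.node (.node (.node (.node (.node (.leaf 15569260078) (.leaf 132070252811)) (.node (.leaf 40802199065) (.leaf 156766335107))) (.node (.node (.leaf 41339070096) (.leaf 151397633297)) (.leaf 84288759564))) (.node (.node (.node (.leaf 32212254884) (.leaf 143881438747)) (.node (.leaf 57445209102) (.leaf 172872474908))) (.node (.node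 (.leaf 56908330257) (.leaf 158376956843)) (.leaf 40265328027)))) (.node (.node (.node (.node (.leaf 13958647078) (.leaf 35433511691)) (.node (.leaf 81067527079) (.leaf 164819409315))) (.node (.node (.leaf 57982072358) (.leaf 154081960588)) (.leaf 35970373934))) (.node (.node (.node (.leaf 41875941120) (.leaf 55834610054)) (.node (.leaf 103079218349) (.leaf 175556830125))) (.node (.node (.leaf 10200549783) (.leaf 162671925149)) (.leaf 121869726109))))))
def dF_39 : BT := .node (.node (.node (.node (.node (.node (.node (.leaf 2684355374) (.leaf 122406597134)) (.node (.leaf 35970359700) (.leaf 155692601618))) (.node (.node (.leaf 38117843876) (.leaf 152471375387)) (.leaf 105763594888))) (.node (.node (.node (.leaf 10737420833) (.leaf 124017199872)) (.node (.leaf 77846300817) (.leaf 164819409308))) (.node (.node (.leaf 51539619874) (.leaf 154618859694)) (.leaf 57982072204)))) (.node (.node (.node (.node (.leaf 536871081) (.leaf 130996533792)) (.node (.leaf 51539619845) (.leaf 165356280450))) (.node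 (.node (.leaf 58518943490) (.leaf 38117843883)) (.leaf 57445216129))) (.node (.node (.node (.leaf 42412812295) (.leaf 143344567720)) (.node (.leaf 70866982671) (.leaf 175019959055))) (.node (.node (.leaf 41339075852) (.leaf 159987569958)) (.leaf 126701554945))))) (.node (.node (.node (.node (.node (.leaf 9126805529) (.leaf 135828373150)) (.node (.leaf 11274291861) (.leaf 154618861568))) (.node (.node (.leaf 41339070082) (.leaf 151397633302)) (.leaf 113279775277))) (.node (.node (.node (.leaf 32749133614) (.leaf 145492051856)) (.node (.leaf 90194334740) (.leaf 172335571713))) (.node (.node (.leaf 55834588179) (.leaf 157840085804)) (.leaf 37044101805)))) (.node (.node (.node (.node (.leaf 12884904990) (.leaf 130996533776)) (.node (.leaf 82141269161) (.leaf 165356280360))) (.node (.node (.leaf 56908330280) (.leaf 11811162922)) (.leaf 90194341166))) (.node (.node (.node (.leaf 43486554244) (.leaf 138512704512)) (.node (.leaf 89120594061) (.leaf 176093701143))) (.node (.node (.leaf 66035124375) (.leaf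 162135054110)) (.leaf 122943468193)))))) (.node (.node (.node (.node (.node (.node (.leaf 536872198) (.leaf 128312178692)) (.node (.leaf 59592671662) (.leaf 158376956818))) (.node (.node (.leaf 35970359712) (.leaf 151397633313)) (.leaf 117574743597))) (.node (.node (.node (.leaf 26306681092) (.leaf 136365244204)) (.node (.leaf 77846291626) (.leaf 127775317550))) (.node (.node (.leaf 53687104030) (.leaf 159987570053)) (.leaf 71403831342)))) (.node (.node (.node (.node (.leaf 10737422620) (.leaf 130996533784)) (.node (.leaf 11811177870) (.leaf 123480350852))) (.node (.node (.leaf 61740169610) (.leaf 36507251590)) (.leaf 87509979527))) (.node (.node (.node (.leaf 47244640299) (.leaf 142270825629)) (.node (.leaf 98247400451) (.leaf 175019959083))) (.node (.node (.leaf 70330089516) (.leaf 161061312034)) (.leaf 121332855084))))) (.node (.node (.node (.node (.node (.leaf 11811162899) (.leaf 130996533800)) (.node (.leaf 10200549770) (.leaf 159987570691))) (.node (.node (.leaf 40802199041) (.leaf 120795988654))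 (.leaf 34896637579))) (.node (.node (.node (.leaf 536871077) (.leaf 143881438743)) (.node (.leaf 53150240782) (.leaf 172872475143))) (.node (.node (.leaf 59592685316) (.leaf 163208796175)) (.leaf 80530656027)))) (.node (.node (.node (.node (.leaf 23622325901) (.leaf 35433510830)) (.node (.leaf 81067527069) (.leaf 171798732827))) (.node (.node (.leaf 59055814436) (.leaf 153545117458)) (.leaf 57445201295))) (.node (.node (.node (.leaf 40265328040) (.leaf 120259119491)) (.leaf 106837337089)) (.node (.node (.leaf 41339070088) (.leaf 163208796184)) (.leaf 120795984025))))))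
def dF_40 : BT := .node dF_38 dF_39
def dF_41 : BT := .node (.node (.node (.node (.node (.node (.node (.leaf 1073742088) (.leaf 122943468177)) (.node (.leaf 40265328020) (.leaf 159450698903))) (.node (.node (.leaf 34896617638) (.leaf 150860762373)) (.leaf 106300466056))) (.node (.node (.node (.leaf 11274294432) (.leaf 130996533389)) (.node (.leaf 78383171858) (.leaf 165356278027))) (.node (.node (.leaf 55834588194) (.leaf 153008246437)) (.leaf 57982066818)))) (.node (.node (.node (.node (.leaf 12348033796) (.leaf 130996533794)) (.node (.leaf 57445201305) (.leaf 161061312136))) (.node (.node (.leaf 54223975180) (.leaf 54760869257)) (.leaf 56371458305))) (.node (.node (.node (.leaf 38117843972) (.leaf 142807676202)) (.node (.leaf 14495536556) (.leaf 173409345963))) (.node (.node (.leaf 1073757338) (.leaf 155692601638)) (.leaf 122406597253))))) (.node (.node (.node (.node (.node (.leaf 6979323522) (.leaf 135828373134)) (.node (.leaf 13421776020) (.leaf 123480348546))) (.node (.node (.leaf 38117843868)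 (.leaf 150323891220)) (.leaf 87509985804))) (.node (.node (.node (.leaf 30064778381) (.leaf 146565793943)) (.node (.leaf 90731205889) (.leaf 171261861785))) (.node (.node (.leaf 50465877788) (.leaf 159450699020)) (.leaf 38654714895)))) (.node (.node (.node (.node (.leaf 4782) (.leaf 130996533778)) (.node (.leaf 82141269143) (.leaf 170724990735))) (.node (.node (.leaf 60129556516) (.leaf 34359746603)) (.leaf 56371459245))) (.node (.node (.node (.leaf 44023425288) (.leaf 140123336874)) (.node (.leaf 57445201152) (.leaf 157840090113))) (.node (.node (.leaf 6979323182) (.leaf 157840085790)) (.leaf 123480339234)))))) (.node (.node (.node (.node (.node (.node (.leaf 536871854) (.leaf 127238436499)) (.node (.leaf 1610626965) (.leaf 162671925138))) (.node (.node (.leaf 40265328032) (.leaf 151397633317)) (.leaf 115427273732))) (.node (.node (.node (.leaf 11811166089) (.leaf 136365244188)) (.node (.leaf 77846300807) (.leaf 165893140910))) (.node (.node (.leaf 57982072350) (.leaf 155692601734)) (.leaf 77846307246))))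 (.node (.node (.node (.node (.leaf 19327357456) (.leaf 130996533786)) (.node (.leaf 74625074828) (.leaf 160524443789))) (.node (.node (.leaf 62813911680) (.leaf 147102642222)) (.leaf 85899366796))) (.node (.node (.node (.leaf 48318393601) (.leaf 141733954594)) (.node (.leaf 99857999247) (.leaf 151397638795))) (.node (.node (.leaf 59592685589) (.leaf 156766343714)) (.leaf 124017210277))))) (.node (.node (.node (.node (.node (.leaf 15032389137) (.leaf 132070275868)) (.node (.leaf 12884904985) (.leaf 55834612744))) (.node (.node (.leaf 37044101776) (.leaf 139586473217)) (.leaf 118648499856))) (.node (.node (.node (.leaf 11811162917) (.leaf 143881438745)) (.node (.leaf 88046850691) (.leaf 154618863877))) (.node (.node (.leaf 52613361937) (.leaf 162671925163)) (.leaf 119722241947)))) (.node (.node (.node (.node (.leaf 1073742108) (.leaf 127775285515)) (.node (.leaf 78920042915) (.leaf 171798732817))) (.node (.node (.leaf 53687104038) (.leaf 153545117593)) (.leaf 10737420845))) (.node (.node (.node (.leaf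 41875941151) (.leaf 55297739438)) (.node (.leaf 102542346907) (.leaf 175556830117))) (.node (.node (.leaf 50465877783) (.leaf 158913827866)) (.leaf 121332855066))))))
def dF_42 : BT := .node (.node (.node (.node (.node (.node (.node (.leaf 17) (.leaf 122943468037)) (.node (.leaf 37580972802) (.leaf 161598183061))) (.node (.node (.leaf 41339070114) (.leaf 54760869418)) (.leaf 104689851435))) (.node (.node (.node (.leaf 11811166088) (.leaf 51539640072)) (.node (.leaf 79993784966) (.leaf 164282538258))) (.node (.node (.leaf 56908330272) (.leaf 154618859542)) (.leaf 80530662446)))) (.node (.node (.node (.node (.leaf 12348034946) (.leaf 130996533790)) (.node (.leaf 36507230745) (.leaf 169651248777))) (.node (.node (.leaf 62813911814) (.leaf 39728457003)) (.leaf 119722241943))) (.node (.node (.node (.leaf 46707780611) (.leaf 142807696670)) (.node (.leaf 96636787336) (.leaf 175019959061))) (.node (.node (.leaf 40802191786) (.leaf 156229472677)) (.leaf 57982088747))))) (.node (.node (.node (.node (.node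 (.leaf 12884905092) (.leaf 129385920684)) (.node (.leaf 54760846101) (.leaf 121332863747))) (.node (.node (.leaf 37580972819) (.leaf 151934504339)) (.leaf 111669176451))) (.node (.node (.node (.leaf 29527907469) (.leaf 138512728365)) (.node (.leaf 90731205777) (.leaf 172872474894))) (.node (.node (.leaf 51539619859) (.leaf 162135054124)) (.leaf 119185370925)))) (.node (.node (.node (.node (.leaf 1610613150) (.leaf 130996533774)) (.node (.leaf 81604398110) (.leaf 171798732836))) (.node (.node (.leaf 52613361960) (.leaf 136365244202)) (.leaf 51539619885))) (.node (.node (.node (.leaf 42412812334) (.leaf 137975853739)) (.node (.leaf 101468626692) (.leaf 175556830088))) (.node (.node (.leaf 11274291848) (.leaf 158376956829)) (.leaf 122406597150)))))) (.node (.node (.node (.node (.node (.node (.leaf 5905581448) (.leaf 132607147018)) (.node (.leaf 57445201302) (.leaf 160524440976))) (.node (.node (.leaf 39191585950) (.leaf 151397633309)) (.leaf 117037886601))) (.node (.node (.node (.leaf 11811162889)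 (.leaf 140660212619)) (.node (.leaf 82141257898) (.leaf 165356280339))) (.node (.node (.leaf 59055814428) (.leaf 35433519241)) (.leaf 536870924)))) (.node (.node (.node (.node (.leaf 17179873183) (.leaf 130996533782)) (.node (.leaf 79993785089) (.leaf 172335603883))) (.node (.node (.leaf 61203298570) (.leaf 56908330283)) (.leaf 55297724974))) (.node (.node (.node (.leaf 46170909440) (.leaf 56371479723)) (.node (.leaf 96636787337) (.leaf 174483088018))) (.node (.node (.leaf 72477574404) (.leaf 157303214753)) (.leaf 120795984041))))) (.node (.node (.node (.node (.node (.leaf 12884904977) (.leaf 130996533798)) (.node (.leaf 38654714889) (.leaf 157840085888))) (.node (.node (.leaf 38654714756) (.leaf 122943471790)) (.leaf 119185370890))) (.node (.node (.node (.leaf 10200555406) (.leaf 142270825620)) (.node (.leaf 84288753539) (.leaf 37581005195))) (.node (.node (.leaf 53687103878) (.leaf 163208796200)) (.leaf 38117843867)))) (.node (.node (.node (.node (.leaf 24159196840) (.leaf 129385920261)) (.node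 (.leaf 78920042903) (.leaf 165356280196))) (.node (.node (.leaf 54760846116) (.leaf 153008246407)) (.leaf 12884926382))) (.node (.node (.node (.leaf 35970359720) (.leaf 147639536025)) (.leaf 95026177322)) (.node (.node (.leaf 37580972823) (.leaf 159450698905)) (.leaf 120259112982))))))
def dF_43 : BT := .node dF_41 dF_42
def dF_44 : BT := .node dF_40 dF_43
def dF_45 : BT := .node dF_37 dF_44
def dF_46 : BT := .node (.node (.node (.node (.node (.node (.node (.leaf 6) (.leaf 120795984021)) (.node (.leaf 34359746583) (.leaf 162671925145))) (.node (.node (.leaf 40265328038) (.leaf 147639536033)) (.leaf 108447949957))) (.node (.node (.node (.leaf 20937970564) (.leaf 130996511237)) (.node (.leaf 79993784981) (.leaf 161061314563))) (.node (.node (.leaf 51539619876) (.leaf 153008246418)) (.leaf 536871342)))) (.node (.node (.node (.node (.leaf 11811163039) (.leaf 127775307558)) (.node (.leaf 51539619865) (.leaf 161598183302))) (.node (.node (.leaf 34359740802) (.leaf 39191595182)) (.leaf 119185370908)))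 (.node (.node (.node (.leaf 1073745452) (.leaf 144955180974)) (.node (.leaf 83751870342) (.leaf 173409345943))) (.node (.node (.leaf 50465875370) (.leaf 158376956841)) (.leaf 119185370894))))) (.node (.node (.node (.node (.node (.leaf 536872584) (.leaf 135828354186)) (.node (.leaf 54223975062) (.leaf 155692601735))) (.node (.node (.leaf 35970359710) (.leaf 150323891227)) (.leaf 115964144659))) (.node (.node (.node (.leaf 10737420835) (.leaf 143881438851)) (.node (.leaf 85362495492) (.leaf 165356280351))) (.node (.node (.leaf 55834588188) (.leaf 163745667223)) (.leaf 38117858094)))) (.node (.node (.node (.node (.leaf 11274293422) (.leaf 127775307542)) (.node (.leaf 40802209027) (.leaf 164282538284))) (.node (.node (.leaf 1610627340) (.leaf 10737448622)) (.leaf 55834596014))) (.node (.node (.node (.leaf 45097167534) (.leaf 141733954445)) (.node (.leaf 94489288847) (.leaf 174483088032))) (.node (.node (.leaf 71940714261) (.leaf 160524440993)) (.leaf 121332855078)))))) (.node (.node (.node (.node (.node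 (.node (.leaf 4294968451) (.leaf 120259097472)) (.node (.leaf 1610613128) (.leaf 158376956821))) (.node (.node (.leaf 38117843874) (.leaf 152471375362)) (.leaf 110058563338))) (.node (.node (.node (.leaf 27917294221) (.leaf 136365244160)) (.node (.leaf 79456913799) (.leaf 164282538268))) (.node (.node (.leaf 53687104032) (.leaf 154618859554)) (.leaf 15032401070)))) (.node (.node (.node (.node (.leaf 19327357581) (.leaf 127775307550)) (.node (.leaf 39728456985) (.leaf 36507263113))) (.node (.node (.leaf 63887653766) (.leaf 124017211523)) (.leaf 119722241955))) (.node (.node (.node (.leaf 49928994859) (.leaf 142270825641)) (.node (.leaf 99858013574) (.leaf 175019959065))) (.node (.node (.leaf 67108866199) (.leaf 159450698917)) (.leaf 124017210257))))) (.node (.node (.node (.node (.node (.leaf 15569260160) (.leaf 132070252801)) (.node (.leaf 41339070090) (.leaf 120795992589))) (.node (.node (.leaf 34359746579) (.leaf 150860762247)) (.leaf 111132296966))) (.node (.node (.node (.leaf 30601649412) (.leaf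 144955180827)) (.node (.leaf 90731197967) (.leaf 172872474904))) (.node (.node (.leaf 57982072337) (.leaf 157303214763)) (.leaf 11811162907)))) (.node (.node (.node (.node (.leaf 12884904998) (.leaf 128312178575)) (.node (.leaf 81067527081) (.leaf 171261861795))) (.node (.node (.leaf 59055814438) (.leaf 153008246534)) (.leaf 34896631854))) (.node (.node (.node (.leaf 41875941130) (.leaf 40265353484)) (.node (.leaf 101468626828) (.leaf 175556830100))) (.node (.node (.leaf 10200549769) (.leaf 161598183069)) (.leaf 122943468189))))))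
def dF_47 : BT := .node (.node (.node (.node (.node (.node (.node (.leaf 2684355329) (.leaf 123480339214)) (.node (.leaf 37044101780) (.leaf 162671925143))) (.node (.node (.leaf 39191585956) (.leaf 152471375367)) (.leaf 105226722219))) (.node (.node (.node (.leaf 11274291873) (.leaf 130996532139)) (.node (.leaf 78920042897) (.leaf 164282536972))) (.node (.node (.leaf 52613361954) (.leaf 154618859654)) (.leaf 57982066826)))) (.node (.node (.node (.node (.leaf 10200549800) (.leaf 127775307554)) (.node (.leaf 53687104268) (.leaf 164282538374))) (.node (.node (.leaf 57445201420) (.leaf 38117864064)) (.leaf 58518957965))) (.node (.node (.node (.leaf 41339070221) (.leaf 143344567716)) (.node (.leaf 16106149546) (.leaf 175019954189))) (.node (.node (.leaf 1073757482) (.leaf 158913827878)) (.leaf 125627823495))))) (.node (.node (.node (.node (.node (.leaf 9663676441) (.leaf 135828373146)) (.node (.leaf 70866977286) (.leaf 161598173962))) (.node (.node (.leaf 34896617628) (.leaf 150323891209)) (.leaf 113279783309)))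 (.node (.node (.node (.leaf 33285996581) (.leaf 145492047492)) (.node (.leaf 34359760172) (.leaf 122406608769))) (.node (.node (.leaf 56908330259) (.leaf 156766343724)) (.leaf 79456913965)))) (.node (.node (.node (.node (.leaf 11811162911) (.leaf 127775307538)) (.node (.leaf 82141269157) (.leaf 171798732840))) (.node (.node (.leaf 57982072360) (.leaf 43)) (.leaf 53150233357))) (.node (.node (.node (.leaf 43486554240) (.leaf 139049595306)) (.node (.leaf 90194334601) (.leaf 176093701141))) (.node (.node (.leaf 66035138222) (.leaf 161061312030)) (.leaf 120259112994)))))) (.node (.node (.node (.node (.node (.node (.leaf 1610613123) (.leaf 119185372929)) (.node (.leaf 41875941145) (.leaf 159450698898))) (.node (.node (.leaf 37044101792) (.leaf 150323891235)) (.leaf 34359766554))) (.node (.node (.node (.leaf 11274295459) (.leaf 136365244198)) (.node (.leaf 77309429765) (.leaf 34896649518))) (.node (.node (.leaf 54760846110) (.leaf 158913827972)) (.leaf 64961380398)))) (.node (.node (.node (.node (.leaf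 18790486401) (.leaf 127775307546)) (.node (.leaf 13421790990) (.leaf 172335603871))) (.node (.node (.leaf 61740169605) (.leaf 36507251588)) (.leaf 57445201157))) (.node (.node (.node (.leaf 47244651694) (.leaf 141733954590)) (.node (.leaf 98784271369) (.leaf 158913831553))) (.node (.node (.leaf 16655) (.leaf 159987569954)) (.leaf 122406597164))))) (.node (.node (.node (.node (.node (.leaf 12884904979) (.leaf 132070275880)) (.node (.leaf 13958647051) (.leaf 159987570689))) (.node (.node (.leaf 40802191787) (.leaf 121332862209)) (.leaf 34896637577))) (.node (.node (.node (.leaf 10200549797) (.leaf 144955180823)) (.node (.leaf 86436229901) (.leaf 173409346053))) (.node (.node (.leaf 60129556358) (.leaf 162135054095)) (.leaf 81604398107)))) (.node (.node (.node (.node (.leaf 22548583821) (.leaf 57445219975)) (.node (.leaf 81067527071) (.leaf 171798730123))) (.node (.node (.leaf 50465877798) (.leaf 153545117454)) (.leaf 57982072365))) (.node (.node (.node (.leaf 41339070120) (.leaf 147639533188)) (.leaf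 105763595015)) (.node (.node (.leaf 41875941141) (.leaf 162135054106)) (.leaf 121869726105))))))
def dF_48 : BT := .node dF_46 dF_47
def dF_49 : BT := .node (.node (.node (.node (.node (.node (.node (.leaf 1073742084) (.leaf 120259112978)) (.node (.leaf 41339070100) (.leaf 158376956823))) (.node (.node (.leaf 35970359718) (.leaf 136365247499)) (.leaf 106300463786))) (.node (.node (.node (.leaf 10200552864) (.leaf 35970359820)) (.node (.leaf 79456913938) (.leaf 158913829258))) (.node (.node (.leaf 56908330274) (.leaf 153008246433)) (.leaf 34359746587)))) (.node (.node (.node (.node (.leaf 12348033960) (.leaf 127775307556)) (.node (.leaf 56371459225) (.leaf 161061312132))) (.node (.node (.leaf 53150233094) (.leaf 55297717163)) (.leaf 119185350662))) (.node (.node (.node (.leaf 37044101896) (.leaf 143881433002)) (.node (.leaf 91804929807) (.leaf 173409345959))) (.node (.node (.leaf 5368724492) (.leaf 162671925161)) (.leaf 121332855172))))) (.node (.node (.node (.node (.node (.leaf 536872598) (.leaf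 57982090158)) (.node (.leaf 33822875541) (.leaf 162671917192))) (.node (.node (.leaf 39191585948) (.leaf 150323891216)) (.leaf 88046856974))) (.node (.node (.node (.leaf 11811167114) (.leaf 146565793937)) (.node (.leaf 89657463818) (.leaf 171261861781))) (.node (.node (.leaf 51539619868) (.leaf 163745667239)) (.leaf 39191585935)))) (.node (.node (.node (.node (.leaf 536875566) (.leaf 127775307540)) (.node (.leaf 82141269139) (.leaf 169651248655))) (.node (.node (.leaf 60129556512) (.leaf 57445201323)) (.leaf 89657470126))) (.node (.node (.node (.leaf 44023425454) (.leaf 120795988650)) (.node (.leaf 56908339212) (.leaf 176093701135))) (.node (.node (.leaf 73551316270) (.leaf 156766343710)) (.leaf 120795984037)))))) (.node (.node (.node (.node (.node (.node (.leaf 3758097280) (.leaf 40802219661)) (.node (.leaf 61203300398) (.leaf 156766343699))) (.node (.node (.leaf 41339070112) (.leaf 150323891239)) (.leaf 114353531649))) (.node (.node (.node (.leaf 28454165160) (.leaf 136365244184)) (.node (.leaf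 78383171715) (.leaf 150860765696))) (.node (.node (.leaf 59055814430) (.leaf 38654742538)) (.leaf 302)))) (.node (.node (.node (.node (.leaf 19864228497) (.leaf 127775307548)) (.node (.leaf 10200565658) (.leaf 172335603859))) (.node (.node (.leaf 62813911691) (.leaf 40265346819)) (.leaf 85899366574))) (.node (.node (.node (.leaf 48318393774) (.leaf 141197083557)) (.node (.leaf 100394884358) (.leaf 175019959075))) (.node (.node (.leaf 68719493128) (.leaf 155692601634)) (.leaf 124017210273))))) (.node (.node (.node (.node (.node (.leaf 15032389128) (.leaf 132070275864)) (.node (.leaf 13958647065) (.leaf 157840085510))) (.node (.node (.leaf 38117843856) (.leaf 151934504325)) (.leaf 34896637570))) (.node (.node (.node (.leaf 11811162891) (.leaf 144955180825)) (.node (.leaf 88583721733) (.leaf 172872474920))) (.node (.node (.leaf 53687104017) (.leaf 161598183083)) (.leaf 56371459227)))) (.node (.node (.node (.node (.leaf 1610613158) (.leaf 127775290887)) (.node (.leaf 79993784995) (.leaf 171798730252)))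 (.node (.node (.leaf 54760846118) (.leaf 154081988500)) (.leaf 13421797422))) (.node (.node (.node (.leaf 41875941139) (.leaf 135828376452)) (.node (.leaf 74625080974) (.leaf 175556830113))) (.node (.node (.leaf 50465877765) (.leaf 157840085786)) (.leaf 122406597146))))))
def dF_50 : BT := .node (.node (.node (.node (.node (.node (.node (.leaf 686) (.leaf 124017210121)) (.node (.leaf 39191585924) (.leaf 162671925141))) (.node (.node (.leaf 34896617636) (.leaf 152471375399)) (.leaf 104689852809))) (.node (.node (.node (.leaf 1073742112) (.leaf 122943457665)) (.node (.leaf 79993784962) (.leaf 151934507264))) (.node (.node (.leaf 57982072352) (.leaf 154618859538)) (.leaf 37044116014)))) (.node (.node (.node (.node (.leaf 16106127515) (.leaf 127775307552)) (.node (.leaf 35433488665) (.leaf 168577506693))) (.node (.node (.leaf 61740169730) (.leaf 39728480012)) (.leaf 119722241941))) (.node (.node (.node (.leaf 45634038537) (.leaf 82141283597)) (.node (.leaf 95563045250) (.leaf 175019959059))) (.node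 (.node (.leaf 65498266890) (.leaf 163208796196)) (.leaf 80530666542))))) (.node (.node (.node (.node (.node (.leaf 11811163012) (.leaf 129922791725)) (.node (.leaf 55834588181) (.leaf 121332863499))) (.node (.node (.leaf 38654714899) (.leaf 150860744972)) (.leaf 52613376172))) (.node (.node (.node (.leaf 11811167115) (.leaf 139049599245)) (.node (.leaf 90731205779) (.leaf 154618863876))) (.node (.node (.leaf 52613361939) (.leaf 161061312044)) (.leaf 82141269164)))) (.node (.node (.node (.node (.leaf 10200549790) (.leaf 127775307536)) (.node (.leaf 81604398104) (.leaf 164819409319))) (.node (.node (.leaf 53687104040) (.leaf 147639536042)) (.leaf 83215017646))) (.node (.node (.node (.leaf 42949683202) (.leaf 137438962432)) (.node (.leaf 92878691852) (.leaf 175556829830))) (.node (.node (.leaf 72477575561) (.leaf 157303214749)) (.leaf 123480339230)))))) (.node (.node (.node (.node (.node (.node (.leaf 5905581442) (.leaf 131533404932)) (.node (.leaf 58518943382) (.leaf 161598183056))) (.node (.node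 (.leaf 40265328030) (.leaf 150323891231)) (.leaf 117037886738))) (.node (.node (.node (.leaf 11274295458) (.leaf 139586470535)) (.node (.leaf 81067516330) (.leaf 171261830145))) (.node (.node (.leaf 50465877790) (.leaf 163208796295)) (.leaf 41339070107)))) (.node (.node (.node (.node (.leaf 11811164188) (.leaf 127775307544)) (.node (.leaf 78920043015) (.leaf 165356281740))) (.node (.node (.leaf 61203298564) (.leaf 57445221806)) (.leaf 87509985966))) (.node (.node (.node (.leaf 46170909446) (.leaf 142270825734)) (.node (.leaf 97173658375) (.leaf 174483088014))) (.node (.node (.leaf 50465882884) (.leaf 156229472673)) (.leaf 121869726121))))) (.node (.node (.node (.node (.node (.leaf 13958647057) (.leaf 127775307560)) (.node (.leaf 40265328011) (.leaf 159987568909))) (.node (.node (.leaf 39191585920) (.leaf 120795984043)) (.leaf 119185354498))) (.node (.node (.node (.leaf 1610620805) (.leaf 143344567700)) (.node (.leaf 84288753454) (.leaf 161598185857))) (.node (.node (.leaf 55834588034) (.leaf 156229472655))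 (.leaf 79456913947)))) (.node (.node (.node (.node (.leaf 24159191073) (.leaf 129385898375)) (.node (.leaf 79993784983) (.leaf 164819407757))) (.node (.node (.leaf 55834588196) (.leaf 153545117358)) (.leaf 74625081006))) (.node (.node (.node (.leaf 37044101800) (.leaf 147639536021)) (.leaf 58518955562)) (.node (.node (.leaf 38654714903) (.leaf 158376956825)) (.leaf 121332855062))))))
def dF_51 : BT := .node dF_49 dF_50
def dF_52 : BT := .node dF_48 dF_51
def dF_53 : BT := .node (.node (.node (.node (.node (.node (.node (.leaf 536871180) (.leaf 122406597138)) (.node (.leaf 38654714886) (.leaf 156229472663))) (.node (.node (.leaf 38117843878) (.leaf 147639536039)) (.leaf 107911078915))) (.node (.node (.node (.leaf 22011712772) (.leaf 36507253005)) (.node (.leaf 77846300821) (.leaf 121869736454))) (.node (.node (.leaf 59055814434) (.leaf 153008238340)) (.leaf 10737420815)))) (.node (.node (.node (.node (.leaf 13421775876) (.leaf 129922791716)) (.node (.leaf 54223975065) (.leaf 161598173837))) (.node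 (.node (.leaf 51002748940) (.leaf 38654714923)) (.leaf 119185370916))) (.node (.node (.node (.leaf 34896617734) (.leaf 127238440709)) (.node (.leaf 83215011468) (.leaf 173409345951))) (.node (.node (.leaf 51539620098) (.leaf 160524441001)) (.leaf 54760846084))))) (.node (.node (.node (.node (.node (.leaf 8053065602) (.leaf 57445219974)) (.node (.leaf 51539619862) (.leaf 127775315976))) (.node (.node (.leaf 41339070108) (.leaf 150323891225)) (.leaf 115427273733))) (.node (.node (.node (.leaf 536871075) (.leaf 146028923011)) (.node (.leaf 87509979649) (.leaf 122406608770))) (.node (.node (.leaf 53687104028) (.leaf 163745667231)) (.leaf 44)))) (.node (.node (.node (.node (.leaf 10737422638) (.leaf 129922791700)) (.node (.leaf 34359758122) (.leaf 164819409323))) (.node (.node (.leaf 60129556497) (.leaf 51539619883)) (.leaf 85362501806))) (.node (.node (.node (.leaf 45097167362) (.leaf 141197083397)) (.node (.leaf 94489294341) (.leaf 151934509962))) (.node (.node (.leaf 74088187526) (.leaf 162671925153))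 (.leaf 122943468197)))))) (.node (.node (.node (.node (.node (.node (.leaf 4294968320) (.leaf 55297732612)) (.node (.leaf 11811162902) (.leaf 135828377993))) (.node (.node (.leaf 35970359714) (.leaf 150323891241)) (.leaf 112206047492))) (.node (.node (.node (.leaf 28454165294) (.leaf 136365244178)) (.node (.leaf 78920042757) (.leaf 158913829123))) (.node (.node (.leaf 51539619872) (.leaf 154618859562)) (.leaf 41339082414)))) (.node (.node (.node (.node (.leaf 19864228654) (.leaf 129922791708)) (.node (.leaf 75698816772) (.leaf 160524443779))) (.node (.node (.leaf 63350782722) (.leaf 56908350766)) (.leaf 119722241925))) (.node (.node (.node (.leaf 49392135680) (.leaf 141733954598)) (.node (.leaf 40802213262) (.leaf 175019959071))) (.node (.node (.leaf 68182615833) (.leaf 161598183077)) (.leaf 124017210265))))) (.node (.node (.node (.node (.node (.leaf 15032389122) (.leaf 132070275856)) (.node (.leaf 10200549784) (.leaf 157840076938))) (.node (.node (.leaf 40265328016) (.leaf 151397633295)) (.leaf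 110058563468))) (.node (.node (.node (.leaf 10200554916) (.leaf 142807696667)) (.node (.leaf 89657463819) (.leaf 172872474912))) (.node (.node (.leaf 55834588177) (.leaf 159450698923)) (.leaf 50465877786)))) (.node (.node (.node (.node (.leaf 16106131238) (.leaf 127775285505)) (.node (.leaf 81067527077) (.leaf 171261850118))) (.node (.node (.leaf 56908330278) (.leaf 154081988494)) (.leaf 35433488655))) (.node (.node (.node (.leaf 41875941124) (.leaf 148176407180)) (.node (.leaf 102542368773) (.leaf 175556830105))) (.node (.node (.leaf 536871049) (.leaf 155692601626)) (.leaf 120795984029))))))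
def dF_54 : BT := .node (.node (.node (.node (.node (.node (.node (.leaf 536871440) (.leaf 121869726095)) (.node (.leaf 34896617620) (.leaf 156229474316))) (.node (.node (.leaf 37044101796) (.leaf 152471375391)) (.leaf 105226717455))) (.node (.node (.node (.leaf 10200549793) (.leaf 124017199876)) (.node (.leaf 81604397957) (.leaf 164819409312))) (.node (.node (.leaf 50465877794) (.leaf 154618851080)) (.leaf 34359746605)))) (.node (.node (.node (.node (.leaf 536873349) (.leaf 129922791712)) (.node (.leaf 53687104003) (.leaf 166430022536))) (.node (.node (.leaf 59592685574) (.leaf 123480339243)) (.leaf 10737446787))) (.node (.node (.node (.leaf 43486554379) (.leaf 142807696773)) (.node (.leaf 536893339) (.leaf 156229477121))) (.node (.node (.leaf 65498266882) (.leaf 161061312038)) (.leaf 82141279662))))) (.node (.node (.node (.node (.node (.leaf 536873348) (.leaf 135828373154)) (.node (.leaf 16106131206) (.leaf 122406606858))) (.node (.node (.leaf 40802199059) (.leaf 150860762261)) (.leaf 112742918535)))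 (.node (.node (.node (.leaf 32749125669) (.leaf 145492051862)) (.node (.leaf 89120592660) (.leaf 153008251144))) (.node (.node (.leaf 54760846099) (.leaf 158913827884)) (.leaf 35970359725)))) (.node (.node (.node (.node (.leaf 13958647070) (.leaf 129922791696)) (.node (.leaf 81604398096) (.leaf 164282538280))) (.node (.node (.leaf 55834588200) (.leaf 119185370923)) (.leaf 56908330285))) (.node (.node (.node (.leaf 42949683374) (.leaf 138512728196)) (.node (.leaf 89657463809) (.leaf 175556825856))) (.node (.node (.leaf 72477575574) (.leaf 163208796188)) (.leaf 121869726113)))))) (.node (.node (.node (.node (.node (.node (.leaf 5905581575) (.leaf 129385920778)) (.node (.leaf 33822881410) (.leaf 156766343697))) (.node (.node (.leaf 34896617632) (.leaf 150323891233)) (.leaf 90731212174))) (.node (.node (.node (.leaf 27917287586) (.leaf 137438986374)) (.node (.leaf 78920033194) (.leaf 122406608686))) (.node (.node (.leaf 52613361950) (.leaf 161061312137)) (.leaf 61203284014)))) (.node (.node (.node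 (.node (.leaf 18253615237) (.leaf 129922791704)) (.node (.leaf 50465884169) (.leaf 172335603877))) (.node (.node (.leaf 61203298734) (.leaf 36507251594)) (.leaf 115427273484))) (.node (.node (.node (.leaf 46707780654) (.leaf 141197083549)) (.node (.leaf 97710515087) (.leaf 174483088027))) (.node (.node (.leaf 70866960526) (.leaf 162135054114)) (.leaf 120259113004))))) (.node (.node (.node (.node (.node (.leaf 10737420819) (.leaf 129922791720)) (.node (.leaf 51002748718) (.leaf 159987570695))) (.node (.node (.leaf 40265328000) (.leaf 122406601006)) (.leaf 118648479877))) (.node (.node (.node (.leaf 1073742116) (.leaf 142807696663)) (.node (.leaf 85362487567) (.leaf 173409345924))) (.node (.node (.leaf 58518943364) (.leaf 158376956815)) (.leaf 36507230746)))) (.node (.node (.node (.node (.leaf 24696061985) (.leaf 35970381870)) (.node (.leaf 81067527065) (.leaf 171798732831))) (.node (.node (.leaf 57982072356) (.leaf 153545117462)) (.leaf 34896622861))) (.node (.node (.node (.leaf 39191585960) (.leaf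 55834610049)) (.leaf 107911079173)) (.node (.node (.leaf 40802199063) (.leaf 156229472665)) (.leaf 123480339222))))))
def dF_55 : BT := .node dF_53 dF_54
def dF_56 : BT := .node (.node (.node (.node (.node (.node (.node (.leaf 1073742220) (.leaf 121869726097)) (.node (.leaf 39191585940) (.leaf 160524440983))) (.node (.node (.leaf 41339070116) (.leaf 151934504457)) (.leaf 105763588495))) (.node (.node (.node (.leaf 11811162887) (.leaf 36507253259)) (.node (.leaf 81067527057) (.leaf 164819409296))) (.node (.node (.leaf 54760846114) (.leaf 153008246441)) (.leaf 57982066820)))) (.node (.node (.node (.node (.leaf 11811162921) (.leaf 129922791714)) (.node (.leaf 52613361930) (.leaf 157840085893))) (.node (.node (.leaf 55297717250) (.leaf 39728465966)) (.leaf 112206048256))) (.node (.node (.node (.leaf 39191586058) (.leaf 143344563724)) (.node (.leaf 92341806735) (.leaf 161061314944))) (.node (.node (.leaf 16106142860) (.leaf 156766343718)) (.leaf 123480339337))))) (.node (.node (.node (.node (.node (.leaf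 536872599) (.leaf 135828373138)) (.node (.leaf 14495518101) (.leaf 123480348557))) (.node (.node (.leaf 37044101788) (.leaf 136365247498)) (.leaf 54760860332))) (.node (.node (.node (.leaf 31138520461) (.leaf 146565793947)) (.node (.leaf 58518951182) (.leaf 171261861793))) (.node (.node (.leaf 59055814419) (.leaf 163745667245)) (.leaf 39191585965)))) (.node (.node (.node (.node (.leaf 29) (.leaf 129922791698)) (.node (.leaf 82141269149) (.leaf 171798732815))) (.node (.node (.leaf 60129556520) (.leaf 536871083)) (.leaf 55834588175))) (.node (.node (.node (.leaf 44023425280) (.leaf 139586470534)) (.node (.leaf 95026164877) (.leaf 176093701122))) (.node (.node (.leaf 5905581870) (.leaf 158913827870)) (.leaf 122406597154)))))) (.node (.node (.node (.node (.node (.node (.leaf 1070) (.leaf 127238436503)) (.node (.leaf 536871051) (.leaf 161598183058))) (.node (.node (.leaf 39191585952) (.leaf 150323891237)) (.leaf 116501015818))) (.node (.node (.node (.leaf 25232939149) (.leaf 136365244192)) (.node (.leaf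 77846300800) (.leaf 156229475118))) (.node (.node (.leaf 56908330270) (.leaf 156766343810)) (.leaf 40265328015)))) (.node (.node (.node (.node (.leaf 18253615376) (.leaf 129922791706)) (.node (.leaf 76235672109) (.leaf 172335603863))) (.node (.node (.leaf 62277040814) (.leaf 37044122496)) (.leaf 112742918407))) (.node (.node (.node (.leaf 48318382123) (.leaf 142270825633)) (.node (.leaf 39728471182) (.leaf 151934509708))) (.node (.node (.leaf 15032402092) (.leaf 157840085794)) (.leaf 124017210281))))) (.node (.node (.node (.node (.node (.leaf 14495518098) (.leaf 132070275872)) (.node (.leaf 11274291864) (.leaf 159450698030))) (.node (.node (.leaf 35970359696) (.leaf 151397633157)) (.leaf 118648499862))) (.node (.node (.node (.leaf 11274291877) (.leaf 142807696665)) (.node (.leaf 54760853772) (.leaf 172872442636))) (.node (.node (.leaf 51539619857) (.leaf 159987569935)) (.leaf 57445201306)))) (.node (.node (.node (.node (.leaf 11811165062) (.leaf 135828371212)) (.node (.leaf 77846300835) (.leaf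 171798732934))) (.node (.node (.leaf 52613361958) (.leaf 153545089409)) (.leaf 51539619855))) (.node (.node (.node (.leaf 41875941155) (.leaf 55834610222)) (.node (.leaf 83215016201) (.leaf 175556830121))) (.node (.node (.leaf 23) (.leaf 159987569946)) (.leaf 120259112986))))))
def dF_57 : BT := .node (.node (.node (.node (.node (.node (.node (.leaf 1610613121) (.leaf 121332854918)) (.node (.leaf 68719493142) (.leaf 160524440981))) (.node (.node (.leaf 40265328034) (.leaf 151934504364)) (.leaf 104689852683))) (.node (.node (.node (.leaf 25769810061) (.leaf 136902094856)) (.node (.leaf 79993784841) (.leaf 164282538262))) (.node (.node (.leaf 55834588192) (.leaf 154618859546)) (.leaf 11811162895)))) (.node (.node (.node (.node (.leaf 17179873421) (.leaf 129922791710)) (.node (.leaf 37580972825) (.leaf 170724990851))) (.node (.node (.leaf 63887638573) (.leaf 37044112046)) (.leaf 119722241945))) (.node (.node (.node (.leaf 47781522695) (.leaf 142807696674)) (.node (.leaf 97710529412) (.leaf 52613391113)))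 (.node (.node (.leaf 5905595800) (.leaf 157303214757)) (.leaf 126701554821))))) (.node (.node (.node (.node (.node (.leaf 13958647172) (.leaf 128312178604)) (.node (.leaf 53687104021) (.leaf 156766341513))) (.node (.node (.leaf 36507230739) (.leaf 150860762254)) (.leaf 111132305454))) (.node (.node (.node (.leaf 29527903012) (.leaf 139586470445)) (.node (.leaf 89657463697) (.leaf 172872474896))) (.node (.node (.leaf 50465877779) (.leaf 163208796202)) (.leaf 82678140205)))) (.node (.node (.node (.node (.leaf 12884904591) (.leaf 130459662604)) (.node (.leaf 81604398114) (.leaf 165356280356))) (.node (.node (.leaf 51539619880) (.leaf 150860762282)) (.leaf 90731212206))) (.node (.node (.node (.leaf 42412812160) (.leaf 122406601002)) (.node (.leaf 102542368772) (.leaf 175556824333))) (.node (.node (.leaf 33822875528) (.leaf 159450698909)) (.leaf 121332855070)))))) (.node (.node (.node (.node (.node (.node (.leaf 5905581459) (.leaf 133680889089)) (.node (.leaf 56371459222) (.leaf 159450698896))) (.node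 (.node (.leaf 38117843870) (.leaf 150323891229)) (.leaf 116501001517))) (.node (.node (.node (.leaf 11811162915) (.leaf 141733954693)) (.node (.leaf 83215011338) (.leaf 165356280343))) (.node (.node (.leaf 57982072348) (.leaf 154618861697)) (.leaf 78383178286)))) (.node (.node (.node (.node (.leaf 17179872002) (.leaf 129922791702)) (.node (.leaf 81067527173) (.leaf 171798732844))) (.node (.node (.leaf 14495529229) (.leaf 34359758126)) (.leaf 85899372846))) (.node (.node (.node (.leaf 45634038574) (.leaf 141733954692)) (.node (.leaf 95563030927) (.leaf 174483088022))) (.node (.node (.leaf 10200564628) (.leaf 158376956833)) (.leaf 123480339238))))) (.node (.node (.node (.node (.node (.leaf 11811162897) (.leaf 129922791718)) (.node (.leaf 37044101767) (.leaf 160524411272))) (.node (.node (.leaf 37580972680) (.leaf 55297737646)) (.leaf 119185370898))) (.node (.node (.node (.leaf 13958651791) (.leaf 144418309776)) (.node (.leaf 84288736390) (.leaf 173409345937))) (.node (.node (.leaf 52613361794) (.leaf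 156229472681)) (.leaf 39191585947)))) (.node (.node (.node (.node (.leaf 11811165063) (.leaf 36507253255)) (.node (.leaf 77846300823) (.leaf 164819398913))) (.node (.node (.leaf 53687104036) (.leaf 153008218764)) (.leaf 11274291885))) (.node (.node (.node (.leaf 34896617640) (.leaf 147639536027)) (.leaf 108984820999)) (.node (.node (.leaf 36507230743) (.leaf 160524440985)) (.leaf 122943468181))))))
def dF_58 : BT := .node dF_56 dF_57
def dF_59 : BT := .node dF_55 dF_58
def dF_60 : BT := .node dF_52 dF_59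
def dF_61 : BT := .node dF_45 dF_60
def dF_62 : BT := .node dF_30 dF_61
def dF : BT := dF_62
def dP_0 : BT := .node (.node (.node (.node (.node (.node (.node (.leaf 0) (.leaf 31240)) (.leaf 2220)) (.node (.node (.leaf 2434) (.leaf 40837)) (.leaf 24452))) (.node (.node (.node (.leaf 3973) (.leaf 28424)) (.leaf 20356)) (.node (.leaf 12172) (.leaf 13194)))) (.node (.node (.node (.node (.leaf 138) (.leaf 34688)) (.leaf 12041)) (.node (.leaf 10119) (.leaf 26497))) (.node (.node (.node (.leaf 6021) (.leaf 38789)) (.leaf 13953)) (.node (.leaf 14214) (.leaf 30596))))) (.node (.node (.node (.node (.node (.leaf 909) (.leaf 33667)) (.leaf 1288)) (.node (.node (.leaf 9092) (.leaf 41861)) (.leaf 25473))) (.node (.node (.node (.leaf 4997) (.leaf 37766)) (.leaf 21386)) (.node (.leaf 13186) (.leaf 29579)))) (.node (.node (.node (.node (.leaf 2956) (.leaf 32523)) (.leaf 19333)) (.node (.leaf 11139) (.leaf 27524))) (.node (.node (.node (.leaf 7045) (.leaf 39814)) (.leaf 23426)) (.node (.leaf 276) (.leaf 31626))))))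 (.node (.node (.node (.node (.node (.node (.leaf 128) (.leaf 33157)) (.leaf 13)) (.node (.node (.leaf 8578) (.leaf 41349)) (.leaf 24963))) (.node (.node (.node (.leaf 4485) (.leaf 37252)) (.leaf 20865)) (.node (.leaf 12678) (.leaf 29069)))) (.node (.node (.node (.node (.leaf 2444) (.leaf 35210)) (.leaf 18823)) (.node (.leaf 10629) (.leaf 27018))) (.node (.node (.node (.leaf 6533) (.leaf 39300)) (.leaf 22912)) (.node (.leaf 14722) (.leaf 31105))))) (.node (.node (.node (.node (.node (.leaf 1415) (.leaf 34177)) (.leaf 17796)) (.node (.leaf 9606) (.leaf 25984))) (.node (.node (.node (.leaf 5509) (.leaf 38279)) (.leaf 426)) (.node (.leaf 13708) (.leaf 30089)))) (.node (.node (.node (.node (.leaf 3468) (.leaf 36233)) (.leaf 19850)) (.node (.leaf 11651) (.leaf 28033))) (.node (.node (.node (.leaf 7557) (.leaf 40327)) (.leaf 15530)) (.node (.leaf 1450) (.leaf 32132))))))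
def dP_1 : BT := .node (.node (.node (.node (.node (.node (.node (.leaf 140) (.leaf 32900)) (.leaf 15)) (.node (.node (.leaf 8326) (.leaf 36488)) (.leaf 19849))) (.node (.node (.node (.leaf 4229) (.leaf 13448)) (.leaf 20618)) (.node (.leaf 12418) (.leaf 28806)))) (.node (.node (.node (.node (.leaf 2187) (.leaf 30342)) (.leaf 18563)) (.node (.leaf 10379) (.leaf 26756))) (.node (.node (.node (.leaf 6277) (.leaf 13192)) (.leaf 22660)) (.node (.leaf 14476) (.leaf 30858))))) (.node (.node (.node (.node (.node (.leaf 134) (.leaf 33927)) (.leaf 17544)) (.node (.leaf 9354) (.leaf 25733))) (.node (.node (.node (.leaf 5253) (.leaf 38029)) (.leaf 21633)) (.node (.leaf 13446) (.leaf 29829)))) (.node (.node (.node (.node (.leaf 3212) (.leaf 35973)) (.leaf 19584)) (.node (.leaf 11399) (.leaf 27786))) (.node (.node (.node (.leaf 7301) (.leaf 40077)) (.leaf 23688)) (.node (.leaf 298) (.leaf 31873)))))) (.node (.node (.node (.node (.node (.node (.leaf 641) (.leaf 33417)) (.leaf 12036)) (.node (.node (.leaf 8840)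 (.leaf 41605)) (.leaf 25223))) (.node (.node (.node (.leaf 4739) (.leaf 37514)) (.leaf 21124)) (.node (.leaf 12940) (.leaf 29319)))) (.node (.node (.node (.node (.leaf 2700) (.leaf 35457)) (.leaf 19073)) (.node (.leaf 10889) (.leaf 27265))) (.node (.node (.node (.leaf 6793) (.leaf 39562)) (.leaf 23174)) (.node (.leaf 14982) (.leaf 31364))))) (.node (.node (.node (.node (.node (.leaf 1677) (.leaf 34437)) (.leaf 18052)) (.node (.leaf 9869) (.leaf 26250))) (.node (.node (.node (.leaf 5767) (.leaf 38539)) (.leaf 16911)) (.node (.leaf 13954) (.leaf 28417)))) (.node (.node (.node (.node (.leaf 3596) (.leaf 36486)) (.leaf 20097)) (.node (.leaf 2438) (.leaf 8198))) (.node (.node (.node (.leaf 7819) (.leaf 40587)) (.leaf 24196)) (.node (.leaf 1834) (.leaf 12296))))))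
def dP_2 : BT := .node dP_0 dP_1
def dP_3 : BT := .node (.node (.node (.node (.node (.node (.node (.leaf 12) (.leaf 32774)) (.leaf 3628)) (.node (.node (.leaf 8193) (.leaf 40967)) (.leaf 24588))) (.node (.node (.node (.leaf 4109) (.leaf 36870)) (.leaf 20486)) (.node (.leaf 12289) (.leaf 28680)))) (.node (.node (.node (.node (.leaf 2061) (.leaf 34819)) (.leaf 18443)) (.node (.leaf 10249) (.leaf 26626))) (.node (.node (.node (.leaf 6157) (.leaf 38919)) (.leaf 22534)) (.node (.leaf 14346) (.leaf 30726))))) (.node (.node (.node (.node (.node (.leaf 1027) (.leaf 33797)) (.leaf 17414)) (.node (.leaf 9218) (.leaf 25603))) (.node (.node (.node (.leaf 5133) (.leaf 37892)) (.leaf 21516)) (.node (.leaf 13316) (.leaf 29699)))) (.node (.node (.node (.node (.leaf 3076) (.leaf 35843)) (.leaf 19463)) (.node (.leaf 11269) (.leaf 27654))) (.node (.node (.node (.leaf 7181) (.leaf 39940)) (.leaf 23562)) (.node (.leaf 282) (.leaf 31756)))))) (.node (.node (.node (.node (.node (.node (.leaf 525) (.leaf 33287)) (.leaf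 27)) (.node (.node (.leaf 8704) (.leaf 36237)) (.leaf 25093))) (.node (.node (.node (.leaf 4621) (.leaf 37378)) (.leaf 20994)) (.node (.leaf 12810) (.leaf 29189)))) (.node (.node (.node (.node (.leaf 2564) (.leaf 35340)) (.leaf 18953)) (.node (.leaf 10759) (.leaf 27148))) (.node (.node (.node (.leaf 6669) (.leaf 39426)) (.leaf 23048)) (.node (.leaf 14852) (.leaf 31234))))) (.node (.node (.node (.node (.node (.leaf 136) (.leaf 34307)) (.leaf 17932)) (.node (.leaf 9732) (.leaf 3334))) (.node (.node (.node (.leaf 5645) (.leaf 38409)) (.leaf 3882)) (.node (.leaf 13825) (.leaf 9740)))) (.node (.node (.node (.node (.leaf 3588) (.leaf 28420)) (.leaf 19980)) (.node (.leaf 11781) (.leaf 8192))) (.node (.node (.node (.leaf 7693) (.leaf 40457)) (.leaf 18060)) (.node (.leaf 1816) (.leaf 32262))))))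
def dP_4 : BT := .node (.node (.node (.node (.node (.node (.node (.leaf 268) (.leaf 33037)) (.leaf 16655)) (.node (.node (.leaf 8452) (.leaf 9101)) (.leaf 24843))) (.node (.node (.node (.leaf 4365) (.leaf 37126)) (.leaf 20748)) (.node (.leaf 12548) (.leaf 28932)))) (.node (.node (.node (.node (.leaf 132) (.leaf 13318)) (.leaf 18693)) (.node (.leaf 10499) (.leaf 26886))) (.node (.node (.node (.leaf 6413) (.leaf 39174)) (.leaf 22786)) (.node (.leaf 14593) (.leaf 30988))))) (.node (.node (.node (.node (.node (.leaf 1293) (.leaf 34057)) (.leaf 3084)) (.node (.leaf 9480) (.leaf 25863))) (.node (.node (.node (.leaf 5389) (.leaf 38149)) (.leaf 410)) (.node (.leaf 13578) (.leaf 29959)))) (.node (.node (.node (.node (.leaf 3332) (.leaf 36103)) (.leaf 8070)) (.node (.leaf 11520) (.leaf 27916))) (.node (.node (.node (.leaf 7437) (.leaf 40197)) (.leaf 23814)) (.node (.leaf 1432) (.leaf 32002)))))) (.node (.node (.node (.node (.node (.node (.leaf 130) (.leaf 33547)) (.leaf 17158)) (.node (.node (.leaf 8966)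 (.leaf 36234)) (.leaf 25353))) (.node (.node (.node (.leaf 2822) (.leaf 37640)) (.leaf 21254)) (.node (.leaf 13057) (.leaf 29449)))) (.node (.node (.node (.node (.leaf 2820) (.leaf 35586)) (.leaf 19203)) (.node (.leaf 11009) (.leaf 27394))) (.node (.node (.node (.leaf 2826) (.leaf 39688)) (.leaf 23300)) (.node (.leaf 15114) (.leaf 31494))))) (.node (.node (.node (.node (.node (.leaf 1801) (.leaf 34567)) (.leaf 18188)) (.node (.leaf 9989) (.leaf 26380))) (.node (.node (.node (.leaf 2824) (.leaf 38659)) (.leaf 155)) (.node (.leaf 14084) (.leaf 30466)))) (.node (.node (.node (.node (.leaf 2946) (.leaf 36618)) (.leaf 20226)) (.node (.leaf 12042) (.leaf 2562))) (.node (.node (.node (.leaf 3213) (.leaf 40707)) (.leaf 24332)) (.node (.leaf 2218) (.leaf 32518))))))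
def dP_5 : BT := .node dP_3 dP_4
def dP_6 : BT := .node dP_2 dP_5
def dP : BT := dP_6
def dRels : List (List ℕ) := [[], [0, 1], [1, 0], [2, 3], [3, 2], [4, 5], [5, 4], [6, 7], [7, 6], [8, 9], [9, 8], [10, 11], [11, 10], [12, 13], [13, 12], [14, 15], [15, 14], [16, 17], [17, 16], [18, 19], [19, 18], [20, 21], [21, 20], [22, 23], [23, 22], [24, 25], [25, 24], [26, 27], [27, 26], [28, 29], [29, 28], [30, 31], [31, 30], [32, 33], [33, 32], [34, 35], [35, 34], [36, 37], [37, 36], [38, 39], [39, 38], [40, 41], [41, 40], [42, 43], [43, 42], [44, 45], [45, 44], [0, 0, 0], [1, 1, 1], [2, 2], [3, 3], [4, 4], [5, 5], [6, 6], [7, 7], [8, 8], [9, 9], [10, 10], [11, 11], [0, 2, 0, 2, 0, 2], [3, 1, 3, 1, 3, 1], [2, 4, 2, 4, 2, 4], [5, 3, 5, 3, 5, 3], [4, 6, 4, 6, 4, 6], [7, 5, 7, 5, 7, 5], [6, 8, 6, 8, 6, 8], [9, 7, 9, 7, 9, 7], [8, 10, 8, 10, 8, 10], [11, 9, 11, 9, 11, 9], [0, 4, 0, 4], [5, 1, 5, 1], [0, 6, 0, 6], [7, 1, 7, 1], [0, 8, 0, 8], [9, 1, 9, 1], [0, 10, 0, 10], [11, 1, 11, 1], [2, 6, 2, 6], [7, 3,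 7, 3], [2, 8, 2, 8], [9, 3, 9, 3], [2, 10, 2, 10], [11, 3, 11, 3], [4, 8, 4, 8], [9, 5, 9, 5], [4, 10, 4, 10], [11, 5, 11, 5], [6, 10, 6, 10], [11, 7, 11, 7], [12, 12, 15], [14, 13, 13], [14, 0, 15, 1], [0, 14, 1, 15], [14, 2, 15, 3], [2, 14, 3, 15], [14, 4, 15, 5], [4, 14, 5, 15], [14, 6, 15, 7], [6, 14, 7, 15], [14, 8, 15, 9], [8, 14, 9, 15], [14, 10, 15, 11], [10, 14, 11, 15], [14, 12, 15, 13], [12, 14, 13, 15], [12, 0, 13, 1, 17], [16, 0, 12, 1, 13], [16, 0, 17, 1], [0, 16, 1, 17], [16, 2, 17, 3], [2, 16, 3, 17], [16, 4, 17, 5], [4, 16, 5, 17], [16, 6, 17, 7], [6, 16, 7, 17], [16, 8, 17, 9], [8, 16, 9, 17], [16, 10, 17, 11], [10, 16, 11, 17], [16, 12, 17, 13], [12, 16, 13, 17], [12, 2, 13, 3, 19], [18, 2, 12, 3, 13], [18, 0, 19, 1], [0, 18, 1, 19], [18, 2, 19, 3], [2, 18, 3, 19], [18, 4, 19, 5], [4, 18, 5, 19], [18, 6, 19, 7], [6, 18, 7, 19], [18, 8, 19, 9], [8, 18, 9, 19], [18, 10, 19, 11], [10, 18, 11, 19], [18, 12, 19, 13], [12, 18, 13, 19], [12, 6, 13, 7, 21], [20, 6, 12, 7, 13], [20, 0,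 21, 1], [0, 20, 1, 21], [20, 2, 21, 3], [2, 20, 3, 21], [20, 4, 21, 5], [4, 20, 5, 21], [20, 6, 21, 7], [6, 20, 7, 21], [20, 8, 21, 9], [8, 20, 9, 21], [20, 10, 21, 11], [10, 20, 11, 21], [20, 12, 21, 13], [12, 20, 13, 21], [12, 8, 13, 9, 23], [22, 8, 12, 9, 13], [22, 0, 23, 1], [0, 22, 1, 23], [22, 2, 23, 3], [2, 22, 3, 23], [22, 4, 23, 5], [4, 22, 5, 23], [22, 6, 23, 7], [6, 22, 7, 23], [22, 8, 23, 9], [8, 22, 9, 23], [22, 10, 23, 11], [10, 22, 11, 23], [22, 12, 23, 13], [12, 22, 13, 23], [12, 10, 13, 11, 25], [24, 10, 12, 11, 13], [24, 0, 25, 1], [0, 24, 1, 25], [24, 2, 25, 3], [2, 24, 3, 25], [24, 4, 25, 5], [4, 24, 5, 25], [24, 6, 25, 7], [6, 24, 7, 25], [24, 8, 25, 9], [8, 24, 9, 25], [24, 10, 25, 11], [10, 24, 11, 25], [24, 12, 25, 13], [12, 24, 13, 25], [12, 4, 12, 4, 12, 4, 12, 4, 12, 4, 12, 4, 27], [26, 5, 13, 5, 13, 5, 13, 5, 13, 5, 13, 5, 13], [26, 0, 27, 1], [0, 26, 1, 27], [26, 2, 27, 3], [2, 26, 3, 27], [26, 4, 27, 5], [4, 26, 5, 27], [26, 6, 27, 7], [6, 26, 7, 27], [26, 8, 27, 9],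 [8, 26, 9, 27], [26, 10, 27, 11], [10, 26, 11, 27], [26, 12, 27, 13], [12, 26, 13, 27], [12, 4, 12, 4, 12, 4, 2, 5, 13, 5, 13, 5, 13, 3, 29], [28, 2, 12, 4, 12, 4, 12, 4, 3, 5, 13, 5, 13, 5, 13], [28, 0, 29, 1], [0, 28, 1, 29], [28, 2, 29, 3], [2, 28, 3, 29], [28, 4, 29, 5], [4, 28, 5, 29], [28, 6, 29, 7], [6, 28, 7, 29], [28, 8, 29, 9], [8, 28, 9, 29], [28, 10, 29, 11], [10, 28, 11, 29], [28, 12, 29, 13], [12, 28, 13, 29], [12, 4, 12, 4, 12, 4, 4, 5, 13, 5, 13, 5, 13, 5, 31], [30, 4, 12, 4, 12, 4, 12, 4, 5, 5, 13, 5, 13, 5, 13], [30, 0, 31, 1], [0, 30, 1, 31], [30, 2, 31, 3], [2, 30, 3, 31], [30, 4, 31, 5], [4, 30, 5, 31], [30, 6, 31, 7], [6, 30, 7, 31], [30, 8, 31, 9], [8, 30, 9, 31], [30, 10, 31, 11], [10, 30, 11, 31], [30, 12, 31, 13], [12, 30, 13, 31], [12, 4, 12, 4, 12, 4, 6, 5, 13, 5, 13, 5, 13, 7, 33], [32, 6, 12, 4, 12, 4, 12, 4, 7, 5, 13, 5, 13, 5, 13], [32, 0, 33, 1], [0, 32, 1, 33], [32, 2, 33, 3], [2, 32, 3, 33], [32, 4, 33, 5], [4, 32, 5, 33], [32, 6, 33, 7], [6, 32, 7, 33], [32,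 8, 33, 9], [8, 32, 9, 33], [32, 10, 33, 11], [10, 32, 11, 33], [32, 12, 33, 13], [12, 32, 13, 33], [12, 4, 12, 4, 12, 4, 8, 5, 13, 5, 13, 5, 13, 9, 35], [34, 8, 12, 4, 12, 4, 12, 4, 9, 5, 13, 5, 13, 5, 13], [34, 0, 35, 1], [0, 34, 1, 35], [34, 2, 35, 3], [2, 34, 3, 35], [34, 4, 35, 5], [4, 34, 5, 35], [34, 6, 35, 7], [6, 34, 7, 35], [34, 8, 35, 9], [8, 34, 9, 35], [34, 10, 35, 11], [10, 34, 11, 35], [34, 12, 35, 13], [12, 34, 13, 35], [12, 4, 12, 4, 12, 4, 10, 5, 13, 5, 13, 5, 13, 11, 37], [36, 10, 12, 4, 12, 4, 12, 4, 11, 5, 13, 5, 13, 5, 13], [36, 0, 37, 1], [0, 36, 1, 37], [36, 2, 37, 3], [2, 36, 3, 37], [36, 4, 37, 5], [4, 36, 5, 37], [36, 6, 37, 7], [6, 36, 7, 37], [36, 8, 37, 9], [8, 36, 9, 37], [36, 10, 37, 11], [10, 36, 11, 37], [36, 12, 37, 13], [12, 36, 13, 37], [12, 4, 12, 4, 12, 4, 12, 5, 13, 5, 13, 5, 13, 13, 39], [38, 12, 12, 4, 12, 4, 12, 4, 13, 5, 13, 5, 13, 5, 13], [38, 0, 39, 1], [0, 38, 1, 39], [38, 2, 39, 3], [2, 38, 3, 39], [38, 4, 39, 5], [4, 38, 5, 39], [38, 6, 39, 7], [6,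 38, 7, 39], [38, 8, 39, 9], [8, 38, 9, 39], [38, 10, 39, 11], [10, 38, 11, 39], [38, 12, 39, 13], [12, 38, 13, 39], [12, 4, 12, 4, 12, 4, 0, 5, 13, 5, 13, 5, 13, 0, 41], [40, 1, 12, 4, 12, 4, 12, 4, 1, 5, 13, 5, 13, 5, 13], [40, 0, 41, 1], [0, 40, 1, 41], [40, 2, 41, 3], [2, 40, 3, 41], [40, 4, 41, 5], [4, 40, 5, 41], [40, 6, 41, 7], [6, 40, 7, 41], [40, 8, 41, 9], [8, 40, 9, 41], [40, 10, 41, 11], [10, 40, 11, 41], [40, 12, 41, 13], [12, 40, 13, 41], [12, 4, 2, 1, 6, 4, 2, 0, 8, 6, 4, 2, 10, 8, 6, 4, 13, 5, 7, 9, 11, 3, 5, 7, 9, 1, 3, 5, 7, 0, 3, 5, 43], [42, 4, 2, 1, 6, 4, 2, 0, 8, 6, 4, 2, 10, 8, 6, 4, 12, 5, 7, 9, 11, 3, 5, 7, 9, 1, 3, 5, 7, 0, 3, 5, 13], [42, 0, 43, 1], [0, 42, 1, 43], [42, 2, 43, 3], [2, 42, 3, 43], [42, 4, 43, 5], [4, 42, 5, 43], [42, 6, 43, 7], [6, 42, 7, 43], [42, 8, 43, 9], [8, 42, 9, 43], [42, 10, 43, 11], [10, 42, 11, 43], [42, 12, 43, 13], [12, 42, 13, 43], [12, 1, 2, 4, 6, 10, 12, 1, 2, 4, 6, 10, 12, 1, 2, 4, 6, 10, 12, 1, 2, 4, 6, 10, 12, 1, 2, 4, 6, 10, 45], [44,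 11, 7, 5, 3, 0, 13, 11, 7, 5, 3, 0, 13, 11, 7, 5, 3, 0, 13, 11, 7, 5, 3, 0, 13, 11, 7, 5, 3, 0, 13], [44, 0, 45, 1], [0, 44, 1, 45], [44, 2, 45, 3], [2, 44, 3, 45], [44, 4, 45, 5], [4, 44, 5, 45], [44, 6, 45, 7], [6, 44, 7, 45], [44, 8, 45, 9], [8, 44, 9, 45], [44, 10, 45, 11], [10, 44, 11, 45], [44, 12, 45, 13], [12, 44, 13, 45], [14, 16, 15, 17], [16, 14, 17, 15], [14, 18, 15, 19], [18, 14, 19, 15], [14, 20, 15, 21], [20, 14, 21, 15], [14, 22, 15, 23], [22, 14, 23, 15], [14, 24, 15, 25], [24, 14, 25, 15], [14, 26, 15, 27], [26, 14, 27, 15], [14, 28, 15, 29], [28, 14, 29, 15], [14, 30, 15, 31], [30, 14, 31, 15], [14, 32, 15, 33], [32, 14, 33, 15], [14, 34, 15, 35], [34, 14, 35, 15], [14, 36, 15, 37], [36, 14, 37, 15], [14, 38, 15, 39], [38, 14, 39, 15], [14, 40, 15, 41], [40, 14, 41, 15], [14, 42, 15, 43], [42, 14, 43, 15], [14, 44, 15, 45], [44, 14, 45, 15], [16, 18, 17, 19], [18, 16, 19, 17], [16, 20, 17, 21], [20, 16, 21, 17], [16, 22, 17, 23], [22, 16, 23, 17], [16, 24, 17, 25], [24, 16, 25,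 17], [16, 26, 17, 27], [26, 16, 27, 17], [16, 28, 17, 29], [28, 16, 29, 17], [16, 30, 17, 31], [30, 16, 31, 17], [16, 32, 17, 33], [32, 16, 33, 17], [16, 34, 17, 35], [34, 16, 35, 17], [16, 36, 17, 37], [36, 16, 37, 17], [16, 38, 17, 39], [38, 16, 39, 17], [16, 40, 17, 41], [40, 16, 41, 17], [16, 42, 17, 43], [42, 16, 43, 17], [16, 44, 17, 45], [44, 16, 45, 17], [18, 20, 19, 21], [20, 18, 21, 19], [18, 22, 19, 23], [22, 18, 23, 19], [18, 24, 19, 25], [24, 18, 25, 19], [18, 26, 19, 27], [26, 18, 27, 19], [18, 28, 19, 29], [28, 18, 29, 19], [18, 30, 19, 31], [30, 18, 31, 19], [18, 32, 19, 33], [32, 18, 33, 19], [18, 34, 19, 35], [34, 18, 35, 19], [18, 36, 19, 37], [36, 18, 37, 19], [18, 38, 19, 39], [38, 18, 39, 19], [18, 40, 19, 41], [40, 18, 41, 19], [18, 42, 19, 43], [42, 18, 43, 19], [18, 44, 19, 45], [44, 18, 45, 19], [20, 22, 21, 23], [22, 20, 23, 21], [20, 24, 21, 25], [24, 20, 25, 21], [20, 26, 21, 27], [26, 20, 27, 21], [20, 28, 21, 29], [28, 20, 29, 21], [20, 30, 21, 31], [30, 20, 31, 21],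 [20, 32, 21, 33], [32, 20, 33, 21], [20, 34, 21, 35], [34, 20, 35, 21], [20, 36, 21, 37], [36, 20, 37, 21], [20, 38, 21, 39], [38, 20, 39, 21], [20, 40, 21, 41], [40, 20, 41, 21], [20, 42, 21, 43], [42, 20, 43, 21], [20, 44, 21, 45], [44, 20, 45, 21], [22, 24, 23, 25], [24, 22, 25, 23], [22, 26, 23, 27], [26, 22, 27, 23], [22, 28, 23, 29], [28, 22, 29, 23], [22, 30, 23, 31], [30, 22, 31, 23], [22, 32, 23, 33], [32, 22, 33, 23], [22, 34, 23, 35], [34, 22, 35, 23], [22, 36, 23, 37], [36, 22, 37, 23], [22, 38, 23, 39], [38, 22, 39, 23], [22, 40, 23, 41], [40, 22, 41, 23], [22, 42, 23, 43], [42, 22, 43, 23], [22, 44, 23, 45], [44, 22, 45, 23], [24, 26, 25, 27], [26, 24, 27, 25], [24, 28, 25, 29], [28, 24, 29, 25], [24, 30, 25, 31], [30, 24, 31, 25], [24, 32, 25, 33], [32, 24, 33, 25], [24, 34, 25, 35], [34, 24, 35, 25], [24, 36, 25, 37], [36, 24, 37, 25], [24, 38, 25, 39], [38, 24, 39, 25], [24, 40, 25, 41], [40, 24, 41, 25], [24, 42, 25, 43], [42, 24, 43, 25], [24, 44, 25, 45], [44, 24, 45, 25], [26,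 28, 27, 29], [28, 26, 29, 27], [26, 30, 27, 31], [30, 26, 31, 27], [26, 32, 27, 33], [32, 26, 33, 27], [26, 34, 27, 35], [34, 26, 35, 27], [26, 36, 27, 37], [36, 26, 37, 27], [26, 38, 27, 39], [38, 26, 39, 27], [26, 40, 27, 41], [40, 26, 41, 27], [26, 42, 27, 43], [42, 26, 43, 27], [26, 44, 27, 45], [44, 26, 45, 27], [28, 30, 29, 31], [30, 28, 31, 29], [28, 32, 29, 33], [32, 28, 33, 29], [28, 34, 29, 35], [34, 28, 35, 29], [28, 36, 29, 37], [36, 28, 37, 29], [28, 38, 29, 39], [38, 28, 39, 29], [28, 40, 29, 41], [40, 28, 41, 29], [28, 42, 29, 43], [42, 28, 43, 29], [28, 44, 29, 45], [44, 28, 45, 29], [30, 32, 31, 33], [32, 30, 33, 31], [30, 34, 31, 35], [34, 30, 35, 31], [30, 36, 31, 37], [36, 30, 37, 31], [30, 38, 31, 39], [38, 30, 39, 31], [30, 40, 31, 41], [40, 30, 41, 31], [30, 42, 31, 43], [42, 30, 43, 31], [30, 44, 31, 45], [44, 30, 45, 31], [32, 34, 33, 35], [34, 32, 35, 33], [32, 36, 33, 37], [36, 32, 37, 33], [32, 38, 33, 39], [38, 32, 39, 33], [32, 40, 33, 41], [40, 32, 41, 33], [32, 42,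 33, 43], [42, 32, 43, 33], [32, 44, 33, 45], [44, 32, 45, 33], [34, 36, 35, 37], [36, 34, 37, 35], [34, 38, 35, 39], [38, 34, 39, 35], [34, 40, 35, 41], [40, 34, 41, 35], [34, 42, 35, 43], [42, 34, 43, 35], [34, 44, 35, 45], [44, 34, 45, 35], [36, 38, 37, 39], [38, 36, 39, 37], [36, 40, 37, 41], [40, 36, 41, 37], [36, 42, 37, 43], [42, 36, 43, 37], [36, 44, 37, 45], [44, 36, 45, 37], [38, 40, 39, 41], [40, 38, 41, 39], [38, 42, 39, 43], [42, 38, 43, 39], [38, 44, 39, 45], [44, 38, 45, 39], [40, 42, 41, 43], [42, 40, 43, 41], [40, 44, 41, 45], [44, 40, 45, 41], [42, 44, 43, 45], [44, 42, 45, 43], [15, 15, 44], [45, 14, 14]]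
def dD : Data := ⟨23, dF, dP, dRels, [0, 2, 4, 6, 8, 10]⟩
def dJ0 : List (List ℕ) := [[1, 0], [1, 0], [1, 0], [1, 0], [1, 0], [1, 0], [0, 0], [0, 0], [91, 2, 12, 14], [93, 1, 16, 1, 17], [95, 1, 16, 3, 17], [97, 1, 16, 5, 17], [99, 1, 16, 7, 17], [101, 1, 16, 9, 17], [103, 1, 16, 11, 17], [0, 0], [105, 2, 13, 17, 30], [0, 0], [0, 0], [0, 0], [107, 4, 12, 34, 36, 38], [109, 2, 40, 1, 41, 39], [20, 0, 41, 43], [122, 1, 36, 44, 12], [108, 1, 14, 19, 15, 46], [49, 0, 48, 34, 48], [4, 0, 34, 51], [15, 0, 37, 51, 13], [20, 0, 46, 51], [20, 0, 45, 55], [347, 1, 16, 58, 17], [108, 3, 31, 60, 18, 30], [121, 2, 31, 60, 30], [0, 0], [0, 0], [0, 0], [123, 4, 12, 66, 68, 70], [125, 1, 72, 1, 73], [127, 2, 72, 3, 73, 71], [3, 0, 76, 75, 77], [22, 0, 73, 77], [138, 1, 68, 80, 12], [377, 2, 80, 59, 81], [107, 1, 68, 79, 84, 69], [124, 1, 14, 21, 15, 82], [61, 1, 88, 53, 66, 86, 88, 53], [6, 0, 66, 91], [15, 0, 69, 91, 13], [22, 0, 82, 91], [22, 0, 81, 95], [349, 1, 16, 98, 17], [124, 3, 31, 100, 20, 30], [137,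 2, 31, 100, 30], [0, 0], [0, 0], [0, 0], [139, 4, 12, 106, 108, 110], [143, 1, 112, 3, 113], [147, 2, 112, 7, 113, 111], [5, 0, 116, 115, 117], [24, 0, 113, 117], [149, 1, 120, 9, 121], [154, 1, 108, 120, 12], [405, 2, 120, 99, 121], [123, 1, 108, 119, 126, 109], [79, 1, 93, 106, 128], [147, 2, 107, 124, 130], [0, 0], [0, 0], [0, 0], [155, 4, 12, 134, 136, 138], [159, 1, 140, 3, 141], [165, 2, 140, 9, 141, 139], [5, 0, 144, 143, 145], [26, 0, 141, 145], [170, 1, 136, 148, 12], [407, 2, 148, 99, 149], [123, 1, 136, 147, 152, 137], [81, 1, 93, 134, 154], [165, 2, 135, 150, 156], [0, 0], [0, 0], [0, 0], [171, 4, 12, 160, 162, 164], [183, 2, 166, 11, 167, 165], [28, 0, 167, 169], [186, 1, 162, 170, 12], [0, 0], [0, 0], [0, 0], [0, 0], [0, 0], [0, 0], [0, 0], [0, 0], [0, 0], [0, 0], [0, 0], [187, 12, 12, 174, 176, 178, 180, 182, 184, 186, 188, 190, 192, 194], [189, 1, 196, 1, 197], [191, 1, 196, 3, 197], [193, 1, 194, 196, 5, 197], [3, 0, 203, 199, 202], [5, 0, 203, 201, 202], [8, 0, 194, 202], [30,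 0, 197, 202], [195, 1, 210, 7, 211], [197, 1, 210, 9, 211], [199, 1, 210, 11, 211], [385, 2, 210, 59, 211], [411, 2, 210, 99, 211], [137, 0, 192, 220, 193], [124, 1, 192, 207, 193, 222], [130, 3, 190, 222, 191], [137, 0, 188, 226, 189], [130, 3, 186, 228, 187], [137, 0, 184, 230, 185], [130, 3, 182, 232, 183], [137, 0, 180, 234, 181], [130, 3, 178, 236, 179], [137, 0, 176, 238, 177], [121, 0, 192, 218, 193], [108, 1, 192, 205, 193, 242], [114, 3, 190, 242, 191], [121, 0, 188, 246, 189], [114, 3, 186, 248, 187], [121, 0, 184, 250, 185], [114, 3, 182, 252, 183], [121, 0, 180, 254, 181], [114, 3, 178, 256, 179], [121, 0, 176, 258, 177], [219, 14, 184, 186, 188, 190, 192, 209, 209, 208, 193, 191, 189, 187, 185, 183], [53, 1, 190], [71, 0, 190, 244, 264], [107, 3, 249, 188, 266, 189], [53, 1, 186], [71, 0, 186, 269, 270], [107, 3, 253, 184, 272, 185], [221, 1, 262, 274, 263], [300, 0, 274, 184, 186, 188, 190, 192, 209, 205, 208, 193, 191, 189, 187, 185], [300, 0, 1, 12, 174, 176, 178, 180, 182, 274,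 183, 181, 179, 177, 175, 13], [71, 1, 276, 182, 275], [225, 0, 282, 262, 183], [305, 2, 283, 278, 282], [313, 0, 180, 286, 181], [300, 1, 180, 182, 184, 186, 188, 190, 245, 191, 189, 187, 185, 183, 181, 288], [306, 3, 178, 288, 179], [313, 0, 176, 292, 177], [300, 1, 176, 178, 180, 182, 184, 186, 268, 187, 185, 183, 181, 179, 177, 294], [306, 3, 174, 294, 175], [371, 1, 32, 298, 33], [72, 0, 296, 175, 52], [107, 1, 177, 296, 261, 176], [71, 3, 304, 178, 291], [0, 0], [201, 2, 13, 211, 308], [91, 2, 192, 308], [0, 0], [0, 0], [0, 0], [0, 0], [0, 0], [0, 0], [0, 0], [0, 0], [203, 14, 12, 174, 176, 178, 180, 182, 314, 316, 318, 320, 322, 324, 326, 328], [205, 1, 330, 1, 331], [207, 2, 330, 3, 331, 329], [3, 0, 334, 333, 335], [32, 0, 331, 335], [218, 1, 326, 338, 12], [387, 2, 338, 59, 339], [107, 1, 326, 337, 342, 327], [122, 1, 326, 342, 327], [113, 2, 324, 346, 325], [122, 1, 322, 348, 323], [113, 2, 320, 350, 321], [209, 2, 175, 340, 325], [210, 2, 354, 303, 340], [72, 1, 324, 345, 356], [107,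 1, 322, 358, 348, 323], [218, 1, 322, 354, 176], [209, 2, 179, 362, 321], [210, 2, 364, 306, 362], [72, 1, 320, 361, 366], [107, 1, 318, 368, 352, 319], [203, 13, 364, 180, 182, 184, 186, 188, 190, 224, 191, 189, 187, 185, 183, 181], [218, 1, 318, 364, 180], [209, 2, 183, 374, 317], [516, 2, 376, 263, 374], [223, 1, 378, 315, 263], [51, 1, 380], [61, 1, 380, 370, 382, 276, 380, 370], [6, 0, 380, 384], [8, 0, 316, 384, 182], [15, 0, 319, 384, 181], [32, 0, 374, 384], [6, 0, 314, 389], [5, 0, 372, 391], [8, 0, 366, 391, 306]]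
def dJ1 : List (List ℕ) := [[32, 0, 365, 391], [15, 0, 323, 399, 177], [32, 0, 362, 399], [8, 0, 356, 403, 303], [32, 0, 355, 403], [15, 0, 327, 407, 13], [32, 0, 340, 407], [32, 0, 339, 411], [63, 0, 387, 182, 395, 282, 387, 182], [8, 0, 182, 416], [15, 0, 185, 416], [34, 0, 284, 416], [233, 0, 180, 422, 181], [234, 1, 421, 422, 420], [225, 2, 187, 426, 186], [234, 1, 189, 428, 188], [225, 2, 191, 430, 190], [361, 1, 312, 432, 313], [499, 3, 311, 434, 310], [225, 0, 303, 436, 302], [233, 0, 12, 436, 13], [361, 1, 32, 436, 33], [233, 2, 177, 438, 176], [91, 2, 180, 420], [283, 14, 180, 419, 420, 186, 188, 190, 192, 208, 193, 191, 189, 187, 421, 181], [289, 0, 178, 448, 179], [298, 1, 181, 448, 180], [369, 1, 446, 448, 447], [289, 2, 187, 454, 186], [298, 1, 189, 456, 188], [289, 2, 191, 458, 190], [369, 1, 312, 460, 313], [507, 3, 311, 462, 310], [289, 0, 303, 464, 302], [297, 0, 12, 464, 13], [369, 1, 32, 464, 33], [97, 0, 270, 446, 179], [359, 1, 16, 414, 17], [217, 2, 31, 474, 30], [0, 0], [0,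 0], [0, 0], [0, 0], [0, 0], [0, 0], [0, 0], [0, 0], [235, 14, 12, 174, 176, 178, 180, 419, 478, 480, 482, 484, 486, 488, 490, 492], [237, 1, 494, 1, 495], [243, 2, 494, 7, 495, 493], [3, 0, 498, 497, 499], [36, 0, 495, 499], [250, 1, 490, 502, 12], [551, 1, 502, 281, 503], [300, 8, 480, 482, 484, 486, 488, 490, 506, 501, 491, 489, 487, 485, 483, 481], [74, 0, 508, 479, 277], [235, 14, 420, 186, 188, 190, 192, 209, 212, 208, 193, 191, 189, 187, 421, 510], [243, 0, 478, 512, 510], [241, 0, 514, 419, 515, 480], [7, 0, 480, 516], [16, 0, 483, 516], [250, 3, 521, 514, 181], [241, 0, 178, 522, 484], [242, 0, 524, 307, 522], [250, 3, 487, 524, 177], [241, 0, 174, 528, 488], [242, 0, 530, 302, 528], [241, 0, 532, 505, 302], [249, 2, 177, 534, 487], [241, 0, 526, 536, 307], [65, 0, 518, 511, 419, 478, 518, 511], [10, 0, 478, 541], [15, 0, 521, 541, 181], [36, 0, 513, 541], [8, 0, 527, 545, 306], [36, 0, 538, 545], [15, 0, 487, 549, 177], [36, 0, 537, 549], [8, 0, 533, 553, 303], [36, 0, 534, 553], [15,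 0, 491, 557, 13], [36, 0, 504, 557], [36, 0, 503, 561], [363, 1, 16, 564, 17], [249, 2, 31, 566, 30], [0, 0], [0, 0], [0, 0], [0, 0], [0, 0], [0, 0], [0, 0], [0, 0], [251, 14, 12, 174, 176, 178, 180, 419, 570, 572, 574, 576, 578, 580, 582, 584], [253, 1, 586, 1, 587], [261, 2, 586, 9, 587, 585], [3, 0, 590, 589, 591], [38, 0, 587, 591], [266, 1, 582, 594, 12], [561, 1, 594, 281, 595], [300, 8, 572, 574, 576, 578, 580, 582, 598, 593, 583, 581, 579, 577, 575, 573], [76, 0, 600, 571, 277], [86, 2, 571, 418, 602, 572], [16, 0, 575, 604], [251, 14, 420, 186, 188, 190, 192, 209, 214, 208, 193, 191, 189, 187, 421, 602], [261, 0, 570, 608, 602], [259, 3, 610, 543, 611], [266, 3, 607, 610, 181], [257, 0, 178, 614, 576], [258, 0, 616, 307, 614], [266, 3, 579, 616, 177], [257, 0, 174, 620, 580], [258, 0, 622, 302, 620], [257, 0, 624, 597, 302], [265, 2, 177, 626, 579], [257, 0, 618, 628, 307], [68, 1, 612, 571, 542, 602, 612, 571], [12, 0, 570, 633], [15, 0, 607, 633, 181], [38, 0, 609, 633], [8, 0, 619,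 637, 306], [38, 0, 630, 637], [15, 0, 579, 641, 177], [38, 0, 629, 641], [8, 0, 625, 645, 303], [38, 0, 626, 645], [15, 0, 583, 649, 13], [38, 0, 596, 649], [38, 0, 595, 653], [365, 1, 16, 656, 17], [265, 2, 31, 658, 30], [0, 0], [0, 0], [0, 0], [0, 0], [0, 0], [0, 0], [0, 0], [0, 0], [267, 14, 12, 174, 176, 178, 180, 419, 662, 664, 666, 668, 670, 672, 674, 676], [269, 1, 678, 1, 679], [279, 2, 678, 11, 679, 677], [3, 0, 682, 681, 683], [40, 0, 679, 683], [282, 1, 674, 686, 12], [569, 1, 686, 281, 687], [300, 8, 664, 666, 668, 670, 672, 674, 690, 685, 675, 673, 671, 669, 667, 665], [78, 0, 692, 663, 277], [88, 2, 663, 418, 694, 664], [16, 0, 667, 696], [267, 14, 420, 186, 188, 190, 192, 209, 216, 208, 193, 191, 189, 187, 421, 694], [279, 0, 662, 700, 694], [277, 3, 702, 635, 703], [282, 3, 699, 702, 181], [273, 0, 178, 706, 668], [274, 0, 708, 307, 706], [282, 3, 671, 708, 177], [273, 0, 174, 712, 672], [274, 0, 714, 302, 712], [273, 0, 716, 689, 302], [281, 2, 177, 718, 671], [273, 0, 710, 720,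 307], [70, 1, 704, 663, 634, 694, 704, 663], [14, 0, 662, 725], [15, 0, 699, 725, 181], [40, 0, 701, 725], [8, 0, 711, 729, 306], [40, 0, 722, 729], [15, 0, 671, 733, 177], [40, 0, 721, 733], [8, 0, 717, 737, 303], [40, 0, 718, 737], [15, 0, 675, 741, 13], [40, 0, 688, 741], [40, 0, 687, 745], [367, 1, 16, 748, 17], [281, 2, 31, 750, 30], [0, 0], [283, 9, 31, 23, 15, 13, 469, 12, 174, 176, 178, 180, 419, 420, 271, 754], [54, 1, 756], [72, 3, 756, 62, 758], [98, 1, 756, 32, 174], [92, 1, 177, 762], [105, 2, 764, 472, 188], [97, 0, 264, 766, 756], [587, 2, 766, 763], [337, 2, 302, 770, 190], [346, 1, 193, 772, 14], [375, 1, 312, 772, 33], [0, 0], [0, 0], [0, 0], [0, 0], [0, 0], [0, 0], [0, 0], [0, 0], [0, 0], [0, 0], [0, 0]]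
def dJ2 : List (List ℕ) := [[0, 0], [0, 0], [0, 0], [0, 0], [0, 0], [0, 0], [0, 0], [0, 0], [0, 0], [0, 0], [0, 0], [0, 0], [0, 0], [0, 0], [0, 0], [0, 0], [0, 0], [0, 0], [0, 0], [315, 32, 12, 174, 778, 780, 782, 784, 786, 788, 790, 792, 794, 796, 798, 800, 802, 804, 806, 808, 810, 812, 814, 816, 818, 820, 822, 824, 826, 828, 830, 832, 834, 836], [317, 1, 838, 1, 839], [319, 1, 838, 3, 839], [321, 2, 838, 5, 839, 837], [3, 0, 844, 841, 845], [6, 0, 844, 843, 845, 835], [7, 0, 848, 836, 845, 849], [46, 0, 839, 845, 849], [3, 0, 848, 846, 849, 833], [5, 0, 854, 834, 849, 855], [4, 0, 832, 855], [7, 0, 854, 851, 855], [46, 0, 853, 855], [323, 2, 862, 7, 863, 831], [3, 0, 864, 858, 865], [5, 0, 864, 857, 865], [8, 0, 864, 861, 865, 829], [9, 0, 870, 830, 865, 871], [46, 0, 863, 865, 871], [3, 0, 870, 867, 871], [6, 0, 870, 869, 871, 827], [7, 0, 878, 828, 871, 879], [4, 0, 878, 877, 879, 825], [5, 0, 882, 826, 879, 883], [9, 0, 882, 878, 873, 879, 883], [46, 0, 875, 879, 883], [3, 0, 824, 883], [7,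 0, 882, 881, 883], [325, 2, 888, 9, 889, 823], [3, 0, 894, 891, 895], [5, 0, 894, 885, 895], [7, 0, 894, 893, 895], [10, 0, 894, 887, 895, 821], [11, 0, 902, 822, 895, 903], [46, 0, 889, 895, 903], [3, 0, 902, 897, 903], [5, 0, 902, 899, 903], [8, 0, 902, 901, 903, 819], [9, 0, 912, 820, 903, 913], [3, 0, 912, 909, 913], [6, 0, 912, 911, 913, 817], [7, 0, 918, 818, 913, 919], [11, 0, 918, 912, 905, 913, 919], [46, 0, 907, 913, 919], [3, 0, 918, 917, 919], [5, 0, 816, 919], [9, 0, 918, 915, 919], [327, 2, 924, 11, 925, 815], [3, 0, 932, 927, 933], [5, 0, 932, 929, 933], [7, 0, 932, 921, 933], [9, 0, 932, 931, 933], [12, 0, 932, 923, 933, 813], [13, 0, 942, 814, 933, 943], [46, 0, 925, 933, 943], [3, 0, 942, 935, 943], [5, 0, 942, 937, 943], [7, 0, 942, 939, 943], [10, 0, 942, 941, 943, 811], [11, 0, 954, 812, 943, 955], [3, 0, 954, 949, 955], [5, 0, 954, 951, 955], [8, 0, 954, 953, 955, 809], [9, 0, 962, 810, 955, 963], [13, 0, 962, 954, 945, 955, 963], [46, 0, 947, 955, 963], [3, 0, 962, 959, 963],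 [5, 0, 962, 961, 963], [7, 0, 808, 963], [11, 0, 962, 957, 963], [330, 1, 806, 968, 12], [401, 2, 968, 59, 969], [427, 2, 968, 99, 969], [527, 2, 968, 415, 969], [541, 2, 968, 440, 969], [553, 2, 968, 565, 969], [563, 2, 968, 657, 969], [571, 2, 968, 749, 969], [577, 2, 968, 468, 969], [581, 2, 968, 280, 969], [314, 1, 806, 996, 807], [306, 3, 804, 998, 805], [307, 0, 802, 1000, 803], [310, 3, 800, 1002, 801], [311, 0, 798, 1004, 799], [304, 3, 796, 1006, 797], [305, 0, 794, 1008, 795], [308, 3, 792, 1010, 793], [309, 0, 790, 1012, 791], [302, 3, 788, 1014, 789], [303, 0, 786, 1016, 787], [306, 3, 784, 1018, 785], [307, 0, 782, 1020, 783], [301, 2, 780, 1022, 781], [298, 1, 806, 994, 807], [290, 3, 804, 1026, 805], [291, 0, 802, 1028, 803], [294, 3, 800, 1030, 801], [295, 0, 798, 1032, 799], [288, 3, 796, 1034, 797], [289, 0, 794, 1036, 795], [292, 3, 792, 1038, 793], [293, 0, 790, 1040, 791], [286, 3, 788, 1042, 789], [287, 0, 786, 1044, 787], [290, 3, 784, 1046, 785], [291, 0, 782, 1048, 783],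 [285, 2, 780, 1050, 781], [282, 1, 806, 992, 807], [274, 3, 804, 1054, 805], [275, 0, 802, 1056, 803], [278, 3, 800, 1058, 801], [279, 0, 798, 1060, 799], [272, 3, 796, 1062, 797], [273, 0, 794, 1064, 795], [276, 3, 792, 1066, 793], [277, 0, 790, 1068, 791], [270, 3, 788, 1070, 789], [271, 0, 786, 1072, 787], [274, 3, 784, 1074, 785], [275, 0, 782, 1076, 783], [269, 2, 780, 1078, 781], [266, 1, 806, 990, 807], [258, 3, 804, 1082, 805], [259, 0, 802, 1084, 803], [262, 3, 800, 1086, 801], [263, 0, 798, 1088, 799], [256, 3, 796, 1090, 797], [257, 0, 794, 1092, 795], [260, 3, 792, 1094, 793], [261, 0, 790, 1096, 791], [254, 3, 788, 1098, 789], [255, 0, 786, 1100, 787], [258, 3, 784, 1102, 785], [259, 0, 782, 1104, 783], [253, 2, 780, 1106, 781], [250, 1, 806, 988, 807], [242, 3, 804, 1110, 805], [243, 0, 802, 1112, 803], [246, 3, 800, 1114, 801], [247, 0, 798, 1116, 799], [240, 3, 796, 1118, 797], [241, 0, 794, 1120, 795], [244, 3, 792, 1122, 793], [245, 0, 790, 1124, 791], [238, 3, 788, 1126, 789],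 [239, 0, 786, 1128, 787], [242, 3, 784, 1130, 785], [243, 0, 782, 1132, 783], [237, 2, 780, 1134, 781], [234, 1, 806, 986, 807], [226, 3, 804, 1138, 805], [227, 0, 802, 1140, 803], [230, 3, 800, 1142, 801], [231, 0, 798, 1144, 799], [224, 3, 796, 1146, 797], [225, 0, 794, 1148, 795], [228, 3, 792, 1150, 793], [229, 0, 790, 1152, 791], [222, 3, 788, 1154, 789], [223, 0, 786, 1156, 787], [226, 3, 784, 1158, 785], [227, 0, 782, 1160, 783], [221, 2, 780, 1162, 781], [218, 1, 806, 984, 807], [210, 3, 804, 1166, 805], [211, 0, 802, 1168, 803], [214, 3, 800, 1170, 801], [215, 0, 798, 1172, 799], [208, 3, 796, 1174, 797], [209, 0, 794, 1176, 795], [212, 3, 792, 1178, 793], [213, 0, 790, 1180, 791], [206, 3, 788, 1182, 789], [207, 0, 786, 1184, 787], [210, 3, 784, 1186, 785], [211, 0, 782, 1188, 783], [205, 2, 780, 1190, 781], [123, 1, 806, 973, 982, 807], [138, 1, 806, 982, 807], [130, 3, 804, 1196, 805]]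
def dJ3 : List (List ℕ) := [[131, 0, 802, 1198, 803], [134, 3, 800, 1200, 801], [135, 0, 798, 1202, 799], [128, 3, 796, 1204, 797], [129, 0, 794, 1206, 795], [132, 3, 792, 1208, 793], [133, 0, 790, 1210, 791], [126, 3, 788, 1212, 789], [127, 0, 786, 1214, 787], [130, 3, 784, 1216, 785], [131, 0, 782, 1218, 783], [125, 2, 780, 1220, 781], [107, 1, 806, 971, 980, 807], [122, 1, 806, 980, 807], [114, 3, 804, 1226, 805], [115, 0, 802, 1228, 803], [118, 3, 800, 1230, 801], [119, 0, 798, 1232, 799], [112, 3, 796, 1234, 797], [113, 0, 794, 1236, 795], [116, 3, 792, 1238, 793], [117, 0, 790, 1240, 791], [110, 3, 788, 1242, 789], [111, 0, 786, 1244, 787], [114, 3, 784, 1246, 785], [115, 0, 782, 1248, 783], [109, 2, 780, 1250, 781], [322, 3, 303, 978, 805], [322, 2, 979, 174, 1255], [72, 3, 1256, 1225, 805], [55, 1, 802], [73, 0, 802, 1259, 1260], [57, 1, 800], [75, 0, 800, 1262, 1264], [59, 1, 798], [77, 0, 798, 1266, 1268], [51, 1, 796], [53, 1, 794], [55, 1, 792], [57, 1, 790], [51, 1, 786], [53, 1, 784],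 [55, 1, 782], [51, 1, 778], [63, 1, 1286, 303, 93, 174, 778], [0, 0], [0, 0], [0, 0], [0, 0], [0, 0], [0, 0], [0, 0], [0, 0], [0, 0], [0, 0], [0, 0], [0, 0], [0, 0], [0, 0], [0, 0], [0, 0], [0, 0], [0, 0], [0, 0], [0, 0], [0, 0], [0, 0], [0, 0], [0, 0], [0, 0], [0, 0], [331, 30, 12, 52, 93, 174, 1290, 1292, 1294, 1296, 1298, 1300, 1302, 1304, 1306, 1308, 1310, 1312, 1314, 1316, 1318, 1320, 1322, 1324, 1326, 1328, 1330, 1332, 1334, 1336, 1338, 1340], [333, 1, 1342, 1, 1343], [335, 1, 1342, 3, 1343], [337, 1, 1342, 5, 1343], [339, 1, 1342, 7, 1343], [341, 1, 1342, 9, 1343], [343, 1, 1340, 1342, 11, 1343], [3, 0, 1355, 1345, 1354], [5, 0, 1355, 1347, 1354], [7, 0, 1355, 1349, 1354], [9, 0, 1355, 1350, 1354, 1339], [11, 0, 1362, 1355, 1353, 1354, 1363], [14, 0, 1362, 1340, 1354, 1363], [48, 0, 1343, 1354, 1363], [3, 0, 1362, 1357, 1363], [5, 0, 1362, 1359, 1363], [7, 0, 1362, 1360, 1363, 1337], [10, 0, 1374, 1338, 1363, 1375], [3, 0, 1374, 1371, 1375], [5, 0, 1374, 1372, 1375, 1335], [8, 0, 1380, 1336,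 1375, 1381], [11, 0, 1380, 1374, 1365, 1375, 1381], [13, 0, 1380, 1374, 1366, 1375, 1381], [48, 0, 1369, 1375, 1381], [4, 0, 1380, 1379, 1381, 1333], [6, 0, 1390, 1334, 1381, 1391], [9, 0, 1390, 1380, 1376, 1381, 1391], [3, 0, 1332, 1391], [7, 0, 1390, 1382, 1391], [11, 0, 1390, 1385, 1391], [13, 0, 1390, 1387, 1391], [48, 0, 1389, 1391], [346, 2, 1404, 12, 773], [588, 2, 1404, 17], [92, 2, 31, 1408, 1331], [14, 0, 1328, 1410], [15, 0, 1331, 1410], [171, 4, 1414, 1402, 1415, 1412], [175, 1, 1416, 102, 1417], [356, 1, 1416, 32, 172], [383, 2, 1416, 65, 1417], [409, 2, 1416, 105, 1417], [479, 1, 1416, 476, 1417], [481, 1, 1416, 443, 1417], [483, 1, 1416, 568, 1417], [485, 1, 1416, 660, 1417], [487, 1, 1416, 752, 1417], [489, 1, 1416, 471, 1417], [491, 1, 1416, 301, 1417], [308, 3, 1326, 1438, 1327], [305, 0, 1324, 1440, 1325], [304, 3, 1322, 1442, 1323], [302, 1, 1320, 1444, 1321], [314, 3, 1318, 1446, 1319], [311, 0, 1316, 1448, 1317], [308, 3, 1314, 1450, 1315], [305, 0, 1312, 1452, 1313], [304,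 3, 1310, 1454, 1311], [302, 1, 1308, 1456, 1309], [314, 3, 1306, 1458, 1307], [311, 0, 1304, 1460, 1305], [308, 3, 1302, 1462, 1303], [305, 0, 1300, 1464, 1301], [304, 3, 1298, 1466, 1299], [302, 1, 1296, 1468, 1297], [314, 3, 1294, 1470, 1295], [311, 0, 1292, 1472, 1293], [292, 3, 1326, 1436, 1327], [289, 0, 1324, 1476, 1325], [288, 3, 1322, 1478, 1323], [286, 1, 1320, 1480, 1321], [298, 3, 1318, 1482, 1319], [295, 0, 1316, 1484, 1317], [292, 3, 1314, 1486, 1315], [289, 0, 1312, 1488, 1313], [288, 3, 1310, 1490, 1311], [286, 1, 1308, 1492, 1309], [298, 3, 1306, 1494, 1307], [295, 0, 1304, 1496, 1305], [292, 3, 1302, 1498, 1303], [289, 0, 1300, 1500, 1301], [288, 3, 1298, 1502, 1299], [286, 1, 1296, 1504, 1297], [298, 3, 1294, 1506, 1295], [295, 0, 1292, 1508, 1293], [276, 3, 1326, 1434, 1327], [273, 0, 1324, 1512, 1325], [272, 3, 1322, 1514, 1323], [270, 1, 1320, 1516, 1321], [282, 3, 1318, 1518, 1319], [279, 0, 1316, 1520, 1317], [276, 3, 1314, 1522, 1315], [273, 0, 1312, 1524, 1313], [272, 3,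 1310, 1526, 1311], [270, 1, 1308, 1528, 1309], [282, 3, 1306, 1530, 1307], [279, 0, 1304, 1532, 1305], [276, 3, 1302, 1534, 1303], [273, 0, 1300, 1536, 1301], [272, 3, 1298, 1538, 1299], [270, 1, 1296, 1540, 1297], [282, 3, 1294, 1542, 1295], [279, 0, 1292, 1544, 1293], [260, 3, 1326, 1432, 1327], [257, 0, 1324, 1548, 1325], [256, 3, 1322, 1550, 1323], [254, 1, 1320, 1552, 1321], [266, 3, 1318, 1554, 1319], [263, 0, 1316, 1556, 1317], [260, 3, 1314, 1558, 1315], [257, 0, 1312, 1560, 1313], [256, 3, 1310, 1562, 1311], [254, 1, 1308, 1564, 1309], [266, 3, 1306, 1566, 1307], [263, 0, 1304, 1568, 1305], [260, 3, 1302, 1570, 1303], [257, 0, 1300, 1572, 1301], [256, 3, 1298, 1574, 1299], [254, 1, 1296, 1576, 1297], [266, 3, 1294, 1578, 1295], [263, 0, 1292, 1580, 1293], [244, 3, 1326, 1430, 1327], [241, 0, 1324, 1584, 1325], [240, 3, 1322, 1586, 1323], [238, 1, 1320, 1588, 1321], [250, 3, 1318, 1590, 1319], [247, 0, 1316, 1592, 1317], [244, 3, 1314, 1594, 1315], [241, 0, 1312, 1596, 1313]]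
def dJ4 : List (List ℕ) := [[240, 3, 1310, 1598, 1311], [238, 1, 1308, 1600, 1309], [250, 3, 1306, 1602, 1307], [247, 0, 1304, 1604, 1305], [244, 3, 1302, 1606, 1303], [241, 0, 1300, 1608, 1301], [240, 3, 1298, 1610, 1299], [238, 1, 1296, 1612, 1297], [250, 3, 1294, 1614, 1295], [247, 0, 1292, 1616, 1293], [228, 3, 1326, 1428, 1327], [225, 0, 1324, 1620, 1325], [224, 3, 1322, 1622, 1323], [222, 1, 1320, 1624, 1321], [234, 3, 1318, 1626, 1319], [231, 0, 1316, 1628, 1317], [228, 3, 1314, 1630, 1315], [225, 0, 1312, 1632, 1313], [224, 3, 1310, 1634, 1311], [222, 1, 1308, 1636, 1309], [234, 3, 1306, 1638, 1307], [231, 0, 1304, 1640, 1305], [228, 3, 1302, 1642, 1303], [225, 0, 1300, 1644, 1301], [224, 3, 1298, 1646, 1299], [222, 1, 1296, 1648, 1297], [234, 3, 1294, 1650, 1295], [231, 0, 1292, 1652, 1293], [212, 3, 1326, 1426, 1327], [209, 0, 1324, 1656, 1325], [208, 3, 1322, 1658, 1323], [206, 1, 1320, 1660, 1321], [218, 3, 1318, 1662, 1319], [215, 0, 1316, 1664, 1317], [212, 3, 1314, 1666, 1315], [209,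 0, 1312, 1668, 1313], [208, 3, 1310, 1670, 1311], [206, 1, 1308, 1672, 1309], [218, 3, 1306, 1674, 1307], [215, 0, 1304, 1676, 1305], [212, 3, 1302, 1678, 1303], [209, 0, 1300, 1680, 1301], [208, 3, 1298, 1682, 1299], [206, 1, 1296, 1684, 1297], [218, 3, 1294, 1686, 1295], [215, 0, 1292, 1688, 1293], [131, 0, 1326, 1424, 1327], [130, 3, 1324, 1692, 1325], [127, 0, 1322, 1694, 1323], [125, 2, 1320, 1696, 1321], [137, 0, 1318, 1698, 1319], [136, 3, 1316, 1700, 1317], [131, 0, 1314, 1702, 1315], [130, 3, 1312, 1704, 1313], [127, 0, 1310, 1706, 1311], [125, 2, 1308, 1708, 1309], [137, 0, 1306, 1710, 1307], [136, 3, 1304, 1712, 1305], [131, 0, 1302, 1714, 1303], [130, 3, 1300, 1716, 1301], [127, 0, 1298, 1718, 1299], [125, 2, 1296, 1720, 1297], [137, 0, 1294, 1722, 1295], [136, 3, 1292, 1724, 1293], [115, 0, 1326, 1422, 1327], [114, 3, 1324, 1728, 1325], [111, 0, 1322, 1730, 1323], [109, 2, 1320, 1732, 1321], [121, 0, 1318, 1734, 1319], [120, 3, 1316, 1736, 1317], [115, 0, 1314, 1738, 1315], [114, 3,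 1312, 1740, 1313], [111, 0, 1310, 1742, 1311], [109, 2, 1308, 1744, 1309], [121, 0, 1306, 1746, 1307], [120, 3, 1304, 1748, 1305], [115, 0, 1302, 1750, 1303], [114, 3, 1300, 1752, 1301], [111, 0, 1298, 1754, 1299], [109, 2, 1296, 1756, 1297], [121, 0, 1294, 1758, 1295], [120, 3, 1292, 1760, 1293], [104, 2, 32, 160, 1420], [55, 1, 1326], [79, 0, 1326, 1418, 1766], [53, 1, 1324], [51, 1, 1322], [63, 5, 1322, 1324, 1768, 1770, 1772], [59, 1, 1316], [55, 1, 1314], [53, 1, 1312], [51, 1, 1310], [59, 1, 1304], [55, 1, 1302], [53, 1, 1300], [51, 1, 1298], [59, 1, 1292], [55, 1, 1290], [73, 2, 1794, 297, 1290], [324, 1, 1261, 1254, 1290], [77, 2, 1792, 1796, 1292], [108, 4, 1295, 1760, 1800, 1294, 1296], [3, 0, 1296, 1802], [5, 0, 1299, 1802], [6, 0, 1790, 1802], [0, 0], [351, 2, 120, 17, 1810], [91, 1, 1812, 109], [101, 1, 1812, 123, 1813], [0, 0], [357, 2, 210, 17, 1818], [91, 1, 1820, 308], [97, 1, 1820, 208, 1821], [99, 1, 1820, 213, 1821], [375, 1, 1820, 775, 1408], [0, 0], [373, 2, 968, 17, 1830],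 [91, 1, 1832, 807], [93, 1, 1832, 971, 1833], [95, 1, 1832, 973, 1833], [97, 1, 1832, 975, 1833], [99, 1, 1832, 965, 1833], [101, 1, 1832, 977, 1833], [103, 1, 1832, 967, 1833], [315, 32, 1834, 1840, 1838, 1837, 1842, 1840, 1838, 1836, 1844, 1842, 1840, 1838, 1846, 1844, 1842, 1840, 1835, 805, 803, 801, 799, 797, 795, 793, 791, 789, 787, 785, 783, 781, 779, 175], [321, 0, 303, 1848, 805], [323, 2, 1261, 1850, 1290], [0, 0], [0, 0], [451, 2, 968, 121, 1856], [0, 0], [455, 2, 170, 149, 1860], [0, 0], [473, 2, 968, 149, 1864], [0, 0], [493, 2, 968, 171, 1868], [0, 0], [495, 2, 1404, 171, 1872], [179, 1, 1874, 1395, 1875], [181, 1, 1874, 1401, 1875], [185, 1, 1874, 1415, 1417], [139, 4, 1880, 1876, 1881, 1327], [147, 0, 1766, 1882, 1327], [0, 0], [513, 2, 1404, 211, 1886], [193, 1, 1888, 1399, 1889], [358, 1, 1888, 1409, 1818], [0, 0], [0, 0], [587, 2, 1894, 1896], [0, 0], [92, 0, 13, 1900], [188, 0, 191, 189, 187, 421, 418, 181, 179, 177, 175, 13, 5, 1900], [249, 0, 1901, 564, 1900], [0, 0], [0, 0],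 [0, 0], [65, 4, 130, 174, 1290, 1910, 1912], [53, 1, 1914], [145, 0, 1914, 125, 302], [146, 3, 1914, 133, 302], [147, 0, 1794, 1920, 1913], [148, 0, 1922, 1291, 1920], [147, 2, 1291, 1918, 1924], [0, 0], [0, 0], [0, 0], [67, 4, 156, 106, 1928, 1930, 1932], [163, 0, 1934, 151, 131], [164, 3, 1934, 159, 131], [156, 1, 1814, 1817, 1815, 1936], [165, 0, 1936, 1940, 1938, 1933], [9, 0, 1930, 1942, 107], [11, 0, 1928, 1945, 157], [12, 0, 134, 1946], [15, 0, 137, 1946, 108], [25, 0, 158, 1946], [26, 0, 150, 1946], [26, 0, 149, 1951], [28, 0, 1861, 1951, 1854], [46, 0, 1865, 1951, 1856], [26, 0, 1863, 1959], [26, 0, 1867, 1961], [161, 0, 303, 1953, 1915], [431, 3, 1918, 1966, 1920], [163, 0, 1912, 1968, 1795], [86, 2, 1917, 1948, 302], [58, 1, 1972], [155, 1, 177, 1972, 1968, 176], [85, 3, 306, 1976, 178], [252, 8, 265, 1406, 1399, 1415, 758, 764, 647, 1976, 765, 759, 1414, 1398, 1407, 264], [102, 0, 767, 1980, 766], [342, 1, 770, 1980, 771, 1975], [8, 0, 1915, 1984, 303], [10, 0, 1925, 1984, 1290], [12,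 0, 1975, 1984], [24, 0, 1918, 1984], [26, 0, 1969, 1984], [10, 0, 106, 1987], [12, 0, 1949, 1987]]
def dJ5 : List (List ℕ) := [[15, 0, 109, 1987, 13], [24, 0, 124, 1987], [26, 0, 1955, 1987], [8, 0, 1910, 1989], [24, 0, 1927, 1989], [26, 0, 1970, 1989], [24, 0, 121, 2001], [26, 0, 1957, 2001], [28, 0, 1855, 2001, 171], [46, 0, 1857, 2001, 969], [26, 0, 1963, 2017], [24, 0, 1859, 2019], [26, 0, 1965, 2019], [155, 1, 806, 977, 2024, 807], [170, 1, 806, 2024, 807], [161, 2, 1256, 2028, 1257], [163, 0, 802, 2030, 803], [165, 2, 1265, 2032, 1264], [167, 0, 798, 2034, 799], [159, 2, 1273, 2036, 1272], [161, 0, 794, 2038, 795], [163, 2, 1277, 2040, 1276], [165, 0, 790, 2042, 791], [158, 3, 788, 2044, 789], [159, 0, 786, 2046, 787], [161, 2, 1283, 2048, 1282], [163, 0, 782, 2050, 783], [157, 2, 780, 2052, 781], [85, 3, 804, 2026, 1257], [67, 4, 800, 802, 2056, 1260, 1264], [89, 2, 798, 2058, 1268], [79, 3, 796, 2060, 1272], [65, 4, 792, 794, 2062, 1274, 1276], [85, 2, 790, 2064, 1278], [139, 1, 806, 965,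 2022, 807], [154, 1, 806, 2022, 807], [145, 2, 1256, 2070, 1257], [147, 0, 802, 2072, 803], [149, 2, 1265, 2074, 1264], [151, 0, 798, 2076, 799], [143, 2, 1273, 2078, 1272], [145, 0, 794, 2080, 795], [147, 2, 1277, 2082, 1276], [149, 0, 790, 2084, 791], [142, 3, 788, 2086, 789], [143, 0, 786, 2088, 787], [145, 2, 1283, 2090, 1282], [147, 0, 782, 2092, 783], [141, 2, 780, 2094, 781], [65, 4, 802, 804, 2068, 1257, 1260], [85, 2, 800, 2098, 1264], [87, 2, 798, 2100, 1268], [63, 4, 794, 796, 2102, 1272, 1274], [79, 2, 792, 2104, 1276], [81, 2, 790, 2106, 1278], [476, 1, 1873, 2020, 1872], [170, 3, 1880, 2110, 1881], [155, 3, 2112, 1880, 1878, 1881], [167, 0, 1765, 2112, 1764], [156, 1, 1414, 1401, 1415, 2116], [161, 2, 756, 2116, 757], [169, 0, 765, 2120, 764], [161, 2, 179, 2122, 178], [170, 1, 181, 2124, 180], [69, 0, 2118, 1765, 2115, 1413, 2118, 1765], [9, 0, 1767, 2128], [10, 0, 1326, 2128], [16, 0, 1881, 2128, 1414], [17, 0, 1420, 2128, 32], [24, 0, 1884, 2128], [47, 0, 1872, 2135, 1404], [14,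 0, 160, 2137], [28, 0, 172, 2137], [28, 0, 171, 2141], [46, 0, 1869, 2141, 969], [28, 0, 1871, 2149], [149, 3, 2139, 2118, 2138], [68, 0, 2119, 2132, 2152, 2131, 2119, 2132], [8, 0, 1771, 2154, 757], [5, 0, 1773, 2157], [6, 0, 1322, 2157], [82, 2, 2159, 1983, 2160], [96, 3, 1286, 762, 2160], [159, 0, 2161, 2120, 2160], [157, 2, 1320, 2166, 1321], [169, 0, 1318, 2168, 1319], [167, 2, 1777, 2170, 1776], [163, 0, 1314, 2172, 1315], [161, 2, 1781, 2174, 1780], [159, 0, 1310, 2176, 1311], [157, 2, 1308, 2178, 1309], [169, 0, 1306, 2180, 1307], [167, 2, 1785, 2182, 1784], [163, 0, 1302, 2184, 1303], [161, 2, 1789, 2186, 1788], [159, 0, 1806, 2188, 1807], [101, 3, 2165, 2163, 2164], [351, 1, 2164, 2096, 2165], [141, 2, 1320, 2194, 1321], [143, 2, 2160, 2194, 2161], [153, 0, 765, 2198, 764], [154, 1, 754, 2198, 755], [351, 1, 766, 2198, 767], [145, 2, 191, 2204, 190], [139, 3, 2206, 192, 212, 193], [351, 1, 312, 2206, 313], [435, 0, 1904, 2206, 1905], [140, 1, 1901, 7, 1900, 2212], [236, 8, 179, 177, 175,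 13, 5, 1900, 1906, 2214, 1901, 4, 12, 174, 176, 178], [139, 4, 180, 543, 181, 2216], [154, 1, 181, 2218, 180], [140, 1, 1822, 1827, 1823, 2210], [153, 0, 1318, 2196, 1319], [151, 2, 1777, 2224, 1776], [147, 0, 1314, 2226, 1315], [145, 2, 1781, 2228, 1780], [143, 0, 1310, 2230, 1311], [141, 2, 1308, 2232, 1309], [153, 0, 1306, 2234, 1307], [151, 2, 1785, 2236, 1784], [147, 0, 1302, 2238, 1303], [145, 2, 1789, 2240, 1788], [143, 0, 1806, 2242, 1807], [171, 1, 806, 967, 2150, 807], [186, 1, 806, 2150, 807], [177, 2, 1256, 2248, 1257], [179, 0, 802, 2250, 803], [493, 0, 1255, 2250, 1254], [175, 2, 779, 2254, 778], [179, 2, 1291, 2254, 1290], [185, 2, 177, 2254, 176], [495, 2, 771, 2254, 770], [185, 0, 188, 2262, 189], [177, 2, 271, 2264, 270], [185, 0, 420, 2266, 421], [356, 0, 447, 2266, 446], [172, 1, 180, 726, 181, 2270], [87, 3, 178, 2272, 306], [268, 8, 191, 189, 187, 421, 418, 181, 735, 2272, 180, 419, 420, 186, 188, 190], [88, 2, 265, 2276, 191], [103, 1, 312, 2276, 313], [344, 0, 770, 2278,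 771], [83, 3, 1286, 2282, 778], [89, 0, 1794, 2282, 1290, 1292], [14, 0, 1292, 2286], [15, 0, 1295, 2286], [327, 3, 1850, 2282, 1851], [90, 2, 1261, 2292, 803], [70, 3, 1269, 1265, 2294, 801, 799], [82, 2, 1273, 2296, 797], [86, 2, 1275, 2298, 795], [68, 3, 1279, 1277, 2300, 793, 791], [139, 1, 177, 1795, 2008, 2290], [140, 3, 177, 1993, 1290, 2290], [171, 1, 2291, 2288, 2258, 2290], [185, 2, 2291, 2259, 2290], [175, 0, 1809, 2310, 1808], [177, 2, 1301, 2312, 1300], [179, 0, 1786, 2314, 1787], [183, 2, 1305, 2316, 1304], [186, 1, 1307, 2318, 1306], [174, 3, 1309, 2320, 1308], [175, 0, 1782, 2322, 1783], [177, 2, 1313, 2324, 1312], [179, 0, 1778, 2326, 1779], [183, 2, 1317, 2328, 1316], [186, 1, 1319, 2330, 1318], [83, 3, 1809, 2308, 1806], [87, 3, 1788, 2334, 1300], [89, 0, 1786, 2336, 1302, 1304], [14, 0, 1304, 2338], [15, 0, 1307, 2338], [171, 1, 2343, 2340, 2317, 2342], [66, 5, 2306, 307, 2216, 179, 2305], [64, 3, 1301, 1807, 2346, 1808, 1789], [80, 3, 1303, 2348, 1787], [123, 1, 2343, 2350,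 1714, 2342], [104, 2, 2164, 2284, 2165], [173, 0, 781, 2256, 780], [179, 2, 783, 2356, 782], [177, 0, 1282, 2358, 1283], [175, 2, 787, 2360, 786], [174, 1, 789, 2362, 788], [181, 2, 791, 2364, 790], [179, 0, 1276, 2366, 1277], [177, 2, 795, 2368, 794], [175, 0, 1272, 2370, 1273], [183, 2, 799, 2372, 798], [0, 0], [0, 0], [0, 0], [0, 0], [0, 0], [187, 11, 310, 14, 22, 30, 757, 755, 270, 2376, 2378, 2380, 2382, 2384], [53, 1, 2386], [193, 0, 2386, 310, 302], [283, 13, 2377, 455, 2376, 2378, 2380, 2382, 2384, 2386, 1822, 1825, 1823, 2387, 2385, 2383, 2381], [15, 0, 2381, 2392], [337, 0, 2386, 777, 758], [346, 3, 765, 2396, 2385]]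
def dJ6 : List (List ℕ) := [[337, 0, 2382, 2398, 307], [338, 2, 2398, 178, 2400], [345, 1, 2398, 177, 770], [588, 2, 2398, 472], [97, 2, 271, 2406, 2403], [105, 0, 2394, 2408, 421], [369, 1, 2408, 455, 2409], [0, 0], [0, 0], [0, 0], [0, 0], [0, 0], [0, 0], [0, 0], [0, 0], [0, 0], [0, 0], [0, 0], [315, 30, 1256, 979, 14, 22, 20, 19, 24, 22, 20, 18, 26, 24, 22, 20, 28, 26, 24, 22, 15, 302, 1795, 2414, 2416, 2418, 2420, 2422, 2424, 2426, 2428, 2430, 2432, 2434], [52, 1, 2436], [64, 0, 2436, 1256, 1195, 805, 2438], [82, 0, 2436, 2057, 2438], [319, 2, 2436, 1850, 778], [320, 1, 2436, 1254, 778], [318, 3, 781, 2446, 2435], [324, 1, 2432, 2448, 782], [401, 2, 2448, 1250, 2449], [427, 2, 2448, 1220, 2449], [451, 2, 2448, 2094, 2449], [473, 2, 2448, 2052, 2449], [493, 2, 2448, 2356, 2449], [527, 2, 2448, 1190, 2449], [541, 2, 2448, 1162, 2449], [553, 2, 2448, 1134, 2449], [563, 2, 2448, 1106, 2449], [571, 2, 2448, 1078, 2449], [577, 2, 2448, 1050, 2449], [581, 2, 2448, 1022, 2449], [324, 2, 2451, 1284,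 2449], [115, 0, 2477, 2452, 2476], [131, 0, 2477, 2454, 2476], [147, 0, 2477, 2456, 2476], [163, 0, 2477, 2458, 2476], [179, 0, 2477, 2460, 2476], [211, 0, 2477, 2462, 2476], [227, 0, 2477, 2464, 2476], [243, 0, 2477, 2466, 2476], [259, 0, 2477, 2468, 2476], [275, 0, 2477, 2470, 2476], [291, 0, 2477, 2472, 2476], [307, 0, 2477, 2474, 2476], [305, 2, 2430, 2500, 2431], [304, 1, 2428, 2502, 2429], [289, 2, 2430, 2498, 2431], [288, 1, 2428, 2506, 2429], [273, 2, 2430, 2496, 2431], [272, 1, 2428, 2510, 2429], [257, 2, 2430, 2494, 2431], [256, 1, 2428, 2514, 2429], [253, 2, 2426, 2516, 2427], [262, 1, 2424, 2518, 2425], [259, 2, 2422, 2520, 2423], [258, 1, 2420, 2522, 2421], [255, 2, 2418, 2524, 2419], [264, 1, 2416, 2526, 2417], [241, 2, 2430, 2492, 2431], [240, 1, 2428, 2530, 2429], [225, 2, 2430, 2490, 2431], [224, 1, 2428, 2534, 2429], [209, 2, 2430, 2488, 2431], [208, 1, 2428, 2538, 2429], [177, 2, 2430, 2486, 2431], [176, 1, 2428, 2542, 2429], [161, 2, 2430, 2484, 2431], [160, 1, 2428, 2546, 2429],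 [157, 2, 2426, 2548, 2427], [166, 1, 2424, 2550, 2425], [163, 2, 2422, 2552, 2423], [162, 1, 2420, 2554, 2421], [159, 2, 2418, 2556, 2419], [168, 1, 2416, 2558, 2417], [145, 2, 2430, 2482, 2431], [144, 1, 2428, 2562, 2429], [141, 2, 2426, 2564, 2427], [150, 1, 2424, 2566, 2425], [147, 2, 2422, 2568, 2423], [146, 1, 2420, 2570, 2421], [143, 2, 2418, 2572, 2419], [129, 2, 2430, 2480, 2431], [128, 1, 2428, 2576, 2429], [125, 2, 2426, 2578, 2427], [134, 1, 2424, 2580, 2425], [131, 2, 2422, 2582, 2423], [130, 1, 2420, 2584, 2421], [127, 2, 2418, 2586, 2419], [113, 2, 2430, 2478, 2431], [112, 1, 2428, 2590, 2429], [109, 2, 2426, 2592, 2427], [118, 1, 2424, 2594, 2425], [115, 2, 2422, 2596, 2423], [114, 1, 2420, 2598, 2421], [111, 2, 2418, 2600, 2419], [321, 2, 785, 2450, 2431], [322, 2, 2604, 1282, 2450], [320, 1, 2428, 2604, 786], [320, 2, 2609, 1280, 2605], [317, 2, 789, 2608, 2427], [319, 1, 2612, 2109, 2613], [321, 1, 2612, 2067, 2613], [323, 1, 2612, 2302, 2613], [326, 1, 2424, 2612, 790], [326,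 2, 2621, 1278, 2613], [82, 1, 2424, 2615, 2622], [86, 1, 2424, 2617, 2622], [323, 2, 793, 2620, 2423], [324, 2, 2628, 1276, 2620], [68, 2, 2422, 2424, 2619, 2622, 2630], [80, 1, 2422, 2624, 2630], [322, 1, 2420, 2628, 794], [322, 2, 2637, 1274, 2629], [66, 2, 2420, 2422, 2626, 2630, 2638], [86, 2, 2420, 2632, 2638], [319, 2, 797, 2636, 2419], [320, 2, 2644, 1272, 2636], [64, 2, 2418, 2420, 2634, 2638, 2646], [80, 2, 2418, 2640, 2646], [82, 2, 2418, 2642, 2646], [317, 1, 2644, 1271, 2645], [328, 1, 2416, 2644, 798], [328, 2, 2657, 1268, 2645], [70, 1, 2288, 2414, 2416, 2652, 2658], [88, 1, 2416, 2648, 2658], [325, 2, 2660, 1798, 1264], [327, 0, 798, 2664, 2416], [319, 2, 2646, 2666, 1272], [321, 0, 794, 2668, 2420], [323, 2, 2630, 2670, 1276], [325, 0, 790, 2672, 2424], [318, 3, 2427, 2674, 789], [319, 0, 786, 2676, 2428], [321, 2, 2606, 2678, 1282], [323, 0, 782, 2680, 2432], [0, 0], [0, 0], [0, 0], [0, 0], [0, 0], [0, 0], [0, 0], [0, 0], [0, 0], [0, 0], [0, 0], [0, 0], [0, 0], [0, 0], [0, 0],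 [0, 0], [331, 26, 190, 2209, 2277, 772, 14, 19, 20, 22, 24, 28, 30, 62, 103, 757, 2684, 2686, 2688, 2690, 2692, 2694, 2696, 2698, 2700, 2702, 2704, 2706, 2708, 2710, 2712, 2714], [95, 0, 2716, 766, 2160], [111, 0, 2716, 246, 2717], [127, 0, 2716, 226, 2717], [143, 0, 2716, 2205, 2717], [335, 0, 2716, 771, 1287], [141, 2, 2714, 2724, 2715], [153, 0, 2712, 2728, 2713], [152, 3, 2710, 2730, 2711], [147, 0, 2708, 2732, 2709], [146, 3, 2706, 2734, 2707], [143, 0, 2704, 2736, 2705], [141, 2, 2702, 2738, 2703], [125, 2, 2714, 2722, 2715], [137, 0, 2712, 2742, 2713], [109, 2, 2714, 2720, 2715], [121, 0, 2712, 2746, 2713], [120, 3, 2710, 2748, 2711], [115, 0, 2708, 2750, 2709], [114, 3, 2706, 2752, 2707], [111, 0, 2704, 2754, 2705], [93, 2, 1320, 2718, 2715], [91, 0, 2712, 2758], [105, 0, 2712, 2758, 1319], [104, 3, 1316, 2762, 2711], [104, 2, 2763, 1776, 2765], [99, 0, 2708, 2764, 1315], [100, 2, 2764, 1778, 2768], [98, 3, 1312, 2768, 2707], [98, 2, 2769, 1780, 2773], [95, 0, 2704, 2772, 1311], [96, 2,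 2772, 1782, 2776], [93, 2, 1308, 2776, 2703], [91, 0, 2700, 2780], [105, 0, 2700, 2780, 2343], [103, 1, 2698, 2785, 2340, 2784], [15, 0, 2701, 2786], [16, 0, 2782, 2786], [18, 0, 2784, 2786], [99, 0, 2696, 2792, 1303], [100, 2, 2792, 1786, 2794], [98, 3, 1300, 2794, 2695]]
def dJ7 : List (List ℕ) := [[98, 2, 2795, 1788, 2799], [95, 0, 2692, 2798, 1807], [96, 2, 2798, 1809, 2802], [93, 2, 2803, 1805, 2802, 2691], [3, 0, 2690, 2807], [6, 0, 2805, 2807], [18, 0, 2802, 2807], [99, 1, 473, 2305, 2813], [100, 2, 473, 2307, 2813], [106, 3, 2290, 2813, 2689], [91, 0, 2688, 2812], [139, 1, 764, 2305, 2245, 2820], [140, 3, 2685, 764, 2200, 2307, 2820], [9, 0, 2823, 2824], [14, 0, 2686, 2824], [15, 0, 2689, 2824], [16, 0, 2820, 2824], [18, 0, 2819, 2824], [0, 0], [357, 2, 310, 33, 2836], [106, 2, 2838, 1822, 1892], [375, 1, 2838, 777, 768], [0, 0], [373, 2, 979, 33, 2844], [91, 1, 2846, 1834], [103, 1, 2846, 2247, 2847], [374, 2, 2846, 1849, 33], [0, 0], [511, 2, 979, 311, 2854], [0, 0], [587, 2, 1903, 2858],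 [0, 0], [0, 0], [0, 0], [0, 0], [0, 0], [0, 0], [0, 0], [0, 0], [0, 0], [0, 0], [0, 0], [0, 0], [0, 0], [315, 15, 2849, 1841, 1843, 1845, 1847, 1839, 1841, 1843, 1845, 1837, 1839, 1841, 1843, 1836, 1839, 1841, 1831, 30, 757, 2158, 2864, 2866, 2868, 2870, 2872, 2874, 2876, 2878, 2880, 2882, 2884, 2886], [53, 1, 2888], [87, 3, 2888, 2850, 2890], [97, 0, 2888, 2846, 805], [321, 0, 2888, 2845, 758], [322, 3, 2888, 2853, 758], [323, 0, 2826, 2898, 2887], [324, 0, 2900, 2685, 2898], [89, 1, 2886, 2892, 2902], [99, 2, 1261, 2894, 2902], [323, 2, 2685, 2896, 2902], [101, 0, 2884, 2906, 801], [102, 2, 2906, 1264, 2910], [104, 3, 798, 2910, 2883], [104, 2, 2911, 1268, 2915], [70, 5, 2916, 2912, 2905, 2885, 2883], [95, 0, 2880, 2914, 797], [96, 2, 2914, 1272, 2920], [82, 0, 2922, 2918, 2881], [98, 3, 794, 2920, 2879], [98, 2, 2921, 1274, 2927], [86, 0, 2928, 2924, 2879], [99, 0, 2876, 2926, 793], [100, 2, 2926, 1276, 2932], [102, 3, 790, 2932, 2875], [102, 2, 2933, 1278, 2937], [93, 0, 2872, 2936, 789], [96,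 3, 786, 2940, 2871], [96, 2, 2941, 1280, 2943], [97, 0, 2868, 2942, 785], [98, 2, 2942, 1282, 2946], [100, 3, 782, 2946, 2867], [100, 2, 2947, 1284, 2951], [50, 1, 1320, 2864], [62, 2, 1320, 2159, 760, 2160, 2864], [72, 2, 1320, 1775, 2864], [76, 2, 1320, 2162, 2864], [78, 2, 1320, 2354, 2864], [171, 2, 2962, 2333, 2760, 2767], [172, 2, 2962, 1319, 2331, 1776], [91, 0, 2966, 2950], [108, 1, 2966, 2954, 1319, 1736], [124, 1, 2966, 2956, 1319, 1700], [139, 2, 1779, 2226, 2966, 2866], [156, 1, 2966, 2960, 1319, 2170], [57, 1, 2976], [102, 2, 2763, 2976, 2765], [58, 1, 2980], [92, 2, 2946, 2974], [92, 1, 2974, 2768], [51, 1, 2972], [94, 2, 2763, 2970, 2765], [54, 1, 2958], [0, 0], [511, 2, 1831, 1818, 2994], [201, 1, 2996, 1835, 2857], [0, 0], [0, 0], [0, 0], [0, 0], [0, 0], [187, 11, 2837, 1414, 1398, 1407, 264, 2404, 2403, 3000, 3002, 3004, 3006, 3008], [283, 13, 3001, 2413, 3000, 3002, 3004, 3006, 3008, 3010, 2841, 1891, 2840, 3011, 3009, 3007, 3005], [15, 0, 3005, 3012], [337, 0, 3010, 2843, 191],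 [346, 3, 188, 3016, 3009], [337, 0, 3006, 3018, 187], [338, 2, 3018, 270, 3020], [345, 1, 3018, 754, 2396], [376, 1, 3018, 473, 2399], [97, 2, 2402, 3026, 3023], [105, 0, 3014, 3028, 2395], [588, 0, 2410, 3030], [187, 12, 180, 419, 420, 186, 188, 190, 192, 209, 308, 2388, 3024, 3023], [201, 2, 177, 2390, 3024], [0, 0], [0, 0], [0, 0], [0, 0], [0, 0], [0, 0], [0, 0], [0, 0], [0, 0], [0, 0], [0, 0], [315, 30, 2891, 2845, 1414, 1398, 1393, 1397, 1394, 1398, 1393, 1396, 1400, 1394, 1398, 1393, 1402, 1400, 1394, 1398, 1415, 758, 2827, 3038, 3040, 3042, 3044, 3046, 3048, 3050, 3052, 3054, 3056, 3058], [320, 1, 3060, 2897, 2158], [318, 3, 2865, 3062, 3059], [324, 1, 3056, 3064, 2866], [374, 1, 3064, 2950, 2449], [324, 2, 3067, 2953, 3065], [100, 3, 2477, 3068, 3070], [98, 1, 3054, 3072, 2431], [374, 2, 3072, 2681, 2946], [98, 2, 3075, 2607, 3073], [321, 0, 2949, 3076, 3078], [322, 3, 2949, 3066, 3078], [320, 1, 3052, 3082, 2870], [320, 2, 3085, 2945, 3083], [96, 3, 2611, 3074, 3086], [319, 0, 2945, 3081,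 3086], [317, 2, 3050, 3090, 2872], [326, 1, 2875, 3092, 3049], [374, 3, 2674, 2937, 3092], [326, 0, 3093, 2938, 3095], [101, 0, 3098, 3096, 2622], [99, 2, 2422, 3100, 3047], [100, 2, 3102, 2631, 3100], [374, 2, 2933, 2620, 3100], [323, 0, 3105, 3106, 2934], [321, 2, 2879, 3108, 3045], [322, 2, 3110, 2929, 3108], [325, 1, 3109, 2930, 3108], [85, 3, 3113, 3114, 3045], [98, 3, 2639, 3103, 3112], [96, 1, 3042, 3118, 2419], [374, 2, 3118, 2669, 2920], [96, 2, 3121, 2647, 3119], [82, 2, 3042, 3117, 3124], [319, 0, 2923, 3122, 3124], [320, 3, 2923, 3111, 3124], [328, 1, 3040, 3130, 2882], [328, 2, 3133, 2917, 3131], [70, 1, 2828, 3038, 3040, 3126, 3134], [327, 0, 2917, 3129, 3134], [0, 0], [0, 0], [0, 0], [0, 0], [0, 0], [0, 0], [0, 0], [0, 0], [0, 0], [0, 0], [0, 0], [0, 0], [0, 0], [0, 0], [0, 0], [0, 0], [331, 26, 2386, 2222, 2280, 777, 1414, 1397, 1393, 1398, 1394, 1402, 1407, 245, 224, 264, 3140, 3142, 3144, 3146, 3148, 3150, 3152, 3154, 3156, 3158, 3160, 3162, 3164, 3166, 3168, 3170], [191, 0, 3172,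 2391, 1287], [335, 0, 3172, 2397, 2160], [333, 2, 1320, 3176, 3171], [345, 0, 3168, 3178, 1319], [588, 2, 3178, 2759], [92, 2, 3182, 3169], [106, 3, 2712, 3182, 3169], [103, 0, 3166, 3186, 2711], [349, 1, 3186, 2745, 3187], [93, 1, 3189, 2990, 3187], [102, 2, 3189, 2983, 3187], [133, 0, 3195, 3191, 3194], [342, 3, 2978, 3180, 3194]]
def dJ8 : List (List ℕ) := [[339, 0, 3164, 3198, 1315], [340, 2, 3198, 1778, 3200], [100, 1, 3202, 3189, 2771], [131, 2, 3202, 3196, 3203], [129, 0, 3162, 3206, 3163], [128, 3, 3160, 3208, 3161], [98, 3, 2706, 3204, 3163], [98, 2, 3205, 2775, 3213], [338, 1, 3214, 3201, 1780], [336, 3, 1310, 3216, 3161], [336, 2, 3217, 1782, 3219], [96, 1, 3220, 3212, 2779], [93, 2, 2702, 3222, 3159], [91, 0, 3156, 3224], [105, 0, 3156, 3224, 2789], [587, 2, 3224, 2780], [346, 3, 2342, 3230, 3157], [343, 1, 3154, 3232, 2340, 3233], [15, 0, 3157, 3234], [16, 0, 3226, 3234], [18, 0, 3228, 3234], [48, 0, 3233, 3234], [339, 0, 3152, 3242, 1303], [340, 2, 3242, 1786, 3244], [100, 1, 3246,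 3240, 2797], [98, 3, 2694, 3248, 3151], [98, 2, 3249, 2801, 3251], [338, 1, 3252, 3245, 1788], [336, 3, 1806, 3254, 3149], [336, 2, 3255, 1809, 3257], [96, 1, 3258, 3250, 2811], [93, 2, 3261, 2809, 3260, 3147], [6, 0, 3259, 3263], [18, 0, 3260, 3263], [48, 0, 3257, 3263], [99, 1, 2407, 2815, 3267], [106, 3, 2830, 3267, 3145], [91, 0, 3144, 3266], [140, 3, 3141, 189, 2202, 2817, 3274], [15, 0, 3145, 3276], [18, 0, 3273, 3276], [0, 0], [61, 3, 781, 1286, 297, 778, 3282], [51, 1, 3284], [96, 3, 3284, 2951, 2956], [111, 0, 3284, 1251, 3285], [127, 0, 3284, 1221, 3285], [159, 0, 3284, 2053, 3285], [175, 0, 3284, 2357, 3285], [123, 0, 2972, 2969, 3285, 3293], [107, 3, 3291, 3298, 2970, 2969], [155, 3, 3295, 3298, 2976, 2969], [156, 1, 3298, 2979, 2969, 2052], [171, 3, 3297, 3298, 1776, 2969], [172, 1, 3298, 1317, 2969, 2356], [97, 3, 2951, 2993, 3288], [98, 0, 2951, 2958, 3288], [190, 1, 3170, 3175, 3282], [0, 0], [79, 2, 1794, 778, 3316], [51, 1, 3318], [83, 3, 3318, 2289, 3320], [111, 0, 3318, 1762,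 3319], [127, 0, 3318, 1726, 3319], [143, 0, 3318, 2008, 3319], [159, 0, 3318, 2010, 3319], [175, 0, 3318, 2258, 3319], [207, 0, 3318, 1691, 3319], [223, 0, 3318, 1655, 3319], [239, 0, 3318, 1619, 3319], [255, 0, 3318, 1583, 3319], [271, 0, 3318, 1547, 3319], [287, 0, 3318, 1511, 3319], [303, 0, 3318, 1475, 3319], [123, 0, 1809, 2291, 3319, 3327], [89, 2, 2284, 3316, 3322], [73, 2, 1284, 781, 3316], [108, 3, 3349, 3324, 3352, 2985], [72, 3, 1781, 3354, 1789], [333, 1, 3201, 3354, 3254], [71, 2, 3253, 3358, 3215], [0, 0], [123, 2, 779, 241, 176, 3362], [92, 1, 3364, 2165], [107, 1, 3364, 780, 1251, 2968], [108, 3, 3364, 1253, 3282, 3298], [121, 2, 3364, 1253, 3365], [124, 3, 3364, 1223, 1286, 176], [137, 2, 3364, 1223, 3365], [139, 1, 3364, 3351, 3329, 3348], [140, 3, 3364, 2097, 3316, 3348], [153, 2, 3364, 2097, 3365], [155, 1, 3364, 2192, 2054, 3365], [169, 2, 3364, 2055, 3365], [171, 1, 3364, 2285, 2256, 3365], [185, 2, 3364, 2257, 3365], [217, 2, 3364, 1193, 3365], [233, 2, 3364, 1165, 3365],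 [249, 2, 3364, 1137, 3365], [265, 2, 3364, 1109, 3365], [281, 2, 3364, 1081, 3365], [297, 2, 3364, 1053, 3365], [313, 2, 3364, 1025, 3365], [64, 2, 3363, 307, 397, 179, 3374], [66, 5, 1301, 3380, 3406, 3379, 1789, 1787], [10, 0, 1302, 3408], [15, 0, 2343, 3408], [18, 0, 2792, 3408, 2794], [48, 0, 3242, 3408, 3244], [15, 0, 2789, 3415], [16, 0, 2791, 3415], [10, 0, 3152, 3417], [15, 0, 3237, 3417], [16, 0, 3239, 3417], [72, 2, 3370, 3406, 3369], [54, 1, 3428], [107, 0, 3360, 3426, 2702, 2757], [139, 3, 2740, 3427, 3423, 3426], [100, 0, 2781, 3434, 2780], [91, 1, 3223, 3432], [91, 0, 3432, 3212], [105, 3, 2776, 3432, 3212], [123, 0, 3432, 3221, 3439, 3161, 3210], [4, 0, 3158, 3444, 2703], [6, 0, 3161, 3444, 2704], [17, 0, 3222, 3444, 2777], [48, 0, 3219, 3444, 3451], [15, 0, 3424, 3447, 3419], [17, 0, 3225, 3447, 2780], [48, 0, 3230, 3447, 3457], [8, 0, 3163, 3449, 2706], [17, 0, 3213, 3449, 2772], [48, 0, 3216, 3449, 3463], [16, 0, 3462, 3440, 3451], [18, 0, 2776, 3451], [8, 0, 3252, 3455, 2801],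 [17, 0, 3248, 3455, 2795], [48, 0, 3244, 3455, 3473], [18, 0, 2781, 3457], [10, 0, 3165, 3461, 2708], [17, 0, 3204, 3461, 2769], [48, 0, 3200, 3461, 3481], [16, 0, 3443, 3463], [18, 0, 2773, 3463], [6, 0, 3264, 3471, 2811], [17, 0, 3251, 3471, 2798], [48, 0, 3254, 3471, 3491], [16, 0, 3421, 3473], [18, 0, 2794, 3473], [3, 0, 3192, 3479, 2990], [17, 0, 3188, 3479, 2764], [48, 0, 3199, 3479, 3501], [15, 0, 2987, 3481, 2984], [18, 0, 2768, 3481], [10, 0, 3271, 3489, 2814], [15, 0, 3278, 3489, 2831], [17, 0, 3267, 3489, 2812], [48, 0, 3269, 3489, 3513], [18, 0, 2799, 3491], [16, 0, 3169, 3499, 2712], [15, 0, 3185, 3499, 2761], [17, 0, 3187, 3499, 2763], [48, 0, 3180, 3499, 3523], [15, 0, 2965, 3501, 2969], [18, 0, 2765, 3501], [8, 0, 2869, 3505, 784], [16, 0, 2975, 3505], [18, 0, 2946, 3505], [8, 0, 2402, 3509, 270], [16, 0, 2385, 3509, 188], [15, 0, 2404, 3509, 754], [18, 0, 3027, 3509, 2406, 3509], [17, 0, 2406, 3509, 473], [48, 0, 2399, 3509, 3545], [17, 0, 3281, 3511, 2834], [18, 0, 2813, 3513],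 [3, 0, 3171, 3519, 3521, 1320], [17, 0, 3520, 3182, 3519, 3521, 3288], [30, 0, 3555, 3314, 3519, 3521], [48, 0, 3179, 3519, 3521], [3, 0, 2715, 3521, 1320], [18, 0, 2762, 3523], [4, 0, 2864, 3527, 781], [16, 0, 2966, 3527], [18, 0, 2951, 3527], [6, 0, 2871, 3531, 786], [18, 0, 2943, 3531], [16, 0, 3001, 3537, 2376], [15, 0, 2394, 3537, 421], [18, 0, 3028, 3537, 2409, 3537], [17, 0, 2409, 3537, 446], [48, 0, 2400, 3537, 3581], [8, 0, 2387, 3539, 190], [15, 0, 3538, 3024, 3543, 3545, 177], [30, 0, 2390, 3539, 3587], [8, 0, 758, 3540, 3587, 303], [16, 0, 765, 3540, 3587], [18, 0, 762, 3540, 3587], [30, 0, 3037, 3543, 3545], [18, 0, 472, 3545]]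
def dJ9 : List (List ℕ) := [[12, 0, 3136, 3549, 2661], [16, 0, 2833, 3549], [46, 0, 2908, 3549, 1798], [30, 0, 3174, 3553, 3565], [3, 0, 3300, 3554], [5, 0, 3285, 3554], [6, 0, 3286, 3554], [7, 0, 3313, 3554], [8, 0, 3311, 3554], [11, 0, 3302, 3554], [12, 0, 3304, 3554], [13, 0, 3306, 3554], [14, 0, 3308, 3554], [15, 0, 3299, 3554], [17, 0, 3288, 3554], [48, 0, 2726, 3561, 3565], [3, 0, 1320, 3565], [16, 0, 3367, 3565], [18, 0, 2165, 3565], [4, 0, 2873, 3571, 788], [18, 0, 2940, 3571], [46, 0, 3085, 3571, 2608], [48, 0, 3033, 3575, 3577], [18, 0, 2410, 3577], [30, 0, 3035, 3579, 3581], [16, 0, 420, 3581], [18, 0, 447, 3581], [16, 0, 1823, 3585, 192], [15, 0, 308, 3585, 1406], [17, 0, 313, 3585, 769, 3591], [29, 0, 311, 3585, 3659, 2862], [46, 0, 2855, 3585, 3659, 978], [47, 0, 3590, 776, 3585, 3659, 2861], [48, 0, 770, 3587], [16, 0, 3657, 1415, 3591, 14], [15, 0, 30, 3591, 13], [17, 0, 33, 3591, 1903], [14, 0, 3134, 3601, 2659], [46, 0, 3139, 3601, 2665], [18, 0, 2907, 3605], [12, 0, 2875, 3639,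 790], [18, 0, 2937, 3639], [18, 0, 3089, 3643], [2, 0, 3670, 3668, 3654], [17, 0, 3670, 3668, 1821, 3686, 1894], [29, 0, 3670, 1818, 3686, 1908], [46, 0, 2995, 3686, 969], [2, 0, 3670, 3668, 3657], [47, 0, 3695, 1828, 3686, 1899], [29, 0, 2862, 3660], [16, 0, 3692, 2999, 3663, 1834], [30, 0, 2857, 3663], [47, 0, 2861, 3664], [15, 0, 1900, 3672], [17, 0, 1903, 3672], [6, 0, 3124, 3675, 2647], [18, 0, 3120, 3675], [46, 0, 3129, 3675, 2666], [18, 0, 2910, 3677], [10, 0, 2877, 3681, 792], [18, 0, 2932, 3681], [17, 0, 1894, 3688], [29, 0, 1908, 3690], [47, 0, 1899, 3696], [16, 0, 1834, 3700], [18, 0, 3119, 3711], [46, 0, 3122, 3711, 2669], [18, 0, 2915, 3715], [18, 0, 2927, 3719], [18, 0, 2920, 3733], [587, 2, 3738, 3738], [335, 2, 797, 3740, 796], [337, 2, 1275, 3740, 1274], [585, 3, 2669, 3740, 2668], [337, 0, 2421, 3746, 2420], [339, 2, 2630, 3748, 2631], [585, 1, 2672, 3750, 2673], [341, 2, 1279, 3752, 1278], [333, 0, 788, 3754, 789], [335, 2, 1281, 3756, 1280], [585, 3, 2677, 3756, 2676], [335,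 0, 2429, 3760, 2428], [337, 2, 2606, 3762, 2607], [339, 0, 2433, 3764, 2432], [585, 1, 2680, 3764, 2681], [334, 3, 3352, 3768, 3353], [339, 2, 1285, 3768, 1284], [333, 2, 2435, 3766, 2434], [335, 0, 2437, 3774, 2436], [339, 2, 1261, 3776, 1260], [341, 0, 800, 3778, 801], [187, 12, 3651, 306, 3593, 303, 3706, 4, 12, 174, 176, 178, 180, 419], [193, 0, 804, 3702, 805], [195, 2, 1261, 3784, 1260], [197, 0, 800, 3786, 801], [511, 0, 1798, 3786, 1799], [191, 2, 3321, 3790, 3320], [201, 2, 2291, 3790, 2290], [191, 0, 1809, 3794, 1808], [189, 2, 3354, 3796, 3355], [193, 2, 1301, 3796, 1300], [195, 2, 3379, 3796, 3378], [189, 0, 3368, 3802, 3369], [190, 1, 3370, 3802, 3371], [201, 2, 3566, 3804, 3567], [195, 0, 1284, 3808, 1285], [511, 0, 2682, 3808, 2683], [195, 2, 2432, 3812, 2433], [193, 0, 2607, 3814, 2606], [191, 2, 2428, 3816, 2429], [511, 2, 2679, 3816, 2678], [191, 0, 1280, 3820, 1281], [189, 2, 789, 3822, 788], [197, 0, 1278, 3824, 1279], [511, 0, 2674, 3824, 2675], [197, 2, 2424, 3828, 2425],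 [195, 0, 2631, 3830, 2630], [511, 2, 2671, 3832, 2670], [193, 0, 1274, 3834, 1275], [191, 2, 797, 3836, 796], [189, 0, 3357, 3800, 3356], [201, 0, 3495, 3800, 3494], [190, 3, 1309, 3842, 1308], [99, 0, 3350, 3636, 3351], [105, 0, 3635, 3636, 3634], [588, 0, 3848, 3848], [92, 1, 3349, 3846], [235, 3, 3495, 1788, 3378, 3406, 3364, 1289, 3634, 3406, 3364, 3351, 3339, 3348, 1300, 3412], [0, 0], [0, 0], [0, 0], [0, 0], [0, 0], [0, 0], [0, 0], [0, 0], [0, 0], [0, 0], [0, 0], [0, 0], [0, 0], [315, 25, 2436, 1256, 2069, 1224, 1195, 805, 1254, 176, 178, 396, 290, 2217, 306, 3362, 3371, 2976, 1778, 1780, 1782, 3856, 3858, 3860, 3862, 3864, 3866, 3868, 3870, 3872, 3874, 3876, 3878, 3880], [72, 0, 3882, 2440, 2435], [76, 0, 3880, 3882, 2442, 2435], [10, 0, 3878, 3887, 2433], [12, 0, 3881, 3887], [8, 0, 3876, 3889, 2431], [6, 0, 3874, 3893, 2429], [13, 0, 3872, 3895], [317, 2, 3882, 2445, 3632], [318, 1, 3882, 2447, 3632], [322, 2, 2448, 3617, 3900], [326, 2, 2448, 3621, 3900], [59, 1, 3896], [103, 2, 3897,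 3685, 3896], [119, 2, 3897, 2592, 3896], [135, 2, 3897, 2578, 3896], [151, 2, 3897, 2564, 3896], [167, 2, 3897, 2548, 3896], [183, 2, 3897, 2544, 3896], [199, 2, 3897, 3819, 3896], [215, 2, 3897, 2540, 3896], [231, 2, 3897, 2536, 3896], [247, 2, 3897, 2532, 3896], [263, 2, 3897, 2516, 3896], [279, 2, 3897, 2512, 3896], [295, 2, 3897, 2508, 3896], [311, 2, 3897, 2504, 3896], [343, 2, 3897, 3761, 3896], [342, 1, 3870, 3936, 3871], [339, 2, 3868, 3938, 3869], [338, 1, 3866, 3940, 3867], [345, 2, 3864, 3942, 3865], [337, 0, 3862, 3944, 3863], [340, 3, 3860, 3946, 3861], [341, 0, 3858, 3948, 3859], [310, 1, 3870, 3934, 3871], [307, 2, 3868, 3952, 3869], [306, 1, 3866, 3954, 3867], [313, 2, 3864, 3956, 3865], [305, 0, 3862, 3958, 3863], [308, 3, 3860, 3960, 3861], [309, 0, 3858, 3962, 3859], [294, 1, 3870, 3932, 3871], [291, 2, 3868, 3966, 3869], [290, 1, 3866, 3968, 3867], [297, 2, 3864, 3970, 3865], [289, 0, 3862, 3972, 3863], [292, 3, 3860, 3974, 3861], [293, 0, 3858, 3976, 3859], [278, 1, 3870, 3930,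 3871], [275, 2, 3868, 3980, 3869], [274, 1, 3866, 3982, 3867], [281, 2, 3864, 3984, 3865], [273, 0, 3862, 3986, 3863], [276, 3, 3860, 3988, 3861], [277, 0, 3858, 3990, 3859], [262, 1, 3870, 3928, 3871], [259, 2, 3868, 3994, 3869], [258, 1, 3866, 3996, 3867]]
def dJ10 : List (List ℕ) := [[265, 2, 3864, 3998, 3865], [257, 0, 3862, 4000, 3863], [260, 3, 3860, 4002, 3861], [261, 0, 3858, 4004, 3859], [246, 1, 3870, 3926, 3871], [243, 2, 3868, 4008, 3869], [242, 1, 3866, 4010, 3867], [249, 2, 3864, 4012, 3865], [241, 0, 3862, 4014, 3863], [244, 3, 3860, 4016, 3861], [245, 0, 3858, 4018, 3859], [230, 1, 3870, 3924, 3871], [227, 2, 3868, 4022, 3869], [226, 1, 3866, 4024, 3867], [233, 2, 3864, 4026, 3865], [225, 0, 3862, 4028, 3863], [228, 3, 3860, 4030, 3861], [229, 0, 3858, 4032, 3859], [214, 1, 3870, 3922, 3871], [211, 2, 3868, 4036, 3869], [210, 1, 3866, 4038, 3867], [217, 2, 3864, 4040, 3865], [209, 0, 3862, 4042, 3863], [212, 3, 3860, 4044, 3861], [213, 0, 3858, 4046, 3859], [198, 1, 3870, 3920,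 3871], [195, 2, 3868, 4050, 3869], [194, 1, 3866, 4052, 3867], [201, 2, 3864, 4054, 3865], [193, 0, 3862, 4056, 3863], [196, 3, 3860, 4058, 3861], [197, 0, 3858, 4060, 3859], [182, 1, 3870, 3918, 3871], [179, 2, 3868, 4064, 3869], [178, 1, 3866, 4066, 3867], [185, 2, 3864, 4068, 3865], [177, 0, 3862, 4070, 3863], [180, 3, 3860, 4072, 3861], [181, 0, 3858, 4074, 3859], [166, 1, 3870, 3916, 3871], [163, 2, 3868, 4078, 3869], [162, 1, 3866, 4080, 3867], [169, 2, 3864, 4082, 3865], [161, 0, 3862, 4084, 3863], [164, 3, 3860, 4086, 3861], [165, 0, 3858, 4088, 3859], [150, 1, 3870, 3914, 3871], [147, 2, 3868, 4092, 3869], [146, 1, 3866, 4094, 3867], [153, 2, 3864, 4096, 3865], [145, 0, 3862, 4098, 3863], [148, 3, 3860, 4100, 3861], [149, 0, 3858, 4102, 3859], [134, 1, 3870, 3912, 3871], [131, 2, 3868, 4106, 3869], [130, 1, 3866, 4108, 3867], [137, 2, 3864, 4110, 3865], [129, 0, 3862, 4112, 3863], [132, 3, 3860, 4114, 3861], [133, 0, 3858, 4116, 3859], [118, 1, 3870, 3910, 3871], [115, 2, 3868, 4120, 3869],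 [114, 1, 3866, 4122, 3867], [121, 2, 3864, 4124, 3865], [113, 0, 3862, 4126, 3863], [116, 3, 3860, 4128, 3861], [117, 0, 3858, 4130, 3859], [102, 1, 3870, 3908, 3871], [99, 2, 3868, 4134, 3869], [98, 1, 3866, 4136, 3867], [92, 1, 3864, 4138], [105, 2, 3864, 4138, 3865], [97, 0, 3862, 4142, 3863], [100, 3, 3860, 4144, 3861], [101, 0, 3858, 4146, 3859], [58, 1, 3870], [56, 1, 3868], [54, 1, 3866], [53, 1, 3862], [55, 1, 3860], [57, 1, 3858], [59, 1, 3856], [77, 0, 4162, 1309, 2344], [49, 1, 1309, 4164], [71, 1, 1309, 3854, 4164], [73, 1, 1309, 3436, 4164], [55, 1, 4170], [53, 1, 4168], [0, 0], [329, 2, 177, 1255, 4176], [317, 1, 4178, 305, 4179], [330, 2, 4178, 3593, 1255], [401, 2, 4178, 259, 4179], [427, 2, 4178, 239, 4179], [451, 2, 4178, 2200, 4179], [473, 2, 4178, 2122, 4179], [493, 2, 4178, 2261, 4179], [511, 2, 4178, 3597, 4179], [316, 0, 178, 396, 290, 2217, 306, 3362, 3371, 2976, 1778, 1780, 1782, 3856, 3858, 3860, 3862, 4141, 3866, 3868, 3870, 3897, 2428, 2430, 2432, 3890, 3882, 2436, 1256,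 2069, 1224, 1195, 805, 4182], [0, 0], [0, 0], [0, 0], [0, 0], [0, 0], [0, 0], [0, 0], [0, 0], [0, 0], [0, 0], [0, 0], [0, 0], [0, 0], [0, 0], [0, 0], [0, 0], [331, 23, 3533, 3353, 3318, 2007, 1794, 2282, 3666, 176, 305, 3362, 3407, 3381, 2334, 3853, 4198, 4200, 4202, 4204, 4206, 4208, 4210, 4212, 4214, 4216, 4218, 4220, 4222, 4224, 4226, 4228], [59, 1, 4230], [89, 0, 4228, 4230, 1314, 1316], [7, 0, 4226, 4235, 3430], [9, 0, 4229, 4235], [5, 0, 4224, 4237, 2973], [4, 0, 4222, 4241, 2970], [15, 0, 4220, 4243, 2969], [13, 0, 4218, 4245, 3623], [10, 0, 4216, 4247], [103, 0, 4230, 3506, 4231], [119, 0, 4230, 1741, 4231], [135, 0, 4230, 1705, 4231], [151, 0, 4230, 2229, 4231], [167, 0, 4230, 2175, 4231], [183, 0, 4230, 2326, 4231], [199, 0, 4230, 3798, 4231], [215, 0, 4230, 1668, 4231], [231, 0, 4230, 1632, 4231], [247, 0, 4230, 1596, 4231], [263, 0, 4230, 1560, 4231], [279, 0, 4230, 1524, 4231], [295, 0, 4230, 1488, 4231], [311, 0, 4230, 1452, 4231], [331, 30, 4208, 4210, 4212, 4214, 4249, 3622, 2968,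 2971, 2972, 3431, 4238, 4230, 3533, 3353, 3318, 2007, 1794, 2282, 176, 305, 3362, 3407, 3381, 2334, 3853, 4198, 4200, 4202, 4204, 4206], [343, 0, 4230, 3482, 4231], [343, 0, 4206, 4278, 4207], [340, 3, 4204, 4282, 4205], [337, 0, 4202, 4284, 4203], [336, 3, 4200, 4286, 4201], [56, 1, 4248], [66, 2, 785, 783, 3615, 4248, 4215], [74, 1, 783, 3609, 4248], [80, 1, 783, 3611, 4248], [90, 2, 783, 3623, 4248], [99, 0, 4249, 3629, 4248], [115, 0, 4249, 1734, 4248], [131, 0, 4249, 1698, 4248], [147, 0, 4249, 2196, 4248], [163, 0, 4249, 2168, 4248], [179, 0, 4249, 2333, 4248], [195, 0, 4249, 3556, 4248], [211, 0, 4249, 1663, 4248], [227, 0, 4249, 1627, 4248], [243, 0, 4249, 1591, 4248], [259, 0, 4249, 1555, 4248], [275, 0, 4249, 1519, 4248], [291, 0, 4249, 1483, 4248], [307, 0, 4249, 1447, 4248], [306, 3, 4214, 4326, 4215], [303, 0, 4212, 4328, 4213], [301, 2, 4210, 4330, 4211], [313, 0, 4208, 4332, 4209], [312, 3, 4206, 4334, 4207], [307, 0, 4204, 4336, 4205], [306, 3, 4202, 4338, 4203], [303, 0, 4200,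 4340, 4201], [290, 3, 4214, 4324, 4215], [287, 0, 4212, 4344, 4213], [285, 2, 4210, 4346, 4211], [297, 0, 4208, 4348, 4209], [296, 3, 4206, 4350, 4207], [291, 0, 4204, 4352, 4205], [290, 3, 4202, 4354, 4203], [287, 0, 4200, 4356, 4201], [274, 3, 4214, 4322, 4215], [271, 0, 4212, 4360, 4213], [269, 2, 4210, 4362, 4211], [281, 0, 4208, 4364, 4209], [280, 3, 4206, 4366, 4207], [275, 0, 4204, 4368, 4205], [274, 3, 4202, 4370, 4203], [271, 0, 4200, 4372, 4201], [258, 3, 4214, 4320, 4215], [255, 0, 4212, 4376, 4213], [253, 2, 4210, 4378, 4211], [265, 0, 4208, 4380, 4209], [264, 3, 4206, 4382, 4207], [259, 0, 4204, 4384, 4205], [258, 3, 4202, 4386, 4203], [255, 0, 4200, 4388, 4201], [242, 3, 4214, 4318, 4215], [239, 0, 4212, 4392, 4213], [237, 2, 4210, 4394, 4211], [249, 0, 4208, 4396, 4209]]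
def dJ11 : List (List ℕ) := [[248, 3, 4206, 4398, 4207], [243, 0, 4204, 4400, 4205], [242, 3, 4202, 4402, 4203], [239, 0, 4200, 4404, 4201], [226, 3, 4214, 4316, 4215], [223, 0, 4212, 4408, 4213], [221, 2, 4210, 4410, 4211], [233, 0, 4208, 4412, 4209], [232, 3, 4206, 4414, 4207], [227, 0, 4204, 4416, 4205], [226, 3, 4202, 4418, 4203], [223, 0, 4200, 4420, 4201], [210, 3, 4214, 4314, 4215], [207, 0, 4212, 4424, 4213], [205, 2, 4210, 4426, 4211], [217, 0, 4208, 4428, 4209], [216, 3, 4206, 4430, 4207], [211, 0, 4204, 4432, 4205], [210, 3, 4202, 4434, 4203], [207, 0, 4200, 4436, 4201], [194, 3, 4214, 4312, 4215], [191, 0, 4212, 4440, 4213], [189, 2, 4210, 4442, 4211], [201, 0, 4208, 4444, 4209], [200, 3, 4206, 4446, 4207], [195, 0, 4204, 4448, 4205], [194, 3, 4202, 4450, 4203], [191, 0, 4200, 4452, 4201], [178, 3, 4214, 4310, 4215], [175, 0, 4212, 4456, 4213], [173, 2, 4210, 4458, 4211], [185, 0, 4208, 4460, 4209], [184, 3, 4206, 4462, 4207], [179, 0, 4204, 4464, 4205], [178, 3, 4202, 4466, 4203],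 [175, 0, 4200, 4468, 4201], [162, 3, 4214, 4308, 4215], [159, 0, 4212, 4472, 4213], [157, 2, 4210, 4474, 4211], [169, 0, 4208, 4476, 4209], [168, 3, 4206, 4478, 4207], [163, 0, 4204, 4480, 4205], [162, 3, 4202, 4482, 4203], [159, 0, 4200, 4484, 4201], [146, 3, 4214, 4306, 4215], [143, 0, 4212, 4488, 4213], [141, 2, 4210, 4490, 4211], [153, 0, 4208, 4492, 4209], [152, 3, 4206, 4494, 4207], [147, 0, 4204, 4496, 4205], [146, 3, 4202, 4498, 4203], [143, 0, 4200, 4500, 4201], [130, 3, 4214, 4304, 4215], [127, 0, 4212, 4504, 4213], [125, 2, 4210, 4506, 4211], [137, 0, 4208, 4508, 4209], [136, 3, 4206, 4510, 4207], [131, 0, 4204, 4512, 4205], [130, 3, 4202, 4514, 4203], [127, 0, 4200, 4516, 4201], [114, 3, 4214, 4302, 4215], [111, 0, 4212, 4520, 4213], [109, 2, 4210, 4522, 4211], [121, 0, 4208, 4524, 4209], [120, 3, 4206, 4526, 4207], [115, 0, 4204, 4528, 4205], [114, 3, 4202, 4530, 4203], [111, 0, 4200, 4532, 4201], [98, 3, 4214, 4300, 4215], [95, 0, 4212, 4536, 4213], [93, 2, 4210, 4538, 4211], [91,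 0, 4208, 4540], [105, 0, 4208, 4540, 4209], [104, 3, 4206, 4544, 4207], [99, 0, 4204, 4546, 4205], [98, 3, 4202, 4548, 4203], [95, 0, 4200, 4550, 4201], [60, 1, 4298], [78, 0, 4298, 3353, 3323, 4198], [4, 0, 4295, 4557], [6, 0, 4297, 4557], [8, 0, 4214, 4557], [9, 0, 4248, 4557], [10, 0, 4291, 4557], [13, 0, 4554, 4557], [14, 0, 4299, 4557], [171, 2, 4570, 2358, 2985, 4232], [172, 2, 4570, 3532, 2327, 4232], [107, 3, 4253, 4574, 4199, 3852], [108, 1, 4574, 4558, 3532, 1740], [124, 1, 4574, 4560, 3532, 1704], [139, 3, 4257, 4574, 4564, 1319], [51, 1, 4580], [123, 3, 4201, 4519, 4573, 4584, 2984], [6, 0, 4200, 4587], [8, 0, 4203, 4587, 784], [10, 0, 4205, 4591, 4293], [6, 0, 4212, 4592], [7, 0, 4562, 4592], [10, 0, 4293, 4592], [56, 1, 4598], [66, 1, 4566, 3616, 1285, 1283, 4600], [80, 2, 787, 4600, 4594], [56, 1, 4604], [74, 1, 2302, 789, 4606], [80, 1, 4598, 1281, 4606], [64, 0, 4610, 4602, 4560, 1283, 1281], [54, 1, 4612], [50, 2, 4210, 4608, 789], [4, 0, 4211, 4617], [15, 0, 4543, 4617], [16,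 0, 4208, 4617], [62, 5, 4594, 4608, 2109, 789, 787], [88, 0, 4207, 4602, 4570, 1283], [14, 0, 4206, 4627], [15, 0, 4622, 4627], [16, 0, 4620, 4627], [235, 10, 4602, 4575, 4239, 1592, 1318, 3614, 2968, 3431, 1318, 3614, 782, 1283, 4632, 4612], [267, 4, 4596, 4568, 1283, 4632, 4612, 4634, 4602, 4575, 4233, 1524, 3533, 784, 4630, 4615], [171, 3, 4459, 4636, 4629, 4632], [60, 1, 4638], [78, 2, 789, 4638, 4608], [84, 2, 1281, 4638, 4610], [328, 3, 3906, 2677, 4638], [317, 3, 2674, 4609, 4646], [318, 0, 2677, 4618, 4646], [321, 3, 2677, 4615, 4646], [322, 0, 2677, 4612, 4646], [323, 3, 2677, 4605, 4646], [324, 0, 2677, 4606, 4646], [76, 3, 3870, 4648, 2622], [74, 3, 2422, 4660, 4152], [72, 3, 3866, 4662, 2638], [0, 0], [0, 0], [67, 3, 2304, 1976, 2307, 4666, 4668], [57, 0, 4670, 4666], [10, 0, 4668, 4673], [11, 0, 4671, 4673], [75, 0, 4676, 1804, 4666], [85, 0, 4676, 2347, 4666], [101, 0, 4676, 3550, 4677], [117, 0, 4676, 1758, 4677], [133, 0, 4676, 1722, 4677], [149, 0, 4676, 2245, 4677], [155, 0, 4676,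 2291, 2414, 2561], [165, 0, 4676, 2191, 4677], [181, 0, 4676, 2310, 4677], [197, 0, 4676, 3794, 4677], [213, 0, 4676, 1687, 4677], [229, 0, 4676, 1651, 4677], [245, 0, 4676, 1615, 4677], [251, 2, 2663, 4690, 4680, 4676, 2346, 2291, 2006, 3602, 2346, 2291, 2414, 2529, 4690, 4680], [252, 0, 4676, 3603, 2007, 2290, 2347, 3603, 2007, 2414, 2662, 4705, 4681, 4691, 2662, 4705], [277, 0, 4676, 1543, 4677], [293, 0, 4676, 1507, 4677], [309, 0, 4676, 1471, 4677], [341, 0, 4676, 3514, 4677], [0, 0], [0, 0], [0, 0], [0, 0], [0, 0], [0, 0], [0, 0], [0, 0], [0, 0], [0, 0], [0, 0], [0, 0], [0, 0], [0, 0], [0, 0], [0, 0], [0, 0], [0, 0], [315, 31, 4178, 3593, 303, 93, 52, 1997, 174, 778, 3632, 3618, 782, 784, 786, 4641, 4716, 4718, 4720, 4722, 4724, 4726, 4728, 4730, 4732, 4734, 4736, 4738, 4740, 4742, 4744, 4746, 4748, 4750], [54, 1, 4752], [72, 3, 4752, 4181, 4754], [113, 2, 4752, 4185, 4753], [145, 2, 4752, 4189, 4753], [161, 2, 4752, 4191, 4753], [177, 2, 4752, 4193, 4753], [193, 2, 4752, 4195, 4753], [203,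 7, 4752, 4177, 1256, 806, 975, 3728, 1195, 1167, 3729, 974, 807, 1257, 4176, 4753, 4751], [3, 0, 4768, 4757, 4769, 4749], [5, 0, 4770, 4750, 4769, 4771], [7, 0, 4754, 4769, 4771], [8, 0, 4753, 4769, 4771], [19, 0, 4770, 4768, 4758, 4769, 4771], [23, 0, 4770, 4768, 4760, 4769, 4771], [25, 0, 4770, 4768, 4762, 4769, 4771], [27, 0, 4770, 4768, 4764, 4769, 4771], [29, 0, 4770, 4768, 4766, 4769, 4771], [4, 0, 4748, 4771], [315, 16, 4721, 4719, 4717, 4640, 787, 785, 783, 3619, 3633, 779, 175, 1996, 53, 92, 302, 1851, 4176, 4777, 4772, 4788, 4747, 4745, 4743, 4741, 4739, 4737, 4735, 4733, 4731, 4729, 4727, 4725], [92, 0, 4722, 4790], [588, 0, 4792, 4792], [345, 0, 4723, 4794, 4722], [338, 3, 4725, 4796, 4724]]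
def dJ12 : List (List ℕ) := [[339, 0, 4727, 4798, 4726], [342, 3, 4729, 4800, 4728], [343, 0, 4731, 4802, 4730], [195, 2, 4746, 4786, 4747], [194, 1, 4744, 4806, 4745], [191, 2, 4742, 4808, 4743], [190, 1, 4740, 4810, 4741], [197, 2, 4738, 4812, 4739], [196, 1, 4736, 4814, 4737], [193, 2, 4734, 4816, 4735], [192, 1, 4732, 4818, 4733], [179, 2, 4746, 4784, 4747], [178, 1, 4744, 4822, 4745], [175, 2, 4742, 4824, 4743], [174, 1, 4740, 4826, 4741], [181, 2, 4738, 4828, 4739], [180, 1, 4736, 4830, 4737], [177, 2, 4734, 4832, 4735], [176, 1, 4732, 4834, 4733], [163, 2, 4746, 4782, 4747], [162, 1, 4744, 4838, 4745], [159, 2, 4742, 4840, 4743], [158, 1, 4740, 4842, 4741], [165, 2, 4738, 4844, 4739], [147, 2, 4746, 4780, 4747], [146, 1, 4744, 4848, 4745], [143, 2, 4742, 4850, 4743], [142, 1, 4740, 4852, 4741], [149, 2, 4738, 4854, 4739], [148, 1, 4736, 4856, 4737], [115, 2, 4746, 4778, 4747], [114, 1, 4744, 4860, 4745], [111, 2, 4742, 4862, 4743], [110, 1, 4740, 4864, 4741], [117, 2, 4738, 4866, 4739],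 [235, 7, 4776, 4177, 1256, 806, 975, 3728, 2069, 1111, 3729, 974, 807, 1257, 4176, 4777, 4747], [8, 0, 4775, 4871, 4745], [8, 0, 4777, 4871], [5, 0, 4742, 4872], [8, 0, 4745, 4872], [322, 3, 306, 4179, 4878], [124, 2, 2436, 4182, 4187, 4876], [319, 2, 3363, 4179, 4876], [320, 1, 3363, 4197, 4876], [317, 2, 4740, 4886, 3371], [326, 1, 2977, 4888, 4739], [329, 3, 3899, 3626, 4888], [330, 0, 3899, 1319, 4888], [527, 0, 4889, 1664, 4888], [541, 0, 4889, 1628, 4888], [553, 0, 4889, 1592, 4888], [571, 0, 4889, 1520, 4888], [577, 0, 4889, 1484, 4888], [581, 0, 4889, 1448, 4888], [317, 3, 4889, 2970, 4891], [321, 3, 4889, 3429, 4891], [322, 0, 4889, 3430, 4891], [326, 0, 4889, 2979, 4891], [155, 0, 4914, 4892, 3904, 2458], [156, 4, 4847, 4914, 4894, 3904], [213, 0, 4914, 4897, 4915], [229, 0, 4914, 4899, 4915], [245, 0, 4914, 4901, 4915], [252, 0, 4914, 4894, 3885, 4916, 4912, 4894, 3885, 3890, 3902, 4918, 4910, 4892, 3902, 4918], [277, 0, 4914, 4903, 4915], [293, 0, 4914, 4905, 4915], [309, 0, 4914, 4907,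 4915], [307, 2, 4736, 4932, 4737], [306, 1, 4734, 4934, 4735], [303, 2, 4732, 4936, 4733], [291, 2, 4736, 4930, 4737], [290, 1, 4734, 4940, 4735], [287, 2, 4732, 4942, 4733], [275, 2, 4736, 4928, 4737], [274, 1, 4734, 4946, 4735], [271, 2, 4732, 4948, 4733], [259, 2, 4736, 4926, 4737], [258, 1, 4734, 4952, 4735], [255, 2, 4732, 4954, 4733], [243, 2, 4736, 4924, 4737], [242, 1, 4734, 4958, 4735], [239, 2, 4732, 4960, 4733], [227, 2, 4736, 4922, 4737], [226, 1, 4734, 4964, 4735], [223, 2, 4732, 4966, 4733], [211, 2, 4736, 4920, 4737], [210, 1, 4734, 4970, 4735], [207, 2, 4732, 4972, 4733], [108, 1, 4882, 2435, 4918, 4869], [140, 2, 2432, 4918, 4857, 4737], [330, 3, 3567, 2449, 4918], [140, 1, 4919, 2476, 4979, 4858], [323, 0, 4982, 4980, 1315], [324, 3, 4982, 4890, 1315], [322, 1, 1781, 4986, 4735], [322, 0, 4987, 1313, 4989], [321, 0, 4990, 4985, 1313], [319, 2, 1783, 4992, 4733], [320, 2, 4994, 1310, 4992], [330, 2, 4994, 3485, 4992], [329, 0, 3485, 4989, 4998], [327, 2, 4730, 5000, 3856], [317,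 3, 5003, 4166, 5001], [321, 3, 5003, 4168, 5001], [323, 3, 5003, 4170, 5001], [324, 0, 5003, 4173, 5001], [323, 2, 4173, 4995, 5010], [326, 1, 4728, 5012, 3858], [326, 2, 5015, 4160, 5013], [325, 0, 4160, 5002, 5016], [323, 2, 4726, 5018, 3860], [324, 0, 5018, 4159, 5020], [323, 0, 5022, 5015, 4159], [321, 2, 3863, 5024, 4725], [322, 2, 5026, 4156, 5024], [321, 0, 4156, 5020, 5028], [329, 2, 4722, 5030, 4141], [318, 0, 2636, 4664, 5032], [321, 0, 3867, 5032, 4721], [322, 0, 5036, 4154, 5032], [318, 0, 5036, 4662, 2628], [324, 3, 4718, 5036, 3868], [324, 0, 5043, 4152, 5037], [73, 2, 792, 5040, 5044], [317, 0, 5046, 2672, 4660], [323, 2, 3868, 5048, 4718], [325, 1, 4646, 4150, 5048], [321, 0, 5038, 5050, 4154], [317, 0, 4909, 4980, 2971], [0, 0], [323, 2, 2306, 4179, 5058], [329, 1, 5060, 2291, 1798], [330, 2, 5060, 3603, 1798], [0, 0], [0, 0], [0, 0], [0, 0], [0, 0], [331, 15, 4583, 1776, 3567, 3609, 3610, 3617, 4567, 4568, 2985, 3354, 1809, 2347, 2304, 2274, 3546, 3593, 296, 778, 1288, 3316, 3322,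 3348, 4576, 4584, 1780, 5066, 5068, 5070, 5072, 5074], [53, 1, 5076], [63, 0, 5074, 5076, 4584, 1780, 1782, 4174], [4, 0, 5072, 5081, 4166], [5, 0, 5075, 5081], [15, 0, 5070, 5083, 3466], [14, 0, 5068, 5087], [65, 0, 5076, 4583, 3429, 1778, 1780, 5066], [6, 0, 5084, 5091], [7, 0, 5077, 5091], [8, 0, 5078, 5091], [64, 5, 5096, 4581, 1313, 1311, 4169], [66, 0, 5096, 4239, 3430, 1315, 1313], [72, 3, 5096, 4579, 1313], [97, 2, 5096, 4250, 5097], [113, 2, 5096, 4252, 5097], [129, 2, 5096, 4254, 5097], [145, 2, 5096, 4256, 5097], [161, 2, 5096, 4258, 5097], [177, 2, 5096, 4260, 5097], [188, 2, 5096, 4572, 4597, 4637, 4614, 4631, 785, 3532, 1313, 3484, 3845, 4169], [193, 2, 5096, 4262, 5097], [203, 4, 5094, 4584, 1313, 3484, 4169, 5116, 5096, 4572, 4560, 1188, 2985, 1780, 3467, 4174], [209, 2, 5096, 4264, 5097], [225, 2, 5096, 4266, 5097], [241, 2, 5096, 4268, 5097], [257, 2, 5096, 4270, 5097], [267, 6, 5096, 4572, 4597, 4637, 4614, 4631, 4628, 4368, 4635, 4613, 4633, 1282, 2985, 1780], [273, 2, 5096,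 4272, 5097], [289, 2, 5096, 4274, 5097], [305, 2, 5096, 4276, 5097], [332, 23, 5121, 3857, 4171, 4175, 1783, 3357, 3494, 3459, 2345, 3437, 3855, 2353, 4164, 5116, 5131, 5100, 5096, 4581, 4578, 4572, 4570, 783, 3615, 3612, 781, 3634, 3389, 3379, 1789, 2348], [337, 2, 5096, 4280, 5097], [0, 0], [0, 0], [0, 0], [0, 0], [0, 0], [315, 25, 4732, 4734, 4736, 4976, 4877, 4878, 4880, 180, 419, 387, 277, 543, 419, 387, 276, 635, 543, 419, 387, 727, 635, 543, 419, 181, 179, 2305, 4677, 5142, 5144, 5146, 5148, 5150], [50, 2, 5152, 5004], [72, 0, 5152, 5006, 5154], [74, 0, 5152, 5008, 5154], [173, 2, 5152, 4836, 5153], [189, 2, 5152, 4820, 5153], [205, 2, 5152, 4975, 5153], [221, 2, 5152, 4969, 5153], [237, 2, 5152, 4963, 5153], [253, 2, 5152, 4957, 5153], [269, 2, 5152, 4951, 5153], [285, 2, 5152, 4945, 5153], [301, 2, 5152, 4939, 5153], [318, 1, 5152, 4994, 1309], [333, 2, 5152, 4804, 5153], [342, 1, 5150, 5180, 5151], [339, 2, 5148, 5182, 5149], [338, 1, 5146, 5184, 5147], [335, 2, 5144, 5186, 5145], [319,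 1, 5179, 2353, 5178], [310, 1, 5150, 5176, 5151], [307, 2, 5148, 5192, 5149], [306, 1, 5146, 5194, 5147], [303, 2, 5144, 5196, 5145]]
def dJ13 : List (List ℕ) := [[294, 1, 5150, 5174, 5151], [291, 2, 5148, 5200, 5149], [290, 1, 5146, 5202, 5147], [287, 2, 5144, 5204, 5145], [278, 1, 5150, 5172, 5151], [275, 2, 5148, 5208, 5149], [274, 1, 5146, 5210, 5147], [271, 2, 5144, 5212, 5145], [262, 1, 5150, 5170, 5151], [259, 2, 5148, 5216, 5149], [258, 1, 5146, 5218, 5147], [255, 2, 5144, 5220, 5145], [246, 1, 5150, 5168, 5151], [243, 2, 5148, 5224, 5149], [242, 1, 5146, 5226, 5147], [239, 2, 5144, 5228, 5145], [230, 1, 5150, 5166, 5151], [227, 2, 5148, 5232, 5149], [226, 1, 5146, 5234, 5147], [223, 2, 5144, 5236, 5145], [214, 1, 5150, 5164, 5151], [211, 2, 5148, 5240, 5149], [210, 1, 5146, 5242, 5147], [207, 2, 5144, 5244, 5145], [198, 1, 5150, 5162, 5151], [195, 2, 5148, 5248, 5149], [194, 1, 5146, 5250, 5147], [191, 2, 5144, 5252, 5145], [182, 1, 5150, 5160, 5151], [179, 2, 5148, 5256, 5149], [178,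 1, 5146, 5258, 5147], [175, 2, 5144, 5260, 5145], [171, 0, 2417, 4705, 5142, 5262], [91, 0, 5264, 3712], [105, 0, 5264, 3712, 5265], [121, 0, 5264, 2602, 5265], [137, 0, 5264, 2588, 5265], [153, 0, 5264, 2574, 5265], [169, 0, 5264, 2558, 5265], [172, 1, 5264, 2658, 4705, 4694], [267, 3, 5264, 2649, 2417, 2662, 4705, 4681, 4691, 2662, 4705, 5142, 5214, 5264, 2649, 5266], [299, 13, 5198, 5264, 2649, 5266, 5280, 5264, 2649, 2654, 2648, 5265, 5281, 5267, 2648, 5265], [139, 3, 5275, 5264, 2651, 5265], [155, 3, 5277, 5264, 2653, 5265], [160, 3, 5145, 5276, 5144], [161, 0, 5147, 5288, 5146], [164, 3, 5149, 5290, 5148], [144, 3, 5145, 5274, 5144], [145, 0, 5147, 5294, 5146], [148, 3, 5149, 5296, 5148], [128, 3, 5145, 5272, 5144], [123, 0, 2419, 5265, 5144, 5300], [129, 0, 5147, 5300, 5146], [132, 3, 5149, 5304, 5148], [91, 0, 5302, 3730], [105, 0, 5302, 3730, 5303], [108, 1, 5302, 4664, 4140, 4127], [121, 0, 5302, 2601, 5303], [124, 1, 5302, 2646, 5265, 5272], [139, 3, 5294, 5302, 2641, 5303], [155, 3,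 5288, 5302, 2643, 5303], [114, 3, 5147, 5314, 5146], [115, 0, 5149, 5322, 5148], [98, 3, 5147, 5310, 5146], [99, 0, 5149, 5326, 5148], [58, 1, 5150], [82, 3, 5150, 5191, 5330], [86, 3, 5150, 5156, 5330], [76, 1, 4728, 5154, 5330], [74, 3, 5148, 5336, 5023], [56, 1, 5148], [66, 3, 5318, 5146, 5148, 5334, 5340], [68, 0, 5148, 5150, 5158, 5330, 5340], [80, 3, 5148, 5332, 5340], [72, 3, 5338, 5342, 5313, 3863], [4, 0, 5339, 5349], [8, 0, 4724, 5349, 3862], [10, 0, 5023, 5349, 4158], [46, 0, 5024, 5349], [16, 0, 4722, 5353, 4141], [46, 0, 5027, 5353], [3, 0, 5336, 5355], [12, 0, 5016, 5355, 4160], [46, 0, 5014, 5355], [4, 0, 5035, 5359, 4665], [8, 0, 5039, 5359, 4155], [46, 0, 5054, 5359], [4, 0, 5004, 5365, 4166], [3, 0, 5155, 5365, 4165], [46, 0, 5013, 5365], [4, 0, 4665, 5368], [6, 0, 2418, 5368, 796], [8, 0, 2638, 5368, 1274], [15, 0, 5309, 5368], [16, 0, 5302, 5368], [46, 0, 2636, 5368], [10, 0, 5045, 5371, 4153], [46, 0, 5051, 5371], [6, 0, 4996, 5375, 1310], [46, 0, 4995, 5375], [11, 0, 5150,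 5377], [12, 0, 5331, 5377], [46, 0, 5178, 5377], [14, 0, 2416, 5383, 798], [15, 0, 5267, 5383], [16, 0, 5264, 5383], [46, 0, 2645, 5383], [3, 0, 4662, 5385], [10, 0, 2630, 5385, 1276], [46, 0, 2629, 5385], [12, 0, 5053, 5393, 4151], [46, 0, 5048, 5393], [8, 0, 4991, 5397, 1312], [46, 0, 4992, 5397], [12, 0, 2414, 5407, 800], [15, 0, 4691, 5407], [16, 0, 4704, 5407], [46, 0, 2656, 5407], [4, 0, 4661, 5417], [12, 0, 2622, 5417, 1278], [46, 0, 2620, 5417], [4, 0, 4618, 5421, 4650], [5, 0, 4594, 5421], [6, 0, 4611, 5421], [15, 0, 4637, 5421], [16, 0, 4635, 5421], [46, 0, 4647, 5421], [10, 0, 4983, 5425, 1314], [16, 0, 4979, 5425, 3533], [46, 0, 4984, 5425], [5, 0, 3321, 5429], [6, 0, 3318, 5429], [10, 0, 1795, 5429, 802], [16, 0, 2291, 5429, 5062], [46, 0, 1853, 5429], [3, 0, 4648, 5439], [46, 0, 2613, 5439], [4, 0, 4650, 5442], [6, 0, 2610, 5442, 1280], [7, 0, 4652, 5442], [8, 0, 4654, 5442], [9, 0, 4656, 5442], [10, 0, 4658, 5442], [13, 0, 3897, 5442], [14, 0, 3906, 5442], [46, 0, 2608, 5442], [4,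 0, 4977, 5455, 3368], [3, 0, 4909, 5455, 2971], [16, 0, 4918, 5455, 3567], [46, 0, 4981, 5455], [46, 0, 2450, 5457], [6, 0, 2436, 5464, 778], [8, 0, 805, 5464, 303], [9, 0, 1261, 5464], [10, 0, 802, 5464], [16, 0, 4177, 5464, 176], [46, 0, 1255, 5464], [15, 0, 5064, 5466], [16, 0, 5062, 5466], [46, 0, 5061, 5466], [46, 0, 2605, 5477], [46, 0, 4885, 5493], [16, 0, 4895, 5495, 1318], [46, 0, 5056, 5495], [46, 0, 2449, 5497], [46, 0, 2446, 5503], [16, 0, 3728, 5505, 3706], [46, 0, 978, 5505], [8, 0, 4874, 5511, 178], [46, 0, 4179, 5511], [46, 0, 3900, 5525], [46, 0, 969, 5533], [46, 0, 4881, 5537], [329, 0, 3651, 5544, 3650], [323, 0, 4564, 5540, 4565], [317, 2, 4198, 5548, 4199], [321, 2, 4602, 5548, 4603], [329, 2, 4572, 5548, 4573], [318, 1, 4576, 5554, 4577], [321, 0, 5094, 5554, 5095], [318, 3, 5138, 5558, 5139], [325, 0, 4676, 5518, 4677], [327, 2, 5279, 5562, 5278], [319, 0, 5145, 5564, 5144], [321, 2, 5342, 5566, 5343], [323, 0, 5149, 5568, 5148], [0, 0], [0, 0], [0, 0], [331, 18, 789, 1280,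 1282, 1284, 3625, 3626, 3370, 3375, 178, 2217, 2272, 3582, 180, 277, 387, 419, 543, 727, 3651, 290, 396, 306, 2307, 2308, 5514, 1263, 5460, 5572, 5574, 5576], [91, 0, 5578, 3682], [105, 0, 5578, 3682, 5579], [108, 1, 5578, 789, 4631, 1246], [121, 0, 5578, 1243, 5579], [137, 0, 5578, 1213, 5579], [153, 0, 5578, 2087, 5579], [169, 0, 5578, 2045, 5579], [171, 4, 5578, 4643, 5579, 5577], [185, 1, 5578, 2365, 5579, 5595], [4, 0, 5584, 5597]]
def dJ14 : List (List ℕ) := [[14, 0, 5576, 5597], [15, 0, 5579, 5597], [16, 0, 5580, 5597], [17, 0, 5596, 5583, 5597], [19, 0, 5596, 5587, 5597], [21, 0, 5596, 5589, 5597], [23, 0, 5596, 5591, 5597], [25, 0, 5596, 5593, 5597], [27, 0, 5594, 5597], [180, 3, 5574, 5616, 5575], [164, 3, 5574, 5614, 5575], [140, 1, 5574, 5602, 2302, 5603, 5612], [4, 0, 5599, 5622], [10, 0, 5574, 5622], [13, 0, 5623, 5600, 5622], [15, 0, 5603, 5622], [16, 0, 5605, 5622], [17, 0, 5623, 5607, 5622], [19, 0, 5623, 5609, 5622], [21, 0, 5623, 5611, 5622], [23, 0, 5623, 5613, 5622], [124,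 1, 5630, 2109, 5631, 5638], [61, 2, 5447, 5475, 1280, 5625, 5642], [63, 1, 5463, 2098, 5460, 5572, 5642], [204, 0, 5642, 5630, 2066, 5633, 5646, 3348, 1300, 2348, 1301, 3349, 5647, 5632, 2067, 5631], [187, 12, 5630, 2066, 5633, 5646, 3348, 1300, 3412, 3854, 3495, 1788, 3853, 5572], [219, 14, 5630, 2066, 5633, 5646, 3348, 1300, 1788, 1789, 3494, 3855, 3413, 1301, 3349, 5647], [235, 14, 5630, 2066, 5633, 5646, 3348, 1300, 3411, 1301, 3349, 5647, 5632, 2067, 5631, 5626], [257, 0, 5646, 3341, 5647], [267, 14, 5630, 2066, 5633, 5646, 3348, 1300, 2336, 1301, 3349, 5647, 5632, 2067, 5631, 5629], [283, 14, 5630, 2066, 5633, 5646, 3348, 1300, 3412, 3855, 3413, 1301, 3349, 5647, 5632, 5631], [299, 14, 5630, 2066, 5633, 5646, 3348, 1300, 5138, 5096, 4572, 4597, 5449, 5479, 4631, 5625], [321, 0, 5646, 5550, 5647], [337, 0, 5646, 3770, 5647], [0, 0], [0, 0], [67, 3, 3350, 2193, 3316, 5668, 5670], [57, 0, 5672, 5668], [10, 0, 5670, 5675], [11, 0, 5673, 5675], [81, 0, 5678, 5463, 1264], [101, 0, 5678, 3847, 5679],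 [117, 0, 5678, 3325, 5679], [133, 0, 5678, 3327, 5679], [149, 0, 5678, 3329, 5679], [165, 0, 5678, 3331, 5679], [181, 0, 5678, 3333, 5679], [197, 0, 5678, 3792, 5679], [213, 0, 5678, 3335, 5679], [229, 0, 5678, 3337, 5679], [245, 0, 5678, 3339, 5679], [261, 0, 5678, 3341, 5679], [277, 0, 5678, 3343, 5679], [293, 0, 5678, 3345, 5679], [309, 0, 5678, 3347, 5679], [325, 0, 5678, 5550, 5679], [341, 0, 5678, 3770, 5679], [51, 1, 5680], [83, 1, 796, 798, 5680], [59, 1, 5716], [0, 0], [0, 0], [0, 0], [0, 0], [0, 0], [0, 0], [0, 0], [0, 0], [0, 0], [0, 0], [0, 0], [0, 0], [0, 0], [0, 0], [0, 0], [0, 0], [315, 24, 3353, 5461, 2099, 5507, 297, 1287, 1289, 5530, 3365, 3407, 3375, 305, 2307, 2347, 1806, 3355, 5720, 5722, 5724, 5726, 5728, 5730, 5732, 5734, 5736, 5738, 5740, 5742, 5744, 5746, 5748, 5750], [58, 1, 5752], [68, 4, 5750, 5752, 783, 3619, 4565], [76, 3, 5752, 3353, 5679], [82, 3, 5752, 4588, 5756], [155, 2, 5752, 2050, 2985, 5720], [156, 2, 5752, 3532, 2174, 5720], [165, 2, 5752, 2051, 5753], [181,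 2, 5752, 2359, 5753], [197, 2, 5752, 3810, 5753], [213, 2, 5752, 1189, 5753], [229, 2, 5752, 1161, 5753], [245, 2, 5752, 1133, 5753], [261, 2, 5752, 1105, 5753], [277, 2, 5752, 1077, 5753], [293, 2, 5752, 1049, 5753], [309, 2, 5752, 1021, 5753], [316, 16, 5738, 5740, 5742, 5744, 5746, 5748, 5750, 5752, 3353, 5461, 2099, 5507, 297, 1287, 1289, 3634, 5523, 3407, 3375, 305, 2307, 2347, 1806, 3355, 5720, 5722, 5724, 5726, 5728, 5730, 5732, 5734], [325, 2, 5752, 5501, 5753], [341, 2, 5752, 3768, 5753], [336, 1, 5760, 5790, 5761], [345, 0, 5764, 5790, 5765], [339, 2, 5723, 5794, 5722], [338, 1, 5725, 5796, 5724], [335, 2, 5727, 5798, 5726], [344, 1, 5729, 5800, 5728], [341, 2, 5731, 5802, 5730], [340, 1, 5733, 5804, 5732], [337, 2, 5735, 5806, 5734], [345, 0, 5737, 5808, 5736], [338, 3, 5739, 5810, 5738], [339, 0, 5741, 5812, 5740], [342, 3, 5743, 5814, 5742], [343, 0, 5745, 5816, 5744], [336, 3, 5747, 5818, 5746], [320, 1, 5760, 5788, 5761], [329, 0, 5764, 5788, 5765], [323, 2, 5723, 5824, 5722], [322,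 1, 5725, 5826, 5724], [319, 2, 5727, 5828, 5726], [328, 1, 5729, 5830, 5728], [325, 2, 5731, 5832, 5730], [324, 1, 5733, 5834, 5732], [321, 2, 5735, 5836, 5734], [329, 0, 5737, 5838, 5736], [322, 3, 5739, 5840, 5738], [323, 0, 5741, 5842, 5740], [326, 3, 5743, 5844, 5742], [327, 0, 5745, 5846, 5744], [320, 3, 5747, 5848, 5746], [91, 2, 5786, 5737], [91, 2, 5737, 5786], [97, 0, 5739, 5854, 5738], [100, 3, 5741, 5856, 5740], [101, 0, 5743, 5858, 5742], [104, 3, 5745, 5860, 5744], [95, 0, 5747, 5862, 5746], [98, 3, 5749, 5864, 5748], [97, 0, 5734, 5852, 5735], [100, 3, 5732, 5868, 5733], [101, 0, 5730, 5870, 5731], [104, 3, 5728, 5872, 5729], [95, 0, 5726, 5874, 5727], [98, 3, 5724, 5876, 5725], [99, 0, 5722, 5878, 5723], [304, 1, 5760, 5784, 5761], [313, 0, 5764, 5784, 5765], [307, 2, 5723, 5884, 5722], [306, 1, 5725, 5886, 5724], [303, 2, 5727, 5888, 5726], [312, 1, 5729, 5890, 5728], [309, 2, 5731, 5892, 5730], [308, 1, 5733, 5894, 5732], [305, 2, 5735, 5896, 5734], [313, 0, 5737, 5898, 5736],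 [306, 3, 5739, 5900, 5738], [307, 0, 5741, 5902, 5740], [310, 3, 5743, 5904, 5742], [311, 0, 5745, 5906, 5744], [304, 3, 5747, 5908, 5746], [288, 1, 5760, 5782, 5761], [297, 0, 5764, 5782, 5765], [291, 2, 5723, 5914, 5722], [290, 1, 5725, 5916, 5724], [287, 2, 5727, 5918, 5726], [296, 1, 5729, 5920, 5728], [293, 2, 5731, 5922, 5730], [292, 1, 5733, 5924, 5732], [289, 2, 5735, 5926, 5734], [297, 0, 5737, 5928, 5736], [290, 3, 5739, 5930, 5738], [291, 0, 5741, 5932, 5740], [294, 3, 5743, 5934, 5742], [295, 0, 5745, 5936, 5744], [288, 3, 5747, 5938, 5746], [272, 1, 5760, 5780, 5761], [281, 0, 5764, 5780, 5765], [275, 2, 5723, 5944, 5722], [274, 1, 5725, 5946, 5724], [271, 2, 5727, 5948, 5726], [280, 1, 5729, 5950, 5728], [277, 2, 5731, 5952, 5730], [276, 1, 5733, 5954, 5732], [273, 2, 5735, 5956, 5734], [281, 0, 5737, 5958, 5736], [274, 3, 5739, 5960, 5738], [275, 0, 5741, 5962, 5740], [278, 3, 5743, 5964, 5742], [279, 0, 5745, 5966, 5744], [272, 3, 5747, 5968, 5746], [256, 1, 5760, 5778, 5761], [265,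 0, 5764, 5778, 5765], [259, 2, 5723, 5974, 5722], [258, 1, 5725, 5976, 5724], [255, 2, 5727, 5978, 5726], [264, 1, 5729, 5980, 5728], [261, 2, 5731, 5982, 5730], [260, 1, 5733, 5984, 5732], [257, 2, 5735, 5986, 5734], [265, 0, 5737, 5988, 5736], [258, 3, 5739, 5990, 5738], [259, 0, 5741, 5992, 5740], [262, 3, 5743, 5994, 5742], [263, 0, 5745, 5996, 5744]]
def dJ15 : List (List ℕ) := [[256, 3, 5747, 5998, 5746], [240, 1, 5760, 5776, 5761], [249, 0, 5764, 5776, 5765], [243, 2, 5723, 6004, 5722], [242, 1, 5725, 6006, 5724], [239, 2, 5727, 6008, 5726], [248, 1, 5729, 6010, 5728], [245, 2, 5731, 6012, 5730], [244, 1, 5733, 6014, 5732], [241, 2, 5735, 6016, 5734], [249, 0, 5737, 6018, 5736], [242, 3, 5739, 6020, 5738], [243, 0, 5741, 6022, 5740], [246, 3, 5743, 6024, 5742], [247, 0, 5745, 6026, 5744], [240, 3, 5747, 6028, 5746], [224, 1, 5760, 5774, 5761], [233, 0, 5764, 5774, 5765], [227, 2, 5723, 6034, 5722], [226, 1, 5725, 6036, 5724], [223, 2, 5727, 6038, 5726], [232, 1, 5729, 6040, 5728], [229,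 2, 5731, 6042, 5730], [228, 1, 5733, 6044, 5732], [225, 2, 5735, 6046, 5734], [233, 0, 5737, 6048, 5736], [226, 3, 5739, 6050, 5738], [227, 0, 5741, 6052, 5740], [230, 3, 5743, 6054, 5742], [231, 0, 5745, 6056, 5744], [224, 3, 5747, 6058, 5746], [208, 1, 5760, 5772, 5761], [217, 0, 5764, 5772, 5765], [211, 2, 5723, 6064, 5722], [210, 1, 5725, 6066, 5724], [207, 2, 5727, 6068, 5726], [216, 1, 5729, 6070, 5728], [213, 2, 5731, 6072, 5730], [212, 1, 5733, 6074, 5732], [209, 2, 5735, 6076, 5734], [217, 0, 5737, 6078, 5736], [210, 3, 5739, 6080, 5738], [211, 0, 5741, 6082, 5740], [214, 3, 5743, 6084, 5742], [215, 0, 5745, 6086, 5744], [208, 3, 5747, 6088, 5746], [192, 1, 5760, 5770, 5761], [201, 0, 5764, 5770, 5765], [195, 2, 5723, 6094, 5722], [194, 1, 5725, 6096, 5724], [191, 2, 5727, 6098, 5726], [200, 1, 5729, 6100, 5728], [197, 2, 5731, 6102, 5730], [196, 1, 5733, 6104, 5732], [193, 2, 5735, 6106, 5734], [201, 0, 5737, 6108, 5736], [194, 3, 5739, 6110, 5738], [195, 0, 5741, 6112, 5740], [198, 3,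 5743, 6114, 5742], [199, 0, 5745, 6116, 5744], [192, 3, 5747, 6118, 5746], [176, 1, 5760, 5768, 5761], [185, 0, 5764, 5768, 5765], [179, 2, 5723, 6124, 5722], [178, 1, 5725, 6126, 5724], [175, 2, 5727, 6128, 5726], [184, 1, 5729, 6130, 5728], [181, 2, 5731, 6132, 5730], [180, 1, 5733, 6134, 5732], [177, 2, 5735, 6136, 5734], [185, 0, 5737, 6138, 5736], [178, 3, 5739, 6140, 5738], [179, 0, 5741, 6142, 5740], [182, 3, 5743, 6144, 5742], [183, 0, 5745, 6146, 5744], [176, 3, 5747, 6148, 5746], [155, 1, 2984, 5754, 5766, 5763], [160, 1, 5760, 5766, 5761], [169, 0, 5764, 5766, 5765], [163, 2, 5723, 6156, 5722], [162, 1, 5725, 6158, 5724], [159, 2, 5727, 6160, 5726], [168, 1, 5729, 6162, 5728], [165, 2, 5731, 6164, 5730], [164, 1, 5733, 6166, 5732], [161, 2, 5735, 6168, 5734], [169, 0, 5737, 6170, 5736], [162, 3, 5739, 6172, 5738], [163, 0, 5741, 6174, 5740], [166, 3, 5743, 6176, 5742], [167, 0, 5745, 6178, 5744], [160, 3, 5747, 6180, 5746], [117, 0, 6152, 1741, 6153], [133, 0, 6152, 1705, 6153], [149,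 0, 6152, 2229, 6153], [140, 2, 5750, 5765, 6188, 5722], [147, 2, 5723, 6188, 5722], [146, 1, 5725, 6192, 5724], [154, 1, 6191, 6192, 6190], [145, 2, 5748, 6196, 5749], [144, 1, 5746, 6198, 5747], [151, 2, 5744, 6200, 5745], [150, 1, 5742, 6202, 5743], [147, 2, 5740, 6204, 5741], [146, 1, 5738, 6206, 5739], [153, 2, 5736, 6208, 5737], [145, 0, 5734, 6210, 5735], [148, 3, 5732, 6212, 5733], [149, 0, 5730, 6214, 5731], [91, 1, 5878, 6190], [124, 1, 6190, 5760, 5765, 6186], [155, 3, 6158, 6190, 5757, 4575], [58, 1, 6222], [117, 0, 6223, 4253, 6222], [133, 0, 6223, 4255, 6222], [129, 2, 5725, 6228, 5724], [137, 2, 6191, 6228, 6190], [130, 1, 5748, 6232, 5749], [127, 2, 5746, 6234, 5747], [136, 1, 5744, 6236, 5745], [133, 2, 5742, 6238, 5743], [132, 1, 5740, 6240, 5741], [129, 2, 5738, 6242, 5739], [137, 0, 5786, 6244, 5787], [130, 3, 5734, 6246, 5735], [131, 0, 5732, 6248, 5733], [134, 3, 5730, 6250, 5731], [113, 2, 5725, 6226, 5724], [121, 2, 6191, 6226, 6190], [114, 1, 5748, 6256, 5749], [111, 2,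 5746, 6258, 5747], [120, 1, 5744, 6260, 5745], [117, 2, 5742, 6262, 5743], [116, 1, 5740, 6264, 5741], [113, 2, 5738, 6266, 5739], [121, 0, 5786, 6268, 5787], [114, 3, 5734, 6270, 5735], [115, 0, 5732, 6272, 5733], [118, 3, 5730, 6274, 5731], [68, 5, 6224, 4239, 2979, 1315, 6153], [76, 3, 6224, 4579, 6153], [82, 3, 6224, 4581, 6153], [86, 2, 5725, 6224, 5095], [155, 1, 6191, 6224, 4259, 4574], [67, 2, 5755, 1284, 3621, 4567, 6286], [75, 2, 5755, 4559, 6286], [81, 2, 5755, 4561, 6286], [85, 3, 4596, 6286, 5749], [57, 1, 6294], [81, 0, 6294, 5447, 3871], [155, 0, 6294, 5449, 4150, 4079], [156, 4, 6183, 6294, 5451, 4150], [123, 2, 6302, 6299, 4107, 6300, 5747], [6, 0, 5747, 6304], [13, 0, 5744, 6304], [59, 1, 6308], [85, 2, 5757, 4603, 6296], [61, 0, 6292, 5759, 5714, 1266, 5680], [77, 1, 5381, 5718, 6314], [59, 1, 6316], [87, 3, 6312, 6316, 4155], [171, 3, 6126, 6190, 6316, 4140], [60, 1, 6322], [88, 2, 5725, 6324, 3863], [60, 1, 6326], [84, 1, 5729, 5727, 6328], [88, 3, 6328, 4157, 6322], [86, 2,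 5096, 6222, 6332], [82, 3, 5727, 6334, 5092, 4161], [6, 0, 5726, 6337], [13, 0, 5729, 6337], [155, 2, 6334, 5112, 5117, 3858], [156, 2, 6334, 5121, 4090, 3858], [123, 3, 4116, 6344, 6339, 6342], [171, 2, 6341, 4074, 6344, 6327], [172, 1, 6344, 6328, 6348, 6132], [83, 0, 6350, 6347, 6327], [89, 0, 6350, 3860, 6329], [171, 0, 6350, 6342, 6328, 4073], [139, 1, 6345, 4159, 4101, 6356], [67, 3, 5066, 6335, 6354, 5730, 5732], [57, 1, 6360], [85, 0, 6360, 1312, 5720], [53, 0, 6364, 5734], [8, 0, 5734, 6366], [16, 0, 5787, 6366, 5764], [3, 0, 5758, 6370], [4, 0, 6290, 6370], [5, 0, 5760, 6370], [6, 0, 6292, 6370], [9, 0, 5750, 6370], [10, 0, 6288, 6370], [11, 0, 5754, 6370], [12, 0, 5753, 6370], [15, 0, 5762, 6370], [16, 0, 5764, 6370], [71, 2, 6333, 6281, 6364], [73, 2, 5732, 6392, 6354], [85, 3, 5739, 6384, 784], [57, 1, 6396]]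
def dJ16 : List (List ℕ) := [[75, 2, 6294, 4625, 6396], [71, 3, 6400, 6312, 6375], [67, 4, 5743, 5741, 6398, 4599, 6296], [55, 1, 6404], [65, 2, 5741, 5739, 6380, 5749, 6404], [73, 2, 5741, 6400, 6404], [79, 2, 4153, 6298, 6404], [139, 2, 3868, 4093, 6300, 6404], [140, 2, 3868, 6302, 6199, 6404], [123, 1, 6414, 6413, 6239, 6416], [172, 3, 6301, 4064, 6308, 6416], [53, 1, 6408], [65, 5, 6422, 6406, 6312, 6383, 6402], [67, 1, 6406, 6294, 4601, 6396, 6424], [66, 3, 6355, 5725, 5723, 6368, 5733], [54, 1, 6428], [66, 2, 6365, 6278, 6332, 6359, 6430], [68, 0, 6432, 6363, 5100, 6284, 6359], [0, 0], [0, 0], [0, 0], [0, 0], [0, 0], [0, 0], [0, 0], [0, 0], [0, 0], [0, 0], [0, 0], [0, 0], [0, 0], [0, 0], [0, 0], [0, 0], [315, 24, 5474, 5446, 4602, 4566, 3608, 3611, 3616, 5528, 2968, 3431, 2972, 2971, 4238, 5097, 5099, 4166, 6436, 6438, 6440, 6442, 6444, 6446, 6448, 6450, 6452, 6454, 6456, 6458, 6460, 6462, 6464, 6466], [58, 1, 6468], [68, 4, 6466, 6468, 5484, 4150, 4152], [70, 0, 6468, 5488, 4150, 6311, 6427],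 [76, 3, 6468, 5474, 4150], [82, 3, 6468, 787, 6399], [86, 3, 6468, 5480, 4150], [101, 2, 6468, 3641, 6469], [117, 2, 6468, 1245, 6469], [133, 2, 6468, 1215, 6469], [149, 2, 6468, 2089, 6469], [155, 2, 6468, 2046, 4633, 6396], [156, 2, 6468, 4631, 2048, 6396], [165, 2, 6468, 2047, 6469], [181, 2, 6468, 2363, 6469], [197, 2, 6468, 3822, 6469], [213, 2, 6468, 1185, 6469], [229, 2, 6468, 1157, 6469], [245, 2, 6468, 1129, 6469], [252, 7, 6468, 5480, 5450, 4602, 4575, 5095, 5121, 4006, 3858, 6344, 6333, 6190, 5749, 6303], [261, 2, 6468, 1101, 6469], [277, 2, 6468, 1073, 6469], [293, 2, 6468, 1045, 6469], [309, 2, 6468, 1017, 6469], [315, 16, 6464, 6466, 6468, 5488, 5446, 4602, 4566, 3620, 3609, 3612, 3615, 4565, 4199, 5461, 2099, 5468, 5517, 2347, 1806, 4576, 4583, 3429, 2988, 2970, 2978, 4238, 5097, 5099, 4162, 6436, 6438, 6440], [316, 16, 6464, 6466, 6468, 5488, 5446, 4602, 4566, 3620, 3609, 3612, 3615, 4565, 4199, 5461, 2099, 5515, 5519, 2347, 1806, 4576, 4583, 3429, 2988, 2970, 2978, 4238, 5097,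 5099, 4162, 6436, 6438, 6440], [316, 16, 6454, 6456, 6458, 6460, 6462, 6464, 6466, 6468, 5474, 5446, 4602, 4566, 3608, 3611, 3616, 3566, 5499, 3431, 2972, 2971, 4238, 5097, 5099, 4166, 6436, 6438, 6440, 6442, 6444, 6446, 6448, 6450], [325, 2, 6468, 5491, 6469], [341, 2, 6468, 3756, 6469], [340, 1, 6466, 6524, 6467], [337, 2, 6464, 6526, 6465], [345, 0, 6518, 6528, 6519], [338, 3, 6440, 6530, 6441], [339, 0, 6438, 6532, 6439], [324, 1, 6466, 6522, 6467], [321, 2, 6464, 6536, 6465], [329, 0, 6518, 6538, 6519], [322, 3, 6440, 6540, 6441], [323, 0, 6438, 6542, 6439], [91, 2, 6453, 6520], [97, 0, 6455, 6546, 6454], [100, 3, 6457, 6548, 6456], [101, 0, 6459, 6550, 6458], [104, 3, 6461, 6552, 6460], [95, 0, 6463, 6554, 6462], [98, 3, 6465, 6556, 6464], [105, 2, 6516, 6556, 6517], [97, 0, 6440, 6560, 6441], [100, 3, 6438, 6562, 6439], [308, 1, 6466, 6514, 6467], [305, 2, 6464, 6566, 6465], [313, 0, 6518, 6568, 6519], [306, 3, 6440, 6570, 6441], [307, 0, 6438, 6572, 6439], [292, 1, 6466, 6512, 6467], [289,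 2, 6464, 6576, 6465], [297, 0, 6518, 6578, 6519], [290, 3, 6440, 6580, 6441], [291, 0, 6438, 6582, 6439], [276, 1, 6466, 6510, 6467], [273, 2, 6464, 6586, 6465], [281, 0, 6518, 6588, 6519], [274, 3, 6440, 6590, 6441], [275, 0, 6438, 6592, 6439], [260, 1, 6466, 6508, 6467], [257, 2, 6464, 6596, 6465], [265, 0, 6518, 6598, 6519], [258, 3, 6440, 6600, 6441], [259, 0, 6438, 6602, 6439], [65, 3, 4155, 4153, 6506, 6467, 6465], [268, 8, 6409, 6414, 4154, 4140, 3863, 6348, 5952, 6350, 6344, 6333, 6190, 5749, 6303, 6506], [90, 2, 6466, 6608, 6425], [171, 0, 6611, 6490, 6608, 6145], [91, 1, 5858, 6612], [108, 3, 6417, 6262, 6410, 6612], [121, 2, 6613, 6265, 6612], [137, 2, 6613, 6241, 6612], [139, 1, 6493, 5740, 6205, 6612], [153, 2, 6613, 6204, 6612], [156, 3, 6417, 6179, 5743, 6612], [169, 2, 6613, 6176, 6612], [172, 3, 6490, 6497, 6475, 6612], [185, 2, 6613, 6144, 6612], [201, 2, 6613, 6114, 6612], [217, 2, 6613, 6084, 6612], [233, 2, 6613, 6054, 6612], [249, 2, 6613, 6024, 6612], [267, 6, 5738, 6490,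 6507, 6302, 5748, 6191, 6324, 3986, 4141, 4155, 6415, 6408, 6612, 6465], [268, 8, 5738, 6490, 6507, 6302, 5748, 6191, 5947, 6323, 4141, 4155, 6415, 6408, 6612, 6465], [283, 8, 6428, 6357, 4157, 3864, 4140, 3972, 4141, 4155, 6415, 6408, 6612, 6465, 6517, 6441], [283, 7, 6519, 6441, 6646, 6428, 6357, 6348, 5923, 6349, 3862, 4141, 4155, 6415, 6408, 6612], [284, 7, 6646, 6428, 6357, 4157, 3864, 3866, 6417, 5937, 6416, 6415, 6408, 6612, 6465, 6517], [299, 4, 6431, 6394, 6428, 6357, 4157, 3864, 3866, 6417, 6410, 5905, 6612, 6465, 6517, 6650], [300, 8, 4157, 3864, 3866, 6417, 6423, 6615, 6566, 6616, 6415, 6408, 6612, 6465, 6517, 6650], [188, 0, 6464, 6613, 6409, 6414, 4154, 4140, 3863, 6348, 6430, 6653, 6651, 6516], [188, 0, 6651, 6516, 6464, 6613, 6409, 6414, 4154, 4140, 3863, 6348, 6430, 6653], [203, 6, 6651, 6516, 6464, 6613, 6409, 6414, 6413, 6086, 6416, 3867, 3865, 4156, 6356, 6429], [203, 13, 6636, 6614, 6422, 6416, 3867, 3865, 4156, 6352, 6430, 6653, 6651, 6516, 6464, 6613], [204, 8, 6651, 6516,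 6464, 6613, 6409, 6414, 4039, 6418, 6416, 3867, 3865, 4156, 6356, 6429], [204, 1, 6614, 6422, 6416, 3867, 3865, 4156, 6330, 6430, 6653, 6651, 6516, 6464, 6613, 6084], [235, 5, 6438, 6651, 6516, 6464, 6613, 6409, 6414, 3868, 4009, 6300, 6312, 6218, 5724, 6343], [236, 1, 6518, 6649, 6614, 6422, 6416, 3867, 6607, 6464, 6613, 6409, 6414, 4154, 4140, 4015], [236, 8, 6651, 6516, 6464, 6613, 6409, 6414, 4011, 4153, 6300, 6312, 6218, 5724, 6343, 6668], [251, 6, 6651, 6516, 6464, 6613, 6409, 6414, 6472, 6597, 6614, 6422, 6416, 3867, 3865, 4156], [252, 8, 6651, 6516, 6464, 6613, 6409, 6414, 3997, 6627, 6614, 6422, 6416, 3867, 3865, 4156], [267, 6, 6651, 6516, 6464, 6613, 6409, 6414, 6420, 5970, 6303, 6506, 6491, 5739, 6388, 6364], [268, 8, 6651, 6516, 6464, 6613, 6409, 6414, 3983, 6320, 6303, 6506, 6491, 5739, 6388, 6364], [88, 2, 6368, 6680, 6651], [90, 2, 6432, 6680, 6439], [119, 0, 6681, 6272, 6680], [135, 0, 6681, 6248, 6680], [151, 0, 6681, 6213, 6680], [167, 0, 6681, 6169, 6680], [172, 2, 6680, 6646,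 6135, 6685], [183, 0, 6681, 6137, 6680], [215, 0, 6681, 6077, 6680], [231, 0, 6681, 6047, 6680], [247, 0, 6681, 6017, 6680], [172, 2, 6684, 6653, 6696, 6681], [268, 3, 6344, 6333, 6190, 5749, 6321, 4154, 4140, 3863, 6348, 6430, 6653, 6593, 6681, 6704], [63, 0, 6706, 6347, 6333, 6283, 6364], [71, 0, 6706, 5362, 5335], [113, 0, 6706, 4130, 6707], [129, 0, 6706, 4116, 6707], [145, 0, 6706, 4102, 6707], [161, 0, 6706, 4088, 6707], [177, 0, 6706, 4074, 6707], [193, 0, 6706, 4060, 6707], [204, 1, 6491, 5739, 6388, 6364, 6704, 6706, 6338, 5725, 6219, 6313, 6301, 6480, 6493, 6083], [209, 0, 6706, 4046, 6707], [220, 0, 6706, 6344, 6333, 6190, 5749, 6303, 6506, 6507, 6480, 6493, 6403, 6390, 6368, 6695], [241, 0, 6706, 4018, 6707], [300, 8, 6669, 6342, 5725, 6219, 6313, 6301, 3952, 6476, 6491, 5739, 6388, 6364, 6704, 6706], [203, 13, 6727, 6694, 6369, 6391, 6402, 6492, 6481, 6298, 5748, 6191, 6332, 6345, 6707, 6705], [315, 20, 6709, 6365, 6278, 6224, 4579, 4585, 5095, 5067, 3357, 2348, 1301, 5557, 3853, 5572,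 5642, 5624, 4599, 4596, 4589, 4559, 6286, 6383, 6402, 6724, 6475, 6426, 6406, 6312, 6191, 6332, 6359, 6434], [156, 1, 3485, 6361, 6695, 6718], [73, 2, 5341, 6710, 6438], [71, 2, 6650, 6740, 5147], [49, 1, 5312, 6742], [61, 2, 5312, 5145, 5282, 5316, 6742, 6442], [6, 0, 6442, 6746], [14, 0, 6445, 6746, 6325], [12, 0, 6447, 6751, 6223], [10, 0, 6449, 6753, 4583], [8, 0, 6451, 6755, 3429], [16, 0, 6521, 6757, 3567], [7, 0, 6455, 6759, 3615], [9, 0, 6457, 6761, 4565], [11, 0, 6459, 6763, 5756], [13, 0, 6461, 6765, 6319], [6, 0, 6463, 6767], [73, 1, 5312, 5319, 6742], [75, 1, 5312, 5321, 6742], [107, 3, 1236, 5386, 6742, 6516], [109, 2, 6743, 5314, 6742], [125, 2, 6743, 5301, 6742], [141, 2, 6743, 5295, 6742], [157, 2, 6743, 5289, 6742], [173, 2, 6743, 5260, 6742], [189, 2, 6743, 5252, 6742], [205, 2, 6743, 5244, 6742], [221, 2, 6743, 5236, 6742], [237, 2, 6743, 5228, 6742], [315, 30, 3863, 5356, 6356, 6429, 6660, 6654, 4158, 6668, 6735, 6392, 6285, 5101, 1312, 4580, 4230, 5720, 5722, 5724, 6345, 6707,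 6672, 6675, 6326, 6346, 6707, 6672, 6675, 5350, 5346, 5342, 5318, 6742], [84, 0, 6794, 6322, 6221], [123, 1, 6519, 6794, 4112, 4141]]
def dJ17 : List (List ℕ) := [[204, 0, 6769, 3865, 4156, 6356, 6429, 6647, 6440, 6794, 3863, 6348, 6430, 6653, 6651, 6516], [111, 2, 6799, 4124, 6798], [127, 2, 6799, 4110, 6798], [143, 2, 6799, 4096, 6798], [159, 2, 6799, 4082, 6798], [175, 2, 6799, 4068, 6798], [223, 2, 6799, 4026, 6798], [239, 2, 6799, 4012, 6798], [155, 3, 6808, 6517, 6772, 3864], [58, 1, 6816], [251, 6, 6441, 6646, 6428, 6357, 4157, 3864, 6816, 6598, 6517, 6650, 6652, 6431, 6349, 3862], [107, 3, 6802, 6517, 6744, 3864], [235, 6, 6464, 6613, 6409, 6414, 4154, 4140, 6771, 6792, 6518, 6649, 6614, 6422, 6416, 3867], [315, 25, 2107, 2065, 1277, 5414, 6413, 6423, 5845, 6612, 6465, 6769, 6822, 6606, 4155, 6418, 6410, 6426, 6406, 6312, 6379, 6645, 6817, 6824, 6649, 6613, 6409, 6405, 6297, 4644, 1281, 5480, 5483, 6470], [74, 3, 6466, 6826, 1277], [0, 0], [75, 2, 6398, 5625, 6830], [49, 2, 6832, 6400],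 [61, 5, 6832, 6724, 6477, 6298, 6834], [71, 3, 6832, 5739, 6372], [77, 3, 6832, 6631, 6829], [93, 0, 6832, 5857, 6833], [107, 0, 6832, 6490, 6826, 1240], [109, 0, 6832, 6267, 6833], [125, 0, 6832, 6243, 6833], [141, 0, 6832, 6206, 6833], [157, 0, 6832, 6174, 6833], [173, 0, 6832, 6142, 6833], [189, 0, 6832, 6112, 6833], [205, 0, 6832, 6082, 6833], [221, 0, 6832, 6052, 6833], [237, 0, 6832, 6022, 6833], [253, 0, 6832, 5992, 6833], [269, 0, 6832, 5962, 6833], [285, 0, 6832, 5932, 6833], [301, 0, 6832, 5902, 6833], [317, 0, 6832, 5842, 6833], [332, 3, 6837, 6832, 6490, 6608, 6425, 6403, 6378, 6375, 6390, 6796, 6671, 3863, 6330, 6394, 6653, 6679, 5733, 6428, 6353, 6655, 6646, 6736, 6672, 6651, 6794, 5312, 5387, 3740, 5717, 5676], [333, 0, 6832, 5812, 6833], [107, 0, 6827, 6493, 6833, 6847], [155, 3, 6853, 6878, 1278, 5631], [316, 20, 6837, 6839, 5676, 5669, 4198, 4560, 1283, 4600, 4625, 1281, 5480, 5450, 5553, 4596, 4589, 3353, 3350, 1288, 1286, 297, 1991, 5506, 2098, 5460, 3322, 5668, 5677, 6838,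 6878, 2065, 1277, 2300], [0, 0], [0, 0], [315, 18, 6831, 5629, 5643, 5573, 3317, 2192, 780, 3611, 3616, 1285, 4559, 4560, 1283, 5520, 4630, 5478, 5444, 5645, 5627, 5646, 5463, 1262, 1264, 2058, 2100, 5680, 5716, 2299, 2062, 1274, 6884, 6886], [56, 1, 6888], [66, 5, 6886, 6888, 6839, 5676, 6874, 6890], [7, 0, 6886, 6892], [9, 0, 6890, 6892], [10, 0, 6889, 6892], [68, 0, 6898, 6831, 5626, 6880, 6897], [74, 3, 6898, 6835, 6407], [80, 3, 6898, 6837, 6897], [90, 0, 6898, 6841, 793], [99, 2, 6898, 6842, 6899], [115, 2, 6898, 6846, 6899], [131, 2, 6898, 6848, 6899], [140, 2, 6898, 6845, 2085, 792], [147, 2, 6898, 6850, 6899], [163, 2, 6898, 6852, 6899], [179, 2, 6898, 6854, 6899], [195, 2, 6898, 6856, 6899], [211, 2, 6898, 6858, 6899], [227, 2, 6898, 6860, 6899], [243, 2, 6898, 6862, 6899], [259, 2, 6898, 6864, 6899], [275, 2, 6898, 6866, 6899], [291, 2, 6898, 6868, 6899], [307, 2, 6898, 6870, 6899], [323, 2, 6898, 6872, 6899], [339, 2, 6898, 6876, 6899], [315, 29, 6904, 6895, 6938, 6885, 794, 796, 1271,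 2060, 2102, 1272, 6775, 6817, 6824, 6649, 6663, 6609, 6471, 5482, 5481, 4631, 785, 783, 3619, 3624, 3611, 3616, 1285, 6385, 6374, 6377, 5738, 5740], [172, 3, 6879, 6854, 6883, 6914], [0, 0], [0, 0], [251, 10, 6874, 6845, 791, 1099, 5633, 5646, 3348, 1300, 3412, 3854, 5400, 5334, 6946, 6948], [92, 1, 6950, 5682], [105, 2, 6950, 5682, 6951], [107, 1, 6950, 6373, 6268, 6388], [108, 3, 6950, 5684, 6314, 6218], [121, 2, 6950, 5684, 6951], [123, 1, 6950, 5681, 1202, 5430], [124, 3, 6950, 5686, 5714, 5430], [137, 2, 6950, 5686, 6951], [139, 1, 6950, 5676, 5689, 6951], [153, 2, 6950, 5688, 6951], [155, 1, 6950, 5669, 3331, 3348], [156, 3, 6950, 5690, 5678, 3348], [169, 2, 6950, 5690, 6951], [171, 1, 6950, 5719, 2370, 5386], [172, 3, 6950, 5692, 5716, 5386], [185, 2, 6950, 5692, 6951], [201, 2, 6950, 5694, 6951], [203, 6, 6948, 6950, 6874, 6845, 2065, 6879, 6837, 6859, 6878, 2064, 6844, 6875, 6951, 6949], [217, 2, 6950, 5696, 6951], [233, 2, 6950, 5698, 6951], [249, 2, 6950, 5700, 6951], [251, 6, 6948,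 6950, 6874, 6845, 2065, 6879, 6831, 5657, 5630, 2066, 5633, 5646, 3348, 1300], [252, 8, 6948, 6950, 6874, 6845, 2065, 6879, 6864, 6881, 5630, 2066, 5633, 5646, 3348, 1300], [265, 2, 6950, 5702, 6951], [267, 6, 6948, 6950, 6874, 6845, 2065, 6879, 6841, 1067, 6914, 6894, 6885, 794, 5386, 5343], [268, 8, 6948, 6950, 6874, 6845, 2065, 6879, 6866, 6883, 6914, 6894, 6885, 794, 5386, 5343], [281, 2, 6950, 5704, 6951], [283, 6, 6948, 6950, 6874, 6845, 2065, 6879, 6845, 1040, 6844, 6875, 6951, 6949, 6947, 5335], [283, 5, 6953, 6874, 6845, 2065, 6879, 6839, 6952, 6950, 5707, 6951, 6949, 6947, 5335, 7006], [284, 0, 6953, 6951, 6949, 6947, 5335, 7006, 7008, 6950, 6874, 6845, 2065, 6879, 6839, 6952], [299, 6, 6948, 6950, 6874, 6845, 2065, 6879, 6832, 5902, 6492, 6481, 6300, 6312, 6218, 5724], [300, 8, 6948, 6950, 6874, 6845, 2065, 6879, 6870, 6835, 6303, 6506, 6491, 5739, 6388, 6364], [313, 2, 6950, 5708, 6951], [329, 2, 6950, 5710, 6951], [345, 2, 6950, 5712, 6951], [187, 12, 6947, 5335, 7006, 7008, 6953,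 6838, 6878, 2064, 6844, 6875, 6951, 6949], [337, 0, 7008, 7020, 7009], [321, 0, 7008, 7018, 7009], [305, 0, 7008, 7016, 7009], [93, 0, 7015, 5869, 7014], [107, 4, 6947, 6710, 6705, 7014], [125, 0, 7015, 6248, 7014], [141, 0, 7015, 6213, 7014], [157, 0, 7015, 6169, 7014], [173, 0, 7015, 6137, 7014], [205, 0, 7015, 6077, 7014], [221, 0, 7015, 6047, 7014], [237, 0, 7015, 6017, 7014], [253, 0, 7015, 5987, 7014], [269, 0, 7015, 5957, 7014], [285, 0, 7015, 5927, 7014], [0, 0], [0, 0], [267, 8, 5342, 5387, 795, 6884, 6944, 1068, 6844, 6875, 6951, 6949, 6947, 5335, 7054, 7056], [92, 1, 7058, 5327], [105, 2, 7058, 5327, 7059], [107, 1, 7058, 6741, 6687, 6652], [108, 3, 7058, 5323, 5351, 6356], [121, 2, 7058, 5323, 7059], [123, 1, 7058, 5346, 5305, 7059], [137, 2, 7058, 5304, 7059], [139, 1, 7058, 5148, 5298, 7006], [140, 3, 7058, 5296, 5341, 7006], [153, 2, 7058, 5296, 7059], [155, 1, 7058, 5344, 5291, 7059], [169, 2, 7058, 5290, 7059], [171, 2, 7058, 7002, 7041, 6947, 7054], [3, 0, 7066, 7085], [4, 0,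 7064, 7085], [5, 0, 7084, 7071, 7085], [7, 0, 7056, 7085], [9, 0, 7076, 7085], [10, 0, 7074, 7085], [11, 0, 7084, 7081, 7085], [15, 0, 7060, 7085], [16, 0, 7059, 7085], [17, 0, 7084, 7062, 7085], [19, 0, 7084, 7068, 7085], [21, 0, 7084, 7072, 7085], [23, 0, 7084, 7078, 7085], [25, 0, 7084, 7082, 7085], [588, 0, 7104, 7104], [172, 3, 7102, 5259, 7000, 6947], [185, 2, 7102, 5259, 7103], [188, 0, 7093, 7102, 5342, 5387, 795, 6884, 6895, 6915, 1275, 5388, 5146, 7101], [217, 2, 7102, 5243, 7103], [233, 2, 7102, 5235, 7103], [249, 2, 7102, 5227, 7103], [265, 2, 7102, 5219, 7103], [281, 2, 7102, 5211, 7103], [283, 14, 7100, 5147, 5389, 1274, 6914, 6894, 6885, 1275, 5388, 5146, 7101, 7093, 7102, 7101], [313, 2, 7102, 5195, 7103], [329, 2, 7102, 5569, 7103]]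
def dJS : List (List ℕ) := List.flatten [dJ0, dJ1, dJ2, dJ3, dJ4, dJ5, dJ6, dJ7, dJ8, dJ9, dJ10, dJ11, dJ12, dJ13, dJ14, dJ15, dJ16, dJ17]
def dLive_0 : BT := .node (.node (.node (.node (.node (.node (.node (.leaf 0) (.leaf 319)) (.leaf 226)) (.node (.leaf 74) (.leaf 288))) (.node (.node (.leaf 66) (.leaf 253)) (.node (.leaf 105) (.leaf 299)))) (.node (.node (.node (.node (.leaf 21) (.leaf 323)) (.leaf 230)) (.node (.leaf 99) (.leaf 294))) (.node (.node (.leaf 70) (.leaf 281)) (.node (.leaf 222) (.leaf 304))))) (.node (.node (.node (.node (.node (.leaf 19) (.leaf 321)) (.leaf 228)) (.node (.leaf 96) (.leaf 291))) (.node (.node (.leaf 68) (.leaf 275)) (.node (.leaf 107) (.leaf 301)))) (.node (.node (.node (.node (.leaf 64) (.leaf 326)) (.leaf 238)) (.node (.leaf 103) (.leaf 296))) (.node (.node (.leaf 72) (.leaf 283)) (.node (.leaf 224) (.leaf 307)))))) (.node (.node (.node (.node (.node (.node (.leaf 1) (.leaf 320)) (.leaf 227)) (.node (.leaf 75) (.leaf 290))) (.node (.node (.leaf 67) (.leaf 254))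 (.node (.leaf 106) (.leaf 300)))) (.node (.node (.node (.node (.leaf 22) (.leaf 325)) (.leaf 231)) (.node (.leaf 102) (.leaf 295))) (.node (.node (.leaf 71) (.leaf 282)) (.node (.leaf 223) (.leaf 306))))) (.node (.node (.node (.node (.node (.leaf 20) (.leaf 322)) (.leaf 229)) (.node (.leaf 98) (.leaf 292))) (.node (.node (.leaf 69) (.leaf 280)) (.node (.leaf 108) (.leaf 303)))) (.node (.node (.node (.node (.leaf 65) (.leaf 327)) (.leaf 241)) (.node (.leaf 104) (.leaf 298))) (.node (.node (.leaf 73) (.leaf 285)) (.node (.leaf 225) (.leaf 308))))))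
def dLive : BT := dLive_0
def dPos_0 : BT := .node (.node (.node (.node (.node (.node (.node (.leaf 0) (.leaf 0)) (.leaf 0)) (.node (.node (.leaf 6) (.leaf 65)) (.leaf 0))) (.node (.node (.node (.leaf 0) (.leaf 48)) (.leaf 0)) (.node (.leaf 18) (.leaf 30)))) (.node (.node (.node (.node (.leaf 0) (.leaf 0)) (.leaf 0)) (.node (.leaf 0) (.leaf 0))) (.node (.node (.node (.leaf 0) (.leaf 60)) (.leaf 0)) (.node (.leaf 0) (.leaf 0))))) (.node (.node (.node (.node (.node (.leaf 0) (.leaf 0)) (.leaf 0)) (.node (.node (.leaf 14) (.leaf 0)) (.leaf 0))) (.node (.node (.node (.leaf 0) (.leaf 54)) (.leaf 0)) (.node (.leaf 23) (.leaf 0)))) (.node (.node (.node (.node (.leaf 0) (.leaf 43)) (.leaf 0)) (.node (.leaf 0) (.leaf 0))) (.node (.node (.node (.leaf 0) (.leaf 0)) (.leaf 0)) (.node (.leaf 0) (.leaf 0)))))) (.node (.node (.node (.node (.node (.node (.leaf 0) (.leaf 0)) (.leaf 0)) (.node (.node (.leaf 10) (.leaf 0)) (.leaf 0))) (.node (.node (.node (.leaf 0) (.leaf 51)) (.leaf 0)) (.node (.leaf 0) (.leaf 34))))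 (.node (.node (.node (.node (.leaf 3) (.leaf 0)) (.leaf 0)) (.node (.leaf 0) (.leaf 0))) (.node (.node (.node (.leaf 0) (.leaf 63)) (.leaf 0)) (.node (.leaf 0) (.leaf 0))))) (.node (.node (.node (.node (.node (.leaf 0) (.leaf 0)) (.leaf 0)) (.node (.leaf 0) (.leaf 0))) (.node (.node (.node (.leaf 0) (.leaf 57)) (.leaf 0)) (.node (.leaf 27) (.leaf 0)))) (.node (.node (.node (.node (.leaf 0) (.leaf 0)) (.leaf 0)) (.node (.leaf 0) (.leaf 0))) (.node (.node (.node (.leaf 0) (.leaf 0)) (.leaf 0)) (.node (.leaf 0) (.leaf 0))))))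
def dPos_1 : BT := .node (.node (.node (.node (.node (.node (.node (.leaf 0) (.leaf 0)) (.leaf 0)) (.node (.node (.leaf 8) (.leaf 67)) (.leaf 0))) (.node (.node (.node (.leaf 0) (.leaf 49)) (.leaf 0)) (.node (.leaf 19) (.leaf 32)))) (.node (.node (.node (.node (.leaf 0) (.leaf 0)) (.leaf 0)) (.node (.leaf 0) (.leaf 0))) (.node (.node (.node (.leaf 0) (.leaf 61)) (.leaf 0)) (.node (.leaf 0) (.leaf 0))))) (.node (.node (.node (.node (.node (.leaf 0) (.leaf 0)) (.leaf 0)) (.node (.leaf 16) (.leaf 0))) (.node (.node (.node (.leaf 0) (.leaf 55)) (.leaf 0)) (.node (.leaf 25) (.leaf 0)))) (.node (.node (.node (.node (.leaf 0) (.leaf 45)) (.leaf 0)) (.node (.leaf 0) (.leaf 0))) (.node (.node (.node (.leaf 0) (.leaf 0)) (.leaf 0)) (.node (.leaf 0) (.leaf 0)))))) (.node (.node (.node (.node (.node (.node (.leaf 0) (.leaf 0)) (.leaf 0)) (.node (.node (.leaf 12) (.leaf 70)) (.leaf 0))) (.node (.node (.node (.leaf 0) (.leaf 52)) (.leaf 0)) (.node (.leaf 21) (.leaf 36)))) (.node (.node (.node (.node (.leaf 5)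 (.leaf 0)) (.leaf 0)) (.node (.leaf 0) (.leaf 0))) (.node (.node (.node (.leaf 0) (.leaf 0)) (.leaf 0)) (.node (.leaf 0) (.leaf 0))))) (.node (.node (.node (.node (.node (.leaf 0) (.leaf 0)) (.leaf 0)) (.node (.leaf 0) (.leaf 0))) (.node (.node (.node (.leaf 0) (.leaf 0)) (.leaf 0)) (.node (.leaf 0) (.leaf 38)))) (.node (.node (.node (.node (.leaf 0) (.leaf 0)) (.leaf 0)) (.node (.leaf 0) (.leaf 28))) (.node (.node (.node (.leaf 0) (.leaf 0)) (.leaf 0)) (.node (.leaf 0) (.leaf 41))))))
def dPos_2 : BT := .node dPos_0 dPos_1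
def dPos_3 : BT := .node (.node (.node (.node (.node (.node (.node (.leaf 1) (.leaf 0)) (.leaf 0)) (.node (.node (.leaf 7) (.leaf 66)) (.leaf 0))) (.node (.node (.node (.leaf 0) (.leaf 0)) (.leaf 0)) (.node (.leaf 0) (.leaf 31)))) (.node (.node (.node (.node (.leaf 0) (.leaf 0)) (.leaf 0)) (.node (.leaf 0) (.leaf 0))) (.node (.node (.node (.leaf 0) (.leaf 0)) (.leaf 0)) (.node (.leaf 0) (.leaf 39))))) (.node (.node (.node (.node (.node (.leaf 0) (.leaf 0)) (.leaf 0)) (.node (.leaf 15) (.leaf 0))) (.node (.node (.node (.leaf 0) (.leaf 0)) (.leaf 0)) (.node (.leaf 24) (.leaf 0)))) (.node (.node (.node (.node (.leaf 0) (.leaf 44)) (.leaf 0)) (.node (.leaf 0) (.leaf 0))) (.node (.node (.node (.leaf 0) (.leaf 0)) (.leaf 0)) (.node (.leaf 0) (.leaf 0)))))) (.node (.node (.node (.node (.node (.node (.leaf 0) (.leaf 0)) (.leaf 0)) (.node (.node (.leaf 11) (.leaf 69)) (.leaf 0))) (.node (.node (.node (.leaf 0) (.leaf 0)) (.leaf 0)) (.node (.leaf 0) (.leaf 35)))) (.node (.node (.node (.node (.leaf 4) (.leaf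 0)) (.leaf 0)) (.node (.leaf 0) (.leaf 0))) (.node (.node (.node (.leaf 0) (.leaf 0)) (.leaf 0)) (.node (.leaf 0) (.leaf 0))))) (.node (.node (.node (.node (.node (.leaf 0) (.leaf 0)) (.leaf 0)) (.node (.leaf 0) (.leaf 0))) (.node (.node (.node (.leaf 0) (.leaf 58)) (.leaf 0)) (.node (.leaf 0) (.leaf 0)))) (.node (.node (.node (.node (.leaf 0) (.leaf 47)) (.leaf 0)) (.node (.leaf 0) (.leaf 0))) (.node (.node (.node (.leaf 0) (.leaf 0)) (.leaf 0)) (.node (.leaf 0) (.leaf 40))))))
def dPos_4 : BT := .node (.node (.node (.node (.node (.node (.node (.leaf 0) (.leaf 0)) (.leaf 0)) (.node (.node (.leaf 9) (.leaf 68)) (.leaf 0))) (.node (.node (.node (.leaf 0) (.leaf 50)) (.leaf 0)) (.node (.leaf 20) (.leaf 33)))) (.node (.node (.node (.node (.leaf 2) (.leaf 42)) (.leaf 0)) (.node (.leaf 0) (.leaf 0))) (.node (.node (.node (.leaf 0) (.leaf 62)) (.leaf 0)) (.node (.leaf 0) (.leaf 0))))) (.node (.node (.node (.node (.node (.leaf 0) (.leaf 0)) (.leaf 0)) (.node (.leaf 17) (.leaf 0))) (.node (.node (.node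 (.leaf 0) (.leaf 56)) (.leaf 0)) (.node (.leaf 26) (.leaf 0)))) (.node (.node (.node (.node (.leaf 0) (.leaf 46)) (.leaf 0)) (.node (.leaf 0) (.leaf 0))) (.node (.node (.node (.leaf 0) (.leaf 0)) (.leaf 0)) (.node (.leaf 0) (.leaf 0)))))) (.node (.node (.node (.node (.node (.node (.leaf 0) (.leaf 0)) (.leaf 0)) (.node (.node (.leaf 13) (.leaf 71)) (.leaf 0))) (.node (.node (.node (.leaf 0) (.leaf 53)) (.leaf 0)) (.node (.leaf 22) (.leaf 37)))) (.node (.node (.node (.node (.leaf 0) (.leaf 0)) (.leaf 0)) (.node (.leaf 0) (.leaf 0))) (.node (.node (.node (.leaf 0) (.leaf 0)) (.leaf 0)) (.node (.leaf 0) (.leaf 0))))) (.node (.node (.node (.node (.node (.leaf 0) (.leaf 0)) (.leaf 0)) (.node (.leaf 0) (.leaf 0))) (.node (.node (.node (.leaf 0) (.leaf 59)) (.leaf 0)) (.node (.leaf 0) (.leaf 0)))) (.node (.node (.node (.node (.leaf 0) (.leaf 0)) (.leaf 0)) (.node (.leaf 0) (.leaf 29))) (.node (.node (.node (.leaf 0) (.leaf 64)) (.leaf 0)) (.node (.leaf 0) (.leaf 0))))))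
def dPos_5 : BT := .node dPos_3 dPos_4
def dPos_6 : BT := .node dPos_2 dPos_5
def dPos : BT := dPos_6
def dFin_0 : BT := .node (.node (.node (.node (.node (.node (.node (.leaf 0) (.leaf 5260)) (.node (.leaf 3485) (.leaf 6511))) (.node (.node (.leaf 2303) (.leaf 6050)) (.leaf 4113))) (.node (.node (.node (.leaf 3783) (.leaf 5724)) (.leaf 1482)) (.node (.node (.leaf 1117) (.leaf 6737)) (.leaf 4289)))) (.node (.node (.node (.node (.leaf 743) (.leaf 5634)) (.node (.leaf 2988) (.leaf 7023))) (.node (.node (.leaf 5419) (.leaf 6203)) (.leaf 4151))) (.node (.node (.node (.leaf 1249) (.leaf 5892)) (.leaf 4048)) (.node (.node (.leaf 2189) (.leaf 6823)) (.leaf 4706))))) (.node (.node (.node (.node (.node (.leaf 97) (.leaf 5569)) (.node (.leaf 1634) (.leaf 6901))) (.node (.node (.leaf 2367) (.leaf 6666)) (.leaf 3984))) (.node (.node (.node (.leaf 3631) (.leaf 6160)) (.leaf 3388)) (.node (.node (.leaf 2347) (.leaf 6698)) (.leaf 4252)))) (.node (.node (.node (.node (.leaf 1978) (.leaf 5700)) (.node (.leaf 2224)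 (.leaf 7021))) (.node (.node (.leaf 3735) (.leaf 5941)) (.leaf 3921))) (.node (.node (.node (.leaf 1102) (.leaf 6704)) (.leaf 6655)) (.node (.node (.leaf 1465) (.leaf 6621)) (.leaf 5285)))))) (.node (.node (.node (.node (.node (.node (.leaf 565) (.leaf 7000)) (.node (.leaf 3453) (.leaf 6852))) (.node (.node (.leaf 1042) (.leaf 6266)) (.leaf 4155))) (.node (.node (.node (.leaf 3365) (.leaf 5947)) (.leaf 3332)) (.node (.node (.leaf 1200) (.leaf 6544)) (.leaf 4417)))) (.node (.node (.node (.node (.leaf 2122) (.leaf 6314)) (.node (.leaf 1558) (.leaf 6953))) (.node (.node (.leaf 1177) (.leaf 6404)) (.leaf 3952))) (.node (.node (.node (.leaf 786) (.leaf 6105)) (.leaf 4147)) (.node (.node (.leaf 6994) (.leaf 6815)) (.leaf 5111))))) (.node (.node (.node (.node (.node (.leaf 303) (.leaf 5240)) (.node (.leaf 1740) (.leaf 6937))) (.node (.node (.leaf 6840) (.leaf 5994)) (.leaf 4081))) (.node (.node (.node (.leaf 1162) (.leaf 5730)) (.leaf 5523)) (.node (.node (.leaf 1542) (.leaf 6561)) (.leaf 6962)))) (.node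 (.node (.node (.node (.leaf 288) (.leaf 6186)) (.node (.leaf 4567) (.leaf 7125))) (.node (.node (.leaf 1266) (.leaf 6122)) (.leaf 4573))) (.node (.node (.node (.leaf 2089) (.leaf 5806)) (.leaf 4016)) (.node (.node (.leaf 3842) (.leaf 6481)) (.leaf 5207))))))
def dFin_1 : BT := .node (.node (.node (.node (.node (.node (.node (.leaf 59) (.leaf 5196)) (.node (.leaf 1673) (.leaf 6899))) (.node (.node (.leaf 2044) (.leaf 6400)) (.leaf 4001))) (.node (.node (.node (.leaf 5546) (.leaf 6193)) (.leaf 5668)) (.node (.node (.leaf 5460) (.leaf 6722)) (.leaf 4547)))) (.node (.node (.node (.node (.leaf 2307) (.leaf 5653)) (.node (.leaf 1703) (.leaf 7026))) (.node (.node (.leaf 5386) (.leaf 5967)) (.leaf 4064))) (.node (.node (.node (.leaf 1133) (.leaf 6685)) (.leaf 3950)) (.node (.node (.leaf 1502) (.leaf 6803)) (.leaf 5094))))) (.node (.node (.node (.node (.node (.leaf 655) (.leaf 7006)) (.node (.leaf 4578) (.leaf 6921))) (.node (.node (.leaf 1013) (.leaf 6241)) (.leaf 4153))) (.node (.node (.node (.leaf 3569)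 (.leaf 5918)) (.leaf 3803)) (.node (.node (.leaf 2244) (.leaf 6533)) (.leaf 4268)))) (.node (.node (.node (.node (.leaf 2270) (.leaf 6220)) (.node (.leaf 1521) (.leaf 7104))) (.node (.node (.leaf 1146) (.leaf 5757)) (.leaf 5453))) (.node (.node (.node (.leaf 5478) (.leaf 6076)) (.leaf 4128)) (.node (.node (.leaf 2344) (.leaf 6596)) (.leaf 5276)))))) (.node (.node (.node (.node (.node (.node (.leaf 93) (.leaf 5251)) (.node (.leaf 3487) (.leaf 6868))) (.node (.node (.leaf 1278) (.leaf 6023)) (.leaf 4096))) (.node (.node (.node (.leaf 1193) (.leaf 6354)) (.leaf 3346)) (.node (.node (.leaf 1086) (.leaf 6652)) (.leaf 4577)))) (.node (.node (.node (.node (.leaf 450) (.leaf 5684)) (.node (.leaf 3429) (.leaf 6989))) (.node (.node (.leaf 3740) (.leaf 6183)) (.leaf 5489))) (.node (.node (.node (.leaf 1216) (.leaf 5835)) (.leaf 4033)) (.node (.node (.leaf 2315) (.leaf 6663)) (.leaf 5133))))) (.node (.node (.node (.node (.node (.leaf 1993) (.leaf 5182)) (.node (.leaf 1597) (.leaf 7003))) (.node (.node (.leaf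 3835) (.leaf 6408)) (.leaf 3969))) (.node (.node (.node (.leaf 4559) (.leaf 6132)) (.leaf 5120)) (.node (.node (.leaf 3378) (.leaf 6791)) (.leaf 4686)))) (.node (.node (.node (.node (.leaf 727) (.leaf 5974)) (.leaf 2169)) (.node (.node (.leaf 1233) (.leaf 5882)) (.leaf 4438))) (.node (.node (.node (.leaf 1073) (.leaf 5855)) (.leaf 6795)) (.node (.node (.leaf 5405) (.leaf 6489)) (.leaf 5321))))))
def dFin_2 : BT := .node dFin_0 dFin_1
def dFin_3 : BT := .node (.node (.node (.node (.node (.node (.node (.leaf 8) (.leaf 5228)) (.node (.leaf 2232) (.leaf 6525))) (.node (.node (.leaf 3683) (.leaf 5930)) (.leaf 4057))) (.node (.node (.node (.leaf 639) (.leaf 6190)) (.leaf 3352)) (.node (.node (.leaf 1005) (.leaf 6714)) (.leaf 4601)))) (.node (.node (.node (.node (.leaf 3667) (.leaf 5621)) (.node (.leaf 1316) (.leaf 7048))) (.node (.node (.leaf 1274) (.leaf 6087)) (.leaf 4120))) (.node (.node (.node (.leaf 2359) (.leaf 6660)) (.leaf 3992)) (.node (.node (.leaf 1646) (.leaf 6817)) (.leaf 5562))))) (.node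 (.node (.node (.node (.node (.leaf 3698) (.leaf 5335)) (.node (.leaf 1490) (.leaf 6911))) (.node (.node (.leaf 1125) (.leaf 6609)) (.leaf 3942))) (.node (.node (.node (.leaf 782) (.leaf 6038)) (.leaf 3377)) (.node (.node (.leaf 5514) (.leaf 6593)) (.leaf 4260)))) (.node (.node (.node (.node (.leaf 256) (.leaf 5708)) (.node (.leaf 1665) (.leaf 7094))) (.node (.node (.leaf 2036) (.leaf 6375)) (.leaf 3929))) (.node (.node (.node (.leaf 5521) (.leaf 6212)) (.leaf 6674)) (.node (.node (.leaf 2352) (.leaf 6635)) (.leaf 5268)))))) (.node (.node (.node (.node (.node (.node (.leaf 280) (.leaf 5304)) (.node (.leaf 5066) (.leaf 6860))) (.node (.node (.leaf 6827) (.leaf 6143)) (.leaf 3865))) (.node (.node (.node (.leaf 2097) (.leaf 5797)) (.leaf 3338)) (.node (.node (.leaf 3787) (.leaf 6440)) (.leaf 4353)))) (.node (.node (.node (.node (.leaf 445) (.leaf 5678)) (.node (.leaf 5499) (.leaf 6971))) (.node (.node (.leaf 1065) (.leaf 5864)) (.leaf 5444))) (.node (.node (.node (.leaf 4645) (.leaf 5985)) (.leaf 4089))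 (.node (.node (.leaf 1752) (.leaf 6569)) (.leaf 5123))))) (.node (.node (.node (.node (.node (.leaf 176) (.leaf 5208)) (.node (.leaf 2327) (.leaf 6986))) (.node (.node (.leaf 1208) (.leaf 5844)) (.leaf 4025))) (.node (.node (.node (.leaf 1050) (.leaf 6277)) (.leaf 4168)) (.node (.node (.leaf 3515) (.leaf 6783)) (.leaf 5278)))) (.node (.node (.node (.node (.leaf 387) (.leaf 6094)) (.node (.leaf 3628) (.leaf 7133))) (.node (.node (.leaf 800) (.leaf 6002)) (.leaf 4502))) (.node (.node (.node (.leaf 1185) (.leaf 6380)) (.leaf 3960)) (.node (.node (.leaf 1566) (.leaf 6491)) (.leaf 6742))))))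
def dFin_4 : BT := .node (.node (.node (.node (.node (.node (.node (.leaf 2147) (.leaf 5347)) (.node (.leaf 1529) (.leaf 6842))) (.node (.node (.leaf 1154) (.leaf 6398)) (.leaf 5361))) (.node (.node (.node (.leaf 1288) (.leaf 6067)) (.leaf 3324)) (.node (.node (.leaf 2295) (.leaf 6604)) (.leaf 4481)))) (.node (.node (.node (.node (.leaf 3599) (.leaf 5661)) (.node (.leaf 3804) (.leaf 6949))) (.node (.node (.leaf 2081) (.leaf 5817)) (.leaf 4008))) (.node (.node (.node (.leaf 1021) (.leaf 6250)) (.leaf 3860)) (.node (.node (.leaf 5138) (.leaf 6811)) (.leaf 5117))))) (.node (.node (.node (.node (.node (.leaf 5535) (.leaf 5299)) (.node (.leaf 5720) (.leaf 6929))) (.node (.node (.leaf 2104) (.leaf 6114)) (.leaf 4137))) (.node (.node (.node (.leaf 2052) (.leaf 6394)) (.leaf 3399)) (.node (.node (.leaf 1686) (.leaf 6770)) (.leaf 4276)))) (.node (.node (.node (.node (.leaf 551) (.leaf 6683)) (.node (.leaf 3525) (.leaf 7112))) (.node (.node (.leaf 1034) (.leaf 6257)) (.leaf 4603))) (.node (.node (.node (.leaf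 4633) (.leaf 5956)) (.leaf 4072)) (.node (.node (.leaf 1711) (.leaf 6536)) (.leaf 5239)))))) (.node (.node (.node (.node (.node (.node (.leaf 2143) (.leaf 5219)) (.node (.leaf 2177) (.leaf 6903))) (.node (.node (.leaf 1241) (.leaf 5903)) (.leaf 4040))) (.node (.node (.node (.leaf 1081) (.leaf 5876)) (.leaf 3375)) (.node (.node (.leaf 5469) (.leaf 6690)) (.leaf 6225)))) (.node (.node (.node (.node (.leaf 291) (.leaf 5692)) (.node (.leaf 1318) (.leaf 7005))) (.node (.node (.leaf 2060) (.leaf 6061)) (.leaf 3913))) (.node (.node (.node (.leaf 3821) (.leaf 6369)) (.leaf 3977)) (.node (.node (.leaf 1609) (.leaf 6611)) (.leaf 5141))))) (.node (.node (.node (.node (.node (.leaf 409) (.leaf 5627)) (.node (.leaf 1453) (.leaf 7034))) (.node (.node (.leaf 1094) (.leaf 6416)) (.leaf 5437))) (.node (.node (.node (.leaf 6387) (.leaf 6012)) (.leaf 4104)) (.node (.node (.leaf 3517) (.leaf 6580)) (.leaf 4696)))) (.node (.node (.node (.node (.leaf 235) (.leaf 5824)) (.leaf 1626)) (.node (.node (.leaf 2375) (.leaf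 6735)) (.leaf 4374))) (.node (.node (.node (.leaf 3756) (.leaf 6172)) (.leaf 6325)) (.node (.node (.leaf 4174) (.leaf 6501)) (.leaf 5314))))))
def dFin_5 : BT := .node dFin_3 dFin_4
def dFin_6 : BT := .node dFin_2 dFin_5
def dFin_7 : BT := .node (.node (.node (.node (.node (.node (.node (.leaf 4) (.leaf 5244)) (.node (.leaf 1744) (.leaf 6515))) (.node (.node (.leaf 4643) (.leaf 5990)) (.leaf 4085))) (.node (.node (.node (.leaf 423) (.leaf 6223)) (.leaf 5541)) (.node (.node (.leaf 1061) (.leaf 6565)) (.leaf 5447)))) (.node (.node (.node (.node (.leaf 294) (.leaf 5638)) (.node (.leaf 1778) (.leaf 7044))) (.node (.node (.leaf 6775) (.leaf 6147)) (.leaf 6300))) (.node (.node (.node (.leaf 2093) (.leaf 5802)) (.leaf 4020)) (.node (.node (.leaf 3796) (.leaf 6649)) (.leaf 4710))))) (.node (.node (.node (.node (.node (.leaf 2005) (.leaf 6710)) (.node (.leaf 1562) (.leaf 6885))) (.node (.node (.leaf 1181) (.leaf 5741)) (.leaf 3956))) (.node (.node (.node (.leaf 3613) (.leaf 6098)) (.leaf 3848)) (.node (.node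 (.leaf 4666) (.leaf 6702)) (.leaf 4256)))) (.node (.node (.node (.node (.leaf 180) (.leaf 5704)) (.node (.leaf 2331) (.leaf 7090))) (.node (.node (.leaf 1204) (.leaf 5851)) (.leaf 3925))) (.node (.node (.node (.leaf 1046) (.leaf 6273)) (.leaf 3862)) (.node (.node (.leaf 3475) (.leaf 6629)) (.leaf 5143)))))) (.node (.node (.node (.node (.node (.node (.leaf 749) (.leaf 5327)) (.node (.leaf 1782) (.leaf 6856))) (.node (.node (.leaf 5473) (.leaf 6207)) (.leaf 6819))) (.node (.node (.node (.leaf 1253) (.leaf 5887)) (.leaf 3334)) (.node (.node (.leaf 2032) (.leaf 6740)) (.leaf 4385)))) (.node (.node (.node (.node (.leaf 3597) (.leaf 6838)) (.node (.leaf 1486) (.leaf 6961))) (.node (.node (.leaf 1121) (.leaf 6421)) (.leaf 3938))) (.node (.node (.node (.leaf 4599) (.leaf 6045)) (.leaf 4117)) (.node (.node (.leaf 3412) (.leaf 6589)) (.leaf 5115))))) (.node (.node (.node (.node (.node (.leaf 1991) (.leaf 5224)) (.node (.leaf 2228) (.leaf 6941))) (.node (.node (.leaf 3737) (.leaf 5934)) (.leaf 4053))) (.node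 (.node (.node (.leaf 1106) (.leaf 6349)) (.leaf 4166)) (.node (.node (.leaf 1470) (.leaf 6779)) (.leaf 4675)))) (.node (.node (.node (.node (.leaf 3583) (.leaf 6156)) (.node (.leaf 3622) (.leaf 7129))) (.node (.node (.leaf 2100) (.leaf 6062)) (.leaf 4534))) (.node (.node (.node (.leaf 2363) (.leaf 6376)) (.leaf 3988)) (.node (.node (.leaf 1638) (.leaf 6471)) (.leaf 5565))))))
def dFin_8 : BT := .node (.node (.node (.node (.node (.node (.node (.leaf 2013) (.leaf 5186)) (.node (.leaf 1601) (.leaf 6883))) (.node (.node (.leaf 3825) (.leaf 5739)) (.leaf 3973))) (.node (.node (.node (.leaf 3632) (.leaf 6127)) (.leaf 3348)) (.node (.node (.leaf 5509) (.leaf 6728)) (.leaf 4513)))) (.node (.node (.node (.node (.leaf 2274) (.leaf 5656)) (.node (.leaf 2173) (.leaf 6959))) (.node (.node (.leaf 1237) (.leaf 5907)) (.leaf 4036))) (.node (.node (.node (.leaf 1077) (.leaf 5871)) (.leaf 6347)) (.node (.node (.leaf 5556) (.leaf 6807)) (.leaf 6335))))) (.node (.node (.node (.node (.node (.leaf 465) (.leaf 5324))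 (.node (.leaf 1780) (.leaf 6925))) (.node (.node (.leaf 3752) (.leaf 6176)) (.leaf 6320))) (.node (.node (.node (.leaf 1220) (.leaf 5828)) (.leaf 3395)) (.node (.node (.leaf 2311) (.leaf 6749)) (.leaf 4272)))) (.node (.node (.node (.node (.leaf 401) (.leaf 5722)) (.node (.leaf 1449) (.leaf 7108))) (.node (.node (.leaf 1090) (.leaf 6218)) (.leaf 4199))) (.node (.node (.node (.leaf 6469) (.leaf 6016)) (.leaf 4100)) (.node (.node (.leaf 3477) (.leaf 6576)) (.leaf 5255)))))) (.node (.node (.node (.node (.node (.node (.leaf 1997) (.leaf 5235)) (.node (.leaf 1707) (.leaf 6872))) (.node (.node (.leaf 6844) (.leaf 5963)) (.leaf 4068))) (.node (.node (.node (.leaf 1137) (.leaf 6327)) (.leaf 3771)) (.node (.node (.leaf 1030) (.leaf 6686)) (.leaf 5097)))) (.node (.node (.node (.node (.leaf 5539) (.leaf 5688)) (.node (.leaf 2976) (.leaf 6993))) (.node (.node (.leaf 1272) (.leaf 6121)) (.leaf 3909))) (.node (.node (.node (.leaf 2048) (.leaf 6392)) (.leaf 4005)) (.node (.node (.leaf 1681) (.leaf 6622)) (.leaf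 5137))))) (.node (.node (.node (.node (.node (.leaf 2254) (.leaf 5642)) (.node (.leaf 1525) (.leaf 7030))) (.node (.node (.leaf 1150) (.leaf 5743)) (.leaf 5395))) (.node (.node (.node (.leaf 784) (.leaf 6072)) (.leaf 4132)) (.node (.node (.leaf 2334) (.leaf 6600)) (.leaf 4692)))) (.node (.node (.node (.node (.leaf 3647) (.leaf 5914)) (.leaf 3557)) (.node (.node (.leaf 2077) (.leaf 5792)) (.leaf 4406))) (.node (.node (.node (.leaf 1017) (.leaf 6245)) (.leaf 6670)) (.node (.node (.leaf 1309) (.leaf 6497)) (.leaf 5389))))))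
def dFin_9 : BT := .node dFin_7 dFin_8
def dFin_10 : BT := .node (.node (.node (.node (.node (.node (.node (.leaf 12) (.leaf 5212)) (.node (.leaf 2323) (.leaf 6836))) (.node (.node (.leaf 1212) (.leaf 5840)) (.leaf 4029))) (.node (.node (.node (.leaf 452) (.leaf 6226)) (.leaf 5572)) (.node (.node (.leaf 3780) (.leaf 6718)) (.leaf 4629)))) (.node (.node (.node (.node (.leaf 3362) (.leaf 5651)) (.node (.leaf 3529) (.leaf 7052))) (.node (.node (.leaf 2299) (.leaf 6027)) (.leaf 4092))) (.node (.node (.node (.leaf 1189) (.leaf 5732)) (.leaf 3964)) (.node (.node (.leaf 1574) (.leaf 6517)) (.leaf 5103))))) (.node (.node (.node (.node (.node (.leaf 437) (.leaf 5403)) (.node (.leaf 5427) (.leaf 6917))) (.node (.node (.leaf 1069) (.leaf 5859)) (.leaf 6418))) (.node (.node (.node (.leaf 3625) (.leaf 5978)) (.leaf 3387)) (.node (.node (.leaf 1759) (.leaf 6573)) (.leaf 4264)))) (.node (.node (.node (.node (.leaf 2219) (.leaf 5712)) (.node (.leaf 1593) (.leaf 7117))) (.node (.node (.leaf 3839) (.leaf 5749))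 (.leaf 3933))) (.node (.node (.node (.leaf 788) (.leaf 6136)) (.leaf 6356)) (.node (.node (.leaf 3436) (.leaf 6639)) (.leaf 5272)))))) (.node (.node (.node (.node (.node (.node (.leaf 3726) (.leaf 5290)) (.node (.leaf 5130) (.leaf 6864))) (.node (.node (.leaf 2064) (.leaf 6083)) (.leaf 4124))) (.node (.node (.node (.leaf 2257) (.leaf 6339)) (.leaf 3342)) (.node (.node (.leaf 1142) (.leaf 6677)) (.leaf 5553)))) (.node (.node (.node (.node (.leaf 647) (.leaf 6951)) (.node (.leaf 2970) (.leaf 6983))) (.node (.node (.leaf 1009) (.leaf 6234)) (.leaf 5485))) (.node (.node (.node (.leaf 3573) (.leaf 5925)) (.leaf 4061)) (.node (.node (.leaf 2240) (.leaf 6529)) (.leaf 5127))))) (.node (.node (.node (.node (.node (.leaf 260) (.leaf 5192)) (.node (.leaf 1669) (.leaf 7097))) (.node (.node (.leaf 2040) (.leaf 6410)) (.leaf 3997))) (.node (.node (.node (.leaf 5529) (.leaf 6216)) (.leaf 3858)) (.node (.node (.leaf 1809) (.leaf 6787)) (.leaf 4682)))) (.node (.node (.node (.node (.leaf 543) (.leaf 6034)) (.node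 (.leaf 1699) (.leaf 7137))) (.node (.node (.leaf 5430) (.leaf 5942)) (.leaf 4470))) (.node (.node (.node (.leaf 1129) (.leaf 6645)) (.leaf 3946)) (.node (.node (.leaf 1494) (.leaf 6485)) (.leaf 5343))))))
def dFin_11 : BT := .node (.node (.node (.node (.node (.node (.node (.leaf 415) (.leaf 5341)) (.node (.leaf 1457) (.leaf 6848))) (.node (.node (.leaf 1098) (.leaf 6492)) (.leaf 5381))) (.node (.node (.node (.leaf 2193) (.leaf 6007)) (.leaf 3328)) (.node (.node (.leaf 3679) (.leaf 6584)) (.leaf 4449)))) (.node (.node (.node (.node (.leaf 239) (.leaf 5664)) (.node (.leaf 1630) (.leaf 6975))) (.node (.node (.leaf 2371) (.leaf 6307)) (.leaf 3980))) (.node (.node (.node (.leaf 3768) (.leaf 6167)) (.leaf 6340)) (.node (.node (.leaf 1788) (.leaf 6800)) (.leaf 5107))))) (.node (.node (.node (.node (.node (.leaf 297) (.leaf 5256)) (.node (.leaf 3533) (.leaf 6933))) (.node (.node (.leaf 1276) (.leaf 6054)) (.leaf 4109))) (.node (.node (.node (.leaf 3809) (.leaf 6429)) (.leaf 3403)) (.node (.node (.leaf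 1614) (.leaf 6797)) (.leaf 4280)))) (.node (.node (.node (.node (.leaf 735) (.leaf 5880)) (.node (.leaf 3610) (.leaf 7120))) (.node (.node (.leaf 5413) (.leaf 6196)) (.leaf 6286))) (.node (.node (.node (.leaf 1245) (.leaf 5896)) (.leaf 4044)) (.node (.node (.leaf 2181) (.leaf 6477)) (.leaf 5223)))))) (.node (.node (.node (.node (.node (.node (.leaf 3708) (.leaf 5203)) (.node (.leaf 3840) (.leaf 6894))) (.node (.node (.leaf 2085) (.leaf 5813)) (.leaf 4012))) (.node (.node (.node (.leaf 1025) (.leaf 6231)) (.leaf 3381)) (.node (.node (.leaf 1804) (.leaf 6696)) (.leaf 4574)))) (.node (.node (.node (.node (.leaf 306) (.leaf 5696)) (.node (.leaf 1736) (.leaf 7017))) (.node (.node (.leaf 798) (.leaf 6001)) (.leaf 3917))) (.node (.node (.node (.leaf 1158) (.leaf 6360)) (.leaf 5367)) (.node (.node (.leaf 1537) (.leaf 6559)) (.leaf 5316))))) (.node (.node (.node (.node (.node (.leaf 559) (.leaf 5628)) (.node (.leaf 3483) (.leaf 7038))) (.node (.node (.leaf 1038) (.leaf 6262)) (.leaf 6506))) (.node (.node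 (.node (.leaf 2985) (.leaf 5952)) (.leaf 4076)) (.node (.node (.leaf 1719) (.leaf 6540)) (.leaf 4700)))) (.node (.node (.node (.node (.leaf 2126) (.leaf 6281)) (.leaf 1554)) (.node (.node (.leaf 1173) (.leaf 6438)) (.leaf 4342))) (.node (.node (.node (.leaf 2108) (.leaf 6110)) (.leaf 4143)) (.node (.node (.leaf 6436) (.leaf 6505)) (.leaf 5295))))))
def dFin_12 : BT := .node dFin_10 dFin_11
def dFin_13 : BT := .node dFin_9 dFin_12
def dFin_14 : BT := .node dFin_6 dFin_13
def dFin_15 : BT := .node (.node (.node (.node (.node (.node (.node (.leaf 2) (.leaf 5252)) (.node (.leaf 3469) (.leaf 6513))) (.node (.node (.leaf 790) (.leaf 6020)) (.leaf 4099))) (.node (.node (.node (.leaf 393) (.leaf 6279)) (.leaf 1446)) (.node (.node (.leaf 1089) (.leaf 6694)) (.leaf 4625)))) (.node (.node (.node (.node (.leaf 466) (.leaf 5636)) (.node (.leaf 3431) (.leaf 7042))) (.node (.node (.leaf 3745) (.leaf 6179)) (.leaf 6308))) (.node (.node (.node (.leaf 1219) (.leaf 5832)) (.leaf 4034)) (.node (.node (.leaf 2312)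 (.leaf 6769)) (.leaf 4708))))) (.node (.node (.node (.node (.node (.leaf 2003) (.leaf 5185)) (.node (.leaf 1598) (.leaf 6907))) (.node (.node (.leaf 3826) (.leaf 6422)) (.leaf 3970))) (.node (.node (.node (.leaf 781) (.leaf 6128)) (.leaf 3635)) (.node (.node (.leaf 2304) (.leaf 6700)) (.leaf 4254)))) (.node (.node (.node (.node (.leaf 2272) (.leaf 5702)) (.node (.leaf 2170) (.leaf 7086))) (.node (.node (.leaf 1234) (.leaf 5911)) (.leaf 3923))) (.node (.node (.node (.leaf 1074) (.leaf 5868)) (.leaf 6352)) (.node (.node (.leaf 5561) (.leaf 6625)) (.leaf 5287)))))) (.node (.node (.node (.node (.node (.node (.leaf 657) (.leaf 7103)) (.node (.leaf 3357) (.leaf 6854))) (.node (.node (.leaf 1014) (.leaf 6242)) (.leaf 6824))) (.node (.node (.node (.leaf 3637) (.leaf 5917)) (.leaf 3793)) (.node (.node (.leaf 2074) (.leaf 6534)) (.leaf 4401)))) (.node (.node (.node (.node (.leaf 2261) (.leaf 5714)) (.node (.leaf 1522) (.leaf 6955))) (.node (.node (.leaf 1149) (.leaf 6294)) (.leaf 5423))) (.node (.node (.node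 (.leaf 1282) (.leaf 6075)) (.leaf 4131)) (.node (.node (.leaf 2336) (.leaf 6599)) (.leaf 5113))))) (.node (.node (.node (.node (.node (.leaf 5506) (.leaf 5232)) (.node (.leaf 1704) (.leaf 6939))) (.node (.node (.leaf 6914) (.leaf 5964)) (.leaf 4067))) (.node (.node (.node (.leaf 1134) (.leaf 6350)) (.leaf 3851)) (.node (.node (.leaf 1506) (.leaf 6777)) (.leaf 4680)))) (.node (.node (.node (.node (.leaf 5545) (.leaf 6188)) (.node (.leaf 3618) (.leaf 7127))) (.node (.node (.leaf 5680) (.leaf 6092)) (.leaf 4552))) (.node (.node (.node (.leaf 2047) (.leaf 6372)) (.leaf 4002)) (.node (.node (.leaf 1674) (.leaf 6467)) (.leaf 5199))))))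
def dFin_16 : BT := .node (.node (.node (.node (.node (.node (.node (.leaf 99) (.leaf 5566)) (.node (.leaf 1637) (.leaf 6881))) (.node (.node (.leaf 2364) (.leaf 6724)) (.leaf 3987))) (.node (.node (.node (.leaf 3645) (.leaf 6159)) (.leaf 3322)) (.node (.node (.leaf 2098) (.leaf 6726)) (.leaf 4529)))) (.node (.node (.node (.node (.leaf 1976) (.leaf 5655)) (.node (.leaf 2227) (.leaf 7024))) (.node (.node (.leaf 3739) (.leaf 5937)) (.leaf 4050))) (.node (.node (.node (.leaf 1105) (.leaf 6647)) (.leaf 5362)) (.node (.node (.leaf 1466) (.leaf 6805)) (.leaf 5101))))) (.node (.node (.node (.node (.node (.leaf 747) (.leaf 5328)) (.node (.leaf 4580) (.leaf 6923))) (.node (.node (.leaf 5441) (.leaf 6204)) (.leaf 6627))) (.node (.node (.node (.leaf 1250) (.leaf 5888)) (.leaf 3393)) (.node (.node (.leaf 2190) (.leaf 6744)) (.leaf 4270)))) (.node (.node (.node (.node (.leaf 3649) (.leaf 6364)) (.node (.leaf 1485) (.leaf 7106))) (.node (.node (.leaf 1118) (.leaf 6316)) (.leaf 3937))) (.node (.node (.node (.leaf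 5482) (.leaf 6046)) (.leaf 4114)) (.node (.node (.leaf 3495) (.leaf 6586)) (.leaf 5263)))))) (.node (.node (.node (.node (.node (.node (.leaf 174) (.leaf 5243)) (.node (.leaf 1743) (.leaf 6870))) (.node (.node (.leaf 6945) (.leaf 5993)) (.leaf 4082))) (.node (.node (.node (.leaf 1165) (.leaf 6285)) (.leaf 5551)) (.node (.node (.leaf 1058) (.leaf 6562)) (.leaf 4584)))) (.node (.node (.node (.node (.leaf 293) (.leaf 5686)) (.node (.leaf 4238) (.leaf 6991))) (.node (.node (.leaf 1270) (.leaf 6151)) (.leaf 5448))) (.node (.node (.node (.leaf 2090) (.leaf 5805)) (.leaf 4019)) (.node (.node (.leaf 3801) (.leaf 6465)) (.leaf 5135))))) (.node (.node (.node (.node (.node (.leaf 1995) (.leaf 5644)) (.node (.leaf 1561) (.leaf 6947))) (.node (.node (.leaf 1178) (.leaf 6406)) (.leaf 3955))) (.node (.node (.node (.leaf 4561) (.leaf 6102)) (.leaf 4148)) (.node (.node (.leaf 6972) (.leaf 6793)) (.leaf 4688)))) (.node (.node (.node (.node (.leaf 3651) (.leaf 5944)) (.leaf 2332)) (.node (.node (.leaf 1203) (.leaf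 5822)) (.leaf 4422))) (.node (.node (.node (.leaf 1045) (.leaf 6269)) (.leaf 4156)) (.node (.node (.leaf 3459) (.leaf 6495)) (.leaf 6978))))))
def dFin_17 : BT := .node dFin_15 dFin_16
def dFin_18 : BT := .node (.node (.node (.node (.node (.node (.node (.leaf 10) (.leaf 5220)) (.node (.leaf 2178) (.leaf 6832))) (.node (.node (.leaf 1242) (.leaf 5900)) (.leaf 4043))) (.node (.node (.node (.leaf 731) (.leaf 5879)) (.leaf 5463)) (.node (.node (.leaf 5435) (.leaf 6716)) (.leaf 6296)))) (.node (.node (.node (.node (.leaf 304) (.leaf 5619)) (.node (.leaf 3567) (.leaf 7050))) (.node (.node (.leaf 2062) (.leaf 6057)) (.leaf 4106))) (.node (.node (.node (.leaf 3810) (.leaf 6431)) (.leaf 3978)) (.node (.node (.leaf 1610) (.leaf 6642)) (.leaf 4714))))) (.node (.node (.node (.node (.node (.leaf 413) (.leaf 5149)) (.node (.leaf 1454) (.leaf 6913))) (.node (.node (.leaf 1097) (.leaf 6612)) (.leaf 6617))) (.node (.node (.node (.leaf 3621) (.leaf 6008)) (.leaf 3383)) (.node (.node (.leaf 3551) (.leaf 6583)) (.leaf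 4262)))) (.node (.node (.node (.node (.leaf 236) (.leaf 5710)) (.node (.leaf 1629) (.leaf 7098))) (.node (.node (.leaf 2372) (.leaf 6379)) (.leaf 3931))) (.node (.node (.node (.leaf 3759) (.leaf 6168)) (.leaf 6329)) (.node (.node (.leaf 3854) (.leaf 6637)) (.leaf 5270)))))) (.node (.node (.node (.node (.node (.node (.leaf 5543) (.leaf 5296)) (.node (.leaf 6362) (.leaf 6862))) (.node (.node (.leaf 2106) (.leaf 6113)) (.leaf 4138))) (.node (.node (.node (.leaf 2055) (.leaf 7012)) (.leaf 3340)) (.node (.node (.leaf 1170) (.leaf 6673)) (.leaf 4337)))) (.node (.node (.node (.node (.leaf 555) (.leaf 5716)) (.node (.leaf 3503) (.leaf 6977))) (.node (.node (.leaf 1037) (.leaf 6258)) (.leaf 5481))) (.node (.node (.node (.leaf 4630) (.leaf 5955)) (.leaf 4075)) (.node (.node (.leaf 1716) (.leaf 6539)) (.leaf 5125))))) (.node (.node (.node (.node (.node (.leaf 3595) (.leaf 5200)) (.node (.leaf 3799) (.leaf 7008))) (.node (.node (.leaf 2082) (.leaf 5814)) (.leaf 4011))) (.node (.node (.node (.leaf 1022) (.leaf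 6253)) (.leaf 4170)) (.node (.node (.leaf 3355) (.leaf 6785)) (.leaf 5433)))) (.node (.node (.node (.node (.leaf 419) (.leaf 6064)) (.node (.leaf 1735) (.leaf 7135))) (.node (.node (.leaf 1268) (.leaf 5972)) (.leaf 4486))) (.node (.node (.node (.leaf 1157) (.leaf 6384)) (.leaf 5357)) (.node (.node (.leaf 1530) (.leaf 6483)) (.leaf 5145))))))
def dFin_19 : BT := .node (.node (.node (.node (.node (.node (.node (.leaf 3724) (.leaf 5147)) (.node (.leaf 1493) (.leaf 6846))) (.node (.node (.leaf 1126) (.leaf 6631)) (.leaf 3945))) (.node (.node (.node (.leaf 3316) (.leaf 6037)) (.leaf 3326)) (.node (.node (.leaf 5517) (.leaf 6594)) (.leaf 4465)))) (.node (.node (.node (.node (.leaf 259) (.leaf 5663)) (.node (.leaf 1666) (.leaf 6968))) (.node (.node (.leaf 2039) (.leaf 6834)) (.leaf 3994))) (.node (.node (.node (.leaf 5501) (.leaf 6215)) (.leaf 4160)) (.node (.node (.leaf 2349) (.leaf 6656)) (.leaf 5105))))) (.node (.node (.node (.node (.node (.leaf 3704) (.leaf 5293)) (.node (.leaf 4232) (.leaf 6931)))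 (.node (.node (.leaf 794) (.leaf 6084)) (.leaf 4123))) (.node (.node (.node (.leaf 2356) (.leaf 6331)) (.leaf 3401)) (.node (.node (.leaf 1650) (.leaf 6772)) (.leaf 5555)))) (.node (.node (.node (.node (.leaf 643) (.leaf 6391)) (.node (.leaf 3608) (.leaf 7119))) (.node (.node (.leaf 1006) (.leaf 6233)) (.leaf 4564))) (.node (.node (.node (.leaf 3641) (.leaf 5926)) (.leaf 4058)) (.node (.node (.leaf 2235) (.leaf 6526)) (.leaf 5231)))))) (.node (.node (.node (.node (.node (.node (.leaf 3706) (.leaf 5211)) (.node (.leaf 2324) (.leaf 6905))) (.node (.node (.leaf 1211) (.leaf 5843)) (.leaf 4026))) (.node (.node (.node (.leaf 1053) (.leaf 6255)) (.leaf 3407)) (.node (.node (.leaf 3779) (.leaf 6692)) (.leaf 4230)))) (.node (.node (.node (.node (.leaf 396) (.leaf 5694)) (.node (.leaf 3563) (.leaf 7010))) (.node (.node (.leaf 2297) (.leaf 6031)) (.leaf 3915))) (.node (.node (.node (.leaf 1186) (.leaf 6433)) (.leaf 3963)) (.node (.node (.leaf 1573) (.leaf 6614)) (.leaf 5282))))) (.node (.node (.node (.node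 (.node (.leaf 438) (.leaf 6830)) (.node (.leaf 5459) (.leaf 7036))) (.node (.node (.leaf 1066) (.leaf 5860)) (.leaf 6298))) (.node (.node (.node (.leaf 4571) (.leaf 5982)) (.leaf 4090)) (.node (.node (.leaf 1755) (.leaf 6570)) (.leaf 4698)))) (.node (.node (.node (.node (.leaf 2220) (.leaf 5794)) (.leaf 1590)) (.node (.node (.leaf 3788) (.leaf 6706)) (.leaf 4358))) (.node (.node (.node (.leaf 5470) (.leaf 6140)) (.leaf 4141)) (.node (.node (.leaf 4172) (.leaf 6503)) (.leaf 5301))))))
def dFin_20 : BT := .node dFin_18 dFin_19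
def dFin_21 : BT := .node dFin_17 dFin_20
def dFin_22 : BT := .node (.node (.node (.node (.node (.node (.node (.leaf 6) (.leaf 5236)) (.node (.leaf 1708) (.leaf 6523))) (.node (.node (.leaf 5633) (.leaf 5960)) (.leaf 4071))) (.node (.node (.node (.leaf 547) (.leaf 6323)) (.leaf 3559)) (.node (.node (.leaf 1033) (.leaf 6712)) (.leaf 4596)))) (.node (.node (.node (.node (.leaf 5513) (.leaf 5640)) (.node (.leaf 2978) (.leaf 7046))) (.node (.node (.leaf 796) (.leaf 6117)) (.leaf 4134))) (.node (.node (.node (.leaf 2051) (.leaf 7089)) (.leaf 4006)) (.node (.node (.leaf 1682) (.leaf 6606)) (.leaf 4712))))) (.node (.node (.node (.node (.node (.leaf 2145) (.leaf 5333)) (.node (.leaf 1526) (.leaf 6909))) (.node (.node (.leaf 1153) (.leaf 6426)) (.leaf 5373))) (.node (.node (.node (.leaf 3617) (.leaf 6068)) (.leaf 3373)) (.node (.node (.leaf 2308) (.leaf 6603)) (.leaf 4258)))) (.node (.node (.node (.node (.leaf 3653) (.leaf 5706)) (.node (.leaf 3806) (.leaf 7092))) (.node (.node (.leaf 2078) (.leaf 5821))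 (.leaf 3927))) (.node (.node (.node (.leaf 1018) (.leaf 6249)) (.leaf 4158)) (.node (.node (.leaf 4164) (.leaf 6633)) (.leaf 5411)))))) (.node (.node (.node (.node (.node (.node (.leaf 468) (.leaf 5323)) (.node (.leaf 1312) (.leaf 6858))) (.node (.node (.leaf 3755) (.leaf 6175)) (.leaf 6318))) (.node (.node (.node (.leaf 1223) (.leaf 5827)) (.leaf 3336)) (.node (.node (.leaf 2252) (.leaf 6665)) (.leaf 4369)))) (.node (.node (.node (.node (.leaf 405) (.leaf 5677)) (.node (.leaf 1450) (.leaf 6967))) (.node (.node (.leaf 1093) (.leaf 6303)) (.leaf 5475))) (.node (.node (.node (.leaf 6396) (.leaf 6015)) (.leaf 4103)) (.node (.node (.leaf 3497) (.leaf 6579)) (.leaf 5119))))) (.node (.node (.node (.node (.node (.leaf 2282) (.leaf 5216)) (.node (.leaf 2174) (.leaf 7015))) (.node (.node (.leaf 1238) (.leaf 5904)) (.leaf 4039))) (.node (.node (.node (.leaf 1078) (.leaf 5872)) (.leaf 5093)) (.node (.node (.leaf 5519) (.leaf 6781)) (.leaf 4676)))) (.node (.node (.node (.node (.leaf 276) (.leaf 6124)) (.node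 (.leaf 3626) (.leaf 7131))) (.node (.node (.leaf 2058) (.leaf 6032)) (.leaf 4518))) (.node (.node (.node (.leaf 3822) (.leaf 6402)) (.leaf 3974)) (.node (.node (.leaf 1602) (.leaf 6475)) (.leaf 5189))))))
def dFin_23 : BT := .node (.node (.node (.node (.node (.node (.node (.leaf 2015) (.leaf 5351)) (.node (.leaf 1565) (.leaf 6878))) (.node (.node (.leaf 1182) (.leaf 6424)) (.leaf 3959))) (.node (.node (.node (.leaf 1286) (.leaf 6097)) (.leaf 3846)) (.node (.node (.leaf 1264) (.leaf 6730)) (.leaf 4497)))) (.node (.node (.node (.node (.leaf 3593) (.leaf 5659)) (.node (.leaf 2328) (.leaf 6965))) (.node (.node (.leaf 1207) (.leaf 5847)) (.leaf 4022))) (.node (.node (.node (.leaf 1049) (.leaf 6274)) (.leaf 6668)) (.node (.node (.leaf 3493) (.leaf 6809)) (.leaf 5089))))) (.node (.node (.node (.node (.node (.leaf 299) (.leaf 5307)) (.node (.leaf 1314) (.leaf 6927))) (.node (.node (.leaf 5414) (.leaf 6144)) (.leaf 6415))) (.node (.node (.node (.leaf 2094) (.leaf 5798)) (.leaf 3397)) (.node (.node (.leaf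 3795) (.leaf 6650)) (.leaf 4274)))) (.node (.node (.node (.node (.leaf 424) (.leaf 6152)) (.node (.leaf 5527) (.leaf 7110))) (.node (.node (.leaf 1062) (.leaf 5867)) (.leaf 4589))) (.node (.node (.node (.leaf 5486) (.leaf 5986)) (.leaf 4086)) (.node (.node (.leaf 1747) (.leaf 6566)) (.leaf 5247)))))) (.node (.node (.node (.node (.node (.node (.leaf 1999) (.leaf 5227)) (.node (.leaf 2231) (.leaf 6876))) (.node (.node (.leaf 3721) (.leaf 5933)) (.leaf 4054))) (.node (.node (.node (.leaf 1109) (.leaf 6343)) (.leaf 3371)) (.node (.node (.leaf 1002) (.leaf 6688)) (.leaf 4583)))) (.node (.node (.node (.node (.leaf 3547) (.leaf 5690)) (.node (.leaf 1776) (.leaf 6999))) (.node (.node (.leaf 2102) (.leaf 6091)) (.leaf 3911))) (.node (.node (.node (.leaf 2360) (.leaf 6708)) (.leaf 3991)) (.node (.node (.leaf 1645) (.leaf 6473)) (.leaf 5558))))) (.node (.node (.node (.node (.node (.leaf 3589) (.leaf 5646)) (.node (.leaf 1489) (.leaf 7033))) (.node (.node (.leaf 1122) (.leaf 6310)) (.leaf 3941))) (.node (.node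 (.node (.leaf 1284) (.leaf 6042)) (.leaf 4118)) (.node (.node (.leaf 3853) (.leaf 6590)) (.leaf 4694)))) (.node (.node (.node (.node (.leaf 255) (.leaf 5884)) (.leaf 1662)) (.node (.node (.leaf 2035) (.leaf 6733)) (.leaf 4390))) (.node (.node (.node (.leaf 5491) (.leaf 6208)) (.leaf 6820)) (.node (.node (.leaf 1310) (.leaf 6499)) (.leaf 5310))))))
def dFin_24 : BT := .node dFin_22 dFin_23
def dFin_25 : BT := .node (.node (.node (.node (.node (.node (.node (.leaf 3722) (.leaf 5204)) (.node (.leaf 3845) (.leaf 6875))) (.node (.node (.leaf 2086) (.leaf 5810)) (.leaf 4015))) (.node (.node (.node (.leaf 287) (.leaf 6228)) (.leaf 3350)) (.node (.node (.leaf 1262) (.leaf 6720)) (.leaf 5451)))) (.node (.node (.node (.node (.leaf 178) (.leaf 5648)) (.node (.leaf 1739) (.leaf 7028))) (.node (.node (.leaf 5718) (.leaf 5997)) (.leaf 4078))) (.node (.node (.node (.leaf 1161) (.leaf 6435)) (.leaf 5379)) (.node (.node (.leaf 1538) (.leaf 6556)) (.leaf 5099))))) (.node (.node (.node (.node (.node (.leaf 563) (.leaf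 7054)) (.node (.leaf 3465) (.leaf 6919))) (.node (.node (.leaf 1041) (.leaf 6265)) (.leaf 3867))) (.node (.node (.node (.leaf 2968) (.leaf 5948)) (.leaf 3391)) (.node (.node (.leaf 1723) (.leaf 6543)) (.leaf 4266)))) (.node (.node (.node (.node (.leaf 2125) (.leaf 6956)) (.node (.leaf 1557) (.leaf 7100))) (.node (.node (.leaf 1174) (.leaf 6383)) (.leaf 3935))) (.node (.node (.node (.leaf 1280) (.leaf 6106)) (.leaf 4144)) (.node (.node (.leaf 5400) (.leaf 6641)) (.leaf 5274)))))) (.node (.node (.node (.node (.node (.node (.leaf 53) (.leaf 5259)) (.node (.leaf 3467) (.leaf 6866))) (.node (.node (.leaf 792) (.leaf 6053)) (.leaf 4110))) (.node (.node (.node (.leaf 3607) (.leaf 6333)) (.leaf 3344)) (.node (.node (.leaf 1114) (.leaf 6681)) (.leaf 4282)))) (.node (.node (.node (.node (.leaf 739) (.leaf 5682)) (.node (.leaf 2972) (.leaf 6985))) (.node (.node (.leaf 5391) (.leaf 6199)) (.leaf 3871))) (.node (.node (.node (.leaf 1246) (.leaf 5895)) (.leaf 4047)) (.node (.node (.leaf 2186) (.leaf 6829)) (.leaf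 5129))))) (.node (.node (.node (.node (.node (.leaf 240) (.leaf 5570)) (.node (.leaf 1633) (.leaf 6997))) (.node (.node (.leaf 2368) (.leaf 6412)) (.leaf 3983))) (.node (.node (.node (.leaf 3773) (.leaf 6164)) (.leaf 4162)) (.node (.node (.leaf 1300) (.leaf 6789)) (.leaf 4684)))) (.node (.node (.node (.node (.leaf 635) (.leaf 6004)) (.node (.leaf 2197) (.leaf 7115))) (.node (.node (.leaf 3717) (.leaf 5912)) (.leaf 4454))) (.node (.node (.node (.leaf 1101) (.leaf 6388)) (.leaf 5312)) (.node (.node (.leaf 1458) (.leaf 6487)) (.leaf 5319))))))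
def dFin_26 : BT := .node (.node (.node (.node (.node (.node (.node (.leaf 440) (.leaf 5345)) (.node (.leaf 5399) (.leaf 6850))) (.node (.node (.leaf 1070) (.leaf 5856)) (.leaf 6798))) (.node (.node (.node (.leaf 2284) (.leaf 5977)) (.leaf 3330)) (.node (.node (.leaf 1230) (.leaf 6574)) (.leaf 4433)))) (.node (.node (.node (.node (.leaf 2200) (.leaf 5666)) (.node (.leaf 1594) (.leaf 6981))) (.node (.node (.leaf 3836) (.leaf 6312)) (.leaf 3966))) (.node (.node (.node (.leaf 5625) (.leaf 6135)) (.leaf 6344)) (.node (.node (.leaf 3411) (.leaf 6813)) (.leaf 5109))))) (.node (.node (.node (.node (.node (.leaf 778) (.leaf 5248)) (.node (.leaf 3507) (.leaf 6935))) (.node (.node (.leaf 2301) (.leaf 6024)) (.leaf 4095))) (.node (.node (.node (.leaf 1190) (.leaf 6358)) (.leaf 3405)) (.node (.node (.leaf 1578) (.leaf 6518)) (.leaf 4678)))) (.node (.node (.node (.node (.leaf 449) (.leaf 6184)) (.node (.leaf 3614) (.leaf 7123))) (.node (.node (.leaf 3743) (.leaf 6154)) (.leaf 4568))) (.node (.node (.node (.leaf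 1215) (.leaf 5836)) (.leaf 4030)) (.node (.node (.leaf 2320) (.leaf 6479)) (.leaf 5215)))))) (.node (.node (.node (.node (.node (.node (.leaf 57) (.leaf 5195)) (.node (.leaf 1670) (.leaf 6896))) (.node (.node (.leaf 2043) (.leaf 6942)) (.leaf 3998))) (.node (.node (.node (.leaf 5531) (.leaf 6194)) (.leaf 3384)) (.node (.node (.leaf 1806) (.leaf 6658)) (.leaf 4250)))) (.node (.node (.node (.node (.leaf 2217) (.leaf 5698)) (.node (.leaf 1700) (.leaf 7019))) (.node (.node (.leaf 5408) (.leaf 5971)) (.leaf 3919))) (.node (.node (.node (.leaf 1130) (.leaf 6678)) (.leaf 3949)) (.node (.node (.leaf 1501) (.leaf 6619)) (.leaf 5280))))) (.node (.node (.node (.node (.node (.leaf 651) (.leaf 5630)) (.node (.leaf 3368) (.leaf 7040))) (.node (.node (.leaf 1010) (.leaf 6238)) (.leaf 3869))) (.node (.node (.node (.leaf 3535) (.leaf 5922)) (.leaf 4062)) (.node (.node (.leaf 2243) (.leaf 6530)) (.leaf 4702)))) (.node (.node (.node (.node (.leaf 2268) (.leaf 6283)) (.leaf 1518)) (.node (.node (.leaf 1145) (.leaf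 6738)) (.leaf 5548))) (.node (.node (.node (.leaf 2066) (.leaf 6080)) (.leaf 4127)) (.node (.node (.leaf 3856) (.leaf 6509)) (.leaf 5289))))))
def dFin_27 : BT := .node dFin_25 dFin_26
def dFin_28 : BT := .node dFin_24 dFin_27
def dFin_29 : BT := .node dFin_21 dFin_28
def dFin_30 : BT := .node dFin_14 dFin_29
def dFin_31 : BT := .node (.node (.node (.node (.node (.node (.node (.leaf 1) (.leaf 5261)) (.node (.leaf 3466) (.leaf 6510))) (.node (.node (.leaf 2302) (.leaf 6051)) (.leaf 4112))) (.node (.node (.node (.leaf 3782) (.leaf 6332)) (.leaf 1483)) (.node (.node (.leaf 1116) (.leaf 6684)) (.leaf 4288)))) (.node (.node (.node (.node (.leaf 742) (.leaf 5635)) (.node (.leaf 2973) (.leaf 7022))) (.node (.node (.leaf 5418) (.leaf 6202)) (.leaf 3870))) (.node (.node (.node (.leaf 1248) (.leaf 5893)) (.leaf 4049)) (.node (.node (.leaf 2188) (.leaf 6774)) (.leaf 4707))))) (.node (.node (.node (.node (.node (.leaf 96) (.leaf 5568)) (.node (.leaf 1635) (.leaf 6900))) (.node (.node (.leaf 2366) (.leaf 6662))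 (.leaf 3985))) (.node (.node (.node (.leaf 3630) (.leaf 6161)) (.leaf 3389)) (.node (.node (.leaf 2346) (.leaf 6699)) (.leaf 4253)))) (.node (.node (.node (.node (.leaf 1979) (.leaf 5701)) (.node (.leaf 2225) (.leaf 7020))) (.node (.node (.leaf 3734) (.leaf 5940)) (.leaf 3920))) (.node (.node (.node (.leaf 1103) (.leaf 6695)) (.leaf 5350)) (.node (.node (.leaf 1464) (.leaf 6620)) (.leaf 5284)))))) (.node (.node (.node (.node (.node (.node (.leaf 564) (.leaf 7002)) (.node (.leaf 3452) (.leaf 6853))) (.node (.node (.leaf 1043) (.leaf 6267)) (.leaf 3866))) (.node (.node (.node (.leaf 3634) (.leaf 5946)) (.leaf 3333)) (.node (.node (.leaf 1201) (.leaf 6545)) (.leaf 4416)))) (.node (.node (.node (.node (.leaf 2123) (.leaf 6373)) (.node (.leaf 1559) (.leaf 6950))) (.node (.node (.leaf 1176) (.leaf 6407)) (.leaf 3953))) (.node (.node (.node (.leaf 1281) (.leaf 6104)) (.leaf 4146)) (.node (.node (.leaf 6996) (.leaf 6814)) (.leaf 5110))))) (.node (.node (.node (.node (.node (.leaf 175) (.leaf 5241)) (.node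 (.leaf 1741) (.leaf 6936))) (.node (.node (.leaf 6882) (.leaf 5995)) (.leaf 4080))) (.node (.node (.node (.leaf 1163) (.leaf 6434)) (.leaf 5522)) (.node (.node (.leaf 1543) (.leaf 6560)) (.leaf 6964)))) (.node (.node (.node (.node (.leaf 289) (.leaf 6187)) (.node (.leaf 4565) (.leaf 7124))) (.node (.node (.leaf 1267) (.leaf 6123)) (.leaf 4575))) (.node (.node (.node (.leaf 2088) (.leaf 5807)) (.leaf 4017)) (.node (.node (.leaf 3843) (.leaf 6507)) (.leaf 5206))))))
def dFin_32 : BT := .node (.node (.node (.node (.node (.node (.node (.leaf 58) (.leaf 5197)) (.node (.leaf 1672) (.leaf 6897))) (.node (.node (.leaf 2045) (.leaf 6833)) (.leaf 4000))) (.node (.node (.node (.leaf 5547) (.leaf 6192)) (.leaf 5679)) (.node (.node (.leaf 5462) (.leaf 6723)) (.leaf 4546)))) (.node (.node (.node (.node (.leaf 2305) (.leaf 5652)) (.node (.leaf 1702) (.leaf 7027))) (.node (.node (.leaf 5388) (.leaf 5966)) (.leaf 4065))) (.node (.node (.node (.leaf 1132) (.leaf 6736)) (.leaf 3951)) (.node (.node (.leaf 1503) (.leaf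 6802)) (.leaf 5096))))) (.node (.node (.node (.node (.node (.leaf 654) (.leaf 6946)) (.node (.leaf 3354) (.leaf 6920))) (.node (.node (.leaf 1012) (.leaf 6240)) (.leaf 3868))) (.node (.node (.node (.leaf 3568) (.leaf 5919)) (.leaf 3802)) (.node (.node (.leaf 2245) (.leaf 6532)) (.leaf 4269)))) (.node (.node (.node (.node (.leaf 2271) (.leaf 6282)) (.node (.leaf 1520) (.leaf 7105))) (.node (.node (.leaf 1147) (.leaf 6287)) (.leaf 5452))) (.node (.node (.node (.leaf 5480) (.leaf 6077)) (.leaf 4129)) (.node (.node (.leaf 2345) (.leaf 6597)) (.leaf 5277)))))) (.node (.node (.node (.node (.node (.node (.leaf 92) (.leaf 5250)) (.node (.leaf 3486) (.leaf 6869))) (.node (.node (.leaf 791) (.leaf 6022)) (.leaf 4097))) (.node (.node (.node (.leaf 1192) (.leaf 6359)) (.leaf 3347)) (.node (.node (.leaf 1087) (.leaf 6646)) (.leaf 4579)))) (.node (.node (.node (.node (.leaf 451) (.leaf 5685)) (.node (.leaf 3430) (.leaf 6988))) (.node (.node (.leaf 3741) (.leaf 6182)) (.leaf 5487))) (.node (.node (.node (.leaf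 1217) (.leaf 5834)) (.leaf 4032)) (.node (.node (.leaf 2314) (.leaf 6667)) (.leaf 5132))))) (.node (.node (.node (.node (.node (.leaf 1992) (.leaf 5183)) (.node (.leaf 1596) (.leaf 7001))) (.node (.node (.leaf 3834) (.leaf 6423)) (.leaf 3968))) (.node (.node (.node (.leaf 3353) (.leaf 6133)) (.leaf 5116)) (.node (.node (.leaf 3380) (.leaf 6790)) (.leaf 4687)))) (.node (.node (.node (.node (.leaf 726) (.leaf 5975)) (.leaf 2168)) (.node (.node (.leaf 1232) (.leaf 5883)) (.leaf 4439))) (.node (.node (.node (.leaf 1072) (.leaf 5854)) (.leaf 6748)) (.node (.node (.leaf 5404) (.leaf 6488)) (.leaf 5320))))))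
def dFin_33 : BT := .node dFin_31 dFin_32
def dFin_34 : BT := .node (.node (.node (.node (.node (.node (.node (.leaf 9) (.leaf 5229)) (.node (.leaf 2233) (.leaf 6524))) (.node (.node (.leaf 3682) (.leaf 5931)) (.leaf 4056))) (.node (.node (.node (.leaf 638) (.leaf 6219)) (.leaf 4198)) (.node (.node (.leaf 1004) (.leaf 6715)) (.leaf 4598)))) (.node (.node (.node (.node (.leaf 3666) (.leaf 5620)) (.node (.leaf 1777) (.leaf 7049))) (.node (.node (.leaf 795) (.leaf 6086)) (.leaf 4121))) (.node (.node (.node (.leaf 2358) (.leaf 6664)) (.leaf 3993)) (.node (.node (.leaf 1647) (.leaf 6818)) (.leaf 5563))))) (.node (.node (.node (.node (.node (.leaf 3699) (.leaf 5334)) (.node (.leaf 1491) (.leaf 6910))) (.node (.node (.leaf 1124) (.leaf 6474)) (.leaf 3943))) (.node (.node (.node (.leaf 1285) (.leaf 6039)) (.leaf 3376)) (.node (.node (.leaf 5516) (.leaf 6592)) (.leaf 4261)))) (.node (.node (.node (.node (.leaf 257) (.leaf 5709)) (.node (.leaf 1664) (.leaf 7096))) (.node (.node (.leaf 2037) (.leaf 6315))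 (.leaf 3928))) (.node (.node (.node (.leaf 5520) (.leaf 6213)) (.leaf 6676)) (.node (.node (.leaf 2353) (.leaf 6634)) (.leaf 5269)))))) (.node (.node (.node (.node (.node (.node (.leaf 281) (.leaf 5305)) (.node (.leaf 5100) (.leaf 6861))) (.node (.node (.leaf 5436) (.leaf 6142)) (.leaf 4140))) (.node (.node (.node (.leaf 2096) (.leaf 5796)) (.leaf 3339)) (.node (.node (.leaf 3786) (.leaf 6651)) (.leaf 4352)))) (.node (.node (.node (.node (.leaf 444) (.leaf 5669)) (.node (.leaf 5498) (.leaf 6970))) (.node (.node (.leaf 1064) (.leaf 5865)) (.leaf 5446))) (.node (.node (.node (.leaf 4628) (.leaf 5984)) (.leaf 4088)) (.node (.node (.leaf 1753) (.leaf 6568)) (.leaf 5122))))) (.node (.node (.node (.node (.node (.leaf 3592) (.leaf 5209)) (.node (.leaf 2326) (.leaf 6987))) (.node (.node (.leaf 1209) (.leaf 5845)) (.leaf 4024))) (.node (.node (.node (.leaf 1051) (.leaf 6276)) (.leaf 4175)) (.node (.node (.leaf 3514) (.leaf 6782)) (.leaf 5142)))) (.node (.node (.node (.node (.leaf 386) (.leaf 6095)) (.node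 (.leaf 3629) (.leaf 7132))) (.node (.node (.leaf 1265) (.leaf 6003)) (.leaf 4503))) (.node (.node (.node (.leaf 1184) (.leaf 6382)) (.leaf 3961)) (.node (.node (.leaf 1567) (.leaf 6493)) (.leaf 5313))))))
def dFin_35 : BT := .node (.node (.node (.node (.node (.node (.node (.leaf 2146) (.leaf 5346)) (.node (.leaf 1528) (.leaf 6843))) (.node (.node (.leaf 1155) (.leaf 6397)) (.leaf 5360))) (.node (.node (.node (.leaf 1289) (.leaf 6066)) (.leaf 3325)) (.node (.node (.leaf 2294) (.leaf 6605)) (.leaf 4480)))) (.node (.node (.node (.node (.leaf 3598) (.leaf 5660)) (.node (.leaf 3805) (.leaf 7009))) (.node (.node (.leaf 2080) (.leaf 5816)) (.leaf 4009))) (.node (.node (.node (.leaf 1020) (.leaf 6251)) (.leaf 4159)) (.node (.node (.leaf 3356) (.leaf 6810)) (.leaf 5121))))) (.node (.node (.node (.node (.node (.leaf 5534) (.leaf 5298)) (.node (.leaf 6153) (.leaf 6928))) (.node (.node (.leaf 2105) (.leaf 6115)) (.leaf 4136))) (.node (.node (.node (.leaf 2053) (.leaf 7087)) (.leaf 3398)) (.node (.node (.leaf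 1687) (.leaf 6671)) (.leaf 4277)))) (.node (.node (.node (.node (.leaf 550) (.leaf 6796)) (.node (.leaf 3524) (.leaf 7113))) (.node (.node (.leaf 1035) (.leaf 6256)) (.leaf 4597))) (.node (.node (.node (.leaf 4631) (.leaf 5957)) (.leaf 4073)) (.node (.node (.leaf 1710) (.leaf 6537)) (.leaf 5238)))))) (.node (.node (.node (.node (.node (.node (.leaf 2142) (.leaf 5218)) (.node (.leaf 2176) (.leaf 6943))) (.node (.node (.leaf 1240) (.leaf 5902)) (.leaf 4041))) (.node (.node (.node (.leaf 1080) (.leaf 5877)) (.leaf 3363)) (.node (.node (.leaf 5468) (.leaf 6691)) (.leaf 6222)))) (.node (.node (.node (.node (.leaf 290) (.leaf 5693)) (.node (.leaf 3627) (.leaf 7004))) (.node (.node (.leaf 2061) (.leaf 6060)) (.leaf 3912))) (.node (.node (.node (.leaf 3820) (.leaf 6365)) (.leaf 3976)) (.node (.node (.leaf 1608) (.leaf 6630)) (.leaf 5140))))) (.node (.node (.node (.node (.node (.leaf 408) (.leaf 5626)) (.node (.leaf 1452) (.leaf 7035))) (.node (.node (.leaf 1095) (.leaf 6414)) (.leaf 6476))) (.node (.node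 (.node (.leaf 6385) (.leaf 6013)) (.leaf 4105)) (.node (.node (.leaf 3516) (.leaf 6581)) (.leaf 4697)))) (.node (.node (.node (.node (.leaf 234) (.leaf 5825)) (.leaf 1627)) (.node (.node (.leaf 2374) (.leaf 6709)) (.leaf 4375))) (.node (.node (.node (.leaf 3757) (.leaf 6173)) (.leaf 6322)) (.node (.node (.leaf 4169) (.leaf 6500)) (.leaf 5315))))))
def dFin_36 : BT := .node dFin_34 dFin_35
def dFin_37 : BT := .node dFin_33 dFin_36
def dFin_38 : BT := .node (.node (.node (.node (.node (.node (.node (.leaf 5) (.leaf 5245)) (.node (.leaf 1745) (.leaf 6514))) (.node (.node (.leaf 4642) (.leaf 5991)) (.leaf 4084))) (.node (.node (.node (.leaf 422) (.leaf 6224)) (.leaf 5540)) (.node (.node (.leaf 1060) (.leaf 6564)) (.leaf 5445)))) (.node (.node (.node (.node (.leaf 295) (.leaf 5639)) (.node (.leaf 1315) (.leaf 7045))) (.node (.node (.leaf 5380) (.leaf 6146)) (.leaf 6302))) (.node (.node (.node (.leaf 2092) (.leaf 5803)) (.leaf 4021)) (.node (.node (.leaf 3797) (.leaf 6464)) (.leaf 4711))))) (.node (.node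 (.node (.node (.node (.leaf 2004) (.leaf 5363)) (.node (.leaf 1563) (.leaf 6915))) (.node (.node (.leaf 1180) (.leaf 6425)) (.leaf 3957))) (.node (.node (.node (.leaf 3611) (.leaf 6099)) (.leaf 3849)) (.node (.node (.leaf 4677) (.leaf 6703)) (.leaf 4257)))) (.node (.node (.node (.node (.leaf 3650) (.leaf 5705)) (.node (.leaf 2330) (.leaf 7091))) (.node (.node (.leaf 1205) (.leaf 5850)) (.leaf 3924))) (.node (.node (.node (.leaf 1047) (.leaf 6272)) (.leaf 4157)) (.node (.node (.leaf 3474) (.leaf 6628)) (.leaf 5279)))))) (.node (.node (.node (.node (.node (.node (.leaf 748) (.leaf 5326)) (.node (.leaf 1311) (.leaf 6857))) (.node (.node (.leaf 5472) (.leaf 6206)) (.leaf 6816))) (.node (.node (.node (.leaf 1252) (.leaf 5886)) (.leaf 3335)) (.node (.node (.leaf 2033) (.leaf 6654)) (.leaf 4384)))) (.node (.node (.node (.node (.leaf 3596) (.leaf 6874)) (.node (.leaf 1487) (.leaf 6960))) (.node (.node (.leaf 1120) (.leaf 6321)) (.leaf 3939))) (.node (.node (.node (.leaf 4600) (.leaf 6044)) (.leaf 4116))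 (.node (.node (.leaf 3494) (.leaf 6588)) (.leaf 5114))))) (.node (.node (.node (.node (.node (.leaf 1990) (.leaf 5225)) (.node (.leaf 2229) (.leaf 6940))) (.node (.node (.leaf 3736) (.leaf 5935)) (.leaf 4052))) (.node (.node (.node (.leaf 1107) (.leaf 6357)) (.leaf 4165)) (.node (.node (.leaf 1471) (.leaf 6778)) (.leaf 4674)))) (.node (.node (.node (.node (.leaf 3582) (.leaf 6157)) (.node (.leaf 3624) (.leaf 7128))) (.node (.node (.leaf 2101) (.leaf 6063)) (.leaf 4535))) (.node (.node (.node (.leaf 2362) (.leaf 6378)) (.leaf 3989)) (.node (.node (.leaf 1639) (.leaf 6468)) (.leaf 5564))))))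
def dFin_39 : BT := .node (.node (.node (.node (.node (.node (.node (.leaf 2012) (.leaf 5187)) (.node (.leaf 1600) (.leaf 6841))) (.node (.node (.leaf 3824) (.leaf 6403)) (.leaf 3972))) (.node (.node (.node (.leaf 780) (.leaf 6126)) (.leaf 3852)) (.node (.node (.leaf 5507) (.leaf 6729)) (.leaf 4512)))) (.node (.node (.node (.node (.leaf 2275) (.leaf 5657)) (.node (.leaf 2172) (.leaf 6957))) (.node (.node (.leaf 1236) (.leaf 5906)) (.leaf 4037))) (.node (.node (.node (.leaf 1076) (.leaf 5870)) (.leaf 6338)) (.node (.node (.leaf 5557) (.leaf 6806)) (.leaf 6284))))) (.node (.node (.node (.node (.node (.leaf 464) (.leaf 5325)) (.node (.leaf 1313) (.leaf 6924))) (.node (.node (.leaf 3753) (.leaf 6177)) (.leaf 6420))) (.node (.node (.node (.leaf 1221) (.leaf 5829)) (.leaf 3394)) (.node (.node (.leaf 2310) (.leaf 6794)) (.leaf 4273)))) (.node (.node (.node (.node (.leaf 400) (.leaf 6278)) (.node (.leaf 1448) (.leaf 7109))) (.node (.node (.leaf 1091) (.leaf 6191)) (.leaf 4558))) (.node (.node (.node (.leaf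 6470) (.leaf 6017)) (.leaf 4101)) (.node (.node (.leaf 3476) (.leaf 6577)) (.leaf 5254)))))) (.node (.node (.node (.node (.node (.node (.leaf 1996) (.leaf 5234)) (.node (.leaf 1706) (.leaf 6873))) (.node (.node (.leaf 6879) (.leaf 5962)) (.leaf 4069))) (.node (.node (.node (.leaf 1136) (.leaf 6328)) (.leaf 3770)) (.node (.node (.leaf 1031) (.leaf 6687)) (.leaf 5095)))) (.node (.node (.node (.node (.leaf 5538) (.leaf 5689)) (.node (.leaf 2979) (.leaf 6992))) (.node (.node (.leaf 797) (.leaf 6120)) (.leaf 3908))) (.node (.node (.node (.leaf 2049) (.leaf 7014)) (.leaf 4004)) (.node (.node (.leaf 1680) (.leaf 6466)) (.leaf 5136))))) (.node (.node (.node (.node (.node (.leaf 2255) (.leaf 5643)) (.node (.leaf 1524) (.leaf 7031))) (.node (.node (.leaf 1151) (.leaf 6427)) (.leaf 5394))) (.node (.node (.node (.leaf 1283) (.leaf 6073)) (.leaf 4133)) (.node (.node (.leaf 2335) (.leaf 6601)) (.leaf 4693)))) (.node (.node (.node (.node (.leaf 3646) (.leaf 5915)) (.leaf 3556)) (.node (.node (.leaf 2076) (.leaf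 5793)) (.leaf 4407))) (.node (.node (.node (.leaf 1016) (.leaf 6244)) (.leaf 6771)) (.node (.node (.leaf 4167) (.leaf 6496)) (.leaf 5387))))))
def dFin_40 : BT := .node dFin_38 dFin_39
def dFin_41 : BT := .node (.node (.node (.node (.node (.node (.node (.leaf 3707) (.leaf 5213)) (.node (.leaf 2322) (.leaf 6837))) (.node (.node (.leaf 1213) (.leaf 5841)) (.leaf 4028))) (.node (.node (.node (.leaf 453) (.leaf 6227)) (.leaf 5647)) (.node (.node (.leaf 3781) (.leaf 6719)) (.leaf 4644)))) (.node (.node (.node (.node (.leaf 3374) (.leaf 5650)) (.node (.leaf 3528) (.leaf 7053))) (.node (.node (.leaf 2298) (.leaf 6026)) (.leaf 4093))) (.node (.node (.node (.leaf 1188) (.leaf 6432)) (.leaf 3965)) (.node (.node (.leaf 1575) (.leaf 6519)) (.leaf 5139))))) (.node (.node (.node (.node (.node (.leaf 436) (.leaf 5401)) (.node (.leaf 5426) (.leaf 6916))) (.node (.node (.leaf 1068) (.leaf 5858)) (.leaf 6413))) (.node (.node (.node (.leaf 3623) (.leaf 5979)) (.leaf 3386)) (.node (.node (.leaf 1758) (.leaf 6572))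 (.leaf 4265)))) (.node (.node (.node (.node (.leaf 2218) (.leaf 5713)) (.node (.leaf 1592) (.leaf 7055))) (.node (.node (.leaf 3838) (.leaf 6313)) (.leaf 3932))) (.node (.node (.node (.leaf 5474) (.leaf 6137)) (.leaf 6348)) (.node (.node (.leaf 3437) (.leaf 6638)) (.leaf 5273)))))) (.node (.node (.node (.node (.node (.node (.leaf 3727) (.leaf 5291)) (.node (.leaf 5088) (.leaf 6865))) (.node (.node (.leaf 2065) (.leaf 6082)) (.leaf 4125))) (.node (.node (.node (.leaf 2256) (.leaf 6346)) (.leaf 3343)) (.node (.node (.leaf 1143) (.leaf 6675)) (.leaf 5552)))) (.node (.node (.node (.node (.leaf 646) (.leaf 6952)) (.node (.leaf 3370) (.leaf 6982))) (.node (.node (.leaf 1008) (.leaf 6235)) (.leaf 5483))) (.node (.node (.node (.leaf 3572) (.leaf 5924)) (.leaf 4060)) (.node (.node (.leaf 2241) (.leaf 6528)) (.leaf 5126))))) (.node (.node (.node (.node (.node (.leaf 261) (.leaf 5193)) (.node (.leaf 1668) (.leaf 7095))) (.node (.node (.leaf 2041) (.leaf 6902)) (.leaf 3996))) (.node (.node (.node (.leaf 5528)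 (.leaf 6217)) (.leaf 4161)) (.node (.node (.leaf 1807) (.leaf 6786)) (.leaf 4683)))) (.node (.node (.node (.node (.leaf 542) (.leaf 6035)) (.node (.leaf 1698) (.leaf 7136))) (.node (.node (.leaf 5432) (.leaf 5943)) (.leaf 4471))) (.node (.node (.node (.leaf 1128) (.leaf 6643)) (.leaf 3947)) (.node (.node (.leaf 1495) (.leaf 6484)) (.leaf 5146))))))
def dFin_42 : BT := .node (.node (.node (.node (.node (.node (.node (.leaf 414) (.leaf 5148)) (.node (.leaf 1456) (.leaf 6849))) (.node (.node (.leaf 1099) (.leaf 6490)) (.leaf 6822))) (.node (.node (.node (.leaf 2192) (.leaf 6006)) (.leaf 3329)) (.node (.node (.leaf 3678) (.leaf 6585)) (.leaf 4448)))) (.node (.node (.node (.node (.leaf 238) (.leaf 5665)) (.node (.leaf 1631) (.leaf 6973))) (.node (.node (.leaf 2370) (.leaf 6299)) (.leaf 3981))) (.node (.node (.node (.leaf 3769) (.leaf 6166)) (.leaf 6351)) (.node (.node (.leaf 1301) (.leaf 6801)) (.leaf 5106))))) (.node (.node (.node (.node (.node (.leaf 296) (.leaf 5257)) (.node (.leaf 2984) (.leaf 6932)))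 (.node (.node (.leaf 793) (.leaf 6055)) (.leaf 4108))) (.node (.node (.node (.leaf 3808) (.leaf 6430)) (.leaf 3402)) (.node (.node (.leaf 1615) (.leaf 6682)) (.leaf 4281)))) (.node (.node (.node (.node (.leaf 734) (.leaf 5881)) (.node (.leaf 3612) (.leaf 7121))) (.node (.node (.leaf 5412) (.leaf 6197)) (.leaf 5756))) (.node (.node (.node (.leaf 1244) (.leaf 5897)) (.leaf 4045)) (.node (.node (.leaf 2180) (.leaf 6826)) (.leaf 5222)))))) (.node (.node (.node (.node (.node (.node (.leaf 3709) (.leaf 5202)) (.node (.leaf 3841) (.leaf 6895))) (.node (.node (.leaf 2084) (.leaf 5812)) (.leaf 4013))) (.node (.node (.node (.leaf 1024) (.leaf 6230)) (.leaf 3379)) (.node (.node (.leaf 1805) (.leaf 6697)) (.leaf 4572)))) (.node (.node (.node (.node (.leaf 179) (.leaf 5697)) (.node (.leaf 1737) (.leaf 7016))) (.node (.node (.leaf 1269) (.leaf 6000)) (.leaf 3916))) (.node (.node (.node (.leaf 1159) (.leaf 6363)) (.leaf 5366)) (.node (.node (.leaf 1536) (.leaf 6558)) (.leaf 5144))))) (.node (.node (.node (.node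 (.node (.leaf 558) (.leaf 5629)) (.node (.leaf 3482) (.leaf 7039))) (.node (.node (.leaf 1039) (.leaf 6263)) (.leaf 6480))) (.node (.node (.node (.leaf 3532) (.leaf 5953)) (.leaf 4077)) (.node (.node (.leaf 1718) (.leaf 6541)) (.leaf 4701)))) (.node (.node (.node (.node (.leaf 2127) (.leaf 6958)) (.leaf 1555)) (.node (.node (.leaf 1172) (.leaf 6672)) (.leaf 4343))) (.node (.node (.node (.leaf 2109) (.leaf 6111)) (.leaf 4142)) (.node (.node (.leaf 6739) (.leaf 6504)) (.leaf 5294))))))
def dFin_43 : BT := .node dFin_41 dFin_42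
def dFin_44 : BT := .node dFin_40 dFin_43
def dFin_45 : BT := .node dFin_37 dFin_44
def dFin_46 : BT := .node (.node (.node (.node (.node (.node (.node (.leaf 3) (.leaf 5253)) (.node (.leaf 3468) (.leaf 6512))) (.node (.node (.leaf 1279) (.leaf 6021)) (.leaf 4098))) (.node (.node (.node (.leaf 392) (.leaf 5723)) (.leaf 1447)) (.node (.node (.leaf 1088) (.leaf 6705)) (.leaf 5645)))) (.node (.node (.node (.node (.leaf 467) (.leaf 5637)) (.node (.leaf 3428) (.leaf 7043))) (.node (.node (.leaf 3744) (.leaf 6178)) (.leaf 6311))) (.node (.node (.node (.leaf 1218) (.leaf 5833)) (.leaf 4035)) (.node (.node (.leaf 2313) (.leaf 6799)) (.leaf 4709))))) (.node (.node (.node (.node (.node (.leaf 2002) (.leaf 5184)) (.node (.leaf 1599) (.leaf 6944))) (.node (.node (.leaf 3827) (.leaf 6409)) (.leaf 3971))) (.node (.node (.node (.leaf 3609) (.leaf 6129)) (.leaf 3364)) (.node (.node (.leaf 2306) (.leaf 6701)) (.leaf 4255)))) (.node (.node (.node (.node (.leaf 2273) (.leaf 5703)) (.node (.leaf 2171) (.leaf 7088)))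 (.node (.node (.leaf 1235) (.leaf 5910)) (.leaf 3922))) (.node (.node (.node (.leaf 1075) (.leaf 5869)) (.leaf 6330)) (.node (.node (.leaf 5560) (.leaf 6624)) (.leaf 5286)))))) (.node (.node (.node (.node (.node (.node (.leaf 656) (.leaf 7101)) (.node (.leaf 5102) (.leaf 6855))) (.node (.node (.leaf 1015) (.leaf 6243)) (.leaf 6607))) (.node (.node (.node (.leaf 3636) (.leaf 5916)) (.leaf 3792)) (.node (.node (.leaf 2075) (.leaf 6535)) (.leaf 4400)))) (.node (.node (.node (.node (.leaf 2260) (.leaf 5681)) (.node (.leaf 1523) (.leaf 6954))) (.node (.node (.leaf 1148) (.leaf 6297)) (.leaf 5422))) (.node (.node (.node (.leaf 785) (.leaf 6074)) (.leaf 4130)) (.node (.node (.leaf 2337) (.leaf 6598)) (.leaf 5112))))) (.node (.node (.node (.node (.node (.leaf 5508) (.leaf 5233)) (.node (.leaf 1705) (.leaf 6938))) (.node (.node (.leaf 6884) (.leaf 5965)) (.leaf 4066))) (.node (.node (.node (.leaf 1135) (.leaf 6341)) (.leaf 3850)) (.node (.node (.leaf 1507) (.leaf 6776)) (.leaf 4681)))) (.node (.node (.node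 (.node (.leaf 5544) (.leaf 6189)) (.node (.leaf 3620) (.leaf 7126))) (.node (.node (.leaf 5715) (.leaf 6093)) (.leaf 4553))) (.node (.node (.node (.leaf 2046) (.leaf 6374)) (.leaf 4003)) (.node (.node (.leaf 1675) (.leaf 6623)) (.leaf 5198))))))
def dFin_47 : BT := .node (.node (.node (.node (.node (.node (.node (.leaf 98) (.leaf 5567)) (.node (.leaf 1636) (.leaf 6831))) (.node (.node (.leaf 2365) (.leaf 6478)) (.leaf 3986))) (.node (.node (.node (.leaf 3644) (.leaf 6158)) (.leaf 3323)) (.node (.node (.leaf 2099) (.leaf 6727)) (.leaf 4528)))) (.node (.node (.node (.node (.leaf 1977) (.leaf 5654)) (.node (.leaf 2226) (.leaf 7025))) (.node (.node (.leaf 3738) (.leaf 5936)) (.leaf 4051))) (.node (.node (.node (.leaf 1104) (.leaf 6653)) (.leaf 6732)) (.node (.node (.leaf 1467) (.leaf 6804)) (.leaf 5067))))) (.node (.node (.node (.node (.node (.leaf 746) (.leaf 5329)) (.node (.leaf 4585) (.leaf 6922))) (.node (.node (.leaf 5440) (.leaf 6205)) (.leaf 6472))) (.node (.node (.node (.leaf 1251) (.leaf 5889))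 (.leaf 3392)) (.node (.node (.leaf 2191) (.leaf 6743)) (.leaf 4271)))) (.node (.node (.node (.node (.leaf 3648) (.leaf 6368)) (.node (.leaf 1484) (.leaf 7107))) (.node (.node (.leaf 1119) (.leaf 6319)) (.leaf 3936))) (.node (.node (.node (.leaf 5484) (.leaf 6047)) (.leaf 4115)) (.node (.node (.leaf 3413) (.leaf 6587)) (.leaf 5262)))))) (.node (.node (.node (.node (.node (.node (.leaf 302) (.leaf 5242)) (.node (.leaf 1742) (.leaf 6871))) (.node (.node (.leaf 6906) (.leaf 5992)) (.leaf 4083))) (.node (.node (.node (.leaf 1164) (.leaf 6334)) (.leaf 5550)) (.node (.node (.leaf 1059) (.leaf 6563)) (.leaf 4581)))) (.node (.node (.node (.node (.leaf 292) (.leaf 5687)) (.node (.leaf 4582) (.leaf 6990))) (.node (.node (.leaf 1271) (.leaf 6150)) (.leaf 5450))) (.node (.node (.node (.leaf 2091) (.leaf 5804)) (.leaf 4018)) (.node (.node (.leaf 3800) (.leaf 6648)) (.leaf 5134))))) (.node (.node (.node (.node (.node (.leaf 1994) (.leaf 5624)) (.node (.leaf 1560) (.leaf 7007))) (.node (.node (.leaf 1179) (.leaf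 6405)) (.leaf 3954))) (.node (.node (.node (.leaf 4588) (.leaf 6103)) (.leaf 4149)) (.node (.node (.leaf 6974) (.leaf 6792)) (.leaf 4689)))) (.node (.node (.node (.node (.leaf 181) (.leaf 5945)) (.leaf 2333)) (.node (.node (.leaf 1202) (.leaf 5823)) (.leaf 4423))) (.node (.node (.node (.leaf 1044) (.leaf 6268)) (.leaf 3863)) (.node (.node (.leaf 3458) (.leaf 6494)) (.leaf 6980))))))
def dFin_48 : BT := .node dFin_46 dFin_47
def dFin_49 : BT := .node (.node (.node (.node (.node (.node (.node (.leaf 11) (.leaf 5221)) (.node (.leaf 2179) (.leaf 6835))) (.node (.node (.leaf 1243) (.leaf 5901)) (.leaf 4042))) (.node (.node (.node (.leaf 730) (.leaf 5878)) (.leaf 5461)) (.node (.node (.leaf 5434) (.leaf 6717)) (.leaf 6295)))) (.node (.node (.node (.node (.leaf 305) (.leaf 5618)) (.node (.leaf 2969) (.leaf 7051))) (.node (.node (.leaf 2063) (.leaf 6056)) (.leaf 4107))) (.node (.node (.node (.leaf 3811) (.leaf 6428)) (.leaf 3979)) (.node (.node (.leaf 1611) (.leaf 6644)) (.leaf 4715))))) (.node (.node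 (.node (.node (.node (.leaf 412) (.leaf 5340)) (.node (.leaf 1455) (.leaf 6912))) (.node (.node (.leaf 1096) (.leaf 6615)) (.leaf 5415))) (.node (.node (.node (.leaf 3619) (.leaf 6009)) (.leaf 3382)) (.node (.node (.leaf 3550) (.leaf 6582)) (.leaf 4263)))) (.node (.node (.node (.node (.leaf 237) (.leaf 5711)) (.node (.leaf 1628) (.leaf 7099))) (.node (.node (.leaf 2373) (.leaf 6377)) (.leaf 3930))) (.node (.node (.node (.leaf 3758) (.leaf 6169)) (.leaf 6326)) (.node (.node (.leaf 3855) (.leaf 6636)) (.leaf 5271)))))) (.node (.node (.node (.node (.node (.node (.leaf 5542) (.leaf 5297)) (.node (.leaf 6361) (.leaf 6863))) (.node (.node (.leaf 2107) (.leaf 6112)) (.leaf 4139))) (.node (.node (.node (.leaf 2054) (.leaf 6393)) (.leaf 3341)) (.node (.node (.leaf 1171) (.leaf 6439)) (.leaf 4336)))) (.node (.node (.node (.node (.leaf 554) (.leaf 5719)) (.node (.leaf 3502) (.leaf 6976))) (.node (.node (.leaf 1036) (.leaf 6259)) (.leaf 5479))) (.node (.node (.node (.leaf 4632) (.leaf 5954)) (.leaf 4074))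 (.node (.node (.leaf 1717) (.leaf 6538)) (.leaf 5124))))) (.node (.node (.node (.node (.node (.leaf 3594) (.leaf 5201)) (.node (.leaf 3798) (.leaf 6948))) (.node (.node (.leaf 2083) (.leaf 5815)) (.leaf 4010))) (.node (.node (.node (.leaf 1023) (.leaf 6252)) (.leaf 4173)) (.node (.node (.leaf 4576) (.leaf 6784)) (.leaf 5431)))) (.node (.node (.node (.node (.leaf 418) (.leaf 6065)) (.node (.leaf 1734) (.leaf 7134))) (.node (.node (.leaf 799) (.leaf 5973)) (.leaf 4487))) (.node (.node (.node (.leaf 1156) (.leaf 6386)) (.leaf 5356)) (.node (.node (.leaf 1531) (.leaf 6482)) (.leaf 5317))))))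
def dFin_50 : BT := .node (.node (.node (.node (.node (.node (.node (.leaf 3725) (.leaf 5342)) (.node (.leaf 1492) (.leaf 6847))) (.node (.node (.leaf 1127) (.leaf 6610)) (.leaf 3944))) (.node (.node (.node (.leaf 3351) (.leaf 6036)) (.leaf 3327)) (.node (.node (.leaf 5515) (.leaf 6595)) (.leaf 4464)))) (.node (.node (.node (.node (.leaf 258) (.leaf 5662)) (.node (.leaf 1667) (.leaf 6969))) (.node (.node (.leaf 2038) (.leaf 6401)) (.leaf 3995))) (.node (.node (.node (.leaf 5500) (.leaf 6214)) (.leaf 3859)) (.node (.node (.leaf 2348) (.leaf 6657)) (.leaf 5104))))) (.node (.node (.node (.node (.node (.leaf 3705) (.leaf 5292)) (.node (.leaf 4231) (.leaf 6930))) (.node (.node (.leaf 1275) (.leaf 6085)) (.leaf 4122))) (.node (.node (.node (.leaf 2357) (.leaf 6353)) (.leaf 3400)) (.node (.node (.leaf 1651) (.leaf 6821)) (.leaf 5554)))) (.node (.node (.node (.node (.leaf 642) (.leaf 6389)) (.node (.leaf 3633) (.leaf 7118))) (.node (.node (.leaf 1007) (.leaf 6232)) (.leaf 4566))) (.node (.node (.node (.leaf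 3640) (.leaf 5927)) (.leaf 4059)) (.node (.node (.leaf 2234) (.leaf 6527)) (.leaf 5230)))))) (.node (.node (.node (.node (.node (.node (.leaf 13) (.leaf 5210)) (.node (.leaf 2325) (.leaf 6904))) (.node (.node (.leaf 1210) (.leaf 5842)) (.leaf 4027))) (.node (.node (.node (.leaf 1052) (.leaf 6254)) (.leaf 3406)) (.node (.node (.leaf 3778) (.leaf 6693)) (.leaf 4233)))) (.node (.node (.node (.node (.leaf 397) (.leaf 5695)) (.node (.leaf 3562) (.leaf 7011))) (.node (.node (.leaf 2296) (.leaf 6030)) (.leaf 3914))) (.node (.node (.node (.leaf 1187) (.leaf 5733)) (.leaf 3962)) (.node (.node (.leaf 1572) (.leaf 6613)) (.leaf 5283))))) (.node (.node (.node (.node (.node (.leaf 439) (.leaf 6880)) (.node (.leaf 5458) (.leaf 7037))) (.node (.node (.leaf 1067) (.leaf 5861)) (.leaf 6306))) (.node (.node (.node (.leaf 4569) (.leaf 5983)) (.leaf 4091)) (.node (.node (.leaf 1754) (.leaf 6571)) (.leaf 4699)))) (.node (.node (.node (.node (.leaf 2221) (.leaf 5795)) (.leaf 1591)) (.node (.node (.leaf 3789) (.leaf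 6669)) (.leaf 4359))) (.node (.node (.node (.leaf 789) (.leaf 6141)) (.leaf 3864)) (.node (.node (.leaf 4171) (.leaf 6502)) (.leaf 5300))))))
def dFin_51 : BT := .node dFin_49 dFin_50
def dFin_52 : BT := .node dFin_48 dFin_51
def dFin_53 : BT := .node (.node (.node (.node (.node (.node (.node (.leaf 7) (.leaf 5237)) (.node (.leaf 1709) (.leaf 6522))) (.node (.node (.leaf 5631) (.leaf 5961)) (.leaf 4070))) (.node (.node (.node (.leaf 546) (.leaf 6324)) (.leaf 3558)) (.node (.node (.leaf 1032) (.leaf 6713)) (.leaf 4602)))) (.node (.node (.node (.node (.leaf 5512) (.leaf 5641)) (.node (.leaf 2977) (.leaf 7047))) (.node (.node (.leaf 1273) (.leaf 6116)) (.leaf 4135))) (.node (.node (.node (.leaf 2050) (.leaf 6395)) (.leaf 4007)) (.node (.node (.leaf 1683) (.leaf 6825)) (.leaf 4713))))) (.node (.node (.node (.node (.node (.leaf 2144) (.leaf 5332)) (.node (.leaf 1527) (.leaf 6908))) (.node (.node (.leaf 1152) (.leaf 5742)) (.leaf 5372))) (.node (.node (.node (.leaf 3615) (.leaf 6069)) (.leaf 3372)) (.node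 (.node (.leaf 2309) (.leaf 6602)) (.leaf 4259)))) (.node (.node (.node (.node (.leaf 3652) (.leaf 5707)) (.node (.leaf 3807) (.leaf 7093))) (.node (.node (.leaf 2079) (.leaf 5820)) (.leaf 3926))) (.node (.node (.node (.leaf 1019) (.leaf 6248)) (.leaf 3861)) (.node (.node (.leaf 1308) (.leaf 6632)) (.leaf 5409)))))) (.node (.node (.node (.node (.node (.node (.leaf 469) (.leaf 5322)) (.node (.leaf 1781) (.leaf 6859))) (.node (.node (.leaf 3754) (.leaf 6174)) (.leaf 6317))) (.node (.node (.node (.leaf 1222) (.leaf 5826)) (.leaf 3337)) (.node (.node (.leaf 2253) (.leaf 6661)) (.leaf 4368)))) (.node (.node (.node (.node (.leaf 404) (.leaf 5676)) (.node (.leaf 1451) (.leaf 6966))) (.node (.node (.leaf 1092) (.leaf 6301)) (.leaf 5471))) (.node (.node (.node (.leaf 6399) (.leaf 6014)) (.leaf 4102)) (.node (.node (.leaf 3496) (.leaf 6578)) (.leaf 5118))))) (.node (.node (.node (.node (.node (.leaf 2283) (.leaf 5217)) (.node (.leaf 2175) (.leaf 7013))) (.node (.node (.leaf 1239) (.leaf 5905)) (.leaf 4038)))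 (.node (.node (.node (.leaf 1079) (.leaf 5873)) (.leaf 5098)) (.node (.node (.leaf 5518) (.leaf 6780)) (.leaf 4667)))) (.node (.node (.node (.node (.leaf 277) (.leaf 6125)) (.node (.leaf 1319) (.leaf 7130))) (.node (.node (.leaf 2059) (.leaf 6033)) (.leaf 4519))) (.node (.node (.node (.leaf 3823) (.leaf 5738)) (.leaf 3975)) (.node (.node (.leaf 1603) (.leaf 6608)) (.leaf 5188))))))
def dFin_54 : BT := .node (.node (.node (.node (.node (.node (.node (.leaf 2014) (.leaf 6741)) (.node (.leaf 1564) (.leaf 6845))) (.node (.node (.leaf 1183) (.leaf 5740)) (.leaf 3958))) (.node (.node (.node (.leaf 779) (.leaf 6096)) (.leaf 3847)) (.node (.node (.leaf 801) (.leaf 6731)) (.leaf 4496)))) (.node (.node (.node (.node (.leaf 177) (.leaf 5658)) (.node (.leaf 2329) (.leaf 6963))) (.node (.node (.leaf 1206) (.leaf 5846)) (.leaf 4023))) (.node (.node (.node (.leaf 1048) (.leaf 6275)) (.leaf 6707)) (.node (.node (.leaf 3492) (.leaf 6808)) (.leaf 5131))))) (.node (.node (.node (.node (.node (.leaf 298) (.leaf 5306))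 (.node (.leaf 1779) (.leaf 6926))) (.node (.node (.leaf 6828) (.leaf 6145)) (.leaf 6417))) (.node (.node (.node (.leaf 2095) (.leaf 5799)) (.leaf 3396)) (.node (.node (.leaf 3794) (.leaf 6441)) (.leaf 4275)))) (.node (.node (.node (.node (.leaf 425) (.leaf 5721)) (.node (.leaf 5526) (.leaf 7111))) (.node (.node (.leaf 1063) (.leaf 5866)) (.leaf 4560))) (.node (.node (.node (.leaf 5488) (.leaf 5987)) (.leaf 4087)) (.node (.node (.leaf 1746) (.leaf 6567)) (.leaf 5246)))))) (.node (.node (.node (.node (.node (.node (.leaf 1998) (.leaf 5226)) (.node (.leaf 2230) (.leaf 6877))) (.node (.node (.leaf 3720) (.leaf 5932)) (.leaf 4055))) (.node (.node (.node (.leaf 1108) (.leaf 6345)) (.leaf 3369)) (.node (.node (.leaf 1003) (.leaf 6689)) (.leaf 4239)))) (.node (.node (.node (.node (.leaf 3546) (.leaf 5691)) (.node (.leaf 1317) (.leaf 6998))) (.node (.node (.leaf 2103) (.leaf 6090)) (.leaf 3910))) (.node (.node (.node (.leaf 2361) (.leaf 6734)) (.leaf 3990)) (.node (.node (.leaf 1644) (.leaf 6626)) (.leaf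 5559))))) (.node (.node (.node (.node (.node (.leaf 3588) (.leaf 5573)) (.node (.leaf 1488) (.leaf 7032))) (.node (.node (.leaf 1123) (.leaf 6309)) (.leaf 3940))) (.node (.node (.node (.leaf 783) (.leaf 6043)) (.leaf 4119)) (.node (.node (.leaf 3349) (.leaf 6591)) (.leaf 4695)))) (.node (.node (.node (.node (.leaf 254) (.leaf 5885)) (.leaf 1663)) (.node (.node (.leaf 2034) (.leaf 6711)) (.leaf 4391))) (.node (.node (.node (.leaf 5490) (.leaf 6209)) (.leaf 6773)) (.node (.node (.leaf 1783) (.leaf 6498)) (.leaf 5311))))))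
def dFin_55 : BT := .node dFin_53 dFin_54
def dFin_56 : BT := .node (.node (.node (.node (.node (.node (.node (.leaf 3723) (.leaf 5205)) (.node (.leaf 3844) (.leaf 6839))) (.node (.node (.leaf 2087) (.leaf 5811)) (.leaf 4014))) (.node (.node (.node (.leaf 286) (.leaf 6229)) (.leaf 3317)) (.node (.node (.leaf 1263) (.leaf 6721)) (.leaf 5449)))) (.node (.node (.node (.node (.leaf 307) (.leaf 5649)) (.node (.leaf 1738) (.leaf 7029))) (.node (.node (.leaf 5717) (.leaf 5996)) (.leaf 4079))) (.node (.node (.node (.leaf 1160) (.leaf 5731)) (.leaf 5378)) (.node (.node (.leaf 1539) (.leaf 6557)) (.leaf 5092))))) (.node (.node (.node (.node (.node (.leaf 562) (.leaf 7116)) (.node (.leaf 3464) (.leaf 6918))) (.node (.node (.leaf 1040) (.leaf 6264)) (.leaf 4154))) (.node (.node (.node (.leaf 3566) (.leaf 5949)) (.leaf 3390)) (.node (.node (.leaf 1722) (.leaf 6542)) (.leaf 4267)))) (.node (.node (.node (.node (.leaf 2124) (.leaf 6280)) (.node (.leaf 1556) (.leaf 7102))) (.node (.node (.leaf 1175) (.leaf 6381))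 (.leaf 3934))) (.node (.node (.node (.leaf 787) (.leaf 6107)) (.leaf 4145)) (.node (.node (.leaf 5402) (.leaf 6640)) (.leaf 5275)))))) (.node (.node (.node (.node (.node (.node (.leaf 52) (.leaf 5258)) (.node (.leaf 3484) (.leaf 6867))) (.node (.node (.leaf 1277) (.leaf 6052)) (.leaf 4111))) (.node (.node (.node (.leaf 3606) (.leaf 5725)) (.leaf 3345)) (.node (.node (.leaf 1115) (.leaf 6679)) (.leaf 4283)))) (.node (.node (.node (.node (.leaf 738) (.leaf 5683)) (.node (.leaf 2989) (.leaf 6984))) (.node (.node (.leaf 5390) (.leaf 6198)) (.leaf 4150))) (.node (.node (.node (.leaf 1247) (.leaf 5894)) (.leaf 4046)) (.node (.node (.leaf 2187) (.leaf 6616)) (.leaf 5128))))) (.node (.node (.node (.node (.node (.leaf 241) (.leaf 5571)) (.node (.leaf 1632) (.leaf 6995))) (.node (.node (.leaf 2369) (.leaf 6419)) (.leaf 3982))) (.node (.node (.node (.leaf 3772) (.leaf 6165)) (.leaf 3857)) (.node (.node (.leaf 1789) (.leaf 6788)) (.leaf 4685)))) (.node (.node (.node (.node (.leaf 634) (.leaf 6005)) (.node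 (.leaf 2196) (.leaf 7114))) (.node (.node (.leaf 3716) (.leaf 5913)) (.leaf 4455))) (.node (.node (.node (.leaf 1100) (.leaf 6390)) (.leaf 6745)) (.node (.node (.leaf 1459) (.leaf 6486)) (.leaf 5318))))))
def dFin_57 : BT := .node (.node (.node (.node (.node (.node (.node (.leaf 441) (.leaf 5344)) (.node (.leaf 5398) (.leaf 6851))) (.node (.node (.leaf 1071) (.leaf 5857)) (.leaf 6768))) (.node (.node (.node (.leaf 2285) (.leaf 5976)) (.leaf 3331)) (.node (.node (.leaf 1231) (.leaf 6575)) (.leaf 4432)))) (.node (.node (.node (.node (.leaf 2201) (.leaf 5667)) (.node (.leaf 1595) (.leaf 6979))) (.node (.node (.leaf 3837) (.leaf 5748)) (.leaf 3967))) (.node (.node (.node (.leaf 4624) (.leaf 6134)) (.leaf 6342)) (.node (.node (.leaf 3410) (.leaf 6812)) (.leaf 5108))))) (.node (.node (.node (.node (.node (.leaf 1287) (.leaf 5249)) (.node (.leaf 3506) (.leaf 6934))) (.node (.node (.leaf 2300) (.leaf 6025)) (.leaf 4094))) (.node (.node (.node (.leaf 1191) (.leaf 6355)) (.leaf 3404)) (.node (.node (.leaf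 1579) (.leaf 6516)) (.leaf 4679)))) (.node (.node (.node (.node (.leaf 448) (.leaf 6185)) (.node (.leaf 3616) (.leaf 7122))) (.node (.node (.leaf 3742) (.leaf 6155)) (.leaf 4570))) (.node (.node (.node (.leaf 1214) (.leaf 5837)) (.leaf 4031)) (.node (.node (.leaf 2321) (.leaf 6725)) (.leaf 5214)))))) (.node (.node (.node (.node (.node (.node (.leaf 56) (.leaf 5194)) (.node (.leaf 1671) (.leaf 6898))) (.node (.node (.leaf 2042) (.leaf 6411)) (.leaf 3999))) (.node (.node (.node (.leaf 5530) (.leaf 6195)) (.leaf 3385)) (.node (.node (.leaf 1808) (.leaf 6659)) (.leaf 4251)))) (.node (.node (.node (.node (.leaf 2216) (.leaf 5699)) (.node (.leaf 1701) (.leaf 7018))) (.node (.node (.leaf 5410) (.leaf 5970)) (.leaf 3918))) (.node (.node (.node (.leaf 1131) (.leaf 6680)) (.leaf 3948)) (.node (.node (.leaf 1500) (.leaf 6618)) (.leaf 5281))))) (.node (.node (.node (.node (.node (.leaf 650) (.leaf 5632)) (.node (.leaf 2971) (.leaf 7041))) (.node (.node (.leaf 1011) (.leaf 6239)) (.leaf 4152))) (.node (.node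 (.node (.leaf 3534) (.leaf 5923)) (.leaf 4063)) (.node (.node (.leaf 2242) (.leaf 6531)) (.leaf 4703)))) (.node (.node (.node (.node (.leaf 2269) (.leaf 6221)) (.leaf 1519)) (.node (.node (.leaf 1144) (.leaf 6437)) (.leaf 5549))) (.node (.node (.node (.leaf 2067) (.leaf 6081)) (.leaf 4126)) (.node (.node (.leaf 4163) (.leaf 6508)) (.leaf 5288))))))
def dFin_58 : BT := .node dFin_56 dFin_57
def dFin_59 : BT := .node dFin_55 dFin_58
def dFin_60 : BT := .node dFin_52 dFin_59
def dFin_61 : BT := .node dFin_45 dFin_60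
def dFin_62 : BT := .node dFin_30 dFin_61
def dFin : BT := dFin_62
theorem chk_all : chkAll dD dJS 0 = true := by decide +kernel
theorem chk_fin : chkFin dD 72 dJS.length dLive dPos dFin = true := by decide +kernel
end Cfsg.Agent.Lib.Helper66.Sp6Up
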