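import Cfsg.Agent.Lib.Helper66.ModelHom
import Cfsg.Agent.Lib.Helper66.Sp6Upper
import Cfsg.Agent.Lib.Helper5.POmegaOrder
import Cfsg.Agent.S0287
import Cfsg.Agent.S0293
import Cfsg.Agent.S0296
import Cfsg.Agent.S0270

/-! # Generators and relators of `Ω8+(2)` adapted to a subgroup `Sp6(2)` -/

set_option autoImplicit false
set_option maxRecDepth 100000

namespace Cfsg.Agent.Lib.Helper66.O8G

open Matrix Cfsg
open Cfsg.Agent.Lib.Helper66.TCE (ev L appW chkEq allBelow allBelow_iff nbeq nblt ev_cons ev_nil)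

abbrev I8 := Fin 4 ⊕ Fin 4
abbrev V8 := I8 → ZMod 2
abbrev OO := isometryGroup (ZMod 2) (quadFormPlus 4 (ZMod 2))

def idx : I8 → ℕ
  | Sum.inl i => i.val
  | Sum.inr i => 4 + i.val

/-- the vector with code `n` -/
def dec (n : ℕ) : V8 := fun j => ((n / 2 ^ idx j : ℕ) : ZMod 2)

def formN (p n : ℕ) : ℕ :=
  ((p % 2) * (n / 16 % 2) + (p / 2 % 2) * (n / 32 % 2) + (p / 4 % 2) * (n / 64 % 2)
    + (p / 8 % 2) * (n / 128 % 2)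
    + (p / 16 % 2) * (n % 2) + (p / 32 % 2) * (n / 2 % 2) + (p / 64 % 2) * (n / 4 % 2)
    + (p / 128 % 2) * (n / 8 % 2)) % 2

/-- the reflection with centre `n`, on codes -/
def rr (n p : ℕ) : ℕ := bif Nat.beq (formN p n) 1 then Nat.xor p n else p

def n1L : List ℕ := [19, 19, 19, 19, 19, 19, 89, 17]
def n2L : List ℕ := [49, 91, 21, 81, 140, 25, 17, 227]
def cen : List ℕ := [0, 17, 19, 21, 25, 49, 81, 89, 91, 140, 227]
def EX : List (List ℕ) := [[14, 14, 14], [14, 0, 15, 1], [14, 4, 15, 5], [14, 8, 15, 9], [14, 10, 15, 11], [12, 14, 13, 14], [12, 4, 12, 4, 12, 4, 14, 5, 13, 5, 13, 5, 13, 14], [14, 2, 4, 6, 4, 2, 15, 3, 5, 7, 5, 3], [14, 12, 4, 12, 4, 12, 4, 2, 14, 12, 4, 12, 4, 12, 4, 2, 14, 12, 4, 12, 4, 12, 4, 2]]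
def wordsL : List (List ℕ) := [[], [], [], [], [], [], [], [], [], [], [], [], [], [], [], [], [], [], [], [1, 2, 14, 0, 2, 14], [], [2, 14, 4, 2, 14], [], [15, 12, 4, 2, 14], [], [8, 6, 14, 10, 8, 6, 14], [], [15, 6, 2, 14], [], [15, 12, 4, 6, 14], [], [6, 14, 4, 2, 14], [], [], [2, 14, 1, 2, 14], [10, 8, 4, 6, 15], [], [], [15, 2, 4, 0, 2, 14], [10, 8, 6, 14], [], [], [15, 6, 0, 2, 14], [8, 4, 6, 14], [], [], [6, 14, 4, 1, 2, 14], [8, 6, 15], [], [2, 14, 0, 2, 14], [10, 8, 4, 6, 14], [], [], [15, 2, 4, 1, 2, 14], [10, 8, 6, 15], [], [], [15, 6, 1, 2, 14], [8, 4, 6, 15], [], [], [6, 14, 4, 0, 2, 14], [8, 6, 14], [], [], [], [], [], [14, 4, 6, 14], [8, 6, 1, 2, 15], [6, 15, 12, 4, 2, 14], [8, 6, 0, 2, 14], [], [], [], [], [2, 15, 12, 4, 2, 14], [10, 8, 6, 0, 2, 14], [14, 4, 2, 14], [10, 8, 6, 1, 2, 15], [], [14, 6, 14], [], [0, 2, 15, 6,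 0, 2, 14], [8, 6, 1, 2, 14], [], [8, 6, 0, 2, 15], [], [], [4, 2, 15, 12, 4, 2, 14], [], [14, 2, 14], [10, 8, 6, 0, 2, 15], [], [10, 8, 6, 1, 2, 14], [], [], [], [2, 15, 6, 0, 2, 14], [12, 8, 4, 6, 14], [6, 15, 2, 4, 0, 2, 14], [8, 6, 2, 14], [], [], [], [], [14, 1, 2, 14], [6, 8, 4, 6, 15], [14, 4, 1, 2, 14], [10, 8, 6, 2, 15], [], [], [], [2, 15, 6, 1, 2, 14], [12, 8, 4, 6, 15], [], [8, 6, 2, 15], [], [], [6, 15, 2, 4, 1, 2, 14], [], [14, 0, 2, 14], [6, 8, 4, 6, 14], [], [10, 8, 6, 2, 14], [], [], [14, 4, 0, 2, 14], [], [], [], [], [], [], [], [], [15, 6, 8, 4, 6, 14], [1, 2, 14], [10, 8, 6, 14, 4, 2, 14], [0, 2, 15], [6, 14, 8, 6, 14], [4, 0, 2, 15], [15, 10, 8, 6, 2, 14], [4, 1, 2, 14], [], [15, 12, 8, 4, 6, 14], [], [8, 6, 14, 4, 2, 14], [], [6, 14, 10, 8, 6, 14], [], [15, 8, 6, 2, 14], [1, 2, 15], [], [0, 2, 14], [], [4, 0, 2, 14],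 [], [4, 1, 2, 15], [], [], [], [8, 6, 14, 4, 0, 2, 14], [6, 15], [], [], [15, 8, 6, 1, 2, 14], [4, 6, 14], [10, 8, 6, 14, 4, 0, 2, 14], [2, 15], [], [], [15, 10, 8, 6, 1, 2, 14], [4, 2, 14], [], [], [], [8, 6, 14, 4, 1, 2, 14], [6, 14], [], [], [15, 8, 6, 0, 2, 14], [4, 6, 15], [], [2, 14], [], [], [10, 8, 6, 14, 4, 1, 2, 14], [4, 2, 15], [], [], [15, 10, 8, 6, 0, 2, 14], [], [], [], [], [14, 10, 8, 6, 14], [2, 4, 0, 2, 15], [6, 15, 8, 6, 2, 14], [2, 4, 1, 2, 14], [14, 8, 4, 6, 14], [6, 0, 2, 15], [8, 6, 15, 12, 4, 2, 14], [6, 1, 2, 14], [], [], [], [], [], [14, 10, 8, 4, 6, 14], [], [4, 6, 15, 8, 6, 2, 14], [2, 4, 0, 2, 14], [], [2, 4, 1, 2, 15], [], [6, 0, 2, 14], [], [6, 1, 2, 15], [], [], [14, 8, 6, 14], [], [6, 15, 10, 8, 6, 2, 14], [], [], [4, 6, 15, 8, 6, 1, 2, 14], [14], [6, 15, 8, 6, 1, 2, 14], [12, 4, 2, 14], [], [], [8, 6, 15,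 2, 4, 1, 2, 14], [6, 2, 14], [], [], [], [], [2, 15, 8, 6, 1, 2, 14], [12, 4, 6, 14], [], [4, 6, 15, 8, 6, 0, 2, 14], [15], [], [12, 4, 2, 15], [], [], [6, 15, 8, 6, 0, 2, 14], [6, 2, 15], [], [], [8, 6, 15, 2, 4, 0, 2, 14], [], [2, 15, 8, 6, 0, 2, 14], [12, 4, 6, 15], []]

/-- the matrix of the reflection -/
def rmat (n : ℕ) : Matrix I8 I8 (ZMod 2) := fun i j => dec (rr n (2 ^ idx j)) i

theorem rr_lt : ∀ n ∈ cen, ∀ p < 256, rr n p < 256 := by decide +kernel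

theorem rr_rr : ∀ n ∈ cen, ∀ p < 256, rr n (rr n p) = p := by decide +kernel

theorem rmat_dec : ∀ n ∈ cen, ∀ p < 256, rmat n *ᵥ dec p = dec (rr n p) := by decide +kernel

theorem rr_Q : ∀ n ∈ cen, ∀ p < 256,
    quadFormPlus 4 (ZMod 2) (dec (rr n p)) = quadFormPlus 4 (ZMod 2) (dec p) := by decide +kernel

end Cfsg.Agent.Lib.Helper66.O8G
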