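import Cfsg.Agent.Lib.Helper66.O8G
import Cfsg.Agent.Lib.Helper44.StdForms
import Cfsg.Agent.S2093

/-! # Generators of `Ω8+(2)`: membership, generation, order -/

set_option autoImplicit false
set_option maxRecDepth 100000

namespace Cfsg.Agent.Lib.Helper66.O8G

open Matrix Cfsg Cfsg.Agent.Lib.Helper5 Cfsg.Agent.Lib.Helper44
open Cfsg.Agent.Lib.Helper66.TCE (ev L appW chkEq allBelow allBelow_iff nbeq nblt ev_cons ev_nil)

abbrev Om := Omega (ZMod 2) (quadFormPlus 4 (ZMod 2))

theorem index_Om : Om.index = 2 := by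
  have h := index_Omega_even (plusQF 4 (ZMod 2)) (plusQF_nondeg 4 (ZMod 2)) (by simp)
  rwa [plusQF_coe] at h

theorem card_OO : Nat.card OO = 2 * 174182400 := by
  have h := Cfsg.Agent.S0287.result (F := ZMod 2) (q := 2) (ZMod.card 2) 4 (by norm_num)
  rw [h]
  norm_num [Finset.prod_range_succ]

instance : Finite OO := Nat.finite_of_card_ne_zero (by rw [card_OO]; norm_num)

theorem card_Om : Nat.card Om = 174182400 := by
  have h := Subgroup.card_mul_index Om
  rw [index_Om, card_OO] at h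
  omega

theorem card_PO : Nat.card (POmega (ZMod 2) (quadFormPlus 4 (ZMod 2))) = 174182400 := by
  have h := Cfsg.Agent.S0293.result (F := ZMod 2) (q := 2) (ZMod.card 2) 4 (by norm_num)
  norm_num [Finset.prod_range_succ] at h
  exact h

theorem mem_of_pow_odd (g : OO) (k : ℕ) (h : g ^ (2 * k + 1) = 1) : g ∈ Om := by
  have h1 : g = (g ^ (k + 1)) ^ 2 := by
    rw [← pow_mul, show (k + 1) * 2 = 2 * k + 1 + 1 by ring, pow_succ, h, one_mul]
  rw [h1]
  exact Subgroup.sq_mem_of_index_two index_Om _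

theorem SR_one : ∀ w ∈ Sp6G.SR ++ Sp6G.EX, ev gs w = 1 := fun w hw =>
  ev_gs_of_chk (List.all_eq_true.mp SR_chk w hw)

theorem gs_mem_lt6 : ∀ i < 6, gs i ∈ Om := by
  have hc := Sp6U.carRel_of_SR gs (fun w hw => SR_one w (List.mem_append_left _ hw))
  intro i
  induction i with
  | zero =>
    intro _
    exact mem_of_pow_odd _ 1 (Subgroup.mem_bot.mp hc.r0)
  | succ i ih =>
    intro hi
    have h1 := ih (by omega)
    have h2 : gs i * gs (i + 1) ∈ Om := mem_of_pow_odd _ 1 (Subgroup.mem_bot.mp (hc.r2 i hi))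
    have h3 : gs (i + 1) = (gs i)⁻¹ * (gs i * gs (i + 1)) := by group
    rw [h3]
    exact mul_mem (inv_mem h1) h2

theorem gs_mem (i : ℕ) : gs i ∈ Om := by
  by_cases h6 : i < 6
  · exact gs_mem_lt6 i h6
  by_cases h8 : i < 8
  · have hi : i = 6 ∨ i = 7 := by omega
    rcases hi with rfl | rfl
    · have h := ev_gs_of_chk (w := Sp6U.R5) (by decide +kernel)
      have h5 : ev gs Sp6U.R5 = (ev gs [12, 1, 2, 4, 6, 10]) ^ 5 := by
        simp only [Sp6U.R5, ev, List.map_cons, List.map_nil, List.prod_cons, List.prod_nil,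
          pow_succ, pow_zero, one_mul, mul_one, mul_assoc]
      rw [h5] at h
      have h1 : ev gs [12, 1, 2, 4, 6, 10] ∈ Om := mem_of_pow_odd _ 2 h
      have h2 : ev gs [1, 2, 4, 6, 10] ∈ Om := by
        apply TCE.ev_mem
        intro a ha
        apply gs_mem_lt6
        simp only [List.mem_cons, List.not_mem_nil, or_false] at ha
        rcases ha with rfl | rfl | rfl | rfl | rfl <;> norm_num
      have h3 : L gs 12 = gs 6 := by unfold L; norm_num
      rw [ev_cons, h3] at h1
      have h4 : gs 6 = gs 6 * ev gs [1, 2, 4, 6, 10] * (ev gs [1, 2, 4, 6, 10])⁻¹ := by group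
      rw [h4]
      exact mul_mem h1 (inv_mem h2)
    · have h := ev_gs_of_chk (w := [14, 14, 14]) (by decide +kernel)
      apply mem_of_pow_odd _ 1
      have h3 : L gs 14 = gs 7 := by unfold L; norm_num
      rw [ev_cons, ev_cons, ev_cons, ev_nil, h3] at h
      simpa [pow_succ, mul_assoc] using h
  · have e1 : n1 i = 0 := by
      unfold n1; rw [List.getD_eq_default]; simp [n1L]; omega
    have e2 : n2 i = 0 := by
      unfold n2; rw [List.getD_eq_default]; simp [n2L]; omega
    unfold gs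
    rw [e1, e2, ro_mul_self (by decide)]
    exact one_mem _

/-- the stabiliser of the vector `u` -/
def St : Subgroup OO where
  carrier := {g | act g (dec 17) = dec 17}
  mul_mem' := by
    intro a b ha hb
    simp only [Set.mem_ofPred_eq] at *
    rw [act_mul, hb, ha]
  one_mem' := act_one _
  inv_mem' := by
    intro a ha
    simp only [Set.mem_ofPred_eq] at *
    have h := act_mul a⁻¹ a (dec 17)
    rw [inv_mul_cancel, act_one, ha] at h
    exact h.symm

def HH : Subgroup OO := Subgroup.closure {x | ∃ i < 8, x = gs i}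

theorem gs_mem_HH (i : ℕ) : gs i ∈ HH := by
  by_cases h8 : i < 8
  · exact Subgroup.subset_closure ⟨i, h8, rfl⟩
  · have e1 : n1 i = 0 := by
      unfold n1; rw [List.getD_eq_default]; simp [n1L]; omega
    have e2 : n2 i = 0 := by
      unfold n2; rw [List.getD_eq_default]; simp [n2L]; omega
    unfold gs
    rw [e1, e2, ro_mul_self (by decide)]
    exact one_mem _

theorem act_gs (i : ℕ) {p : ℕ} (hp : p < 256) : act (gs i) (dec p) = dec (tab (2 * i) p) := by
  have h := (L_gs (2 * i) hp).1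
  have h3 : L gs (2 * i) = gs i := by
    unfold L
    have e3 : (2 * i) % 2 = 0 := by omega
    have e4 : (2 * i) / 2 = i := by omega
    simp [e3, e4]
  rwa [h3] at h

theorem dec_inj {p q : ℕ} (hp : p < 256) (hq : q < 256) (h : dec p = dec q) : p = q := by
  rw [← enc_dec p hp, ← enc_dec q hq, h]

theorem exists_hom_Sp6 : ∃ ψ : PSp 3 (ZMod 2) →* OO, ∀ i < 7, ψ (Sp6G.gb i) = gs i :=
  TCE.exists_hom_of_PB 7 Sp6G.gb gs Sp6G.closure_gb (Sp6G.SR ++ Sp6G.EX) Cfsg.Agent.S2093.RG_lt
    Cfsg.Agent.S2093.RG_one SR_one Sp6U.PB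

theorem card_inf_ge : 1451520 ≤ Nat.card ↥(St ⊓ HH) := by
  obtain ⟨ψ, hψ⟩ := exists_hom_Sp6
  have hsimple : IsSimpleGroup (PSp 3 (ZMod 2)) :=
    Cfsg.Agent.S0270.result 3 (by norm_num) (fun h => by omega)
  have hinj : Function.Injective ψ := by
    rw [← MonoidHom.ker_eq_bot_iff]
    rcases (inferInstance : ψ.ker.Normal).eq_bot_or_eq_top with h | h
    · exact h
    · exfalso
      have h1 : ψ (Sp6G.gb 0) = 1 := by
        rw [← MonoidHom.mem_ker, h]; trivial
      rw [hψ 0 (by norm_num)] at h1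
      have h2 := act_gs 0 (p := 1) (by norm_num)
      rw [h1, act_one] at h2
      have h3 := dec_inj (by norm_num) (by decide +kernel) h2
      revert h3
      decide +kernel
  have hle : ψ.range ≤ St ⊓ HH := by
    rw [MonoidHom.range_eq_map, ← Sp6G.closure_gb, MonoidHom.map_closure, Subgroup.closure_le]
    rintro _ ⟨_, ⟨i, hi, rfl⟩, rfl⟩
    rw [hψ i hi]
    refine ⟨?_, gs_mem_HH i⟩
    change act (gs i) (dec 17) = dec 17
    rw [act_gs i (by norm_num)]
    have : ∀ i < 7, tab (2 * i) 17 = 17 := by decide +kernel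
    rw [this i hi]
  have h1 : Nat.card ψ.range = 1451520 := by
    rw [← Sp6G.card_PSp]
    exact (Nat.card_congr (MonoidHom.ofInjective hinj).toEquiv).symm
  rw [← h1]
  exact Subgroup.card_le_of_le hle

def orbS : Finset ℕ :=
  (Finset.range 256).filter (fun c => Nat.beq (appW tab (wordsL.getD c []) 17) c = true)

theorem card_orbS : orbS.card = 120 := by decide +kernel

theorem relIndex_ge : 120 ≤ St.relIndex HH := by
  classical
  have hfin : Finite (↥HH ⧸ St.subgroupOf HH) := inferInstance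
  have : Fintype (↥HH ⧸ St.subgroupOf HH) := Fintype.ofFinite _
  have hmem : ∀ c : ℕ, ev gs (wordsL.getD c []) ∈ HH := fun c =>
    TCE.ev_mem HH gs (fun a _ => gs_mem_HH _)
  have h := Finset.card_le_card_of_injOn (s := orbS)
    (t := (Finset.univ : Finset (↥HH ⧸ St.subgroupOf HH)))
    (fun c => (QuotientGroup.mk (⟨ev gs (wordsL.getD c []), hmem c⟩ : ↥HH) :
      ↥HH ⧸ St.subgroupOf HH))
    (fun _ _ => Finset.mem_coe.mpr (Finset.mem_univ _))
    (by
      intro c hc c' hc' heq
      simp only [orbS, Finset.coe_filter, Finset.mem_range, Set.mem_ofPred_eq] at hc hc'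
      have e1 := nbeq.mp hc.2
      have e2 := nbeq.mp hc'.2
      have h1 := QuotientGroup.eq.mp heq
      rw [Subgroup.mem_subgroupOf] at h1
      have h2 : act ((ev gs (wordsL.getD c []))⁻¹ * ev gs (wordsL.getD c' [])) (dec 17) = dec 17 := h1
      have h3 := congrArg (act (ev gs (wordsL.getD c []))) h2
      rw [← act_mul, mul_inv_cancel_left, (ev_gs _ (by norm_num)).1, (ev_gs _ (by norm_num)).1,
        e1, e2] at h3
      exact (dec_inj hc'.1 hc.1 h3).symm)
  rw [card_orbS, Finset.card_univ, ← Nat.card_eq_fintype_card] at h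
  exact h

theorem HH_eq : HH = Om := by
  apply Subgroup.eq_of_le_of_card_ge
  · unfold HH
    rw [Subgroup.closure_le]
    rintro _ ⟨i, _, rfl⟩
    exact gs_mem i
  · have h := Subgroup.relIndex_mul_relIndex ⊥ (St ⊓ HH) HH bot_le inf_le_right
    rw [Subgroup.relIndex_bot_left, Subgroup.relIndex_bot_left, Subgroup.inf_relIndex_right] at h
    rw [card_Om, ← h]
    calc 174182400 = 1451520 * 120 := by norm_num
      _ ≤ _ := Nat.mul_le_mul card_inf_ge relIndex_ge

/-- the generators, in `Ω` -/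
noncomputable def go (i : ℕ) : Om := ⟨gs i, gs_mem i⟩

/-- the generators, in `PΩ8+(2)` -/
noncomputable def gb (i : ℕ) : POmega (ZMod 2) (quadFormPlus 4 (ZMod 2)) := QuotientGroup.mk (go i)

theorem ev_go_of_chk {w : List ℕ} (h : chkW w = true) : ev go w = 1 :=
  Subtype.ext ((TCE.ev_map Om.subtype go w).trans (ev_gs_of_chk h))

theorem ev_gb_of_chk {w : List ℕ} (h : chkW w = true) : ev gb w = 1 := by
  have h1 := TCE.ev_map (QuotientGroup.mk' (Subgroup.center Om)) go w
  rw [ev_go_of_chk h] at h1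
  exact h1.symm.trans (map_one _)

theorem closure_go : Subgroup.closure {x | ∃ i < 8, x = go i} = ⊤ := by
  rw [eq_top_iff]
  intro x _
  have h1 : HH ≤ (Subgroup.closure {x | ∃ i < 8, x = go i}).map Om.subtype := by
    unfold HH
    rw [Subgroup.closure_le]
    rintro _ ⟨i, hi, rfl⟩
    exact ⟨go i, Subgroup.subset_closure ⟨i, hi, rfl⟩, rfl⟩
  have hx : x.1 ∈ HH := by rw [HH_eq]; exact x.2
  obtain ⟨y, hy, hyx⟩ := h1 hx
  have : y = x := Subtype.ext hyx
  rwa [← this]

theorem closure_gb : Subgroup.closure {x | ∃ i < 8, x = gb i} = ⊤ := by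
  have h := congrArg (Subgroup.map (QuotientGroup.mk' (Subgroup.center Om))) closure_go
  rw [MonoidHom.map_closure, Subgroup.map_top_of_surjective _ (QuotientGroup.mk'_surjective _)] at h
  rw [← h]
  congr 1
  ext x
  constructor
  · rintro ⟨i, hi, rfl⟩; exact ⟨go i, ⟨i, hi, rfl⟩, rfl⟩
  · rintro ⟨_, ⟨i, hi, rfl⟩, rfl⟩; exact ⟨i, hi, rfl⟩

end Cfsg.Agent.Lib.Helper66.O8G
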