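import Cfsg.Agent.Lib.Helper66.TCE

set_option autoImplicit false
set_option maxRecDepth 100000
namespace Cfsg.Agent.Lib.Helper66.O8Pres
open Cfsg.Agent.Lib.Helper66.TCE
def dF_0 : BT := .node (.node (.node (.node (.node (.node (.node (.leaf 0) (.leaf 70330108680)) (.leaf 48855258764)) (.node (.leaf 10200554496) (.leaf 60129557510))) (.node (.node (.leaf 13958645645) (.leaf 55834588168)) (.node (.leaf 16643007746) (.leaf 74088202112)))) (.node (.node (.node (.node (.leaf 1610614287) (.leaf 83751881859)) (.leaf 8053065603)) (.node (.leaf 25769809932) (.leaf 69793230216))) (.node (.node (.leaf 5368714126) (.leaf 60666427532)) (.node (.leaf 19327363202) (.leaf 64961398916))))) (.node (.node (.node (.node (.node (.leaf 2684354957) (.leaf 82678139776)) (.leaf 26843558020)) (.node (.leaf 9663680784) (.leaf 67645751049))) (.node (.node (.leaf 4294971534) (.leaf 57445195913)) (.node (.leaf 37044102656) (.leaf 75698815874)))) (.node (.node (.node (.leaf 10200549762) (.leaf 54223970959)) (.node (.leaf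 12884910346) (.leaf 71403846415))) (.node (.node (.leaf 25232934666) (.leaf 62813911695)) (.node (.leaf 23085460490) (.leaf 74625075721)))))) (.node (.node (.node (.node (.node (.node (.leaf 1073742089) (.leaf 73551334276)) (.leaf 8053065607)) (.node (.leaf 9663683854) (.leaf 48855268610))) (.node (.node (.leaf 16643001738) (.leaf 56908324874)) (.node (.leaf 40265327104) (.leaf 75161942534)))) (.node (.node (.node (.leaf 8589936527) (.leaf 17716743814)) (.node (.leaf 34359741320) (.leaf 70866973322))) (.node (.node (.leaf 6979327500) (.leaf 62277039619)) (.node (.leaf 45097161609) (.leaf 69793237250))))) (.node (.node (.node (.node (.node (.leaf 3758097411) (.leaf 83215010822)) (.leaf 28454161935)) (.node (.leaf 18790489614) (.leaf 69256361230))) (.node (.node (.leaf 18790486404) (.leaf 37044107151)) (.node (.leaf 42412811272) (.leaf 76235684746)))) (.node (.node (.node (.leaf 11811161485) (.leaf 30064784140)) (.node (.leaf 36507225732) (.leaf 72477589120))) (.node (.node (.leaf 27917289856)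 (.leaf 40802204559)) (.node (.leaf 47781516809) (.leaf 73551332359))))))
def dF_1 : BT := .node (.node (.node (.node (.node (.node (.node (.leaf 536871040) (.leaf 80530656015)) (.leaf 24159202950)) (.node (.leaf 30601648770) (.leaf 48855268487))) (.node (.node (.leaf 15569257857) (.leaf 34359751814)) (.node (.leaf 18790491392) (.leaf 74625074573)))) (.node (.node (.node (.leaf 2147485448) (.leaf 44023425285)) (.node (.leaf 12884909698) (.leaf 70330106244))) (.node (.node (.leaf 22548579718) (.leaf 62277039621)) (.node (.leaf 20401105290) (.leaf 77846300815))))) (.node (.node (.node (.node (.node (.leaf 1610613632) (.leaf 81067527430)) (.leaf 32212267521)) (.node (.leaf 5905581453) (.leaf 68182622082))) (.node (.node (.leaf 18253615247) (.leaf 57982067212)) (.node (.leaf 41875940229) (.leaf 76235686543)))) (.node (.node (.node (.leaf 10737420810) (.leaf 54760845834)) (.node (.leaf 14495523202) (.leaf 71940716548))) (.node (.node (.leaf 7516199055) (.leaf 63350781698)) (.node (.leaf 47244651404)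 (.leaf 73551333889)))))) (.node (.node (.node (.node (.node (.node (.leaf 536871430) (.leaf 82141269135)) (.leaf 25769815938)) (.node (.leaf 32212262408) (.leaf 67108875522))) (.node (.node (.leaf 17179872772) (.leaf 56371459341)) (.node (.leaf 17179878920) (.leaf 71940720130)))) (.node (.node (.node (.leaf 9663678603) (.leaf 38654715780)) (.node (.leaf 34896617600) (.leaf 71403848192))) (.node (.node (.leaf 24159196800) (.leaf 62813906310)) (.node (.leaf 46170903812) (.leaf 69256366466))))) (.node (.node (.node (.node (.node (.leaf 5368709510) (.leaf 83751880708)) (.leaf 5368711694)) (.node (.leaf 2147486864) (.leaf 69256364044))) (.node (.node (.leaf 19864225285) (.leaf 60129556493)) (.node (.leaf 42949683209) (.leaf 76772558734)))) (.node (.node (.node (.leaf 12884902664) (.leaf 55297713676)) (.node (.leaf 38117843727) (.leaf 59592688770))) (.node (.node (.leaf 9126812559) (.leaf 63887653772)) (.node (.leaf 48318388229) (.leaf 79993784968))))))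
def dF_2 : BT := .node dF_0 dF_1
def dF_3 : BT := .node (.node (.node (.node (.node (.node (.node (.leaf 8) (.leaf 80530656000)) (.leaf 49392134404)) (.node (.leaf 9663683718) (.leaf 64961395848))) (.node (.node (.leaf 3758099974) (.leaf 55834585485)) (.node (.leaf 39728456070) (.leaf 74625074562)))) (.node (.node (.node (.node (.leaf 6979323522) (.leaf 83751882255)) (.leaf 49929005200)) (.node (.leaf 32749128706) (.leaf 69793230093))) (.node (.node (.leaf 21474841611) (.leaf 39728462351)) (.node (.leaf 43486554250) (.leaf 77846300800))))) (.node (.node (.node (.node (.node (.leaf 3221226240) (.leaf 82678138508)) (.leaf 26843558287)) (.node (.leaf 29527903888) (.leaf 67645751043))) (.node (.node (.leaf 17716743817) (.leaf 57445198991)) (.node (.leaf 17179879183) (.leaf 67108882048)))) (.node (.node (.node (.leaf 2684357126) (.leaf 54760845824)) (.node (.leaf 35433488646) (.leaf 57982075654))) (.node (.node (.leaf 7516198926) (.leaf 40802204426)) (.node (.leaf 47244651522) (.leaf 74088203535))))))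 (.node (.node (.node (.node (.node (.node (.leaf 536871298) (.leaf 78920043520)) (.leaf 50465877768)) (.node (.leaf 10200555020) (.leaf 66572008847))) (.node (.node (.leaf 14495518598) (.leaf 56908325124)) (.node (.leaf 40265327112) (.leaf 75161944842)))) (.node (.node (.node (.leaf 2684356865) (.leaf 48318393607)) (.node (.leaf 34359743886) (.leaf 70866974479))) (.node (.node (.leaf 23622325766) (.leaf 38654714895)) (.node (.leaf 45634032649) (.leaf 78920040578))))) (.node (.node (.node (.node (.node (.leaf 4831839368) (.leaf 81604398466)) (.leaf 30601651982)) (.node (.leaf 3221227536) (.leaf 69256364168))) (.node (.node (.leaf 19327357448) (.leaf 59592680328)) (.node (.leaf 38654715784) (.leaf 76772555784)))) (.node (.node (.node (.leaf 12348033926) (.leaf 55297711744)) (.node (.leaf 20401103488) (.leaf 73014460160))) (.node (.node (.leaf 28454161933) (.leaf 63887652741)) (.node (.leaf 23085460750) (.leaf 76235687939))))))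
def dF_4 : BT := .node (.node (.node (.node (.node (.node (.node (.leaf 271) (.leaf 81067525252)) (.leaf 49929006730)) (.node (.leaf 10737425536) (.leaf 65498262914))) (.node (.node (.leaf 4294971268) (.leaf 56371459200)) (.node (.leaf 39728456073) (.leaf 66035132560)))) (.node (.node (.node (.leaf 2147485582) (.leaf 43486549639)) (.node (.leaf 33286001676) (.leaf 70330106253))) (.node (.node (.leaf 23085454720) (.leaf 62277039627)) (.node (.leaf 44560296324) (.leaf 78383169794))))) (.node (.node (.node (.node (.node (.leaf 4294968201) (.leaf 83215010824)) (.leaf 37580970640)) (.node (.leaf 15569258638) (.leaf 68719493121))) (.node (.node (.leaf 18790486402) (.leaf 44023428736)) (.node (.leaf 38117844743) (.leaf 76235686916)))) (.node (.node (.node (.leaf 2684357262) (.leaf 54760842511)) (.node (.leaf 35970354573) (.leaf 60129556495))) (.node (.node (.leaf 26843547522) (.leaf 44560300800)) (.node (.leaf 47781522562) (.leaf 74088203403)))))) (.node (.node (.node (.node (.node (.node (.leaf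 1073742466) (.leaf 81604398221)) (.leaf 51539613702)) (.node (.leaf 2684356112) (.leaf 48318398082))) (.node (.node (.leaf 15032389642) (.leaf 57445201282)) (.node (.leaf 40802198146) (.leaf 62813914760)))) (.node (.node (.node (.leaf 9126807817) (.leaf 28454171272)) (.node (.leaf 34896617604) (.leaf 71403846413))) (.node (.node (.leaf 6979327759) (.leaf 62813910666)) (.node (.leaf 46707780484) (.leaf 79456911242))))) (.node (.node (.node (.node (.node (.leaf 2147484930) (.leaf 83751881864)) (.leaf 41875941132)) (.node (.leaf 2147484431) (.leaf 69793232271))) (.node (.node (.leaf 20401099526) (.leaf 60666427525)) (.node (.leaf 22011708816) (.leaf 77309428992)))) (.node (.node (.node (.leaf 12884903692) (.leaf 55297716867)) (.node (.leaf 38654714893) (.leaf 60129559688))) (.node (.node (.leaf 30064777728) (.leaf 64424523782)) (.node (.leaf 48855261327) (.leaf 79993782275))))))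
def dF_5 : BT := .node dF_3 dF_4
def dF_6 : BT := .node dF_2 dF_5
def dF_7 : BT := .node (.node (.node (.node (.node (.node (.node (.leaf 4) (.leaf 80530656006)) (.leaf 24159202818)) (.node (.leaf 27917294598) (.leaf 64961390594))) (.node (.node (.leaf 14495515524) (.leaf 55834588164)) (.node (.leaf 39728456064) (.leaf 60129559936)))) (.node (.node (.node (.node (.leaf 2147485316) (.leaf 83751881865)) (.leaf 25769815952)) (.node (.leaf 32749128200) (.leaf 69793234954))) (.node (.node (.leaf 21474841487) (.leaf 38654720399)) (.node (.leaf 43486554244) (.leaf 77846300802))))) (.node (.node (.node (.node (.node (.leaf 1073742598) (.leaf 82678138756)) (.leaf 52076488838)) (.node (.leaf 11811161488) (.leaf 67645745802))) (.node (.node (.leaf 17716743809) (.leaf 57445201035)) (.node (.leaf 17179879054) (.leaf 75698816655)))) (.node (.node (.node (.leaf 10200549770) (.leaf 30064784130)) (.node (.leaf 35433488648) (.leaf 70866977416))) (.node (.node (.leaf 25232938880) (.leaf 58518944384)) (.node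 (.leaf 47244651528) (.leaf 68182622094)))))) (.node (.node (.node (.node (.node (.node (.leaf 1073741964) (.leaf 81604395914)) (.leaf 50465874190)) (.node (.leaf 9663683983) (.leaf 43486559630))) (.node (.node (.leaf 4831842176) (.leaf 56908330240)) (.node (.leaf 40265322628) (.leaf 75161943296)))) (.node (.node (.node (.leaf 9126806413) (.leaf 38654715783)) (.node (.leaf 34359746562) (.leaf 70866974477))) (.node (.node (.leaf 23622325760) (.leaf 61740164112)) (.node (.leaf 45634038287) (.leaf 78920040074))))) (.node (.node (.node (.node (.node (.leaf 4831838596) (.leaf 81604398470)) (.leaf 5368717200)) (.node (.leaf 14495521295) (.leaf 69256359684))) (.node (.node (.leaf 19327354244) (.leaf 59592682113)) (.node (.leaf 42412812173) (.leaf 63887656834)))) (.node (.node (.node (.leaf 12348031748) (.leaf 55297711240)) (.node (.leaf 15032394376) (.leaf 59055817743))) (.node (.node (.leaf 28454160518) (.leaf 63887652737)) (.node (.leaf 47781522315) (.leaf 73551332619))))))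
def dF_8 : BT := .node (.node (.node (.node (.node (.node (.node (.leaf 536871048) (.leaf 81067524872)) (.leaf 49929006720)) (.node (.leaf 30601646093) (.leaf 42949688582))) (.node (.node (.leaf 16106131087) (.leaf 56371459204)) (.node (.leaf 16643007757) (.leaf 74625074575)))) (.node (.node (.node (.leaf 7516194566) (.leaf 43486554240)) (.node (.leaf 33286004484) (.leaf 70330106242))) (.node (.node (.leaf 6979327368) (.leaf 62277039625)) (.node (.leaf 44560296328) (.leaf 78383168776))))) (.node (.node (.node (.node (.node (.leaf 4294968193) (.leaf 75698818442)) (.leaf 53687097869)) (.node (.leaf 3758098575) (.leaf 46707785743))) (.node (.node (.leaf 4831842700) (.leaf 36507235974)) (.node (.leaf 41875940235) (.leaf 76235686912)))) (.node (.node (.node (.leaf 10737419532) (.leaf 53687104264)) (.node (.leaf 18790490497) (.leaf 65498268416))) (.node (.node (.leaf 26306676745) (.leaf 63350781702)) (.node (.leaf 47781516684) (.leaf 76772558859)))))) (.node (.node (.node (.node (.node (.node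 (.leaf 2147484160) (.leaf 79993785472)) (.leaf 26843557768)) (.node (.leaf 32212262404) (.leaf 67108880015))) (.node (.node (.leaf 17179872770) (.leaf 57445195788)) (.node (.leaf 40802198150) (.leaf 75161945615)))) (.node (.node (.node (.leaf 9663677453) (.leaf 51539619843)) (.node (.leaf 34896617606) (.leaf 71403848196))) (.node (.node (.leaf 24159192965) (.leaf 62813907200)) (.node (.leaf 23085460358) (.leaf 79456911110))))) (.node (.node (.node (.node (.node (.leaf 5368709634) (.leaf 83751881862)) (.leaf 21474839055)) (.node (.leaf 12884903694) (.leaf 68719493126))) (.node (.node (.leaf 5368713992) (.leaf 60666423169)) (.node (.leaf 42949677580) (.leaf 77309426566)))) (.node (.node (.node (.leaf 12884904960) (.leaf 55297713679)) (.node (.leaf 15569265666) (.leaf 73551329288))) (.node (.node (.leaf 9663683588) (.leaf 64424519426)) (.node (.leaf 48318387849) (.leaf 79993784975))))))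
def dF_9 : BT := .node dF_7 dF_8
def dF_10 : BT := .node (.node (.node (.node (.node (.node (.node (.leaf 12) (.leaf 80530656004)) (.leaf 46170910214)) (.node (.leaf 30601648772) (.leaf 64961390733))) (.node (.node (.leaf 15032386816) (.leaf 55834585487)) (.node (.leaf 39728456074) (.leaf 74625074566)))) (.node (.node (.node (.leaf 6979323520) (.leaf 44023420546)) (.node (.leaf 32749130509) (.leaf 50465882502))) (.node (.node (.leaf 22011708802) (.leaf 62277036033)) (.node (.leaf 44023419398) (.leaf 77846300810))))) (.node (.node (.node (.node (.node (.leaf 3221225997) (.leaf 82678140175)) (.leaf 27917300226)) (.node (.leaf 31675388048) (.leaf 68182616710))) (.node (.node (.leaf 17716743819) (.leaf 57982071311)) (.node (.leaf 41875936257) (.leaf 72477591174)))) (.node (.node (.node (.leaf 10737420804) (.leaf 54760845830)) (.node (.leaf 35433486220) (.leaf 71940716173))) (.node (.node (.leaf 25769805704) (.leaf 63350781704)) (.node (.leaf 25232944132) (.leaf 79456911243)))))) (.node (.node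 (.node (.node (.node (.node (.leaf 1610613128) (.leaf 82141267204)) (.leaf 50465871883)) (.node (.leaf 32212262402) (.leaf 67108874504))) (.node (.node (.leaf 4294971398) (.leaf 56908327950)) (.node (.leaf 40265327114) (.leaf 75161942668)))) (.node (.node (.node (.leaf 9663678595) (.leaf 40265327106)) (.node (.leaf 12348039308) (.leaf 71403844490))) (.node (.node (.leaf 23622325764) (.leaf 42412812174)) (.node (.leaf 45634038402) (.leaf 78920042886))))) (.node (.node (.node (.node (.node (.leaf 4831839366) (.leaf 81604398472)) (.leaf 32749136526)) (.node (.leaf 12348036751) (.leaf 69256359179))) (.node (.node (.leaf 4831842959) (.leaf 38117849090)) (.node (.leaf 42949680655) (.leaf 64424527752)))) (.node (.node (.node (.leaf 12348033930) (.leaf 55297716868)) (.node (.leaf 37580968832) (.leaf 73014458250))) (.node (.node (.leaf 9126812430) (.leaf 63887648521)) (.node (.leaf 48318393600) (.leaf 79993782148))))))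
def dF_11 : BT := .node (.node (.node (.node (.node (.node (.node (.leaf 1073742081) (.leaf 81067525004)) (.leaf 49929006724)) (.node (.leaf 28454165642) (.leaf 65498261773))) (.node (.node (.leaf 16643001728) (.leaf 56371456911)) (.node (.leaf 16643007886) (.leaf 43486554254)))) (.node (.node (.node (.leaf 8053065610) (.leaf 17716749456)) (.node (.leaf 33822872461) (.leaf 70330106254))) (.node (.node (.leaf 23085451012) (.leaf 62277035404)) (.node (.leaf 25232943490) (.leaf 78383169164))))) (.node (.node (.node (.node (.node (.leaf 3758097419) (.leaf 83215010818)) (.leaf 30601651856)) (.node (.leaf 17716744333) (.leaf 68719493129))) (.node (.node (.leaf 18790486408) (.leaf 59055809162)) (.node (.leaf 17716750210) (.leaf 76235686920)))) (.node (.node (.node (.leaf 11274290700) (.leaf 53687104266)) (.node (.leaf 36507228686) (.leaf 58518946696))) (.node (.node (.leaf 9126812164) (.leaf 59055815428)) (.node (.leaf 47781522439) (.leaf 76235687815)))))) (.node (.node (.node (.node (.node (.node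 (.leaf 2684355208) (.leaf 82678138376)) (.leaf 51539619840)) (.node (.leaf 10200551951) (.leaf 67645748239))) (.node (.node (.leaf 15032389634) (.leaf 57445201159)) (.node (.leaf 37044102660) (.leaf 75698815878)))) (.node (.node (.node (.leaf 2684356996) (.leaf 54223970957)) (.node (.leaf 21474841602) (.leaf 70866977412))) (.node (.node (.leaf 24696064004) (.leaf 58518944386)) (.node (.leaf 46707780480) (.leaf 79456913668))))) (.node (.node (.node (.node (.node (.leaf 5905581448) (.leaf 83751882124)) (.leaf 53150220816)) (.node (.leaf 8053064462) (.leaf 69793235205))) (.node (.node (.leaf 20401099524) (.leaf 60666427529)) (.node (.leaf 42412811265) (.leaf 68182624256)))) (.node (.node (.node (.leaf 13421774861) (.leaf 32749138954)) (.node (.leaf 39191580294) (.leaf 59592688902))) (.node (.node (.leaf 30064777738) (.leaf 64424524813)) (.node (.leaf 48855264645) (.leaf 78920043148))))))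
def dF_12 : BT := .node dF_10 dF_11
def dF_13 : BT := .node dF_9 dF_12
def dF_14 : BT := .node dF_6 dF_13
def dF_15 : BT := .node (.node (.node (.node (.node (.node (.node (.leaf 2) (.leaf 80530653576)) (.leaf 48855258765)) (.node (.leaf 30064777734) (.leaf 42949688450))) (.node (.node (.leaf 3758099844) (.leaf 55834583298)) (.node (.leaf 39728451458) (.leaf 74088203533)))) (.node (.node (.node (.node (.leaf 6442452367) (.leaf 83751881863)) (.leaf 24159203472)) (.node (.leaf 10737426056) (.leaf 69793234955))) (.node (.node (.leaf 5368714255) (.leaf 38654720270)) (.node (.leaf 43486548482) (.leaf 77846297732))))) (.node (.node (.node (.node (.node (.leaf 2684354956) (.leaf 82678139778)) (.leaf 52076488962)) (.node (.leaf 1610615440) (.leaf 67645745803))) (.node (.node (.leaf 17716741504) (.leaf 57445201034)) (.node (.leaf 37044102662) (.leaf 75698815876)))) (.node (.node (.node (.leaf 10200549768) (.leaf 32749138560)) (.node (.leaf 35433483274) (.leaf 55834591872))) (.node (.node (.leaf 25232938888)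 (.leaf 44023425294)) (.node (.leaf 47244645770) (.leaf 79456913935)))))) (.node (.node (.node (.node (.node (.node (.leaf 1073742091) (.leaf 72477592586)) (.leaf 25232944910)) (.node (.leaf 31138517261) (.leaf 65498266894))) (.node (.node (.leaf 14495518602) (.leaf 56908330248)) (.node (.leaf 40265323009) (.leaf 75161943044)))) (.node (.node (.node (.leaf 2684356736) (.leaf 17716743815)) (.node (.leaf 34359746560) (.leaf 70866973696))) (.node (.node (.leaf 23622321804) (.leaf 57982073347)) (.node (.leaf 20401105551) (.leaf 67108882826))))) (.node (.node (.node (.node (.node (.leaf 1610613892) (.leaf 83215010821)) (.leaf 32749136400)) (.node (.leaf 30064775054) (.leaf 69256364160))) (.node (.node (.leaf 4831842830) (.leaf 59592684175)) (.node (.leaf 42412811274) (.leaf 76235687692)))) (.node (.node (.node (.leaf 3221228420) (.leaf 30601655176)) (.node (.leaf 36507225733) (.leaf 72477590415))) (.node (.node (.leaf 9126812294) (.leaf 63887651727)) (.node (.leaf 47781522314) (.leaf 74088203267))))))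
def dF_16 : BT := .node (.node (.node (.node (.node (.node (.node (.leaf 536871044) (.leaf 71940721544)) (.leaf 49929000582)) (.node (.leaf 30601648778) (.leaf 48855268486))) (.node (.node (.leaf 3758100239) (.leaf 56371453958)) (.node (.leaf 16643007756) (.leaf 74625072389)))) (.node (.node (.node (.leaf 7516193288) (.leaf 19327363856)) (.node (.leaf 10737426190) (.leaf 70330106240))) (.node (.node (.leaf 22548583690) (.leaf 62277039620)) (.node (.leaf 44560290570) (.leaf 65498269960))))) (.node (.node (.node (.node (.node (.leaf 1610613761) (.leaf 78383172864)) (.leaf 53687097868)) (.node (.leaf 5905580686) (.leaf 68182622093))) (.node (.node (.leaf 18253612544) (.leaf 57982067213)) (.node (.leaf 41875940228) (.leaf 76235685633)))) (.node (.node (.node (.leaf 10737419533) (.leaf 54760845829)) (.node (.leaf 35970354562) (.leaf 60129559300))) (.node (.node (.leaf 26306680847) (.leaf 63350781700)) (.node (.leaf 23085460620) (.leaf 76772558599)))))) (.node (.node (.node (.node (.node (.node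 (.leaf 2147483782) (.leaf 81067527306)) (.leaf 51002743048)) (.node (.leaf 32212262410) (.leaf 67108880004))) (.node (.node (.leaf 17179872768) (.leaf 34359752076)) (.node (.leaf 40802193416) (.leaf 71940720138)))) (.node (.node (.node (.leaf 9663677452) (.leaf 42412811268)) (.node (.leaf 34896617602) (.leaf 71403848194))) (.node (.node (.leaf 24159192964) (.leaf 62813910660)) (.node (.leaf 46170909450) (.leaf 67645753862))))) (.node (.node (.node (.node (.node (.leaf 5368710404) (.leaf 83751881858)) (.leaf 21474841613)) (.node (.leaf 13958645648) (.leaf 69256364167))) (.node (.node (.leaf 19864225284) (.leaf 38654720129)) (.node (.leaf 42949683211) (.leaf 63887656966)))) (.node (.node (.node (.leaf 12884904966) (.leaf 54223975300)) (.node (.leaf 38117839872) (.leaf 73551329154))) (.node (.node (.leaf 29527903885) (.leaf 41875946498)) (.node (.leaf 48318387848) (.leaf 79993784586))))))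
def dF_17 : BT := .node dF_15 dF_16
def dF_18 : BT := .node (.node (.node (.node (.node (.node (.node (.leaf 10) (.leaf 80530656002)) (.leaf 44023426564)) (.node (.leaf 30601644294) (.leaf 64961395850))) (.node (.node (.leaf 15032386438) (.leaf 55834585484)) (.node (.leaf 39728456072) (.leaf 74625072388)))) (.node (.node (.node (.node (.leaf 6979323526) (.leaf 82141269504)) (.leaf 25769809923)) (.node (.leaf 32749133444) (.leaf 69793235206))) (.node (.node (.leaf 5905585282) (.leaf 62277038863)) (.node (.leaf 19327363334) (.leaf 77846300808))))) (.node (.node (.node (.node (.node (.leaf 3221226250) (.leaf 82678138757)) (.leaf 53150232845)) (.node (.leaf 4294974736) (.leaf 45634043782))) (.node (.node (.leaf 17716743818) (.leaf 35970364943)) (.node (.leaf 41875941007) (.leaf 72477591170)))) (.node (.node (.node (.leaf 10737418886) (.leaf 54760845828)) (.node (.leaf 35433486221) (.leaf 71940716038))) (.node (.node (.leaf 25769809920) (.leaf 63350777354)) (.node (.leaf 47244646276) (.leaf 79456912777))))))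 (.node (.node (.node (.node (.node (.node (.leaf 1610612866) (.leaf 74088205444)) (.leaf 50465871882)) (.node (.leaf 32212257164) (.leaf 44023430792))) (.node (.node (.leaf 14495518600) (.leaf 56908325125)) (.node (.leaf 40265327113) (.leaf 75161942669)))) (.node (.node (.node (.leaf 9663678593) (.leaf 51539619845)) (.node (.leaf 12884910084) (.leaf 55297720970))) (.node (.node (.leaf 23622325770) (.leaf 60666427534)) (.node (.leaf 45634032648) (.leaf 78920042884))))) (.node (.node (.node (.node (.node (.leaf 4831839370) (.leaf 81604398464)) (.leaf 30601646095)) (.node (.leaf 12348032654) (.leaf 69256359178))) (.node (.node (.leaf 19327357450) (.leaf 59592685452)) (.node (.leaf 18790492175) (.leaf 76772558733)))) (.node (.node (.node (.leaf 12348033920) (.leaf 55297716866)) (.node (.leaf 15032394510) (.leaf 73014458251))) (.node (.node (.leaf 28454161932) (.leaf 63887652740)) (.node (.leaf 48318390286) (.leaf 68182624900))))))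
def dF_19 : BT := .node (.node (.node (.node (.node (.node (.node (.leaf 1073741967) (.leaf 81067525005)) (.leaf 46170910338)) (.node (.leaf 28454165634) (.leaf 65498266890))) (.node (.node (.leaf 16642999300) (.leaf 56371459202)) (.node (.leaf 39728456069) (.leaf 43486559760)))) (.node (.node (.node (.leaf 8053065600) (.leaf 5905585424)) (.node (.leaf 10737426319) (.leaf 51539624330))) (.node (.node (.leaf 23085454722) (.leaf 62277039626)) (.node (.leaf 44560296326) (.leaf 78383169165))))) (.node (.node (.node (.node (.node (.leaf 4294968203) (.leaf 83215010176)) (.leaf 10737423248)) (.node (.leaf 4294969615) (.leaf 68719493125))) (.node (.node (.leaf 18790486406) (.leaf 37044107018)) (.node (.leaf 41875940231) (.leaf 76235686921)))) (.node (.node (.node (.leaf 11274290701) (.leaf 32212267776)) (.node (.leaf 14495523342) (.leaf 64424524814))) (.node (.node (.leaf 8053070214) (.leaf 59055815426)) (.node (.leaf 47781522438) (.leaf 77309429507)))))) (.node (.node (.node (.node (.node (.node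 (.leaf 2684354818) (.leaf 75161947400)) (.leaf 51539619848)) (.node (.leaf 10200548494) (.leaf 44560301839))) (.node (.node (.leaf 5368713216) (.leaf 57445201158)) (.node (.leaf 40802198148) (.leaf 75698813576)))) (.node (.node (.node (.leaf 9126807819) (.leaf 54223968904)) (.node (.leaf 34896614927) (.leaf 71403846412))) (.node (.node (.leaf 24696067727) (.leaf 58518944394)) (.node (.leaf 46707780488) (.leaf 79456913933))))) (.node (.node (.node (.node (.node (.leaf 1610614158) (.leaf 83751881994)) (.leaf 45634038412)) (.node (.leaf 8053065613) (.leaf 69793235201))) (.node (.node (.leaf 20401096450) (.leaf 60666427527)) (.node (.leaf 5905581443) (.leaf 77309429773)))) (.node (.node (.node (.leaf 3221228686) (.leaf 55297716871)) (.node (.leaf 15569265798) (.leaf 73551332494))) (.node (.node (.leaf 30064777736) (.leaf 64424523786)) (.node (.leaf 48855264641) (.leaf 78920043149))))))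
def dF_20 : BT := .node dF_18 dF_19
def dF_21 : BT := .node dF_17 dF_20
def dF_22 : BT := .node (.node (.node (.node (.node (.node (.node (.leaf 6) (.leaf 80530656010)) (.leaf 49392129666)) (.node (.leaf 27917294600) (.leaf 64961395840))) (.node (.node (.leaf 14495515776) (.leaf 55834588166)) (.node (.leaf 39728456068) (.leaf 74625072128)))) (.node (.node (.node (.node (.leaf 6979322372) (.leaf 83751881995)) (.leaf 49392134416)) (.node (.leaf 32749133446) (.leaf 69793230092))) (.node (.node (.leaf 21474841605) (.leaf 61740169484)) (.node (.leaf 43486554248) (.leaf 77846300806))))) (.node (.node (.node (.node (.node (.leaf 3221225734) (.leaf 82678138509)) (.leaf 26843558158)) (.node (.leaf 3758103312) (.leaf 67645751052))) (.node (.node (.leaf 17716743816) (.leaf 57445201284)) (.node (.leaf 41339069184) (.leaf 72477591172)))) (.node (.node (.node (.leaf 10200549766) (.leaf 54760840194)) (.node (.leaf 35433488640) (.leaf 70866977410))) (.node (.node (.leaf 25232938886) (.leaf 58518944388))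 (.node (.leaf 47244651520) (.leaf 77309429775)))))) (.node (.node (.node (.node (.node (.node (.leaf 1073741965) (.leaf 81604398095)) (.leaf 50465877760)) (.node (.leaf 31675388045) (.leaf 43486559759))) (.node (.node (.leaf 16643001734) (.leaf 56908330242)) (.node (.leaf 40265322629) (.leaf 75161944834)))) (.node (.node (.node (.leaf 9126806412) (.leaf 42412811271)) (.node (.leaf 34359741444) (.leaf 70866974476))) (.node (.node (.leaf 23622325762) (.leaf 38654720272)) (.node (.leaf 45634038405) (.leaf 78920042888))))) (.node (.node (.node (.node (.node (.leaf 4831839362) (.leaf 83215011215)) (.leaf 33286001680)) (.node (.leaf 12348036880) (.leaf 69256359685))) (.node (.node (.leaf 19327354245) (.leaf 59592680329)) (.node (.leaf 38654715786) (.leaf 76772555650)))) (.node (.node (.node (.leaf 12348033922) (.leaf 55297716870)) (.node (.leaf 37044096520) (.leaf 73014460943))) (.node (.node (.leaf 28454160896) (.leaf 63887649408)) (.node (.leaf 47781522564) (.leaf 73014461699))))))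
def dF_23 : BT := .node (.node (.node (.node (.node (.node (.node (.leaf 536871050) (.leaf 81067526400)) (.leaf 49929005826)) (.node (.leaf 30601646092) (.leaf 65498261510))) (.node (.node (.leaf 16106128897) (.leaf 56371459208)) (.node (.leaf 39728456071) (.leaf 64961395854)))) (.node (.node (.node (.leaf 7516194560) (.leaf 43486549638)) (.node (.leaf 33286001677) (.leaf 70330101770))) (.node (.node (.leaf 23085450888) (.leaf 62277039624)) (.node (.leaf 44560291714) (.leaf 78383171846))))) (.node (.node (.node (.node (.node (.leaf 4294968195) (.leaf 83215009418)) (.leaf 53687099791)) (.node (.leaf 15569260173) (.leaf 68719490191))) (.node (.node (.leaf 18790483084) (.leaf 58518938118)) (.node (.leaf 41875940234) (.leaf 76235686917)))) (.node (.node (.node (.leaf 3221228034) (.leaf 53687104262)) (.node (.leaf 35970354572) (.leaf 71940719374))) (.node (.node (.leaf 8053070082) (.leaf 59055815430)) (.node (.leaf 47781522560) (.leaf 77309429643)))))) (.node (.node (.node (.node (.node (.node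 (.leaf 2147484170) (.leaf 81604398220)) (.leaf 25769816070)) (.node (.leaf 19864226192) (.leaf 51539619854))) (.node (.node (.leaf 17179872778) (.leaf 57445201280)) (.node (.leaf 40802194176) (.leaf 75161944833)))) (.node (.node (.node (.leaf 9126807811) (.leaf 50465877763)) (.node (.leaf 34896617610) (.leaf 71403848198))) (.node (.node (.leaf 24159196810) (.leaf 62813910658)) (.node (.leaf 46707774854) (.leaf 79456913922))))) (.node (.node (.node (.node (.node (.leaf 5368710410) (.leaf 83751881344)) (.leaf 38117843852)) (.node (.leaf 12884908047) (.leaf 47781527823))) (.node (.node (.leaf 20401095944) (.leaf 60666427523)) (.node (.leaf 42949677581) (.leaf 77309429000)))) (.node (.node (.node (.leaf 12884903693) (.leaf 54223975296)) (.node (.leaf 38654709378) (.leaf 73551332493))) (.node (.node (.leaf 30064773380) (.leaf 64424523776)) (.node (.leaf 23622331791) (.leaf 79993782274))))))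
def dF_24 : BT := .node dF_22 dF_23
def dF_25 : BT := .node (.node (.node (.node (.node (.node (.node (.leaf 142) (.leaf 80530656013)) (.leaf 49392134918)) (.node (.leaf 30601648768) (.leaf 64961390732))) (.node (.node (.leaf 3758100110) (.leaf 35433493506)) (.node (.leaf 35970360586) (.leaf 74625074570)))) (.node (.node (.node (.leaf 6979323530) (.leaf 44023420547)) (.node (.leaf 32749130508) (.leaf 70330101510))) (.node (.node (.leaf 5905585414) (.leaf 62277039616)) (.node (.leaf 44023425290) (.leaf 77846300812))))) (.node (.node (.node (.node (.node (.leaf 3221225996) (.leaf 81067527426)) (.leaf 53687097858)) (.node (.leaf 1610613391) (.leaf 68182622088))) (.node (.node (.leaf 4294971663) (.leaf 57982068736)) (.node (.leaf 41875940224) (.leaf 63350785807)))) (.node (.node (.node (.leaf 10737419010) (.leaf 54760845832)) (.node (.leaf 35433486222) (.leaf 71940716172))) (.node (.node (.leaf 25769805705) (.leaf 63350781696)) (.node (.leaf 47244651405) (.leaf 79456913281)))))) (.node (.node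 (.node (.node (.node (.node (.leaf 1610613130) (.leaf 82141268874)) (.leaf 50465877773)) (.node (.leaf 32212262406) (.leaf 67108880006))) (.node (.node (.leaf 17179870214) (.leaf 56371459340)) (.node (.leaf 40265327115) (.leaf 75161943045)))) (.node (.node (.node (.leaf 9663678601) (.leaf 36507231618)) (.node (.leaf 34896612236) (.leaf 71403848200))) (.node (.node (.leaf 6979327630) (.leaf 40265333382)) (.node (.leaf 22548589316) (.leaf 78920042895))))) (.node (.node (.node (.node (.node (.leaf 1610614022) (.leaf 77309431300)) (.leaf 32749130511)) (.node (.leaf 12884908176) (.leaf 69256364045))) (.node (.node (.leaf 19864228367) (.leaf 60129551234)) (.node (.leaf 42949683205) (.leaf 73551333248)))) (.node (.node (.node (.leaf 3221228552) (.leaf 55297713677)) (.node (.leaf 15032394639) (.leaf 73014461452))) (.node (.node (.leaf 28991033101) (.leaf 63887648520)) (.node (.leaf 48318388228) (.leaf 79993784966))))))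
def dF_26 : BT := .node (.node (.node (.node (.node (.node (.node (.leaf 1073742085) (.leaf 81067527055)) (.leaf 27380418448)) (.node (.leaf 28454165636) (.leaf 65498261772))) (.node (.node (.leaf 16643001736) (.leaf 34359751946)) (.node (.leaf 40265325582) (.leaf 62277043718)))) (.node (.node (.node (.leaf 2147485711) (.leaf 5905581447)) (.node (.leaf 12348039176) (.leaf 54223979018))) (.node (.node (.leaf 7516198276) (.leaf 62277035405)) (.node (.leaf 20401105422) (.leaf 78383171855))))) (.node (.node (.node (.node (.node (.leaf 3758097417) (.leaf 83215010820)) (.leaf 28454167438)) (.node (.leaf 17716742414) (.leaf 47244656782))) (.node (.node (.leaf 18790486410) (.leaf 59055810944)) (.node (.leaf 42412806274) (.leaf 76235684747)))) (.node (.node (.node (.leaf 2684357391) (.leaf 30064784141)) (.node (.leaf 36507226624) (.leaf 72477587080))) (.node (.node (.leaf 27917289604) (.leaf 59055815432)) (.node (.leaf 47781516808) (.leaf 73014461575)))))) (.node (.node (.node (.node (.node (.node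 (.leaf 2684355210) (.leaf 82678139782)) (.leaf 51539619853)) (.node (.leaf 9126809360) (.leaf 67645751045))) (.node (.node (.leaf 15032389636) (.leaf 57445195912)) (.node (.leaf 37044102658) (.leaf 75698815872)))) (.node (.node (.node (.leaf 10200547972) (.leaf 54223970956)) (.node (.leaf 21474841606) (.leaf 70866977414))) (.node (.node (.leaf 7516198794) (.leaf 58518943374)) (.node (.leaf 46707780482) (.leaf 79456913669))))) (.node (.node (.node (.node (.node (.leaf 5905581450) (.leaf 83215011340)) (.leaf 8053070096)) (.node (.leaf 26843552012) (.leaf 69793230217))) (.node (.node (.leaf 7516197634) (.leaf 60666427531)) (.node (.leaf 22548583683) (.leaf 74088204296)))) (.node (.node (.node (.leaf 3221228815) (.leaf 55834582666)) (.node (.leaf 39191581952) (.leaf 74088200070))) (.node (.node (.leaf 27917294602) (.leaf 60129557514)) (.node (.leaf 48855264651) (.leaf 79993784587))))))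
def dF_27 : BT := .node dF_25 dF_26
def dF_28 : BT := .node dF_24 dF_27
def dF_29 : BT := .node dF_21 dF_28
def dF_30 : BT := .node dF_14 dF_29
def dF : BT := dF_30
def dP_0 : BT := .node (.node (.node (.node (.node (.node (.node (.leaf 0) (.leaf 11151)) (.leaf 2952)) (.node (.leaf 1030) (.leaf 6150))) (.node (.node (.node (.leaf 527) (.leaf 15238)) (.leaf 4495)) (.node (.leaf 1806) (.leaf 9090)))) (.node (.node (.node (.node (.leaf 385) (.leaf 14095)) (.leaf 3714)) (.node (.leaf 1295) (.leaf 7818))) (.node (.node (.node (.leaf 776) (.leaf 17290)) (.leaf 5514)) (.node (.leaf 2308) (.leaf 9986))))) (.node (.node (.node (.node (.node (.leaf 134) (.leaf 12938)) (.leaf 3470)) (.node (.leaf 1166) (.leaf 6658))) (.node (.node (.node (.leaf 646) (.leaf 16134)) (.leaf 4878)) (.node (.leaf 2180) (.leaf 9487)))) (.node (.node (.node (.node (.leaf 399) (.leaf 14854)) (.leaf 4104)) (.node (.leaf 1676) (.leaf 8591))) (.node (.node (.node (.leaf 902) (.leaf 18436)) (.leaf 5762)) (.node (.leaf 2444) (.leaf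 10383)))))) (.node (.node (.node (.node (.node (.node (.leaf 15) (.leaf 11407)) (.leaf 3082)) (.node (.leaf 1039) (.leaf 6414))) (.node (.node (.node (.leaf 641) (.leaf 15624)) (.leaf 4614)) (.node (.leaf 1922) (.leaf 9230)))) (.node (.node (.node (.node (.leaf 390) (.leaf 14214)) (.leaf 3970)) (.node (.leaf 1414) (.leaf 8202))) (.node (.node (.node (.leaf 783) (.leaf 17928)) (.leaf 5518)) (.node (.leaf 2318) (.leaf 10246))))) (.node (.node (.node (.node (.node (.leaf 262) (.leaf 13830)) (.leaf 3598)) (.node (.leaf 1288) (.leaf 7170))) (.node (.node (.node (.leaf 655) (.leaf 16776)) (.leaf 5380)) (.node (.leaf 2190) (.leaf 9738)))) (.node (.node (.node (.node (.leaf 520) (.leaf 15119)) (.leaf 4111)) (.node (.leaf 1679) (.leaf 8842))) (.node (.node (.leaf 911) (.leaf 6030)) (.node (.leaf 2574) (.leaf 10639))))))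
def dP_1 : BT := .node (.node (.node (.node (.node (.node (.node (.leaf 14) (.leaf 11278)) (.leaf 2956)) (.node (.leaf 1038) (.leaf 6404))) (.node (.node (.node (.leaf 640) (.leaf 15492)) (.leaf 4610)) (.node (.leaf 1807) (.leaf 9217)))) (.node (.node (.node (.node (.leaf 388) (.leaf 14210)) (.leaf 3718)) (.node (.leaf 1410) (.leaf 8198))) (.node (.node (.node (.leaf 782) (.leaf 17668)) (.leaf 5516)) (.node (.leaf 2310) (.leaf 10242))))) (.node (.node (.node (.node (.node (.leaf 258) (.leaf 13194)) (.leaf 3592)) (.node (.leaf 1167) (.leaf 6792))) (.node (.node (.node (.leaf 654) (.leaf 16260)) (.leaf 4879)) (.node (.leaf 2182) (.leaf 9606)))) (.node (.node (.node (.node (.leaf 516) (.leaf 14984)) (.leaf 4110)) (.node (.leaf 1678) (.leaf 8710))) (.node (.node (.leaf 910) (.leaf 5766)) (.node (.leaf 2568) (.leaf 10504)))))) (.node (.node (.node (.node (.node (.node (.leaf 130) (.leaf 12038)) (.leaf 3458)) (.node (.leaf 1164) (.leaf 6415))) (.node (.node (.node (.leaf 644) (.leaf 16010)) (.leaf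 4874)) (.node (.leaf 1926) (.leaf 9231)))) (.node (.node (.node (.node (.leaf 398) (.leaf 14336)) (.leaf 3982)) (.node (.leaf 1672) (.leaf 8204))) (.node (.node (.node (.leaf 900) (.leaf 18058)) (.leaf 5647)) (.node (.leaf 2319) (.leaf 10382))))) (.node (.node (.node (.node (.node (.leaf 384) (.leaf 13960)) (.leaf 3599)) (.node (.leaf 1294) (.leaf 7304))) (.node (.node (.node (.leaf 772) (.leaf 17160)) (.leaf 5510)) (.node (.leaf 2191) (.leaf 9743)))) (.node (.node (.node (.node (.leaf 526) (.leaf 15234)) (.leaf 4226)) (.node (.leaf 1802) (.leaf 8847))) (.node (.node (.leaf 1028) (.leaf 6146)) (.node (.leaf 2575) (.leaf 10886))))))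
def dP_2 : BT := .node dP_0 dP_1
def dP : BT := dP_2
def dRels : List (List ℕ) := [[], [0, 1], [1, 0], [2, 3], [3, 2], [4, 5], [5, 4], [6, 7], [7, 6], [8, 9], [9, 8], [10, 11], [11, 10], [12, 13], [13, 12], [14, 15], [15, 14], [0, 0, 0], [1, 1, 1], [2, 2], [3, 3], [4, 4], [5, 5], [6, 6], [7, 7], [8, 8], [9, 9], [10, 10], [11, 11], [0, 2, 0, 2, 0, 2], [3, 1, 3, 1, 3, 1], [2, 4, 2, 4, 2, 4], [5, 3, 5, 3, 5, 3], [4, 6, 4, 6, 4, 6], [7, 5, 7, 5, 7, 5], [6, 8, 6, 8, 6, 8], [9, 7, 9, 7, 9, 7], [8, 10, 8, 10, 8, 10], [11, 9, 11, 9, 11, 9], [0, 4, 0, 4], [5, 1, 5, 1], [0, 6, 0, 6], [7, 1, 7, 1], [0, 8, 0, 8], [9, 1, 9, 1], [0, 10, 0, 10], [11, 1, 11, 1], [2, 6, 2, 6], [7, 3, 7, 3], [2, 8, 2, 8], [9, 3, 9, 3], [2, 10, 2, 10], [11, 3, 11, 3], [4, 8, 4, 8], [9, 5, 9, 5], [4, 10, 4, 10], [11, 5, 11, 5], [6, 10, 6, 10], [11, 7, 11, 7], [12, 12], [13, 13], [12, 0, 13, 1], [0, 12, 1, 13], [12, 2, 13, 3], [2, 12, 3, 13], [12, 6, 13, 7], [6, 12, 7, 13], [12, 8, 13, 9], [8, 12, 9, 13], [12, 10, 13, 11], [10,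 12, 11, 13], [12, 4, 12, 4, 12, 4, 12, 4, 12, 4, 12, 4], [5, 13, 5, 13, 5, 13, 5, 13, 5, 13, 5, 13], [12, 4, 12, 4, 12, 4, 2, 5, 13, 5, 13, 5, 13, 3], [2, 12, 4, 12, 4, 12, 4, 3, 5, 13, 5, 13, 5, 13], [12, 4, 12, 4, 12, 4, 4, 5, 13, 5, 13, 5, 13, 5], [4, 12, 4, 12, 4, 12, 4, 5, 5, 13, 5, 13, 5, 13], [12, 4, 12, 4, 12, 4, 6, 5, 13, 5, 13, 5, 13, 7], [6, 12, 4, 12, 4, 12, 4, 7, 5, 13, 5, 13, 5, 13], [12, 4, 12, 4, 12, 4, 8, 5, 13, 5, 13, 5, 13, 9], [8, 12, 4, 12, 4, 12, 4, 9, 5, 13, 5, 13, 5, 13], [12, 4, 12, 4, 12, 4, 10, 5, 13, 5, 13, 5, 13, 11], [10, 12, 4, 12, 4, 12, 4, 11, 5, 13, 5, 13, 5, 13], [12, 4, 12, 4, 12, 4, 12, 5, 13, 5, 13, 5, 13, 13], [12, 12, 4, 12, 4, 12, 4, 13, 5, 13, 5, 13, 5, 13], [12, 4, 12, 4, 12, 4, 0, 5, 13, 5, 13, 5, 13, 0], [1, 12, 4, 12, 4, 12, 4, 1, 5, 13, 5, 13, 5, 13], [12, 4, 2, 1, 6, 4, 2, 0, 8, 6, 4, 2, 10, 8, 6, 4, 13, 5, 7, 9, 11, 3, 5, 7, 9, 1, 3, 5, 7, 0, 3, 5], [4, 2, 1, 6, 4, 2, 0, 8, 6, 4, 2, 10, 8, 6, 4, 12, 5, 7, 9, 11, 3, 5, 7, 9, 1, 3, 5, 7, 0,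 3, 5, 13], [12, 1, 2, 4, 6, 10, 12, 1, 2, 4, 6, 10, 12, 1, 2, 4, 6, 10, 12, 1, 2, 4, 6, 10, 12, 1, 2, 4, 6, 10], [11, 7, 5, 3, 0, 13, 11, 7, 5, 3, 0, 13, 11, 7, 5, 3, 0, 13, 11, 7, 5, 3, 0, 13, 11, 7, 5, 3, 0, 13], [14, 14, 14], [15, 15, 15], [14, 0, 15, 1], [0, 14, 1, 15], [14, 4, 15, 5], [4, 14, 5, 15], [14, 8, 15, 9], [8, 14, 9, 15], [14, 10, 15, 11], [10, 14, 11, 15], [12, 14, 13, 14], [15, 12, 15, 13], [12, 4, 12, 4, 12, 4, 14, 5, 13, 5, 13, 5, 13, 14], [15, 12, 4, 12, 4, 12, 4, 15, 5, 13, 5, 13, 5, 13], [14, 2, 4, 6, 4, 2, 15, 3, 5, 7, 5, 3], [2, 4, 6, 4, 2, 14, 3, 5, 7, 5, 3, 15], [14, 12, 4, 12, 4, 12, 4, 2, 14, 12, 4, 12, 4, 12, 4, 2, 14, 12, 4, 12, 4, 12, 4, 2], [3, 5, 13, 5, 13, 5, 13, 15, 3, 5, 13, 5, 13, 5, 13, 15, 3, 5, 13, 5, 13, 5, 13, 15]]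
def dD : Data := ⟨8, dF, dP, dRels, [0, 2, 4, 6, 8, 10, 12]⟩
def dJ0 : List (List ℕ) := [[1, 0], [1, 0], [1, 0], [1, 0], [1, 0], [1, 0], [1, 0], [0, 0], [95, 1, 15, 1, 14], [97, 1, 15, 5, 14], [99, 1, 15, 9, 14], [101, 1, 15, 11, 14], [0, 0], [94, 1, 15, 24], [95, 3, 25, 0, 24], [97, 3, 25, 4, 24], [99, 3, 25, 8, 24], [101, 3, 25, 10, 24], [104, 1, 15, 13, 24], [104, 3, 15, 12, 24], [0, 0], [21, 1, 40], [51, 1, 42, 20, 40], [53, 1, 42, 22, 40], [0, 0], [25, 1, 48], [43, 2, 50, 16, 48], [59, 1, 50, 22, 48], [0, 0], [21, 1, 56], [51, 1, 58, 33, 56], [53, 1, 58, 35, 56], [65, 2, 41, 39, 56], [66, 1, 41, 37, 56], [0, 0], [25, 1, 68], [43, 2, 70, 29, 68], [59, 1, 70, 35, 68], [67, 2, 49, 39, 68], [68, 1, 49, 37, 68], [0, 0], [0, 0], [20, 1, 81, 82], [32, 2, 81, 41, 17, 43, 82], [46, 2, 81, 45, 82], [48, 2, 81, 47, 82], [30, 1, 90], [28, 1, 88], [22, 1, 86], [0, 0], [23, 1, 98], [33, 2, 100, 42, 18, 40, 98], [55, 1, 100, 44, 98], [57, 1, 100, 46, 98], [107, 3, 100, 42, 15, 3, 5, 7, 5, 3, 14, 40,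 98], [0, 0], [25, 1, 110], [35, 2, 112, 98, 108, 100, 110], [49, 2, 50, 40, 110], [59, 1, 112, 46, 110], [53, 0, 118, 116, 54], [0, 0], [99, 1, 123, 45, 122], [101, 1, 123, 47, 122], [0, 0], [94, 1, 123, 128], [0, 0], [23, 1, 132], [33, 2, 134, 120, 114, 116, 132], [35, 1, 134, 50, 18, 48, 132], [41, 2, 134, 52, 132], [57, 1, 134, 54, 132], [0, 0], [27, 1, 144], [37, 2, 146, 50, 20, 48, 144], [45, 2, 146, 52, 144], [0, 0], [95, 1, 153, 53, 152], [101, 1, 153, 55, 152], [0, 0], [94, 1, 153, 158], [0, 0], [63, 2, 81, 65, 162], [64, 1, 81, 67, 162], [0, 0], [20, 1, 163, 168], [32, 2, 163, 57, 28, 59, 168], [46, 2, 163, 61, 168], [48, 2, 163, 63, 168], [63, 0, 83, 67, 168], [64, 3, 83, 65, 168], [66, 2, 180, 97, 165], [70, 2, 180, 95, 165], [72, 2, 180, 93, 165], [0, 0], [23, 1, 188], [33, 2, 190, 58, 31, 56, 188], [55, 1, 190, 60, 188], [57, 1, 190, 62, 188], [107, 3, 190, 58, 26, 43, 101, 109, 99, 41, 27, 56, 188], [0, 0], [25, 1, 200], [35, 2, 202, 188, 198, 190, 200], [49, 2, 70, 56, 200],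 [59, 1, 202, 62, 200], [67, 2, 111, 65, 200], [68, 1, 111, 67, 200], [66, 0, 212, 121, 79], [0, 0], [103, 2, 129, 65, 216], [103, 0, 129, 67, 216], [0, 0], [104, 3, 123, 65, 222], [0, 0], [23, 1, 226], [33, 2, 228, 214, 204, 206, 226], [35, 1, 228, 70, 31, 68, 226], [41, 2, 228, 72, 226], [57, 1, 228, 74, 226], [0, 0], [27, 1, 238], [37, 2, 240, 70, 33, 68, 238], [45, 2, 240, 72, 238], [69, 2, 145, 77, 238], [70, 1, 145, 79, 238], [0, 0], [103, 2, 159, 77, 250], [0, 0], [104, 3, 153, 77, 254], [0, 0], [23, 1, 258], [41, 2, 100, 80, 258], [0, 0], [25, 1, 264], [43, 2, 112, 80, 264], [0, 0], [96, 2, 123, 80, 270], [0, 0], [94, 1, 271, 274], [95, 3, 129, 80, 274], [0, 0], [23, 1, 280], [41, 2, 260, 85, 280], [55, 1, 260, 89, 280], [57, 1, 260, 91, 280], [29, 1, 288], [47, 0, 288, 262, 106], [43, 1, 262, 108, 292], [25, 1, 294], [27, 1, 286], [0, 0], [25, 1, 300], [35, 2, 266, 258, 296, 282, 300], [43, 2, 266, 85, 300], [49, 2, 266, 87, 300], [59, 1, 266, 91, 300], [29, 1, 310], [47, 0, 310,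 268, 118], [21, 1, 308], [23, 1, 304], [0, 0], [95, 1, 123, 82, 320], [96, 2, 271, 85, 320], [99, 1, 271, 94, 320], [100, 2, 271, 89, 320], [101, 1, 271, 92, 320], [102, 2, 271, 91, 320], [0, 0], [94, 1, 321, 334], [96, 0, 129, 82, 334], [0, 0], [61, 1, 340], [65, 1, 341, 103, 340], [67, 1, 341, 109, 340], [69, 1, 341, 105, 340], [71, 1, 341, 107, 340], [75, 3, 342, 100, 42, 19, 37, 30, 38, 19, 37, 59, 66, 98, 340], [0, 0], [97, 1, 123, 101, 354], [98, 2, 123, 98, 354], [99, 1, 355, 105, 354], [101, 1, 355, 107, 354], [0, 0], [94, 1, 355, 364], [97, 3, 129, 98, 364], [98, 0, 129, 101, 364], [0, 0], [27, 1, 372], [37, 2, 374, 112, 44, 110, 372], [51, 2, 146, 120, 372], [55, 2, 374, 114, 372], [21, 1, 378], [0, 0], [0, 0], [94, 1, 385, 386], [97, 3, 387, 114, 386], [101, 3, 387, 118, 386], [0, 0], [21, 1, 394], [0, 0]]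
def dJ1 : List (List ℕ) := [[25, 1, 398], [59, 1, 400, 126, 398], [0, 0], [27, 1, 404], [45, 2, 406, 140, 404], [51, 2, 406, 136, 404], [55, 2, 146, 132, 404], [23, 1, 412], [0, 0], [61, 1, 416], [63, 1, 417, 141, 416], [65, 1, 417, 137, 416], [67, 1, 417, 139, 416], [71, 1, 417, 143, 416], [75, 3, 418, 134, 120, 115, 213, 205, 210, 115, 213, 215, 78, 132, 416], [0, 0], [95, 1, 431, 141, 430], [97, 1, 153, 135, 430], [98, 2, 153, 132, 430], [101, 1, 431, 143, 430], [0, 0], [94, 1, 431, 440], [98, 0, 159, 135, 440], [0, 0], [29, 1, 446], [39, 2, 448, 146, 54, 144, 446], [47, 2, 448, 150, 446], [59, 2, 448, 148, 446], [0, 0], [95, 1, 457, 151, 456], [99, 1, 153, 147, 456], [100, 2, 153, 144, 456], [0, 0], [94, 1, 457, 464], [99, 3, 159, 144, 464], [0, 0], [21, 1, 470], [0, 0], [0, 0], [23, 1, 476], [41, 2, 190, 162, 476], [0, 0], [25, 1, 482], [43, 2, 202, 162, 482], [67, 2, 265, 165, 482], [68, 1, 265, 167, 482], [0, 0], [103, 2, 275, 165, 492], [0, 0], [104, 3, 271, 165, 496], [0, 0], [23,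 1, 500], [41, 2, 478, 171, 500], [55, 1, 478, 175, 500], [57, 1, 478, 177, 500], [29, 1, 508], [47, 0, 508, 480, 196], [43, 1, 480, 198, 512], [25, 1, 514], [27, 1, 506], [0, 0], [25, 1, 520], [35, 2, 484, 476, 516, 502, 520], [43, 2, 484, 171, 520], [49, 2, 484, 173, 520], [59, 1, 484, 177, 520], [67, 2, 301, 181, 520], [68, 1, 301, 179, 520], [64, 0, 534, 315, 213], [66, 0, 534, 317, 491], [72, 0, 534, 313, 491], [75, 3, 534, 304, 316, 319, 491, 525, 532, 319, 491, 529, 534, 304, 489], [0, 0], [103, 2, 335, 181, 544], [0, 0], [104, 3, 321, 181, 548], [0, 0], [61, 1, 552], [65, 1, 553, 193, 552], [67, 1, 553, 199, 552], [69, 1, 553, 195, 552], [71, 1, 553, 197, 552], [73, 1, 554, 190, 66, 98, 340, 352, 342, 100, 65, 188, 552], [109, 3, 552, 564, 554, 190, 58, 25, 12, 4, 12, 4, 12, 4, 2, 14, 39, 31, 36, 18, 39, 31, 56, 216, 220, 369], [8, 0, 371, 566, 190], [17, 0, 364, 566], [18, 0, 367, 566], [4, 0, 278, 569, 162], [3, 0, 338, 569, 168], [16, 0, 218, 569, 66], [17, 0, 131, 569, 222], [16,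 0, 494, 575, 166], [17, 0, 277, 575, 496], [16, 0, 546, 577, 178], [17, 0, 337, 577, 548], [18, 0, 216, 579], [16, 0, 225, 580], [17, 0, 222, 580], [18, 0, 492, 583], [16, 0, 499, 584], [17, 0, 496, 584], [18, 0, 544, 587], [16, 0, 551, 588], [17, 0, 548, 588], [103, 1, 553, 570, 340], [97, 0, 282, 602, 503], [95, 2, 505, 610, 284], [107, 0, 441, 136, 134, 50, 18, 40, 590, 57, 30, 71, 229, 231], [8, 0, 445, 615, 228], [17, 0, 440, 615], [18, 0, 443, 615], [12, 0, 468, 617, 238], [16, 0, 252, 617, 78], [17, 0, 161, 617, 254], [17, 0, 464, 623], [18, 0, 467, 623], [18, 0, 250, 625], [16, 0, 257, 626], [17, 0, 254, 626], [65, 0, 472, 634, 473], [69, 0, 460, 634, 461], [0, 0], [27, 1, 642], [37, 2, 644, 202, 60, 200, 642], [51, 2, 240, 214, 642], [55, 2, 644, 204, 642], [69, 2, 373, 211, 642], [70, 1, 373, 213, 642], [66, 0, 654, 383, 249], [0, 0], [97, 1, 659, 205, 658], [103, 2, 387, 211, 658], [103, 0, 387, 213, 658], [0, 0], [104, 3, 385, 211, 666], [0, 0], [27, 1, 670], [45, 2, 672, 234,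 670], [51, 2, 672, 230, 670], [55, 2, 240, 226, 670], [100, 1, 405, 619, 670], [98, 0, 680, 415, 629], [0, 0], [61, 1, 684], [63, 1, 685, 235, 684], [65, 1, 685, 231, 684], [67, 1, 685, 233, 684], [71, 1, 685, 237, 684], [73, 1, 686, 228, 78, 132, 416, 428, 418, 134, 77, 226, 684], [104, 2, 417, 619, 684], [109, 15, 387, 211, 204, 212, 114, 211, 204, 206, 633, 77, 226, 684, 696, 686, 228, 214, 658, 664, 391, 663, 660, 664, 391], [108, 2, 391, 700, 387, 121, 135, 139, 133, 117, 386, 700, 391], [0, 0], [29, 1, 704], [39, 2, 706, 240, 74, 238, 704], [47, 2, 706, 244, 704], [59, 2, 706, 242, 704], [71, 2, 447, 247, 704], [72, 1, 447, 249, 704], [102, 1, 447, 629, 704], [0, 0], [21, 1, 720], [91, 1, 722, 260, 264, 312, 533, 537, 206, 226, 232, 236, 684, 689, 690, 696, 692, 694, 686, 235, 230, 228, 70, 35, 36, 17, 40, 98, 108, 106, 340], [63, 0, 262, 343, 724], [64, 3, 262, 340, 724], [0, 0], [93, 1, 613, 730], [95, 1, 355, 263, 730], [97, 1, 271, 261, 730], [98, 2, 271, 258, 730], [0, 0], [27,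 1, 740], [45, 0, 742, 268, 372], [0, 0], [95, 1, 385, 269, 746], [0, 0], [94, 1, 747, 750], [96, 0, 387, 269, 750], [0, 0], [21, 1, 756], [65, 2, 757, 599, 756], [0, 0], [25, 1, 762], [43, 2, 400, 273, 762], [0, 0], [21, 1, 768], [31, 2, 722, 262, 102, 292, 768], [33, 1, 722, 260, 87, 280, 768], [49, 1, 722, 296, 768], [51, 1, 722, 298, 768], [53, 1, 722, 290, 768], [29, 1, 780], [47, 0, 780, 725, 350], [71, 0, 780, 728, 289], [72, 3, 780, 726, 289], [67, 3, 726, 296, 788], [69, 3, 726, 298, 788], [75, 9, 728, 259, 167, 182, 178, 280, 786, 774, 726, 260, 87, 283, 788], [0, 0], [93, 1, 610, 796]]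
def dJ2 : List (List ℕ) := [[95, 1, 731, 285, 796], [96, 2, 355, 292, 796], [97, 1, 321, 283, 796], [98, 2, 321, 280, 796], [99, 1, 731, 287, 796], [100, 2, 731, 298, 796], [101, 1, 731, 289, 796], [102, 2, 731, 290, 796], [0, 0], [27, 1, 816], [37, 2, 742, 266, 89, 300, 816], [45, 2, 374, 314, 816], [51, 2, 742, 316, 816], [55, 2, 742, 318, 816], [23, 1, 826], [21, 1, 824], [19, 2, 822, 744], [43, 3, 822, 376, 744], [0, 0], [95, 1, 747, 307, 836], [0, 0], [94, 1, 837, 840], [95, 3, 387, 314, 840], [96, 0, 751, 307, 840], [97, 3, 751, 318, 840], [98, 0, 751, 305, 840], [101, 3, 751, 312, 840], [102, 0, 751, 311, 840], [44, 0, 844, 703, 755], [26, 1, 856], [0, 0], [21, 1, 860], [51, 1, 758, 329, 860], [53, 1, 758, 333, 860], [65, 2, 861, 605, 860], [29, 1, 866], [27, 1, 864], [0, 0], [94, 1, 609, 874], [97, 3, 875, 352, 874], [99, 3, 875, 348, 874], [101, 3, 875, 350, 874], [104, 1, 355, 343, 874], [104, 3, 355, 340, 874], [110, 1, 357, 885, 878, 886, 358, 592, 123, 41, 19, 37, 30, 38, 19,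 37, 26, 43, 101, 343, 353, 341, 99, 67, 595, 397], [6, 0, 394, 888], [32, 3, 757, 272, 890, 323, 863], [50, 3, 399, 890, 401], [0, 0], [21, 1, 896], [33, 1, 898, 356, 891, 359, 896], [51, 1, 898, 360, 896], [53, 1, 898, 362, 896], [0, 0], [25, 1, 906], [59, 1, 908, 362, 906], [0, 0], [29, 1, 912], [39, 2, 914, 374, 118, 372, 912], [53, 2, 448, 382, 912], [57, 2, 914, 380, 912], [59, 2, 914, 376, 912], [49, 0, 922, 918, 454], [0, 0], [100, 2, 385, 372, 926], [0, 0], [94, 1, 927, 930], [97, 3, 931, 380, 930], [99, 3, 387, 372, 930], [100, 0, 387, 375, 930], [51, 0, 938, 700, 937], [0, 0], [23, 1, 942], [57, 1, 944, 402, 942], [0, 0], [25, 1, 948], [35, 2, 950, 412, 148, 414, 948], [37, 1, 950, 406, 138, 404, 948], [43, 2, 950, 408, 948], [49, 2, 950, 410, 948], [0, 0], [29, 1, 960], [39, 2, 962, 406, 142, 404, 960], [47, 2, 962, 408, 960], [53, 2, 962, 410, 960], [57, 2, 448, 414, 960], [23, 1, 970], [89, 16, 953, 949, 405, 143, 137, 133, 49, 21, 17, 43, 101, 109, 292, 771, 794, 726, 260,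 87, 84, 264, 318, 308, 268, 372, 376, 380, 378, 446, 450, 454, 972], [90, 15, 953, 949, 405, 143, 137, 133, 49, 21, 17, 43, 101, 109, 292, 771, 794, 728, 260, 87, 84, 264, 318, 308, 268, 372, 376, 380, 378, 446, 450, 454, 972], [0, 0], [61, 1, 978], [63, 1, 979, 409, 978], [65, 1, 979, 411, 978], [67, 1, 974, 949, 978], [68, 2, 974, 950, 978], [69, 1, 417, 407, 978], [70, 2, 417, 404, 978], [71, 1, 977, 961, 978], [72, 2, 977, 962, 978], [75, 3, 980, 412, 382, 381, 655, 651, 652, 381, 655, 657, 248, 414, 978], [0, 0], [93, 1, 680, 1000], [95, 1, 1001, 409, 1000], [97, 1, 457, 413, 1000], [98, 2, 457, 414, 1000], [99, 1, 431, 407, 1000], [100, 2, 431, 404, 1000], [0, 0], [94, 1, 698, 1014], [95, 3, 1015, 420, 1014], [97, 3, 1015, 428, 1014], [101, 3, 1015, 426, 1014], [104, 1, 431, 419, 1014], [104, 3, 431, 416, 1014], [0, 0], [21, 1, 1028], [107, 2, 908, 356, 891, 123, 41, 19, 51, 135, 137, 430, 1028], [23, 1, 1032], [35, 5, 1032, 908, 356, 398, 942], [25, 1, 1036], [0, 0], [25, 1, 1040],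 [43, 2, 1042, 432, 1040], [49, 2, 1036, 1030, 1040], [59, 1, 1042, 438, 1040], [53, 0, 1048, 1046, 946], [33, 1, 1046, 944, 895, 942, 1050], [35, 4, 437, 1040, 1052, 1042, 434, 474], [10, 0, 474, 1054], [0, 0], [93, 1, 718, 1058], [95, 1, 1059, 453, 1058], [99, 1, 1059, 451, 1058], [101, 1, 457, 449, 1058], [102, 2, 457, 446, 1058], [103, 2, 1060, 716, 1058], [0, 0], [51, 1, 472, 463, 1072], [27, 1, 1074], [0, 0], [25, 1, 1078], [37, 1, 1080, 460, 1057, 463, 1078], [43, 2, 1080, 458, 1078], [67, 2, 1079, 640, 1078], [0, 0], [33, 2, 1034, 1030, 434, 470, 1088], [107, 3, 900, 898, 355, 103, 99, 113, 115, 121, 152, 470, 1088], [0, 0], [0, 0], [104, 3, 1095, 638, 1096], [0, 0], [21, 1, 1100], [91, 1, 1102, 478, 482, 540, 534, 315, 116, 132, 138, 142, 416, 421, 422, 428, 424, 426, 418, 141, 136, 134, 50, 22, 39, 28, 56, 188, 198, 196, 552], [63, 0, 480, 555, 1104], [64, 3, 480, 552, 1104], [96, 3, 725, 608, 1104], [107, 1, 538, 524, 484, 476, 1100, 1110, 721, 259, 267, 305, 317, 746], [4, 0,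 749, 1112, 486], [3, 0, 838, 1112, 527], [17, 0, 752, 1112], [18, 0, 746, 1112], [12, 0, 928, 1115, 642], [16, 0, 668, 1115, 212], [18, 0, 388, 1115, 658], [17, 0, 842, 1117], [18, 0, 836, 1117], [17, 0, 932, 1123], [18, 0, 926, 1123], [17, 0, 666, 1125], [16, 0, 663, 1126], [18, 0, 658, 1126], [63, 0, 754, 1138, 755], [64, 1, 844, 1138, 845], [69, 0, 938, 1138, 939], [109, 18, 132, 416, 428, 418, 134, 120, 1136, 212, 114, 211, 204, 212, 114, 116, 152, 635, 437, 1027, 1021, 1024, 434, 470, 1094, 1099], [18, 0, 1096, 1148, 152], [6, 0, 470, 1151], [8, 0, 1089, 1151, 437], [12, 0, 1077, 1151, 463], [6, 0, 1091, 1155, 1028], [10, 0, 1093, 1155, 1040], [6, 0, 1072, 1157], [5, 0, 1031, 1158], [6, 0, 1028, 1158], [8, 0, 1034, 1158], [10, 0, 1039, 1158, 908], [3, 0, 1161, 1045, 1160], [9, 0, 1043, 1160], [10, 0, 1040, 1160], [8, 0, 945, 1171, 356], [3, 0, 766, 1179, 323], [10, 0, 398, 1179], [9, 0, 765, 1181], [10, 0, 762, 1181], [50, 2, 861, 1186, 759], [26, 1, 1188], [38, 3, 1012, 1175, 903,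 1176, 1011], [36, 3, 1079, 1007, 1192, 1008, 1081], [31, 3, 734, 896, 1172, 898, 803], [21, 1, 1196]]
def dJ3 : List (List ℕ) := [[33, 3, 862, 807, 1196, 736, 756], [23, 1, 1200], [50, 3, 1079, 1162, 1081], [54, 3, 1068, 1162, 1067], [0, 0], [27, 1, 1208], [69, 2, 741, 489, 1208], [70, 1, 741, 491, 1208], [99, 2, 741, 1121, 1208], [95, 1, 1216, 745, 1135], [0, 0], [21, 1, 1220], [31, 2, 1102, 480, 192, 512, 1220], [33, 1, 1102, 478, 173, 500, 1220], [49, 1, 1102, 516, 1220], [51, 1, 1102, 518, 1220], [53, 1, 1102, 510, 1220], [75, 7, 1108, 477, 164, 261, 727, 721, 729, 795, 789, 282, 181, 500, 1220], [89, 8, 1228, 1235, 1222, 508, 518, 514, 478, 164, 261, 295, 299, 289, 771, 794, 777, 792, 773, 769, 281, 303, 306, 309, 319, 489, 542, 528, 527, 522, 500, 1220, 1224], [107, 3, 1226, 1102, 733, 1197, 806, 1186, 737, 1197, 798, 1220, 1226], [107, 6, 769, 281, 303, 319, 309, 1131, 528, 542, 522, 500, 1220], [95, 1, 1240, 785, 608], [101, 1, 1240, 783, 1111], [104, 3, 1240, 789, 611], [104, 1,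 1240, 787, 611], [0, 0], [27, 1, 1250], [37, 2, 1210, 484, 175, 520, 1250], [45, 2, 644, 536, 1250], [51, 2, 1210, 538, 1250], [55, 2, 1210, 542, 1250], [69, 2, 817, 533, 1250], [70, 1, 817, 535, 1250], [82, 4, 1264, 826, 741, 305, 535, 543, 488, 305, 535, 1250, 1264, 826, 1213], [99, 2, 817, 1131, 1250], [95, 1, 1268, 833, 1217], [76, 7, 1261, 1262, 829, 1215, 1261, 1262, 824, 1213, 1266, 1264, 826, 1213, 1266], [80, 7, 1261, 1262, 829, 1215, 1261, 1262, 820, 1213, 1266, 1264, 826, 1213, 1266], [0, 0], [29, 1, 1276], [39, 2, 1278, 644, 208, 642, 1276], [53, 2, 706, 656, 1276], [57, 2, 1278, 650, 1276], [59, 2, 1278, 646, 1276], [71, 2, 913, 653, 1276], [72, 1, 913, 655, 1276], [101, 2, 913, 1135, 1276], [66, 0, 1290, 925, 717], [0, 0], [25, 1, 1296], [35, 2, 1298, 678, 242, 682, 1296], [37, 1, 1298, 672, 232, 670, 1296], [43, 2, 1298, 674, 1296], [49, 2, 1298, 676, 1296], [107, 6, 959, 953, 949, 415, 379, 1135, 648, 682, 1296, 1300, 1306], [0, 0], [29, 1, 1310], [39, 2, 1312, 672, 236,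 670, 1310], [47, 2, 1312, 674, 1310], [53, 2, 1312, 676, 1310], [57, 2, 706, 682, 1310], [83, 7, 714, 971, 974, 953, 977, 961, 978, 998, 980, 412, 247, 682, 1310], [102, 1, 961, 681, 1310], [103, 0, 1324, 974, 1309], [103, 2, 1324, 976, 1309], [0, 0], [61, 1, 1330], [63, 1, 1331, 675, 1330], [65, 1, 1331, 677, 1330], [67, 1, 1327, 1297, 1330], [68, 2, 1327, 1298, 1330], [69, 1, 685, 673, 1330], [70, 2, 685, 670, 1330], [71, 1, 1328, 1311, 1330], [72, 2, 1328, 1312, 1330], [73, 1, 1332, 678, 248, 414, 978, 998, 980, 412, 247, 682, 1330], [104, 2, 979, 681, 1330], [0, 0], [94, 1, 1110, 1354], [96, 0, 875, 724, 1354], [104, 1, 731, 727, 1354], [104, 3, 731, 729, 1354], [0, 0], [25, 1, 1364], [43, 0, 1366, 734, 906], [0, 0], [29, 1, 1370], [47, 2, 914, 744, 1370], [0, 0], [94, 1, 1216, 1376], [95, 3, 931, 744, 1376], [99, 3, 751, 740, 1376], [100, 0, 751, 743, 1376], [104, 1, 1378, 1212, 1376], [0, 0], [21, 1, 1388], [65, 2, 1389, 1142, 1388], [0, 0], [20, 1, 892, 1394], [32, 2, 1396, 861, 324,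 759, 1394], [42, 2, 1396, 1201, 1394], [44, 2, 1396, 1190, 1394], [46, 2, 1396, 873, 1394], [48, 2, 1396, 871, 1394], [63, 0, 1395, 760, 1394], [0, 0], [0, 0], [104, 1, 1411, 760, 1412], [0, 0], [94, 1, 1240, 1416], [95, 3, 875, 784, 1416], [96, 0, 1355, 773, 1416], [97, 3, 1355, 795, 1416], [98, 0, 1355, 775, 1416], [99, 3, 1355, 793, 1416], [100, 0, 1355, 779, 1416], [101, 3, 1355, 782, 1416], [102, 0, 1355, 781, 1416], [104, 1, 797, 788, 1416], [104, 3, 797, 786, 1416], [110, 8, 1427, 1438, 806, 604, 805, 1437, 1418, 1221, 501, 180, 283, 788, 794, 728, 612, 1103, 1227, 1249, 501, 180, 283, 788, 1416], [22, 1, 1440], [110, 0, 757, 737, 1361, 1427, 1438, 806, 604, 321, 86, 261, 727, 775, 787, 281, 179, 607, 863, 1201, 760, 1203, 868, 1201, 760, 1412], [16, 0, 1415, 1444, 761], [18, 0, 1410, 1447], [95, 0, 1395, 1448, 1394], [96, 1, 892, 1448, 893], [0, 0], [25, 1, 1454], [35, 2, 1366, 736, 1187, 807, 1454], [43, 2, 908, 803, 1454], [49, 2, 1366, 1198, 1454], [59, 1, 1366, 815, 1454], [29,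 1, 1464], [21, 1, 1462], [107, 0, 1468, 1458, 1366, 736, 756, 1448, 757, 737, 1367, 1459, 1469], [107, 6, 1469, 1459, 1455, 806, 863, 1452, 862, 807, 1454, 1458, 1468], [96, 1, 1461, 1472, 1460], [19, 2, 1460, 1368], [41, 3, 1460, 1169, 1368], [0, 0], [29, 1, 1480], [39, 2, 1372, 742, 312, 816, 1480], [47, 2, 1372, 832, 1480], [53, 2, 1372, 830, 1480], [57, 2, 1372, 828, 1480], [59, 2, 1372, 834, 1480], [25, 1, 1492], [43, 0, 1492, 1374, 922], [89, 11, 1482, 818, 302, 280, 788, 794, 777, 792, 781, 769, 281, 303, 819, 833, 825, 829, 821, 822, 383, 413, 978, 998, 984, 983, 986, 970, 924, 1496, 1484, 1494, 1490], [23, 1, 1490], [89, 8, 1492, 1500, 1488, 1372, 742, 266, 258, 727, 775, 790, 779, 783, 721, 259, 267, 743, 745, 383, 413, 951, 956, 959, 953, 975, 970, 924, 1375, 1494, 1490, 1498, 1486], [0, 0], [94, 1, 1268, 1504], [95, 3, 1377, 832, 1504], [96, 0, 931, 823, 1504], [97, 3, 1377, 828, 1504], [98, 0, 1377, 827, 1504], [99, 3, 841, 816, 1504], [100, 0, 841, 819, 1504], [104, 1, 1506,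 1262, 1504], [0, 0], [21, 1, 1522], [31, 2, 1390, 754, 700, 845, 1522], [49, 1, 1390, 859, 1522], [53, 1, 1390, 853, 1522], [65, 2, 1523, 1144, 1522], [29, 1, 1530], [25, 1, 1528], [0, 0], [21, 1, 1538], [31, 2, 1540, 1421, 1443, 1358, 1538], [51, 1, 1540, 881, 1538], [53, 1, 1540, 883, 1538], [65, 2, 897, 887, 1538], [66, 1, 897, 885, 1538], [67, 3, 1550, 1174, 1025], [68, 0, 1550, 1176, 1025], [0, 0], [25, 1, 1556], [49, 2, 1554, 1540, 1556], [59, 1, 1558, 883, 1556], [67, 2, 907, 887, 1556], [68, 1, 907, 885, 1556], [66, 0, 1566, 1166, 1025], [103, 3, 1566, 1474, 1567], [0, 0], [0, 0], [94, 1, 1573, 1574], [0, 0], [27, 1, 1578], [37, 2, 1580, 908, 360, 906, 1578], [51, 2, 1010, 1167, 1578], [55, 2, 1580, 1169, 1578], [99, 2, 1579, 1474, 1578], [108, 5, 1204, 1194, 1079, 1007, 1585, 1588, 1584, 1006, 1078, 1195, 1205], [33, 0, 1586, 1584, 1006, 1163, 1009], [0, 0], [94, 1, 1292, 1594], [97, 3, 1595, 920, 1594]]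
def dJ4 : List (List ℕ) := [[99, 3, 1595, 916, 1594], [101, 3, 931, 912, 1594], [102, 0, 931, 915, 1594], [104, 1, 1596, 1288, 1594], [110, 8, 1598, 1607, 1598, 1607, 1598, 1607, 1596, 1295, 1321, 1327, 1301, 1328, 1322, 714, 719, 1283, 1285, 1288, 921, 1291, 1285, 1288, 1594], [0, 0], [25, 1, 1610], [37, 1, 1612, 938, 702, 937, 1610], [49, 2, 1612, 940, 1610], [67, 2, 1611, 1146, 1610], [0, 0], [94, 1, 1308, 1620], [95, 3, 1621, 956, 1620], [97, 3, 1621, 952, 1620], [99, 3, 1621, 954, 1620], [0, 0], [93, 1, 1324, 1630], [95, 1, 1631, 967, 1630], [97, 1, 1059, 971, 1630], [98, 2, 1059, 972, 1630], [99, 1, 1631, 965, 1630], [101, 1, 1001, 963, 1630], [102, 2, 1001, 960, 1630], [103, 2, 1621, 975, 1630], [103, 0, 1621, 977, 1630], [60, 3, 1644, 1192, 1643], [67, 1, 1649, 1650, 1648], [0, 0], [94, 1, 1352, 1654], [95, 3, 1655, 982, 1654], [97, 3, 1655, 998, 1654], [99, 3, 1015, 993, 1654], [100, 0, 1015, 991, 1654], [101, 3, 1621, 997, 1654], [102, 0, 1621, 995, 1654], [104, 1, 1001, 981, 1654],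 [104, 3, 1001, 978, 1654], [67, 1, 1672, 1192, 1673], [0, 0], [25, 1, 1676], [35, 2, 1678, 1639, 1651, 1636, 1676], [43, 2, 1678, 1062, 1676], [49, 2, 1678, 1207, 1676], [59, 1, 1080, 1069, 1676], [67, 2, 1677, 1071, 1676], [29, 1, 1686], [101, 0, 1686, 1591, 1687], [0, 0], [29, 1, 1694], [47, 2, 1278, 1218, 1694], [71, 2, 1371, 1213, 1694], [72, 1, 1371, 1215, 1694], [101, 2, 1371, 1217, 1694], [0, 0], [29, 1, 1706], [39, 2, 1696, 1210, 540, 1250, 1706], [47, 2, 1696, 1270, 1706], [53, 2, 1696, 1273, 1706], [57, 2, 1696, 1266, 1706], [59, 2, 1696, 1275, 1706], [71, 2, 1481, 1263, 1706], [72, 1, 1481, 1265, 1706], [84, 4, 1722, 1490, 1371, 827, 1265, 1267, 1212, 827, 1265, 1706, 1722, 1490, 1701], [89, 14, 1716, 1700, 1491, 1495, 1485, 1481, 831, 827, 835, 741, 307, 317, 305, 301, 83, 41, 19, 39, 31, 56, 168, 520, 524, 538, 526, 1208, 1275, 1260, 1273, 1706, 1710], [101, 2, 1481, 1269, 1706], [95, 1, 1728, 1497, 1293], [99, 1, 1728, 1503, 1705], [89, 6, 1712, 1732, 1718, 1724, 1714, 1696,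 1210, 484, 476, 1107, 1227, 1239, 1231, 1245, 1101, 477, 485, 1211, 1219, 657, 679, 1299, 1304, 1307, 1301, 1326, 1320, 1294, 1699, 1726, 1716], [0, 0], [25, 1, 1736], [67, 2, 1365, 1363, 1736], [68, 1, 1365, 1361, 1736], [107, 4, 1390, 1119, 529, 543, 483, 479, 1103, 1357, 1441, 1426, 1736], [23, 1, 1744], [64, 0, 1742, 1369, 1567], [103, 3, 1742, 1470, 1743], [97, 2, 1745, 1750, 1744], [95, 0, 1526, 1752, 1527], [0, 0], [27, 1, 1756], [45, 2, 1580, 1368, 1756], [99, 2, 1757, 1470, 1756], [0, 0], [94, 1, 1704, 1764], [96, 0, 1595, 1375, 1764], [101, 3, 1377, 1370, 1764], [102, 0, 1377, 1373, 1764], [104, 1, 1766, 1700, 1764], [0, 0], [21, 1, 1776], [51, 1, 1390, 1383, 1776], [65, 2, 1777, 1386, 1776], [27, 1, 1780], [99, 0, 1780, 1752, 1781], [0, 0], [25, 1, 1788], [43, 2, 1612, 1381, 1788], [67, 2, 1789, 1386, 1788], [0, 0], [19, 1, 1526, 1796], [31, 1, 1798, 1524, 846, 1388, 1796], [41, 1, 1748, 1744, 1796], [43, 1, 1798, 1528, 1796], [47, 1, 1798, 1530, 1796], [63, 2, 1797, 1393, 1796],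 [92, 8, 1569, 1019, 1026, 439, 1175, 901, 897, 803, 1437, 1432, 1739, 1747, 1389, 754, 1138, 392, 703, 390, 701, 845, 1145, 852, 856, 848, 1391, 1796, 1808, 1807, 1805], [95, 2, 1797, 1753, 1796], [107, 0, 1540, 879, 1556, 1811, 1800, 1812, 1801, 1810, 1557, 878, 1541], [103, 0, 1549, 1814, 1548, 1572], [18, 0, 1576, 1816, 1572, 1816], [17, 0, 1574, 1819], [0, 0], [25, 1, 1822], [35, 2, 1528, 1746, 1738, 1425, 1822], [43, 2, 1558, 1421, 1822], [49, 2, 1738, 1441, 1822], [59, 1, 1738, 1433, 1822], [67, 2, 1455, 1439, 1822], [68, 1, 1455, 1437, 1822], [79, 7, 1532, 1827, 1834, 1479, 1743, 1737, 1360, 736, 599, 739, 1363, 1425, 1822], [75, 6, 1838, 1532, 1827, 1834, 1479, 1743, 1831, 1836, 1458, 1741, 1744, 1393, 1746], [83, 6, 1838, 1532, 1827, 1834, 1479, 1743, 1833, 1836, 1458, 1741, 1744, 1393, 1746], [97, 2, 1838, 1754, 1839], [91, 1, 1840, 1826, 1528, 1534, 1533, 1799, 1800, 1802, 1558, 883, 884, 735, 1198, 804, 1184, 333, 605, 324, 756, 1200, 1189, 870, 869, 892, 758, 739, 1364, 1466,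 1835], [0, 0], [27, 1, 1848], [37, 2, 1758, 1366, 811, 1454, 1848], [45, 2, 1758, 1476, 1848], [51, 2, 1758, 1468, 1848], [55, 2, 1758, 1478, 1848], [99, 2, 1849, 1473, 1848], [23, 1, 1858], [41, 0, 1858, 1760, 1586], [21, 1, 1856], [25, 1, 1852], [0, 0], [94, 1, 1728, 1870], [95, 3, 1595, 1496, 1870], [96, 0, 1765, 1487, 1870], [97, 3, 1765, 1500, 1870], [98, 0, 1765, 1491, 1870], [99, 3, 1765, 1502, 1870], [100, 0, 1765, 1485, 1870], [101, 3, 1505, 1480, 1870], [102, 0, 1505, 1483, 1870], [104, 1, 1872, 1720, 1870], [0, 0], [21, 1, 1892], [51, 1, 1524, 1517, 1892], [65, 2, 1893, 1520, 1892], [27, 1, 1896], [45, 0, 1896, 1526, 1784], [99, 0, 1896, 1755, 1897], [0, 0], [25, 1, 1906], [37, 1, 1790, 1384, 859, 1517, 1906], [43, 2, 1790, 1509, 1906], [67, 2, 1907, 1520, 1906], [19, 2, 1912, 1792], [27, 1, 1910], [0, 0], [23, 1, 1920], [33, 2, 1922, 1540, 879, 1538, 1920], [35, 1, 1922, 1553, 1021, 1554, 1920], [41, 2, 1922, 1542, 1920], [55, 1, 1922, 1544, 1920], [57, 1, 1922, 1546, 1920],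 [75, 2, 1922, 1550, 900, 898, 358, 592, 357, 885, 878, 886, 899, 1549, 1920], [97, 2, 1921, 1814, 1920], [0, 0], [27, 1, 1938], [37, 2, 1940, 1558, 881, 1556, 1938], [51, 2, 1664, 1568, 1938], [69, 2, 1579, 1565, 1938], [70, 1, 1579, 1567, 1938], [99, 2, 1939, 1570, 1938], [66, 0, 1948, 1593, 1671], [0, 0], [29, 1, 1954], [39, 2, 1956, 1580, 910, 1578, 1954], [53, 2, 1642, 1592, 1954], [57, 2, 1956, 1586, 1954], [59, 2, 1956, 1582, 1954], [101, 2, 1955, 1589, 1954], [49, 0, 1964, 1960, 1651], [0, 0], [25, 1, 1970], [49, 2, 1972, 1609, 1970], [59, 1, 1612, 1603, 1970], [67, 2, 1971, 1606, 1970], [107, 4, 1944, 1656, 1337, 1351, 1340, 1322, 1283, 1597, 1609, 1599, 1970], [36, 3, 1943, 1981, 1971, 1598, 1973], [56, 0, 1982, 1939, 1803], [97, 2, 1982, 1951, 1983], [102, 1, 1977, 1986, 1976], [95, 2, 1917, 1988, 1916], [96, 3, 1792, 1988, 1793], [28, 1, 1984], [40, 2, 1615, 1977, 1994, 1807, 1984], [46, 1, 1901, 1799, 1984]]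
def dJ5 : List (List ℕ) := [[20, 2, 1998, 1903], [44, 2, 1874, 1973, 1998], [48, 2, 1917, 1977, 1998], [30, 1, 2004], [40, 2, 1785, 1531, 1897, 2004, 1919], [54, 1, 1886, 1895, 2004], [60, 3, 2004, 1907, 1889], [89, 23, 1785, 1527, 1523, 848, 856, 846, 1391, 1745, 1742, 1478, 1462, 1369, 908, 356, 891, 273, 329, 1184, 739, 1198, 812, 811, 1454, 1458, 1743, 1747, 1529, 1897, 2004, 2010, 1878], [26, 1, 2014], [50, 3, 2014, 1777, 1791], [60, 2, 1789, 1773, 2014], [22, 1, 2018], [32, 2, 1917, 1617, 1793, 2018, 1877], [0, 0], [23, 1, 2026], [35, 1, 2028, 1612, 935, 1610, 2026], [55, 1, 2028, 1614, 2026], [57, 1, 1983, 1976, 2026], [97, 2, 2027, 1988, 2026], [107, 5, 1622, 1307, 1301, 1297, 683, 649, 1132, 940, 935, 1610, 2026], [34, 3, 1626, 2039, 2027, 1617, 2029], [65, 2, 2040, 1647, 1968], [66, 1, 2040, 1649, 1968], [72, 2, 1946, 1954, 2044], [0, 0], [27, 1, 2048], [37, 2, 2050, 1678, 1064, 1676, 2048], [39, 1, 2050, 1686, 1082, 1690, 2048], [45, 2, 2050, 1682, 2048], [51, 2, 2050, 1684, 2048],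 [55, 2, 2050, 1680, 2048], [69, 2, 2049, 1689, 2048], [99, 2, 2049, 1692, 2048], [0, 0], [27, 1, 2066], [45, 2, 1940, 1748, 2066], [55, 2, 1780, 1746, 2066], [69, 2, 1757, 1741, 2066], [70, 1, 1757, 1743, 2066], [99, 2, 2067, 1750, 2066], [81, 3, 2076, 1862, 1850, 1479, 1743, 1747, 1392, 1745, 1740, 1759, 2075, 2072, 1783], [0, 0], [29, 1, 2082], [101, 2, 2083, 1763, 2082], [47, 0, 2084, 1760, 1954], [0, 0], [23, 1, 2090], [57, 1, 2072, 2009, 2090], [97, 2, 2091, 1993, 2090], [29, 1, 2094], [47, 0, 2094, 2070, 2047], [71, 0, 2094, 2074, 2085], [72, 3, 2094, 2076, 2085], [0, 0], [27, 1, 2106], [37, 2, 2068, 1738, 1429, 1822, 2106], [45, 2, 2068, 1847, 2106], [51, 2, 2068, 1840, 2106], [55, 2, 1896, 1839, 2106], [69, 2, 1849, 1835, 2106], [70, 1, 1849, 1837, 2106], [81, 7, 1898, 2117, 2118, 1863, 2077, 2067, 1742, 1478, 1835, 1826, 1533, 1839, 2106], [99, 2, 2107, 1845, 2106], [75, 6, 2122, 1898, 2117, 2118, 1863, 2077, 2115, 2120, 1858, 2075, 2072, 1783, 2080], [79, 6, 2122, 1898, 2117, 2118,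 1863, 2077, 2111, 2120, 1858, 2075, 2072, 1783, 2080], [87, 6, 2122, 1898, 2117, 2118, 1863, 2077, 2070, 1948, 1586, 1947, 1983, 1979, 1980], [0, 0], [29, 1, 2132], [39, 2, 2084, 1758, 1466, 1848, 2132], [47, 2, 1956, 1864, 2132], [53, 2, 2084, 1866, 2132], [57, 2, 2084, 1862, 2132], [59, 2, 2084, 1868, 2132], [83, 7, 2104, 2091, 1794, 2093, 2103, 2083, 2075, 2072, 1783, 2080, 2076, 1862, 2132], [89, 14, 2142, 2104, 2091, 1789, 1382, 855, 1525, 1827, 1823, 1428, 1423, 1440, 1427, 1825, 1828, 1569, 1020, 1024, 434, 1153, 155, 1057, 437, 1167, 1368, 1756, 1868, 1858, 1866, 2132, 2136], [101, 2, 2133, 1861, 2132], [21, 1, 2140], [19, 2, 2138, 2088], [45, 3, 2138, 1958, 2088], [0, 0], [23, 1, 2158], [33, 2, 2092, 2023, 1879, 2011, 2158], [35, 1, 2092, 1790, 1513, 1906, 2158], [41, 2, 2028, 1916, 2158], [55, 1, 2092, 1918, 2158], [57, 1, 2116, 2007, 2158], [75, 2, 2142, 2102, 2092, 2023, 1881, 1891, 1878, 1775, 1881, 1891, 2024, 1915, 2158], [75, 0, 2160, 1915, 2158, 2172, 2142, 2152, 2146, 2104,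 2091, 1794, 2093, 2103, 2141], [75, 13, 2105, 2147, 2174, 2160, 1915, 2158, 2162, 2091, 1794, 2093, 2103, 2143, 2173], [79, 13, 2105, 2147, 2174, 2160, 1915, 2158, 2164, 2091, 1794, 2093, 2103, 2143, 2173], [81, 13, 2105, 2147, 2174, 2160, 1915, 2158, 2168, 2091, 1794, 2093, 2103, 2143, 2173], [84, 7, 2122, 1898, 2117, 2118, 1863, 2077, 2098, 2105, 2147, 2174, 2160, 1915, 2158], [97, 2, 2159, 1991, 2158], [92, 4, 2175, 2133, 1869, 1859, 1867, 1760, 1949, 2035, 2031, 2027, 1617, 1916, 1914, 2006, 2002, 1878, 2022, 1792, 1618, 1977, 1971, 1598, 1608, 1875, 1891, 1886, 1909, 2161, 2176]]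
def dJS : List (List ℕ) := List.flatten [dJ0, dJ1, dJ2, dJ3, dJ4, dJ5]
def dLive_0 : BT := .node (.node (.node (.node (.node (.node (.node (.leaf 0) (.leaf 91)) (.node (.leaf 44) (.leaf 133))) (.node (.node (.leaf 18) (.leaf 113)) (.node (.leaf 71) (.leaf 149)))) (.node (.node (.node (.leaf 8) (.leaf 105)) (.node (.leaf 60) (.leaf 141))) (.node (.node (.leaf 31) (.leaf 125)) (.leaf 81)))) (.node (.node (.node (.node (.leaf 4) (.leaf 101)) (.node (.leaf 52) (.leaf 137))) (.node (.node (.leaf 24) (.leaf 119)) (.node (.leaf 76) (.leaf 153)))) (.node (.node (.node (.leaf 13) (.leaf 109)) (.node (.leaf 66) (.leaf 145))) (.node (.node (.leaf 36) (.leaf 129)) (.leaf 87))))) (.node (.node (.node (.node (.node (.leaf 2) (.leaf 96)) (.node (.leaf 47) (.leaf 135))) (.node (.node (.leaf 20) (.leaf 117)) (.node (.leaf 74) (.leaf 151)))) (.node (.node (.node (.leaf 10) (.leaf 107)) (.node (.leaf 64) (.leaf 143))) (.node (.node (.leaf 33) (.leaf 127)) (.leaf 83)))) (.node (.node (.node (.node (.leaf 6)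 (.leaf 103)) (.node (.leaf 56) (.leaf 139))) (.node (.node (.leaf 28) (.leaf 121)) (.node (.leaf 79) (.leaf 155)))) (.node (.node (.node (.leaf 15) (.leaf 111)) (.node (.leaf 68) (.leaf 147))) (.node (.node (.leaf 40) (.leaf 131)) (.leaf 89)))))) (.node (.node (.node (.node (.node (.node (.leaf 1) (.leaf 94)) (.node (.leaf 45) (.leaf 134))) (.node (.node (.leaf 19) (.leaf 116)) (.node (.leaf 72) (.leaf 150)))) (.node (.node (.node (.leaf 9) (.leaf 106)) (.node (.leaf 61) (.leaf 142))) (.node (.node (.leaf 32) (.leaf 126)) (.leaf 82)))) (.node (.node (.node (.node (.leaf 5) (.leaf 102)) (.node (.leaf 53) (.leaf 138))) (.node (.node (.leaf 27) (.leaf 120)) (.node (.leaf 78) (.leaf 154)))) (.node (.node (.node (.leaf 14) (.leaf 110)) (.node (.leaf 67) (.leaf 146))) (.node (.node (.leaf 38) (.leaf 130)) (.leaf 88))))) (.node (.node (.node (.node (.node (.leaf 3) (.leaf 100)) (.node (.leaf 48) (.leaf 136))) (.node (.node (.leaf 23) (.leaf 118)) (.node (.leaf 75) (.leaf 152)))) (.node (.node (.node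 (.leaf 11) (.leaf 108)) (.node (.leaf 65) (.leaf 144))) (.node (.node (.leaf 35) (.leaf 128)) (.leaf 85)))) (.node (.node (.node (.node (.leaf 7) (.leaf 104)) (.node (.leaf 57) (.leaf 140))) (.node (.node (.leaf 29) (.leaf 122)) (.node (.leaf 80) (.leaf 156)))) (.node (.node (.node (.leaf 17) (.leaf 112)) (.node (.leaf 69) (.leaf 148))) (.node (.node (.leaf 43) (.leaf 132)) (.leaf 90))))))
def dLive : BT := dLive_0
def dPos_0 : BT := .node (.node (.node (.node (.node (.node (.node (.leaf 0) (.leaf 91)) (.leaf 42)) (.node (.leaf 25) (.leaf 66))) (.node (.node (.node (.leaf 0) (.leaf 107)) (.leaf 55)) (.node (.leaf 35) (.leaf 79)))) (.node (.node (.node (.node (.leaf 8) (.leaf 99)) (.leaf 49)) (.node (.leaf 30) (.leaf 71))) (.node (.node (.node (.leaf 20) (.leaf 115)) (.leaf 61)) (.node (.leaf 38) (.leaf 85))))) (.node (.node (.node (.node (.node (.leaf 4) (.leaf 95)) (.leaf 46)) (.node (.leaf 28) (.leaf 67))) (.node (.node (.node (.leaf 18) (.leaf 111)) (.leaf 0)) (.node (.leaf 36) (.leaf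 81)))) (.node (.node (.node (.node (.leaf 0) (.leaf 103)) (.leaf 52)) (.node (.leaf 32) (.leaf 75))) (.node (.node (.node (.leaf 22) (.leaf 119)) (.leaf 0)) (.node (.leaf 40) (.leaf 0)))))) (.node (.node (.node (.node (.node (.node (.leaf 2) (.leaf 93)) (.leaf 44)) (.node (.leaf 0) (.leaf 0))) (.node (.node (.node (.leaf 16) (.leaf 109)) (.leaf 57)) (.node (.leaf 0) (.leaf 0)))) (.node (.node (.node (.node (.leaf 10) (.leaf 101)) (.leaf 50)) (.node (.leaf 0) (.leaf 73))) (.node (.node (.node (.leaf 0) (.leaf 117)) (.leaf 63)) (.node (.leaf 0) (.leaf 87))))) (.node (.node (.node (.node (.node (.leaf 6) (.leaf 97)) (.leaf 0)) (.node (.leaf 29) (.leaf 69))) (.node (.node (.node (.leaf 0) (.leaf 113)) (.leaf 0)) (.node (.leaf 0) (.leaf 83)))) (.node (.node (.node (.node (.leaf 13) (.leaf 105)) (.leaf 53)) (.node (.leaf 0) (.leaf 77))) (.node (.node (.leaf 0) (.leaf 65)) (.node (.leaf 0) (.leaf 89))))))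
def dPos_1 : BT := .node (.node (.node (.node (.node (.node (.node (.leaf 1) (.leaf 92)) (.leaf 43)) (.node (.leaf 26) (.leaf 0))) (.node (.node (.node (.leaf 15) (.leaf 108)) (.leaf 56)) (.node (.leaf 0) (.leaf 80)))) (.node (.node (.node (.node (.leaf 9) (.leaf 100)) (.leaf 0)) (.node (.leaf 0) (.leaf 72))) (.node (.node (.node (.leaf 0) (.leaf 116)) (.leaf 62)) (.node (.leaf 39) (.leaf 86))))) (.node (.node (.node (.node (.node (.leaf 5) (.leaf 96)) (.leaf 47)) (.node (.leaf 0) (.leaf 68))) (.node (.node (.node (.leaf 0) (.leaf 112)) (.leaf 59)) (.node (.leaf 37) (.leaf 82)))) (.node (.node (.node (.node (.leaf 12) (.leaf 104)) (.leaf 0)) (.node (.leaf 33) (.leaf 76))) (.node (.node (.leaf 23) (.leaf 0)) (.node (.leaf 41) (.leaf 88)))))) (.node (.node (.node (.node (.node (.node (.leaf 3) (.leaf 94)) (.leaf 45)) (.node (.leaf 27) (.leaf 0))) (.node (.node (.node (.leaf 17) (.leaf 110)) (.leaf 58)) (.node (.leaf 0) (.leaf 0)))) (.node (.node (.node (.node (.leaf 11) (.leaf 102)) (.leaf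 51)) (.node (.leaf 31) (.leaf 74))) (.node (.node (.node (.leaf 21) (.leaf 118)) (.leaf 64)) (.node (.leaf 0) (.leaf 0))))) (.node (.node (.node (.node (.node (.leaf 7) (.leaf 98)) (.leaf 48)) (.node (.leaf 0) (.leaf 70))) (.node (.node (.node (.leaf 19) (.leaf 114)) (.leaf 60)) (.node (.leaf 0) (.leaf 84)))) (.node (.node (.node (.node (.leaf 14) (.leaf 106)) (.leaf 54)) (.node (.leaf 34) (.leaf 78))) (.node (.node (.leaf 24) (.leaf 0)) (.node (.leaf 0) (.leaf 90))))))
def dPos_2 : BT := .node dPos_0 dPos_1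
def dPos : BT := dPos_2
def dFin_0 : BT := .node (.node (.node (.node (.node (.node (.node (.leaf 0) (.leaf 1019)) (.node (.leaf 420) (.leaf 1712))) (.node (.node (.leaf 169) (.leaf 1395)) (.node (.leaf 754) (.leaf 2100)))) (.node (.node (.node (.leaf 83) (.leaf 1304)) (.node (.leaf 1242) (.leaf 1854))) (.node (.node (.leaf 284) (.leaf 1864)) (.leaf 1172)))) (.node (.node (.node (.node (.leaf 52) (.leaf 1270)) (.node (.leaf 480) (.leaf 1902))) (.node (.node (.leaf 244) (.leaf 1510)) (.node (.leaf 822) (.leaf 2186)))) (.node (.node (.node (.leaf 140) (.leaf 1476)) (.node (.leaf 710) (.leaf 1928))) (.node (.node (.leaf 803) (.leaf 1634)) (.leaf 956))))) (.node (.node (.node (.node (.node (.leaf 29) (.leaf 1084)) (.node (.leaf 452) (.leaf 1760))) (.node (.node (.leaf 536) (.leaf 1460)) (.node (.leaf 772) (.leaf 2070)))) (.node (.node (.node (.leaf 314) (.leaf 1334)) (.node (.leaf 674) (.leaf 1999))) (.node (.node (.leaf 322) (.leaf 1916)) (.leaf 1496)))) (.node (.node (.node (.node (.leaf 72)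 (.leaf 1256)) (.node (.leaf 504) (.leaf 1798))) (.node (.node (.leaf 268) (.leaf 1542)) (.node (.leaf 1397) (.leaf 2138)))) (.node (.node (.node (.leaf 154) (.leaf 1509)) (.node (.leaf 734) (.leaf 2088))) (.node (.node (.leaf 845) (.leaf 1682)) (.leaf 982)))))) (.node (.node (.node (.node (.node (.node (.leaf 16) (.leaf 1062)) (.node (.leaf 432) (.leaf 1847))) (.node (.node (.leaf 512) (.leaf 1422)) (.node (.leaf 893) (.leaf 2056)))) (.node (.node (.node (.leaf 292) (.leaf 1316)) (.node (.leaf 1218) (.leaf 1876))) (.node (.node (.leaf 306) (.leaf 1875)) (.leaf 1368)))) (.node (.node (.node (.node (.leaf 162) (.leaf 1224)) (.node (.leaf 486) (.leaf 1792))) (.node (.node (.leaf 262) (.leaf 1526)) (.node (.leaf 846) (.leaf 2112)))) (.node (.node (.node (.leaf 150) (.leaf 1374)) (.node (.leaf 725) (.leaf 2130))) (.node (.node (.leaf 744) (.leaf 1659)) (.leaf 966))))) (.node (.node (.node (.node (.node (.leaf 80) (.leaf 1105)) (.node (.leaf 458) (.leaf 1768))) (.node (.node (.leaf 234) (.leaf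 1486)) (.node (.leaf 800) (.leaf 2154)))) (.node (.node (.node (.leaf 273) (.leaf 1358)) (.node (.leaf 688) (.leaf 1912))) (.node (.node (.leaf 784) (.leaf 1625)) (.leaf 1381)))) (.node (.node (.node (.node (.leaf 85) (.leaf 1730)) (.node (.leaf 526) (.leaf 1828))) (.node (.node (.leaf 325) (.leaf 1748)) (.node (.leaf 1421) (.leaf 2166)))) (.node (.node (.node (.leaf 171) (.leaf 1796)) (.node (.leaf 832) (.leaf 2001))) (.node (.node (.leaf 408) (.leaf 1698)) (.leaf 1004))))))
def dFin_1 : BT := .node (.node (.node (.node (.node (.node (.node (.leaf 8) (.leaf 1663)) (.node (.leaf 993) (.leaf 1710))) (.node (.node (.leaf 185) (.leaf 1405)) (.node (.leaf 1383) (.leaf 2032)))) (.node (.node (.node (.leaf 95) (.leaf 1302)) (.node (.leaf 560) (.leaf 1850))) (.node (.node (.leaf 286) (.leaf 1580)) (.leaf 902)))) (.node (.node (.node (.node (.leaf 144) (.leaf 1210)) (.node (.leaf 518) (.leaf 1780))) (.node (.node (.leaf 240) (.leaf 1518)) (.node (.leaf 818) (.leaf 2181)))) (.node (.node (.node (.leaf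 404) (.leaf 1756)) (.node (.leaf 708) (.leaf 1930))) (.node (.node (.leaf 360) (.leaf 1640)) (.leaf 954))))) (.node (.node (.node (.node (.node (.leaf 33) (.leaf 1082)) (.node (.leaf 450) (.leaf 1758))) (.node (.node (.leaf 642) (.leaf 1848)) (.node (.leaf 778) (.leaf 2068)))) (.node (.node (.node (.leaf 372) (.leaf 1342)) (.node (.leaf 672) (.leaf 1896))) (.node (.node (.leaf 326) (.leaf 1614)) (.leaf 916)))) (.node (.node (.node (.node (.leaf 238) (.leaf 1252)) (.node (.leaf 506) (.leaf 1995))) (.node (.node (.leaf 740) (.leaf 1544)) (.node (.leaf 864) (.leaf 2136)))) (.node (.node (.node (.leaf 463) (.leaf 1384)) (.node (.leaf 811) (.leaf 1958))) (.node (.node (.leaf 937) (.leaf 2048)) (.leaf 990)))))) (.node (.node (.node (.node (.node (.node (.leaf 20) (.leaf 1064)) (.node (.leaf 1013) (.leaf 2066))) (.node (.node (.leaf 194) (.leaf 1430)) (.node (.leaf 872) (.leaf 2050)))) (.node (.node (.node (.leaf 104) (.leaf 1314)) (.node (.leaf 644) (.leaf 1884))) (.node (.node (.leaf 816) (.leaf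 1601)) (.leaf 1578)))) (.node (.node (.node (.node (.leaf 60) (.leaf 1230)) (.node (.leaf 1208) (.leaf 1918))) (.node (.node (.leaf 298) (.leaf 1900)) (.node (.leaf 1517) (.leaf 2108)))) (.node (.node (.node (.leaf 146) (.leaf 1502)) (.node (.leaf 793) (.leaf 1940))) (.node (.node (.leaf 374) (.leaf 1664)) (.leaf 964))))) (.node (.node (.node (.node (.node (.leaf 44) (.leaf 1236)) (.node (.leaf 460) (.leaf 1883))) (.node (.node (.leaf 670) (.leaf 1484)) (.node (.leaf 808) (.leaf 2156)))) (.node (.node (.node (.leaf 124) (.leaf 1429)) (.node (.leaf 1345) (.leaf 1910))) (.node (.node (.leaf 348) (.leaf 1629)) (.leaf 938)))) (.node (.node (.node (.node (.leaf 89) (.leaf 1280)) (.node (.leaf 1250) (.leaf 2106))) (.node (.node (.leaf 329) (.leaf 1938)) (.node (.leaf 881) (.leaf 2168)))) (.node (.node (.node (.leaf 175) (.leaf 1784)) (.node (.leaf 742) (.leaf 1985))) (.node (.node (.leaf 406) (.leaf 1732)) (.leaf 1010))))))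
def dFin_2 : BT := .node dFin_0 dFin_1
def dFin_3 : BT := .node (.node (.node (.node (.node (.node (.node (.leaf 4) (.leaf 1021)) (.node (.leaf 428) (.leaf 1716))) (.node (.node (.leaf 500) (.leaf 1401)) (.node (.leaf 849) (.leaf 2028)))) (.node (.node (.node (.leaf 280) (.leaf 1300)) (.node (.leaf 564) (.leaf 1858))) (.node (.node (.leaf 282) (.leaf 1586)) (.leaf 900)))) (.node (.node (.node (.node (.leaf 132) (.leaf 1266)) (.node (.leaf 478) (.leaf 2080))) (.node (.node (.leaf 682) (.leaf 1514)) (.node (.leaf 826) (.leaf 2092)))) (.node (.node (.node (.leaf 134) (.leaf 1478)) (.node (.leaf 1323) (.leaf 1922))) (.node (.node (.leaf 356) (.leaf 1636)) (.leaf 952))))) (.node (.node (.node (.node (.node (.leaf 31) (.leaf 1195)) (.node (.leaf 972) (.leaf 1862))) (.node (.node (.leaf 204) (.leaf 1458)) (.node (.leaf 774) (.leaf 2072)))) (.node (.node (.node (.leaf 114) (.leaf 1350)) (.node (.leaf 678) (.leaf 2123))) (.node (.node (.leaf 807) (.leaf 2026)) (.leaf 920)))) (.node (.node (.node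 (.node (.leaf 226) (.leaf 1260)) (.node (.leaf 502) (.leaf 1802))) (.node (.node (.leaf 318) (.leaf 1920)) (.node (.leaf 1202) (.leaf 2142)))) (.node (.node (.node (.leaf 437) (.leaf 1513)) (.node (.leaf 736) (.leaf 1962))) (.node (.node (.leaf 391) (.leaf 1680)) (.leaf 998)))))) (.node (.node (.node (.node (.node (.node (.leaf 18) (.leaf 1639)) (.node (.leaf 434) (.leaf 1744))) (.node (.node (.leaf 190) (.leaf 1426)) (.node (.leaf 1200) (.leaf 2060)))) (.node (.node (.node (.leaf 100) (.leaf 1320)) (.node (.leaf 650) (.leaf 1880))) (.node (.node (.leaf 304) (.leaf 1599)) (.leaf 1169)))) (.node (.node (.node (.node (.leaf 188) (.leaf 1226)) (.node (.leaf 542) (.leaf 2090))) (.node (.node (.leaf 260) (.leaf 1839)) (.node (.leaf 850) (.leaf 2116)))) (.node (.node (.node (.leaf 414) (.leaf 1500)) (.node (.leaf 795) (.leaf 1983))) (.node (.node (.leaf 380) (.leaf 1661)) (.leaf 970))))) (.node (.node (.node (.node (.node (.leaf 98) (.leaf 1235)) (.node (.leaf 1009) (.leaf 1879))) (.node (.node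 (.leaf 228) (.leaf 1490)) (.node (.leaf 804) (.leaf 2147)))) (.node (.node (.node (.leaf 359) (.leaf 1425)) (.node (.leaf 696) (.leaf 2158))) (.node (.node (.leaf 352) (.leaf 1627)) (.leaf 935)))) (.node (.node (.node (.node (.leaf 258) (.leaf 1284)) (.node (.leaf 524) (.leaf 1826))) (.node (.node (.leaf 739) (.leaf 1811)) (.node (.leaf 879) (.leaf 2160)))) (.node (.node (.node (.leaf 476) (.leaf 1746)) (.node (.leaf 828) (.leaf 1980))) (.node (.node (.leaf 412) (.leaf 1724)) (.leaf 1006))))))
def dFin_4 : BT := .node (.node (.node (.node (.node (.node (.node (.leaf 12) (.leaf 1024)) (.node (.leaf 418) (.leaf 1722))) (.node (.node (.leaf 178) (.leaf 1408)) (.node (.leaf 1142) (.leaf 2043)))) (.node (.node (.node (.leaf 181) (.leaf 1326)) (.node (.leaf 554) (.leaf 2119))) (.node (.node (.leaf 786) (.leaf 1947)) (.leaf 1549)))) (.node (.node (.node (.node (.leaf 77) (.leaf 1214)) (.node (.leaf 1109) (.leaf 1783))) (.node (.node (.leaf 248) (.leaf 1520)) (.node (.leaf 1263) (.leaf 2105))))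 (.node (.node (.node (.leaf 416) (.leaf 1741)) (.node (.leaf 716) (.leaf 1934))) (.node (.node (.leaf 887) (.leaf 1648)) (.leaf 975))))) (.node (.node (.node (.node (.node (.leaf 36) (.leaf 1087)) (.node (.leaf 715) (.leaf 2075))) (.node (.node (.leaf 212) (.leaf 1835)) (.node (.leaf 789) (.leaf 2076)))) (.node (.node (.node (.leaf 211) (.leaf 1332)) (.node (.leaf 1330) (.leaf 1899))) (.node (.node (.leaf 605) (.leaf 1619)) (.leaf 1289)))) (.node (.node (.node (.node (.leaf 78) (.leaf 1264)) (.node (.leaf 1248) (.leaf 1809))) (.node (.node (.leaf 489) (.leaf 1550)) (.node (.leaf 869) (.leaf 2174)))) (.node (.node (.node (.leaf 635) (.leaf 1386)) (.node (.leaf 1363) (.leaf 2044))) (.node (.node (.leaf 1139) (.leaf 1689)) (.leaf 980)))))) (.node (.node (.node (.node (.node (.node (.leaf 39) (.leaf 1071)) (.node (.leaf 1027) (.leaf 1742))) (.node (.node (.leaf 552) (.leaf 1436)) (.node (.leaf 761) (.leaf 2063)))) (.node (.node (.node (.leaf 340) (.leaf 1329)) (.node (.leaf 654) (.leaf 1890)))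 (.node (.node (.leaf 533) (.leaf 1606)) (.leaf 1565)))) (.node (.node (.node (.node (.leaf 66) (.leaf 1247)) (.node (.leaf 490) (.leaf 1795))) (.node (.node (.leaf 729) (.leaf 1533)) (.node (.leaf 1144) (.leaf 2120)))) (.node (.node (.node (.leaf 247) (.leaf 1701)) (.node (.leaf 726) (.leaf 1948))) (.node (.node (.leaf 653) (.leaf 1670)) (.leaf 976))))) (.node (.node (.node (.node (.node (.leaf 65) (.leaf 1106)) (.node (.leaf 640) (.leaf 1774))) (.node (.node (.leaf 684) (.leaf 1721)) (.node (.leaf 1439) (.leaf 2102)))) (.node (.node (.node (.leaf 593) (.leaf 1360)) (.node (.leaf 686) (.leaf 1915))) (.node (.node (.leaf 342) (.leaf 1647)) (.leaf 1146)))) (.node (.node (.node (.node (.leaf 165) (.leaf 1290)) (.node (.leaf 534) (.leaf 1836))) (.node (.node (.leaf 599) (.leaf 1566)) (.node (.leaf 884) (.leaf 2172)))) (.node (.node (.node (.leaf 166) (.leaf 1393)) (.node (.leaf 1213) (.leaf 1979))) (.node (.node (.leaf 978) (.leaf 1702)) (.leaf 1673))))))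
def dFin_5 : BT := .node dFin_3 dFin_4
def dFin_6 : BT := .node dFin_2 dFin_5
def dFin_7 : BT := .node (.node (.node (.node (.node (.node (.node (.leaf 2) (.leaf 1568)) (.node (.leaf 422) (.leaf 1714))) (.node (.node (.leaf 183) (.leaf 1399)) (.node (.leaf 1388) (.leaf 2038)))) (.node (.node (.node (.leaf 97) (.leaf 1306)) (.node (.leaf 556) (.leaf 1856))) (.node (.node (.leaf 768) (.leaf 1584)) (.leaf 898)))) (.node (.node (.node (.node (.leaf 120) (.leaf 1273)) (.node (.leaf 1100) (.leaf 1778))) (.node (.node (.leaf 656) (.leaf 1892)) (.node (.leaf 824) (.leaf 2177)))) (.node (.node (.node (.leaf 136) (.leaf 1468)) (.node (.leaf 1294) (.leaf 1924))) (.node (.node (.leaf 896) (.leaf 1968)) (.leaf 958))))) (.node (.node (.node (.node (.node (.leaf 56) (.leaf 1205)) (.node (.leaf 924) (.leaf 1866))) (.node (.node (.leaf 206) (.leaf 1462)) (.node (.leaf 770) (.leaf 2126)))) (.node (.node (.node (.leaf 116) (.leaf 1336)) (.node (.leaf 676) (.leaf 1894))) (.node (.node (.leaf 860) (.leaf 1616))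 (.leaf 918)))) (.node (.node (.node (.node (.leaf 214) (.leaf 1258)) (.node (.leaf 1220) (.leaf 1800))) (.node (.node (.leaf 316) (.leaf 1540)) (.node (.leaf 862) (.leaf 2140)))) (.node (.node (.node (.leaf 1153) (.leaf 1776)) (.node (.leaf 1198) (.leaf 1960))) (.node (.node (.leaf 700) (.leaf 1684)) (.leaf 984)))))) (.node (.node (.node (.node (.node (.node (.leaf 40) (.leaf 1207)) (.node (.leaf 1167) (.leaf 1840))) (.node (.node (.leaf 192) (.leaf 1443)) (.node (.leaf 758) (.leaf 2058)))) (.node (.node (.node (.leaf 102) (.leaf 1318)) (.node (.leaf 648) (.leaf 2011))) (.node (.node (.leaf 308) (.leaf 1609)) (.leaf 1164)))) (.node (.node (.node (.node (.leaf 58) (.leaf 1222)) (.node (.leaf 538) (.leaf 2023))) (.node (.node (.leaf 720) (.leaf 1524)) (.node (.leaf 1522) (.leaf 2114)))) (.node (.node (.node (.leaf 382) (.leaf 1498)) (.node (.leaf 722) (.leaf 1944))) (.node (.node (.leaf 378) (.leaf 1952)) (.leaf 968))))) (.node (.node (.node (.node (.node (.leaf 42) (.leaf 1102)) (.node (.leaf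 1163) (.leaf 2019))) (.node (.node (.leaf 230) (.leaf 1488)) (.node (.leaf 1196) (.leaf 2152)))) (.node (.node (.node (.leaf 891) (.leaf 1441)) (.node (.leaf 690) (.leaf 2025))) (.node (.node (.leaf 344) (.leaf 2041)) (.leaf 940)))) (.node (.node (.node (.node (.leaf 87) (.leaf 1282)) (.node (.leaf 528) (.leaf 1830))) (.node (.node (.leaf 756) (.leaf 1560)) (.node (.leaf 1538) (.leaf 2162)))) (.node (.node (.node (.leaf 173) (.leaf 1390)) (.node (.leaf 830) (.leaf 1974))) (.node (.node (.leaf 410) (.leaf 1734)) (.leaf 1592))))))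
def dFin_8 : BT := .node (.node (.node (.node (.node (.node (.node (.leaf 10) (.leaf 1023)) (.node (.leaf 426) (.leaf 1708))) (.node (.node (.leaf 187) (.leaf 1407)) (.node (.leaf 853) (.leaf 2034)))) (.node (.node (.node (.leaf 93) (.leaf 1349)) (.node (.leaf 562) (.leaf 2132))) (.node (.node (.leaf 288) (.leaf 1954)) (.leaf 904)))) (.node (.node (.node (.node (.leaf 54) (.leaf 1694)) (.node (.leaf 510) (.leaf 2009))) (.node (.node (.leaf 704) (.leaf 1887)) (.node (.leaf 1480) (.leaf 2094)))) (.node (.node (.node (.leaf 142) (.leaf 1466)) (.node (.leaf 706) (.leaf 1932))) (.node (.node (.leaf 362) (.leaf 1642)) (.leaf 997))))) (.node (.node (.node (.node (.node (.leaf 35) (.leaf 1690)) (.node (.leaf 448) (.leaf 2082))) (.node (.node (.leaf 208) (.leaf 1464)) (.node (.leaf 780) (.leaf 2098)))) (.node (.node (.node (.leaf 118) (.leaf 1346)) (.node (.leaf 1310) (.leaf 2007))) (.node (.node (.leaf 330) (.leaf 1997)) (.leaf 914)))) (.node (.node (.node (.node (.leaf 74) (.leaf 1706)) (.node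 (.leaf 508) (.leaf 1806))) (.node (.node (.leaf 312) (.leaf 1546)) (.node (.leaf 866) (.leaf 2134)))) (.node (.node (.node (.leaf 156) (.leaf 1771)) (.node (.leaf 815) (.leaf 1956))) (.node (.node (.leaf 393) (.leaf 1686)) (.leaf 994)))))) (.node (.node (.node (.node (.node (.node (.leaf 22) (.leaf 1066)) (.node (.leaf 438) (.leaf 1842))) (.node (.node (.leaf 196) (.leaf 1434)) (.node (.leaf 870) (.leaf 2054)))) (.node (.node (.node (.leaf 106) (.leaf 1312)) (.node (.leaf 1276) (.leaf 1888))) (.node (.node (.leaf 310) (.leaf 1604)) (.leaf 910)))) (.node (.node (.node (.node (.leaf 62) (.leaf 1232)) (.node (.leaf 540) (.leaf 2021))) (.node (.node (.leaf 290) (.leaf 1530)) (.node (.leaf 854) (.leaf 2183)))) (.node (.node (.node (.leaf 446) (.leaf 1372)) (.node (.leaf 782) (.leaf 2047))) (.node (.node (.leaf 912) (.leaf 1668)) (.leaf 962))))) (.node (.node (.node (.node (.node (.leaf 46) (.leaf 1244)) (.node (.leaf 1069) (.leaf 1772))) (.node (.node (.leaf 236) (.leaf 1482)) (.node (.leaf 812)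 (.leaf 2084)))) (.node (.node (.node (.leaf 126) (.leaf 1433)) (.node (.leaf 694) (.leaf 2005))) (.node (.node (.leaf 350) (.leaf 1667)) (.leaf 1603)))) (.node (.node (.node (.node (.leaf 91) (.leaf 1278)) (.node (.leaf 530) (.leaf 1832))) (.node (.node (.leaf 333) (.leaf 1562)) (.node (.leaf 883) (.leaf 2170)))) (.node (.node (.node (.leaf 177) (.leaf 1534)) (.node (.leaf 1370) (.leaf 1976))) (.node (.node (.leaf 960) (.leaf 1696)) (.leaf 1645))))))
def dFin_9 : BT := .node dFin_7 dFin_8
def dFin_10 : BT := .node (.node (.node (.node (.node (.node (.node (.leaf 6) (.leaf 1554)) (.node (.leaf 424) (.leaf 1718))) (.node (.node (.leaf 520) (.leaf 1403)) (.node (.leaf 859) (.leaf 2030)))) (.node (.node (.node (.leaf 300) (.leaf 1298)) (.node (.leaf 558) (.leaf 1852))) (.node (.node (.leaf 294) (.leaf 1582)) (.leaf 1174)))) (.node (.node (.node (.node (.leaf 50) (.leaf 1275)) (.node (.leaf 516) (.leaf 2015))) (.node (.node (.leaf 242) (.leaf 1906)) (.node (.leaf 820) (.leaf 2179)))) (.node (.node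 (.node (.leaf 138) (.leaf 1366)) (.node (.leaf 712) (.leaf 1926))) (.node (.node (.leaf 906) (.leaf 1651)) (.leaf 950))))) (.node (.node (.node (.node (.node (.leaf 68) (.leaf 1080)) (.node (.leaf 454) (.leaf 1868))) (.node (.node (.leaf 202) (.leaf 1456)) (.node (.leaf 776) (.leaf 2128)))) (.node (.node (.node (.leaf 112) (.leaf 1338)) (.node (.leaf 1296) (.leaf 2013))) (.node (.node (.leaf 1184) (.leaf 1612)) (.leaf 922)))) (.node (.node (.node (.node (.leaf 70) (.leaf 1254)) (.node (.leaf 514) (.leaf 1804))) (.node (.node (.leaf 266) (.leaf 1553)) (.node (.leaf 1189) (.leaf 2144)))) (.node (.node (.node (.leaf 1057) (.leaf 1788)) (.node (.leaf 1364) (.leaf 1964))) (.node (.node (.leaf 702) (.leaf 1678)) (.leaf 986)))))) (.node (.node (.node (.node (.node (.node (.leaf 48) (.leaf 1676)) (.node (.leaf 1177) (.leaf 1738))) (.node (.node (.leaf 198) (.leaf 1822)) (.node (.leaf 1191) (.leaf 2052)))) (.node (.node (.node (.leaf 108) (.leaf 1341)) (.node (.leaf 646) (.leaf 2003))) (.node (.node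 (.leaf 302) (.leaf 1970)) (.leaf 908)))) (.node (.node (.node (.node (.leaf 200) (.leaf 1228)) (.node (.leaf 484) (.leaf 1790))) (.node (.node (.leaf 296) (.leaf 1528)) (.node (.leaf 857) (.leaf 2110)))) (.node (.node (.node (.leaf 148) (.leaf 1494)) (.node (.leaf 791) (.leaf 1942))) (.node (.node (.leaf 376) (.leaf 1674)) (.leaf 989))))) (.node (.node (.node (.node (.node (.leaf 110) (.leaf 1238)) (.node (.leaf 1078) (.leaf 2017))) (.node (.node (.leaf 232) (.leaf 1492)) (.node (.leaf 1454) (.leaf 2148)))) (.node (.node (.node (.leaf 1183) (.leaf 1736)) (.node (.leaf 692) (.leaf 1908))) (.node (.node (.leaf 346) (.leaf 1652)) (.leaf 1610)))) (.node (.node (.node (.node (.leaf 264) (.leaf 1286)) (.node (.leaf 522) (.leaf 1824))) (.node (.node (.leaf 1187) (.leaf 1558)) (.node (.leaf 1556) (.leaf 2164)))) (.node (.node (.node (.leaf 482) (.leaf 1536)) (.node (.leaf 834) (.leaf 1972))) (.node (.node (.leaf 948) (.leaf 1726)) (.leaf 1193))))))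
def dFin_11 : BT := .node (.node (.node (.node (.node (.node (.node (.leaf 14) (.leaf 1015)) (.node (.leaf 699) (.leaf 1873))) (.node (.node (.leaf 603) (.leaf 1450)) (.node (.leaf 751) (.leaf 2037)))) (.node (.node (.node (.leaf 320) (.leaf 1623)) (.node (.leaf 877) (.leaf 1861))) (.node (.node (.leaf 796) (.leaf 1589)) (.leaf 1820)))) (.node (.node (.node (.node (.leaf 152) (.leaf 1379)) (.node (.leaf 613) (.leaf 1786))) (.node (.node (.leaf 628) (.leaf 1505)) (.node (.leaf 1269) (.leaf 2097)))) (.node (.node (.node (.leaf 430) (.leaf 1470)) (.node (.leaf 718) (.leaf 1937))) (.node (.node (.leaf 573) (.leaf 1632)) (.leaf 1309))))) (.node (.node (.node (.node (.node (.leaf 25) (.leaf 1590)) (.node (.leaf 1058) (.leaf 1763))) (.node (.node (.leaf 1141) (.leaf 1473)) (.node (.leaf 1241) (.leaf 2079)))) (.node (.node (.node (.leaf 1136) (.leaf 1657)) (.node (.leaf 680) (.leaf 1904))) (.node (.node (.leaf 606) (.leaf 1988)) (.leaf 1293)))) (.node (.node (.node (.node (.leaf 633) (.leaf 1507))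 (.node (.leaf 610) (.leaf 1813))) (.node (.node (.leaf 1121) (.leaf 1814)) (.node (.leaf 1452) (.leaf 2151)))) (.node (.node (.node (.leaf 636) (.leaf 1377)) (.node (.leaf 732) (.leaf 1967))) (.node (.node (.leaf 387) (.leaf 1692)) (.leaf 1353)))))) (.node (.node (.node (.node (.node (.node (.leaf 27) (.leaf 1060)) (.node (.leaf 621) (.leaf 1750))) (.node (.node (.leaf 570) (.leaf 1417)) (.node (.leaf 1449) (.leaf 2065)))) (.node (.node (.node (.leaf 354) (.leaf 1324)) (.node (.leaf 1132) (.leaf 1871))) (.node (.node (.leaf 1131) (.leaf 1595)) (.leaf 1474)))) (.node (.node (.node (.node (.leaf 591) (.leaf 1419)) (.node (.leaf 1118) (.leaf 1993))) (.node (.node (.leaf 730) (.leaf 1754)) (.node (.leaf 841) (.leaf 2125)))) (.node (.node (.node (.leaf 456) (.leaf 1705)) (.node (.leaf 1111) (.leaf 1951))) (.node (.node (.leaf 1135) (.leaf 1655)) (.leaf 1630))))) (.node (.node (.node (.node (.node (.leaf 122) (.leaf 1357)) (.node (.leaf 631) (.leaf 1765))) (.node (.node (.leaf 618) (.leaf 1729))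 (.node (.leaf 798) (.leaf 2087)))) (.node (.node (.node (.leaf 594) (.leaf 1355)) (.node (.leaf 1017) (.leaf 1991))) (.node (.node (.leaf 608) (.leaf 1621)) (.leaf 931)))) (.node (.node (.node (.node (.leaf 270) (.leaf 1597)) (.node (.leaf 1128) (.leaf 1845))) (.node (.node (.leaf 600) (.leaf 1570)) (.node (.leaf 875) (.leaf 2185)))) (.node (.node (.node (.leaf 597) (.leaf 1753)) (.node (.leaf 1217) (.leaf 1987))) (.node (.node (.leaf 1000) (.leaf 1767)) (.leaf 1002))))))
def dFin_12 : BT := .node dFin_10 dFin_11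
def dFin_13 : BT := .node dFin_9 dFin_12
def dFin_14 : BT := .node dFin_6 dFin_13
def dFin_15 : BT := .node (.node (.node (.node (.node (.node (.node (.leaf 1) (.leaf 1018)) (.node (.leaf 421) (.leaf 1731))) (.node (.node (.leaf 170) (.leaf 1396)) (.node (.leaf 847) (.leaf 2167)))) (.node (.node (.node (.leaf 84) (.leaf 1305)) (.node (.leaf 1104) (.leaf 1865))) (.node (.node (.leaf 293) (.leaf 1761)) (.leaf 1173)))) (.node (.node (.node (.node (.leaf 53) (.leaf 1219)) (.node (.leaf 505) (.leaf 2000))) (.node (.node (.leaf 245) (.leaf 1508)) (.node (.leaf 833) (.leaf 2101)))) (.node (.node (.node (.leaf 141) (.leaf 1369)) (.node (.leaf 711) (.leaf 1929))) (.node (.node (.leaf 735) (.leaf 1635)) (.leaf 957))))) (.node (.node (.node (.node (.node (.leaf 28) (.leaf 1085)) (.node (.leaf 453) (.leaf 1855))) (.node (.node (.leaf 487) (.leaf 1477)) (.node (.leaf 785) (.leaf 2113)))) (.node (.node (.node (.leaf 269) (.leaf 1335)) (.node (.leaf 675) (.leaf 1903))) (.node (.node (.leaf 324) (.leaf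 1793)) (.leaf 1375)))) (.node (.node (.node (.node (.leaf 73) (.leaf 1271)) (.node (.leaf 513) (.leaf 1797))) (.node (.node (.leaf 307) (.leaf 1543)) (.node (.leaf 892) (.leaf 2155)))) (.node (.node (.node (.leaf 155) (.leaf 1380)) (.node (.leaf 801) (.leaf 2139))) (.node (.node (.leaf 755) (.leaf 1683)) (.leaf 983)))))) (.node (.node (.node (.node (.node (.node (.leaf 17) (.leaf 1063)) (.node (.leaf 433) (.leaf 1749))) (.node (.node (.leaf 481) (.leaf 1420)) (.node (.leaf 1394) (.leaf 2057)))) (.node (.node (.node (.leaf 263) (.leaf 1317)) (.node (.leaf 1257) (.leaf 1874))) (.node (.node (.leaf 315) (.leaf 1769)) (.leaf 1461)))) (.node (.node (.node (.node (.leaf 168) (.leaf 1243)) (.node (.leaf 527) (.leaf 1913))) (.node (.node (.leaf 285) (.leaf 1799)) (.node (.leaf 844) (.leaf 2131)))) (.node (.node (.node (.leaf 151) (.leaf 1487)) (.node (.leaf 773) (.leaf 2071))) (.node (.node (.leaf 823) (.leaf 1658)) (.leaf 967))))) (.node (.node (.node (.node (.node (.leaf 82) (.leaf 1225)) (.node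 (.leaf 459) (.leaf 1877))) (.node (.node (.leaf 235) (.leaf 1497)) (.node (.leaf 802) (.leaf 2089)))) (.node (.node (.node (.leaf 323) (.leaf 1423)) (.node (.leaf 689) (.leaf 1917))) (.node (.node (.leaf 724) (.leaf 1624)) (.leaf 1511)))) (.node (.node (.node (.node (.leaf 81) (.leaf 1699)) (.node (.leaf 537) (.leaf 1846))) (.node (.node (.leaf 272) (.leaf 1829)) (.node (.leaf 1359) (.leaf 2187)))) (.node (.node (.node (.leaf 163) (.leaf 1527)) (.node (.leaf 745) (.leaf 1998))) (.node (.node (.leaf 409) (.leaf 1713)) (.leaf 1005))))))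
def dFin_16 : BT := .node (.node (.node (.node (.node (.node (.node (.leaf 9) (.leaf 1665)) (.node (.leaf 991) (.leaf 1733))) (.node (.node (.leaf 174) (.leaf 1404)) (.node (.leaf 1385) (.leaf 2033)))) (.node (.node (.node (.leaf 88) (.leaf 1303)) (.node (.leaf 561) (.leaf 1849))) (.node (.node (.leaf 299) (.leaf 1579)) (.leaf 903)))) (.node (.node (.node (.node (.leaf 147) (.leaf 1209)) (.node (.leaf 507) (.leaf 1785))) (.node (.node (.leaf 239) (.leaf 1516)) (.node (.leaf 817) (.leaf 2169)))) (.node (.node (.node (.leaf 407) (.leaf 1759)) (.node (.leaf 709) (.leaf 1931))) (.node (.node (.leaf 361) (.leaf 1641)) (.leaf 955))))) (.node (.node (.node (.node (.node (.leaf 32) (.leaf 1083)) (.node (.leaf 451) (.leaf 1757))) (.node (.node (.leaf 645) (.leaf 1851)) (.node (.leaf 792) (.leaf 2067)))) (.node (.node (.node (.leaf 375) (.leaf 1344)) (.node (.leaf 671) (.leaf 1901))) (.node (.node (.leaf 328) (.leaf 1615)) (.leaf 917)))) (.node (.node (.node (.node (.leaf 241) (.leaf 1251)) (.node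 (.leaf 519) (.leaf 1984))) (.node (.node (.leaf 743) (.leaf 1545)) (.node (.leaf 873) (.leaf 2157)))) (.node (.node (.node (.leaf 461) (.leaf 1382)) (.node (.leaf 809) (.leaf 1959))) (.node (.node (.leaf 939) (.leaf 2051)) (.leaf 992)))))) (.node (.node (.node (.node (.node (.node (.leaf 21) (.leaf 1065)) (.node (.leaf 1011) (.leaf 2069))) (.node (.node (.leaf 195) (.leaf 1428)) (.node (.leaf 865) (.leaf 2049)))) (.node (.node (.node (.leaf 105) (.leaf 1315)) (.node (.leaf 643) (.leaf 1882))) (.node (.node (.leaf 819) (.leaf 1600)) (.leaf 1581)))) (.node (.node (.node (.node (.leaf 61) (.leaf 1237)) (.node (.leaf 1211) (.leaf 1911))) (.node (.node (.leaf 287) (.leaf 1897)) (.node (.leaf 1519) (.leaf 2107)))) (.node (.node (.node (.leaf 145) (.leaf 1485)) (.node (.leaf 779) (.leaf 1939))) (.node (.node (.leaf 373) (.leaf 1662)) (.leaf 965))))) (.node (.node (.node (.node (.node (.leaf 45) (.leaf 1231)) (.node (.leaf 462) (.leaf 1885))) (.node (.node (.leaf 673) (.leaf 1503)) (.node (.leaf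 810) (.leaf 2137)))) (.node (.node (.node (.leaf 125) (.leaf 1431)) (.node (.leaf 1343) (.leaf 1919))) (.node (.node (.leaf 349) (.leaf 1628)) (.leaf 936)))) (.node (.node (.node (.node (.leaf 94) (.leaf 1281)) (.node (.leaf 1253) (.leaf 2109))) (.node (.node (.leaf 327) (.leaf 1941)) (.node (.leaf 880) (.leaf 2180)))) (.node (.node (.node (.leaf 184) (.leaf 1781)) (.node (.leaf 741) (.leaf 1994))) (.node (.node (.leaf 405) (.leaf 1711)) (.leaf 1012))))))
def dFin_17 : BT := .node dFin_15 dFin_16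
def dFin_18 : BT := .node (.node (.node (.node (.node (.node (.node (.leaf 5) (.leaf 1020)) (.node (.leaf 429) (.leaf 1725))) (.node (.node (.leaf 503) (.leaf 1400)) (.node (.leaf 851) (.leaf 2027)))) (.node (.node (.node (.leaf 283) (.leaf 1301)) (.node (.leaf 565) (.leaf 1863))) (.node (.node (.leaf 281) (.leaf 1587)) (.leaf 901)))) (.node (.node (.node (.node (.leaf 135) (.leaf 1261)) (.node (.leaf 477) (.leaf 2073))) (.node (.node (.leaf 679) (.leaf 1512)) (.node (.leaf 829) (.leaf 2091)))) (.node (.node (.node (.leaf 133) (.leaf 1459)) (.node (.leaf 1321) (.leaf 1921))) (.node (.node (.leaf 358) (.leaf 1638)) (.leaf 953))))) (.node (.node (.node (.node (.node (.leaf 30) (.leaf 1194)) (.node (.leaf 971) (.leaf 1859))) (.node (.node (.leaf 205) (.leaf 1479)) (.node (.leaf 794) (.leaf 2081)))) (.node (.node (.node (.leaf 115) (.leaf 1351)) (.node (.leaf 683) (.leaf 2117))) (.node (.node (.leaf 805) (.leaf 2029)) (.leaf 921)))) (.node (.node (.node (.node (.leaf 229) (.leaf 1267)) (.node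 (.leaf 501) (.leaf 1810))) (.node (.node (.leaf 305) (.leaf 1923)) (.node (.leaf 1201) (.leaf 2146)))) (.node (.node (.node (.leaf 435) (.leaf 1515)) (.node (.leaf 738) (.leaf 1963))) (.node (.node (.leaf 390) (.leaf 1681)) (.leaf 999)))))) (.node (.node (.node (.node (.node (.node (.leaf 19) (.leaf 1637)) (.node (.leaf 436) (.leaf 1747))) (.node (.node (.leaf 189) (.leaf 1424)) (.node (.leaf 1203) (.leaf 2061)))) (.node (.node (.node (.leaf 99) (.leaf 1322)) (.node (.leaf 651) (.leaf 1878))) (.node (.node (.leaf 319) (.leaf 1598)) (.leaf 1168)))) (.node (.node (.node (.node (.leaf 191) (.leaf 1234)) (.node (.leaf 525) (.leaf 2093))) (.node (.node (.leaf 259) (.leaf 1827)) (.node (.leaf 848) (.leaf 2122)))) (.node (.node (.node (.leaf 413) (.leaf 1491)) (.node (.leaf 775) (.leaf 1981))) (.node (.node (.leaf 381) (.leaf 1660)) (.leaf 973))))) (.node (.node (.node (.node (.node (.leaf 101) (.leaf 1227)) (.node (.leaf 1007) (.leaf 1881))) (.node (.node (.leaf 227) (.leaf 1501)) (.node (.leaf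 806) (.leaf 2143)))) (.node (.node (.node (.leaf 357) (.leaf 1427)) (.node (.leaf 697) (.leaf 2161))) (.node (.node (.leaf 353) (.leaf 1626)) (.leaf 934)))) (.node (.node (.node (.node (.leaf 261) (.leaf 1285)) (.node (.leaf 543) (.leaf 1838))) (.node (.node (.leaf 737) (.leaf 1803)) (.node (.leaf 878) (.leaf 2159)))) (.node (.node (.node (.leaf 479) (.leaf 1745)) (.node (.leaf 827) (.leaf 1982))) (.node (.node (.leaf 415) (.leaf 1717)) (.leaf 1008))))))
def dFin_19 : BT := .node (.node (.node (.node (.node (.node (.node (.leaf 13) (.leaf 1026)) (.node (.leaf 417) (.leaf 1720))) (.node (.node (.leaf 180) (.leaf 1409)) (.node (.leaf 1143) (.leaf 2045)))) (.node (.node (.node (.leaf 179) (.leaf 1328)) (.node (.leaf 553) (.leaf 2121))) (.node (.node (.leaf 788) (.leaf 1949)) (.leaf 1551)))) (.node (.node (.node (.node (.leaf 79) (.leaf 1212)) (.node (.leaf 1107) (.leaf 1782))) (.node (.node (.leaf 246) (.leaf 1521)) (.node (.leaf 1265) (.leaf 2103)))) (.node (.node (.node (.leaf 419) (.leaf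 1743)) (.node (.leaf 714) (.leaf 1935))) (.node (.node (.leaf 885) (.leaf 1646)) (.leaf 977))))) (.node (.node (.node (.node (.node (.leaf 38) (.leaf 1086)) (.node (.leaf 717) (.leaf 2077))) (.node (.node (.leaf 210) (.leaf 1837)) (.node (.leaf 787) (.leaf 2074)))) (.node (.node (.node (.leaf 213) (.leaf 1331)) (.node (.leaf 1333) (.leaf 1898))) (.node (.node (.leaf 604) (.leaf 1618)) (.leaf 1291)))) (.node (.node (.node (.node (.leaf 76) (.leaf 1262)) (.node (.leaf 1246) (.leaf 1808))) (.node (.node (.leaf 491) (.leaf 1548)) (.node (.leaf 868) (.leaf 2173)))) (.node (.node (.node (.leaf 634) (.leaf 1387)) (.node (.leaf 1361) (.leaf 2042))) (.node (.node (.leaf 1138) (.leaf 1688)) (.leaf 979)))))) (.node (.node (.node (.node (.node (.node (.leaf 37) (.leaf 1070)) (.node (.leaf 1025) (.leaf 1740))) (.node (.node (.leaf 555) (.leaf 1438)) (.node (.leaf 760) (.leaf 2062)))) (.node (.node (.node (.leaf 343) (.leaf 1327)) (.node (.leaf 652) (.leaf 1891))) (.node (.node (.leaf 535) (.leaf 1607))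 (.leaf 1567)))) (.node (.node (.node (.node (.leaf 64) (.leaf 1249)) (.node (.leaf 488) (.leaf 1794))) (.node (.node (.leaf 727) (.leaf 1532)) (.node (.leaf 1145) (.leaf 2118)))) (.node (.node (.node (.leaf 249) (.leaf 1703)) (.node (.leaf 728) (.leaf 1946))) (.node (.node (.leaf 655) (.leaf 1672)) (.leaf 974))))) (.node (.node (.node (.node (.node (.leaf 67) (.leaf 1108)) (.node (.leaf 641) (.leaf 1775))) (.node (.node (.leaf 687) (.leaf 1723)) (.node (.leaf 1437) (.leaf 2104)))) (.node (.node (.node (.leaf 592) (.leaf 1362)) (.node (.leaf 685) (.leaf 1914))) (.node (.node (.leaf 341) (.leaf 1649)) (.leaf 1147)))) (.node (.node (.node (.node (.leaf 167) (.leaf 1288)) (.node (.leaf 532) (.leaf 1834))) (.node (.node (.leaf 598) (.leaf 1564)) (.node (.leaf 886) (.leaf 2175)))) (.node (.node (.node (.leaf 164) (.leaf 1392)) (.node (.leaf 1215) (.leaf 1978))) (.node (.node (.leaf 981) (.leaf 1700)) (.leaf 1671))))))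
def dFin_20 : BT := .node dFin_18 dFin_19
def dFin_21 : BT := .node dFin_17 dFin_20
def dFin_22 : BT := .node (.node (.node (.node (.node (.node (.node (.leaf 3) (.leaf 1561)) (.node (.leaf 423) (.leaf 1735))) (.node (.node (.leaf 172) (.leaf 1398)) (.node (.leaf 1391) (.leaf 2040)))) (.node (.node (.node (.leaf 86) (.leaf 1307)) (.node (.leaf 557) (.leaf 1867))) (.node (.node (.leaf 771) (.leaf 1593)) (.leaf 897)))) (.node (.node (.node (.node (.leaf 117) (.leaf 1259)) (.node (.leaf 1103) (.leaf 1777))) (.node (.node (.leaf 649) (.leaf 1895)) (.node (.leaf 831) (.leaf 2163)))) (.node (.node (.node (.leaf 137) (.leaf 1463)) (.node (.leaf 1283) (.leaf 1925))) (.node (.node (.leaf 899) (.leaf 1961)) (.leaf 959))))) (.node (.node (.node (.node (.node (.leaf 59) (.leaf 1204)) (.node (.leaf 919) (.leaf 1857))) (.node (.node (.leaf 215) (.leaf 1469)) (.node (.leaf 769) (.leaf 2115)))) (.node (.node (.node (.leaf 121) (.leaf 1337)) (.node (.leaf 677) (.leaf 1893))) (.node (.node (.leaf 863) (.leaf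 1617)) (.leaf 925)))) (.node (.node (.node (.node (.leaf 207) (.leaf 1272)) (.node (.leaf 1223) (.leaf 1801))) (.node (.node (.leaf 309) (.leaf 1539)) (.node (.leaf 861) (.leaf 2153)))) (.node (.node (.node (.leaf 1152) (.leaf 1779)) (.node (.leaf 1197) (.leaf 1969))) (.node (.node (.leaf 701) (.leaf 1685)) (.leaf 985)))))) (.node (.node (.node (.node (.node (.node (.leaf 43) (.leaf 1206)) (.node (.leaf 1165) (.leaf 1831))) (.node (.node (.leaf 193) (.leaf 1440)) (.node (.leaf 757) (.leaf 2059)))) (.node (.node (.node (.leaf 103) (.leaf 1319)) (.node (.leaf 657) (.leaf 2024))) (.node (.node (.leaf 317) (.leaf 1608)) (.leaf 1166)))) (.node (.node (.node (.node (.leaf 57) (.leaf 1221)) (.node (.leaf 529) (.leaf 2018))) (.node (.node (.leaf 723) (.leaf 1523)) (.node (.leaf 1525) (.leaf 2127)))) (.node (.node (.node (.leaf 379) (.leaf 1489)) (.node (.leaf 721) (.leaf 1953))) (.node (.node (.leaf 383) (.leaf 1945)) (.leaf 969))))) (.node (.node (.node (.node (.node (.leaf 41) (.leaf 1101)) (.node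 (.leaf 1162) (.leaf 2022))) (.node (.node (.leaf 231) (.leaf 1499)) (.node (.leaf 1199) (.leaf 2141)))) (.node (.node (.node (.leaf 890) (.leaf 1442)) (.node (.leaf 691) (.leaf 2010))) (.node (.node (.leaf 345) (.leaf 2039)) (.leaf 941)))) (.node (.node (.node (.node (.leaf 96) (.leaf 1295)) (.node (.leaf 539) (.leaf 1841))) (.node (.node (.leaf 759) (.leaf 1569)) (.node (.leaf 1541) (.leaf 2176)))) (.node (.node (.node (.leaf 182) (.leaf 1389)) (.node (.leaf 825) (.leaf 1975))) (.node (.node (.leaf 411) (.leaf 1715)) (.leaf 1585))))))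
def dFin_23 : BT := .node (.node (.node (.node (.node (.node (.node (.leaf 11) (.leaf 1022)) (.node (.leaf 427) (.leaf 1707))) (.node (.node (.leaf 176) (.leaf 1406)) (.node (.leaf 855) (.leaf 2046)))) (.node (.node (.node (.leaf 90) (.leaf 1347)) (.node (.leaf 563) (.leaf 2135))) (.node (.node (.leaf 291) (.leaf 1957)) (.leaf 905)))) (.node (.node (.node (.node (.leaf 55) (.leaf 1697)) (.node (.leaf 509) (.leaf 2020))) (.node (.node (.leaf 707) (.leaf 1889)) (.node (.leaf 1483) (.leaf 2099)))) (.node (.node (.node (.leaf 143) (.leaf 1465)) (.node (.leaf 705) (.leaf 1933))) (.node (.node (.leaf 363) (.leaf 1644)) (.leaf 995))))) (.node (.node (.node (.node (.node (.leaf 34) (.leaf 1687)) (.node (.leaf 447) (.leaf 2085))) (.node (.node (.leaf 209) (.leaf 1467)) (.node (.leaf 783) (.leaf 2095)))) (.node (.node (.node (.leaf 119) (.leaf 1348)) (.node (.leaf 1313) (.leaf 2004))) (.node (.node (.leaf 332) (.leaf 1977)) (.leaf 913)))) (.node (.node (.node (.node (.leaf 75) (.leaf 1709)) (.node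 (.leaf 511) (.leaf 1807))) (.node (.node (.leaf 311) (.leaf 1547)) (.node (.leaf 871) (.leaf 2133)))) (.node (.node (.node (.leaf 157) (.leaf 1773)) (.node (.leaf 813) (.leaf 1955))) (.node (.node (.leaf 392) (.leaf 1691)) (.leaf 996)))))) (.node (.node (.node (.node (.node (.node (.leaf 23) (.leaf 1068)) (.node (.leaf 439) (.leaf 1833))) (.node (.node (.leaf 197) (.leaf 1432)) (.node (.leaf 867) (.leaf 2055)))) (.node (.node (.node (.leaf 107) (.leaf 1311)) (.node (.leaf 1279) (.leaf 1886))) (.node (.node (.leaf 313) (.leaf 1602)) (.leaf 911)))) (.node (.node (.node (.node (.leaf 63) (.leaf 1245)) (.node (.leaf 531) (.leaf 2008))) (.node (.node (.leaf 289) (.leaf 1535)) (.node (.leaf 852) (.leaf 2171)))) (.node (.node (.node (.leaf 449) (.leaf 1371)) (.node (.leaf 781) (.leaf 2035))) (.node (.node (.leaf 915) (.leaf 1666)) (.leaf 961))))) (.node (.node (.node (.node (.node (.leaf 47) (.leaf 1233)) (.node (.leaf 1067) (.leaf 1770))) (.node (.node (.leaf 237) (.leaf 1481)) (.node (.leaf 814)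 (.leaf 2083)))) (.node (.node (.node (.leaf 127) (.leaf 1435)) (.node (.leaf 695) (.leaf 2006))) (.node (.node (.leaf 351) (.leaf 1669)) (.leaf 1605)))) (.node (.node (.node (.node (.leaf 92) (.leaf 1277)) (.node (.leaf 541) (.leaf 1843))) (.node (.node (.leaf 331) (.leaf 1563)) (.node (.leaf 882) (.leaf 2182)))) (.node (.node (.node (.leaf 186) (.leaf 1531)) (.node (.leaf 1373) (.leaf 1996))) (.node (.node (.leaf 963) (.leaf 1695)) (.leaf 1643))))))
def dFin_24 : BT := .node dFin_22 dFin_23
def dFin_25 : BT := .node (.node (.node (.node (.node (.node (.node (.leaf 7) (.leaf 1552)) (.node (.leaf 425) (.leaf 1727))) (.node (.node (.leaf 523) (.leaf 1402)) (.node (.leaf 856) (.leaf 2031)))) (.node (.node (.node (.leaf 303) (.leaf 1297)) (.node (.leaf 559) (.leaf 1869))) (.node (.node (.leaf 297) (.leaf 1583)) (.leaf 1176)))) (.node (.node (.node (.node (.leaf 49) (.leaf 1255)) (.node (.leaf 515) (.leaf 2016))) (.node (.node (.leaf 243) (.leaf 1909)) (.node (.leaf 835) (.leaf 2165)))) (.node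 (.node (.node (.leaf 139) (.leaf 1365)) (.node (.leaf 713) (.leaf 1927))) (.node (.node (.leaf 909) (.leaf 1650)) (.leaf 949))))) (.node (.node (.node (.node (.node (.leaf 71) (.leaf 1079)) (.node (.leaf 455) (.leaf 1853))) (.node (.node (.leaf 201) (.leaf 1455)) (.node (.leaf 790) (.leaf 2111)))) (.node (.node (.node (.leaf 111) (.leaf 1340)) (.node (.leaf 1299) (.leaf 2002))) (.node (.node (.leaf 1186) (.leaf 1611)) (.leaf 923)))) (.node (.node (.node (.node (.leaf 69) (.leaf 1274)) (.node (.leaf 517) (.leaf 1805))) (.node (.node (.leaf 265) (.leaf 1555)) (.node (.leaf 1190) (.leaf 2149)))) (.node (.node (.node (.leaf 1056) (.leaf 1791)) (.node (.leaf 1367) (.leaf 1965))) (.node (.node (.leaf 703) (.leaf 1677)) (.leaf 988)))))) (.node (.node (.node (.node (.node (.node (.leaf 51) (.leaf 1679)) (.node (.leaf 1175) (.leaf 1737))) (.node (.node (.leaf 199) (.leaf 1825)) (.node (.leaf 1188) (.leaf 2053)))) (.node (.node (.node (.leaf 109) (.leaf 1339)) (.node (.leaf 647) (.leaf 2012))) (.node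 (.node (.leaf 301) (.leaf 1973)) (.leaf 907)))) (.node (.node (.node (.node (.leaf 203) (.leaf 1239)) (.node (.leaf 483) (.leaf 1789))) (.node (.node (.leaf 295) (.leaf 1537)) (.node (.leaf 858) (.leaf 2129)))) (.node (.node (.node (.leaf 149) (.leaf 1493)) (.node (.leaf 777) (.leaf 1943))) (.node (.node (.leaf 377) (.leaf 1675)) (.leaf 987))))) (.node (.node (.node (.node (.node (.leaf 113) (.leaf 1229)) (.node (.leaf 1081) (.leaf 2014))) (.node (.node (.leaf 233) (.leaf 1495)) (.node (.leaf 1457) (.leaf 2145)))) (.node (.node (.node (.leaf 1182) (.leaf 1739)) (.node (.leaf 693) (.leaf 1907))) (.node (.node (.leaf 347) (.leaf 1653)) (.leaf 1613)))) (.node (.node (.node (.node (.leaf 267) (.leaf 1287)) (.node (.leaf 521) (.leaf 1823))) (.node (.node (.leaf 1185) (.leaf 1557)) (.node (.leaf 1559) (.leaf 2178)))) (.node (.node (.node (.leaf 485) (.leaf 1529)) (.node (.leaf 821) (.leaf 1971))) (.node (.node (.leaf 951) (.leaf 1719)) (.leaf 1192))))))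
def dFin_26 : BT := .node (.node (.node (.node (.node (.node (.node (.leaf 24) (.leaf 1016)) (.node (.leaf 1014) (.leaf 1728))) (.node (.node (.leaf 607) (.leaf 1451)) (.node (.leaf 1119) (.leaf 2036)))) (.node (.node (.node (.leaf 602) (.leaf 1308)) (.node (.leaf 609) (.leaf 1860))) (.node (.node (.leaf 611) (.leaf 1588)) (.leaf 1821)))) (.node (.node (.node (.node (.leaf 632) (.leaf 1216)) (.node (.leaf 733) (.leaf 1787))) (.node (.node (.leaf 630) (.leaf 1506)) (.node (.leaf 1504) (.leaf 2096)))) (.node (.node (.node (.leaf 619) (.leaf 1471)) (.node (.leaf 1061) (.leaf 1936))) (.node (.node (.leaf 355) (.leaf 1631)) (.leaf 1620))))) (.node (.node (.node (.node (.node (.leaf 26) (.leaf 1591)) (.node (.leaf 719) (.leaf 1762))) (.node (.node (.leaf 1137) (.leaf 1472)) (.node (.leaf 1416) (.leaf 2078)))) (.node (.node (.node (.leaf 386) (.leaf 1352)) (.node (.leaf 1003) (.leaf 1905))) (.node (.node (.leaf 321) (.leaf 1989)) (.leaf 1594)))) (.node (.node (.node (.node (.leaf 637) (.leaf 1268))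 (.node (.leaf 799) (.leaf 1812))) (.node (.node (.leaf 750) (.leaf 1815)) (.node (.leaf 1453) (.leaf 2150)))) (.node (.node (.node (.leaf 153) (.leaf 1378)) (.node (.leaf 731) (.leaf 1966))) (.node (.node (.leaf 1140) (.leaf 1693)) (.leaf 1654)))))) (.node (.node (.node (.node (.node (.node (.leaf 15) (.leaf 1059)) (.node (.leaf 431) (.leaf 1751))) (.node (.node (.leaf 572) (.leaf 1418)) (.node (.leaf 1448) (.leaf 2064)))) (.node (.node (.node (.leaf 571) (.leaf 1633)) (.node (.leaf 1134) (.leaf 1872))) (.node (.node (.leaf 840) (.leaf 1596)) (.leaf 1475)))) (.node (.node (.node (.node (.leaf 595) (.leaf 1240)) (.node (.leaf 1120) (.leaf 1992))) (.node (.node (.leaf 612) (.leaf 1755)) (.node (.leaf 1129) (.leaf 2124)))) (.node (.node (.node (.leaf 629) (.leaf 1764)) (.node (.leaf 1354) (.leaf 1950))) (.node (.node (.leaf 930) (.leaf 1656)) (.leaf 1325))))) (.node (.node (.node (.node (.node (.leaf 590) (.leaf 1110)) (.node (.leaf 457) (.leaf 1766))) (.node (.node (.leaf 620) (.leaf 1870))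 (.node (.leaf 797) (.leaf 2086)))) (.node (.node (.node (.leaf 123) (.leaf 1356)) (.node (.leaf 698) (.leaf 1990))) (.node (.node (.leaf 874) (.leaf 1622)) (.leaf 1133)))) (.node (.node (.node (.node (.leaf 596) (.leaf 1292)) (.node (.leaf 1130) (.leaf 1844))) (.node (.node (.leaf 271) (.leaf 1571)) (.node (.leaf 876) (.leaf 2184)))) (.node (.node (.node (.leaf 601) (.leaf 1752)) (.node (.leaf 1376) (.leaf 1986))) (.node (.node (.leaf 681) (.leaf 1704)) (.leaf 1001))))))
def dFin_27 : BT := .node dFin_25 dFin_26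
def dFin_28 : BT := .node dFin_24 dFin_27
def dFin_29 : BT := .node dFin_21 dFin_28
def dFin_30 : BT := .node dFin_14 dFin_29
def dFin : BT := dFin_30
theorem chk_all : chkAll dD dJS 0 = true := by decide +kernel
theorem chk_fin : chkFin dD 120 dJS.length dLive dPos dFin = true := by decide +kernel
end Cfsg.Agent.Lib.Helper66.O8Pres
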