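import Cfsg.Agent.Lib.Helper66.TCE

set_option autoImplicit false
set_option maxRecDepth 100000
namespace Cfsg.Agent.Lib.Helper66.O8Up
open Cfsg.Agent.Lib.Helper66.TCE
def dF_0 : BT := .node (.node (.node (.node (.node (.node (.node (.leaf 0) (.leaf 176093701139)) (.leaf 108447950103)) (.node (.leaf 69793228428) (.leaf 143881438750))) (.node (.node (.leaf 38654710528) (.leaf 93952434820)) (.node (.leaf 88046850586) (.leaf 126164702346)))) (.node (.node (.node (.node (.leaf 20401097094) (.leaf 183073020300)) (.leaf 119722241949)) (.node (.leaf 31138531206) (.leaf 108447960458))) (.node (.node (.leaf 48855264657) (.leaf 135291500544)) (.node (.leaf 96636787223) (.leaf 167503764511))))) (.node (.node (.node (.node (.node (.leaf 10200549779) (.leaf 179314927377)) (.leaf 111132306177)) (.node (.leaf 44560292623) (.leaf 147639536000))) (.node (.node (.leaf 19864228511) (.leaf 130459662751)) (.node (.leaf 92341818899) (.leaf 164282532224)))) (.node (.node (.node (.node (.leaf 28991033869) (.leaf 186294250900))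 (.leaf 125090947853)) (.node (.leaf 82141265569) (.leaf 156229472128))) (.node (.node (.leaf 58518943370) (.leaf 138512728345)) (.node (.leaf 103616110739) (.leaf 172335603205)))))) (.node (.node (.node (.node (.node (.node (.leaf 536873750) (.leaf 177704314269)) (.leaf 112206047389)) (.node (.leaf 73014451840) (.leaf 145492046240))) (.node (.node (.leaf 42412812185) (.leaf 81067538209)) (.node (.leaf 89657463711) (.leaf 162135046539)))) (.node (.node (.node (.node (.leaf 24159196800) (.leaf 184683637787)) (.leaf 122406597151)) (.node (.leaf 78920042905) (.leaf 154618850689))) (.node (.node (.leaf 55297709454) (.leaf 136902104201)) (.node (.leaf 101468615945) (.leaf 142807703050))))) (.node (.node (.node (.node (.node (.leaf 15569260179) (.leaf 180925540480)) (.leaf 113279790344)) (.node (.leaf 57982072327) (.leaf 149250149137))) (.node (.node (.leaf 19864234764) (.leaf 133680888990)) (.node (.leaf 93952432029) (.leaf 165893151378)))) (.node (.node (.node (.leaf 33286000260) (.leaf 89657459233)) (.node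 (.leaf 85362495381) (.leaf 157840085791))) (.node (.node (.leaf 24696076802) (.leaf 141733954580)) (.node (.leaf 105763594899) (.leaf 174483088016))))))
def dF_1 : BT := .node (.node (.node (.node (.node (.node (.node (.leaf 7516194564) (.leaf 177167443221)) (.leaf 111132305300)) (.node (.leaf 70866977307) (.leaf 144955180821))) (.node (.node (.leaf 40802199059) (.leaf 113279790340)) (.node (.leaf 42412823304) (.leaf 160524440989)))) (.node (.node (.node (.node (.leaf 10200552606) (.leaf 181999282946)) (.leaf 121869726080)) (.node (.leaf 77846300831) (.leaf 153545109377))) (.node (.node (.leaf 20401106720) (.leaf 129385922183)) (.node (.leaf 100394884497) (.leaf 168577506587))))) (.node (.node (.node (.node (.node (.leaf 13958647048) (.leaf 179851796000)) (.leaf 115964144663)) (.node (.leaf 1953) (.leaf 148176407069))) (.node (.node (.leaf 33822875550) (.leaf 133144016392)) (.node (.leaf 51539615010) (.leaf 164819409311)))) (.node (.node (.node (.node (.leaf 30064778263) (.leaf 187367992834)) (.leaf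 126701565459)) (.node (.leaf 83751882265) (.leaf 156766343711))) (.node (.node (.leaf 60129556505) (.leaf 140660212501)) (.node (.leaf 104689852802) (.leaf 173409342880)))))) (.node (.node (.node (.node (.node (.node (.leaf 11274291866) (.leaf 178241182599)) (.leaf 114353530634)) (.node (.leaf 17179874307) (.leaf 146565793163))) (.node (.node (.leaf 21474846849) (.leaf 129385920667)) (.node (.leaf 90731205781) (.leaf 163208796183)))) (.node (.node (.node (.node (.leaf 26306680960) (.leaf 185757378180)) (.leaf 123480334625)) (.node (.leaf 81067527067) (.leaf 155155730579))) (.node (.node (.leaf 57445201297) (.leaf 137975855750)) (.node (.leaf 102542358025) (.leaf 171798732829))))) (.node (.node (.node (.node (.node (.leaf 18790486423) (.leaf 162671929604)) (.leaf 118648494112)) (.node (.leaf 74625064834) (.leaf 150323891216))) (.node (.node (.leaf 47244645381) (.leaf 134217760021)) (.node (.leaf 95563045141) (.leaf 166430022421)))) (.node (.node (.node (.leaf 34896617620) (.leaf 84288759968)) (.node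 (.leaf 41875951885) (.leaf 158913819400))) (.node (.node (.leaf 67645742080) (.leaf 142807685510)) (.node (.leaf 106837336969) (.leaf 175019959067))))))
def dF_2 : BT := .node dF_0 dF_1
def dF_3 : BT := .node (.node (.node (.node (.node (.node (.node (.leaf 3221226249) (.leaf 176630566667)) (.leaf 110595434257)) (.node (.leaf 70330105478) (.leaf 144418309787))) (.node (.node (.leaf 39191585949) (.leaf 85362496775)) (.node (.leaf 88583720198) (.leaf 159987569934)))) (.node (.node (.node (.node (.leaf 20937970583) (.leaf 183609895304)) (.leaf 121332844550)) (.node (.leaf 77309429791) (.leaf 111669186186))) (.node (.node (.leaf 49392135705) (.leaf 128849051144)) (.node (.leaf 49929018401) (.leaf 168040635545))))) (.node (.node (.node (.node (.node (.leaf 8053065620) (.leaf 179851792902)) (.leaf 115427273623)) (.node (.leaf 35970359842) (.leaf 147639536025))) (.node (.node (.leaf 1073742111) (.leaf 131533404820)) (.node (.leaf 46170920591) (.leaf 159987570954)))) (.node (.node (.node (.node (.leaf 29527907217)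 (.leaf 186831120651)) (.leaf 126164690189)) (.node (.leaf 83215000584) (.leaf 154081989002))) (.node (.node (.leaf 59592685457) (.leaf 139049599385)) (.node (.leaf 104152981647) (.leaf 172872472992)))))) (.node (.node (.node (.node (.node (.node (.leaf 418) (.leaf 178241184904)) (.leaf 113279789465)) (.node (.leaf 73551332507) (.leaf 146028922903))) (.node (.node (.leaf 42949682315) (.leaf 128849049619)) (.node (.leaf 84288754699) (.leaf 162671925137)))) (.node (.node (.node (.node (.leaf 24696067867) (.leaf 185220508818)) (.leaf 79456924293)) (.node (.leaf 79456913950) (.leaf 133680893985))) (.node (.node (.leaf 23622333708) (.leaf 137438984710)) (.node (.leaf 102005487620) (.leaf 142807703439))))) (.node (.node (.node (.node (.node (.leaf 16643001615) (.leaf 176093702282)) (.leaf 117574751905)) (.node (.leaf 74088203538) (.leaf 149787020181))) (.node (.node (.leaf 46707780497) (.leaf 134217750273)) (.node (.leaf 95026165634) (.leaf 166430016641)))) (.node (.node (.node (.leaf 33822873228) (.leaf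 50465877517)) (.node (.leaf 86973107072) (.leaf 158376948868))) (.node (.node (.leaf 25232948641) (.leaf 142270825608)) (.node (.leaf 106300465945) (.leaf 148713284356))))))
def dF_4 : BT := .node (.node (.node (.node (.node (.node (.node (.leaf 9663677199) (.leaf 162671928455)) (.leaf 111669176341)) (.node (.leaf 71940719382) (.leaf 145492051858))) (.node (.node (.leaf 41875941143) (.leaf 92878698113)) (.node (.leaf 83215012608) (.leaf 128849057423)))) (.node (.node (.node (.node (.leaf 23085452674) (.leaf 184146766749)) (.leaf 122406597120)) (.node (.leaf 78383166880) (.leaf 154081982989))) (.node (.node (.leaf 51002742151) (.leaf 136365244186)) (.node (.leaf 100931755541) (.leaf 169114377627))))) (.node (.node (.node (.node (.node (.leaf 15032387981) (.leaf 180388666635)) (.leaf 117037875970)) (.node (.leaf 63350775970) (.leaf 148713278107))) (.node (.node (.leaf 31138520350) (.leaf 133144013473)) (.node (.leaf 93415560983) (.leaf 165356273290)))) (.node (.node (.node (.node (.leaf 31138517900)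 (.leaf 187367992983)) (.leaf 83751883650)) (.node (.leaf 84825616128) (.leaf 157303214749))) (.node (.node (.leaf 25232947337) (.leaf 141197083543)) (.node (.leaf 57445212674) (.leaf 173946216985)))))) (.node (.node (.node (.node (.node (.node (.leaf 1186) (.leaf 178778053537)) (.leaf 70330116879)) (.node (.leaf 44560296482) (.leaf 147102664980))) (.node (.node (.leaf 44560296341) (.leaf 129922791710)) (.node (.leaf 91268076827) (.leaf 163745667225)))) (.node (.node (.node (.node (.leaf 15032392320) (.leaf 185757379232)) (.leaf 110058555682)) (.node (.leaf 81604398109) (.leaf 155692601092))) (.node (.node (.leaf 57982064517) (.leaf 131533406338)) (.node (.leaf 103079229701) (.leaf 172335603846))))) (.node (.node (.node (.node (.node (.leaf 18790486539) (.leaf 182536153619)) (.leaf 119185370907)) (.node (.leaf 75161945604) (.leaf 151397630597))) (.node (.node (.leaf 47781522570) (.leaf 134754631063)) (.node (.leaf 96099916186) (.leaf 166966893469)))) (.node (.node (.node (.leaf 36507226119) (.leaf 124554074018))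 (.node (.leaf 87509978123) (.leaf 159450698884))) (.node (.node (.leaf 68719484161) (.leaf 143344567701)) (.node (.leaf 107374208021) (.leaf 175556830095))))))
def dF_5 : BT := .node dF_3 dF_4
def dF_6 : BT := .node dF_2 dF_5
def dF_7 : BT := .node (.node (.node (.node (.node (.node (.node (.leaf 271) (.leaf 153008252046)) (.leaf 109521680902)) (.node (.leaf 70330106261) (.leaf 144418299910))) (.node (.node (.leaf 18790491278) (.leaf 31138520327)) (.node (.leaf 88046846369) (.leaf 159987569941)))) (.node (.node (.node (.node (.leaf 20401099547) (.leaf 183073024669)) (.leaf 120795973508)) (.node (.leaf 77309419396) (.leaf 152471375385))) (.node (.node (.leaf 24159202690) (.leaf 135291502105)) (.node (.leaf 49392147206) (.leaf 168040635528))))) (.node (.node (.node (.node (.node (.leaf 10200549771) (.leaf 179314924577)) (.leaf 115427272706)) (.node (.leaf 39728457228) (.leaf 147639535243))) (.node (.node (.leaf 11274295330) (.leaf 130996533785)) (.node (.leaf 92341818907) (.leaf 164282538263)))) (.node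 (.node (.node (.node (.leaf 28454165251) (.leaf 186294250894)) (.leaf 79456924811)) (.node (.leaf 82678140181) (.leaf 156229472663))) (.node (.node (.leaf 58518943391) (.leaf 139049595650)) (.node (.leaf 103616110749) (.leaf 172872474899)))))) (.node (.node (.node (.node (.node (.node (.leaf 12884902028) (.leaf 178241182478)) (.leaf 113279778818)) (.node (.leaf 73551332488) (.leaf 146028912650))) (.node (.node (.leaf 42949677952) (.leaf 128312178587)) (.node (.leaf 90194334742) (.leaf 162135054105)))) (.node (.node (.node (.node (.leaf 11274295054) (.leaf 185220508675)) (.leaf 122943468182)) (.node (.leaf 79456913940) (.leaf 154618859018))) (.node (.node (.leaf 56371459219) (.leaf 136902115225)) (.node (.leaf 101468626585) (.leaf 170188119703))))) (.node (.node (.node (.node (.node (.leaf 1073745824) (.leaf 180925540495)) (.leaf 117574757768)) (.node (.leaf 29527911457) (.leaf 149250146593))) (.node (.node (.leaf 46170909459) (.leaf 131533404814)) (.node (.leaf 94489303063) (.leaf 165893151388))))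 (.node (.node (.node (.leaf 33286004505) (.leaf 21474848263)) (.node (.leaf 39728468102) (.leaf 158376948869))) (.node (.node (.leaf 24696077217) (.leaf 141733954569)) (.node (.leaf 106300465937) (.leaf 174483085600))))))
def dF_8 : BT := .node (.node (.node (.node (.node (.node (.node (.leaf 8053065610) (.leaf 154081993992)) (.leaf 74088212353)) (.node (.leaf 71403841677) (.leaf 144955180829))) (.node (.node (.leaf 19327362820) (.leaf 127238436500)) (.node (.leaf 89120592661) (.leaf 161061304458)))) (.node (.node (.node (.node (.leaf 22548583697) (.leaf 184146766344)) (.leaf 121869726105)) (.node (.leaf 78383171858) (.leaf 153545117467))) (.node (.node (.leaf 50465877779) (.leaf 136365244176)) (.node (.leaf 56371469834) (.leaf 169114377604))))) (.node (.node (.node (.node (.node (.leaf 13958647067) (.leaf 180388663940)) (.leaf 115964144671)) (.node (.leaf 25232945794) (.leaf 148713278090))) (.node (.node (.leaf 42412812190) (.leaf 133144017949)) (.node (.leaf 93415560968) (.leaf 165356274561)))) (.node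 (.node (.node (.node (.leaf 21474843789) (.leaf 187367992839)) (.leaf 82141279757)) (.node (.leaf 84288753300) (.leaf 157303211277))) (.node (.node (.leaf 60666427540) (.leaf 108447950094)) (.node (.leaf 104689852819) (.leaf 173946211846)))))) (.node (.node (.node (.node (.node (.node (.leaf 536871065) (.leaf 178778056337)) (.leaf 114353531547)) (.node (.leaf 45097173774) (.leaf 146565793671))) (.node (.node (.leaf 44560295426) (.leaf 129922783617)) (.node (.leaf 91268065282) (.leaf 163745661316)))) (.node (.node (.node (.node (.leaf 26306680985) (.leaf 185757379859)) (.leaf 78383182854)) (.node (.leaf 81604389760) (.leaf 155155730057))) (.node (.node (.leaf 57445201305) (.leaf 137975857301)) (.node (.leaf 57982082953) (.leaf 142807703458))))) (.node (.node (.node (.node (.node (.leaf 19327357323) (.leaf 181999282585)) (.leaf 119185370886)) (.node (.leaf 74625074585) (.leaf 150323887520))) (.node (.node (.leaf 47244651529) (.leaf 134754619782)) (.node (.leaf 48855275919) (.leaf 166966886146)))) (.node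 (.node (.node (.leaf 34896617611) (.leaf 24696076834)) (.node (.leaf 87509979539) (.leaf 158913827869))) (.node (.node (.leaf 67645751067) (.leaf 142807696667)) (.node (.leaf 107374208008) (.leaf 175556830082))))))
def dF_9 : BT := .node dF_7 dF_8
def dF_10 : BT := .node (.node (.node (.node (.node (.node (.node (.leaf 5368710410) (.leaf 161598186637)) (.leaf 73551341313)) (.node (.leaf 70866976522) (.leaf 121332860320))) (.node (.node (.leaf 39728456984) (.leaf 102005497606)) (.node (.leaf 88583721619) (.leaf 160524436224)))) (.node (.node (.node (.node (.leaf 21474841618) (.leaf 183609895703)) (.leaf 121332855063)) (.node (.leaf 77846300804) (.leaf 153008246423))) (.node (.node (.leaf 49929006740) (.leaf 135828373141)) (.node (.leaf 99858007456) (.leaf 168577499917))))) (.node (.node (.node (.node (.node (.leaf 10200549789) (.leaf 179851798419)) (.leaf 70866988046)) (.node (.leaf 536874273) (.leaf 148176407046))) (.node (.node (.leaf 32212262430) (.leaf 86973119502)) (.node (.leaf 92878678925) (.leaf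 164819409297)))) (.node (.node (.node (.node (.leaf 30064774662) (.leaf 186831121945)) (.leaf 126164694429)) (.node (.leaf 83215011231) (.leaf 156766343703))) (.node (.node (.leaf 24159205390) (.leaf 140123341460)) (.node (.leaf 104152981786) (.leaf 173409345936)))))) (.node (.node (.node (.node (.node (.node (.leaf 5368710427) (.leaf 165893154317)) (.leaf 113816651648)) (.node (.leaf 54760836642) (.leaf 146565793920))) (.node (.node (.leaf 43486554258) (.leaf 129385920657)) (.node (.leaf 90731204356) (.leaf 162671925134)))) (.node (.node (.node (.node (.leaf 25232938904) (.leaf 185220508449)) (.leaf 123480339221)) (.node (.leaf 80530645126) (.leaf 155155730050))) (.node (.node (.leaf 56908330259) (.leaf 137438986269)) (.node (.leaf 102005497629) (.leaf 171798732429))))) (.node (.node (.node (.node (.node (.leaf 1073745953) (.leaf 181462411539)) (.leaf 118111623072)) (.node (.leaf 74088197024) (.leaf 111132314502))) (.node (.node (.leaf 46707780505) (.leaf 134217758473)) (.node (.leaf 95026174107)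 (.leaf 166430021385)))) (.node (.node (.node (.leaf 15569264654) (.leaf 90731211791)) (.node (.leaf 86973108503) (.leaf 158376956807))) (.node (.node (.leaf 67108880021) (.leaf 142270825621)) (.node (.leaf 106837336980) (.leaf 163745669900))))))
def dF_11 : BT := .node (.node (.node (.node (.node (.node (.node (.leaf 3758096404) (.leaf 177704310797)) (.leaf 112206047377)) (.node (.leaf 31138530049) (.leaf 145492051866))) (.node (.node (.leaf 42412806662) (.leaf 127775307537)) (.node (.leaf 89657462277) (.leaf 161598183066)))) (.node (.node (.node (.node (.leaf 23622325781) (.leaf 184683637261)) (.leaf 122406597124)) (.node (.leaf 78920042880) (.leaf 154081988509))) (.node (.node (.leaf 21474849282) (.leaf 136902113665)) (.node (.leaf 100931755404) (.leaf 169651248657))))) (.node (.node (.node (.node (.node (.leaf 15032389149) (.leaf 180388669469)) (.leaf 117037886743)) (.node (.leaf 54223969312) (.leaf 104152992518))) (.node (.node (.leaf 41875941150) (.leaf 133680887433)) (.node (.leaf 93952432008)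 (.leaf 155155733025)))) (.node (.node (.node (.leaf 15032393248) (.leaf 97710511138)) (.node (.leaf 84825624347) (.leaf 157840085779))) (.node (.node (.leaf 61203298581) (.leaf 141197083527)) (.node (.leaf 105226723867) (.leaf 152471380486)))))) (.node (.node (.node (.node (.node (.node (.leaf 536873250) (.leaf 155692607238)) (.leaf 114890402582)) (.node (.leaf 17179873186) (.leaf 147102664988))) (.node (.node (.leaf 45634032262) (.leaf 130459658254)) (.node (.leaf 91804946562) (.leaf 150860751522)))) (.node (.node (.node (.node (.leaf 28454165147) (.leaf 186294247945)) (.leaf 125090948111)) (.node (.leaf 82141269142) (.leaf 155692601627))) (.node (.node (.leaf 25232946693) (.leaf 138512728328)) (.node (.leaf 103079239705) (.leaf 172335603863))))) (.node (.node (.node (.node (.node (.leaf 19864228497) (.leaf 170188122624)) (.leaf 119722241941)) (.node (.leaf 75161945629) (.leaf 151934504339))) (.node (.node (.leaf 47781522591) (.leaf 134754631055)) (.node (.leaf 96636778755) (.leaf 167503763456))))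 (.node (.node (.node (.leaf 38117843859) (.leaf 94489299203)) (.node (.leaf 88046840833) (.leaf 159450698901))) (.node (.node (.leaf 68719493148) (.leaf 143881438607)) (.node (.leaf 107911068168) (.leaf 168040637345))))))
def dF_12 : BT := .node dF_10 dF_11
def dF_13 : BT := .node dF_9 dF_12
def dF_14 : BT := .node dF_6 dF_13
def dF_15 : BT := .node (.node (.node (.node (.node (.node (.node (.leaf 8) (.leaf 176093701145)) (.leaf 108447950111)) (.node (.leaf 70330105480) (.leaf 100394895008))) (.node (.node (.leaf 38654714903) (.leaf 93952434848)) (.node (.leaf 43486564869) (.leaf 159987562381)))) (.node (.node (.node (.node (.leaf 20401099539) (.leaf 183073024655)) (.leaf 120259112847)) (.node (.leaf 33286014984) (.leaf 152471367040))) (.node (.node (.leaf 48855264665) (.leaf 135291502097)) (.node (.leaf 96636787231) (.leaf 168040628484))))) (.node (.node (.node (.node (.node (.leaf 11274291862) (.leaf 179314927385)) (.leaf 70866987912)) (.node (.leaf 27917287586) (.leaf 147639535623))) (.node (.node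 (.leaf 15032393122) (.leaf 130996533777)) (.node (.leaf 92341818903) (.leaf 164282531212)))) (.node (.node (.node (.node (.leaf 28991036182) (.leaf 186294250908)) (.leaf 125090947872)) (.node (.leaf 82678130181) (.leaf 156229468172))) (.node (.node (.leaf 58518943383) (.leaf 123480342791)) (.node (.leaf 103616110730) (.leaf 148176412928)))))) (.node (.node (.node (.node (.node (.node (.leaf 5368710562) (.leaf 161598186882)) (.leaf 112742918287)) (.node (.leaf 29527917708) (.leaf 146028922882))) (.node (.node (.leaf 20401104768) (.leaf 128312178579)) (.node (.leaf 90194325121) (.leaf 162135054097)))) (.node (.node (.node (.node (.leaf 24159196823) (.leaf 184683637152)) (.leaf 122943468178)) (.node (.leaf 33822886415) (.leaf 154618859541))) (.node (.node (.leaf 56371459200) (.leaf 136902115217)) (.node (.leaf 101468626577) (.leaf 170188119688))))) (.node (.node (.node (.node (.node (.leaf 15569260187) (.leaf 180925539340)) (.leaf 117574757777)) (.node (.leaf 50465878668) (.leaf 149250149145))) (.node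 (.node (.leaf 46170909448) (.leaf 127238438027)) (.node (.leaf 94489303050) (.leaf 165893151382)))) (.node (.node (.node (.leaf 33286004497) (.leaf 84825630863)) (.node (.leaf 85362495389) (.leaf 121869734799))) (.node (.node (.leaf 62813902598) (.leaf 141733954586)) (.node (.leaf 105763594907) (.leaf 174483088024))))))
def dF_16 : BT := .node (.node (.node (.node (.node (.node (.node (.leaf 8053065602) (.leaf 177167443229)) (.leaf 111132305308)) (.node (.leaf 67645751810) (.leaf 144955170571))) (.node (.node (.leaf 40802199067) (.leaf 81067538063)) (.node (.leaf 89120591234) (.leaf 161061307264)))) (.node (.node (.node (.node (.leaf 22548581634) (.leaf 184146762756)) (.leaf 121869726097)) (.node (.leaf 75161945607) (.leaf 153545107593))) (.node (.node (.leaf 50465871110) (.leaf 135828371587)) (.node (.leaf 100394884505) (.leaf 140660219274))))) (.node (.node (.node (.node (.node (.leaf 13958647059) (.leaf 166966896512)) (.leaf 115964138509)) (.node (.leaf 54223975045) (.leaf 148176405280))) (.node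 (.node (.leaf 24696067870) (.leaf 133144016395)) (.node (.leaf 46170920736) (.leaf 160524441990)))) (.node (.node (.node (.node (.leaf 15569263618) (.leaf 187367991946)) (.leaf 126701554829)) (.node (.leaf 38654725775) (.leaf 119722250886))) (.node (.node (.leaf 24159205519) (.leaf 140660212507)) (.node (.leaf 104689841804) (.leaf 172872475013)))))) (.node (.node (.node (.node (.node (.node (.leaf 1073742090) (.leaf 178778050952)) (.leaf 114353531539)) (.node (.leaf 31138525474) (.leaf 146565793949))) (.node (.node (.leaf 44023420032) (.leaf 111669180576)) (.node (.leaf 90731205789) (.leaf 163208796191)))) (.node (.node (.node (.node (.leaf 26306680977) (.leaf 185757376780)) (.leaf 124017199362)) (.node (.leaf 81067516812) (.leaf 155155730587))) (.node (.node (.leaf 57445193477) (.leaf 137975855756)) (.node (.leaf 102542368668) (.leaf 171798732192))))) (.node (.node (.node (.node (.node (.leaf 10200551937) (.leaf 181999282579)) (.leaf 119185360266)) (.node (.leaf 74625074577) (.leaf 150323891224)))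 (.node (.node (.leaf 47244651546) (.leaf 134217760029)) (.node (.leaf 95563045145) (.leaf 166430022429)))) (.node (.node (.node (.leaf 34896615181) (.leaf 90194340897)) (.node (.leaf 41875952014) (.leaf 158913827595))) (.node (.node (.leaf 67645751059) (.leaf 142807696659)) (.node (.leaf 106837330337) (.leaf 163745669921))))))
def dF_17 : BT := .node dF_15 dF_16
def dF_18 : BT := .node (.node (.node (.node (.node (.node (.node (.leaf 1174) (.leaf 176630572189)) (.leaf 110595434265)) (.node (.leaf 70866967302) (.leaf 121332860321))) (.node (.node (.leaf 39728452609) (.leaf 126164694403)) (.node (.leaf 88583720202) (.leaf 156229472654)))) (.node (.node (.node (.node (.leaf 20937970589) (.leaf 183609895302)) (.leaf 121332855042)) (.node (.leaf 77846300800) (.leaf 153008240652))) (.node (.node (.leaf 20401106575) (.leaf 135828371585)) (.node (.leaf 99858013446) (.leaf 139049606408))))) (.node (.node (.node (.node (.node (.leaf 6442450978) (.leaf 179851795981)) (.leaf 115427273631)) (.node (.leaf 63350782882)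 (.leaf 101468637601))) (.node (.node (.leaf 13958647071) (.leaf 131533404828)) (.node (.leaf 92878689940) (.leaf 164819408262)))) (.node (.node (.node (.node (.leaf 29527907225) (.leaf 186831121939)) (.leaf 126164694421)) (.node (.leaf 83215011223) (.leaf 156766343699))) (.node (.node (.leaf 59592685465) (.leaf 139049599374)) (.node (.leaf 104152981782) (.leaf 173409345795)))))) (.node (.node (.node (.node (.node (.node (.leaf 2147483682) (.leaf 178241179915)) (.leaf 113279782817)) (.node (.leaf 39728464162) (.leaf 146028922911))) (.node (.node (.leaf 19327363215) (.leaf 128849049627)) (.node (.leaf 90731204352) (.leaf 162671925145)))) (.node (.node (.node (.node (.leaf 25232938896) (.leaf 185220508826)) (.leaf 123480339217)) (.node (.leaf 34896628233) (.leaf 115427283082))) (.node (.node (.leaf 56908330246) (.leaf 137438986261)) (.node (.leaf 102005486985) (.leaf 171798732804))))) (.node (.node (.node (.node (.node (.leaf 16643002263) (.leaf 181462407044)) (.leaf 118111618306)) (.node (.leaf 74088203544)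 (.leaf 149787020189))) (.node (.node (.leaf 46707780501) (.leaf 134217758469)) (.node (.leaf 95026174099) (.leaf 166430021381)))) (.node (.node (.node (.leaf 33822875543) (.leaf 30064782881)) (.node (.leaf 86973107082) (.leaf 158376953633))) (.node (.node (.leaf 67108870788) (.leaf 142270825357)) (.node (.leaf 59592696719) (.leaf 175019954560))))))
def dF_19 : BT := .node (.node (.node (.node (.node (.node (.node (.leaf 536873476) (.leaf 177704308486)) (.leaf 111669176349)) (.node (.leaf 71940712461) (.leaf 145492041611))) (.node (.node (.leaf 38117844746) (.leaf 127775296771)) (.node (.leaf 89657462272) (.leaf 161598183060)))) (.node (.node (.node (.node (.leaf 23622325760) (.leaf 182536153986)) (.leaf 122406586504)) (.node (.leaf 78383171851) (.leaf 154081988501))) (.node (.node (.leaf 52076483462) (.leaf 129922793221)) (.node (.leaf 100931755549) (.leaf 141733961222))))) (.node (.node (.node (.node (.node (.leaf 15032389141) (.leaf 180388669461)) (.leaf 117037880588)) (.node (.leaf 34896615567)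 (.leaf 148713275808))) (.node (.node (.leaf 39728456990) (.leaf 133680879233)) (.node (.leaf 93415560991) (.leaf 165356280349)))) (.node (.node (.node (.node (.leaf 31138520329) (.leaf 187367992991)) (.leaf 112742911778)) (.node (.leaf 84825624339) (.leaf 121332863758))) (.node (.node (.leaf 61203290248) (.leaf 141197083547)) (.node (.leaf 105226723859) (.leaf 173946213665)))))) (.node (.node (.node (.node (.node (.node (.leaf 3221226262) (.leaf 165893154438)) (.leaf 114890402578)) (.node (.leaf 22548585742) (.leaf 147102664984))) (.node (.node (.leaf 44560296349) (.leaf 130459651848)) (.node (.leaf 85362496776) (.leaf 138512728335)))) (.node (.node (.node (.node (.leaf 28454165139) (.leaf 186294250753)) (.leaf 79993780743)) (.node (.leaf 82141269136) (.leaf 155692592137))) (.node (.node (.leaf 57982072346) (.leaf 131533406346)) (.node (.leaf 103079239697) (.leaf 172335598092))))) (.node (.node (.node (.node (.node (.leaf 19864226180) (.leaf 182536153625)) (.leaf 74625085326)) (.node (.leaf 75161945625)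 (.leaf 151934504320))) (.node (.node (.leaf 47781522583) (.leaf 134754631071)) (.node (.leaf 49929017737) (.leaf 162671926144)))) (.node (.node (.node (.leaf 18790491012) (.leaf 31138531234)) (.node (.leaf 87509979551) (.leaf 159450697101))) (.node (.node (.leaf 68719493144) (.leaf 143344567707)) (.node (.leaf 107374208029) (.leaf 175556830107))))))
def dF_20 : BT := .node dF_18 dF_19
def dF_21 : BT := .node dF_17 dF_20
def dF_22 : BT := .node (.node (.node (.node (.node (.node (.node (.leaf 2147483674) (.leaf 176630572179)) (.leaf 62813922948)) (.node (.leaf 70330106269) (.leaf 144418309779))) (.node (.node (.leaf 39191585941) (.leaf 42949693474)) (.node (.leaf 88583720192) (.leaf 159987569949)))) (.node (.node (.node (.node (.leaf 20937970577) (.leaf 181462411910)) (.leaf 105226727558)) (.node (.leaf 77309429783) (.leaf 152471375391))) (.node (.node (.leaf 49392135684) (.leaf 128849051142)) (.node (.leaf 49392147361) (.leaf 168040635539))))) (.node (.node (.node (.node (.node (.leaf 536871045) (.leaf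 177704314632)) (.leaf 111669177220)) (.node (.leaf 43486554509) (.leaf 147639536017))) (.node (.node (.leaf 13958650274) (.leaf 85362506369)) (.node (.leaf 92341818883) (.leaf 164282538271)))) (.node (.node (.node (.node (.leaf 29527903748) (.leaf 177704316420)) (.leaf 79456925062)) (.node (.leaf 82678140189) (.leaf 156229472671))) (.node (.node (.leaf 59592677002) (.leaf 139049599377)) (.node (.leaf 103616110727) (.leaf 172872474907)))))) (.node (.node (.node (.node (.node (.node (.leaf 12884902171) (.leaf 178241185299)) (.leaf 113279789457)) (.node (.leaf 73551332499) (.leaf 146028917135))) (.node (.node (.leaf 42949682312) (.leaf 83215022090)) (.node (.leaf 90194334748) (.leaf 128849057569)))) (.node (.node (.node (.node (.leaf 24696067861) (.leaf 185220505867)) (.leaf 122943468190)) (.node (.leaf 79456909324) (.leaf 154618859547))) (.node (.node (.leaf 56371459227) (.leaf 89120604065)) (.node (.leaf 56371470094) (.leaf 170188113410))))) (.node (.node (.node (.node (.node (.leaf 16643002250) (.leaf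 180925540509)) (.leaf 117574747405)) (.node (.leaf 39191592992) (.leaf 149787010950))) (.node (.node (.leaf 46170909467) (.leaf 127238438018)) (.node (.leaf 94489303071) (.leaf 161598184073)))) (.node (.node (.node (.leaf 33822871176) (.leaf 120259107362)) (.node (.leaf 86436232993) (.leaf 158376956824))) (.node (.node (.leaf 25232948358) (.leaf 142270817282)) (.node (.leaf 106300465928) (.leaf 156229476996))))))
def dF_23 : BT := .node (.node (.node (.node (.node (.node (.node (.leaf 9126806159) (.leaf 177167439882)) (.leaf 111669169549)) (.node (.leaf 71940718593) (.leaf 143881438726))) (.node (.node (.leaf 41875940234) (.leaf 127238425613)) (.node (.leaf 89120592669) (.leaf 161061312029)))) (.node (.node (.node (.node (.leaf 22548583705) (.leaf 184146766741)) (.leaf 121332855181)) (.node (.leaf 78383171864) (.leaf 153545111840))) (.node (.node (.leaf 50465877787) (.leaf 136365244180)) (.node (.leaf 100931755522) (.leaf 169114377621))))) (.node (.node (.node (.node (.node (.leaf 1073745410) (.leaf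 180388666764)) (.leaf 116501015567)) (.node (.leaf 16643004294) (.leaf 148713278099))) (.node (.node (.leaf 23622325790) (.leaf 88046861325)) (.node (.leaf 93415556238) (.leaf 165356280341)))) (.node (.node (.node (.node (.leaf 31138520338) (.leaf 187367992977)) (.leaf 82141279747)) (.node (.leaf 84288753308) (.leaf 157303214741))) (.node (.node (.leaf 60666427546) (.leaf 141197083539)) (.node (.leaf 104689852827) (.leaf 173946216975)))))) (.node (.node (.node (.node (.node (.node (.leaf 8053065624) (.leaf 178778056345)) (.leaf 114353521036)) (.node (.leaf 22548583842) (.leaf 101468637455))) (.node (.node (.leaf 44560295434) (.leaf 129922791702)) (.node (.leaf 91268076819) (.leaf 163745667215)))) (.node (.node (.node (.node (.leaf 26843549063) (.leaf 185757379867)) (.leaf 124554076832)) (.node (.leaf 81604398101) (.leaf 155692601617))) (.node (.node (.leaf 23622333967) (.leaf 137975857309)) (.node (.leaf 56371470368) (.leaf 169651248655))))) (.node (.node (.node (.node (.node (.leaf 19327357462) (.leaf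 169114380672)) (.leaf 119185370899)) (.node (.leaf 33822885250) (.leaf 149787020293))) (.node (.node (.leaf 47781516548) (.leaf 134754629514)) (.node (.leaf 96099916180) (.leaf 166966893461)))) (.node (.node (.node (.leaf 35970355078) (.leaf 124017203234)) (.node (.leaf 87509978120) (.leaf 122943476749))) (.node (.node (.leaf 68182615309) (.leaf 143344567697)) (.node (.leaf 107374207885) (.leaf 175556830090))))))
def dF_24 : BT := .node dF_22 dF_23
def dF_25 : BT := .node (.node (.node (.node (.node (.node (.node (.leaf 6979323525) (.leaf 177167439757)) (.leaf 111132298511)) (.node (.leaf 70866977299) (.leaf 144955180800))) (.node (.node (.leaf 40265323649) (.leaf 87509978114)) (.node (.leaf 88583721627) (.leaf 160524440975)))) (.node (.node (.node (.node (.leaf 21474841626) (.leaf 183609895709)) (.leaf 121332855071)) (.node (.leaf 77846300823) (.leaf 153008246431))) (.node (.node (.leaf 49929006748) (.leaf 135828373145)) (.node (.leaf 100394884484) (.leaf 168577506581))))) (.node (.node (.node (.node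 (.node (.leaf 13421774607) (.leaf 179851798427)) (.leaf 115964144659)) (.node (.leaf 61203289760) (.leaf 148176407061))) (.node (.node (.leaf 44560296350) (.leaf 133144017939)) (.node (.leaf 92878689925) (.leaf 164819409303)))) (.node (.node (.node (.node (.leaf 30064775948) (.leaf 186831120929)) (.leaf 108447954312)) (.node (.leaf 83751874048) (.leaf 156766340109))) (.node (.node (.leaf 60129556501) (.leaf 140660208258)) (.node (.leaf 104152981765) (.leaf 173409345944)))))) (.node (.node (.node (.node (.node (.node (.leaf 12348033937) (.leaf 178241182368)) (.leaf 114353530624)) (.node (.leaf 39728454304) (.leaf 146565783688))) (.node (.node (.leaf 43486553355) (.leaf 129385909768)) (.node (.leaf 90731204362) (.leaf 163208791296)))) (.node (.node (.node (.node (.leaf 25232938891) (.leaf 184683637895)) (.leaf 123480328461)) (.node (.leaf 81067527059) (.leaf 155155725836))) (.node (.node (.leaf 56908330267) (.leaf 91268087936)) (.node (.leaf 102542368656) (.leaf 171798732821))))) (.node (.node (.node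 (.node (.node (.leaf 10200551808) (.leaf 181462411545)) (.leaf 74088214150)) (.node (.leaf 74088203531) (.leaf 150323891077))) (.node (.node (.leaf 19864235023) (.leaf 134217749133)) (.node (.leaf 48855275790) (.leaf 166430022157)))) (.node (.node (.node (.leaf 15569264783) (.leaf 96636792719)) (.node (.leaf 86973108511) (.leaf 158913827840))) (.node (.node (.leaf 67108880029) (.leaf 142270825629)) (.node (.leaf 106837336986) (.leaf 175019959055))))))
def dF_26 : BT := .node (.node (.node (.node (.node (.node (.node (.leaf 11274289286) (.leaf 177704314261)) (.leaf 112206047383)) (.node (.leaf 72477580800) (.leaf 106837346181))) (.node (.node (.leaf 42412812177) (.leaf 127775307545)) (.node (.leaf 89657462283) (.leaf 129922799243)))) (.node (.node (.node (.node (.leaf 23622325789) (.leaf 184683637779)) (.leaf 122406597143)) (.node (.leaf 78920042897) (.leaf 114353541134))) (.node (.node (.leaf 21474849568) (.leaf 136902113669)) (.node (.leaf 101468626562) (.leaf 169651248665))))) (.node (.node (.node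 (.node (.node (.leaf 15569260170) (.leaf 159450704008)) (.leaf 117037886751)) (.node (.leaf 61203298445) (.leaf 149250141570))) (.node (.node (.leaf 41875940231) (.leaf 133680877964)) (.node (.leaf 93952432021) (.leaf 135291509391)))) (.node (.node (.node (.leaf 15032393377) (.leaf 89657452678)) (.node (.leaf 39191596930) (.leaf 157840085783))) (.node (.node (.leaf 61203298589) (.leaf 95026185231)) (.node (.leaf 105763583366) (.leaf 174483083271)))))) (.node (.node (.node (.node (.node (.node (.leaf 18) (.leaf 179314924162)) (.leaf 114890402588)) (.node (.leaf 40802205710) (.leaf 104152992009))) (.node (.node (.leaf 19864234654) (.leaf 130459662743)) (.node (.leaf 86436238722) (.leaf 139049605252)))) (.node (.node (.node (.node (.leaf 28991036035) (.leaf 186294250758)) (.leaf 125090952342)) (.node (.leaf 82141269150) (.leaf 155692597025))) (.node (.node (.leaf 58518943362) (.leaf 138512728337)) (.node (.leaf 56371470369) (.leaf 172335603204))))) (.node (.node (.node (.node (.node (.leaf 19864228505)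 (.leaf 183073024256)) (.leaf 119722241945)) (.node (.leaf 75698810380) (.leaf 151934504347))) (.node (.node (.leaf 48855257864) (.leaf 128312180100)) (.node (.leaf 96636776201) (.leaf 167503764503)))) (.node (.node (.node (.leaf 38117843867) (.leaf 34896617603)) (.node (.leaf 88046849161) (.leaf 159450698909))) (.node (.node (.leaf 69256357388) (.leaf 143881438742)) (.node (.leaf 108447950080) (.leaf 176093701120))))))
def dF_27 : BT := .node dF_25 dF_26
def dF_28 : BT := .node dF_24 dF_27
def dF_29 : BT := .node dF_21 dF_28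
def dF_30 : BT := .node dF_14 dF_29
def dF_31 : BT := .node (.node (.node (.node (.node (.node (.node (.leaf 4) (.leaf 176093701135)) (.leaf 108447950107)) (.node (.leaf 70330096388) (.leaf 143881438725))) (.node (.node (.leaf 38654714899) (.leaf 93952428294)) (.node (.leaf 88046850590) (.leaf 127238444294)))) (.node (.node (.node (.node (.leaf 20401099530) (.leaf 183073024659)) (.leaf 119722241923)) (.node (.leaf 76772558730) (.leaf 152471369486))) (.node (.node (.leaf 48855264661) (.leaf 135291500548)) (.node (.leaf 96636787227) (.leaf 163208797192))))) (.node (.node (.node (.node (.node (.leaf 11274291840) (.leaf 179314927381)) (.leaf 111132306185)) (.node (.leaf 26306681122) (.leaf 147639536004))) (.node (.node (.leaf 19327363362) (.leaf 84288764418)) (.node (.leaf 92341818901) (.leaf 164282537226)))) (.node (.node (.node (.node (.leaf 28991036178) (.leaf 186294250904)) (.leaf 125090952348)) (.node (.leaf 82678131840) (.leaf 156229472138))) (.node (.node (.leaf 58518943379) (.leaf 138512728349))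 (.node (.leaf 103616110741) (.leaf 148713283720)))))) (.node (.node (.node (.node (.node (.node (.leaf 12348031114) (.leaf 177704310817)) (.leaf 84288759949)) (.node (.leaf 73014460674) (.leaf 100931766304))) (.node (.node (.leaf 42412812189) (.leaf 128312167430)) (.node (.leaf 90194334607) (.leaf 162135053837)))) (.node (.node (.node (.node (.leaf 24159196819) (.leaf 184683637791)) (.leaf 122943463439)) (.node (.leaf 78920042909) (.leaf 154618859012))) (.node (.node (.leaf 23622333576) (.leaf 136902114957)) (.node (.leaf 101468626315) (.leaf 170188113156))))) (.node (.node (.node (.node (.node (.leaf 15569260183) (.leaf 180925540484)) (.leaf 73551342990)) (.node (.leaf 57982066465) (.leaf 149250149141))) (.node (.node (.leaf 46170909442) (.leaf 127238438021)) (.node (.leaf 46707791878) (.leaf 165893151380)))) (.node (.node (.node (.leaf 33286004480) (.leaf 84825624077)) (.node (.leaf 85362495385) (.leaf 157840082464))) (.node (.node (.leaf 62277040650) (.leaf 141733943691)) (.node (.leaf 105763594903)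 (.leaf 174483088020))))))
def dF_32 : BT := .node (.node (.node (.node (.node (.node (.node (.leaf 1952) (.leaf 177167443225)) (.leaf 111132305304)) (.node (.leaf 70866977311) (.leaf 144955180823))) (.node (.node (.leaf 40802199063) (.leaf 91268075396)) (.node (.leaf 89120591238) (.leaf 128849057294)))) (.node (.node (.node (.node (.leaf 22011712648) (.leaf 181999282952)) (.leaf 121869715844)) (.node (.leaf 75161945603) (.leaf 153545117461))) (.node (.node (.leaf 50465872003) (.leaf 115427278497)) (.node (.leaf 100394884501) (.leaf 168577506591))))) (.node (.node (.node (.node (.node (.leaf 13958645647) (.leaf 163745671049)) (.leaf 115964143755)) (.node (.leaf 54223970691) (.leaf 148176407071))) (.node (.node (.leaf 34359746590) (.leaf 133144017943)) (.node (.leaf 31138517891) (.leaf 140660218240)))) (.node (.node (.node (.node (.leaf 30064778267) (.leaf 187367991296)) (.leaf 126701565463)) (.node (.leaf 83751882269) (.leaf 156766340129))) (.node (.node (.leaf 60129556509) (.leaf 140660212503)) (.node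 (.leaf 104689852806) (.leaf 173409345934)))))) (.node (.node (.node (.node (.node (.node (.leaf 1073742084) (.leaf 178778050818)) (.leaf 110595435144)) (.node (.leaf 55297707554) (.leaf 146565783437))) (.node (.node (.leaf 39728457867) (.leaf 129385920671)) (.node (.leaf 90731205785) (.leaf 163208796187)))) (.node (.node (.node (.node (.leaf 26306678023) (.leaf 185757379466)) (.leaf 78383182605)) (.node (.leaf 81067527071) (.leaf 155155730583))) (.node (.node (.leaf 57445201299) (.leaf 137975855754)) (.node (.leaf 102542368664) (.leaf 171798732831))))) (.node (.node (.node (.node (.node (.leaf 18790486427) (.leaf 181999277450)) (.leaf 108984823426)) (.node (.leaf 74625068429) (.leaf 150323891220))) (.node (.node (.leaf 47244651542) (.leaf 134217760025)) (.node (.leaf 95563034121) (.leaf 166430022425)))) (.node (.node (.node (.leaf 34896617624) (.leaf 96099921824)) (.node (.leaf 86973107081) (.leaf 158913827863))) (.node (.node (.leaf 67645744140) (.leaf 142807696642)) (.node (.leaf 106837336967) (.leaf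 175019959071))))))
def dF_33 : BT := .node dF_31 dF_32
def dF_34 : BT := .node (.node (.node (.node (.node (.node (.node (.leaf 3758097284) (.leaf 176630568589)) (.leaf 110595434261)) (.node (.leaf 67108880776) (.leaf 144418309791))) (.node (.node (.leaf 39728456847) (.leaf 113279790343)) (.node (.leaf 88583720200) (.leaf 137438986254)))) (.node (.node (.node (.node (.leaf 20937970585) (.leaf 183609895298)) (.leaf 121332855048)) (.node (.leaf 33286015116) (.leaf 153008238336))) (.node (.node (.leaf 49392135709) (.leaf 135828373137)) (.node (.leaf 54223985928) (.leaf 168040635549))))) (.node (.node (.node (.node (.node (.leaf 11274291860) (.leaf 179851798402)) (.leaf 115427273627)) (.node (.leaf 58518943522) (.leaf 147639536029))) (.node (.node (.leaf 31) (.leaf 131533404824)) (.node (.leaf 92878689936) (.leaf 134754638216)))) (.node (.node (.node (.node (.leaf 29527907221) (.leaf 186831120781)) (.leaf 126164694417)) (.node (.leaf 83215011219) (.leaf 156766340238))) (.node (.node (.leaf 59592685461)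 (.leaf 139049599389)) (.node (.leaf 104152981778) (.leaf 148176413057)))))) (.node (.node (.node (.node (.node (.node (.leaf 1073742097) (.leaf 178241185303)) (.leaf 113279789469)) (.node (.leaf 73551332511) (.leaf 146028922907))) (.node (.node (.leaf 42949683227) (.leaf 128849049623)) (.node (.leaf 90194333319) (.leaf 162671925141)))) (.node (.node (.node (.node (.leaf 11274295183) (.leaf 185220508822)) (.leaf 77846311694)) (.node (.leaf 79456909345) (.leaf 152471375874))) (.node (.node (.leaf 56908330240) (.leaf 137438986257)) (.node (.leaf 102005497621) (.leaf 144955187202))))) (.node (.node (.node (.node (.node (.leaf 16643002259) (.leaf 181462406408)) (.leaf 74088213901)) (.node (.leaf 74088203540) (.leaf 149787020185))) (.node (.node (.leaf 46707774340) (.leaf 134217749123)) (.node (.leaf 95026174086) (.leaf 166430021379)))) (.node (.node (.node (.leaf 33822875539) (.leaf 30064783119)) (.node (.leaf 86973107078) (.leaf 158376956830))) (.node (.node (.leaf 26306690592) (.leaf 142270814731)) (.node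 (.leaf 106300465949) (.leaf 175019959042))))))
def dF_35 : BT := .node (.node (.node (.node (.node (.node (.node (.leaf 536873346) (.leaf 163208799363)) (.leaf 111669176345)) (.node (.leaf 71940719384) (.leaf 145492051860))) (.node (.node (.leaf 41875941147) (.leaf 127775299328)) (.node (.leaf 42412823438) (.leaf 161598183056)))) (.node (.node (.node (.node (.leaf 23622322820) (.leaf 182536153992)) (.leaf 122406596998)) (.node (.leaf 78383171841) (.leaf 154081988497))) (.node (.node (.leaf 51539612546) (.leaf 136365244190)) (.node (.leaf 100931755545) (.leaf 169114377631))))) (.node (.node (.node (.node (.node (.leaf 15032389137) (.leaf 180388669459)) (.leaf 117037885834)) (.node (.leaf 15569262496) (.leaf 148713278111))) (.node (.node (.leaf 21474841631) (.leaf 133680888847)) (.node (.leaf 93415560987) (.leaf 165356280345)))) (.node (.node (.node (.node (.leaf 31138520346) (.leaf 187367992987)) (.leaf 83751871750)) (.node (.leaf 84825613831) (.leaf 157303211297))) (.node (.node (.leaf 61203298560)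 (.leaf 141197072651)) (.node (.leaf 105226723850) (.leaf 173946216989)))))) (.node (.node (.node (.node (.node (.node (.leaf 23) (.leaf 177167443584)) (.leaf 114890402576)) (.node (.leaf 47781522722) (.leaf 147102664982))) (.node (.node (.leaf 44560296345) (.leaf 83215022496)) (.node (.leaf 91268076831) (.leaf 163745667229)))) (.node (.node (.node (.node (.leaf 28454162828) (.leaf 184146767114)) (.leaf 79993792034)) (.node (.leaf 38117854351) (.leaf 155692601621))) (.node (.node (.leaf 57982072342) (.leaf 131533406342)) (.node (.leaf 103079229065) (.leaf 172335603338))))) (.node (.node (.node (.node (.node (.leaf 18790486531) (.leaf 182536153621)) (.leaf 119185370911)) (.node (.leaf 75161945623) (.leaf 151934493446))) (.node (.node (.leaf 47781522579) (.leaf 134754631067)) (.node (.leaf 96099916190) (.leaf 166966893454)))) (.node (.node (.node (.leaf 37044096927) (.leaf 74088211074)) (.node (.leaf 87509979547) (.leaf 159450698882))) (.node (.node (.leaf 68719493140) (.leaf 143344567703)) (.node (.leaf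 107374208025) (.leaf 175556830103))))))
def dF_36 : BT := .node dF_34 dF_35
def dF_37 : BT := .node dF_33 dF_36
def dF_38 : BT := .node (.node (.node (.node (.node (.node (.node (.leaf 1610612763) (.leaf 176630572177)) (.leaf 109521692170)) (.node (.leaf 70330106265) (.leaf 144418309768))) (.node (.node (.leaf 39191581569) (.leaf 71940718598)) (.node (.leaf 82141270535) (.leaf 159987569945)))) (.node (.node (.node (.node (.leaf 11274294018) (.leaf 168577510016)) (.leaf 120795984010)) (.node (.leaf 77309429779) (.leaf 152471375387))) (.node (.node (.leaf 49392135697) (.leaf 135291502109)) (.node (.leaf 49392147360) (.leaf 168040635532))))) (.node (.node (.node (.node (.node (.leaf 1073742100) (.leaf 157303219968)) (.leaf 115427267341)) (.node (.leaf 39728454305) (.leaf 147639525389))) (.node (.node (.leaf 1826) (.leaf 130996533789)) (.node (.leaf 92341818911) (.leaf 164282538267)))) (.node (.node (.node (.node (.leaf 28454165259) (.leaf 173946219913)) (.leaf 125627819168)) (.node (.leaf 82678140185)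 (.leaf 156229472667))) (.node (.node (.leaf 59055806725) (.leaf 139049588749)) (.node (.leaf 57982083213) (.leaf 172872474903)))))) (.node (.node (.node (.node (.node (.node (.leaf 12884902031) (.leaf 178241184896)) (.leaf 113279782797)) (.node (.leaf 73551332484) (.leaf 146028922508))) (.node (.node (.leaf 42949683219) (.leaf 128312178591)) (.node (.leaf 90194334744) (.leaf 162135054109)))) (.node (.node (.node (.node (.leaf 24696067840) (.leaf 185220508679)) (.leaf 122943468186)) (.node (.leaf 79456913942) (.leaf 154618859545))) (.node (.node (.leaf 56371459223) (.leaf 136902115229)) (.node (.leaf 101468626589) (.leaf 170188119707))))) (.node (.node (.node (.node (.node (.leaf 16643002244) (.leaf 180925540505)) (.leaf 117574757770)) (.node (.leaf 39191592993) (.leaf 117574765314))) (.node (.node (.leaf 46170909463) (.leaf 91268076814)) (.node (.leaf 94489303067) (.leaf 161598184065)))) (.node (.node (.node (.leaf 33286004509) (.leaf 95563036803)) (.node (.leaf 86436229760) (.leaf 158376956822)))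 (.node (.node (.leaf 25232948226) (.leaf 141733954563)) (.node (.leaf 106300465939) (.leaf 174483088014))))))
def dF_39 : BT := .node (.node (.node (.node (.node (.node (.node (.leaf 2081) (.leaf 169651250432)) (.leaf 67645761544)) (.node (.leaf 71940719247) (.leaf 143881438989))) (.node (.node (.leaf 41875940224) (.leaf 127238436504)) (.node (.leaf 89120592665) (.leaf 161061312025)))) (.node (.node (.node (.node (.leaf 22548583701) (.leaf 184146766739)) (.leaf 121869726109)) (.node (.leaf 78383171860) (.leaf 153545117471))) (.node (.node (.leaf 50465877783) (.leaf 136365244178)) (.node (.leaf 100931755528) (.leaf 169114377617))))) (.node (.node (.node (.node (.node (.leaf 536874401) (.leaf 180388669448)) (.leaf 115964143750)) (.node (.leaf 34359744674) (.leaf 148713267724))) (.node (.node (.leaf 30064778245) (.leaf 133144007171)) (.node (.leaf 93415550092) (.leaf 165356279300)))) (.node (.node (.node (.node (.leaf 31138520207) (.leaf 187367991947)) (.leaf 126701561633)) (.node (.leaf 84288753304)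 (.leaf 157303214737))) (.node (.node (.leaf 60666427542) (.leaf 95026185102)) (.node (.leaf 104689852823) (.leaf 173946211212)))))) (.node (.node (.node (.node (.node (.node (.leaf 1073742104) (.leaf 178778056341)) (.leaf 114353531551)) (.node (.leaf 31138518415) (.leaf 146565788192))) (.node (.node (.leaf 44560295432) (.leaf 129922791700)) (.node (.leaf 91268075402) (.leaf 163745667210)))) (.node (.node (.node (.node (.leaf 26306680989) (.leaf 185757379863)) (.leaf 124554081280)) (.node (.leaf 81604387972) (.leaf 115427283214))) (.node (.node (.leaf 57445201309) (.leaf 137975857305)) (.node (.leaf 102542362656) (.leaf 167503764495))))) (.node (.node (.node (.node (.node (.leaf 19327357458) (.leaf 181999282589)) (.leaf 119185365132)) (.node (.leaf 74625074589) (.leaf 150323891214))) (.node (.node (.leaf 19864235168) (.leaf 134754621440)) (.node (.leaf 96099916176) (.leaf 166966893457)))) (.node (.node (.node (.leaf 35433486349) (.leaf 105226723845)) (.node (.leaf 87509968901) (.leaf 158913825057)))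 (.node (.node (.leaf 67645751071) (.leaf 142807696671)) (.node (.leaf 107374197003) (.leaf 175556830080))))))
def dF_40 : BT := .node dF_38 dF_39
def dF_41 : BT := .node (.node (.node (.node (.node (.node (.node (.leaf 1564) (.leaf 177167437570)) (.leaf 110595423885)) (.node (.leaf 70866970508) (.leaf 100931766030))) (.node (.node (.leaf 39728456988) (.leaf 108447950082)) (.node (.leaf 88583721623) (.leaf 160524440979)))) (.node (.node (.node (.node (.leaf 21474841622) (.leaf 183609895705)) (.leaf 121332855067)) (.node (.leaf 77846300819) (.leaf 153008246427))) (.node (.node (.leaf 49929006744) (.leaf 135828362121)) (.node (.leaf 56371469702) (.leaf 168577506577))))) (.node (.node (.node (.node (.node (.leaf 8053065628) (.leaf 179851798423)) (.leaf 115964143744)) (.node (.leaf 1073745825) (.leaf 148176407057))) (.node (.node (.leaf 26306680991) (.leaf 133144016384)) (.node (.leaf 92878689948) (.leaf 164819409301)))) (.node (.node (.node (.node (.leaf 30064778250) (.leaf 186831121949)) (.leaf 126164690209))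 (.node (.leaf 38654725646) (.leaf 156766334859))) (.node (.node (.leaf 60129556480) (.leaf 140660201480)) (.node (.leaf 104152981790) (.leaf 173409345940)))))) (.node (.node (.node (.node (.node (.node (.leaf 8053065616) (.leaf 178241185311)) (.leaf 70330116738)) (.node (.leaf 39728457859) (.leaf 146565793924))) (.node (.node (.leaf 43486553353) (.leaf 129385920659)) (.node (.leaf 90731194758) (.leaf 129922799622)))) (.node (.node (.node (.node (.leaf 25232938908) (.leaf 184683637891)) (.leaf 123480339210)) (.node (.leaf 81067516802) (.leaf 155155730054))) (.node (.node (.leaf 56908330263) (.leaf 130996535306)) (.node (.leaf 56371470223) (.leaf 171798732817))))) (.node (.node (.node (.node (.node (.leaf 17716742047) (.leaf 181462411535)) (.leaf 118111626630)) (.node (.leaf 31138530565) (.leaf 150323891073))) (.node (.node (.leaf 46707780509) (.leaf 134217758475)) (.node (.leaf 95026174111) (.leaf 166430015371)))) (.node (.node (.node (.leaf 34359746587) (.leaf 96636786957)) (.node (.leaf 86973108507)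 (.leaf 158913825166))) (.node (.node (.leaf 67108880025) (.leaf 142270825625)) (.node (.leaf 106837325963) (.leaf 175019959057))))))
def dF_42 : BT := .node (.node (.node (.node (.node (.node (.node (.leaf 536873492) (.leaf 177704314257)) (.leaf 112206047379)) (.node (.leaf 68719493899) (.leaf 145492051870))) (.node (.node (.leaf 42412811266) (.leaf 127775307541)) (.node (.leaf 89657463703) (.leaf 161598183070)))) (.node (.node (.node (.node (.leaf 23622325785) (.leaf 184683637777)) (.leaf 122406597139)) (.node (.leaf 78920038285) (.leaf 154081983009))) (.node (.node (.leaf 21474849414) (.leaf 136902113667)) (.node (.leaf 101468615820) (.leaf 169651248661))))) (.node (.node (.node (.node (.node (.leaf 15569256710) (.leaf 180388667041)) (.leaf 117037886747)) (.node (.leaf 60666421152) (.leaf 149250149128))) (.node (.node (.leaf 20401099525) (.leaf 133680887435)) (.node (.leaf 93952432017) (.leaf 165356279299)))) (.node (.node (.node (.leaf 32212260108) (.leaf 75698810658)) (.node (.leaf 84825624351)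 (.leaf 157840085781))) (.node (.node (.leaf 61203298585) (.leaf 119185376160)) (.node (.leaf 105226723871) (.leaf 174483087873)))))) (.node (.node (.node (.node (.node (.node (.leaf 802) (.leaf 179314926984)) (.leaf 114890402584)) (.node (.leaf 21474841869) (.leaf 147102664961))) (.node (.node (.leaf 22011718276) (.leaf 130459662739)) (.node (.leaf 91804942881) (.leaf 105763594895)))) (.node (.node (.node (.node (.leaf 15032392449) (.leaf 186294247820)) (.leaf 125090952338)) (.node (.leaf 82141269146) (.leaf 155692601629))) (.node (.node (.leaf 23622334112) (.leaf 138512717709)) (.node (.leaf 103079239709) (.leaf 172335603867))))) (.node (.node (.node (.node (.node (.leaf 19864228501) (.leaf 183073020168)) (.leaf 119722231305)) (.node (.leaf 30064789135) (.leaf 151934504343))) (.node (.node (.leaf 48318387589) (.leaf 105226723855)) (.node (.leaf 96636787206) (.leaf 167503764499)))) (.node (.node (.node (.leaf 38117843863) (.leaf 94489305632)) (.node (.leaf 88046839941) (.leaf 159450698905))) (.node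 (.node (.leaf 28454174880) (.leaf 143881438738)) (.node (.leaf 60129568006) (.leaf 176093695368))))))
def dF_43 : BT := .node dF_41 dF_42
def dF_44 : BT := .node dF_40 dF_43
def dF_45 : BT := .node dF_37 dF_44
def dF_46 : BT := .node (.node (.node (.node (.node (.node (.node (.leaf 12) (.leaf 176093701149)) (.leaf 108984809988)) (.node (.leaf 70330106257) (.leaf 144418309762))) (.node (.node (.leaf 38654714907) (.leaf 71940729378)) (.node (.leaf 82141270539) (.leaf 159987569937)))) (.node (.node (.node (.node (.leaf 20401099543) (.leaf 183073024665)) (.leaf 120259107085)) (.node (.leaf 77309429760) (.leaf 152471375381))) (.node (.node (.leaf 48855264669) (.leaf 135291502101)) (.node (.leaf 49392147074) (.leaf 168040635526))))) (.node (.node (.node (.node (.node (.leaf 10200549784) (.leaf 179314927389)) (.leaf 115427272710)) (.node (.leaf 50465870624) (.leaf 147639525769))) (.node (.node (.leaf 18790486431) (.leaf 130996533781)) (.node (.leaf 92341818905) (.leaf 164282538259)))) (.node (.node (.node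 (.node (.leaf 28991036186) (.leaf 186294249760)) (.leaf 125090952321)) (.node (.leaf 82678140177) (.leaf 156229472659))) (.node (.node (.leaf 58518943387) (.leaf 92878700934)) (.node (.leaf 103616099853) (.leaf 172872474897)))))) (.node (.node (.node (.node (.node (.node (.leaf 536873880) (.leaf 177704314255)) (.leaf 112742911501)) (.node (.leaf 73551332482) (.leaf 146028913669))) (.node (.node (.leaf 19327363086) (.leaf 128312178583)) (.node (.leaf 90194333317) (.leaf 162135054101)))) (.node (.node (.node (.node (.leaf 24159196827) (.leaf 171798736001)) (.leaf 122943468180)) (.node (.leaf 79456913936) (.leaf 154618859017))) (.node (.node (.leaf 56371451524) (.leaf 136902115221)) (.node (.leaf 101468626581) (.leaf 170188119699))))) (.node (.node (.node (.node (.node (.leaf 1073745694) (.leaf 180925540499)) (.leaf 117574757764)) (.node (.leaf 47781518223) (.leaf 149250149149))) (.node (.node (.leaf 46170909444) (.leaf 132070264738)) (.node (.leaf 94489303059) (.leaf 165893151384)))) (.node (.node (.node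 (.leaf 33286004501) (.leaf 25232944643)) (.node (.leaf 39191597062) (.leaf 158376956816))) (.node (.node (.leaf 24696077088) (.leaf 141733954590)) (.node (.leaf 105763594911) (.leaf 174483088028))))))
def dF_47 : BT := .node (.node (.node (.node (.node (.node (.node (.leaf 8053065606) (.leaf 177167439777)) (.leaf 111132298272)) (.node (.leaf 67645751812) (.leaf 144955180557))) (.node (.node (.leaf 18790491809) (.leaf 127238436496)) (.node (.leaf 89120592657) (.leaf 161061312021)))) (.node (.node (.node (.node (.leaf 22548583688) (.leaf 184146766342)) (.leaf 121869726101)) (.node (.leaf 78383167119) (.leaf 153545117465))) (.node (.node (.leaf 50465877770) (.leaf 89120603919)) (.node (.leaf 100394884509) (.leaf 169114377608))))) (.node (.node (.node (.node (.node (.leaf 13958647063) (.leaf 157303220106)) (.leaf 90194340877)) (.node (.leaf 54223968130) (.leaf 104152992386))) (.node (.node (.leaf 20401099551) (.leaf 133144007181)) (.node (.leaf 93415560964) (.leaf 165356280337)))) (.node (.node (.node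 (.node (.leaf 30601647117) (.leaf 187367992835)) (.leaf 126701565469)) (.node (.leaf 84288753296) (.leaf 157303214728))) (.node (.node (.leaf 60666427536) (.leaf 140660212511)) (.node (.leaf 104689846414) (.leaf 149787025801)))))) (.node (.node (.node (.node (.node (.node (.leaf 536871051) (.leaf 178778053517)) (.leaf 114353531543)) (.node (.leaf 41339076622) (.leaf 102542379149))) (.node (.node (.leaf 44560291072) (.leaf 129922791567)) (.node (.leaf 42412823713) (.leaf 163745660928)))) (.node (.node (.node (.node (.leaf 26306680981) (.leaf 185757379857)) (.leaf 124017205792)) (.node (.leaf 38117854222) (.leaf 155155730591))) (.node (.node (.leaf 57445201303) (.leaf 137975857295)) (.node (.leaf 102542368641) (.leaf 170188119695))))) (.node (.node (.node (.node (.node (.leaf 19327357315) (.leaf 181999282583)) (.leaf 119185361282)) (.node (.leaf 74625074581) (.leaf 150323891228))) (.node (.node (.leaf 47244651550) (.leaf 86973119777)) (.node (.leaf 95563045149) (.leaf 135291509537)))) (.node (.node (.node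 (.leaf 34896617628) (.leaf 108984808866)) (.node (.leaf 87509978112) (.leaf 158913819277))) (.node (.node (.leaf 67645751063) (.leaf 142807696663)) (.node (.leaf 107374208000) (.leaf 149250155396))))))
def dF_48 : BT := .node dF_46 dF_47
def dF_49 : BT := .node (.node (.node (.node (.node (.node (.node (.leaf 4831839370) (.leaf 176630568609)) (.leaf 110595434269)) (.node (.leaf 70866976512) (.leaf 143344557959))) (.node (.node (.leaf 39728456980) (.leaf 122943468167)) (.node (.leaf 88583717263) (.leaf 128312186248)))) (.node (.node (.node (.node (.leaf 21474841487) (.leaf 183609895699)) (.leaf 121332855059)) (.node (.leaf 77846300806) (.leaf 153008246419))) (.node (.node (.leaf 49929006736) (.leaf 135828371588)) (.node (.leaf 99858012684) (.leaf 168577506566))))) (.node (.node (.node (.node (.node (.leaf 1073742109) (.leaf 179851795716)) (.leaf 115427272711)) (.node (.leaf 66571995810) (.leaf 148176396034))) (.node (.node (.leaf 16643002271) (.leaf 85362506510)) (.node (.leaf 92878689944) (.leaf 164819408258))))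 (.node (.node (.node (.node (.leaf 29527907229) (.leaf 186831121941)) (.leaf 126164694425)) (.node (.leaf 83215011227) (.leaf 156766343701))) (.node (.node (.leaf 59592685469) (.leaf 93952442894)) (.node (.leaf 104152970636) (.leaf 173409345799)))))) (.node (.node (.node (.node (.node (.node (.leaf 26) (.leaf 178241182349)) (.leaf 68719503878)) (.node (.leaf 53687095330) (.leaf 101468637326))) (.node (.node (.leaf 43486554256) (.leaf 128849049631)) (.node (.leaf 90731204354) (.leaf 162671925149)))) (.node (.node (.node (.node (.leaf 25232938900) (.leaf 185220508830)) (.leaf 123480339219)) (.node (.leaf 79993780768) (.leaf 155155730056))) (.node (.node (.leaf 56908330244) (.leaf 137438986265)) (.node (.leaf 102005497625) (.leaf 171798732808))))) (.node (.node (.node (.node (.node (.leaf 16643002267) (.leaf 181462406540)) (.leaf 118111628808)) (.node (.leaf 74088203548) (.leaf 149787015073))) (.node (.node (.leaf 46707780503) (.leaf 134217758471)) (.node (.leaf 95026174103) (.leaf 166430021383)))) (.node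 (.node (.node (.leaf 33822875547) (.leaf 90731205517)) (.node (.leaf 86973108499) (.leaf 158376956809))) (.node (.node (.leaf 67108880017) (.leaf 142270825617)) (.node (.leaf 106837336976) (.leaf 175019959050))))))
def dF_50 : BT := .node (.node (.node (.node (.node (.node (.node (.leaf 10737419151) (.leaf 177704310402)) (.leaf 74625083392)) (.node (.leaf 71940719388) (.leaf 145492051340))) (.node (.node (.leaf 38117844744) (.leaf 127775296781)) (.node (.leaf 89657463699) (.leaf 161598175499)))) (.node (.node (.node (.node (.leaf 23622325777) (.leaf 171798735872)) (.leaf 122406596874)) (.node (.leaf 78920032138) (.leaf 154081988505))) (.node (.node (.leaf 20937978273) (.leaf 89120604064)) (.node (.leaf 59592695300) (.leaf 169651248642))))) (.node (.node (.node (.node (.node (.leaf 15032389145) (.leaf 180388669465)) (.leaf 117037886739)) (.node (.leaf 34896615201) (.leaf 117574765190))) (.node (.node (.leaf 39191585951) (.leaf 133680887429)) (.node (.leaf 46707791746) (.leaf 161061313027)))) (.node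 (.node (.node (.node (.leaf 15032393118) (.leaf 187367992224)) (.leaf 83751878433)) (.node (.leaf 84825624343) (.leaf 157840085777))) (.node (.node (.leaf 61203298577) (.leaf 141197083551)) (.node (.leaf 105226723863) (.leaf 154081993221)))))) (.node (.node (.node (.node (.node (.node (.leaf 9663678729) (.leaf 178778056335)) (.leaf 114890402580)) (.node (.leaf 39728464034) (.leaf 147102654221))) (.node (.node (.leaf 45097162112) (.leaf 130459662476)) (.node (.leaf 91804936326) (.leaf 105763605794)))) (.node (.node (.node (.node (.leaf 28454165143) (.leaf 186294248709)) (.leaf 24696070279)) (.node (.leaf 82141259013) (.leaf 155692601625))) (.node (.node (.leaf 57982072350) (.leaf 138512717442)) (.node (.leaf 103079239701) (.leaf 172335603859))))) (.node (.node (.node (.node (.node (.leaf 19864228488) (.leaf 182536153629)) (.leaf 119722241939)) (.node (.leaf 75161945627) (.leaf 151934493962))) (.node (.node (.leaf 47781522587) (.leaf 128312180098)) (.node (.leaf 48855276064) (.leaf 167503757062)))) (.node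 (.node (.node (.leaf 38117839488) (.leaf 74088210951)) (.node (.leaf 88046850447) (.leaf 159450698897))) (.node (.node (.leaf 68719486093) (.leaf 143344567711)) (.node (.leaf 59592696865) (.leaf 175556830111))))))
def dF_51 : BT := .node dF_49 dF_50
def dF_52 : BT := .node dF_48 dF_51
def dF_53 : BT := .node (.node (.node (.node (.node (.node (.node (.leaf 2684355200) (.leaf 176630572183)) (.leaf 67108890370)) (.node (.leaf 67108880778) (.leaf 144418309783))) (.node (.node (.leaf 39191585945) (.leaf 42949682310)) (.node (.leaf 88583711108) (.leaf 159987569951)))) (.node (.node (.node (.node (.leaf 20937970581) (.leaf 164819413770)) (.leaf 105763598466)) (.node (.leaf 77309429787) (.leaf 127238442529))) (.node (.node (.leaf 49392135703) (.leaf 128849051138)) (.node (.leaf 98784259854) (.leaf 168040635541))))) (.node (.node (.node (.node (.node (.leaf 536871061) (.leaf 179314927375)) (.leaf 115427273619)) (.node (.leaf 16643003394) (.leaf 147639536021))) (.node (.node (.leaf 15569264930) (.leaf 131533404816))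 (.node (.leaf 92341814432) (.leaf 159987570944)))) (.node (.node (.node (.node (.leaf 29527907208) (.leaf 186831120650)) (.leaf 126164690184)) (.node (.leaf 38117854497) (.leaf 156229468192))) (.node (.node (.leaf 59592685440) (.leaf 139049599381)) (.node (.leaf 103616104609) (.leaf 172872474911)))))) (.node (.node (.node (.node (.node (.node (.leaf 1073741964) (.leaf 178241184901)) (.leaf 113279789461)) (.node (.leaf 73551332503) (.leaf 146028922899))) (.node (.node (.leaf 42949683223) (.leaf 128849041536)) (.node (.leaf 84288754689) (.leaf 162671917314)))) (.node (.node (.node (.node (.leaf 24696067850) (.leaf 185220508557)) (.leaf 122943463201)) (.node (.leaf 79456913946) (.leaf 154618859551))) (.node (.node (.leaf 56371459231) (.leaf 137438974978)) (.node (.leaf 102005497600) (.leaf 170188113411))))) (.node (.node (.node (.node (.node (.leaf 16643001613) (.leaf 180925539361)) (.leaf 117574757789)) (.node (.leaf 74088197263) (.leaf 149787020175))) (.node (.node (.leaf 46170909471) (.leaf 86973119776))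 (.node (.leaf 95026163082) (.leaf 135291509536)))) (.node (.node (.node (.leaf 33822875520) (.leaf 95563040161)) (.node (.leaf 41875951874) (.leaf 158376956685))) (.node (.node (.leaf 25232948512) (.leaf 142270825604)) (.node (.leaf 106300454922) (.leaf 154618864263))))))
def dF_54 : BT := .node (.node (.node (.node (.node (.node (.node (.leaf 536873217) (.leaf 163208799362)) (.leaf 111669176337)) (.node (.leaf 71940719380) (.leaf 145492051727))) (.node (.node (.leaf 41875941139) (.leaf 127238436508)) (.node (.leaf 83215012612) (.leaf 153008248353)))) (.node (.node (.node (.node (.leaf 22548583709) (.leaf 184146766745)) (.leaf 77309440524)) (.node (.leaf 78383171868) (.leaf 112206057346))) (.node (.node (.leaf 50465877791) (.leaf 136365244182)) (.node (.leaf 100931755537) (.leaf 169114377615))))) (.node (.node (.node (.node (.node (.leaf 15032389128) (.leaf 180388664067)) (.leaf 116501009293)) (.node (.leaf 26306680716) (.leaf 148713278103))) (.node (.node (.leaf 28454165150) (.leaf 133144016390))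 (.node (.leaf 93415560979) (.leaf 165356279305)))) (.node (.node (.node (.node (.leaf 31138520342) (.leaf 187367992975)) (.leaf 49392136866)) (.node (.leaf 49929014913) (.leaf 157303214745))) (.node (.node (.leaf 60666427550) (.leaf 141197083541)) (.node (.leaf 104689852831) (.leaf 173946216981)))))) (.node (.node (.node (.node (.node (.node (.leaf 536873762) (.leaf 178778056349)) (.leaf 110595435142)) (.node (.leaf 31138517921) (.leaf 147102664976))) (.node (.node (.leaf 44560296337) (.leaf 129922791706)) (.node (.leaf 91268076823) (.leaf 163745667221)))) (.node (.node (.node (.node (.leaf 27380419871) (.leaf 185757379871)) (.leaf 124554076804)) (.node (.leaf 81604398105) (.leaf 155692601089))) (.node (.node (.leaf 57982072336) (.leaf 137975855777)) (.node (.leaf 103079239682) (.leaf 147102670978))))) (.node (.node (.node (.node (.node (.leaf 19327357466) (.leaf 182536148996)) (.leaf 119185370903)) (.node (.leaf 75161945617) (.leaf 105763605646))) (.node (.node (.leaf 47781522566) (.leaf 134754631059))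 (.node (.leaf 96099916182) (.leaf 166966893465)))) (.node (.node (.node (.leaf 35970357388) (.leaf 34896628386)) (.node (.leaf 87509979543) (.leaf 125090960518))) (.node (.node (.leaf 68719493007) (.leaf 143344567699)) (.node (.leaf 107374208017) (.leaf 175556830097))))))
def dF_55 : BT := .node dF_53 dF_54
def dF_56 : BT := .node (.node (.node (.node (.node (.node (.node (.leaf 1822) (.leaf 177167443217)) (.leaf 111132305298)) (.node (.leaf 70866977303) (.leaf 144955171588))) (.node (.node (.leaf 40802194689) (.leaf 85362496772)) (.node (.leaf 88583721631) (.leaf 160524440985)))) (.node (.node (.node (.node (.leaf 21474841609) (.leaf 181999282950)) (.leaf 121869715466)) (.node (.leaf 77846300827) (.leaf 153545111950))) (.node (.node (.leaf 49929006725) (.leaf 135828373149)) (.node (.leaf 100394884480) (.leaf 168577506583))))) (.node (.node (.node (.node (.node (.leaf 13958647040) (.leaf 179851798431)) (.leaf 115964143749)) (.node (.leaf 65498257312) (.leaf 148176407065))) (.node (.node (.leaf 30064778270)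 (.leaf 133144016389)) (.node (.leaf 92878689931) (.leaf 164819409307)))) (.node (.node (.node (.node (.leaf 30064778259) (.leaf 179314929284)) (.leaf 126701565457)) (.node (.leaf 83751882261) (.leaf 141733958157))) (.node (.node (.leaf 60129548041) (.leaf 140660212497)) (.node (.leaf 56908341664) (.leaf 173409345948)))))) (.node (.node (.node (.node (.node (.node (.leaf 10200549777) (.leaf 167503767043)) (.leaf 114353530630)) (.node (.leaf 43486550816) (.leaf 146565793943))) (.node (.node (.leaf 43486554266) (.leaf 129385920663)) (.node (.leaf 90731205777) (.leaf 163208796179)))) (.node (.node (.node (.node (.leaf 25769806983) (.leaf 172872477835)) (.leaf 123480339229)) (.node (.leaf 81067527063) (.leaf 153008246918))) (.node (.node (.leaf 56908330271) (.leaf 137975855746)) (.node (.leaf 102542358661) (.leaf 171798732825))))) (.node (.node (.node (.node (.node (.leaf 18790486419) (.leaf 181462411549)) (.leaf 118648496644)) (.node (.leaf 74625063944) (.leaf 150323891083))) (.node (.node (.leaf 47244651536)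 (.leaf 134217760017)) (.node (.leaf 95563045139) (.leaf 166430022417)))) (.node (.node (.node (.leaf 34896617616) (.leaf 75161939616)) (.node (.leaf 46170919168) (.leaf 158913827844))) (.node (.node (.leaf 28454174470) (.leaf 95026185377)) (.node (.leaf 106837336990) (.leaf 175019959063))))))
def dF_57 : BT := .node (.node (.node (.node (.node (.node (.node (.leaf 11811160200) (.leaf 177704314265)) (.leaf 112206040717)) (.node (.leaf 72477583757) (.leaf 102542378891))) (.node (.node (.leaf 42412812181) (.leaf 127775307549)) (.node (.leaf 89657463707) (.leaf 162135049344)))) (.node (.node (.node (.node (.leaf 24159193736) (.leaf 184683637783)) (.leaf 122406597147)) (.node (.leaf 78920042901) (.leaf 154618859537))) (.node (.node (.leaf 54760845583) (.leaf 136902113671)) (.node (.leaf 101468626439) (.leaf 169651248669))))) (.node (.node (.node (.node (.node (.leaf 15569259148) (.leaf 180925540486)) (.leaf 117037880608)) (.node (.leaf 33822882062) (.leaf 149250138765))) (.node (.node (.leaf 38654715781)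 (.leaf 133680888986)) (.node (.leaf 93952432025) (.leaf 165893151376)))) (.node (.node (.node (.leaf 32749131148) (.leaf 116501009570)) (.node (.leaf 85362495377) (.leaf 157840085787))) (.node (.node (.leaf 24159205793) (.leaf 141733954576)) (.node (.leaf 105763594890) (.leaf 174483082252)))))) (.node (.node (.node (.node (.node (.node (.leaf 8053065619) (.leaf 179314924557)) (.leaf 114890396064)) (.node (.leaf 40802193824) (.leaf 147102664967))) (.node (.node (.leaf 10200552610) (.leaf 130459662747)) (.node (.leaf 46170920462) (.leaf 164282530950)))) (.node (.node (.node (.node (.leaf 28991036043) (.leaf 186294250896)) (.leaf 125090952344)) (.node (.leaf 39728467077) (.leaf 115964154242))) (.node (.node (.leaf 58518935685) (.leaf 138512728341)) (.node (.leaf 103616110737) (.leaf 172335602977))))) (.node (.node (.node (.node (.node (.leaf 19864228509) (.leaf 183073020804)) (.leaf 119722241947)) (.node (.leaf 31138531074) (.leaf 151934504351))) (.node (.node (.leaf 48855258754) (.leaf 135291491082))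 (.node (.leaf 96636787219) (.leaf 167503764507)))) (.node (.node (.node (.leaf 18790491142) (.leaf 60129556483)) (.node (.leaf 88046849163) (.leaf 159450697121))) (.node (.node (.leaf 28454175009) (.leaf 143881438746)) (.node (.leaf 108447950099) (.leaf 176093701124))))))
def dF_58 : BT := .node dF_56 dF_57
def dF_59 : BT := .node dF_55 dF_58
def dF_60 : BT := .node dF_52 dF_59
def dF_61 : BT := .node dF_45 dF_60
def dF_62 : BT := .node dF_30 dF_61
def dF_63 : BT := .node (.node (.node (.node (.node (.node (.node (.leaf 2) (.leaf 176093701141)) (.leaf 108447950105)) (.node (.leaf 28991046020) (.leaf 143881438721))) (.node (.node (.leaf 38654714897) (.leaf 93952434821)) (.node (.leaf 88046850588) (.leaf 159450698895)))) (.node (.node (.node (.node (.leaf 20401097346) (.leaf 183073024657)) (.leaf 119722241951)) (.node (.leaf 76772547846) (.leaf 110595444238))) (.node (.node (.leaf 48855264659) (.leaf 135291500546)) (.node (.leaf 96636787225) (.leaf 142807702528))))) (.node (.node (.node (.node (.node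 (.leaf 11274291859) (.leaf 179314927379)) (.leaf 71940729605)) (.node (.leaf 44560290336) (.leaf 147639536002))) (.node (.node (.leaf 18790491554) (.leaf 83215022497)) (.node (.leaf 92341818884) (.leaf 164282537218)))) (.node (.node (.node (.node (.leaf 28991036176) (.leaf 186294250902)) (.leaf 125090952346)) (.node (.leaf 38117854496) (.leaf 156229472134))) (.node (.node (.leaf 58518943377) (.leaf 138512728347)) (.node (.leaf 103616110724) (.leaf 172335603855)))))) (.node (.node (.node (.node (.node (.node (.leaf 536873866) (.leaf 177704314271)) (.leaf 112206047391)) (.node (.leaf 73014460675) (.leaf 145492046241))) (.node (.node (.leaf 42412812187) (.leaf 81604409222)) (.node (.leaf 42412823567) (.leaf 162135053836)))) (.node (.node (.node (.node (.leaf 24159196817) (.leaf 184683637789)) (.leaf 77309440655)) (.node (.leaf 78920042907) (.leaf 154618859539))) (.node (.node (.leaf 22548591648) (.leaf 136902114956)) (.node (.leaf 101468626314) (.leaf 142807703172))))) (.node (.node (.node (.node (.node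 (.leaf 15569260181) (.leaf 180925540482)) (.leaf 113279790346)) (.node (.leaf 33286010510) (.leaf 149250149139))) (.node (.node (.leaf 46170903180) (.leaf 127238438017)) (.node (.leaf 93952432031) (.leaf 165893150341)))) (.node (.node (.node (.leaf 33286004486) (.leaf 84825624076)) (.node (.leaf 85362495383) (.leaf 157840082465))) (.node (.node (.leaf 62277031682) (.leaf 141733954582)) (.node (.leaf 105763594901) (.leaf 174483088018))))))
def dF_64 : BT := .node (.node (.node (.node (.node (.node (.node (.leaf 7516194566) (.leaf 177167443223)) (.leaf 111132305302)) (.node (.leaf 70866977309) (.leaf 144955180808))) (.node (.node (.leaf 40802199061) (.leaf 117037885828)) (.node (.leaf 89120581512) (.leaf 160524440991)))) (.node (.node (.node (.node (.leaf 22011710594) (.leaf 181999282944)) (.leaf 121869726082)) (.node (.leaf 49929006722) (.leaf 153545117459))) (.node (.node (.leaf 50465872002) (.leaf 129385922179)) (.node (.leaf 100394884499) (.leaf 168577506589))))) (.node (.node (.node (.node (.node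 (.leaf 13958647050) (.leaf 179851795717)) (.leaf 115964143754)) (.node (.leaf 47244651523) (.leaf 148176407055))) (.node (.node (.leaf 34896617630) (.leaf 133144016393)) (.node (.leaf 31138517890) (.leaf 160524441988)))) (.node (.node (.node (.node (.leaf 30064778265) (.leaf 187367992838)) (.leaf 126701565461)) (.node (.leaf 83751882267) (.leaf 141733958177))) (.node (.node (.leaf 60129556507) (.leaf 140660212495)) (.node (.leaf 104689852804) (.leaf 173409342881)))))) (.node (.node (.node (.node (.node (.node (.leaf 10200549786) (.leaf 155692607106)) (.leaf 114353530629)) (.node (.leaf 53150227746) (.leaf 146565793945))) (.node (.node (.leaf 39728457865) (.leaf 129385920669)) (.node (.leaf 90731205783) (.leaf 163208796185)))) (.node (.node (.node (.node (.leaf 26306678022) (.leaf 185757377160)) (.leaf 123480334624)) (.node (.leaf 81067527069) (.leaf 155155730581))) (.node (.node (.leaf 57445201280) (.leaf 137975855752)) (.node (.leaf 102542368662) (.leaf 171798732815))))) (.node (.node (.node (.node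 (.node (.leaf 18790486425) (.leaf 160524446090)) (.leaf 105226727044)) (.node (.leaf 74625074564) (.leaf 150323891218))) (.node (.node (.leaf 47244651540) (.leaf 134217760023)) (.node (.leaf 95563034120) (.leaf 166430022423)))) (.node (.node (.node (.leaf 34896617622) (.leaf 90194340896)) (.node (.leaf 86973107079) (.leaf 158913819401))) (.node (.node (.leaf 67645744141) (.leaf 142807696648)) (.node (.leaf 60666438539) (.leaf 175019959069))))))
def dF_65 : BT := .node dF_63 dF_64
def dF_66 : BT := .node (.node (.node (.node (.node (.node (.node (.leaf 916) (.leaf 176630572185)) (.leaf 110595434259)) (.node (.leaf 67108880774) (.leaf 144418309789))) (.node (.node (.leaf 18790491407) (.leaf 91268075399)) (.node (.leaf 88583720199) (.leaf 130996533775)))) (.node (.node (.node (.node (.leaf 20937970570) (.leaf 183609892224)) (.leaf 121332855044)) (.node (.leaf 33822885892) (.leaf 153008236554))) (.node (.node (.leaf 49392135707) (.leaf 89120603790)) (.node (.leaf 52076502148) (.leaf 168040635547))))) (.node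 (.node (.node (.node (.node (.leaf 10200549780) (.leaf 179851794304)) (.leaf 115427273625)) (.node (.leaf 37580964130) (.leaf 147639536027))) (.node (.node (.leaf 16643007138) (.leaf 131533404822)) (.node (.leaf 92878689807) (.leaf 137438992644)))) (.node (.node (.node (.node (.leaf 29527907219) (.leaf 186831120385)) (.leaf 126164690188)) (.node (.leaf 83215011217) (.leaf 119185379854))) (.node (.node (.leaf 59592685459) (.leaf 139049599387)) (.node (.leaf 104152981776) (.leaf 150323896584)))))) (.node (.node (.node (.node (.node (.node (.leaf 1073741967) (.leaf 178241184905)) (.leaf 113279789467)) (.node (.leaf 73551332509) (.leaf 146028922905))) (.node (.node (.leaf 42949683225) (.leaf 128849049621)) (.node (.leaf 84288754695) (.leaf 162671925139)))) (.node (.node (.node (.node (.leaf 24696067869) (.leaf 185220508820)) (.leaf 78383182473)) (.node (.leaf 79456909344) (.leaf 154618854561))) (.node (.node (.leaf 56908322316) (.leaf 137438984714)) (.node (.leaf 102005487621) (.leaf 171261861647)))))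 (.node (.node (.node (.node (.node (.leaf 16643002257) (.leaf 159987575048)) (.leaf 117574751904)) (.node (.leaf 74088193285) (.leaf 149787020183))) (.node (.node (.leaf 46707780499) (.leaf 134217749122)) (.node (.leaf 95026174084) (.leaf 166430021378)))) (.node (.node (.node (.leaf 33822875537) (.leaf 98784265762)) (.node (.leaf 86973107076) (.leaf 158376956828))) (.node (.node (.leaf 66035128590) (.leaf 142270814730)) (.node (.leaf 106300465947) (.leaf 175019952772))))))
def dF_67 : BT := .node (.node (.node (.node (.node (.node (.node (.leaf 9663676562) (.leaf 176630568839)) (.leaf 111669176343)) (.node (.leaf 71940718603) (.leaf 145492042629))) (.node (.node (.leaf 41875941145) (.leaf 81067538208)) (.node (.leaf 83215012614) (.leaf 161598182927)))) (.node (.node (.node (.node (.leaf 11274294788) (.leaf 184146766751)) (.leaf 122406597122)) (.node (.leaf 78383166881) (.leaf 154081982988))) (.node (.node (.leaf 20937977858) (.leaf 136365244188)) (.node (.leaf 100931755543) (.leaf 169114377629)))))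 (.node (.node (.node (.node (.node (.leaf 15032387980) (.leaf 180388669457)) (.leaf 117037885832)) (.node (.leaf 15569262734) (.leaf 148713278109))) (.node (.node (.leaf 30601649310) (.leaf 86973119631)) (.node (.leaf 93415560985) (.leaf 165356273291)))) (.node (.node (.node (.node (.leaf 31138517901) (.leaf 187367992985)) (.leaf 83751883651)) (.node (.leaf 84825613830) (.leaf 157303214751))) (.node (.node (.leaf 24159205664) (.leaf 141197072650)) (.node (.leaf 105226712450) (.leaf 173946216987)))))) (.node (.node (.node (.node (.node (.node (.leaf 536871063) (.leaf 178778053536)) (.leaf 114890396303)) (.node (.leaf 13958647202) (.leaf 147102654729))) (.node (.node (.leaf 44560296343) (.leaf 84288764169)) (.node (.leaf 91268076829) (.leaf 163745667227)))) (.node (.node (.node (.node (.leaf 28454162829) (.leaf 174483090696)) (.leaf 34896624290)) (.node (.leaf 81604398111) (.leaf 155692601093))) (.node (.node (.leaf 57982072340) (.leaf 131533406340)) (.node (.leaf 103079229064) (.leaf 172335598216)))))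 (.node (.node (.node (.node (.node (.leaf 18790486537) (.leaf 182536153615)) (.leaf 119185370909)) (.node (.leaf 75161945621) (.leaf 106300476806))) (.node (.node (.leaf 47781522577) (.leaf 134754631065)) (.node (.leaf 96099916188) (.leaf 166966893471)))) (.node (.node (.node (.leaf 16106136224) (.leaf 105763594888)) (.node (.leaf 87509979545) (.leaf 159450698880))) (.node (.node (.leaf 68719493138) (.leaf 143344567688)) (.node (.leaf 107374208023) (.leaf 175556830101))))))
def dF_68 : BT := .node dF_66 dF_67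
def dF_69 : BT := .node dF_65 dF_68
def dF_70 : BT := .node (.node (.node (.node (.node (.node (.node (.leaf 400) (.leaf 176630568718)) (.leaf 109521681026)) (.node (.leaf 70330106263) (.leaf 144418299911))) (.node (.node (.leaf 39191585937) (.leaf 79456913923)) (.node (.leaf 82141270534) (.leaf 159987569943)))) (.node (.node (.node (.node (.leaf 20401099549) (.leaf 183073024671)) (.leaf 120795980294)) (.node (.leaf 77309429777) (.leaf 152471365517))) (.node (.node (.leaf 20401106446) (.leaf 135291502107)) (.node (.leaf 97710517766) (.leaf 168040635530))))) (.node (.node (.node (.node (.node (.leaf 11274291851) (.leaf 179314924576)) (.leaf 115427272708)) (.node (.leaf 39728457229) (.leaf 147639525388))) (.node (.node (.leaf 1073745698) (.leaf 130996533787)) (.node (.leaf 92341818909) (.leaf 164282538265)))) (.node (.node (.node (.node (.leaf 28454165257) (.leaf 177167445381)) (.leaf 79456924930)) (.node (.leaf 82678140183) (.leaf 156229472665))) (.node (.node (.leaf 23622334241) (.leaf 139049599370))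 (.node (.leaf 103616110751) (.leaf 172872474901)))))) (.node (.node (.node (.node (.node (.node (.leaf 1610615823) (.leaf 178241185297)) (.leaf 113279784192)) (.node (.leaf 73551332490) (.leaf 146028912651))) (.node (.node (.leaf 42949682305) (.leaf 128312178589)) (.node (.leaf 90194333323) (.leaf 162135054107)))) (.node (.node (.node (.node (.leaf 24696067857) (.leaf 185220508677)) (.leaf 122943468184)) (.node (.leaf 79456903305) (.leaf 154618859019))) (.node (.node (.leaf 56371459221) (.leaf 136902115227)) (.node (.leaf 101468626587) (.leaf 170188119705))))) (.node (.node (.node (.node (.node (.leaf 16643002240) (.leaf 180925540503)) (.leaf 117574757783)) (.node (.leaf 71940712480) (.leaf 149250146592))) (.node (.node (.leaf 46170909461) (.leaf 117037886734)) (.node (.leaf 94489303065) (.leaf 165893151390)))) (.node (.node (.node (.leaf 33286004507) (.leaf 95563036802)) (.node (.leaf 86436226310) (.leaf 158376956820))) (.node (.node (.leaf 63887644943) (.leaf 96099927051)) (.node (.leaf 106300465920)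 (.leaf 174483085601))))))
def dF_71 : BT := .node (.node (.node (.node (.node (.node (.node (.leaf 8053065612) (.leaf 177167443215)) (.leaf 68719503237)) (.node (.leaf 28991046415) (.leaf 144955180831))) (.node (.node (.leaf 41875935748) (.leaf 127238436502)) (.node (.leaf 89120592663) (.leaf 161061304459)))) (.node (.node (.node (.node (.leaf 22548583699) (.leaf 184146766737)) (.leaf 121869726107)) (.node (.leaf 78383161477) (.leaf 153545117469))) (.node (.node (.leaf 50465877781) (.leaf 136365242625)) (.node (.leaf 100931744906) (.leaf 169114377606))))) (.node (.node (.node (.node (.node (.leaf 13958647069) (.leaf 180388669446)) (.leaf 115964143751)) (.node (.leaf 64961384354) (.leaf 148713267725))) (.node (.node (.leaf 29527907207) (.leaf 133144007170)) (.node (.leaf 93415560970) (.leaf 165356280339)))) (.node (.node (.node (.node (.leaf 15032392975) (.leaf 187367992841)) (.leaf 126701561632)) (.node (.leaf 84288753302) (.leaf 157303211276))) (.node (.node (.leaf 60666419081) (.leaf 122943472386))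 (.node (.leaf 104689852821) (.leaf 173946211213)))))) (.node (.node (.node (.node (.node (.node (.leaf 25) (.leaf 178778056339)) (.leaf 114353531549)) (.node (.leaf 45097163535) (.leaf 146565793670))) (.node (.node (.leaf 44560295427) (.leaf 129922791698)) (.node (.leaf 91268075400) (.leaf 163745667206)))) (.node (.node (.node (.node (.leaf 26306680987) (.leaf 185757379861)) (.leaf 124554070278)) (.node (.leaf 81604398099) (.leaf 119185379456))) (.node (.node (.leaf 57445201307) (.leaf 137975857303)) (.node (.leaf 102542368643) (.leaf 142807696654))))) (.node (.node (.node (.node (.node (.leaf 19327357456) (.leaf 181999282587)) (.leaf 119185365133)) (.node (.leaf 74625074587) (.leaf 150323887521))) (.node (.node (.leaf 47244651531) (.leaf 134754629508)) (.node (.leaf 96099916047) (.leaf 166966886408)))) (.node (.node (.node (.leaf 15569264926) (.leaf 105763597858)) (.node (.leaf 87509968900) (.leaf 158913827871))) (.node (.node (.leaf 67645751069) (.leaf 142807696669)) (.node (.leaf 107374197002) (.leaf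 175556830086))))))
def dF_72 : BT := .node dF_70 dF_71
def dF_73 : BT := .node (.node (.node (.node (.node (.node (.node (.leaf 1433) (.leaf 153545123074)) (.leaf 110595423884)) (.node (.leaf 70866970509) (.leaf 100394895009))) (.node (.node (.leaf 39728456986) (.leaf 108447950084)) (.node (.leaf 88583721621) (.leaf 160524440977)))) (.node (.node (.node (.node (.leaf 21474841620) (.leaf 183609895695)) (.leaf 121332855065)) (.node (.leaf 77846300817) (.leaf 153008246425))) (.node (.node (.leaf 49929006742) (.leaf 135828362120)) (.node (.leaf 60666436866) (.leaf 168577499916))))) (.node (.node (.node (.node (.node (.leaf 11274291869) (.leaf 179851798421)) (.leaf 115964144657)) (.node (.leaf 35970354848) (.leaf 148176396808))) (.node (.node (.leaf 35970359710) (.leaf 133144017937)) (.node (.leaf 92878689946) (.leaf 164819409299)))) (.node (.node (.node (.node (.leaf 30064774786) (.leaf 186831121947)) (.leaf 126164694431)) (.node (.leaf 48855272832) (.leaf 156766334858))) (.node (.node (.leaf 60129556497)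 (.leaf 94489314056)) (.node (.leaf 104152981788) (.leaf 173409345938)))))) (.node (.node (.node (.node (.node (.node (.leaf 8053065627) (.leaf 178241185309)) (.leaf 113816653836)) (.node (.leaf 39728457858) (.leaf 146565793939))) (.node (.node (.leaf 43486554260) (.leaf 129385912577)) (.node (.leaf 90731204357) (.leaf 130996541320)))) (.node (.node (.node (.node (.leaf 25232938906) (.leaf 185220508814)) (.leaf 123480339223)) (.node (.leaf 38117854082) (.leaf 155155730052))) (.node (.node (.leaf 56908330261) (.leaf 137438986271)) (.node (.leaf 102005497631) (.leaf 171798732428))))) (.node (.node (.node (.node (.node (.leaf 7516197024) (.leaf 181462411541)) (.leaf 93952437764)) (.node (.leaf 74088197025) (.leaf 105226734593))) (.node (.node (.leaf 46707780507) (.leaf 134217758474)) (.node (.leaf 95026174109) (.leaf 166430015370)))) (.node (.node (.node (.leaf 34359744397) (.leaf 96636786956)) (.node (.leaf 86973108505) (.leaf 122406605838))) (.node (.node (.leaf 67108880023) (.leaf 142270825623)) (.node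 (.leaf 106837336982) (.leaf 175019954049))))))
def dF_74 : BT := .node (.node (.node (.node (.node (.node (.node (.leaf 536873493) (.leaf 177704310796)) (.leaf 112206038528)) (.node (.leaf 68719493897) (.leaf 145492051868))) (.node (.node (.leaf 42412811264) (.leaf 127775307539)) (.node (.leaf 89657463701) (.leaf 161598183068)))) (.node (.node (.node (.node (.leaf 23622325783) (.leaf 184683637260)) (.leaf 122406597137)) (.node (.leaf 78920042886) (.leaf 154081988511))) (.node (.node (.leaf 53687096322) (.leaf 136902113666)) (.node (.leaf 56371469964) (.leaf 169651248659))))) (.node (.node (.node (.node (.node (.leaf 1073745542) (.leaf 180388669471)) (.leaf 117037886745)) (.node (.leaf 57982066464) (.leaf 149250138374))) (.node (.node (.leaf 38117843871) (.leaf 133680888982)) (.node (.leaf 93952432010) (.leaf 155155733024)))) (.node (.node (.node (.leaf 32212258690) (.leaf 95563046178)) (.node (.leaf 84825624349) (.leaf 157840085764))) (.node (.node (.leaf 61203298583) (.leaf 119185376161)) (.node (.leaf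 105226723869) (.leaf 148713284225)))))) (.node (.node (.node (.node (.node (.node (.leaf 536871040) (.leaf 179314921734)) (.leaf 114890401675)) (.node (.leaf 21474841868) (.leaf 147102664990))) (.node (.node (.leaf 45634032772) (.leaf 130459662737)) (.node (.leaf 91804947596) (.leaf 93952432015)))) (.node (.node (.node (.node (.leaf 28454165149) (.leaf 186294249995)) (.leaf 125090952336)) (.node (.leaf 82141269144) (.leaf 136365248781))) (.node (.node (.leaf 57982072331) (.leaf 138512728330)) (.node (.leaf 103079239707) (.leaf 172335603865))))) (.node (.node (.node (.node (.node (.leaf 19864228499) (.leaf 164282542728)) (.leaf 119722231304)) (.node (.leaf 75161945631) (.leaf 151934504341))) (.node (.node (.leaf 19864235297) (.leaf 94489303054)) (.node (.leaf 96636787204) (.leaf 167503764497)))) (.node (.node (.node (.leaf 38117843861) (.leaf 94489303045)) (.node (.leaf 88046850578) (.leaf 159450698903))) (.node (.node (.leaf 68719493150) (.leaf 143881438736)) (.node (.leaf 62277051528) (.leaf 151934510088))))))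
def dF_75 : BT := .node dF_73 dF_74
def dF_76 : BT := .node dF_72 dF_75
def dF_77 : BT := .node dF_69 dF_76
def dF_78 : BT := .node (.node (.node (.node (.node (.node (.node (.leaf 10) (.leaf 176093701147)) (.leaf 62277051780)) (.node (.leaf 70330105482) (.leaf 144418309760))) (.node (.node (.leaf 38654714905) (.leaf 93952434849)) (.node (.leaf 82141270537) (.leaf 159987562380)))) (.node (.node (.node (.node (.leaf 20401099541) (.leaf 183073024663)) (.leaf 120259107084)) (.node (.leaf 77309419272) (.leaf 152471375379))) (.node (.node (.leaf 48855264667) (.leaf 135291502099)) (.node (.leaf 48855276065) (.leaf 168040635522))))) (.node (.node (.node (.node (.node (.leaf 10200549769) (.leaf 179314927387)) (.leaf 115427262984)) (.node (.leaf 47781515936) (.leaf 147639525768))) (.node (.node (.leaf 10200549791) (.leaf 130996533779)) (.node (.leaf 92341818890) (.leaf 164282538257)))) (.node (.node (.node (.node (.leaf 28991036184) (.leaf 186294250910)) (.leaf 125090947873)) (.node (.leaf 82678136463) (.leaf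 156229472657))) (.node (.node (.leaf 58518943385) (.leaf 123480342790)) (.node (.leaf 103616110745) (.leaf 172872469512)))))) (.node (.node (.node (.node (.node (.node (.leaf 5368709144) (.leaf 162671928714)) (.leaf 112742911500)) (.node (.leaf 73551321996) (.leaf 146028913668))) (.node (.node (.leaf 38654715778) (.leaf 128312178581)) (.node (.leaf 90194334738) (.leaf 162135054099)))) (.node (.node (.node (.node (.leaf 24159196825) (.leaf 173409348618)) (.leaf 122943457797)) (.node (.leaf 79456909583) (.leaf 154618859016))) (.node (.node (.leaf 56371459202) (.leaf 136902115219)) (.node (.leaf 101468626579) (.leaf 170188119697))))) (.node (.node (.node (.node (.node (.leaf 15569260189) (.leaf 180925540497)) (.leaf 117574757779)) (.node (.leaf 54223969313) (.leaf 149250149147))) (.node (.node (.leaf 46170909450) (.leaf 132607135650)) (.node (.leaf 94489303057) (.leaf 165893144331)))) (.node (.node (.node (.leaf 33286004499) (.leaf 25232944642)) (.node (.leaf 85362495391) (.leaf 158376953871))) (.node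 (.node (.leaf 62813911690) (.leaf 141733954588)) (.node (.leaf 105763594909) (.leaf 174483088026))))))
def dF_79 : BT := .node (.node (.node (.node (.node (.node (.node (.leaf 8053065604) (.leaf 177167443231)) (.leaf 111132305310)) (.node (.leaf 67645751818) (.leaf 144955180825))) (.node (.node (.leaf 40802199069) (.leaf 127238436367)) (.node (.leaf 89120591236) (.leaf 161061312019)))) (.node (.node (.node (.node (.leaf 22548581635) (.leaf 184146766338)) (.leaf 121869726099)) (.node (.leaf 33286015247) (.leaf 153545117463))) (.node (.node (.leaf 50465871111) (.leaf 135828371591)) (.node (.leaf 100394884507) (.leaf 169114370826))))) (.node (.node (.node (.node (.node (.leaf 13958647061) (.leaf 179851798415)) (.leaf 115964144667)) (.node (.leaf 64424522402) (.leaf 105226734088))) (.node (.node (.leaf 24159196831) (.leaf 133144017945)) (.node (.leaf 93415560962) (.leaf 135291509262)))) (.node (.node (.node (.node (.leaf 15032392846) (.leaf 187367992076)) (.leaf 126701565467)) (.node (.leaf 84288753167)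 (.leaf 157303205766))) (.node (.node (.leaf 60666427407) (.leaf 140660212509)) (.node (.leaf 104689841805) (.leaf 172872475015)))))) (.node (.node (.node (.node (.node (.node (.leaf 12348031138) (.leaf 178778053642)) (.leaf 114353531541)) (.node (.leaf 15032390689) (.leaf 146565793951))) (.node (.node (.leaf 19327363488) (.leaf 83215022351)) (.node (.leaf 90731205791) (.leaf 130996541568)))) (.node (.node (.node (.node (.leaf 26306680979) (.leaf 185757378181)) (.leaf 124017205793)) (.node (.leaf 81067516813) (.leaf 155155730589))) (.node (.node (.leaf 57445201301) (.leaf 137975857297)) (.node (.leaf 102542368670) (.leaf 148176412682))))) (.node (.node (.node (.node (.node (.leaf 19327357313) (.leaf 181999282581)) (.leaf 119185370888)) (.node (.leaf 74625074579) (.leaf 150323891226))) (.node (.node (.leaf 47244651548) (.leaf 134217760031)) (.node (.leaf 95563045147) (.leaf 166430022431)))) (.node (.node (.node (.leaf 34896617626) (.leaf 112206040736)) (.node (.leaf 87509979537) (.leaf 158913827865)))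 (.node (.node (.leaf 67645751061) (.leaf 142807696661)) (.node (.leaf 59592696864) (.leaf 169651249928))))))
def dF_80 : BT := .node dF_78 dF_79
def dF_81 : BT := .node (.node (.node (.node (.node (.node (.node (.leaf 4831839368) (.leaf 176630572191)) (.leaf 110595434267)) (.node (.leaf 70866976516) (.leaf 143344567683))) (.node (.node (.leaf 39728456978) (.leaf 125090952323)) (.node (.leaf 88583720203) (.leaf 139049604352)))) (.node (.node (.node (.node (.leaf 10200552463) (.leaf 183609895697)) (.leaf 121332855057)) (.node (.leaf 77846300802) (.leaf 153008246417))) (.node (.node (.leaf 49929006607) (.leaf 135828373139)) (.node (.leaf 99858004098) (.leaf 168577499528))))) (.node (.node (.node (.node (.node (.leaf 29) (.leaf 179851795980)) (.leaf 115427272707)) (.node (.leaf 65498267042) (.leaf 102005508610))) (.node (.node (.leaf 15569260191) (.leaf 131533404830)) (.node (.leaf 92878689942) (.leaf 164819408256)))) (.node (.node (.node (.node (.leaf 29527907227) (.leaf 186831121935)) (.leaf 126164694423))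 (.node (.leaf 83215011225) (.leaf 156766343684))) (.node (.node (.leaf 59592685467) (.leaf 123480342914)) (.node (.leaf 104152981784) (.leaf 173409345797)))))) (.node (.node (.node (.node (.node (.node (.leaf 16) (.leaf 178241185305)) (.leaf 113279782816)) (.node (.leaf 43486561314) (.leaf 100931766305))) (.node (.node (.leaf 43486554127) (.leaf 128849049629)) (.node (.leaf 90731196161) (.leaf 162671925147)))) (.node (.node (.node (.node (.leaf 25232938898) (.leaf 185220508828)) (.leaf 123480339200)) (.node (.leaf 34896628354) (.leaf 155155721098))) (.node (.node (.leaf 56908330250) (.leaf 137438986263)) (.node (.leaf 102005497623) (.leaf 171798732806))))) (.node (.node (.node (.node (.node (.leaf 16643002265) (.leaf 181462406541)) (.leaf 118111623044)) (.node (.leaf 74088203546) (.leaf 149787020191))) (.node (.node (.leaf 46707780488) (.leaf 134217758470)) (.node (.leaf 95026174101) (.leaf 166430021382)))) (.node (.node (.node (.leaf 33822875545) (.leaf 90731205516)) (.node (.leaf 86973108497) (.leaf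 158376956801))) (.node (.node (.leaf 67108871040) (.leaf 142270820110)) (.node (.leaf 106837336847) (.leaf 175019957768))))))
def dF_82 : BT := .node (.node (.node (.node (.node (.node (.node (.leaf 10737418372) (.leaf 177704309376)) (.leaf 111669176351)) (.node (.leaf 71940719386) (.leaf 145492051864))) (.node (.node (.leaf 19864233728) (.leaf 127775296780)) (.node (.leaf 89657454081) (.leaf 161598183062)))) (.node (.node (.node (.node (.leaf 23622325770) (.leaf 182536153990)) (.leaf 122406586505)) (.node (.leaf 33822886282) (.leaf 154081988503))) (.node (.node (.leaf 20937978144) (.leaf 90194345737)) (.node (.leaf 100931755551) (.leaf 169651241990))))) (.node (.node (.node (.node (.node (.leaf 15032389143) (.leaf 180388669463)) (.leaf 117037886737)) (.node (.leaf 34896615200) (.leaf 117574765191))) (.node (.node (.leaf 20937970590) (.leaf 133680888978)) (.node (.leaf 46170920737) (.leaf 165356280351)))) (.node (.node (.node (.node (.leaf 31138520331) (.leaf 187367992225)) (.leaf 83751878432)) (.node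 (.leaf 84825624341) (.leaf 157840082574))) (.node (.node (.leaf 61203290249) (.leaf 141197083549)) (.node (.leaf 105226723861) (.leaf 173946213664)))))) (.node (.node (.node (.node (.node (.node (.leaf 8053065622) (.leaf 156229478024)) (.leaf 114890392325)) (.node (.leaf 55834577314) (.leaf 147102654220))) (.node (.node (.leaf 19327363617) (.leaf 130459651849)) (.node (.leaf 43486565766) (.leaf 140123330466)))) (.node (.node (.node (.node (.leaf 28454165141) (.leaf 186294250755)) (.leaf 24696070278)) (.node (.leaf 82141269138) (.leaf 155692601623))) (.node (.node (.leaf 57982072348) (.leaf 92878700802)) (.node (.leaf 103079239699) (.leaf 172335603857))))) (.node (.node (.node (.node (.node (.leaf 19864228482) (.leaf 182536153627)) (.leaf 119722241937)) (.node (.leaf 75161939597) (.leaf 151934504322))) (.node (.node (.leaf 47781522585) (.leaf 128312180106)) (.node (.leaf 96099916163) (.leaf 136365251590)))) (.node (.node (.node (.leaf 38117839236) (.leaf 74088210950)) (.node (.leaf 41875952143) (.leaf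 159450697100))) (.node (.node (.leaf 68719486092) (.leaf 143344567709)) (.node (.leaf 107374208031) (.leaf 175556830109))))))
def dF_83 : BT := .node dF_81 dF_82
def dF_84 : BT := .node dF_80 dF_83
def dF_85 : BT := .node (.node (.node (.node (.node (.node (.node (.leaf 658) (.leaf 176630572181)) (.leaf 110058551940)) (.node (.leaf 70330106271) (.leaf 144418309781))) (.node (.node (.leaf 39191585943) (.leaf 20937970567)) (.node (.leaf 88583711873) (.leaf 159987563012)))) (.node (.node (.node (.node (.leaf 20937970579) (.leaf 166966897284)) (.leaf 120795980418)) (.node (.leaf 77309429785) (.leaf 152471365516))) (.node (.node (.leaf 49392135701) (.leaf 95026183680)) (.node (.leaf 49929018400) (.leaf 168040635535))))) (.node (.node (.node (.node (.node (.leaf 930) (.leaf 166966896394)) (.leaf 115427273617)) (.node (.leaf 43486550817) (.leaf 147639536019))) (.node (.node (.leaf 15032389151) (.leaf 131533401345)) (.node (.leaf 92341818887) (.leaf 164282538254)))) (.node (.node (.node (.node (.leaf 29527907202)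 (.leaf 186831119748)) (.leaf 126164683270)) (.node (.leaf 82678140191) (.leaf 156229468193))) (.node (.node (.leaf 59592685448) (.leaf 139049599379)) (.node (.leaf 103616104608) (.leaf 172872474909)))))) (.node (.node (.node (.node (.node (.node (.leaf 1073744930) (.leaf 178241184900)) (.leaf 113279789459)) (.node (.leaf 73551332501) (.leaf 146028922897))) (.node (.node (.leaf 42949682313) (.leaf 128849038730)) (.node (.leaf 90194334750) (.leaf 129922799490)))) (.node (.node (.node (.node (.leaf 24696067863) (.leaf 185220508556)) (.leaf 122943463200)) (.node (.leaf 79456909325) (.leaf 154618859549))) (.node (.node (.leaf 56371459229) (.leaf 90194345986)) (.node (.leaf 102005497617) (.leaf 170188119711))))) (.node (.node (.node (.node (.node (.leaf 16643001612) (.leaf 180925540511)) (.leaf 117574757787)) (.node (.leaf 29527917839) (.leaf 149787020177))) (.node (.node (.leaf 46170909469) (.leaf 127238438019)) (.node (.leaf 48855275658) (.leaf 136365251211)))) (.node (.node (.node (.leaf 33822875526)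 (.leaf 95563040160)) (.node (.leaf 86436232992) (.leaf 158376956684))) (.node (.node (.leaf 64961386374) (.leaf 142270817283)) (.node (.leaf 106300465943) (.leaf 156229476997))))))
def dF_86 : BT := .node (.node (.node (.node (.node (.node (.node (.leaf 536873106) (.leaf 163208799498)) (.leaf 111669169548)) (.node (.leaf 71940719378) (.leaf 100931766159))) (.node (.node (.leaf 41875941137) (.leaf 127238436506)) (.node (.leaf 89120592671) (.leaf 161061312031)))) (.node (.node (.node (.node (.leaf 22548583707) (.leaf 184146766743)) (.leaf 121332855180)) (.node (.leaf 78383171866) (.leaf 129922797325))) (.node (.node (.leaf 50465877789) (.leaf 136365233161)) (.node (.leaf 100931745668) (.leaf 169114377623))))) (.node (.node (.node (.node (.node (.leaf 15032385794) (.leaf 180388664066)) (.leaf 116501009292)) (.node (.leaf 16643004295) (.leaf 148713278101))) (.node (.node (.leaf 28991036190) (.leaf 133144016391)) (.node (.leaf 93415560977) (.leaf 165356279304)))) (.node (.node (.node (.node (.leaf 31138520340)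 (.leaf 187367992979)) (.leaf 83751882914)) (.node (.leaf 84288753310) (.leaf 157303214743))) (.node (.node (.leaf 60666427548) (.leaf 141197083524)) (.node (.leaf 104689852829) (.leaf 173946216979)))))) (.node (.node (.node (.node (.node (.node (.leaf 11811162891) (.leaf 178778056347)) (.leaf 73551342208)) (.node (.leaf 32212259874) (.leaf 147102664847))) (.node (.node (.leaf 44560295435) (.leaf 129922791704)) (.node (.leaf 91268076821) (.leaf 163745667219)))) (.node (.node (.node (.node (.leaf 13421779360) (.leaf 185757379869)) (.leaf 99321148418)) (.node (.leaf 81604398103) (.leaf 155692593024))) (.node (.node (.leaf 57982072207) (.leaf 137975857311)) (.node (.leaf 103079239680) (.leaf 157303214734))))) (.node (.node (.node (.node (.node (.leaf 19327357464) (.leaf 163208800772)) (.leaf 119185370901)) (.node (.leaf 30064789006) (.leaf 149787020299))) (.node (.node (.leaf 47781516549) (.leaf 134754631057)) (.node (.leaf 96099905161) (.leaf 166966893463)))) (.node (.node (.node (.leaf 35970355079) (.leaf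 24696067843)) (.node (.leaf 87509978121) (.leaf 158913827847))) (.node (.node (.leaf 28454174735) (.leaf 143344567680)) (.node (.leaf 107374201231) (.leaf 175556830092))))))
def dF_87 : BT := .node dF_85 dF_86
def dF_88 : BT := .node (.node (.node (.node (.node (.node (.node (.leaf 6979323533) (.leaf 177167439756)) (.leaf 111132305296)) (.node (.leaf 70866977301) (.leaf 144955180819))) (.node (.node (.leaf 18790491680) (.leaf 81604399490)) (.node (.leaf 88583721629) (.leaf 160524440983)))) (.node (.node (.node (.node (.leaf 21474841628) (.leaf 183609895711)) (.leaf 77309440394)) (.node (.leaf 77846300825) (.leaf 111669186318))) (.node (.node (.leaf 49929006750) (.leaf 135828373147)) (.node (.leaf 100394884488) (.leaf 168577506575))))) (.node (.node (.node (.node (.node (.leaf 536874272) (.leaf 179851798429)) (.leaf 115964143748)) (.node (.leaf 63350773536) (.leaf 148176407063))) (.node (.node (.leaf 40802199070) (.leaf 133144016388)) (.node (.leaf 92878689929) (.leaf 164819409305)))) (.node (.node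 (.node (.node (.leaf 30064778257) (.leaf 186831120928)) (.leaf 81067537934)) (.node (.leaf 83751882259) (.leaf 156766343707))) (.node (.node (.leaf 60129548040) (.leaf 140660212484)) (.node (.leaf 104152981771) (.leaf 173409345946)))))) (.node (.node (.node (.node (.node (.node (.leaf 536871056) (.leaf 166966896135)) (.leaf 114353530628)) (.node (.leaf 71403842082) (.leaf 146565783689))) (.node (.node (.leaf 43486554264) (.leaf 129385909769)) (.node (.leaf 90731204363) (.leaf 163208796177)))) (.node (.node (.node (.node (.leaf 11274295326) (.leaf 184683637897)) (.leaf 123480339227)) (.node (.leaf 81067527061) (.leaf 153008246916))) (.node (.node (.leaf 56908330269) (.leaf 137975851392)) (.node (.leaf 102542368658) (.leaf 171798732823))))) (.node (.node (.node (.node (.node (.leaf 18790486417) (.leaf 181462411547)) (.leaf 118648489222)) (.node (.leaf 30064788872) (.leaf 150323882759))) (.node (.node (.leaf 47244651407) (.leaf 134217755278)) (.node (.leaf 95563045137) (.leaf 166430019726)))) (.node (.node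 (.node (.leaf 34896617487) (.leaf 75161939726)) (.node (.leaf 81067528458) (.leaf 158913827859))) (.node (.node (.leaf 67108880031) (.leaf 142270825631)) (.node (.leaf 106837336988) (.leaf 175019959061))))))
def dF_89 : BT := .node (.node (.node (.node (.node (.node (.node (.leaf 536873736) (.leaf 177704314263)) (.leaf 112206047385)) (.node (.leaf 72477583756) (.leaf 145492051849))) (.node (.node (.leaf 42412812179) (.leaf 127775307547)) (.node (.leaf 89657463705) (.leaf 128849057568)))) (.node (.node (.node (.node (.leaf 11274294920) (.leaf 184683637781)) (.leaf 122406597145)) (.node (.leaf 78920042899) (.leaf 154618854670))) (.node (.node (.leaf 54760838414) (.leaf 136902113670)) (.node (.leaf 101468626438) (.leaf 169651248667))))) (.node (.node (.node (.node (.node (.leaf 15569259149) (.leaf 180925535368)) (.leaf 117037880609)) (.node (.leaf 61203298444) (.leaf 149250149130))) (.node (.node (.leaf 42412811269) (.leaf 133680877965)) (.node (.leaf 93952432023) (.leaf 165893151247)))) (.node (.node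 (.node (.leaf 32749129730) (.leaf 89657452679)) (.node (.leaf 85362484354) (.leaf 157840085785))) (.node (.node (.leaf 61203298591) (.leaf 141733954447)) (.node (.leaf 105763594880) (.leaf 174483087883)))))) (.node (.node (.node (.node (.node (.node (.leaf 1073742099) (.leaf 179314924426)) (.leaf 114890402590)) (.node (.leaf 40802196111) (.leaf 143881439499))) (.node (.node (.leaf 19864234658) (.leaf 130459662745)) (.node (.leaf 86436238724) (.leaf 133680896262)))) (.node (.node (.node (.node (.leaf 28991036041) (.leaf 186294250754)) (.leaf 125090941451)) (.node (.leaf 47244659841) (.leaf 155692597024))) (.node (.node (.leaf 58518935684) (.leaf 138512728339)) (.node (.leaf 56908341390) (.leaf 172335603871))))) (.node (.node (.node (.node (.node (.leaf 19864228507) (.leaf 183073024258)) (.leaf 119722236301)) (.node (.leaf 75698810381) (.leaf 151934504349))) (.node (.node (.leaf 48855264646) (.leaf 89120603658)) (.node (.leaf 96636787217) (.leaf 167503764505)))) (.node (.node (.node (.leaf 38117843869)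 (.leaf 79456924962)) (.node (.leaf 88046850582) (.leaf 159450698911))) (.node (.node (.leaf 69256357389) (.leaf 143881438744)) (.node (.leaf 108447950097) (.leaf 176093701122))))))
def dF_90 : BT := .node dF_88 dF_89
def dF_91 : BT := .node dF_87 dF_90
def dF_92 : BT := .node dF_84 dF_91
def dF_93 : BT := .node dF_77 dF_92
def dF_94 : BT := .node (.node (.node (.node (.node (.node (.node (.leaf 6) (.leaf 176093701143)) (.leaf 108447950109)) (.node (.leaf 70330105472) (.leaf 143881438729))) (.node (.node (.leaf 38654714901) (.leaf 93952428295)) (.node (.leaf 82141270529) (.leaf 159987562118)))) (.node (.node (.node (.node (.leaf 20401099537) (.leaf 183073024661)) (.leaf 74625085455)) (.node (.leaf 76772552865) (.leaf 152471375377))) (.node (.node (.leaf 48855264663) (.leaf 135291500550)) (.node (.leaf 96636787229) (.leaf 138512735364))))) (.node (.node (.node (.node (.node (.leaf 10200549782) (.leaf 179314927383)) (.leaf 111132306187)) (.node (.leaf 8053065762) (.leaf 147639535622))) (.node (.node (.leaf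 536874146) (.leaf 130996522626)) (.node (.leaf 92341818888) (.leaf 164282531213)))) (.node (.node (.node (.node (.leaf 28991036180) (.leaf 186294250906)) (.leaf 125090952350)) (.node (.leaf 82678130180) (.leaf 156229468173))) (.node (.node (.leaf 58518943381) (.leaf 138512728351)) (.node (.leaf 103616110743) (.leaf 170188120202)))))) (.node (.node (.node (.node (.node (.node (.leaf 12348032271) (.leaf 177704310816)) (.leaf 67645761807)) (.node (.leaf 73014454796) (.leaf 146028922880))) (.node (.node (.leaf 38654715786) (.leaf 128312178577)) (.node (.leaf 90194334736) (.leaf 162135051918)))) (.node (.node (.node (.node (.leaf 24159196821) (.leaf 184683637153)) (.leaf 122943468176)) (.node (.leaf 78920042911) (.leaf 154618859013))) (.node (.node (.leaf 56371451400) (.leaf 136902110094)) (.node (.leaf 101468626564) (.leaf 170188119686))))) (.node (.node (.node (.node (.node (.leaf 15569260185) (.leaf 180925539341)) (.leaf 117574752014)) (.node (.leaf 50465878669) (.leaf 149250149143))) (.node (.node (.leaf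 46170909446) (.leaf 127238438025)) (.node (.leaf 94489291654) (.leaf 165893150345)))) (.node (.node (.node (.leaf 33286004490) (.leaf 84825620238)) (.node (.leaf 85362495387) (.leaf 157840085767))) (.node (.node (.leaf 24696076934) (.leaf 141733954584)) (.node (.leaf 105763594905) (.leaf 174483088022))))))
def dF_95 : BT := .node (.node (.node (.node (.node (.node (.node (.leaf 8053065600) (.leaf 177167443227)) (.leaf 111132305306)) (.node (.leaf 30064787968) (.leaf 144955170570))) (.node (.node (.leaf 40802199065) (.leaf 111132306178)) (.node (.leaf 89120583040) (.leaf 161061312017)))) (.node (.node (.node (.node (.leaf 10200552736) (.leaf 167503768452)) (.leaf 121869715845)) (.node (.leaf 49929006726) (.leaf 153545107592))) (.node (.node (.leaf 50465877764) (.leaf 115427278496)) (.node (.leaf 100394884503) (.leaf 158913830146))))) (.node (.node (.node (.node (.node (.leaf 13958647057) (.leaf 163745671048)) (.leaf 115964144665)) (.node (.leaf 47244651527) (.leaf 148176405281))) (.node (.node (.leaf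 25232938911) (.leaf 133144016394)) (.node (.leaf 52076496771) (.leaf 160524441986)))) (.node (.node (.node (.node (.leaf 30064778269) (.leaf 187367992840)) (.leaf 126701565465)) (.node (.leaf 83751882271) (.leaf 156766343682))) (.node (.node (.leaf 60129556511) (.leaf 140660212505)) (.node (.leaf 104689852810) (.leaf 172872475011)))))) (.node (.node (.node (.node (.node (.node (.leaf 1073742088) (.leaf 178778054144)) (.leaf 114353531537)) (.node (.leaf 15032390926) (.leaf 146565793947))) (.node (.node (.leaf 19327363358) (.leaf 111669180577)) (.node (.leaf 90731205787) (.leaf 163208796189)))) (.node (.node (.node (.node (.leaf 26306680970) (.leaf 185757376781)) (.leaf 78383182722)) (.node (.leaf 46170917761) (.leaf 155155730585))) (.node (.node (.leaf 57445193476) (.leaf 137975855757)) (.node (.leaf 102542368666) (.leaf 171798732193))))) (.node (.node (.node (.node (.node (.leaf 18790486429) (.leaf 181999282577)) (.leaf 74625085194)) (.node (.leaf 74625068428) (.leaf 150323891222))) (.node (.node (.leaf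 47244651544) (.leaf 134217760027)) (.node (.leaf 95563045143) (.leaf 166430022427)))) (.node (.node (.node (.leaf 34896615180) (.leaf 96099921825)) (.node (.leaf 86973107077) (.leaf 158913827594))) (.node (.node (.leaf 67645751057) (.leaf 142807696657)) (.node (.leaf 106837330336) (.leaf 175019956385))))))
def dF_96 : BT := .node dF_94 dF_95
def dF_97 : BT := .node (.node (.node (.node (.node (.node (.node (.leaf 1045) (.leaf 176630572187)) (.leaf 110595434263)) (.node (.leaf 28991046150) (.leaf 144418304270))) (.node (.node (.leaf 39728456976) (.leaf 117037885831)) (.node (.leaf 88583720201) (.leaf 154081988495)))) (.node (.node (.node (.node (.leaf 20937970587) (.leaf 183609895300)) (.leaf 121332855040)) (.node (.leaf 77846290188) (.leaf 153008240653))) (.node (.node (.leaf 49392135711) (.leaf 135828363520)) (.node (.leaf 99858002568) (.leaf 168040635551))))) (.node (.node (.node (.node (.node (.leaf 6979321890) (.leaf 179851793034)) (.leaf 115427273629)) (.node (.leaf 61203298722) (.leaf 147639536031)))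 (.node (.node (.leaf 8053067938) (.leaf 131533404826)) (.node (.leaf 92878689938) (.leaf 164819402120)))) (.node (.node (.node (.node (.leaf 29527907223) (.leaf 186831121937)) (.leaf 126164694419)) (.node (.leaf 83215011221) (.leaf 156766343697))) (.node (.node (.leaf 59592685463) (.leaf 139049599391)) (.node (.leaf 104152981780) (.leaf 173409345793)))))) (.node (.node (.node (.node (.node (.node (.leaf 1073742107) (.leaf 178241179914)) (.leaf 113279789471)) (.node (.leaf 32749130786) (.leaf 146028922909))) (.node (.node (.leaf 42949683229) (.leaf 128849049625)) (.node (.leaf 42412823712) (.leaf 162671925143)))) (.node (.node (.node (.node (.leaf 25232938767) (.leaf 185220508824)) (.leaf 123480334734)) (.node (.leaf 79456913921) (.leaf 152471375875))) (.node (.node (.leaf 56908330242) (.leaf 137438986259)) (.node (.leaf 102005486984) (.leaf 171798726402))))) (.node (.node (.node (.node (.node (.leaf 16643002261) (.leaf 181462408448)) (.leaf 74088214018)) (.node (.leaf 74088203542) (.leaf 149787020187)))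 (.node (.node (.leaf 46707774341) (.leaf 134217758468)) (.node (.leaf 95026174097) (.leaf 166430021380)))) (.node (.node (.node (.leaf 33822875541) (.leaf 30064782880)) (.node (.leaf 86973107080) (.leaf 158376953632))) (.node (.node (.leaf 28454174340) (.leaf 142270825356)) (.node (.leaf 106300465951) (.leaf 175019959046))))))
def dF_98 : BT := .node (.node (.node (.node (.node (.node (.node (.leaf 10200547458) (.leaf 153545123206)) (.leaf 111669176347)) (.node (.leaf 71940712460) (.leaf 145492051862))) (.node (.node (.leaf 41875941149) (.leaf 127775296770)) (.node (.leaf 89657463697) (.leaf 161598183058)))) (.node (.node (.node (.node (.leaf 23622325766) (.leaf 182536153984)) (.leaf 122406596999)) (.node (.leaf 34896627973) (.leaf 154081988499))) (.node (.node (.leaf 20937977990) (.leaf 96099925761)) (.node (.leaf 100931755547) (.leaf 158376959362))))) (.node (.node (.node (.node (.node (.leaf 15032389139) (.leaf 180388669455)) (.leaf 117037880589)) (.node (.leaf 15569262497) (.leaf 148713275809)))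 (.node (.node (.leaf 43486554270) (.leaf 133680888976)) (.node (.leaf 93415560989) (.leaf 165356280347)))) (.node (.node (.node (.node (.leaf 31138520348) (.leaf 187367992989)) (.leaf 83751871751)) (.node (.leaf 84825624337) (.leaf 157303211296))) (.node (.node (.leaf 61203298566) (.leaf 141197083545)) (.node (.leaf 105226723857) (.leaf 173946216991)))))) (.node (.node (.node (.node (.node (.node (.leaf 1073742102) (.leaf 165893154439)) (.leaf 114890392833)) (.node (.leaf 50465877922) (.leaf 147102664203))) (.node (.node (.leaf 44560296347) (.leaf 130459654657)) (.node (.leaf 85362496778) (.leaf 163745667231)))) (.node (.node (.node (.node (.leaf 28454165137) (.leaf 172335607169)) (.leaf 80530642722)) (.node (.leaf 82141269007) (.leaf 155692592136))) (.node (.node (.leaf 57982072344) (.leaf 131533406344)) (.node (.leaf 103079233551) (.leaf 172335598093))))) (.node (.node (.node (.node (.node (.leaf 10200552068) (.leaf 182536153623)) (.leaf 78920052482)) (.node (.leaf 75161945610) (.leaf 151934504324)))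 (.node (.node (.leaf 47781522581) (.leaf 134754631069)) (.node (.leaf 96099916165) (.leaf 137438993288)))) (.node (.node (.node (.leaf 16643007264) (.leaf 74088211075)) (.node (.leaf 87509979549) (.leaf 159450690954))) (.node (.node (.leaf 68719493142) (.leaf 143344567705)) (.node (.leaf 107374208027) (.leaf 175556830105))))))
def dF_99 : BT := .node dF_97 dF_98
def dF_100 : BT := .node dF_96 dF_99
def dF_101 : BT := .node (.node (.node (.node (.node (.node (.node (.leaf 529) (.leaf 176630567424)) (.leaf 62813922818)) (.node (.leaf 70330106267) (.leaf 144418309777))) (.node (.node (.leaf 39191585939) (.leaf 71940718599)) (.node (.leaf 41875952288) (.leaf 159987569947)))) (.node (.node (.node (.node (.leaf 10200552334) (.leaf 181462411906)) (.leaf 120795978913)) (.node (.leaf 77309429781) (.leaf 152471375389))) (.node (.node (.leaf 49392135699) (.leaf 135291502111)) (.node (.leaf 98247388943) (.leaf 168040635537))))) (.node (.node (.node (.node (.node (.leaf 10737418402) (.leaf 165893154562)) (.leaf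 115427267340)) (.node (.leaf 43486554508) (.leaf 147639529998))) (.node (.node (.leaf 536871071) (.leaf 130996533791)) (.node (.leaf 47244662285) (.leaf 164282538269)))) (.node (.node (.node (.node (.leaf 15032392580) (.leaf 182536154507)) (.leaf 79993795848)) (.node (.leaf 82678140187) (.leaf 156229472669))) (.node (.node (.leaf 24159205258) (.leaf 139049588748)) (.node (.leaf 103616110723) (.leaf 172872474905)))))) (.node (.node (.node (.node (.node (.node (.leaf 12884902161) (.leaf 178241180161)) (.leaf 113279782796)) (.node (.leaf 73551332497) (.leaf 146028922509))) (.node (.node (.leaf 42949683221) (.leaf 94489311104)) (.node (.leaf 90194334746) (.leaf 162135054111)))) (.node (.node (.node (.node (.leaf 24696067859) (.leaf 185220508681)) (.leaf 122943468188)) (.node (.leaf 79456913944) (.leaf 154618850061))) (.node (.node (.leaf 56371459225) (.leaf 136902115231)) (.node (.leaf 101468626591) (.leaf 170188119709))))) (.node (.node (.node (.node (.node (.leaf 16643002248) (.leaf 180925540507)) (.leaf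 117574757785)) (.node (.leaf 71940712481) (.leaf 105226734464))) (.node (.node (.leaf 46170909465) (.leaf 113279789455)) (.node (.leaf 94489303069) (.leaf 161598184069)))) (.node (.node (.node (.leaf 15569264520) (.leaf 95563045126)) (.node (.leaf 86436237068) (.leaf 158376948363))) (.node (.node (.leaf 64424515458) (.leaf 95026185376)) (.node (.leaf 106300465941) (.leaf 173946217091))))))
def dF_102 : BT := .node (.node (.node (.node (.node (.node (.node (.leaf 536873088) (.leaf 177167439494)) (.leaf 111669165832)) (.node (.leaf 71940719376) (.leaf 144955180807))) (.node (.node (.leaf 41875940232) (.leaf 127238425612)) (.node (.leaf 89120592667) (.leaf 161061312027)))) (.node (.node (.node (.node (.leaf 22548583703) (.leaf 184146766735)) (.leaf 121869726111)) (.node (.leaf 78383171862) (.leaf 153545111841))) (.node (.node (.leaf 50465877785) (.leaf 136365242629)) (.node (.leaf 100931755520) (.leaf 169114377619))))) (.node (.node (.node (.node (.node (.leaf 14495516687) (.leaf 180388666634)) (.leaf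 70866988175)) (.node (.leaf 65498255010) (.leaf 148713278097))) (.node (.node (.leaf 33286004483) (.leaf 133144017951)) (.node (.leaf 93415550093) (.leaf 165356279301)))) (.node (.node (.node (.node (.leaf 31138520336) (.leaf 187367992833)) (.leaf 82141279746)) (.node (.leaf 84288753306) (.leaf 157303214739))) (.node (.node (.leaf 60666427544) (.leaf 141197083537)) (.node (.leaf 104689852825) (.leaf 173946216977)))))) (.node (.node (.node (.node (.node (.node (.leaf 4831839384) (.leaf 178778056343)) (.leaf 114353521037)) (.node (.leaf 31138517920) (.leaf 146565788193))) (.node (.node (.leaf 44560295433) (.leaf 129922780809)) (.node (.leaf 91268076817) (.leaf 163745667217)))) (.node (.node (.node (.node (.leaf 11274295585) (.leaf 185757379865)) (.leaf 124554076833)) (.node (.leaf 81604387973) (.leaf 155692597134))) (.node (.node (.leaf 57445201311) (.leaf 137975857307)) (.node (.leaf 102542362657) (.leaf 163208796175))))) (.node (.node (.node (.node (.node (.leaf 19327357460) (.leaf 181999282591)) (.leaf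 119185370897)) (.node (.leaf 74625074591) (.leaf 149787020291))) (.node (.node (.leaf 47781522562) (.leaf 134754629506)) (.node (.leaf 96099916178) (.leaf 166966893459)))) (.node (.node (.node (.leaf 15569265056) (.leaf 120795972898)) (.node (.leaf 87509979541) (.leaf 158913825056))) (.node (.node (.leaf 28454174606) (.leaf 100394894734)) (.node (.leaf 107374207884) (.leaf 175556830088))))))
def dF_103 : BT := .node dF_101 dF_102
def dF_104 : BT := .node (.node (.node (.node (.node (.node (.node (.leaf 1693) (.leaf 177167437704)) (.leaf 67108890511)) (.node (.leaf 70866977297) (.leaf 144955180817))) (.node (.node (.leaf 18790491550) (.leaf 106300465922)) (.node (.leaf 88583721625) (.leaf 160524440981)))) (.node (.node (.node (.node (.leaf 21474841624) (.leaf 183609895707)) (.leaf 121332855069)) (.node (.leaf 77846300821) (.leaf 153008246429))) (.node (.node (.leaf 49929006746) (.leaf 135828373143)) (.node (.leaf 100394873990) (.leaf 168577506579))))) (.node (.node (.node (.node (.node (.leaf 536874142)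 (.leaf 179851798425)) (.leaf 115964134913)) (.node (.leaf 58518935072) (.leaf 148176407059))) (.node (.node (.leaf 22548583711) (.leaf 133144008193)) (.node (.leaf 92878689950) (.leaf 164819409295)))) (.node (.node (.node (.node (.leaf 30064775949) (.leaf 186831121951)) (.leaf 126164690208)) (.node (.leaf 83751882257) (.leaf 156766343705))) (.node (.node (.leaf 60129556499) (.leaf 140660212486)) (.node (.leaf 104152981761) (.leaf 173409345942)))))) (.node (.node (.node (.node (.node (.node (.leaf 5368710416) (.leaf 178241182369)) (.leaf 114353521026)) (.node (.leaf 68182615714) (.leaf 146565793941))) (.node (.node (.leaf 43486554262) (.leaf 129385920661)) (.node (.leaf 90731194759) (.leaf 163208788230)))) (.node (.node (.node (.node (.leaf 25232938881) (.leaf 184683637893)) (.leaf 123480339225)) (.node (.leaf 81067527057) (.leaf 155155725837))) (.node (.node (.leaf 56908330265) (.leaf 130996535302)) (.node (.leaf 102542368527) (.leaf 171798732819))))) (.node (.node (.node (.node (.node (.leaf 8053068064)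 (.leaf 181462411543)) (.leaf 108984823302)) (.node (.leaf 74088203529) (.leaf 150323891075))) (.node (.node (.leaf 46707780511) (.leaf 134217749132)) (.node (.leaf 59592693890) (.leaf 166430022156)))) (.node (.node (.node (.leaf 25232941069) (.leaf 96636781966)) (.node (.leaf 86973108509) (.leaf 158913827857))) (.node (.node (.leaf 67108880027) (.leaf 142270825627)) (.node (.leaf 106837336984) (.leaf 175019959059))))))
def dF_105 : BT := .node (.node (.node (.node (.node (.node (.node (.leaf 536873606) (.leaf 177704314259)) (.leaf 112206047381)) (.node (.leaf 28991046560) (.leaf 145492051841))) (.node (.node (.leaf 42412811274) (.leaf 127775307543)) (.node (.leaf 89657462282) (.leaf 141733959297)))) (.node (.node (.node (.node (.leaf 23622325787) (.leaf 184683637775)) (.leaf 122406597141)) (.node (.leaf 78920038284) (.leaf 154081983008))) (.node (.node (.leaf 54223967238) (.leaf 136902113668)) (.node (.leaf 101468626560) (.leaf 169651248663))))) (.node (.node (.node (.node (.node (.leaf 15569260160)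 (.leaf 180388667040)) (.leaf 117037886749)) (.node (.leaf 60666427527) (.leaf 149250149120))) (.node (.node (.leaf 38117844743) (.leaf 133680888984)) (.node (.leaf 93952432019) (.leaf 165356279303)))) (.node (.node (.node (.leaf 32212260109) (.leaf 98247384098)) (.node (.leaf 38654725921) (.leaf 157840085768))) (.node (.node (.leaf 61203298587) (.leaf 141197075331)) (.node (.leaf 57445212806) (.leaf 174483087875)))))) (.node (.node (.node (.node (.node (.node (.leaf 536871058) (.leaf 179314926976)) (.leaf 114890402586)) (.node (.leaf 21474840097) (.leaf 147102664965))) (.node (.node (.leaf 45634038408) (.leaf 130459662741)) (.node (.leaf 91804942880) (.leaf 149250149134)))) (.node (.node (.node (.node (.leaf 28991036033) (.leaf 186294247821)) (.leaf 125090952340)) (.node (.leaf 82141269148) (.leaf 155692601631))) (.node (.node (.leaf 58518943360) (.leaf 138512717708)) (.node (.leaf 103079239711) (.leaf 172335603869))))) (.node (.node (.node (.node (.node (.leaf 19864228503) (.leaf 183073024262)) (.leaf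 119722241943)) (.node (.leaf 75698816527) (.leaf 151934504345))) (.node (.node (.leaf 20401106312) (.leaf 128312180096)) (.node (.leaf 96636776200) (.leaf 167503764501)))) (.node (.node (.node (.leaf 38117843865) (.leaf 94489305633)) (.node (.leaf 88046850580) (.leaf 159450698907))) (.node (.node (.leaf 69256355329) (.leaf 143881438740)) (.node (.leaf 108447938566) (.leaf 176093701126))))))
def dF_106 : BT := .node dF_104 dF_105
def dF_107 : BT := .node dF_103 dF_106
def dF_108 : BT := .node dF_100 dF_107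
def dF_109 : BT := .node (.node (.node (.node (.node (.node (.node (.leaf 142) (.leaf 176093701151)) (.leaf 62277051910)) (.node (.leaf 70330106259) (.leaf 144418309764))) (.node (.node (.leaf 38654714909) (.leaf 20937978018)) (.node (.leaf 88046846368) (.leaf 159987569939)))) (.node (.node (.node (.node (.leaf 20401099545) (.leaf 183073024667)) (.leaf 76772569220)) (.node (.leaf 77309429762) (.leaf 152471375383))) (.node (.node (.leaf 48855264671) (.leaf 135291502103)) (.node (.leaf 97173646850) (.leaf 168040635520))))) (.node (.node (.node (.node (.node (.leaf 11274291864) (.leaf 179314927391)) (.leaf 115427263872)) (.node (.leaf 10200552737) (.leaf 147639535242))) (.node (.node (.leaf 19327357471) (.leaf 130996533783)) (.node (.leaf 92341808141) (.leaf 164282538261)))) (.node (.node (.node (.node (.leaf 28991036188) (.leaf 186294249761)) (.leaf 125090952329)) (.node (.leaf 82678140179) (.leaf 156229472661))) (.node (.node (.leaf 58518943389) (.leaf 139049588358)) (.node (.leaf 103616110747) (.leaf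 172872474895)))))) (.node (.node (.node (.node (.node (.node (.leaf 536873996) (.leaf 155155736078)) (.leaf 68719503746)) (.node (.leaf 73551332486) (.leaf 146028922888))) (.node (.node (.leaf 42949683217) (.leaf 128312178585)) (.node (.leaf 90194334740) (.leaf 162135054103)))) (.node (.node (.node (.node (.leaf 24159196829) (.leaf 185220508673)) (.leaf 122943457545)) (.node (.leaf 79456913938) (.leaf 154618859543))) (.node (.node (.leaf 56371459217) (.leaf 136902115223)) (.node (.leaf 101468626583) (.leaf 170188119701))))) (.node (.node (.node (.node (.node (.leaf 16106130573) (.leaf 180925540501)) (.leaf 117574757781)) (.node (.leaf 29527911456) (.leaf 149250149151))) (.node (.node (.leaf 46170909457) (.leaf 85362495375)) (.node (.leaf 94489303061) (.leaf 165893151386)))) (.node (.node (.node (.leaf 33286004503) (.leaf 21474848262)) (.node (.leaf 85899355270) (.leaf 158376956818))) (.node (.node (.leaf 63350773903) (.leaf 141733954565)) (.node (.leaf 59592696590) (.leaf 174483088030))))))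
def dF_110 : BT := .node (.node (.node (.node (.node (.node (.node (.leaf 8053065608) (.leaf 177167439776)) (.leaf 111132298273)) (.node (.leaf 28991046286) (.leaf 144955180827))) (.node (.node (.leaf 41339065729) (.leaf 127238436498)) (.node (.leaf 89120592659) (.leaf 161061312023)))) (.node (.node (.node (.node (.leaf 22548583690) (.leaf 184146763392)) (.leaf 121869726103)) (.node (.leaf 78383171856) (.leaf 153545111821))) (.node (.node (.leaf 50465877777) (.leaf 136365244047)) (.node (.leaf 100394884511) (.leaf 169114375042))))) (.node (.node (.node (.node (.node (.leaf 13958647065) (.leaf 157303220228)) (.leaf 115964144669)) (.node (.leaf 35970357154) (.leaf 148713267458))) (.node (.node (.leaf 38654714910) (.leaf 133144017947)) (.node (.leaf 93415560966) (.leaf 165356279296)))) (.node (.node (.node (.node (.leaf 30601649307) (.leaf 187367992077)) (.leaf 126701565471)) (.node (.leaf 84288753298) (.leaf 157303214722))) (.node (.node (.leaf 60666427538) (.leaf 126164694415)) (.node (.leaf 104689852817)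 (.leaf 148713284096)))))) (.node (.node (.node (.node (.node (.node (.leaf 1314) (.leaf 178778053516)) (.leaf 114353531545)) (.node (.leaf 41339067023) (.leaf 146565793923))) (.node (.node (.leaf 44560295425) (.leaf 129922791696)) (.node (.leaf 42949694722) (.leaf 163745667202)))) (.node (.node (.node (.node (.leaf 26306680983) (.leaf 185757379855)) (.leaf 94489310084)) (.node (.leaf 81604398097) (.leaf 155155730051))) (.node (.node (.leaf 57445201290) (.leaf 137975857299)) (.node (.leaf 60666437509) (.leaf 170724984098))))) (.node (.node (.node (.node (.node (.leaf 19327357321) (.leaf 181999282575)) (.leaf 119185370884)) (.node (.leaf 74625074583) (.leaf 150323891230))) (.node (.node (.leaf 21474847749) (.leaf 87509990790)) (.node (.leaf 95563045151) (.leaf 136365251458)))) (.node (.node (.node (.leaf 34896617601) (.leaf 105226727074)) (.node (.leaf 87509969793) (.leaf 158913827867))) (.node (.node (.leaf 67645751065) (.leaf 142807696665)) (.node (.leaf 107374208006) (.leaf 175556823812))))))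
def dF_111 : BT := .node dF_109 dF_110
def dF_112 : BT := .node (.node (.node (.node (.node (.node (.node (.leaf 1304) (.leaf 176630568608)) (.leaf 110595434271)) (.node (.leaf 70866976514) (.leaf 143344557958))) (.node (.node (.leaf 39728456982) (.leaf 126164694405)) (.node (.leaf 88583721617) (.leaf 160524433288)))) (.node (.node (.node (.node (.leaf 21474841616) (.leaf 183609895701)) (.leaf 121332855061)) (.node (.leaf 77846300810) (.leaf 153008246421))) (.node (.node (.leaf 49929006738) (.leaf 135828371589)) (.node (.leaf 99858007457) (.leaf 168577504258))))) (.node (.node (.node (.node (.node (.leaf 536871068) (.leaf 179851798417)) (.leaf 111669177216)) (.node (.leaf 18253611042) (.leaf 148176407044))) (.node (.node (.leaf 8053065631) (.leaf 85362506639)) (.node (.leaf 92878678924) (.leaf 164819408260)))) (.node (.node (.node (.node (.leaf 15032392710) (.leaf 186831121943)) (.leaf 126164694427)) (.node (.leaf 83215011229) (.leaf 156766343688))) (.node (.node (.leaf 59592685471) (.leaf 93952443023))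 (.node (.leaf 104152970637) (.leaf 173409340297)))))) (.node (.node (.node (.node (.node (.node (.leaf 536871067) (.leaf 178241185307)) (.leaf 113816649734)) (.node (.leaf 30601647522) (.leaf 146565793937))) (.node (.node (.leaf 43486553345) (.leaf 83215022222)) (.node (.leaf 90731204355) (.leaf 162671925151)))) (.node (.node (.node (.node (.leaf 25232938902) (.leaf 185220508448)) (.leaf 123480339204)) (.node (.leaf 34896628486) (.leaf 155155730048))) (.node (.node (.leaf 56908330257) (.leaf 137438986267)) (.node (.leaf 102005497627) (.leaf 171798727178))))) (.node (.node (.node (.node (.node (.leaf 16643002269) (.leaf 181462411537)) (.leaf 118111623073)) (.node (.leaf 74088203550) (.leaf 149787015072))) (.node (.node (.leaf 46707780490) (.leaf 134217758472)) (.node (.leaf 95026174105) (.leaf 166430021384)))) (.node (.node (.node (.leaf 33822875549) (.leaf 90731201038)) (.node (.leaf 86973108501) (.leaf 122943476619))) (.node (.node (.leaf 67108880019) (.leaf 142270825619)) (.node (.leaf 106837336978)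 (.leaf 175019956364))))))
def dF_113 : BT := .node (.node (.node (.node (.node (.node (.node (.leaf 3758097442) (.leaf 177704310666)) (.leaf 67645761678)) (.node (.leaf 71940719390) (.leaf 145492051341))) (.node (.node (.leaf 19327362950) (.leaf 127775303438)) (.node (.leaf 89657462276) (.leaf 161598183064)))) (.node (.node (.node (.node (.leaf 23622325779) (.leaf 184683635082)) (.leaf 122406596875)) (.node (.leaf 78920042888) (.leaf 154081988507))) (.node (.node (.leaf 53150225807) (.leaf 136902105600)) (.node (.leaf 100931755405) (.leaf 169651242250))))) (.node (.node (.node (.node (.node (.leaf 15032389147) (.leaf 180388669467)) (.leaf 117037886741)) (.node (.leaf 57982072322) (.leaf 148713278095))) (.node (.node (.leaf 42949683231) (.leaf 133680888980)) (.node (.leaf 93952420738) (.leaf 161061313031)))) (.node (.node (.node (.leaf 31675389069) (.leaf 97173641122)) (.node (.leaf 84825624345) (.leaf 157840085760))) (.node (.node (.leaf 61203298579) (.leaf 106837345155)) (.node (.leaf 105226723865)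 (.leaf 154081993220)))))) (.node (.node (.node (.node (.node (.node (.leaf 9126805666) (.leaf 178778053643)) (.leaf 114890401673)) (.node (.leaf 43486561186) (.leaf 147102664986))) (.node (.node (.leaf 19864234630) (.leaf 130459662477)) (.node (.leaf 91804946560) (.leaf 139586459554)))) (.node (.node (.node (.node (.leaf 28454165145) (.leaf 186294250759)) (.leaf 78920053903)) (.node (.leaf 82141269140) (.leaf 155692597005))) (.node (.node (.leaf 57982072321) (.leaf 138512728320)) (.node (.leaf 103079239703) (.leaf 172335603861))))) (.node (.node (.node (.node (.node (.leaf 19864228490) (.leaf 182536153631)) (.leaf 119722241924)) (.node (.leaf 49929012749) (.leaf 151934504337))) (.node (.node (.leaf 47781522589) (.leaf 128312178574)) (.node (.leaf 96636778754) (.leaf 167503763464)))) (.node (.node (.node (.leaf 38117843857) (.leaf 94489299202)) (.node (.leaf 88046850576) (.leaf 159450698899))) (.node (.node (.leaf 68719493146) (.leaf 100394894863)) (.node (.leaf 60129567874) (.leaf 175556828321))))))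
def dF_114 : BT := .node dF_112 dF_113
def dF_115 : BT := .node dF_111 dF_114
def dF_116 : BT := .node (.node (.node (.node (.node (.node (.node (.leaf 787) (.leaf 176630566666)) (.leaf 110595423874)) (.node (.leaf 29527916928) (.leaf 144418309785))) (.node (.node (.leaf 39191585947) (.leaf 42949682311)) (.node (.leaf 88583711109) (.leaf 130996540676)))) (.node (.node (.node (.node (.leaf 20937970568) (.leaf 183609891210)) (.leaf 77309440262)) (.node (.leaf 77309429789) (.leaf 152471369377))) (.node (.node (.leaf 49392135690) (.leaf 128849051140)) (.node (.leaf 98784271247) (.leaf 168040635543))))) (.node (.node (.node (.node (.node (.leaf 21) (.leaf 156766349190)) (.leaf 115427273621)) (.node (.leaf 16643003395) (.leaf 147639536023))) (.node (.node (.leaf 11274291871) (.leaf 131533404818)) (.node (.leaf 92341814433) (.leaf 159987570946)))) (.node (.node (.node (.node (.leaf 29527907210) (.leaf 186831120780)) (.leaf 126164694400)) (.node (.leaf 38654725512) (.leaf 154081988998))) (.node (.node (.leaf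 59592685446) (.leaf 139049599383)) (.node (.leaf 56908341519) (.leaf 172872472993)))))) (.node (.node (.node (.node (.node (.node (.leaf 1073741965) (.leaf 178241185301)) (.leaf 113279789463)) (.node (.leaf 73551332505) (.leaf 146028922901))) (.node (.node (.leaf 42949682314) (.leaf 128849049617)) (.node (.leaf 84288754693) (.leaf 162671917576)))) (.node (.node (.node (.node (.leaf 24696067865) (.leaf 185220508816)) (.leaf 122943468161)) (.node (.leaf 79456913948) (.leaf 154618850060))) (.node (.node (.leaf 24159204484) (.leaf 137438984704)) (.node (.leaf 102005497619) (.leaf 142807703310))))) (.node (.node (.node (.node (.node (.leaf 16643000206) (.leaf 180925539360)) (.leaf 117574757791)) (.node (.leaf 74088203536) (.leaf 149787020179))) (.node (.node (.leaf 19864234894) (.leaf 134217758464)) (.node (.leaf 95026174088) (.leaf 166430021376)))) (.node (.node (.node (.leaf 33822873229) (.leaf 50465877516)) (.node (.leaf 86973097730) (.leaf 158376956826))) (.node (.node (.leaf 65498257550) (.leaf 142270825606))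 (.node (.leaf 106300454923) (.leaf 173946217099))))))
def dF_117 : BT := .node (.node (.node (.node (.node (.node (.node (.leaf 9663678593) (.leaf 161598186758)) (.leaf 111669176339)) (.node (.leaf 71940718601) (.leaf 145492051856))) (.node (.node (.leaf 41875941141) (.leaf 127238436510)) (.node (.leaf 83215012610) (.leaf 153008248352)))) (.node (.node (.node (.node (.leaf 10200552865) (.leaf 184146766747)) (.leaf 122406586380)) (.node (.leaf 78383171870) (.leaf 154081978498))) (.node (.node (.leaf 20401106849) (.leaf 136365244184)) (.node (.leaf 100931755539) (.leaf 169114377625))))) (.node (.node (.node (.node (.node (.leaf 15032389130) (.leaf 169114380300)) (.leaf 71940730114)) (.node (.leaf 26306680717) (.leaf 148713278105))) (.node (.node (.leaf 29527907230) (.leaf 133144013472)) (.node (.leaf 93415560981) (.leaf 165356280343)))) (.node (.node (.node (.node (.leaf 31138520344) (.leaf 187367992981)) (.leaf 89657464226)) (.node (.leaf 38654725920) (.leaf 157303214747))) (.node (.node (.leaf 60666427521)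 (.leaf 141197083528)) (.node (.leaf 56908341665) (.leaf 173946216983)))))) (.node (.node (.node (.node (.node (.node (.leaf 536871049) (.leaf 178778056351)) (.leaf 110595435146)) (.node (.leaf 40802199202) (.leaf 147102664978))) (.node (.node (.leaf 44560296339) (.leaf 129922791708)) (.node (.leaf 91268076825) (.leaf 163745667223)))) (.node (.node (.node (.node (.leaf 13958650400) (.leaf 185757379233)) (.leaf 105763599364)) (.node (.leaf 81604398107) (.leaf 155692601619))) (.node (.node (.leaf 57982072338) (.leaf 137975855776)) (.node (.leaf 103079229700) (.leaf 172335597826))))) (.node (.node (.node (.node (.node (.leaf 19327357468) (.leaf 182536153617)) (.leaf 119185370905)) (.node (.leaf 75161945619) (.leaf 105763605775))) (.node (.node (.leaf 47781522568) (.leaf 134754631061)) (.node (.leaf 96099916184) (.leaf 166966893467)))) (.node (.node (.node (.leaf 15569265185) (.leaf 60129567906)) (.node (.leaf 87509978122) (.leaf 159450690694))) (.node (.node (.leaf 68719493136) (.leaf 143344567684)) (.node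 (.leaf 107374208019) (.leaf 175556830099))))))
def dF_118 : BT := .node dF_116 dF_117
def dF_119 : BT := .node (.node (.node (.node (.node (.node (.node (.leaf 7516194562) (.leaf 177167443219)) (.leaf 111132295173)) (.node (.leaf 70866977305) (.leaf 144955171589))) (.node (.node (.leaf 40802199057) (.leaf 111132306179)) (.node (.leaf 41875952289) (.leaf 160524440987)))) (.node (.node (.node (.node (.leaf 21474841611) (.leaf 181999282948)) (.leaf 121869726088)) (.node (.leaf 77846300829) (.leaf 153545117457))) (.node (.node (.leaf 49929006731) (.leaf 135828373151)) (.node (.leaf 100394884482) (.leaf 168577506585))))) (.node (.node (.node (.node (.node (.leaf 13958647044) (.leaf 179851796001)) (.leaf 115964144661)) (.node (.leaf 11274295457) (.leaf 148176407067))) (.node (.node (.leaf 33286004510) (.leaf 133144017941)) (.node (.leaf 76235674530) (.leaf 164819409309)))) (.node (.node (.node (.node (.leaf 30064778261) (.leaf 187367991044)) (.leaf 126701557248)) (.node (.leaf 83751882263) (.leaf 156766343709)))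 (.node (.node (.leaf 60129556503) (.leaf 140660212499)) (.node (.leaf 104689852800) (.leaf 173409345950)))))) (.node (.node (.node (.node (.node (.node (.leaf 11274291857) (.leaf 178241182723)) (.leaf 114353530632)) (.node (.leaf 17179874306) (.leaf 146565793162))) (.node (.node (.leaf 43486554268) (.leaf 129385920665)) (.node (.leaf 90731205779) (.leaf 163208796181)))) (.node (.node (.node (.node (.leaf 11274295456) (.leaf 172335607040)) (.leaf 123480339231)) (.node (.leaf 81067527065) (.leaf 155155730577))) (.node (.node (.leaf 23622333838) (.leaf 137975855748)) (.node (.leaf 102542368660) (.leaf 171798732827))))) (.node (.node (.node (.node (.node (.leaf 18790486421) (.leaf 181462411551)) (.leaf 118648494113)) (.node (.leaf 74625074566) (.leaf 150323882758))) (.node (.node (.leaf 47244651538) (.leaf 134217760019)) (.node (.leaf 95563045124) (.leaf 166430022419)))) (.node (.node (.node (.leaf 34896617618) (.leaf 75161939617)) (.node (.leaf 41875951884) (.leaf 158913827861))) (.node (.node (.leaf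 67645741702) (.leaf 96099927302)) (.node (.leaf 106837336961) (.leaf 175019959065))))))
def dF_120 : BT := .node (.node (.node (.node (.node (.node (.node (.leaf 11811161231) (.leaf 177704314267)) (.leaf 112206047387)) (.node (.leaf 28991046689) (.leaf 145492051843))) (.node (.node (.leaf 42412812183) (.leaf 127775307551)) (.node (.leaf 89657463709) (.leaf 162135046538)))) (.node (.node (.node (.node (.leaf 24159196806) (.leaf 184683637785)) (.leaf 122406597149)) (.node (.leaf 78920042903) (.leaf 154618859008))) (.node (.node (.leaf 21474849697) (.leaf 136902104200)) (.node (.leaf 101468615944) (.leaf 169651248671))))) (.node (.node (.node (.node (.node (.leaf 15569260177) (.leaf 180925539338)) (.leaf 85362502912)) (.node (.leaf 60666421153) (.leaf 149250138764))) (.node (.node (.leaf 23622325763) (.leaf 133680888988)) (.node (.leaf 93952432027) (.leaf 165893145601)))) (.node (.node (.node (.leaf 15569264388) (.leaf 89657459232)) (.node (.leaf 85362495379) (.leaf 157840085789))) (.node (.node (.leaf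 61740161289) (.leaf 141733954578)) (.node (.leaf 105763594897) (.leaf 174483082253)))))) (.node (.node (.node (.node (.node (.node (.leaf 1073742081) (.leaf 179314924556)) (.leaf 114890396065)) (.node (.leaf 44560302862) (.leaf 101468637600))) (.node (.node (.leaf 19864228487) (.leaf 130459662749)) (.node (.leaf 92341818897) (.leaf 164282531844)))) (.node (.node (.node (.node (.leaf 28991033868) (.leaf 186294250898)) (.leaf 125090947852)) (.node (.leaf 82141265568) (.leaf 156229463042))) (.node (.node (.leaf 58518943366) (.leaf 138512728343)) (.node (.leaf 103616110720) (.leaf 172335602976))))) (.node (.node (.node (.node (.node (.leaf 10200552198) (.leaf 183073020301)) (.leaf 96099921805)) (.node (.leaf 76235676930) (.leaf 151934504334))) (.node (.node (.leaf 48855264644) (.leaf 135291500552)) (.node (.leaf 96636787221) (.leaf 167503764509)))) (.node (.node (.node (.leaf 38654710150) (.leaf 93952432000)) (.node (.leaf 88046850584) (.leaf 159450697120))) (.node (.node (.leaf 69793226369) (.leaf 143881438748))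 (.node (.leaf 108447950101) (.leaf 176093701137))))))
def dF_121 : BT := .node dF_119 dF_120
def dF_122 : BT := .node dF_118 dF_121
def dF_123 : BT := .node dF_115 dF_122
def dF_124 : BT := .node dF_108 dF_123
def dF_125 : BT := .node dF_93 dF_124
def dF_126 : BT := .node dF_62 dF_125
def dF : BT := dF_126
def dP_0 : BT := .node (.node (.node (.node (.node (.node (.node (.leaf 0) (.leaf 21506)) (.leaf 6799)) (.node (.node (.leaf 3726) (.leaf 34562)) (.leaf 13472))) (.node (.node (.node (.leaf 289) (.leaf 27278)) (.leaf 9350)) (.node (.leaf 4994) (.leaf 17807)))) (.node (.node (.node (.node (.leaf 33) (.leaf 24096)) (.leaf 7944)) (.node (.node (.leaf 4622) (.leaf 37508)) (.leaf 16136))) (.node (.node (.node (.leaf 2718) (.leaf 30982)) (.leaf 11142)) (.node (.leaf 5774) (.leaf 19850))))) (.node (.node (.node (.node (.node (.leaf 21) (.leaf 22671)) (.leaf 6945)) (.node (.node (.leaf 4486) (.leaf 36232)) (.leaf 14240))) (.node (.node (.node (.leaf 2447) (.leaf 29198)) (.leaf 10127)) (.node (.leaf 5408)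 (.leaf 18694)))) (.node (.node (.node (.node (.leaf 140) (.leaf 25089)) (.leaf 9102)) (.node (.node (.leaf 4751) (.leaf 40960)) (.leaf 16910))) (.node (.node (.node (.leaf 3590) (.leaf 32518)) (.leaf 11936)) (.node (.leaf 6018) (.leaf 20750)))))) (.node (.node (.node (.node (.node (.node (.leaf 17) (.leaf 22414)) (.leaf 6918)) (.node (.node (.leaf 3745) (.leaf 35456)) (.leaf 13698))) (.node (.node (.node (.leaf 2433) (.leaf 28430)) (.leaf 9999)) (.node (.leaf 5122) (.leaf 18444)))) (.node (.node (.node (.node (.leaf 132) (.leaf 24322)) (.leaf 8079)) (.node (.node (.leaf 4641) (.leaf 38916)) (.leaf 16390))) (.node (.node (.node (.leaf 3360) (.leaf 32270)) (.leaf 11680)) (.node (.leaf 5890) (.leaf 20098))))) (.node (.node (.node (.node (.node (.leaf 28) (.leaf 23951)) (.leaf 7182)) (.node (.node (.leaf 4512) (.leaf 37006)) (.leaf 14854))) (.node (.node (.node (.leaf 2692) (.leaf 30734)) (.leaf 11022)) (.node (.leaf 5647) (.leaf 19342)))) (.node (.node (.node (.node (.leaf 258) (.leaf 26382)) (.leaf 9230))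 (.node (.node (.leaf 4878) (.leaf 42372)) (.leaf 17666))) (.node (.node (.node (.leaf 3616) (.leaf 33798)) (.leaf 13450)) (.node (.leaf 6304) (.leaf 21258))))))
def dP_1 : BT := .node (.node (.node (.node (.node (.node (.node (.leaf 15) (.leaf 22146)) (.leaf 6817)) (.node (.node (.leaf 3742) (.leaf 35328)) (.leaf 13583))) (.node (.node (.node (.leaf 1952) (.leaf 27534)) (.leaf 9986)) (.node (.leaf 5024) (.leaf 18438)))) (.node (.node (.node (.node (.leaf 129) (.leaf 24207)) (.leaf 7951)) (.node (.node (.leaf 4638) (.leaf 38152)) (.leaf 16143))) (.node (.node (.node (.leaf 2721) (.leaf 31878)) (.leaf 11662)) (.node (.leaf 5792) (.leaf 19855))))) (.node (.node (.node (.node (.node (.leaf 24) (.leaf 22918)) (.leaf 7055)) (.node (.node (.leaf 4495) (.leaf 36610)) (.leaf 14342))) (.node (.node (.node (.leaf 2464) (.leaf 30342)) (.leaf 10242)) (.node (.leaf 5644) (.leaf 18946)))) (.node (.node (.node (.node (.leaf 160) (.leaf 25231)) (.leaf 9120)) (.node (.node (.leaf 4769) (.leaf 41088)) (.leaf 17154)))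 (.node (.node (.node (.leaf 3599) (.leaf 33160)) (.leaf 12936)) (.node (.leaf 6048) (.leaf 20768)))))) (.node (.node (.node (.node (.node (.node (.leaf 19) (.leaf 22536)) (.leaf 6927)) (.node (.node (.leaf 4000) (.leaf 35460)) (.leaf 14222))) (.node (.node (.node (.leaf 2438) (.leaf 28942)) (.leaf 10120)) (.node (.leaf 5152) (.leaf 18574)))) (.node (.node (.node (.node (.leaf 136) (.leaf 24838)) (.leaf 8326)) (.node (.node (.leaf 4748) (.leaf 39306)) (.leaf 16783))) (.node (.node (.node (.leaf 3585) (.leaf 32288)) (.leaf 11782)) (.node (.leaf 5920) (.leaf 20366))))) (.node (.node (.node (.node (.node (.leaf 30) (.leaf 24078)) (.leaf 7426)) (.node (.node (.leaf 4612) (.leaf 37126)) (.leaf 16002))) (.node (.node (.node (.leaf 2702) (.leaf 30752)) (.leaf 11040)) (.node (.leaf 5665) (.leaf 19360)))) (.node (.node (.node (.node (.leaf 286) (.leaf 26638)) (.leaf 9248)) (.node (.leaf 4896) (.leaf 17802))) (.node (.node (.node (.leaf 3716) (.leaf 34062)) (.leaf 13454)) (.node (.leaf 6790) (.leaf 21263))))))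
def dP_2 : BT := .node dP_0 dP_1
def dP_3 : BT := .node (.node (.node (.node (.node (.node (.node (.leaf 14) (.leaf 21760)) (.leaf 6816)) (.node (.node (.leaf 3727) (.leaf 35074)) (.leaf 13582))) (.node (.node (.node (.leaf 1824) (.leaf 27530)) (.leaf 9478)) (.node (.leaf 4998) (.leaf 18308)))) (.node (.node (.node (.node (.leaf 128) (.leaf 24206)) (.leaf 7948)) (.node (.node (.leaf 4623) (.leaf 38024)) (.leaf 16142))) (.node (.node (.node (.leaf 2720) (.leaf 31232)) (.leaf 11658)) (.node (.leaf 5775) (.leaf 19854))))) (.node (.node (.node (.node (.node (.leaf 22) (.leaf 22688)) (.leaf 7052)) (.node (.node (.leaf 4494) (.leaf 36494)) (.leaf 14338))) (.node (.node (.node (.leaf 2462) (.leaf 29830)) (.leaf 10144)) (.node (.leaf 5640) (.leaf 18831)))) (.node (.node (.node (.node (.leaf 158) (.leaf 25230)) (.leaf 9103)) (.node (.node (.leaf 4768) (.leaf 40961)) (.leaf 16911))) (.node (.node (.node (.leaf 3598) (.leaf 33028)) (.leaf 12420)) (.node (.leaf 6022) (.leaf 20751)))))) (.node (.node (.node (.node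 (.node (.node (.leaf 18) (.leaf 22415)) (.leaf 6926)) (.node (.node (.leaf 3872) (.leaf 35457)) (.leaf 13702))) (.node (.node (.node (.leaf 2436) (.leaf 28550)) (.leaf 10016)) (.node (.leaf 5126) (.leaf 18447)))) (.node (.node (.node (.node (.leaf 134) (.leaf 24834)) (.leaf 8322)) (.node (.node (.leaf 4742) (.leaf 39176)) (.leaf 16770))) (.node (.node (.node (.leaf 3584) (.leaf 32271)) (.leaf 11778)) (.node (.leaf 5894) (.leaf 20353))))) (.node (.node (.node (.node (.node (.leaf 29) (.leaf 23968)) (.leaf 7183)) (.node (.node (.leaf 4513) (.leaf 37122)) (.leaf 14980))) (.node (.node (.node (.leaf 2696) (.leaf 30735)) (.leaf 11023)) (.node (.leaf 5664) (.leaf 19343)))) (.node (.node (.node (.node (.leaf 262) (.leaf 26634)) (.leaf 9231)) (.node (.node (.leaf 4879) (.leaf 42756)) (.leaf 17670))) (.node (.node (.node (.leaf 3617) (.leaf 34052)) (.leaf 13452)) (.node (.leaf 6788) (.leaf 21262))))))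
def dP_4 : BT := .node (.node (.node (.node (.node (.node (.node (.leaf 16) (.leaf 22150)) (.leaf 6916)) (.node (.node (.leaf 3744) (.leaf 35329)) (.leaf 13600))) (.node (.node (.node (.leaf 2432) (.leaf 27650)) (.leaf 9998)) (.node (.leaf 5025) (.leaf 18442)))) (.node (.node (.node (.node (.leaf 130) (.leaf 24224)) (.leaf 8074)) (.node (.node (.leaf 4640) (.leaf 38282)) (.leaf 16386))) (.node (.node (.node (.leaf 3232) (.leaf 32136)) (.leaf 11663)) (.node (.leaf 5793) (.leaf 19872))))) (.node (.node (.node (.node (.node (.leaf 25) (.leaf 23950)) (.leaf 7176)) (.node (.node (.leaf 4510) (.leaf 36614)) (.leaf 14852))) (.node (.node (.node (.leaf 2465) (.leaf 30600)) (.leaf 10374)) (.node (.leaf 5646) (.leaf 18950)))) (.node (.node (.node (.node (.leaf 161) (.leaf 25350)) (.leaf 9224)) (.node (.node (.leaf 4872) (.leaf 41089)) (.leaf 17550))) (.node (.node (.node (.leaf 3614) (.leaf 33546)) (.leaf 13446)) (.node (.leaf 6049) (.leaf 20870)))))) (.node (.node (.node (.node (.node (.node (.leaf 20) (.leaf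 22670)) (.leaf 6944)) (.node (.node (.leaf 4484) (.leaf 35588)) (.leaf 14223))) (.node (.node (.node (.leaf 2446) (.leaf 29071)) (.leaf 10126)) (.node (.leaf 5153) (.leaf 18690)))) (.node (.node (.node (.node (.leaf 138) (.leaf 25088)) (.leaf 9090)) (.node (.node (.leaf 4750) (.leaf 39940)) (.leaf 16904))) (.node (.node (.node (.leaf 3588) (.leaf 32514)) (.leaf 11808)) (.node (.leaf 5921) (.leaf 20367))))) (.node (.node (.node (.node (.node (.leaf 32) (.leaf 24079)) (.leaf 7430)) (.node (.node (.leaf 4614) (.leaf 37382)) (.leaf 16015))) (.node (.node (.node (.leaf 2703) (.leaf 30978)) (.leaf 11138)) (.node (.leaf 5770) (.leaf 19462)))) (.node (.node (.node (.node (.leaf 288) (.leaf 26754)) (.leaf 9346)) (.node (.leaf 4897) (.leaf 17806))) (.node (.node (.node (.leaf 3720) (.leaf 34063)) (.leaf 13455)) (.node (.leaf 6798) (.leaf 21280))))))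
def dP_5 : BT := .node dP_3 dP_4
def dP_6 : BT := .node dP_2 dP_5
def dP : BT := dP_6
def dRels : List (List ℕ) := [[], [0, 1], [1, 0], [2, 3], [3, 2], [4, 5], [5, 4], [6, 7], [7, 6], [8, 9], [9, 8], [10, 11], [11, 10], [12, 13], [13, 12], [14, 15], [15, 14], [16, 17], [17, 16], [18, 19], [19, 18], [20, 21], [21, 20], [22, 23], [23, 22], [24, 25], [25, 24], [26, 27], [27, 26], [28, 29], [29, 28], [30, 31], [31, 30], [32, 33], [33, 32], [0, 0, 0], [1, 1, 1], [2, 2], [3, 3], [4, 4], [5, 5], [6, 6], [7, 7], [8, 8], [9, 9], [10, 10], [11, 11], [0, 2, 0, 2, 0, 2], [3, 1, 3, 1, 3, 1], [2, 4, 2, 4, 2, 4], [5, 3, 5, 3, 5, 3], [4, 6, 4, 6, 4, 6], [7, 5, 7, 5, 7, 5], [6, 8, 6, 8, 6, 8], [9, 7, 9, 7, 9, 7], [8, 10, 8, 10, 8, 10], [11, 9, 11, 9, 11, 9], [0, 4, 0, 4], [5, 1, 5, 1], [0, 6, 0, 6], [7, 1, 7, 1], [0, 8, 0, 8], [9, 1, 9, 1], [0, 10, 0, 10], [11, 1, 11, 1], [2, 6, 2, 6], [7, 3, 7, 3], [2, 8, 2, 8], [9, 3, 9, 3], [2, 10, 2, 10], [11, 3, 11, 3], [4, 8, 4, 8], [9, 5, 9, 5], [4, 10, 4, 10], [11, 5, 11, 5],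 [6, 10, 6, 10], [11, 7, 11, 7], [12, 12], [13, 13], [12, 0, 13, 1], [0, 12, 1, 13], [12, 2, 13, 3], [2, 12, 3, 13], [12, 6, 13, 7], [6, 12, 7, 13], [12, 8, 13, 9], [8, 12, 9, 13], [12, 10, 13, 11], [10, 12, 11, 13], [12, 4, 12, 4, 12, 4, 12, 4, 12, 4, 12, 4], [5, 13, 5, 13, 5, 13, 5, 13, 5, 13, 5, 13], [12, 4, 12, 4, 12, 4, 2, 5, 13, 5, 13, 5, 13, 3], [2, 12, 4, 12, 4, 12, 4, 3, 5, 13, 5, 13, 5, 13], [12, 4, 12, 4, 12, 4, 4, 5, 13, 5, 13, 5, 13, 5], [4, 12, 4, 12, 4, 12, 4, 5, 5, 13, 5, 13, 5, 13], [12, 4, 12, 4, 12, 4, 6, 5, 13, 5, 13, 5, 13, 7], [6, 12, 4, 12, 4, 12, 4, 7, 5, 13, 5, 13, 5, 13], [12, 4, 12, 4, 12, 4, 8, 5, 13, 5, 13, 5, 13, 9], [8, 12, 4, 12, 4, 12, 4, 9, 5, 13, 5, 13, 5, 13], [12, 4, 12, 4, 12, 4, 10, 5, 13, 5, 13, 5, 13, 11], [10, 12, 4, 12, 4, 12, 4, 11, 5, 13, 5, 13, 5, 13], [12, 4, 12, 4, 12, 4, 12, 5, 13, 5, 13, 5, 13, 13], [12, 12, 4, 12, 4, 12, 4, 13, 5, 13, 5, 13, 5, 13], [12, 4, 12, 4, 12, 4, 0, 5, 13, 5, 13, 5, 13, 0], [1, 12, 4, 12, 4, 12, 4, 1, 5, 13, 5, 13, 5, 13], [12,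 4, 2, 1, 6, 4, 2, 0, 8, 6, 4, 2, 10, 8, 6, 4, 13, 5, 7, 9, 11, 3, 5, 7, 9, 1, 3, 5, 7, 0, 3, 5], [4, 2, 1, 6, 4, 2, 0, 8, 6, 4, 2, 10, 8, 6, 4, 12, 5, 7, 9, 11, 3, 5, 7, 9, 1, 3, 5, 7, 0, 3, 5, 13], [12, 1, 2, 4, 6, 10, 12, 1, 2, 4, 6, 10, 12, 1, 2, 4, 6, 10, 12, 1, 2, 4, 6, 10, 12, 1, 2, 4, 6, 10], [11, 7, 5, 3, 0, 13, 11, 7, 5, 3, 0, 13, 11, 7, 5, 3, 0, 13, 11, 7, 5, 3, 0, 13, 11, 7, 5, 3, 0, 13], [14, 14, 14, 17], [16, 15, 15, 15], [16, 0, 17, 1], [0, 16, 1, 17], [16, 2, 17, 3], [2, 16, 3, 17], [16, 4, 17, 5], [4, 16, 5, 17], [16, 6, 17, 7], [6, 16, 7, 17], [16, 8, 17, 9], [8, 16, 9, 17], [16, 10, 17, 11], [10, 16, 11, 17], [16, 12, 17, 13], [12, 16, 13, 17], [16, 14, 17, 15], [14, 16, 15, 17], [14, 0, 15, 1, 19], [18, 0, 14, 1, 15], [18, 0, 19, 1], [0, 18, 1, 19], [18, 2, 19, 3], [2, 18, 3, 19], [18, 4, 19, 5], [4, 18, 5, 19], [18, 6, 19, 7], [6, 18, 7, 19], [18, 8, 19, 9], [8, 18, 9, 19], [18, 10, 19, 11], [10, 18, 11, 19], [18, 12, 19, 13], [12, 18, 13, 19], [18, 14, 19, 15], [14, 18, 15, 19],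 [14, 4, 15, 5, 21], [20, 4, 14, 5, 15], [20, 0, 21, 1], [0, 20, 1, 21], [20, 2, 21, 3], [2, 20, 3, 21], [20, 4, 21, 5], [4, 20, 5, 21], [20, 6, 21, 7], [6, 20, 7, 21], [20, 8, 21, 9], [8, 20, 9, 21], [20, 10, 21, 11], [10, 20, 11, 21], [20, 12, 21, 13], [12, 20, 13, 21], [20, 14, 21, 15], [14, 20, 15, 21], [14, 8, 15, 9, 23], [22, 8, 14, 9, 15], [22, 0, 23, 1], [0, 22, 1, 23], [22, 2, 23, 3], [2, 22, 3, 23], [22, 4, 23, 5], [4, 22, 5, 23], [22, 6, 23, 7], [6, 22, 7, 23], [22, 8, 23, 9], [8, 22, 9, 23], [22, 10, 23, 11], [10, 22, 11, 23], [22, 12, 23, 13], [12, 22, 13, 23], [22, 14, 23, 15], [14, 22, 15, 23], [14, 10, 15, 11, 25], [24, 10, 14, 11, 15], [24, 0, 25, 1], [0, 24, 1, 25], [24, 2, 25, 3], [2, 24, 3, 25], [24, 4, 25, 5], [4, 24, 5, 25], [24, 6, 25, 7], [6, 24, 7, 25], [24, 8, 25, 9], [8, 24, 9, 25], [24, 10, 25, 11], [10, 24, 11, 25], [24, 12, 25, 13], [12, 24, 13, 25], [24, 14, 25, 15], [14, 24, 15, 25], [12, 14, 13, 14, 27], [26, 15, 12, 15, 13], [26, 0, 27, 1], [0, 26, 1, 27], [26, 2, 27,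 3], [2, 26, 3, 27], [26, 4, 27, 5], [4, 26, 5, 27], [26, 6, 27, 7], [6, 26, 7, 27], [26, 8, 27, 9], [8, 26, 9, 27], [26, 10, 27, 11], [10, 26, 11, 27], [26, 12, 27, 13], [12, 26, 13, 27], [26, 14, 27, 15], [14, 26, 15, 27], [12, 4, 12, 4, 12, 4, 14, 5, 13, 5, 13, 5, 13, 14, 29], [28, 15, 12, 4, 12, 4, 12, 4, 15, 5, 13, 5, 13, 5, 13], [28, 0, 29, 1], [0, 28, 1, 29], [28, 2, 29, 3], [2, 28, 3, 29], [28, 4, 29, 5], [4, 28, 5, 29], [28, 6, 29, 7], [6, 28, 7, 29], [28, 8, 29, 9], [8, 28, 9, 29], [28, 10, 29, 11], [10, 28, 11, 29], [28, 12, 29, 13], [12, 28, 13, 29], [28, 14, 29, 15], [14, 28, 15, 29], [14, 2, 4, 6, 4, 2, 15, 3, 5, 7, 5, 3, 31], [30, 2, 4, 6, 4, 2, 14, 3, 5, 7, 5, 3, 15], [30, 0, 31, 1], [0, 30, 1, 31], [30, 2, 31, 3], [2, 30, 3, 31], [30, 4, 31, 5], [4, 30, 5, 31], [30, 6, 31, 7], [6, 30, 7, 31], [30, 8, 31, 9], [8, 30, 9, 31], [30, 10, 31, 11], [10, 30, 11, 31], [30, 12, 31, 13], [12, 30, 13, 31], [30, 14, 31, 15], [14, 30, 15, 31], [14, 12, 4, 12, 4, 12, 4, 2, 14, 12, 4, 12, 4, 12, 4,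 2, 14, 12, 4, 12, 4, 12, 4, 2, 33], [32, 3, 5, 13, 5, 13, 5, 13, 15, 3, 5, 13, 5, 13, 5, 13, 15, 3, 5, 13, 5, 13, 5, 13, 15], [32, 0, 33, 1], [0, 32, 1, 33], [32, 2, 33, 3], [2, 32, 3, 33], [32, 4, 33, 5], [4, 32, 5, 33], [32, 6, 33, 7], [6, 32, 7, 33], [32, 8, 33, 9], [8, 32, 9, 33], [32, 10, 33, 11], [10, 32, 11, 33], [32, 12, 33, 13], [12, 32, 13, 33], [32, 14, 33, 15], [14, 32, 15, 33], [16, 18, 17, 19], [18, 16, 19, 17], [16, 20, 17, 21], [20, 16, 21, 17], [16, 22, 17, 23], [22, 16, 23, 17], [16, 24, 17, 25], [24, 16, 25, 17], [16, 26, 17, 27], [26, 16, 27, 17], [16, 28, 17, 29], [28, 16, 29, 17], [16, 30, 17, 31], [30, 16, 31, 17], [16, 32, 17, 33], [32, 16, 33, 17], [18, 20, 19, 21], [20, 18, 21, 19], [18, 22, 19, 23], [22, 18, 23, 19], [18, 24, 19, 25], [24, 18, 25, 19], [18, 26, 19, 27], [26, 18, 27, 19], [18, 28, 19, 29], [28, 18, 29, 19], [18, 30, 19, 31], [30, 18, 31, 19], [18, 32, 19, 33], [32, 18, 33, 19], [20, 22, 21, 23], [22, 20, 23, 21], [20, 24, 21, 25], [24, 20, 25, 21], [20, 26,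 21, 27], [26, 20, 27, 21], [20, 28, 21, 29], [28, 20, 29, 21], [20, 30, 21, 31], [30, 20, 31, 21], [20, 32, 21, 33], [32, 20, 33, 21], [22, 24, 23, 25], [24, 22, 25, 23], [22, 26, 23, 27], [26, 22, 27, 23], [22, 28, 23, 29], [28, 22, 29, 23], [22, 30, 23, 31], [30, 22, 31, 23], [22, 32, 23, 33], [32, 22, 33, 23], [24, 26, 25, 27], [26, 24, 27, 25], [24, 28, 25, 29], [28, 24, 29, 25], [24, 30, 25, 31], [30, 24, 31, 25], [24, 32, 25, 33], [32, 24, 33, 25], [26, 28, 27, 29], [28, 26, 29, 27], [26, 30, 27, 31], [30, 26, 31, 27], [26, 32, 27, 33], [32, 26, 33, 27], [28, 30, 29, 31], [30, 28, 31, 29], [28, 32, 29, 33], [32, 28, 33, 29], [30, 32, 31, 33], [32, 30, 33, 31], [27, 16], [17, 26]]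
def dD : Data := ⟨17, dF, dP, dRels, [0, 2, 4, 6, 8, 10, 12]⟩
def dJ0 : List (List ℕ) := [[1, 0], [1, 0], [1, 0], [1, 0], [1, 0], [1, 0], [1, 0], [0, 0], [0, 0], [0, 0], [345, 0, 18], [0, 0], [282, 0, 18, 20, 22], [0, 0], [131, 1, 27, 1, 26], [0, 0], [139, 3, 31, 8, 30], [0, 0], [153, 1, 35, 5, 34], [0, 0], [0, 0], [175, 1, 41, 9, 40], [177, 1, 41, 11, 40], [0, 0], [195, 1, 47, 11, 46], [0, 0], [0, 0], [0, 0], [225, 3, 55, 4, 54], [233, 3, 55, 12, 54], [0, 0], [241, 1, 61, 3, 60], [243, 1, 61, 5, 60], [245, 1, 61, 7, 60], [0, 0], [257, 1, 69, 1, 68], [259, 1, 69, 3, 68], [261, 1, 69, 5, 68], [263, 1, 69, 7, 68], [265, 1, 69, 9, 68], [267, 1, 69, 11, 68], [269, 1, 69, 13, 68], [0, 0], [0, 0], [129, 2, 29, 27, 14, 86], [146, 1, 88, 27, 14], [0, 0], [38, 1, 87, 92], [130, 4, 31, 0, 14, 92], [131, 0, 86, 91, 92], [0, 0], [39, 1, 100], [0, 0], [41, 1, 104], [147, 2, 37, 35, 14, 104], [148, 0, 39, 4, 14, 107, 108], [23, 0, 38, 111], [163, 2, 108, 112, 14], [164, 1, 108, 35, 14], [0, 0], [43, 1, 118], [0,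 0], [45, 1, 122], [165, 2, 43, 41, 14, 122], [182, 1, 126, 41, 14], [0, 0], [47, 1, 130], [183, 2, 49, 47, 14, 130], [184, 0, 51, 10, 14, 133, 134], [27, 0, 50, 137], [200, 1, 134, 47, 14], [0, 0], [79, 1, 142], [202, 1, 144, 15, 13, 21], [112, 2, 15, 18, 146], [128, 3, 17, 18, 146], [218, 3, 17, 21, 146], [201, 0, 144, 149, 143, 149, 152], [15, 0, 145, 155], [16, 0, 142, 155], [18, 0, 146, 155, 17], [18, 0, 149, 155], [20, 0, 151, 155], [30, 0, 153, 155], [19, 0, 18, 161, 22], [19, 0, 22, 168], [29, 0, 25, 168], [217, 2, 15, 172, 14], [325, 3, 138, 172, 139], [337, 2, 69, 172, 68], [345, 1, 178], [345, 1, 176], [127, 2, 134, 182, 135], [123, 0, 130, 184, 131], [115, 2, 101, 186, 100], [119, 2, 119, 186, 118], [346, 1, 190], [346, 1, 188], [147, 1, 162, 107, 117, 163], [165, 1, 162, 125, 129, 163], [183, 1, 162, 133, 141, 163], [89, 0, 159, 200, 158, 133], [14, 0, 130, 202], [17, 0, 135, 202, 15], [28, 0, 140, 202], [28, 0, 46, 207], [184, 0, 200, 17, 11, 16], [315, 1, 41, 210, 40], [332, 1, 69, 210,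 68], [184, 3, 126, 214, 44, 127], [58, 0, 218, 123, 204, 125, 218, 123], [12, 0, 122, 221], [17, 0, 127, 221, 15], [26, 0, 128, 221], [26, 0, 40, 225], [181, 0, 17, 228, 16], [292, 0, 31, 228, 30], [324, 1, 69, 228, 68], [166, 3, 96, 232, 33, 97], [64, 2, 222, 92, 236, 94], [4, 0, 94, 238, 86, 238], [3, 0, 92, 241], [17, 0, 97, 241, 15], [21, 0, 99, 241], [21, 0, 30, 245], [146, 3, 17, 248, 16], [301, 2, 69, 248, 68], [129, 3, 250, 17, 0, 16], [133, 2, 101, 246, 100], [137, 2, 119, 246, 118], [61, 2, 120, 242, 118], [169, 0, 102, 226, 103], [173, 0, 120, 226, 121], [70, 2, 101, 222, 103], [187, 0, 102, 208, 103], [191, 0, 120, 208, 121], [72, 2, 101, 204, 103], [78, 2, 119, 204, 121], [148, 0, 196, 17, 5, 16], [161, 3, 157, 276, 156, 114], [8, 0, 104, 278], [17, 0, 109, 278, 15], [24, 0, 116, 278], [24, 0, 34, 283], [314, 1, 69, 286, 68], [151, 0, 102, 284, 103], [155, 0, 120, 284, 121], [219, 6, 14, 280, 157, 197, 158, 280, 157, 17, 54, 59, 57, 59, 57, 59, 57], [32, 0, 54, 294, 52], [32, 0, 52, 296],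 [219, 14, 156, 281, 159, 196, 156, 281, 163, 197, 158, 280, 157, 197, 158, 163], [220, 0, 15, 12, 4, 12, 4, 12, 4, 16, 197, 158, 280, 157, 197, 158], [223, 2, 101, 302, 100], [227, 2, 119, 302, 118], [342, 1, 69, 298, 68], [0, 0], [254, 2, 61, 14, 310], [0, 0], [257, 1, 315, 243, 314], [261, 1, 315, 280, 314], [265, 1, 315, 222, 314], [267, 1, 315, 204, 314], [272, 2, 69, 14, 314], [287, 2, 315, 186, 314], [301, 2, 315, 246, 314], [313, 2, 315, 285, 314], [323, 2, 315, 227, 314], [331, 2, 315, 209, 314], [337, 2, 315, 175, 314], [341, 2, 315, 302, 314], [0, 0], [271, 3, 85, 14, 340], [0, 0], [39, 1, 344], [69, 1, 346, 198, 344], [71, 1, 346, 200, 344], [83, 2, 101, 159, 344], [84, 1, 101, 157, 344], [115, 2, 345, 165, 344], [133, 2, 345, 251, 344], [151, 2, 345, 276, 344], [169, 2, 345, 230, 344], [187, 2, 345, 212, 344], [205, 2, 345, 167, 344], [223, 2, 345, 301, 344], [0, 0], [43, 1, 370], [61, 2, 372, 255, 370], [77, 1, 372, 200, 370], [85, 2, 119, 159, 370], [86, 1, 119, 157, 370], [119, 2, 371,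 165, 370], [137, 2, 371, 251, 370], [155, 2, 371, 276, 370], [173, 2, 371, 230, 370], [191, 2, 371, 212, 370], [209, 2, 371, 167, 370], [227, 2, 371, 301, 370], [0, 0], [252, 2, 311, 159, 396]]
def dJ1 : List (List ℕ) := [[0, 0], [257, 1, 401, 254, 400], [261, 1, 401, 197, 400], [265, 1, 401, 199, 400], [267, 1, 401, 201, 400], [269, 1, 315, 157, 400], [270, 2, 315, 159, 400], [271, 1, 69, 16, 400], [272, 2, 315, 163, 400], [287, 2, 401, 165, 400], [301, 2, 401, 251, 400], [313, 2, 401, 276, 400], [323, 2, 401, 230, 400], [331, 2, 401, 212, 400], [337, 2, 401, 167, 400], [341, 2, 401, 301, 400], [0, 0], [0, 0], [343, 2, 69, 60, 434], [0, 0], [0, 0], [113, 2, 441, 189, 440], [131, 2, 441, 257, 440], [149, 2, 441, 290, 440], [167, 2, 441, 262, 440], [185, 2, 441, 268, 440], [203, 2, 441, 194, 440], [221, 2, 441, 305, 440], [0, 0], [38, 1, 441, 456], [50, 2, 441, 101, 243, 103, 456], [64, 2, 441, 266, 456], [66, 2, 441, 272, 456], [113, 0, 457, 188, 456], [131, 0, 457, 256, 456], [149, 0, 457, 291, 456],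 [167, 0, 457, 263, 456], [185, 0, 457, 269, 456], [203, 0, 457, 195, 456], [221, 0, 457, 304, 456], [48, 1, 464], [46, 1, 462], [40, 1, 460], [0, 0], [41, 1, 486], [51, 2, 488, 102, 281, 100, 486], [73, 1, 488, 267, 486], [75, 1, 488, 273, 486], [117, 2, 487, 189, 486], [135, 2, 487, 257, 486], [153, 2, 487, 290, 486], [171, 2, 487, 262, 486], [189, 2, 487, 268, 486], [207, 2, 487, 194, 486], [225, 2, 487, 305, 486], [0, 0], [43, 1, 510], [67, 2, 120, 100, 510], [77, 1, 512, 273, 510], [119, 2, 511, 189, 510], [137, 2, 511, 257, 510], [155, 2, 511, 290, 510], [173, 2, 511, 262, 510], [191, 2, 511, 268, 510], [209, 2, 511, 194, 510], [227, 2, 511, 305, 510], [71, 0, 516, 514, 275], [0, 0], [127, 2, 535, 189, 534], [145, 2, 535, 257, 534], [163, 2, 535, 290, 534], [165, 1, 535, 266, 263, 534], [181, 2, 535, 262, 534], [183, 1, 535, 272, 269, 534], [199, 2, 535, 268, 534], [217, 2, 535, 194, 534], [235, 2, 535, 305, 534], [0, 0], [112, 2, 535, 189, 554], [112, 0, 556, 535, 554], [145, 0, 555, 256, 554],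 [163, 0, 555, 291, 554], [181, 0, 555, 263, 554], [199, 0, 555, 269, 554], [217, 0, 555, 195, 554], [235, 0, 555, 304, 554], [165, 3, 565, 555, 267, 554], [183, 3, 567, 555, 273, 554], [0, 0], [241, 1, 311, 103, 576], [247, 1, 577, 266, 576], [0, 0], [259, 1, 315, 103, 582], [260, 2, 315, 100, 582], [265, 1, 583, 266, 582], [267, 1, 583, 272, 582], [287, 2, 583, 189, 582], [301, 2, 583, 257, 582], [313, 2, 583, 290, 582], [323, 2, 583, 262, 582], [331, 2, 583, 268, 582], [337, 2, 583, 194, 582], [341, 2, 583, 305, 582], [0, 0], [260, 0, 341, 103, 606], [0, 0], [41, 1, 610], [53, 1, 612, 120, 281, 118, 610], [59, 2, 612, 260, 610], [75, 1, 612, 275, 610], [117, 2, 611, 191, 610], [135, 2, 611, 259, 610], [153, 2, 611, 292, 610], [171, 2, 611, 264, 610], [189, 2, 611, 270, 610], [207, 2, 611, 192, 610], [225, 2, 611, 307, 610], [0, 0], [45, 1, 634], [55, 2, 636, 120, 223, 118, 634], [63, 2, 636, 260, 634], [121, 2, 635, 191, 634], [139, 2, 635, 259, 634], [157, 2, 635, 292, 634], [175, 2, 635, 264, 634],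 [193, 2, 635, 270, 634], [211, 2, 635, 192, 634], [229, 2, 635, 307, 634], [0, 0], [127, 2, 657, 191, 656], [129, 1, 657, 261, 258, 656], [145, 2, 657, 259, 656], [163, 2, 657, 292, 656], [181, 2, 657, 264, 656], [183, 1, 657, 274, 271, 656], [199, 2, 657, 270, 656], [217, 2, 657, 192, 656], [235, 2, 657, 307, 656], [0, 0], [112, 2, 657, 191, 676], [112, 0, 678, 657, 676], [145, 0, 677, 258, 676], [163, 0, 677, 293, 676], [181, 0, 677, 265, 676], [199, 0, 677, 271, 676], [217, 0, 677, 193, 676], [235, 0, 677, 306, 676], [129, 3, 683, 677, 260, 676], [183, 3, 689, 677, 275, 676], [0, 0], [246, 2, 311, 118, 698], [0, 0], [257, 1, 703, 261, 702], [263, 1, 315, 121, 702], [264, 2, 315, 118, 702], [267, 1, 703, 274, 702], [287, 2, 703, 191, 702], [301, 2, 703, 259, 702], [313, 2, 703, 292, 702], [323, 2, 703, 264, 702], [331, 2, 703, 270, 702], [337, 2, 703, 192, 702], [341, 2, 703, 307, 702], [0, 0], [263, 3, 341, 118, 726], [0, 0], [343, 2, 315, 310, 730], [0, 0], [0, 0], [81, 2, 441, 353, 736], [82,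 1, 441, 355, 736], [113, 2, 737, 357, 736], [131, 2, 737, 359, 736], [149, 2, 737, 361, 736], [167, 2, 737, 363, 736], [185, 2, 737, 365, 736], [203, 2, 737, 367, 736], [221, 2, 737, 369, 736], [0, 0], [38, 1, 737, 756], [50, 2, 737, 345, 254, 347, 756], [64, 2, 737, 349, 756], [66, 2, 737, 351, 756], [81, 0, 457, 355, 756], [82, 3, 457, 353, 756], [113, 0, 757, 356, 756], [131, 0, 757, 358, 756], [149, 0, 757, 360, 756], [167, 0, 757, 362, 756], [185, 0, 757, 364, 756], [203, 0, 757, 366, 756], [221, 0, 757, 368, 756], [84, 2, 768, 485, 739], [88, 2, 768, 483, 739], [90, 2, 768, 481, 739], [0, 0], [41, 1, 790], [51, 2, 792, 346, 196, 344, 790], [73, 1, 792, 348, 790], [75, 1, 792, 350, 790]]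
def dJ2 : List (List ℕ) := [[117, 2, 791, 357, 790], [135, 2, 791, 359, 790], [153, 2, 791, 361, 790], [171, 2, 791, 363, 790], [189, 2, 791, 365, 790], [207, 2, 791, 367, 790], [225, 2, 791, 369, 790], [0, 0], [43, 1, 814], [67, 2, 372, 344, 814], [77, 1, 816, 350, 814], [85, 2, 511, 353, 814], [86, 1, 511, 355, 814], [119, 2, 815, 357, 814], [137, 2, 815, 359, 814], [155, 2, 815, 361, 814], [173, 2, 815, 363, 814], [191, 2, 815, 365, 814], [209, 2, 815, 367, 814], [227, 2, 815, 369, 814], [84, 0, 824, 533, 381], [0, 0], [201, 2, 555, 195, 353, 842], [217, 2, 843, 367, 842], [202, 4, 847, 843, 354, 554], [0, 0], [112, 2, 843, 357, 850], [112, 0, 852, 843, 850], [145, 0, 851, 358, 850], [163, 0, 851, 360, 850], [181, 0, 851, 362, 850], [199, 0, 851, 364, 850], [202, 2, 535, 355, 367, 850], [202, 4, 551, 535, 353, 850], [217, 0, 851, 366, 850], [235, 0, 851, 368, 850], [165, 3, 861, 851, 348, 850], [183, 3, 863, 851, 350, 850], [0, 0], [252, 2, 577, 353, 876], [0, 0], [259, 1, 401, 347, 880], [269,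 1, 583, 355, 880], [270, 2, 583, 353, 880], [0, 0], [260, 0, 433, 347, 888], [270, 0, 607, 355, 888], [0, 0], [41, 1, 894], [53, 1, 896, 372, 196, 370, 894], [59, 2, 896, 374, 894], [75, 1, 896, 376, 894], [117, 2, 895, 383, 894], [135, 2, 895, 385, 894], [153, 2, 895, 387, 894], [171, 2, 895, 389, 894], [189, 2, 895, 391, 894], [207, 2, 895, 393, 894], [225, 2, 895, 395, 894], [0, 0], [45, 1, 918], [55, 2, 920, 372, 198, 370, 918], [63, 2, 920, 374, 918], [87, 2, 635, 379, 918], [88, 1, 635, 381, 918], [121, 2, 919, 383, 918], [139, 2, 919, 385, 918], [157, 2, 919, 387, 918], [175, 2, 919, 389, 918], [193, 2, 919, 391, 918], [211, 2, 919, 393, 918], [229, 2, 919, 395, 918], [0, 0], [201, 2, 677, 193, 379, 944], [217, 2, 945, 393, 944], [202, 4, 949, 945, 380, 676], [0, 0], [112, 2, 945, 383, 952], [112, 0, 954, 945, 952], [145, 0, 953, 384, 952], [163, 0, 953, 386, 952], [181, 0, 953, 388, 952], [199, 0, 953, 390, 952], [202, 2, 657, 381, 393, 952], [202, 4, 673, 657, 379, 952], [217, 0, 953, 392,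 952], [235, 0, 953, 394, 952], [129, 3, 959, 953, 374, 952], [183, 3, 965, 953, 376, 952], [0, 0], [252, 2, 699, 379, 978], [0, 0], [263, 1, 401, 373, 982], [264, 2, 401, 370, 982], [269, 1, 703, 381, 982], [0, 0], [263, 3, 433, 370, 990], [0, 0], [343, 2, 401, 396, 994], [0, 0], [0, 0], [41, 1, 1000], [59, 2, 488, 440, 1000], [117, 2, 1001, 443, 1000], [135, 2, 1001, 445, 1000], [153, 2, 1001, 447, 1000], [171, 2, 1001, 449, 1000], [189, 2, 1001, 451, 1000], [207, 2, 1001, 453, 1000], [225, 2, 1001, 455, 1000], [0, 0], [43, 1, 1020], [61, 2, 512, 440, 1020], [119, 2, 1021, 443, 1020], [137, 2, 1021, 445, 1020], [155, 2, 1021, 447, 1020], [173, 2, 1021, 449, 1020], [191, 2, 1021, 451, 1020], [209, 2, 1021, 453, 1020], [227, 2, 1021, 455, 1020], [0, 0], [127, 2, 1041, 443, 1040], [130, 3, 535, 257, 440, 1040], [145, 2, 1041, 445, 1040], [163, 2, 1041, 447, 1040], [181, 2, 1041, 449, 1040], [199, 2, 1041, 451, 1040], [217, 2, 1041, 453, 1040], [235, 2, 1041, 455, 1040], [0, 0], [112, 2, 1041, 443, 1058],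 [112, 0, 1060, 1041, 1058], [129, 3, 561, 555, 440, 1058], [145, 0, 1059, 444, 1058], [163, 0, 1059, 446, 1058], [181, 0, 1059, 448, 1058], [199, 0, 1059, 450, 1058], [217, 0, 1059, 452, 1058], [235, 0, 1059, 454, 1058], [0, 0], [240, 2, 577, 440, 1078], [0, 0], [258, 2, 583, 440, 1082], [287, 2, 1083, 443, 1082], [301, 2, 1083, 445, 1082], [313, 2, 1083, 447, 1082], [323, 2, 1083, 449, 1082], [331, 2, 1083, 451, 1082], [337, 2, 1083, 453, 1082], [341, 2, 1083, 455, 1082], [0, 0], [257, 3, 607, 440, 1100], [0, 0], [41, 1, 1104], [59, 2, 1002, 459, 1104], [73, 1, 1002, 463, 1104], [75, 1, 1002, 465, 1104], [117, 2, 1105, 466, 1104], [135, 2, 1105, 468, 1104], [153, 2, 1105, 470, 1104], [171, 2, 1105, 472, 1104], [189, 2, 1105, 474, 1104], [207, 2, 1105, 476, 1104], [225, 2, 1105, 478, 1104], [47, 1, 1112], [65, 0, 1112, 1004, 494], [45, 1, 1110], [0, 0], [43, 1, 1134], [61, 2, 1022, 459, 1134], [67, 2, 1022, 461, 1134], [77, 1, 1022, 465, 1134], [119, 2, 1135, 466, 1134], [137, 2, 1135, 468, 1134],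 [155, 2, 1135, 470, 1134], [173, 2, 1135, 472, 1134], [191, 2, 1135, 474, 1134], [209, 2, 1135, 476, 1134], [227, 2, 1135, 478, 1134], [47, 1, 1142], [65, 0, 1142, 1024, 516], [39, 1, 1140], [0, 0], [127, 2, 1165, 466, 1164], [129, 1, 535, 456, 469, 1164], [130, 3, 1041, 445, 459, 1164], [145, 2, 1165, 468, 1164], [163, 2, 1165, 470, 1164], [165, 1, 1041, 482, 473, 1164], [166, 3, 1041, 449, 463, 1164], [181, 2, 1165, 472, 1164], [183, 1, 1041, 480, 475, 1164], [184, 3, 1041, 451, 465, 1164], [199, 2, 1165, 474, 1164], [217, 2, 1165, 476, 1164], [235, 2, 1165, 478, 1164], [0, 0], [112, 2, 1165, 466, 1192], [112, 0, 1194, 1165, 1192], [129, 3, 1067, 1059, 459, 1192]]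
def dJ3 : List (List ℕ) := [[145, 0, 1193, 469, 1192], [163, 0, 1193, 471, 1192], [165, 3, 1071, 1059, 463, 1192], [181, 0, 1193, 473, 1192], [183, 3, 1073, 1059, 465, 1192], [199, 0, 1193, 475, 1192], [217, 0, 1193, 477, 1192], [235, 0, 1193, 479, 1192], [129, 3, 1201, 1193, 457, 554], [165, 3, 1207, 1193, 483, 1058], [183, 3, 1211, 1193, 481, 1058], [0, 0], [239, 1, 577, 456, 1222], [0, 0], [257, 1, 583, 456, 1226], [258, 2, 1083, 459, 1226], [259, 1, 1083, 484, 1226], [260, 2, 1083, 461, 1226], [265, 1, 1083, 482, 1226], [266, 2, 1083, 463, 1226], [267, 1, 1083, 480, 1226], [268, 2, 1083, 465, 1226], [287, 2, 1227, 466, 1226], [301, 2, 1227, 468, 1226], [313, 2, 1227, 470, 1226], [323, 2, 1227, 472, 1226], [331, 2, 1227, 474, 1226], [337, 2, 1227, 476, 1226], [341, 2, 1227, 478, 1226], [0, 0], [258, 0, 607, 456, 1258], [0, 0], [43, 1, 1262], [237, 4, 578, 312, 63, 65, 67, 65, 63, 61, 14, 100, 486, 1262], [41, 1, 1266], [73, 3, 1266, 580, 1268], [243, 0, 1266, 577, 489], [55, 1, 1270, 1264, 492,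 1262, 1270, 1264], [8, 0, 1267, 1275, 488], [10, 0, 1262, 1275], [34, 0, 1272, 1275], [4, 0, 1080, 1277, 440], [3, 0, 1224, 1277, 456], [6, 0, 579, 1277, 102], [16, 0, 878, 1277, 353], [34, 0, 576, 1277], [34, 0, 1078, 1283], [34, 0, 1222, 1285], [10, 0, 700, 1287, 118], [16, 0, 398, 1287, 159], [17, 0, 313, 1287, 15], [34, 0, 310, 1287], [36, 0, 731, 1287, 314], [34, 0, 876, 1289], [16, 0, 980, 1297, 379], [34, 0, 698, 1297], [34, 0, 396, 1299], [36, 0, 995, 1299, 400], [34, 0, 60, 1301], [36, 0, 435, 1301, 68], [34, 0, 733, 1305], [34, 0, 978, 1309], [34, 0, 997, 1315], [34, 0, 437, 1319], [241, 0, 882, 1324, 883], [245, 0, 984, 1324, 985], [251, 2, 989, 1330, 988], [251, 2, 885, 1328, 884], [239, 0, 1228, 1334, 1229], [240, 1, 1084, 1334, 1085], [241, 0, 818, 1322, 819], [243, 0, 896, 1322, 897], [247, 0, 920, 1322, 921], [253, 0, 953, 1322, 952], [254, 1, 945, 1322, 944], [251, 2, 950, 1348, 951], [253, 0, 679, 1350, 678], [251, 2, 929, 1344, 928], [251, 2, 825, 1340, 824], [239, 0, 1024, 1356,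 1025], [240, 1, 1161, 1356, 1160], [237, 9, 791, 345, 1312, 17, 2, 4, 6, 4, 2, 16, 347, 793], [54, 3, 815, 793, 1362, 791, 817], [52, 3, 895, 819, 1364, 841, 897], [243, 0, 612, 1310, 613], [239, 0, 757, 1306, 756], [240, 1, 737, 1306, 736], [243, 0, 792, 1306, 793], [253, 0, 851, 1306, 850], [254, 1, 843, 1306, 842], [251, 2, 848, 1378, 849], [239, 0, 1217, 1380, 1216], [240, 1, 1064, 1380, 1065], [253, 0, 557, 1380, 556], [239, 2, 1044, 1386, 1045], [240, 3, 1168, 1386, 1169], [243, 0, 1106, 1294, 1107], [239, 2, 1109, 1392, 1108], [54, 3, 511, 489, 1278, 487, 513], [62, 2, 1131, 1278, 1005], [44, 1, 1398], [54, 3, 1021, 1003, 1398, 1105, 1137], [42, 1, 1402], [52, 3, 611, 515, 1396, 533, 613], [0, 0], [79, 1, 1408], [83, 1, 1409, 491, 1408], [85, 1, 1409, 1278, 1408], [87, 1, 1409, 493, 1408], [89, 1, 1409, 495, 1408], [93, 3, 1410, 488, 102, 280, 157, 197, 158, 280, 157, 347, 354, 486, 1408], [125, 2, 1409, 497, 1408], [143, 2, 1409, 499, 1408], [161, 2, 1409, 501, 1408], [179, 2, 1409, 503, 1408],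 [197, 2, 1409, 505, 1408], [215, 2, 1409, 507, 1408], [233, 2, 1409, 509, 1408], [251, 2, 1409, 1281, 1408], [0, 0], [127, 2, 1439, 497, 1438], [145, 2, 1439, 499, 1438], [147, 1, 535, 489, 500, 1438], [148, 3, 535, 290, 486, 1438], [163, 2, 1439, 501, 1438], [165, 1, 1439, 493, 502, 1438], [181, 2, 1439, 503, 1438], [183, 1, 1439, 495, 504, 1438], [199, 2, 1439, 505, 1438], [217, 2, 1439, 507, 1438], [235, 2, 1439, 509, 1438], [253, 2, 1439, 1281, 1438], [0, 0], [112, 2, 1439, 497, 1464], [112, 0, 1466, 1439, 1464], [145, 0, 1465, 498, 1464], [147, 3, 563, 555, 486, 1464], [163, 0, 1465, 500, 1464], [181, 0, 1465, 502, 1464], [199, 0, 1465, 504, 1464], [217, 0, 1465, 506, 1464], [235, 0, 1465, 508, 1464], [253, 0, 1465, 1280, 1464], [147, 3, 1475, 1465, 488, 554], [165, 3, 1477, 1465, 492, 1464], [183, 3, 1479, 1465, 494, 1464], [0, 0], [259, 1, 1493, 491, 1492], [261, 1, 583, 489, 1492], [262, 2, 583, 486, 1492], [263, 1, 1493, 1278, 1492], [265, 1, 1493, 493, 1492], [267, 1, 1493, 495, 1492], [287,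 2, 1493, 497, 1492], [301, 2, 1493, 499, 1492], [313, 2, 1493, 501, 1492], [323, 2, 1493, 503, 1492], [331, 2, 1493, 505, 1492], [337, 2, 1493, 507, 1492], [341, 2, 1493, 509, 1492], [343, 2, 1493, 1281, 1492], [0, 0], [261, 3, 607, 486, 1522], [0, 0], [45, 1, 1526], [55, 2, 1528, 512, 267, 510, 1526], [69, 2, 636, 532, 1526], [73, 2, 1528, 1397, 1526], [121, 2, 1527, 519, 1526], [139, 2, 1527, 521, 1526], [157, 2, 1527, 523, 1526], [175, 2, 1527, 525, 1526], [193, 2, 1527, 527, 1526], [211, 2, 1527, 529, 1526], [229, 2, 1527, 531, 1526], [247, 2, 1527, 1357, 1526], [39, 1, 1532], [0, 0], [127, 2, 1555, 519, 1554], [145, 2, 1555, 521, 1554], [147, 1, 1555, 1396, 522, 1554], [163, 2, 1555, 523, 1554], [181, 2, 1555, 525, 1554], [183, 1, 1555, 517, 526, 1554], [199, 2, 1555, 527, 1554], [217, 2, 1555, 529, 1554], [235, 2, 1555, 531, 1554], [253, 2, 1555, 1357, 1554], [0, 0], [112, 2, 1555, 519, 1576], [112, 0, 1578, 1555, 1576], [145, 0, 1577, 520, 1576], [163, 0, 1577, 522, 1576], [181, 0, 1577, 524,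 1576], [199, 0, 1577, 526, 1576], [217, 0, 1577, 528, 1576], [235, 0, 1577, 530, 1576], [253, 0, 1577, 1356, 1576], [147, 3, 1585, 1577, 1397, 1576], [183, 3, 1589, 1577, 516, 1576]]
def dJ4 : List (List ℕ) := [[0, 0], [259, 1, 703, 515, 1600], [260, 2, 703, 532, 1600], [261, 1, 1601, 1396, 1600], [263, 1, 583, 513, 1600], [264, 2, 583, 510, 1600], [267, 1, 1601, 517, 1600], [287, 2, 1601, 519, 1600], [301, 2, 1601, 521, 1600], [313, 2, 1601, 523, 1600], [323, 2, 1601, 525, 1600], [331, 2, 1601, 527, 1600], [337, 2, 1601, 529, 1600], [341, 2, 1601, 531, 1600], [343, 2, 1601, 1357, 1600], [0, 0], [263, 3, 607, 510, 1630], [0, 0], [39, 1, 1634], [0, 0], [43, 1, 1638], [0, 0], [0, 0], [271, 3, 607, 534, 1644], [0, 0], [39, 1, 1648], [0, 0], [43, 1, 1652], [0, 0], [271, 1, 583, 554, 1656], [272, 2, 1643, 557, 1656], [0, 0], [272, 0, 607, 554, 1662], [0, 0], [0, 0], [45, 1, 1668], [63, 2, 1670, 616, 1668], [69, 2, 1670, 1407, 1668], [73, 2, 636, 610, 1668], [121, 2, 1669, 621, 1668], [139, 2, 1669, 623,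 1668], [157, 2, 1669, 625, 1668], [175, 2, 1669, 627, 1668], [193, 2, 1669, 629, 1668], [211, 2, 1669, 631, 1668], [229, 2, 1669, 633, 1668], [247, 2, 1669, 1368, 1668], [41, 1, 1676], [0, 0], [79, 1, 1696], [81, 1, 1697, 617, 1696], [83, 1, 1697, 1406, 1696], [85, 1, 1697, 615, 1696], [89, 1, 1697, 619, 1696], [93, 3, 1698, 612, 532, 1396, 825, 1364, 822, 1396, 825, 841, 380, 610, 1696], [125, 2, 1697, 621, 1696], [143, 2, 1697, 623, 1696], [161, 2, 1697, 625, 1696], [179, 2, 1697, 627, 1696], [197, 2, 1697, 629, 1696], [215, 2, 1697, 631, 1696], [233, 2, 1697, 633, 1696], [251, 2, 1697, 1368, 1696], [0, 0], [127, 2, 1727, 621, 1726], [129, 1, 1727, 617, 622, 1726], [145, 2, 1727, 623, 1726], [147, 1, 657, 613, 624, 1726], [148, 3, 657, 292, 610, 1726], [163, 2, 1727, 625, 1726], [181, 2, 1727, 627, 1726], [183, 1, 1727, 619, 628, 1726], [199, 2, 1727, 629, 1726], [217, 2, 1727, 631, 1726], [235, 2, 1727, 633, 1726], [253, 2, 1727, 1368, 1726], [0, 0], [112, 2, 1727, 621, 1752], [112, 0, 1754, 1727,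 1752], [145, 0, 1753, 622, 1752], [147, 3, 685, 677, 610, 1752], [163, 0, 1753, 624, 1752], [181, 0, 1753, 626, 1752], [199, 0, 1753, 628, 1752], [217, 0, 1753, 630, 1752], [235, 0, 1753, 632, 1752], [253, 0, 1753, 1369, 1752], [129, 3, 1759, 1753, 616, 1752], [147, 3, 1763, 1753, 612, 676], [183, 3, 1767, 1753, 618, 1752], [0, 0], [257, 1, 1781, 617, 1780], [259, 1, 1781, 1406, 1780], [261, 1, 703, 613, 1780], [262, 2, 703, 610, 1780], [263, 1, 1781, 615, 1780], [267, 1, 1781, 619, 1780], [287, 2, 1781, 621, 1780], [301, 2, 1781, 623, 1780], [313, 2, 1781, 625, 1780], [323, 2, 1781, 627, 1780], [331, 2, 1781, 629, 1780], [337, 2, 1781, 631, 1780], [341, 2, 1781, 633, 1780], [343, 2, 1781, 1368, 1780], [0, 0], [261, 3, 727, 610, 1810], [0, 0], [47, 1, 1814], [57, 2, 1816, 636, 275, 634, 1814], [65, 2, 1816, 640, 1814], [77, 2, 1816, 638, 1814], [123, 2, 1815, 643, 1814], [141, 2, 1815, 645, 1814], [159, 2, 1815, 647, 1814], [177, 2, 1815, 649, 1814], [195, 2, 1815, 651, 1814], [213, 2, 1815, 653, 1814],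 [231, 2, 1815, 655, 1814], [249, 2, 1815, 1355, 1814], [0, 0], [127, 2, 1841, 643, 1840], [129, 1, 1841, 641, 644, 1840], [145, 2, 1841, 645, 1840], [163, 2, 1841, 647, 1840], [165, 1, 657, 637, 648, 1840], [166, 3, 657, 264, 634, 1840], [181, 2, 1841, 649, 1840], [199, 2, 1841, 651, 1840], [217, 2, 1841, 653, 1840], [235, 2, 1841, 655, 1840], [253, 2, 1841, 1355, 1840], [0, 0], [112, 2, 1841, 643, 1864], [112, 0, 1866, 1841, 1864], [145, 0, 1865, 644, 1864], [163, 0, 1865, 646, 1864], [165, 3, 687, 677, 634, 1864], [181, 0, 1865, 648, 1864], [199, 0, 1865, 650, 1864], [217, 0, 1865, 652, 1864], [235, 0, 1865, 654, 1864], [253, 0, 1865, 1354, 1864], [129, 3, 1871, 1865, 640, 1864], [165, 3, 1877, 1865, 636, 676], [0, 0], [257, 1, 1891, 641, 1890], [263, 1, 1891, 639, 1890], [265, 1, 703, 637, 1890], [266, 2, 703, 634, 1890], [287, 2, 1891, 643, 1890], [301, 2, 1891, 645, 1890], [313, 2, 1891, 647, 1890], [323, 2, 1891, 649, 1890], [331, 2, 1891, 651, 1890], [337, 2, 1891, 653, 1890], [341, 2, 1891,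 655, 1890], [343, 2, 1891, 1355, 1890], [0, 0], [265, 3, 727, 634, 1916], [0, 0], [39, 1, 1920], [71, 1, 1922, 668, 1920], [0, 0], [43, 1, 1926], [77, 1, 1928, 668, 1926], [0, 0], [272, 2, 703, 656, 1932], [0, 0], [271, 3, 727, 656, 1936], [0, 0], [39, 1, 1940], [0, 0], [43, 1, 1944], [0, 0], [271, 1, 703, 676, 1948], [0, 0], [272, 0, 727, 676, 1952], [0, 0], [0, 0], [41, 1, 1958], [59, 2, 792, 736, 1958], [117, 2, 1959, 743, 1958], [135, 2, 1959, 745, 1958], [153, 2, 1959, 747, 1958], [171, 2, 1959, 749, 1958], [189, 2, 1959, 751, 1958], [207, 2, 1959, 753, 1958], [225, 2, 1959, 755, 1958], [243, 2, 1959, 1372, 1958], [0, 0], [43, 1, 1980], [61, 2, 816, 736, 1980], [85, 2, 1021, 739, 1980], [86, 1, 1021, 741, 1980], [119, 2, 1981, 743, 1980], [137, 2, 1981, 745, 1980], [155, 2, 1981, 747, 1980], [173, 2, 1981, 749, 1980], [191, 2, 1981, 751, 1980]]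
def dJ5 : List (List ℕ) := [[209, 2, 1981, 753, 1980], [227, 2, 1981, 755, 1980], [245, 2, 1981, 1372, 1980], [0, 0], [201, 2, 1059, 452, 739, 2006], [0, 0], [112, 2, 2007, 743, 2010], [112, 0, 2012, 2007, 2010], [129, 3, 857, 851, 736, 2010], [145, 0, 2011, 744, 2010], [163, 0, 2011, 746, 2010], [181, 0, 2011, 748, 2010], [199, 0, 2011, 750, 2010], [202, 2, 1041, 741, 753, 2010], [202, 4, 1055, 1041, 739, 2010], [217, 0, 2011, 752, 2010], [235, 0, 2011, 754, 2010], [253, 0, 2011, 1373, 2010], [0, 0], [258, 2, 881, 736, 2036], [269, 1, 1083, 741, 2036], [270, 2, 1083, 739, 2036], [0, 0], [257, 3, 889, 736, 2044], [270, 0, 1101, 741, 2044], [0, 0], [41, 1, 2050], [59, 2, 1960, 759, 2050], [73, 1, 1960, 763, 2050], [75, 1, 1960, 765, 2050], [117, 2, 2051, 770, 2050], [135, 2, 2051, 772, 2050], [153, 2, 2051, 774, 2050], [171, 2, 2051, 776, 2050], [189, 2, 2051, 778, 2050], [207, 2, 2051, 780, 2050], [225, 2, 2051, 782, 2050], [243, 2, 2051, 1370, 2050], [47, 1, 2058], [65, 0, 2058, 1962, 798], [61, 1,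 1962, 1363, 2078], [43, 1, 2080], [45, 1, 2056], [0, 0], [43, 1, 2086], [53, 2, 1982, 1958, 2082, 2052, 2086], [61, 2, 1982, 759, 2086], [67, 2, 1982, 761, 2086], [77, 1, 1982, 765, 2086], [85, 2, 1135, 769, 2086], [86, 1, 1135, 767, 2086], [119, 2, 2087, 770, 2086], [137, 2, 2087, 772, 2086], [155, 2, 2087, 774, 2086], [173, 2, 2087, 776, 2086], [191, 2, 2087, 778, 2086], [209, 2, 2087, 780, 2086], [227, 2, 2087, 782, 2086], [245, 2, 2087, 1370, 2086], [82, 0, 2100, 1161, 825], [84, 0, 2100, 1163, 1989], [90, 0, 2100, 1159, 1989], [93, 3, 2100, 1405, 1162, 1402, 1989, 2091, 2098, 1402, 1989, 2095, 2100, 1405, 1987], [0, 0], [201, 2, 1193, 477, 769, 2126], [0, 0], [112, 2, 2127, 770, 2130], [112, 0, 2132, 2127, 2130], [129, 3, 2019, 2011, 759, 2130], [145, 0, 2131, 773, 2130], [163, 0, 2131, 775, 2130], [165, 3, 2023, 2011, 763, 2130], [181, 0, 2131, 777, 2130], [183, 3, 2025, 2011, 765, 2130], [199, 0, 2131, 779, 2130], [202, 2, 1165, 767, 780, 2130], [202, 4, 1189, 1165, 769, 2130], [217, 0, 2131,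 781, 2130], [235, 0, 2131, 783, 2130], [253, 0, 2131, 1371, 2130], [129, 3, 2139, 2131, 757, 850], [165, 3, 2145, 2131, 787, 2010], [183, 3, 2149, 2131, 789, 2010], [0, 0], [257, 1, 881, 756, 2166], [269, 1, 1227, 767, 2166], [270, 2, 1227, 769, 2166], [0, 0], [258, 0, 889, 756, 2174], [259, 3, 2045, 761, 2174], [260, 0, 2045, 784, 2174], [270, 0, 1259, 767, 2174], [0, 0], [79, 1, 2184], [83, 1, 2185, 795, 2184], [85, 1, 2185, 1362, 2184], [87, 1, 2185, 797, 2184], [89, 1, 2185, 799, 2184], [91, 1, 2186, 792, 354, 486, 1408, 1420, 1410, 488, 353, 790, 2184], [125, 2, 2185, 801, 2184], [143, 2, 2185, 803, 2184], [161, 2, 2185, 805, 2184], [179, 2, 2185, 807, 2184], [197, 2, 2185, 809, 2184], [215, 2, 2185, 811, 2184], [233, 2, 2185, 813, 2184], [251, 2, 2185, 1374, 2184], [255, 0, 555, 353, 790, 2184, 2196, 2186, 792, 346, 17, 12, 4, 12, 4, 12, 4, 2, 14, 159, 196, 156, 281, 159, 196, 344, 888], [4, 0, 2046, 2214, 1065], [3, 0, 2176, 2214, 1216], [6, 0, 891, 2214, 1648], [16, 0, 893, 2214, 845], [36,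 0, 888, 2214, 1656], [5, 0, 2218, 2178, 2217], [6, 0, 2218, 2180, 2217], [16, 0, 2049, 2217, 2009], [35, 0, 2044, 2217], [16, 0, 2183, 2219, 2129], [35, 0, 2174, 2219], [5, 0, 1651, 2220], [6, 0, 1648, 2220], [18, 0, 852, 2222, 1647], [17, 0, 842, 2222, 1665], [17, 0, 1659, 2224], [17, 0, 1661, 2224, 850], [36, 0, 1656, 2224], [17, 0, 2012, 2230], [18, 0, 2006, 2230], [17, 0, 2132, 2234], [18, 0, 2126, 2234], [18, 0, 1647, 2242], [35, 0, 1644, 2242], [18, 0, 1665, 2244, 2246], [36, 0, 1662, 2244, 880], [36, 0, 1642, 2249], [4, 0, 1102, 2265, 1085], [3, 0, 1260, 2265, 1229], [6, 0, 609, 2265, 584], [8, 0, 1524, 2265, 1499], [10, 0, 1632, 2265, 1611], [17, 0, 2260, 2265], [36, 0, 606, 2265, 1666], [4, 0, 2038, 2266, 1065], [3, 0, 2168, 2266, 1216], [6, 0, 883, 2266, 2241], [15, 0, 885, 2266], [16, 0, 887, 2266], [36, 0, 880, 2266], [17, 0, 2253, 2271], [18, 0, 2255, 2271], [35, 0, 1100, 2271], [17, 0, 2257, 2273], [18, 0, 2259, 2273], [35, 0, 1258, 2273], [10, 0, 728, 2275, 709], [17, 0, 343, 2275, 324],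 [36, 0, 340, 2275, 734], [35, 0, 1522, 2277], [35, 0, 1630, 2279], [36, 0, 1666, 2282], [15, 0, 2041, 2285], [16, 0, 2043, 2285], [36, 0, 2036, 2285], [15, 0, 2171, 2287], [16, 0, 2173, 2287], [36, 0, 2166, 2287], [5, 0, 2239, 2288], [6, 0, 2241, 2288], [10, 0, 992, 2288, 987], [36, 0, 432, 2288, 998], [8, 0, 1812, 2309, 1789], [12, 0, 1918, 2309, 1899], [18, 0, 1938, 2309, 1935], [17, 0, 1954, 2309, 1951], [36, 0, 726, 2309, 1956], [36, 0, 84, 2311, 438], [36, 0, 734, 2312], [35, 0, 990, 2337], [36, 0, 998, 2338], [35, 0, 1810, 2341], [35, 0, 1916, 2343], [35, 0, 1936, 2345], [35, 0, 1952, 2347], [36, 0, 1956, 2348], [36, 0, 438, 2350], [52, 3, 1472, 2333, 405, 2334, 1486], [68, 3, 986, 2334, 1655], [237, 9, 1472, 2333, 1324, 414, 72, 74, 76, 74, 72, 415, 2334, 1486], [54, 3, 1653, 1486, 2374, 1472, 1655], [237, 8, 2376, 1653, 1486, 2370, 1485, 1465, 490, 488, 510, 1397, 514, 676, 1943], [5, 0, 1943, 2378], [5, 0, 1940, 2378, 2372], [5, 0, 2372, 2382], [10, 0, 985, 2382, 1944], [16, 0, 989, 2382,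 947], [36, 0, 2355, 2382, 1948], [9, 0, 1947, 2386], [10, 0, 1944, 2386], [15, 0, 950, 2388], [16, 0, 947, 2388]]
def dJ6 : List (List ℕ) := [[18, 0, 954, 2388, 1935], [17, 0, 1951, 2390], [35, 0, 2365, 2390], [36, 0, 1948, 2390], [18, 0, 1935, 2400], [35, 0, 2363, 2400], [36, 0, 1932, 2400], [51, 4, 1777, 2384, 2377, 2380, 1761], [259, 0, 818, 2406, 2381], [261, 0, 896, 2406, 1776], [265, 0, 920, 2406, 1888], [263, 3, 2420, 922, 2421], [269, 3, 2420, 928, 2361], [270, 0, 2420, 926, 2361], [271, 1, 1891, 1864, 2420], [272, 3, 2428, 2360, 1864], [263, 3, 2418, 898, 2419], [271, 1, 1781, 1752, 2418], [272, 3, 2434, 2358, 1752], [269, 3, 2416, 824, 2317], [270, 0, 2416, 822, 2317], [269, 2, 822, 1600, 2440], [237, 6, 795, 791, 817, 1364, 841, 1322, 2402, 1605, 1606, 1608, 1499, 1494], [271, 0, 1465, 2315, 2444], [272, 3, 1465, 1492, 2444], [271, 0, 1195, 2330, 2130], [258, 3, 2137, 2450, 1170], [269, 2, 2151, 2450, 2153], [257, 0, 2137, 2454, 1170], [0, 0], [112, 2, 2444, 801, 2458], [112, 0, 2460, 2444,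 2458], [145, 0, 2459, 802, 2458], [147, 3, 859, 851, 790, 2458], [163, 0, 2459, 804, 2458], [181, 0, 2459, 806, 2458], [199, 0, 2459, 808, 2458], [217, 0, 2459, 810, 2458], [235, 0, 2459, 812, 2458], [253, 0, 2459, 1375, 2458], [271, 0, 1467, 2447, 2458], [272, 3, 1467, 2449, 2458], [147, 3, 2469, 2459, 792, 850], [165, 3, 2471, 2459, 796, 2458], [183, 3, 2473, 2459, 798, 2458], [0, 0], [45, 1, 2490], [55, 2, 2492, 816, 348, 814, 2490], [69, 2, 920, 840, 2490], [73, 2, 2492, 1365, 2490], [87, 2, 1527, 823, 2490], [88, 1, 1527, 825, 2490], [121, 2, 2491, 827, 2490], [139, 2, 2491, 829, 2490], [157, 2, 2491, 831, 2490], [175, 2, 2491, 833, 2490], [193, 2, 2491, 835, 2490], [211, 2, 2491, 837, 2490], [229, 2, 2491, 839, 2490], [247, 2, 2491, 1340, 2490], [84, 0, 2502, 1553, 929], [0, 0], [127, 2, 2523, 827, 2522], [145, 2, 2523, 829, 2522], [147, 1, 2523, 1364, 830, 2522], [163, 2, 2523, 831, 2522], [181, 2, 2523, 833, 2522], [183, 1, 2523, 821, 834, 2522], [199, 2, 2523, 835, 2522], [201, 2, 1577, 528,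 823, 2522], [217, 2, 2523, 837, 2522], [219, 10, 2529, 2538, 1577, 530, 823, 1365, 824, 1397, 823, 1365, 2522, 2529, 2538, 1596], [219, 14, 2543, 1597, 2539, 2528, 2543, 1597, 1577, 1396, 825, 1364, 822, 1396, 825, 2522], [253, 2, 2523, 1340, 2522], [0, 0], [112, 2, 2523, 827, 2548], [202, 2, 1555, 825, 837, 2548], [202, 4, 1571, 1555, 823, 2548], [0, 0], [39, 1, 2556], [0, 0], [43, 1, 2560], [77, 1, 2562, 875, 2560], [263, 2, 1639, 2269, 2560], [0, 0], [45, 1, 2568], [63, 2, 2570, 900, 2568], [69, 2, 2570, 1367, 2568], [73, 2, 920, 894, 2568], [121, 2, 2569, 905, 2568], [139, 2, 2569, 907, 2568], [157, 2, 2569, 909, 2568], [175, 2, 2569, 911, 2568], [193, 2, 2569, 913, 2568], [211, 2, 2569, 915, 2568], [229, 2, 2569, 917, 2568], [247, 2, 2569, 1342, 2568], [41, 1, 2576], [0, 0], [79, 1, 2596], [81, 1, 2597, 901, 2596], [83, 1, 2597, 1366, 2596], [85, 1, 2597, 899, 2596], [89, 1, 2597, 903, 2596], [91, 1, 2598, 896, 380, 610, 1696, 1708, 1698, 612, 379, 894, 2596], [125, 2, 2597, 905, 2596], [143,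 2, 2597, 907, 2596], [161, 2, 2597, 909, 2596], [179, 2, 2597, 911, 2596], [197, 2, 2597, 913, 2596], [215, 2, 2597, 915, 2596], [233, 2, 2597, 917, 2596], [251, 2, 2597, 1342, 2596], [255, 15, 1577, 823, 1365, 824, 1397, 823, 1365, 818, 2406, 677, 379, 894, 2596, 2608, 2598, 896, 840, 2522, 2543, 1597, 2539, 2528, 2543, 1597], [83, 3, 2543, 2626, 2542], [238, 3, 1597, 2626, 1577, 533, 613, 615, 611, 515, 1576, 1594, 2626, 1597], [85, 3, 2543, 2630, 2542], [0, 0], [112, 2, 2435, 905, 2634], [112, 0, 2636, 2435, 2634], [145, 0, 2635, 906, 2634], [147, 3, 961, 953, 894, 2634], [163, 0, 2635, 908, 2634], [181, 0, 2635, 910, 2634], [199, 0, 2635, 912, 2634], [217, 0, 2635, 914, 2634], [235, 0, 2635, 916, 2634], [253, 0, 2635, 1343, 2634], [271, 0, 1755, 2436, 2634], [272, 3, 1755, 2418, 2634], [129, 3, 2641, 2635, 900, 2634], [147, 3, 2645, 2635, 896, 952], [183, 3, 2649, 2635, 902, 2634], [0, 0], [47, 1, 2666], [57, 2, 2668, 920, 376, 918, 2666], [65, 2, 2668, 924, 2666], [77, 2, 2668, 922, 2666], [89,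 2, 1815, 927, 2666], [90, 1, 1815, 929, 2666], [123, 2, 2667, 931, 2666], [141, 2, 2667, 933, 2666], [159, 2, 2667, 935, 2666], [177, 2, 2667, 937, 2666], [195, 2, 2667, 939, 2666], [213, 2, 2667, 941, 2666], [231, 2, 2667, 943, 2666], [249, 2, 2667, 1344, 2666], [0, 0], [112, 2, 2429, 931, 2696], [112, 0, 2698, 2429, 2696], [145, 0, 2697, 932, 2696], [163, 0, 2697, 934, 2696], [165, 3, 963, 953, 918, 2696], [181, 0, 2697, 936, 2696], [199, 0, 2697, 938, 2696], [202, 2, 1841, 929, 941, 2696], [202, 4, 1859, 1841, 927, 2696], [217, 0, 2697, 940, 2696], [235, 0, 2697, 942, 2696], [253, 0, 2697, 1345, 2696], [271, 0, 1867, 2430, 2696], [272, 3, 1867, 2420, 2696], [129, 3, 2703, 2697, 924, 2696], [165, 3, 2709, 2697, 920, 952], [0, 0], [260, 1, 1921, 2411, 2730], [0, 0], [43, 1, 2734], [0, 0], [39, 1, 2738], [115, 2, 2739, 1007, 2738], [133, 2, 2739, 1009, 2738], [151, 2, 2739, 1011, 2738], [169, 2, 2739, 1013, 2738], [187, 2, 2739, 1015, 2738], [205, 2, 2739, 1017, 2738], [223, 2, 2739, 1019, 2738], [241,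 2, 2739, 1395, 2738], [109, 1, 2740, 1002, 1020, 1158, 2099, 2119, 818, 894, 898, 902, 2596, 2601, 2602, 2608, 2604, 2606, 2598, 901, 1367, 896, 372, 200, 156, 243, 100, 486, 1279, 494, 1408], [81, 0, 1004, 1411, 2758], [82, 3, 1004, 1408, 2758], [0, 0], [127, 2, 2765, 1007, 2764], [129, 1, 1439, 1005, 1008, 2764], [145, 2, 2765, 1009, 2764], [147, 1, 1041, 1003, 1010, 2764], [148, 3, 1041, 447, 1000, 2764], [163, 2, 2765, 1011, 2764], [181, 2, 2765, 1013, 2764], [199, 2, 2765, 1015, 2764], [217, 2, 2765, 1017, 2764], [235, 2, 2765, 1019, 2764], [253, 2, 2765, 1395, 2764], [0, 0], [112, 2, 2765, 1007, 2788], [112, 0, 2790, 2765, 2788], [145, 0, 2789, 1008, 2788], [147, 3, 1069, 1059, 1000, 2788], [163, 0, 2789, 1010, 2788]]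
def dJ7 : List (List ℕ) := [[181, 0, 2789, 1012, 2788], [199, 0, 2789, 1014, 2788], [217, 0, 2789, 1016, 2788], [235, 0, 2789, 1018, 2788], [253, 0, 2789, 1394, 2788], [129, 3, 2795, 2789, 1004, 1464], [147, 3, 2799, 2789, 1002, 1058], [261, 0, 1960, 2233, 2812], [262, 3, 1960, 2325, 2812], [0, 0], [257, 1, 1493, 1005, 2818], [261, 1, 1083, 1003, 2818], [262, 2, 1083, 1000, 2818], [272, 2, 2815, 2789, 2818], [287, 2, 2819, 1007, 2818], [301, 2, 2819, 1009, 2818], [313, 2, 2819, 1011, 2818], [323, 2, 2819, 1013, 2818], [331, 2, 2819, 1015, 2818], [337, 2, 2819, 1017, 2818], [341, 2, 2819, 1019, 2818], [343, 2, 2819, 1395, 2818], [271, 2, 2826, 2817, 2789], [0, 0], [45, 1, 2846], [121, 2, 2847, 1027, 2846], [139, 2, 2847, 1029, 2846], [157, 2, 2847, 1031, 2846], [175, 2, 2847, 1033, 2846], [193, 2, 2847, 1035, 2846], [211, 2, 2847, 1037, 2846], [229, 2, 2847, 1039, 2846], [247, 2, 2847, 1358, 2846], [63, 0, 2848, 1024, 1526], [0, 0], [127, 2, 2869, 1027, 2868], [129, 1, 1555, 1025, 1028, 2868], [145,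 2, 2869, 1029, 2868], [163, 2, 2869, 1031, 2868], [181, 2, 2869, 1033, 2868], [199, 2, 2869, 1035, 2868], [217, 2, 2869, 1037, 2868], [235, 2, 2869, 1039, 2868], [253, 2, 2869, 1358, 2868], [0, 0], [112, 2, 2869, 1027, 2888], [112, 0, 2890, 2869, 2888], [145, 0, 2889, 1028, 2888], [163, 0, 2889, 1030, 2888], [181, 0, 2889, 1032, 2888], [199, 0, 2889, 1034, 2888], [217, 0, 2889, 1036, 2888], [235, 0, 2889, 1038, 2888], [253, 0, 2889, 1359, 2888], [129, 3, 2895, 2889, 1024, 1576], [0, 0], [257, 1, 1601, 1025, 2910], [263, 1, 1083, 1023, 2910], [264, 2, 1083, 1020, 2910], [287, 2, 2911, 1027, 2910], [301, 2, 2911, 1029, 2910], [313, 2, 2911, 1031, 2910], [323, 2, 2911, 1033, 2910], [331, 2, 2911, 1035, 2910], [337, 2, 2911, 1037, 2910], [341, 2, 2911, 1039, 2910], [343, 2, 2911, 1358, 2910], [263, 2, 2916, 2300, 1020], [0, 0], [39, 1, 2936], [115, 2, 2937, 1043, 2936], [133, 2, 2937, 1047, 2936], [151, 2, 2937, 1049, 2936], [169, 2, 2937, 1051, 2936], [187, 2, 2937, 1053, 2936], [205, 2, 2937, 1055, 2936],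 [223, 2, 2937, 1057, 2936], [241, 2, 2937, 1389, 2936], [0, 0], [43, 1, 2956], [0, 0], [43, 1, 2960], [61, 2, 1654, 1065, 2960], [86, 1, 2916, 2321, 2960], [263, 2, 1981, 2325, 2960], [264, 1, 1981, 2233, 2960], [0, 0], [39, 1, 2972], [49, 2, 2740, 1004, 490, 1130, 2972], [51, 1, 2740, 1002, 461, 1104, 2972], [67, 1, 2740, 1401, 2972], [69, 1, 2740, 1132, 2972], [71, 1, 2740, 1128, 2972], [115, 2, 2973, 1115, 2972], [133, 2, 2973, 1117, 2972], [151, 2, 2973, 1119, 2972], [169, 2, 2973, 1121, 2972], [187, 2, 2973, 1123, 2972], [205, 2, 2973, 1125, 2972], [223, 2, 2973, 1127, 2972], [241, 2, 2973, 1392, 2972], [47, 1, 2984], [65, 0, 2984, 2759, 1418], [89, 0, 2984, 2762, 1113], [90, 3, 2984, 2760, 1113], [85, 3, 2760, 1401, 3008], [87, 3, 2760, 1132, 3008], [93, 9, 2762, 1001, 741, 784, 766, 1104, 3006, 2978, 2760, 1002, 461, 1107, 3008], [0, 0], [127, 2, 3017, 1115, 3016], [129, 1, 2765, 1109, 1116, 3016], [130, 3, 1439, 499, 1130, 3016], [145, 2, 3017, 1117, 3016], [147, 1, 1165, 1107, 1118, 3016],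 [148, 3, 1165, 470, 1104, 3016], [163, 2, 3017, 1119, 3016], [165, 1, 2765, 1111, 1120, 3016], [166, 3, 2765, 1013, 1132, 3016], [181, 2, 3017, 1121, 3016], [183, 1, 2765, 1113, 1122, 3016], [184, 3, 2765, 1015, 1128, 3016], [199, 2, 3017, 1123, 3016], [217, 2, 3017, 1125, 3016], [235, 2, 3017, 1127, 3016], [253, 2, 3017, 1392, 3016], [0, 0], [112, 2, 3017, 1115, 3050], [112, 0, 3052, 3017, 3050], [129, 3, 1471, 1465, 1130, 3050], [145, 0, 3051, 1116, 3050], [147, 3, 1203, 1193, 1104, 3050], [163, 0, 3051, 1118, 3050], [165, 3, 2801, 2789, 1132, 3050], [181, 0, 3051, 1120, 3050], [183, 3, 2803, 2789, 1128, 3050], [199, 0, 3051, 1122, 3050], [217, 0, 3051, 1124, 3050], [235, 0, 3051, 1126, 3050], [253, 0, 3051, 1393, 3050], [129, 3, 3059, 3051, 1108, 2788], [147, 3, 3063, 3051, 1106, 1192], [165, 3, 3067, 3051, 1110, 2788], [183, 3, 3071, 3051, 1112, 2788], [267, 0, 2058, 2815, 3084], [268, 3, 2058, 2817, 3084], [263, 1, 3088, 2083, 2817], [264, 2, 3088, 2080, 2817], [0, 0], [257, 1, 2819, 1109, 3094],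 [258, 2, 1493, 1130, 3094], [261, 1, 1227, 1107, 3094], [262, 2, 1227, 1104, 3094], [263, 1, 2819, 1398, 3094], [264, 2, 2819, 1401, 3094], [265, 1, 2819, 1111, 3094], [266, 2, 2819, 1132, 3094], [267, 1, 2819, 1113, 3094], [268, 2, 2819, 1128, 3094], [272, 2, 3087, 3051, 3094], [287, 2, 3095, 1115, 3094], [301, 2, 3095, 1117, 3094], [313, 2, 3095, 1119, 3094], [323, 2, 3095, 1121, 3094], [331, 2, 3095, 1123, 3094], [337, 2, 3095, 1125, 3094], [341, 2, 3095, 1127, 3094], [343, 2, 3095, 1392, 3094], [271, 2, 3116, 3089, 3051], [0, 0], [45, 1, 3136], [55, 2, 2848, 1022, 463, 1134, 3136], [63, 2, 1528, 1160, 3136], [69, 2, 2848, 1162, 3136], [73, 2, 2848, 1403, 3136], [121, 2, 3137, 1145, 3136], [139, 2, 3137, 1147, 3136], [157, 2, 3137, 1149, 3136], [175, 2, 3137, 1151, 3136], [193, 2, 3137, 1153, 3136], [211, 2, 3137, 1155, 3136], [229, 2, 3137, 1157, 3136], [247, 2, 3137, 1360, 3136], [41, 1, 3146], [39, 1, 3144], [37, 2, 3142, 2866], [61, 3, 3142, 1530, 2866], [0, 0], [127, 2, 3173, 1145, 3172], [129,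 1, 2869, 1139, 1146, 3172], [130, 3, 1555, 521, 1160, 3172], [145, 2, 3173, 1147, 3172], [147, 1, 2869, 1404, 1148, 3172], [148, 3, 2869, 1031, 1403, 3172], [163, 2, 3173, 1149, 3172], [181, 2, 3173, 1151, 3172], [183, 1, 2869, 1143, 1152, 3172], [184, 3, 2869, 1035, 1158, 3172], [199, 2, 3173, 1153, 3172], [217, 2, 3173, 1155, 3172], [235, 2, 3173, 1157, 3172]]
def dJ8 : List (List ℕ) := [[253, 2, 3173, 1360, 3172], [0, 0], [112, 2, 3173, 1145, 3202], [112, 0, 3204, 3173, 3202], [129, 3, 1583, 1577, 1160, 3202], [145, 0, 3203, 1146, 3202], [147, 3, 2897, 2889, 1403, 3202], [163, 0, 3203, 1148, 3202], [181, 0, 3203, 1150, 3202], [183, 3, 2901, 2889, 1158, 3202], [199, 0, 3203, 1152, 3202], [217, 0, 3203, 1154, 3202], [235, 0, 3203, 1156, 3202], [253, 0, 3203, 1361, 3202], [129, 3, 3211, 3203, 1138, 2888], [147, 3, 3215, 3203, 1405, 2888], [183, 3, 3221, 3203, 1142, 2888], [62, 0, 3208, 2631, 2908], [44, 1, 3234], [0, 0], [257, 1, 2911, 1139, 3238], [258, 2, 1601, 1160, 3238], [259, 1, 2911, 1141, 3238],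 [260, 2, 2911, 1162, 3238], [261, 1, 2911, 1404, 3238], [262, 2, 2911, 1403, 3238], [263, 1, 1227, 1137, 3238], [264, 2, 1227, 1134, 3238], [267, 1, 2911, 1143, 3238], [268, 2, 2911, 1158, 3238], [287, 2, 3239, 1145, 3238], [301, 2, 3239, 1147, 3238], [313, 2, 3239, 1149, 3238], [323, 2, 3239, 1151, 3238], [331, 2, 3239, 1153, 3238], [337, 2, 3239, 1155, 3238], [341, 2, 3239, 1157, 3238], [343, 2, 3239, 1360, 3238], [267, 2, 3258, 2935, 1158], [0, 0], [39, 1, 3278], [69, 1, 2938, 1179, 3278], [71, 1, 2938, 1185, 3278], [115, 2, 3279, 1167, 3278], [133, 2, 3279, 1173, 3278], [151, 2, 3279, 1175, 3278], [169, 2, 3279, 1181, 3278], [187, 2, 3279, 1187, 3278], [205, 2, 3279, 1189, 3278], [223, 2, 3279, 1191, 3278], [241, 2, 3279, 1391, 3278], [47, 1, 3284], [45, 1, 3282], [0, 0], [43, 1, 3306], [61, 2, 2962, 1199, 3306], [67, 2, 2962, 2226, 3306], [86, 1, 3254, 2327, 3306], [263, 2, 2087, 2331, 3306], [264, 1, 2087, 2237, 3306], [260, 0, 3318, 2121, 2971], [262, 0, 3318, 2125, 2971], [0, 0], [127, 2, 3325,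 1423, 3324], [145, 2, 3325, 1425, 3324], [147, 1, 3325, 1421, 1426, 3324], [163, 2, 3325, 1427, 3324], [165, 1, 3325, 1417, 1428, 3324], [181, 2, 3325, 1429, 3324], [183, 1, 3325, 1419, 1430, 3324], [199, 2, 3325, 1431, 3324], [201, 2, 1465, 506, 1408, 3324], [217, 2, 3325, 1433, 3324], [235, 2, 3325, 1435, 3324], [253, 2, 3325, 1437, 3324], [202, 4, 3345, 3325, 1410, 1464], [83, 3, 3351, 2371, 3350], [85, 3, 3351, 2375, 3350], [269, 0, 2186, 2448, 3350], [270, 3, 2186, 2446, 3350], [0, 0], [112, 2, 3325, 1423, 3360], [112, 0, 3362, 3325, 3360], [145, 0, 3361, 1424, 3360], [163, 0, 3361, 1426, 3360], [181, 0, 3361, 1428, 3360], [199, 0, 3361, 1430, 3360], [202, 2, 1439, 1411, 1433, 3360], [202, 4, 1459, 1439, 1408, 3360], [217, 0, 3361, 1432, 3360], [235, 0, 3361, 1434, 3360], [253, 0, 3361, 1436, 3360], [147, 3, 3369, 3361, 1420, 3360], [165, 3, 3371, 3361, 1416, 3360], [183, 3, 3373, 3361, 1418, 3360], [256, 10, 1445, 3375, 3384, 3376, 1446, 865, 2281, 586, 319, 411, 405, 412, 319, 411, 416, 2353,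 103, 489, 1411, 1421, 1409, 487, 355, 850, 2559], [6, 0, 2559, 3390, 1634], [5, 0, 1637, 3392], [6, 0, 1634, 3392], [68, 3, 2561, 3396, 1641], [0, 0], [259, 1, 3401, 1413, 3400], [261, 1, 3401, 1421, 3400], [263, 1, 3401, 1415, 3400], [265, 1, 3401, 1417, 3400], [267, 1, 3401, 1419, 3400], [269, 1, 1493, 1411, 3400], [270, 2, 1493, 1408, 3400], [271, 1, 3357, 3325, 3400], [287, 2, 3401, 1423, 3400], [301, 2, 3401, 1425, 3400], [313, 2, 3401, 1427, 3400], [323, 2, 3401, 1429, 3400], [331, 2, 3401, 1431, 3400], [337, 2, 3401, 1433, 3400], [341, 2, 3401, 1435, 3400], [343, 2, 3401, 1437, 3400], [255, 24, 3416, 2186, 792, 354, 486, 1408, 1420, 1412, 3324, 3351, 1487, 2290, 1499, 3415, 3404, 3402, 3416, 2186, 792, 354, 486, 1408, 1420, 1412], [0, 0], [39, 1, 3436], [69, 1, 3438, 1450, 3436], [71, 1, 3438, 1454, 3436], [115, 2, 3437, 1441, 3436], [133, 2, 3437, 1443, 3436], [151, 2, 3437, 1449, 3436], [169, 2, 3437, 1453, 3436], [187, 2, 3437, 1457, 3436], [205, 2, 3437, 1459, 3436], [223, 2, 3437, 1461,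 3436], [241, 2, 3437, 1463, 3436], [0, 0], [43, 1, 3460], [77, 1, 3462, 1454, 3460], [119, 2, 3461, 1441, 3460], [137, 2, 3461, 1443, 3460], [155, 2, 3461, 1449, 3460], [173, 2, 3461, 1453, 3460], [191, 2, 3461, 1457, 3460], [209, 2, 3461, 1459, 3460], [227, 2, 3461, 1461, 3460], [245, 2, 3461, 1463, 3460], [0, 0], [47, 1, 3482], [57, 2, 3484, 1528, 516, 1526, 3482], [71, 2, 1816, 1552, 3482], [75, 2, 3484, 1534, 3482], [77, 2, 3484, 1530, 3482], [123, 2, 3483, 1537, 3482], [141, 2, 3483, 1539, 3482], [159, 2, 3483, 1541, 3482], [177, 2, 3483, 1543, 3482], [195, 2, 3483, 1545, 3482], [213, 2, 3483, 1547, 3482], [231, 2, 3483, 1549, 3482], [249, 2, 3483, 1551, 3482], [67, 0, 3492, 3488, 1822], [0, 0], [127, 2, 3513, 1537, 3512], [145, 2, 3513, 1539, 3512], [147, 1, 3513, 1535, 1540, 3512], [163, 2, 3513, 1541, 3512], [165, 1, 1555, 1529, 1542, 3512], [166, 3, 1555, 525, 1526, 3512], [181, 2, 3513, 1543, 3512], [199, 2, 3513, 1545, 3512], [217, 2, 3513, 1547, 3512], [235, 2, 3513, 1549, 3512], [253,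 2, 3513, 1551, 3512], [0, 0], [112, 2, 3513, 1537, 3536], [112, 0, 3538, 3513, 3536], [145, 0, 3537, 1538, 3536], [163, 0, 3537, 1540, 3536], [165, 3, 1587, 1577, 1526, 3536], [181, 0, 3537, 1542, 3536], [199, 0, 3537, 1544, 3536], [217, 0, 3537, 1546, 3536], [235, 0, 3537, 1548, 3536], [253, 0, 3537, 1550, 3536], [147, 3, 3545, 3537, 1534, 3536], [165, 3, 3549, 3537, 1528, 1576], [70, 1, 3546, 2627, 3560], [0, 0], [259, 1, 1891, 1533, 3564], [260, 2, 1891, 1552, 3564], [261, 1, 3565, 1535, 3564], [263, 1, 3565, 1531, 3564], [265, 1, 1601, 1529, 3564], [266, 2, 1601, 1526, 3564], [287, 2, 3565, 1537, 3564], [301, 2, 3565, 1539, 3564], [313, 2, 3565, 1541, 3564], [323, 2, 3565, 1543, 3564], [331, 2, 3565, 1545, 3564], [337, 2, 3565, 1547, 3564], [341, 2, 3565, 1549, 3564], [343, 2, 3565, 1551, 3564], [265, 2, 3576, 2316, 1526], [0, 0], [39, 1, 3596]]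
def dJ9 : List (List ℕ) := [[0, 0], [43, 1, 3600], [0, 0], [272, 2, 1601, 1554, 3604], [271, 2, 3606, 2316, 1554], [0, 0], [271, 1, 1601, 1576, 3610], [272, 2, 3605, 1579, 3610], [271, 2, 3614, 3609, 1579], [0, 0], [0, 0], [45, 1, 3620], [55, 2, 3622, 1654, 573, 1652, 3620], [69, 2, 1889, 2384, 3620], [88, 1, 3576, 2438, 3620], [265, 2, 2491, 2443, 3620], [266, 1, 2491, 2417, 3620], [260, 0, 3632, 2521, 2421], [0, 0], [43, 1, 3636], [53, 2, 3638, 1676, 638, 1694, 3636], [55, 1, 3638, 1670, 614, 1668, 3636], [61, 2, 3638, 1672, 3636], [67, 2, 3638, 1674, 3636], [119, 2, 3637, 1679, 3636], [137, 2, 3637, 1681, 3636], [155, 2, 3637, 1683, 3636], [173, 2, 3637, 1685, 3636], [191, 2, 3637, 1687, 3636], [209, 2, 3637, 1689, 3636], [227, 2, 3637, 1691, 3636], [245, 2, 3637, 1693, 3636], [0, 0], [47, 1, 3664], [57, 2, 3666, 1670, 618, 1668, 3664], [65, 2, 3666, 1672, 3664], [71, 2, 3666, 1674, 3664], [75, 2, 1816, 1694, 3664], [123, 2, 3665, 1679, 3664], [141, 2, 3665, 1681, 3664], [159, 2, 3665, 1683, 3664],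 [177, 2, 3665, 1685, 3664], [195, 2, 3665, 1687, 3664], [213, 2, 3665, 1689, 3664], [231, 2, 3665, 1691, 3664], [249, 2, 3665, 1693, 3664], [41, 1, 3674], [107, 16, 3641, 3637, 1669, 619, 1406, 611, 119, 222, 243, 103, 489, 1278, 1130, 2975, 3014, 2760, 1002, 461, 458, 1020, 1403, 1140, 1024, 1526, 1530, 1534, 1532, 1814, 1818, 1822, 3692], [108, 15, 3641, 3637, 1669, 619, 1406, 611, 119, 222, 243, 103, 489, 1278, 1130, 2975, 3014, 2762, 1002, 461, 458, 1020, 1403, 1140, 1024, 1526, 1530, 1534, 1532, 1814, 1818, 1822, 3692], [0, 0], [79, 1, 3698], [81, 1, 3699, 1673, 3698], [83, 1, 3699, 1675, 3698], [85, 1, 3694, 3637, 3698], [86, 2, 3694, 3638, 3698], [87, 1, 1697, 1671, 3698], [88, 2, 1697, 1668, 3698], [89, 1, 3697, 3665, 3698], [90, 2, 3697, 3666, 3698], [93, 3, 3700, 1676, 1552, 1535, 2503, 2499, 2500, 1535, 2503, 2521, 928, 1694, 3698], [125, 2, 3699, 1679, 3698], [143, 2, 3699, 1681, 3698], [161, 2, 3699, 1683, 3698], [179, 2, 3699, 1685, 3698], [197, 2, 3699, 1687, 3698], [215, 2, 3699, 1689,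 3698], [233, 2, 3699, 1691, 3698], [251, 2, 3699, 1693, 3698], [0, 0], [127, 2, 3737, 1679, 3736], [129, 1, 3737, 1673, 1680, 3736], [145, 2, 3737, 1681, 3736], [147, 1, 1841, 1677, 1682, 3736], [148, 3, 1841, 647, 1694, 3736], [163, 2, 3737, 1683, 3736], [165, 1, 1727, 1671, 1684, 3736], [166, 3, 1727, 627, 1668, 3736], [181, 2, 3737, 1685, 3736], [199, 2, 3737, 1687, 3736], [217, 2, 3737, 1689, 3736], [235, 2, 3737, 1691, 3736], [253, 2, 3737, 1693, 3736], [0, 0], [112, 2, 3737, 1679, 3764], [112, 0, 3766, 3737, 3764], [145, 0, 3765, 1680, 3764], [147, 3, 1873, 1865, 1694, 3764], [163, 0, 3765, 1682, 3764], [165, 3, 1765, 1753, 1668, 3764], [181, 0, 3765, 1684, 3764], [199, 0, 3765, 1686, 3764], [217, 0, 3765, 1688, 3764], [235, 0, 3765, 1690, 3764], [253, 0, 3765, 1692, 3764], [129, 3, 3771, 3765, 1672, 3764], [147, 3, 3775, 3765, 1676, 1864], [165, 3, 3779, 3765, 1670, 1752], [70, 1, 3776, 2415, 3792], [265, 0, 2570, 2419, 3792], [266, 3, 2570, 2437, 3792], [0, 0], [257, 1, 3801, 1673, 3800], [259,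 1, 3801, 1675, 3800], [261, 1, 1891, 1677, 3800], [262, 2, 1891, 1694, 3800], [265, 1, 1781, 1671, 3800], [266, 2, 1781, 1668, 3800], [272, 2, 3797, 3765, 3800], [287, 2, 3801, 1679, 3800], [301, 2, 3801, 1681, 3800], [313, 2, 3801, 1683, 3800], [323, 2, 3801, 1685, 3800], [331, 2, 3801, 1687, 3800], [337, 2, 3801, 1689, 3800], [341, 2, 3801, 1691, 3800], [343, 2, 3801, 1693, 3800], [271, 2, 3814, 3799, 3765], [0, 0], [127, 2, 3835, 1711, 3834], [129, 1, 3835, 1701, 1712, 3834], [145, 2, 3835, 1713, 3834], [147, 1, 3835, 1709, 1714, 3834], [163, 2, 3835, 1715, 3834], [181, 2, 3835, 1717, 3834], [183, 1, 3835, 1707, 1718, 3834], [199, 2, 3835, 1719, 3834], [201, 2, 1753, 630, 1696, 3834], [217, 2, 3835, 1721, 3834], [235, 2, 3835, 1723, 3834], [253, 2, 3835, 1725, 3834], [202, 4, 3855, 3835, 1698, 1752], [83, 3, 3861, 2414, 3860], [85, 3, 3861, 2433, 3860], [269, 0, 2598, 2419, 3860], [270, 3, 2598, 2437, 3860], [0, 0], [112, 2, 3835, 1711, 3870], [112, 0, 3872, 3835, 3870], [145, 0, 3871, 1712, 3870],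 [163, 0, 3871, 1714, 3870], [181, 0, 3871, 1716, 3870], [199, 0, 3871, 1718, 3870], [202, 2, 1727, 1699, 1721, 3870], [202, 4, 1747, 1727, 1696, 3870], [217, 0, 3871, 1720, 3870], [235, 0, 3871, 1722, 3870], [253, 0, 3871, 1724, 3870], [129, 3, 3877, 3871, 1700, 3870], [147, 3, 3879, 3871, 1708, 3870], [183, 3, 3883, 3871, 1706, 3870], [0, 0], [257, 1, 3901, 1701, 3900], [259, 1, 3901, 1703, 3900], [261, 1, 3901, 1709, 3900], [263, 1, 3901, 1705, 3900], [267, 1, 3901, 1707, 3900], [269, 1, 1781, 1699, 3900], [270, 2, 1781, 1696, 3900], [271, 1, 3867, 3835, 3900], [287, 2, 3901, 1711, 3900], [301, 2, 3901, 1713, 3900], [313, 2, 3901, 1715, 3900], [323, 2, 3901, 1717, 3900], [331, 2, 3901, 1719, 3900], [337, 2, 3901, 1721, 3900], [341, 2, 3901, 1723, 3900], [343, 2, 3901, 1725, 3900], [255, 24, 3916, 2598, 896, 380, 610, 1696, 1708, 1702, 3834, 3861, 1777, 2399, 1789, 3915, 3906, 3904, 3916, 2598, 896, 380, 610, 1696, 1708, 1702], [0, 0], [39, 1, 3936], [71, 1, 3938, 1742, 3936], [115, 2, 3937, 1729,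 3936], [133, 2, 3937, 1733, 3936], [151, 2, 3937, 1739, 3936], [169, 2, 3937, 1741, 3936], [187, 2, 3937, 1745, 3936], [205, 2, 3937, 1747, 3936], [223, 2, 3937, 1749, 3936], [241, 2, 3937, 1751, 3936], [0, 0], [43, 1, 3958], [61, 2, 3960, 1730, 3958], [77, 1, 3960, 1742, 3958], [119, 2, 3959, 1729, 3958], [137, 2, 3959, 1733, 3958], [155, 2, 3959, 1739, 3958], [173, 2, 3959, 1741, 3958], [191, 2, 3959, 1745, 3958], [209, 2, 3959, 1747, 3958], [227, 2, 3959, 1749, 3958], [245, 2, 3959, 1751, 3958], [0, 0], [127, 2, 3983, 1825, 3982], [129, 1, 3983, 1821, 1826, 3982], [145, 2, 3983, 1827, 3982], [163, 2, 3983, 1829, 3982], [165, 1, 3983, 1819, 1830, 3982], [181, 2, 3983, 1831, 3982], [183, 1, 1841, 1817, 1832, 3982], [184, 3, 1841, 651, 1814, 3982]]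
def dJ10 : List (List ℕ) := [[199, 2, 3983, 1833, 3982], [217, 2, 3983, 1835, 3982], [235, 2, 3983, 1837, 3982], [253, 2, 3983, 1839, 3982], [0, 0], [112, 2, 3983, 1825, 4008], [112, 0, 4010, 3983, 4008], [145, 0, 4009, 1826, 4008], [163, 0, 4009, 1828, 4008], [181, 0, 4009, 1830, 4008], [183, 3, 1879, 1865, 1814, 4008], [199, 0, 4009, 1832, 4008], [217, 0, 4009, 1834, 4008], [235, 0, 4009, 1836, 4008], [253, 0, 4009, 1838, 4008], [129, 3, 4015, 4009, 1820, 4008], [165, 3, 4019, 4009, 1818, 4008], [183, 3, 4023, 4009, 1816, 1864], [78, 1, 4020, 2422, 4034], [267, 0, 2668, 2421, 4034], [268, 3, 2668, 2431, 4034], [0, 0], [257, 1, 4043, 1821, 4042], [263, 1, 4043, 1823, 4042], [265, 1, 4043, 1819, 4042], [267, 1, 1891, 1817, 4042], [268, 2, 1891, 1814, 4042], [269, 1, 4040, 2676, 4042], [270, 2, 4040, 2678, 4042], [272, 2, 4039, 4009, 4042], [287, 2, 4043, 1825, 4042], [301, 2, 4043, 1827, 4042], [313, 2, 4043, 1829, 4042], [323, 2, 4043, 1831, 4042], [331, 2, 4043, 1833, 4042], [337, 2, 4043, 1835,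 4042], [341, 2, 4043, 1837, 4042], [343, 2, 4043, 1839, 4042], [271, 2, 4058, 4041, 4009], [0, 0], [69, 1, 1922, 1853, 4078], [45, 1, 4080], [0, 0], [43, 1, 4084], [61, 2, 4086, 1844, 4084], [119, 2, 4085, 1843, 4084], [137, 2, 4085, 1847, 4084], [155, 2, 4085, 1849, 4084], [173, 2, 4085, 1855, 4084], [191, 2, 4085, 1857, 4084], [209, 2, 4085, 1859, 4084], [227, 2, 4085, 1861, 4084], [245, 2, 4085, 1863, 4084], [0, 0], [41, 1, 4106], [0, 0], [43, 1, 4110], [67, 2, 1928, 1920, 4110], [77, 1, 4112, 1924, 4110], [71, 0, 4116, 4114, 1930], [0, 0], [41, 1, 4120], [0, 0], [39, 1, 4124], [115, 2, 4125, 1965, 4124], [133, 2, 4125, 1967, 4124], [151, 2, 4125, 1969, 4124], [169, 2, 4125, 1971, 4124], [187, 2, 4125, 1973, 4124], [205, 2, 4125, 1975, 4124], [223, 2, 4125, 1977, 4124], [241, 2, 4125, 1979, 4124], [109, 1, 4126, 1960, 1980, 2122, 2100, 1161, 514, 610, 614, 618, 1696, 1701, 1702, 1708, 1704, 1706, 1698, 617, 1407, 612, 120, 205, 159, 254, 344, 790, 1363, 798, 2184], [81, 0, 1962, 2187, 4144], [82,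 3, 1962, 2184, 4144], [0, 0], [112, 2, 2826, 1965, 4150], [112, 0, 4152, 2826, 4150], [145, 0, 4151, 1966, 4150], [147, 3, 2021, 2011, 1958, 4150], [163, 0, 4151, 1968, 4150], [181, 0, 4151, 1970, 4150], [199, 0, 4151, 1972, 4150], [217, 0, 4151, 1974, 4150], [235, 0, 4151, 1976, 4150], [253, 0, 4151, 1978, 4150], [271, 0, 2791, 2816, 4150], [272, 3, 2791, 2814, 4150], [129, 3, 4157, 4151, 1962, 2458], [147, 3, 4161, 4151, 1960, 2010], [0, 0], [45, 1, 4180], [87, 2, 2847, 1987, 4180], [88, 1, 2847, 1989, 4180], [121, 2, 4181, 1991, 4180], [139, 2, 4181, 1993, 4180], [157, 2, 4181, 1995, 4180], [175, 2, 4181, 1997, 4180], [193, 2, 4181, 1999, 4180], [211, 2, 4181, 2001, 4180], [229, 2, 4181, 2003, 4180], [247, 2, 4181, 2005, 4180], [82, 0, 4186, 2867, 2503], [0, 0], [127, 2, 4207, 1991, 4206], [129, 1, 2523, 1985, 1992, 4206], [145, 2, 4207, 1993, 4206], [163, 2, 4207, 1995, 4206], [181, 2, 4207, 1997, 4206], [199, 2, 4207, 1999, 4206], [201, 2, 2889, 1036, 1987, 4206], [217, 2, 4207, 2001, 4206], [235,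 2, 4207, 2003, 4206], [253, 2, 4207, 2005, 4206], [202, 4, 4223, 4207, 1988, 2888], [0, 0], [112, 2, 4207, 1991, 4230], [202, 2, 2869, 1989, 2001, 4230], [202, 4, 2883, 2869, 1987, 4230], [0, 0], [39, 1, 4238], [49, 2, 3280, 1168, 3397, 2017, 4238], [83, 2, 2937, 2029, 4238], [84, 1, 2937, 2027, 4238], [115, 2, 4239, 2014, 4238], [133, 2, 4239, 2018, 4238], [151, 2, 4239, 2020, 4238], [169, 2, 4239, 2022, 4238], [187, 2, 4239, 2024, 4238], [205, 2, 4239, 2030, 4238], [223, 2, 4239, 2032, 4238], [241, 2, 4239, 2034, 4238], [259, 2, 2937, 2456, 4238], [260, 1, 2937, 2452, 4238], [0, 0], [43, 1, 4268], [61, 2, 2562, 2017, 4268], [86, 1, 2957, 2027, 4268], [0, 0], [39, 1, 4276], [49, 2, 4126, 1962, 794, 2078, 4276], [51, 1, 4126, 1960, 761, 2050, 4276], [67, 1, 4126, 2082, 4276], [69, 1, 4126, 2084, 4276], [71, 1, 4126, 2076, 4276], [93, 7, 4148, 1959, 738, 1003, 2761, 2739, 2763, 3015, 3009, 1106, 769, 2050, 4276], [107, 8, 4284, 4291, 4278, 2058, 2084, 2080, 1960, 738, 1003, 1398, 1133, 1113, 2975, 3014,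 2981, 3012, 2977, 2973, 1105, 1137, 1138, 1141, 1402, 1987, 2124, 2094, 2093, 2088, 2050, 4276, 4280], [115, 2, 4277, 2061, 4276], [133, 2, 4277, 2063, 4276], [151, 2, 4277, 2065, 4276], [169, 2, 4277, 2067, 4276], [187, 2, 4277, 2069, 4276], [205, 2, 4277, 2071, 4276], [223, 2, 4277, 2073, 4276], [241, 2, 4277, 2075, 4276], [87, 2, 2085, 4149, 4292], [88, 1, 2085, 4147, 4292], [82, 0, 4312, 2079, 2187], [86, 0, 4312, 2083, 4147], [90, 0, 4312, 2077, 4147], [0, 0], [112, 2, 3116, 2061, 4320], [112, 0, 4322, 3116, 4320], [129, 3, 2465, 2459, 2078, 4320], [145, 0, 4321, 2062, 4320], [147, 3, 2141, 2131, 2050, 4320], [163, 0, 4321, 2064, 4320], [165, 3, 4163, 4151, 2084, 4320], [181, 0, 4321, 2066, 4320], [183, 3, 4165, 4151, 2076, 4320], [199, 0, 4321, 2068, 4320], [217, 0, 4321, 2070, 4320], [235, 0, 4321, 2072, 4320], [253, 0, 4321, 2074, 4320], [271, 0, 3053, 3088, 4320], [272, 3, 3053, 3086, 4320], [129, 3, 4329, 4321, 2054, 4150], [147, 3, 4333, 4321, 2052, 2130], [165, 3, 4337, 4321, 2056, 4150],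 [183, 3, 4341, 4321, 2058, 4150], [0, 0], [45, 1, 4360], [55, 2, 4182, 1982, 763, 2086, 4360], [63, 2, 2492, 2118, 4360], [69, 2, 4182, 2120, 4360], [73, 2, 4182, 2124, 4360], [87, 2, 3137, 2099, 4360], [88, 1, 3137, 2101, 4360], [100, 4, 4374, 3146, 2847, 1404, 2101, 2125, 1986, 1404, 2101, 4360, 4374, 3146, 4185], [121, 2, 4361, 2103, 4360], [139, 2, 4361, 2105, 4360], [157, 2, 4361, 2107, 4360], [175, 2, 4361, 2109, 4360], [193, 2, 4361, 2111, 4360], [211, 2, 4361, 2113, 4360], [229, 2, 4361, 2115, 4360], [247, 2, 4361, 2117, 4360], [94, 7, 4371, 4372, 3165, 4187, 4371, 4372, 3144, 4185, 4376, 4374, 3146, 4185, 4376], [98, 7, 4371, 4372, 3165, 4187, 4371, 4372, 3140, 4185, 4376, 4374, 3146, 4185, 4376], [105, 13, 4374, 3146, 4185, 4376, 4374, 3146, 3168, 3165, 4187, 4371, 4372, 3165, 4187]]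
def dJ11 : List (List ℕ) := [[0, 0], [127, 2, 4401, 2103, 4400], [129, 1, 4207, 2093, 2104, 4400], [130, 3, 2523, 829, 2118, 4400], [145, 2, 4401, 2105, 4400], [147, 1, 4207, 2091, 2106, 4400], [148, 3, 4207, 1995, 2124, 4400], [163, 2, 4401, 2107, 4400], [181, 2, 4401, 2109, 4400], [183, 1, 4207, 2097, 2110, 4400], [184, 3, 4207, 1999, 2122, 4400], [199, 2, 4401, 2111, 4400], [201, 2, 3203, 1154, 2099, 4400], [217, 2, 4401, 2113, 4400], [219, 10, 4412, 4220, 2889, 1038, 1987, 2124, 2100, 1405, 1987, 2124, 4400, 4412, 4220, 3230], [219, 14, 4429, 3231, 4221, 4413, 4429, 3231, 2889, 1404, 2101, 2125, 1986, 1404, 2101, 4400], [253, 2, 4401, 2117, 4400], [85, 3, 4229, 3237, 4428], [86, 0, 4229, 3234, 4428], [0, 0], [112, 2, 4401, 2103, 4438], [202, 2, 3173, 2101, 2113, 4438], [202, 4, 3197, 3173, 2099, 4438], [0, 0], [39, 1, 4446], [69, 1, 4240, 2143, 4446], [71, 1, 4240, 2147, 4446], [83, 2, 3279, 2153, 4446], [84, 1, 3279, 2151, 4446], [115, 2, 4447, 2134, 4446], [133, 2, 4447, 2138, 4446], [151, 2,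 4447, 2140, 4446], [169, 2, 4447, 2144, 4446], [187, 2, 4447, 2148, 4446], [205, 2, 4447, 2154, 4446], [223, 2, 4447, 2156, 4446], [241, 2, 4447, 2158, 4446], [259, 2, 3279, 2455, 4446], [260, 1, 3279, 2451, 4446], [258, 0, 4476, 4243, 4264], [266, 0, 4476, 3305, 4267], [268, 0, 4476, 3303, 4267], [0, 0], [111, 1, 3416, 2198, 4484], [111, 3, 4486, 3416, 4484], [145, 2, 4485, 2201, 4484], [147, 1, 4485, 2197, 2202, 4484], [163, 2, 4485, 2203, 4484], [165, 1, 4485, 2193, 2204, 4484], [181, 2, 4485, 2205, 4484], [183, 1, 4485, 2195, 2206, 4484], [199, 2, 4485, 2207, 4484], [201, 2, 2459, 810, 2184, 4484], [217, 2, 4485, 2209, 4484], [235, 2, 4485, 2211, 4484], [253, 2, 4485, 2213, 4484], [271, 2, 3362, 3356, 4484], [272, 1, 3362, 3358, 4484], [202, 4, 4507, 4485, 2186, 2458], [0, 0], [39, 1, 4518], [51, 1, 3438, 1444, 3397, 2467, 4518], [69, 1, 4520, 2487, 4518], [259, 2, 3437, 2483, 4518], [260, 1, 3437, 2481, 4518], [261, 1, 4526, 4523, 4528], [237, 3, 4108, 1922, 657, 515, 1396, 511, 489, 491, 1280,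 1438, 3436, 4530], [43, 1, 4532], [0, 0], [43, 1, 4536], [237, 4, 3938, 1727, 1406, 611, 119, 280, 103, 1290, 534, 3397, 2467, 4536], [263, 2, 3461, 2483, 4536], [264, 1, 3461, 2481, 4536], [41, 1, 4540], [51, 0, 4540, 3938, 1734, 1920, 4106], [0, 0], [47, 1, 4550], [57, 2, 4552, 2492, 820, 2490, 4550], [71, 2, 2668, 2520, 4550], [75, 2, 4552, 2498, 4550], [77, 2, 4552, 2494, 4550], [89, 2, 3483, 2501, 4550], [90, 1, 3483, 2503, 4550], [123, 2, 4551, 2505, 4550], [141, 2, 4551, 2507, 4550], [159, 2, 4551, 2509, 4550], [177, 2, 4551, 2511, 4550], [195, 2, 4551, 2513, 4550], [213, 2, 4551, 2515, 4550], [231, 2, 4551, 2517, 4550], [249, 2, 4551, 2519, 4550], [84, 0, 4564, 3511, 2679], [0, 0], [127, 2, 4585, 2505, 4584], [145, 2, 4585, 2507, 4584], [147, 1, 4585, 2499, 2508, 4584], [163, 2, 4585, 2509, 4584], [165, 1, 2523, 2493, 2510, 4584], [166, 3, 2523, 833, 2490, 4584], [181, 2, 4585, 2511, 4584], [199, 2, 4585, 2513, 4584], [201, 2, 3537, 1546, 2501, 4584], [217, 2, 4585, 2515, 4584], [219, 10, 4591,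 4602, 3537, 1548, 2501, 2498, 2502, 1534, 2501, 2498, 4584, 4591, 4602, 3558], [219, 14, 4607, 3559, 4603, 4590, 4607, 3559, 3537, 1535, 2503, 2499, 2500, 1535, 2503, 4584], [253, 2, 4585, 2519, 4584], [83, 3, 4607, 3563, 4606], [0, 0], [112, 2, 4585, 2505, 4614], [202, 2, 3513, 2503, 2515, 4614], [202, 4, 3531, 3513, 2501, 4614], [0, 0], [41, 1, 4622], [53, 1, 4546, 4538, 2485, 2560, 4622], [75, 1, 4624, 2564, 4622], [261, 2, 3619, 2567, 4622], [77, 0, 4628, 4626, 3940], [67, 2, 3960, 3936, 4632], [39, 1, 4634], [0, 0], [43, 1, 4638], [53, 2, 4640, 2576, 922, 2594, 4638], [55, 1, 4640, 2570, 898, 2568, 4638], [61, 2, 4640, 2572, 4638], [67, 2, 4640, 2574, 4638], [119, 2, 4639, 2579, 4638], [137, 2, 4639, 2581, 4638], [155, 2, 4639, 2583, 4638], [173, 2, 4639, 2585, 4638], [191, 2, 4639, 2587, 4638], [209, 2, 4639, 2589, 4638], [227, 2, 4639, 2591, 4638], [245, 2, 4639, 2593, 4638], [0, 0], [47, 1, 4666], [57, 2, 4668, 2570, 902, 2568, 4666], [65, 2, 4668, 2572, 4666], [71, 2, 4668, 2574, 4666], [75,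 2, 2668, 2594, 4666], [101, 7, 2676, 3675, 3694, 3641, 3697, 3665, 3698, 3718, 3700, 1676, 927, 2594, 4666], [123, 2, 4667, 2579, 4666], [141, 2, 4667, 2581, 4666], [159, 2, 4667, 2583, 4666], [177, 2, 4667, 2585, 4666], [195, 2, 4667, 2587, 4666], [213, 2, 4667, 2589, 4666], [231, 2, 4667, 2591, 4666], [249, 2, 4667, 2593, 4666], [97, 8, 4678, 2676, 3675, 3694, 3637, 3698, 3718, 3700, 1676, 927, 2594, 4638, 4643], [103, 6, 4678, 2676, 3675, 3694, 3641, 3697, 3694, 3695, 3674, 2677, 4679, 4697, 4642], [0, 0], [79, 1, 4700], [81, 1, 4701, 2573, 4700], [83, 1, 4701, 2575, 4700], [85, 1, 4699, 4639, 4700], [86, 2, 4699, 4640, 4700], [87, 1, 2597, 2571, 4700], [88, 2, 2597, 2568, 4700], [89, 1, 4696, 4667, 4700], [90, 2, 4696, 4668, 4700], [91, 1, 4702, 2576, 928, 1694, 3698, 3718, 3700, 1676, 927, 2594, 4700], [125, 2, 4701, 2579, 4700], [143, 2, 4701, 2581, 4700], [161, 2, 4701, 2583, 4700], [179, 2, 4701, 2585, 4700], [197, 2, 4701, 2587, 4700], [215, 2, 4701, 2589, 4700], [233, 2, 4701, 2591, 4700],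 [251, 2, 4701, 2593, 4700], [0, 0], [112, 2, 3814, 2579, 4738], [112, 0, 4740, 3814, 4738], [145, 0, 4739, 2580, 4738], [147, 3, 2705, 2697, 2594, 4738], [163, 0, 4739, 2582, 4738], [165, 3, 2647, 2635, 2568, 4738], [181, 0, 4739, 2584, 4738], [199, 0, 4739, 2586, 4738], [217, 0, 4739, 2588, 4738], [235, 0, 4739, 2590, 4738], [253, 0, 4739, 2592, 4738], [271, 0, 3767, 3798, 4738], [272, 3, 3767, 3796, 4738], [129, 3, 4745, 4739, 2572, 4738], [147, 3, 4749, 4739, 2576, 2696], [165, 3, 4753, 4739, 2570, 2634], [0, 0], [111, 1, 3916, 2610, 4772], [111, 3, 4774, 3916, 4772], [129, 1, 4773, 2601, 2612, 4772], [145, 2, 4773, 2613, 4772], [147, 1, 4773, 2609, 2614, 4772], [163, 2, 4773, 2615, 4772], [181, 2, 4773, 2617, 4772], [183, 1, 4773, 2607, 2618, 4772], [199, 2, 4773, 2619, 4772], [201, 2, 2635, 914, 2596, 4772], [217, 2, 4773, 2621, 4772], [235, 2, 4773, 2623, 4772], [253, 2, 4773, 2625, 4772]]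
def dJ12 : List (List ℕ) := [[271, 2, 3872, 3866, 4772], [272, 1, 3872, 3868, 4772], [202, 4, 4795, 4773, 2598, 2634], [0, 0], [39, 1, 4806], [259, 2, 3937, 2659, 4806], [260, 1, 3937, 2657, 4806], [262, 0, 4812, 4541, 4542], [0, 0], [43, 1, 4816], [61, 2, 4818, 2661, 4816], [263, 2, 3959, 2659, 4816], [264, 1, 3959, 2657, 4816], [260, 0, 4824, 4635, 4630], [51, 1, 4636, 4624, 3399, 3618, 4826], [41, 1, 4828], [53, 5, 4816, 4828, 3960, 1734, 1926, 4120], [8, 0, 4123, 4832, 2663], [6, 0, 4119, 4835, 2730], [10, 0, 1929, 4835, 2734], [10, 0, 4110, 4837], [9, 0, 2737, 4838], [10, 0, 2734, 4838], [0, 0], [112, 2, 4058, 2681, 4846], [112, 0, 4848, 4058, 4846], [145, 0, 4847, 2682, 4846], [163, 0, 4847, 2684, 4846], [181, 0, 4847, 2686, 4846], [183, 3, 2711, 2697, 2666, 4846], [199, 0, 4847, 2688, 4846], [202, 2, 3983, 2679, 2691, 4846], [202, 4, 4003, 3983, 2677, 4846], [217, 0, 4847, 2690, 4846], [235, 0, 4847, 2692, 4846], [253, 0, 4847, 2694, 4846], [271, 0, 4011, 4040, 4846], [272, 3, 4011, 4038, 4846],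 [129, 3, 4853, 4847, 2672, 4846], [165, 3, 4857, 4847, 2670, 4846], [183, 3, 4861, 4847, 2668, 2696], [0, 0], [260, 1, 4079, 2723, 4882], [266, 0, 4884, 4083, 2733], [0, 0], [43, 1, 4888], [55, 1, 4086, 1850, 4842, 2707, 4888], [61, 2, 4890, 2727, 4888], [85, 2, 4085, 2715, 4888], [86, 1, 4085, 2713, 4888], [119, 2, 4889, 2700, 4888], [137, 2, 4889, 2702, 4888], [155, 2, 4889, 2704, 4888], [173, 2, 4889, 2708, 4888], [191, 2, 4889, 2710, 4888], [209, 2, 4889, 2716, 4888], [227, 2, 4889, 2718, 4888], [245, 2, 4889, 2720, 4888], [263, 2, 4085, 2725, 4888], [264, 1, 4085, 2723, 4888], [265, 1, 4916, 4893, 4918], [0, 0], [127, 2, 4923, 2743, 4922], [129, 1, 3325, 2758, 2744, 4922], [145, 2, 4923, 2745, 4922], [163, 2, 4923, 2747, 4922], [181, 2, 4923, 2749, 4922], [199, 2, 4923, 2751, 4922], [201, 2, 2789, 1016, 2763, 4922], [217, 2, 4923, 2753, 4922], [235, 2, 4923, 2755, 4922], [253, 2, 4923, 2757, 4922], [202, 4, 4939, 4923, 2760, 2788], [269, 0, 4146, 2815, 4944], [270, 3, 4146, 2817, 4944], [259,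 1, 4948, 4125, 2817], [260, 2, 4948, 4126, 2817], [238, 7, 3313, 3323, 2961, 2812, 4952, 4923, 2757, 2740, 1002, 1020, 1403, 1140, 2868], [4, 0, 2965, 4955, 2872], [3, 0, 3310, 4955, 3177], [5, 0, 4958, 3321, 4955], [6, 0, 4958, 3312, 4955], [9, 0, 2963, 4955], [10, 0, 2960, 4955], [16, 0, 2967, 4955, 4237], [35, 0, 2971, 4955], [36, 0, 2969, 4955], [6, 0, 2381, 4957, 3596], [10, 0, 1655, 4957, 3600], [12, 0, 3621, 4957, 3525], [16, 0, 2438, 4957, 2555], [36, 0, 2417, 4957, 3604], [9, 0, 3309, 4959], [10, 0, 3306, 4959], [16, 0, 3315, 4959, 4445], [35, 0, 3319, 4959], [36, 0, 3317, 4959], [15, 0, 4235, 4968], [16, 0, 4237, 4968], [17, 0, 4230, 4968], [18, 0, 4233, 4968], [5, 0, 3599, 4974], [6, 0, 3596, 4974], [9, 0, 3603, 4976], [10, 0, 3600, 4976], [5, 0, 3627, 4979], [6, 0, 3634, 4979], [9, 0, 4978, 3625, 4979], [16, 0, 3629, 4979, 4621], [35, 0, 3633, 4979], [36, 0, 3631, 4979], [15, 0, 2553, 4980], [16, 0, 2555, 4980], [17, 0, 2551, 4980, 3613], [18, 0, 3607, 4982], [35, 0, 3608, 4982], [36, 0,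 3604, 4982], [15, 0, 4443, 4988], [16, 0, 4445, 4988], [17, 0, 4438, 4988], [18, 0, 4441, 4988], [15, 0, 4619, 5016], [16, 0, 4621, 5016], [17, 0, 4614, 5016], [18, 0, 4617, 5016], [17, 0, 3613, 5026], [35, 0, 3616, 5026], [36, 0, 3610, 5026], [257, 0, 4210, 5054, 2908], [258, 1, 4406, 5054, 3209], [265, 0, 4594, 5054, 3560], [269, 2, 4602, 5060, 4607], [269, 2, 4424, 5058, 4429], [258, 1, 3228, 5064, 4404], [256, 19, 3885, 3896, 3886, 1736, 967, 2408, 2367, 515, 1396, 825, 1364, 822, 1396, 825, 5028, 1604, 1787, 3913, 3907, 3914, 1788, 2398, 678, 1923, 4109], [6, 0, 4549, 5068, 3936], [8, 0, 4109, 5068, 1734], [10, 0, 4535, 5068, 3958], [8, 0, 4546, 5071], [10, 0, 4539, 5071, 4632], [36, 0, 4545, 5071, 4811], [6, 0, 1920, 5073], [10, 0, 4840, 5073, 4842], [12, 0, 4083, 5073, 1853], [8, 0, 4523, 5075, 4830], [11, 0, 5074, 4525, 5075], [5, 0, 4635, 5078], [6, 0, 4636, 5078], [8, 0, 4625, 5078, 2485], [9, 0, 4627, 5078], [10, 0, 4632, 5078], [5, 0, 4809, 5080], [6, 0, 4806, 5080], [8, 0, 4814, 5080],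 [35, 0, 4813, 5080], [36, 0, 4811, 5080], [6, 0, 2730, 5085], [12, 0, 4887, 5085, 2707], [6, 0, 4078, 5087], [3, 0, 5089, 4821, 5088], [7, 0, 4829, 5088], [8, 0, 4830, 5088], [9, 0, 4819, 5088], [10, 0, 4816, 5088], [35, 0, 4825, 5088], [36, 0, 4823, 5088], [3, 0, 4272, 5097, 2160], [6, 0, 3398, 5097, 3394], [10, 0, 2560, 5097], [6, 0, 4882, 5115], [9, 0, 4271, 5133], [10, 0, 4268, 5133], [16, 0, 4275, 5133, 2150], [10, 0, 1638, 5135], [9, 0, 2959, 5145], [10, 0, 2956, 5145], [68, 2, 3279, 5150, 2939], [44, 1, 5152], [62, 2, 4479, 5152, 4243], [44, 1, 5156], [68, 3, 4889, 5138, 4891], [72, 3, 4858, 5138, 4880], [237, 9, 4746, 5138, 2721, 2697, 2520, 2498, 2494, 2498, 2496, 2696, 5138, 4768], [54, 3, 4889, 4768, 5164, 4746, 4891], [263, 1, 4763, 5164, 4762], [53, 4, 4086, 3747, 5168, 3744, 4084], [93, 6, 5171, 4899, 5166, 4896, 5171, 4899, 5160, 4898, 5170, 4897, 5167, 4898, 5170], [83, 1, 4863, 5162, 4862], [49, 3, 2768, 3436, 5118, 3438, 3023], [39, 1, 5176], [51, 3, 3280, 3029, 5176, 2772, 2936],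 [259, 3, 4348, 5176, 4173], [107, 1, 4448, 2136, 5143, 4331, 5183, 4177, 2487, 5098, 5077, 3938, 1742, 3753, 5168, 3744, 2713, 4768, 5164, 4750, 2664, 5103, 5106, 3461, 1451, 2769, 5177, 3028, 5150, 1171, 3281, 5181, 4245], [41, 1, 5184], [95, 3, 4245, 5184, 5186, 5187, 4454, 5181, 4247, 5187, 4454, 5181, 4245, 5184, 4456], [51, 4, 4355, 4446, 5186, 4240, 4159], [0, 0], [112, 2, 4923, 2743, 5192], [112, 0, 5194, 4923, 5192], [145, 0, 5193, 2744, 5192]]
def dJ13 : List (List ℕ) := [[163, 0, 5193, 2746, 5192], [181, 0, 5193, 2748, 5192], [199, 0, 5193, 2750, 5192], [202, 2, 2765, 2761, 2753, 5192], [202, 4, 2783, 2765, 2763, 5192], [217, 0, 5193, 2752, 5192], [235, 0, 5193, 2754, 5192], [253, 0, 5193, 2756, 5192], [129, 3, 5199, 5193, 2759, 3360], [0, 0], [257, 1, 3401, 2758, 5218], [259, 1, 2819, 2741, 5218], [260, 2, 2819, 2738, 5218], [269, 1, 2819, 2761, 5218], [270, 2, 2819, 2763, 5218], [271, 1, 4947, 4923, 5218], [287, 2, 5219, 2743, 5218], [301, 2, 5219, 2745, 5218], [313, 2, 5219, 2747, 5218],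 [323, 2, 5219, 2749, 5218], [331, 2, 5219, 2751, 5218], [337, 2, 5219, 2753, 5218], [341, 2, 5219, 2755, 5218], [343, 2, 5219, 2757, 5218], [272, 3, 5230, 4949, 4923], [0, 0], [43, 1, 5250], [119, 2, 5251, 2767, 5250], [137, 2, 5251, 2771, 5250], [155, 2, 5251, 2777, 5250], [173, 2, 5251, 2779, 5250], [191, 2, 5251, 2781, 5250], [209, 2, 5251, 2783, 5250], [227, 2, 5251, 2785, 5250], [245, 2, 5251, 2787, 5250], [61, 0, 5252, 2768, 3460], [0, 0], [47, 1, 5272], [65, 2, 3484, 2866, 5272], [123, 2, 5273, 2851, 5272], [141, 2, 5273, 2853, 5272], [159, 2, 5273, 2855, 5272], [177, 2, 5273, 2857, 5272], [195, 2, 5273, 2859, 5272], [213, 2, 5273, 2861, 5272], [231, 2, 5273, 2863, 5272], [249, 2, 5273, 2865, 5272], [0, 0], [127, 2, 5295, 2851, 5294], [130, 3, 3513, 1539, 2866, 5294], [145, 2, 5295, 2853, 5294], [163, 2, 5295, 2855, 5294], [165, 1, 2869, 2849, 2856, 5294], [166, 3, 2869, 1033, 2846, 5294], [181, 2, 5295, 2857, 5294], [199, 2, 5295, 2859, 5294], [217, 2, 5295, 2861, 5294], [235, 2, 5295, 2863,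 5294], [253, 2, 5295, 2865, 5294], [265, 2, 5306, 4970, 4180], [266, 1, 5306, 4972, 4180], [0, 0], [112, 2, 5295, 2851, 5322], [112, 0, 5324, 5295, 5322], [129, 3, 3543, 3537, 2866, 5322], [145, 0, 5323, 2852, 5322], [163, 0, 5323, 2854, 5322], [165, 3, 2899, 2889, 2846, 5322], [181, 0, 5323, 2856, 5322], [199, 0, 5323, 2858, 5322], [217, 0, 5323, 2860, 5322], [235, 0, 5323, 2862, 5322], [253, 0, 5323, 2864, 5322], [165, 3, 5337, 5323, 2848, 2888], [0, 0], [258, 2, 3565, 2866, 5348], [265, 1, 2911, 2849, 5348], [266, 2, 2911, 2846, 5348], [269, 1, 5321, 4184, 5348], [270, 2, 5321, 4186, 5348], [271, 1, 5318, 5295, 5348], [287, 2, 5349, 2851, 5348], [301, 2, 5349, 2853, 5348], [313, 2, 5349, 2855, 5348], [323, 2, 5349, 2857, 5348], [331, 2, 5349, 2859, 5348], [337, 2, 5349, 2861, 5348], [341, 2, 5349, 2863, 5348], [343, 2, 5349, 2865, 5348], [272, 3, 5360, 5320, 5295], [0, 0], [39, 1, 5380], [115, 2, 5381, 2892, 5380], [133, 2, 5381, 2894, 5380], [151, 2, 5381, 2896, 5380], [169, 2, 5381, 2898, 5380],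 [187, 2, 5381, 2900, 5380], [205, 2, 5381, 2902, 5380], [223, 2, 5381, 2904, 5380], [241, 2, 5381, 2906, 5380], [0, 0], [38, 1, 4479, 5400], [113, 0, 5401, 2940, 5400], [131, 0, 5401, 2942, 5400], [149, 0, 5401, 2944, 5400], [167, 0, 5401, 2946, 5400], [185, 0, 5401, 2948, 5400], [203, 0, 5401, 2950, 5400], [221, 0, 5401, 2952, 5400], [239, 0, 5401, 2954, 5400], [0, 0], [0, 0], [0, 0], [127, 2, 5425, 2987, 5424], [129, 1, 4923, 2977, 2988, 5424], [130, 3, 3325, 1425, 3004, 5424], [145, 2, 5425, 2989, 5424], [147, 1, 4923, 2979, 2990, 5424], [148, 3, 4923, 2747, 3015, 5424], [163, 2, 5425, 2991, 5424], [165, 1, 4923, 2983, 2992, 5424], [166, 3, 4923, 2749, 3013, 5424], [181, 2, 5425, 2993, 5424], [183, 1, 4923, 2985, 2994, 5424], [184, 3, 4923, 2751, 3002, 5424], [199, 2, 5425, 2995, 5424], [201, 2, 3051, 1124, 3006, 5424], [217, 2, 5425, 2997, 5424], [235, 2, 5425, 2999, 5424], [237, 1, 3081, 4987, 3182, 4960, 3173, 1163, 1404, 1135, 1107, 2975, 3000, 5424], [238, 7, 3060, 4985, 3184, 4962, 3173, 1360,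 1140, 1403, 1136, 1104, 2972, 5424], [253, 2, 5425, 3001, 5424], [202, 4, 5455, 5425, 3009, 3050], [85, 3, 4945, 3090, 5464], [86, 0, 4945, 3092, 5464], [269, 0, 4312, 3087, 5464], [270, 3, 4312, 3089, 5464], [0, 0], [112, 2, 5425, 2987, 5474], [112, 0, 5476, 5425, 5474], [129, 3, 3367, 3361, 3004, 5474], [145, 0, 5475, 2988, 5474], [147, 3, 5201, 5193, 3015, 5474], [163, 0, 5475, 2990, 5474], [165, 3, 5203, 5193, 3013, 5474], [181, 0, 5475, 2992, 5474], [183, 3, 5205, 5193, 3002, 5474], [199, 0, 5475, 2994, 5474], [202, 2, 3017, 3008, 2997, 5474], [202, 4, 3045, 3017, 3006, 5474], [217, 0, 5475, 2996, 5474], [235, 0, 5475, 2998, 5474], [253, 0, 5475, 3000, 5474], [129, 3, 5483, 5475, 2976, 5192], [147, 3, 5487, 5475, 2978, 5192], [165, 3, 5491, 5475, 2982, 5192], [183, 3, 5495, 5475, 2984, 5192], [256, 17, 2937, 2773, 5207, 5508, 5498, 3028, 2151, 2303, 2306, 460, 1003, 2761, 2979, 3007, 1105, 767, 2130, 4449, 5185, 4244, 5189, 4457, 5185, 4244, 5422], [18, 0, 5422, 5514, 5420], [18, 0, 5420, 5516],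 [129, 0, 5401, 5518, 5400, 5407], [130, 2, 4479, 5518, 2943, 4478], [147, 0, 5188, 5518, 5189, 3290], [202, 3, 4244, 2951, 5518, 4245], [83, 1, 5498, 5179, 5209], [84, 2, 5498, 5176, 5209], [0, 0], [257, 1, 5219, 2977, 5532], [258, 2, 3401, 3004, 5532], [259, 1, 3095, 2975, 5532], [260, 2, 3095, 2972, 5532], [261, 1, 5219, 2979, 5532], [262, 2, 5219, 3015, 5532], [263, 1, 5219, 2981, 5532], [264, 2, 5219, 3011, 5532], [265, 1, 5219, 2983, 5532], [266, 2, 5219, 3013, 5532], [267, 1, 5219, 2985, 5532], [268, 2, 5219, 3002, 5532], [269, 1, 3095, 3008, 5532], [270, 2, 3095, 3006, 5532], [271, 1, 5471, 5425, 5532], [287, 2, 5533, 2987, 5532], [301, 2, 5533, 2989, 5532], [313, 2, 5533, 2991, 5532], [323, 2, 5533, 2993, 5532], [331, 2, 5533, 2995, 5532], [337, 2, 5533, 2997, 5532], [341, 2, 5533, 2999, 5532], [343, 2, 5533, 3001, 5532], [255, 24, 5562, 4312, 2052, 766, 1104, 3006, 2978, 2740, 2764, 5209, 5485, 5496, 3026, 2153, 4331, 5183, 4151, 4149, 4291, 4312, 2052, 766, 1104, 2972], [0, 0], [43, 1, 5582],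 [53, 2, 5252, 2772, 5151, 3029, 5582], [61, 2, 3462, 3023, 5582], [67, 2, 5252, 5178, 5582], [77, 1, 5252, 3041, 5582], [119, 2, 5583, 3019, 5582], [137, 2, 5583, 3025, 5582], [155, 2, 5583, 3031, 5582]]
def dJ14 : List (List ℕ) := [[173, 2, 5583, 3037, 5582], [191, 2, 5583, 3043, 5582], [209, 2, 5583, 3045, 5582], [227, 2, 5583, 3047, 5582], [245, 2, 5583, 3049, 5582], [47, 1, 5592], [39, 1, 5590], [237, 0, 5612, 5586, 5252, 2772, 2936, 5518, 2937, 2773, 5253, 5587, 5613, 5268], [237, 6, 5613, 5587, 5583, 3028, 3281, 3300, 5524, 3280, 3029, 5582, 5586, 5612], [130, 2, 5589, 5616, 5597, 5588], [237, 6, 3937, 1736, 4844, 2662, 5103, 3480, 5618, 5102, 2663, 4845, 1737, 3936], [37, 2, 5588, 5270], [59, 3, 5588, 5107, 5270], [0, 0], [47, 1, 5626], [57, 2, 5274, 2848, 1158, 3136, 5626], [65, 2, 5274, 3168, 5626], [71, 2, 5274, 3166, 5626], [75, 2, 5274, 3164, 5626], [77, 2, 5274, 3170, 5626], [123, 2, 5627, 3149, 5626], [141, 2, 5627, 3151, 5626], [159, 2, 5627, 3153, 5626], [177, 2, 5627, 3155, 5626],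 [195, 2, 5627, 3157, 5626], [213, 2, 5627, 3159, 5626], [231, 2, 5627, 3161, 5626], [249, 2, 5627, 3163, 5626], [43, 1, 5638], [61, 0, 5638, 5276, 3492], [107, 11, 5628, 3138, 1136, 1104, 3008, 3014, 2981, 3012, 2985, 2973, 1105, 1137, 3139, 3169, 3145, 3165, 3141, 3142, 1553, 1677, 3698, 3718, 3704, 3703, 3706, 3674, 3510, 5658, 5630, 5656, 5636], [41, 1, 5636], [107, 8, 5638, 5662, 5634, 5274, 2848, 1022, 1000, 2761, 2979, 3010, 2983, 3003, 2739, 1001, 1023, 2849, 2867, 1553, 1677, 3639, 3644, 3647, 3641, 3695, 3674, 3510, 5277, 5656, 5636, 5660, 5632], [0, 0], [127, 2, 5667, 3149, 5666], [129, 1, 3513, 3143, 3150, 5666], [130, 3, 5295, 2853, 3168, 5666], [145, 2, 5667, 3151, 5666], [147, 1, 5295, 3147, 3152, 5666], [148, 3, 5295, 2855, 3164, 5666], [163, 2, 5667, 3153, 5666], [165, 1, 3173, 3139, 3154, 5666], [166, 3, 3173, 1151, 3136, 5666], [181, 2, 5667, 3155, 5666], [199, 2, 5667, 3157, 5666], [217, 2, 5667, 3159, 5666], [235, 2, 5667, 3161, 5666], [253, 2, 5667, 3163, 5666], [56, 5, 5684, 4986,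 1204, 4965, 5305], [70, 3, 5684, 4961, 5305], [265, 2, 5684, 4990, 4360], [266, 1, 5684, 4992, 4360], [260, 2, 5321, 4395, 5702], [264, 2, 5321, 4397, 5702], [0, 0], [112, 2, 5667, 3149, 5708], [112, 0, 5710, 5667, 5708], [129, 3, 5331, 5323, 3168, 5708], [145, 0, 5709, 3150, 5708], [147, 3, 5333, 5323, 3164, 5708], [163, 0, 5709, 3152, 5708], [165, 3, 3217, 3203, 3136, 5708], [181, 0, 5709, 3154, 5708], [199, 0, 5709, 3156, 5708], [217, 0, 5709, 3158, 5708], [235, 0, 5709, 3160, 5708], [253, 0, 5709, 3162, 5708], [129, 3, 5717, 5709, 3142, 3536], [147, 3, 5721, 5709, 3146, 5322], [165, 3, 5725, 5709, 3138, 3202], [0, 0], [257, 1, 3565, 3143, 5740], [258, 2, 5349, 3168, 5740], [259, 1, 5349, 3145, 5740], [260, 2, 5349, 3166, 5740], [261, 1, 5349, 3147, 5740], [262, 2, 5349, 3164, 5740], [263, 1, 5349, 3141, 5740], [264, 2, 5349, 3170, 5740], [265, 1, 3239, 3139, 5740], [266, 2, 3239, 3136, 5740], [269, 1, 5703, 4372, 5740], [270, 2, 5703, 4374, 5740], [271, 1, 5700, 5667, 5740], [287, 2, 5741, 3149,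 5740], [301, 2, 5741, 3151, 5740], [313, 2, 5741, 3153, 5740], [323, 2, 5741, 3155, 5740], [331, 2, 5741, 3157, 5740], [337, 2, 5741, 3159, 5740], [341, 2, 5741, 3161, 5740], [343, 2, 5741, 3163, 5740], [255, 24, 5766, 4374, 3146, 4185, 4376, 4374, 3146, 3166, 5666, 5765, 5750, 5356, 5679, 5765, 5750, 5749, 5766, 4374, 3146, 4185, 4376, 4374, 3146, 3166], [0, 0], [39, 1, 5786], [49, 2, 5382, 2909, 2626, 3209, 5786], [67, 1, 5382, 3237, 5786], [71, 1, 5382, 3219, 5786], [115, 2, 5787, 3206, 5786], [133, 2, 5787, 3210, 5786], [151, 2, 5787, 3214, 5786], [169, 2, 5787, 3216, 5786], [187, 2, 5787, 3220, 5786], [205, 2, 5787, 3222, 5786], [223, 2, 5787, 3224, 5786], [241, 2, 5787, 3226, 5786], [47, 1, 5794], [43, 1, 5792], [0, 0], [37, 1, 4242, 5816], [49, 1, 5401, 2938, 1171, 3278, 5816], [59, 1, 5401, 5180, 5816], [61, 1, 5401, 5155, 5816], [63, 1, 5401, 3304, 5816], [65, 1, 5401, 3302, 5816], [81, 2, 5402, 4456, 5816], [82, 1, 5402, 4454, 5816], [113, 2, 5817, 3287, 5816], [129, 2, 5817, 3288, 5524,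 5816], [131, 2, 5817, 3289, 5816], [149, 2, 5817, 3291, 5816], [167, 2, 5817, 3293, 5816], [185, 2, 5817, 3295, 5816], [203, 2, 5817, 3297, 5816], [221, 2, 5817, 3299, 5816], [239, 2, 5817, 3301, 5816], [257, 2, 5402, 4476, 5816], [258, 1, 5402, 4474, 5816], [259, 1, 5852, 5821, 5854], [261, 1, 5852, 5823, 5854], [263, 1, 5852, 5825, 5854], [265, 1, 5852, 5827, 5854], [267, 1, 5852, 5829, 5854], [0, 0], [39, 1, 5866], [49, 2, 5868, 5481, 5531, 5217, 5866], [69, 1, 5868, 3387, 5866], [71, 1, 5868, 3389, 5866], [83, 2, 3437, 3377, 5866], [84, 1, 3437, 3375, 5866], [115, 2, 5867, 3364, 5866], [133, 2, 5867, 3366, 5866], [151, 2, 5867, 3368, 5866], [169, 2, 5867, 3370, 5866], [187, 2, 5867, 3372, 5866], [205, 2, 5867, 3378, 5866], [223, 2, 5867, 3380, 5866], [241, 2, 5867, 3382, 5866], [85, 3, 5878, 5124, 4804], [86, 0, 5878, 5126, 4804], [0, 0], [43, 1, 5900], [67, 2, 5898, 5868, 5900], [77, 1, 5902, 3389, 5900], [85, 2, 3461, 3377, 5900], [86, 1, 3461, 3375, 5900], [119, 2, 5901, 3364, 5900], [137, 2,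 5901, 3366, 5900], [155, 2, 5901, 3368, 5900], [173, 2, 5901, 3370, 5900], [191, 2, 5901, 3372, 5900], [209, 2, 5901, 3378, 5900], [227, 2, 5901, 3380, 5900], [245, 2, 5901, 3382, 5900], [201, 3, 5922, 5910, 5618, 5911], [84, 0, 5910, 5104, 4804], [0, 0], [0, 0], [163, 0, 5935, 3448, 5934], [0, 0], [45, 1, 5938], [55, 2, 5940, 3462, 1450, 3460, 5938], [69, 2, 4771, 5105, 5938], [73, 2, 5940, 5107, 5938], [121, 2, 5939, 3467, 5938], [139, 2, 5939, 3469, 5938], [157, 2, 5939, 3471, 5938], [165, 2, 5939, 3472, 5618, 5938], [175, 2, 5939, 3473, 5938], [193, 2, 5939, 3475, 5938], [211, 2, 5939, 3477, 5938], [229, 2, 5939, 3479, 5938], [247, 2, 5939, 3481, 5938], [237, 6, 5160, 5166, 4889, 4768, 5945, 5964, 5955, 5944, 4769, 4888, 5167, 5161], [165, 0, 4920, 5966, 4921, 4096], [51, 0, 5946, 5944, 4769, 5139, 4747], [0, 0], [127, 2, 5973, 3495, 5972], [145, 2, 5973, 3497, 5972], [147, 1, 5973, 3491, 3498, 5972], [163, 2, 5973, 3499, 5972], [165, 1, 5973, 3487, 3500, 5972], [181, 2, 5973, 3501, 5972], [183,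 1, 3513, 3485, 3502, 5972], [184, 3, 3513, 1545, 3482, 5972], [199, 2, 5973, 3503, 5972], [217, 2, 5973, 3505, 5972], [235, 2, 5973, 3507, 5972], [253, 2, 5973, 3509, 5972], [72, 3, 5988, 5012, 4034]]
def dJ15 : List (List ℕ) := [[78, 3, 5988, 5015, 5987], [267, 2, 5988, 5018, 4550], [268, 1, 5988, 5020, 4550], [260, 2, 4040, 4582, 6004], [0, 0], [112, 2, 5973, 3495, 6008], [112, 0, 6010, 5973, 6008], [145, 0, 6009, 3496, 6008], [163, 0, 6009, 3498, 6008], [181, 0, 6009, 3500, 6008], [183, 3, 3551, 3537, 3482, 6008], [199, 0, 6009, 3502, 6008], [217, 0, 6009, 3504, 6008], [235, 0, 6009, 3506, 6008], [253, 0, 6009, 3508, 6008], [147, 3, 6017, 6009, 3490, 6008], [165, 3, 6019, 6009, 3486, 6008], [183, 3, 6023, 6009, 3484, 3536], [72, 1, 6020, 3562, 6034], [0, 0], [259, 1, 4043, 3489, 6038], [260, 2, 4043, 3510, 6038], [261, 1, 6039, 3491, 6038], [263, 1, 6039, 3493, 6038], [265, 1, 6039, 3487, 6038], [267, 1, 3565, 3485, 6038], [268, 2, 3565, 3482, 6038], [269, 1, 6005, 4562, 6038], [270, 2, 6005, 4564,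 6038], [271, 1, 6002, 5973, 6038], [287, 2, 6039, 3495, 6038], [301, 2, 6039, 3497, 6038], [313, 2, 6039, 3499, 6038], [323, 2, 6039, 3501, 6038], [331, 2, 6039, 3503, 6038], [337, 2, 6039, 3505, 6038], [341, 2, 6039, 3507, 6038], [343, 2, 6039, 3509, 6038], [272, 3, 6058, 6004, 5973], [0, 0], [43, 1, 6078], [55, 1, 6080, 3561, 2630, 3547, 6078], [67, 2, 6080, 3563, 6078], [119, 2, 6079, 3540, 6078], [137, 2, 6079, 3542, 6078], [155, 2, 6079, 3544, 6078], [173, 2, 6079, 3548, 6078], [191, 2, 6079, 3550, 6078], [209, 2, 6079, 3552, 6078], [227, 2, 6079, 3554, 6078], [245, 2, 6079, 3556, 6078], [0, 0], [127, 2, 6103, 3649, 6102], [129, 1, 6103, 3645, 3650, 6102], [145, 2, 6103, 3651, 6102], [147, 1, 6103, 3641, 3652, 6102], [163, 2, 6103, 3653, 6102], [165, 1, 6103, 3643, 3654, 6102], [181, 2, 6103, 3655, 6102], [199, 2, 6103, 3657, 6102], [217, 2, 6103, 3659, 6102], [235, 2, 6103, 3661, 6102], [253, 2, 6103, 3663, 6102], [0, 0], [112, 2, 6103, 3649, 6126], [112, 0, 6128, 6103, 6126], [145, 0, 6127,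 3650, 6126], [163, 0, 6127, 3652, 6126], [181, 0, 6127, 3654, 6126], [199, 0, 6127, 3656, 6126], [217, 0, 6127, 3658, 6126], [235, 0, 6127, 3660, 6126], [253, 0, 6127, 3662, 6126], [129, 3, 6133, 6127, 3644, 6126], [147, 3, 6135, 6127, 3640, 6126], [165, 3, 6137, 6127, 3642, 6126], [0, 0], [257, 1, 6153, 3645, 6152], [259, 1, 6153, 3647, 6152], [261, 1, 6153, 3641, 6152], [263, 1, 3801, 3639, 6152], [264, 2, 3801, 3636, 6152], [265, 1, 6153, 3643, 6152], [287, 2, 6153, 3649, 6152], [301, 2, 6153, 3651, 6152], [313, 2, 6153, 3653, 6152], [323, 2, 6153, 3655, 6152], [331, 2, 6153, 3657, 6152], [337, 2, 6153, 3659, 6152], [341, 2, 6153, 3661, 6152], [343, 2, 6153, 3663, 6152], [237, 0, 4648, 4642, 4640, 2576, 2520, 5047, 3568, 3807, 6161, 6159, 6157, 6180], [271, 2, 6103, 6152, 6182], [259, 3, 6185, 4648, 6184], [263, 3, 3796, 4638, 6184], [264, 0, 3796, 4641, 6184], [263, 0, 6190, 3798, 4641], [272, 3, 6182, 6192, 6103], [0, 0], [127, 2, 6197, 3677, 6196], [129, 1, 6197, 3671, 3678, 6196], [145, 2, 6197,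 3679, 6196], [147, 1, 3983, 3675, 3680, 6196], [148, 3, 3983, 1829, 3692, 6196], [163, 2, 6197, 3681, 6196], [165, 1, 6197, 3669, 3682, 6196], [181, 2, 6197, 3683, 6196], [183, 1, 3737, 3667, 3684, 6196], [184, 3, 3737, 1687, 3664, 6196], [199, 2, 6197, 3685, 6196], [201, 2, 6127, 3658, 3695, 6196], [217, 2, 6197, 3687, 6196], [235, 2, 6197, 3689, 6196], [253, 2, 6197, 3691, 6196], [202, 4, 6223, 6197, 3696, 6126], [78, 3, 6216, 5169, 6215], [85, 1, 6228, 6230, 6229], [0, 0], [112, 2, 6197, 3677, 6234], [112, 0, 6236, 6197, 6234], [145, 0, 6235, 3678, 6234], [147, 3, 4017, 4009, 3692, 6234], [163, 0, 6235, 3680, 6234], [181, 0, 6235, 3682, 6234], [183, 3, 3781, 3765, 3664, 6234], [199, 0, 6235, 3684, 6234], [202, 2, 6103, 3697, 3687, 6234], [202, 4, 6121, 6103, 3695, 6234], [217, 0, 6235, 3686, 6234], [235, 0, 6235, 3688, 6234], [253, 0, 6235, 3690, 6234], [129, 3, 6241, 6235, 3670, 6234], [147, 3, 6245, 6235, 3674, 4008], [165, 3, 6247, 6235, 3668, 6234], [183, 3, 6251, 6235, 3666, 3764], [72, 1,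 6248, 3794, 6268], [267, 0, 4668, 3797, 6268], [268, 3, 4668, 3799, 6268], [0, 0], [257, 1, 6277, 3671, 6276], [259, 1, 6277, 3673, 6276], [261, 1, 4043, 3675, 6276], [262, 2, 4043, 3692, 6276], [265, 1, 6277, 3669, 6276], [267, 1, 3801, 3667, 6276], [268, 2, 3801, 3664, 6276], [269, 1, 6153, 3697, 6276], [270, 2, 6153, 3695, 6276], [272, 2, 6273, 6235, 6276], [287, 2, 6277, 3677, 6276], [301, 2, 6277, 3679, 6276], [313, 2, 6277, 3681, 6276], [323, 2, 6277, 3683, 6276], [331, 2, 6277, 3685, 6276], [337, 2, 6277, 3687, 6276], [341, 2, 6277, 3689, 6276], [343, 2, 6277, 3691, 6276], [271, 2, 6296, 6275, 6235], [0, 0], [127, 2, 6317, 3721, 6316], [129, 1, 6317, 3703, 3722, 6316], [145, 2, 6317, 3723, 6316], [147, 1, 6317, 3719, 3724, 6316], [163, 2, 6317, 3725, 6316], [165, 1, 3835, 3711, 3726, 6316], [166, 3, 3835, 1717, 3713, 6316], [181, 2, 6317, 3727, 6316], [183, 1, 6103, 3715, 3728, 6316], [184, 3, 6103, 3657, 3717, 6316], [199, 2, 6317, 3729, 6316], [201, 2, 3765, 1688, 3698, 6316], [217, 2, 6317,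 3731, 6316], [235, 2, 6317, 3733, 6316], [253, 2, 6317, 3735, 6316], [202, 4, 6343, 6317, 3700, 3764], [83, 3, 6349, 3795, 6348], [85, 3, 6252, 6190, 6348], [86, 0, 6252, 6188, 6348], [269, 0, 4702, 3797, 6348], [270, 3, 4702, 3799, 6348], [0, 0], [112, 2, 6317, 3721, 6360], [112, 0, 6362, 6317, 6360], [145, 0, 6361, 3722, 6360], [163, 0, 6361, 3724, 6360], [165, 3, 3881, 3871, 3713, 6360], [181, 0, 6361, 3726, 6360], [183, 3, 6139, 6127, 3717, 6360], [199, 0, 6361, 3728, 6360], [202, 2, 3737, 3701, 3731, 6360], [202, 4, 3759, 3737, 3698, 6360], [217, 0, 6361, 3730, 6360], [235, 0, 6361, 3732, 6360], [253, 0, 6361, 3734, 6360], [129, 3, 6367, 6361, 3702, 6360], [147, 3, 6369, 6361, 3718, 6360], [165, 3, 6373, 6361, 3710, 3870], [183, 3, 6377, 6361, 3714, 6126], [78, 1, 6374, 6233, 6394], [0, 0]]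
def dJ16 : List (List ℕ) := [[257, 1, 6399, 3703, 6398], [259, 1, 6399, 3705, 6398], [261, 1, 6399, 3719, 6398], [263, 1, 6277, 3707, 6398], [264, 2, 6277, 3709, 6398], [265, 1, 3901, 3711, 6398], [266, 2, 3901, 3713, 6398], [267, 1, 6153, 3715, 6398], [268, 2, 6153, 3717, 6398], [269, 1, 3801, 3701, 6398], [270, 2, 3801, 3698, 6398], [271, 1, 6357, 6317, 6398], [287, 2, 6399, 3721, 6398], [301, 2, 6399, 3723, 6398], [313, 2, 6399, 3725, 6398], [323, 2, 6399, 3727, 6398], [331, 2, 6399, 3729, 6398], [337, 2, 6399, 3731, 6398], [341, 2, 6399, 3733, 6398], [343, 2, 6399, 3735, 6398], [255, 24, 6422, 4702, 2576, 928, 1694, 3698, 3718, 3704, 6316, 6349, 3791, 2425, 3809, 6421, 6404, 6402, 6422, 4702, 2576, 928, 1694, 3698, 3718, 3704], [0, 0], [39, 1, 6442], [51, 1, 6444, 3744, 5117, 3747, 6442], [67, 1, 6444, 5168, 6442], [69, 1, 3938, 3753, 6442], [115, 2, 6443, 3739, 6442], [133, 2, 6443, 3743, 6442], [151, 2, 6443, 3749, 6442], [169, 2, 6443, 3755, 6442], [187, 2, 6443, 3757, 6442], [205, 2, 6443,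 3759, 6442], [223, 2, 6443, 3761, 6442], [237, 6, 6443, 3746, 4087, 5171, 5173, 4104, 5968, 5172, 5170, 4086, 3747, 6442], [241, 2, 6443, 3763, 6442], [259, 2, 5971, 4762, 6442], [260, 1, 5971, 4764, 6442], [266, 0, 6472, 5939, 5110], [0, 0], [39, 1, 6476], [71, 1, 6478, 3899, 6476], [83, 2, 3937, 3887, 6476], [84, 1, 3937, 3885, 6476], [115, 2, 6477, 3874, 6476], [133, 2, 6477, 3876, 6476], [151, 2, 6477, 3878, 6476], [169, 2, 6477, 3880, 6476], [187, 2, 6477, 3882, 6476], [205, 2, 6477, 3888, 6476], [223, 2, 6477, 3890, 6476], [241, 2, 6477, 3892, 6476], [259, 2, 5931, 4802, 6476], [260, 1, 5931, 4800, 6476], [263, 3, 6504, 5902, 4515], [264, 0, 6504, 5901, 4515], [271, 3, 6504, 5928, 6505], [0, 0], [43, 1, 6512], [55, 1, 6514, 6371, 6397, 6393, 6512], [61, 2, 6514, 3895, 6512], [67, 2, 6508, 6478, 6512], [77, 1, 6514, 3899, 6512], [85, 2, 3959, 3887, 6512], [86, 1, 3959, 3885, 6512], [119, 2, 6513, 3874, 6512], [137, 2, 6513, 3876, 6512], [155, 2, 6513, 3878, 6512], [173, 2, 6513, 3880, 6512], [191,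 2, 6513, 3882, 6512], [209, 2, 6513, 3888, 6512], [227, 2, 6513, 3890, 6512], [245, 2, 6513, 3892, 6512], [263, 2, 5899, 4802, 6512], [264, 1, 5899, 4800, 6512], [260, 0, 6546, 5867, 4515], [0, 0], [61, 1, 4177, 5098, 6550], [113, 2, 6551, 3943, 6550], [129, 2, 6551, 3944, 5621, 6550], [131, 2, 6551, 3945, 6550], [149, 2, 6551, 3947, 6550], [167, 2, 6551, 3949, 6550], [185, 2, 6551, 3951, 6550], [203, 2, 6551, 3953, 6550], [221, 2, 6551, 3955, 6550], [239, 2, 6551, 3957, 6550], [257, 2, 5271, 5108, 6550], [258, 1, 5271, 5110, 6550], [264, 0, 6574, 5251, 4173], [0, 0], [38, 1, 6551, 6578], [50, 2, 6551, 3937, 1731, 3939, 6578], [60, 2, 6551, 5076, 6578], [62, 2, 4326, 5100, 6578], [66, 2, 6551, 3941, 6578], [107, 4, 4355, 4446, 5403, 5862, 5824, 5858, 5820, 5864, 5826, 5860, 5822, 5833, 5859, 5825, 5863, 5829, 5857, 5823, 5861, 5827, 5817, 3279, 3027, 5585, 5588, 5104, 2642, 966, 1737, 3936, 6578], [113, 0, 6579, 3942, 6578], [131, 0, 6579, 3944, 6578], [149, 0, 6579, 3946, 6578], [167, 0, 6579, 3948,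 6578], [185, 0, 6579, 3950, 6578], [203, 0, 6579, 3952, 6578], [221, 0, 6579, 3954, 6578], [239, 0, 6579, 3956, 6578], [257, 0, 5588, 5110, 6578], [258, 3, 5588, 5108, 6578], [129, 0, 6579, 5620, 6578, 6595], [260, 2, 6610, 5590, 6573], [262, 2, 6610, 5586, 6573], [268, 2, 6610, 5592, 6573], [0, 0], [0, 0], [147, 3, 5937, 5935, 5120, 6622], [0, 0], [43, 1, 6626], [53, 2, 6628, 6207, 6231, 6204, 6626], [61, 2, 6628, 3986, 6626], [67, 2, 6628, 5174, 6626], [77, 1, 4086, 3999, 6626], [119, 2, 6627, 3985, 6626], [137, 2, 6627, 3989, 6626], [155, 2, 6627, 3991, 6626], [173, 2, 6627, 3995, 6626], [191, 2, 6627, 4001, 6626], [209, 2, 6627, 4003, 6626], [227, 2, 6627, 4005, 6626], [245, 2, 6627, 4007, 6626], [183, 0, 6636, 5969, 6637, 6646], [47, 1, 6636], [0, 0], [111, 1, 5230, 4128, 6658], [111, 3, 6660, 5230, 6658], [129, 1, 4485, 4144, 4130, 6658], [145, 2, 6659, 4131, 6658], [163, 2, 6659, 4133, 6658], [181, 2, 6659, 4135, 6658], [199, 2, 6659, 4137, 6658], [201, 2, 4151, 1974, 4149, 6658], [217, 2, 6659,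 4139, 6658], [235, 2, 6659, 4141, 6658], [253, 2, 6659, 4143, 6658], [255, 1, 4179, 2026, 2775, 5209, 5485, 5531, 5193, 2760, 1002, 739, 1958, 4149, 4291, 4278, 3117, 5561, 5542, 5226, 2822, 2323, 2797, 4950, 4948, 6658], [255, 24, 6660, 5226, 2822, 2323, 2797, 4937, 5437, 5458, 3051, 3006, 2978, 2760, 1002, 739, 1958, 4124, 6658, 6682, 4179, 2026, 2775, 5209, 5485, 5531], [271, 2, 5194, 4946, 6658], [0, 0], [47, 1, 6688], [65, 2, 4552, 4204, 6688], [89, 2, 5273, 4185, 6688], [90, 1, 5273, 4187, 6688], [123, 2, 6689, 4189, 6688], [141, 2, 6689, 4191, 6688], [159, 2, 6689, 4193, 6688], [177, 2, 6689, 4195, 6688], [195, 2, 6689, 4197, 6688], [213, 2, 6689, 4199, 6688], [231, 2, 6689, 4201, 6688], [249, 2, 6689, 4203, 6688], [0, 0], [111, 1, 5360, 4188, 6714], [111, 3, 6716, 5360, 6714], [130, 3, 4585, 2507, 4204, 6714], [145, 2, 6715, 4191, 6714], [163, 2, 6715, 4193, 6714], [165, 1, 4207, 4183, 4194, 6714], [166, 3, 4207, 1997, 4180, 6714], [181, 2, 6715, 4195, 6714], [199, 2, 6715, 4197, 6714], [201,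 2, 5323, 2860, 4185, 6714], [217, 2, 6715, 4199, 6714], [235, 2, 6715, 4201, 6714], [253, 2, 6715, 4203, 6714], [271, 2, 5324, 5319, 6714], [272, 1, 5324, 5321, 6714], [202, 4, 6737, 6715, 4186, 5322], [0, 0], [39, 1, 6748], [83, 2, 5381, 4221, 6748], [84, 1, 5381, 4228, 6748], [115, 2, 6749, 4209, 6748], [133, 2, 6749, 4213, 6748], [151, 2, 6749, 4215, 6748], [169, 2, 6749, 4217, 6748], [187, 2, 6749, 4219, 6748], [205, 2, 6749, 4223, 6748], [223, 2, 6749, 4225, 6748], [241, 2, 6749, 4227, 6748], [259, 2, 5381, 5056, 6748], [260, 1, 5381, 5067, 6748], [0, 0], [111, 1, 5562, 4294, 6776], [111, 3, 6778, 5562, 6776], [129, 1, 6659, 4281, 4296, 6776], [130, 3, 4485, 2201, 4314, 6776], [145, 2, 6777, 4297, 6776], [147, 1, 6659, 4283, 4298, 6776], [148, 3, 6659, 4133, 4291, 6776], [163, 2, 6777, 4299, 6776], [165, 1, 6659, 4287, 4300, 6776], [166, 3, 6659, 4135, 4292, 6776], [181, 2, 6777, 4301, 6776]]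
def dJ17 : List (List ℕ) := [[183, 1, 6659, 4289, 4302, 6776], [184, 3, 6659, 4137, 4318, 6776], [199, 2, 6777, 4303, 6776], [201, 2, 4321, 2070, 4311, 6776], [217, 2, 6777, 4305, 6776], [235, 2, 6777, 4307, 6776], [253, 2, 6777, 4309, 6776], [255, 1, 4355, 2150, 3029, 5499, 5509, 5528, 5475, 3009, 1106, 769, 2050, 4311, 4282, 4126, 2827, 5229, 5545, 5558, 3100, 2329, 3061, 5461, 5472, 6776], [255, 24, 6778, 5558, 3100, 2329, 3061, 5453, 5434, 4953, 2789, 2763, 3015, 3009, 1106, 769, 2050, 4276, 6776, 6814, 4355, 2150, 3029, 5499, 5509, 5528], [271, 2, 5476, 5470, 6776], [255, 23, 6818, 5475, 3009, 1106, 769, 2050, 4311, 4282, 4126, 2827, 5229, 5545, 5558, 3100, 2329, 3061, 5461, 5477, 5496, 3026, 2153, 4331, 6807, 6788], [260, 2, 6818, 5531, 6687], [0, 0], [47, 1, 6824], [57, 2, 6690, 4182, 2122, 4360, 6824], [65, 2, 6690, 4398, 6824], [71, 2, 6690, 4395, 6824], [75, 2, 6690, 4376, 6824], [77, 2, 6690, 4397, 6824], [89, 2, 5627, 4373, 6824], [90, 1, 5627, 4375, 6824], [102, 4, 6840, 5636, 5273, 3147,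 4375, 4377, 4184, 3147, 4375, 6824, 6840, 5636, 6695], [107, 14, 6834, 6694, 5637, 5657, 5631, 5627, 3167, 3147, 3171, 2847, 1139, 1163, 1404, 1135, 457, 101, 280, 159, 196, 344, 756, 2086, 2090, 2120, 2092, 4180, 4397, 4370, 4395, 6824, 6828], [123, 2, 6825, 4379, 6824], [141, 2, 6825, 4381, 6824], [159, 2, 6825, 4383, 6824], [177, 2, 6825, 4385, 6824], [195, 2, 6825, 4387, 6824], [213, 2, 6825, 4389, 6824], [231, 2, 6825, 4391, 6824], [249, 2, 6825, 4393, 6824], [94, 7, 6835, 6838, 5663, 6697, 6835, 6838, 5634, 6695, 6842, 6840, 5636, 6695, 6842], [100, 7, 6835, 6838, 5663, 6697, 6835, 6838, 5630, 6695, 6842, 6840, 5636, 6695, 6842], [105, 13, 6840, 5636, 6695, 6842, 6840, 5636, 5276, 3491, 4565, 4559, 4562, 3491, 4565], [0, 0], [111, 1, 5766, 4378, 6868], [111, 3, 6870, 5766, 6868], [129, 1, 4585, 4367, 4380, 6868], [130, 3, 6715, 4191, 4398, 6868], [145, 2, 6869, 4381, 6868], [147, 1, 6715, 4371, 4382, 6868], [148, 3, 6715, 4193, 4376, 6868], [163, 2, 6869, 4383, 6868], [165, 1, 4401, 4363, 4384,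 6868], [166, 3, 4401, 2109, 4360, 6868], [181, 2, 6869, 4385, 6868], [199, 2, 6869, 4387, 6868], [201, 2, 5709, 3158, 4373, 6868], [217, 2, 6869, 4389, 6868], [219, 10, 6882, 6734, 5323, 2862, 4185, 4376, 4374, 3146, 4185, 4376, 6868, 6882, 6734, 5736], [219, 14, 6899, 5737, 6735, 6883, 6899, 5737, 5323, 3147, 4375, 4377, 4184, 3147, 4375, 6868], [253, 2, 6869, 4393, 6868], [271, 2, 5710, 5701, 6868], [272, 1, 5710, 5703, 6868], [0, 0], [39, 1, 6908], [49, 2, 6750, 4210, 2629, 4407, 6908], [67, 1, 6750, 4435, 6908], [71, 1, 6750, 4421, 6908], [83, 2, 5787, 4425, 6908], [84, 1, 5787, 4428, 6908], [115, 2, 6909, 4403, 6908], [133, 2, 6909, 4409, 6908], [151, 2, 6909, 4415, 6908], [169, 2, 6909, 4417, 6908], [187, 2, 6909, 4423, 6908], [205, 2, 6909, 4427, 6908], [223, 2, 6909, 4431, 6908], [241, 2, 6909, 4433, 6908], [259, 2, 5787, 5058, 6908], [260, 1, 5787, 5064, 6908], [264, 0, 6940, 5815, 6775], [268, 0, 6940, 5813, 6775], [0, 0], [111, 1, 6058, 4566, 6946], [111, 3, 6948, 6058, 6946], [145, 2, 6947,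 4569, 6946], [147, 1, 6947, 4559, 4570, 6946], [163, 2, 6947, 4571, 6946], [165, 1, 6947, 4555, 4572, 6946], [181, 2, 6947, 4573, 6946], [183, 1, 4585, 4553, 4574, 6946], [184, 3, 4585, 2513, 4550, 6946], [199, 2, 6947, 4575, 6946], [201, 2, 6009, 3504, 4563, 6946], [217, 2, 6947, 4577, 6946], [219, 10, 6955, 6968, 6009, 3506, 4563, 4558, 4564, 3490, 4563, 4558, 6946, 6955, 6968, 6030], [219, 14, 6973, 6031, 6969, 6954, 6973, 6031, 6009, 3491, 4565, 4559, 4562, 3491, 4565, 6946], [253, 2, 6947, 4581, 6946], [255, 24, 6948, 6054, 5978, 6057, 6044, 6054, 5978, 5999, 4009, 2677, 4679, 4697, 4642, 4698, 4676, 4582, 6946, 6973, 6031, 6969, 6954, 6973, 6031, 6037], [271, 2, 6010, 6003, 6946], [255, 23, 6980, 6009, 4563, 4558, 4564, 3490, 4563, 4558, 4556, 4059, 4054, 6243, 6252, 6110, 6255, 6265, 6007, 6011, 6969, 6954, 6973, 6031, 6969, 6954], [0, 0], [43, 1, 6984], [55, 1, 6986, 4594, 2633, 4597, 6984], [67, 2, 6986, 4613, 6984], [85, 2, 6079, 4603, 6984], [86, 1, 6079, 4606, 6984], [119, 2, 6985, 4587,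 6984], [137, 2, 6985, 4589, 6984], [155, 2, 6985, 4593, 6984], [173, 2, 6985, 4599, 6984], [191, 2, 6985, 4601, 6984], [209, 2, 6985, 4605, 6984], [227, 2, 6985, 4609, 6984], [245, 2, 6985, 4611, 6984], [263, 2, 6079, 5060, 6984], [264, 1, 6079, 5062, 6984], [0, 0], [111, 1, 6182, 4650, 7016], [111, 3, 7018, 6182, 7016], [129, 1, 7017, 4647, 4652, 7016], [145, 2, 7017, 4653, 7016], [147, 1, 7017, 4643, 4654, 7016], [163, 2, 7017, 4655, 7016], [165, 1, 7017, 4645, 4656, 7016], [181, 2, 7017, 4657, 7016], [199, 2, 7017, 4659, 7016], [217, 2, 7017, 4661, 7016], [235, 2, 7017, 4663, 7016], [253, 2, 7017, 4665, 7016], [271, 2, 6128, 6185, 7016], [272, 1, 6128, 6193, 7016], [263, 3, 7044, 6232, 7045], [0, 0], [112, 2, 6296, 4681, 7048], [112, 0, 7050, 6296, 7048], [145, 0, 7049, 4682, 7048], [147, 3, 4855, 4847, 4679, 7048], [163, 0, 7049, 4684, 7048], [181, 0, 7049, 4686, 7048], [183, 3, 4755, 4739, 4666, 7048], [199, 0, 7049, 4688, 7048], [202, 2, 7017, 4696, 4691, 7048], [202, 4, 7037, 7017, 4698, 7048],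 [217, 0, 7049, 4690, 7048], [220, 5, 4862, 6207, 6197, 3693, 2679, 4677, 4699, 4643, 4696, 4693, 7048, 7066, 7026, 7069], [235, 0, 7049, 4692, 7048], [253, 0, 7049, 4694, 7048], [271, 0, 6237, 6274, 7048], [272, 3, 6237, 6272, 7048], [129, 3, 7055, 7049, 4672, 7048], [165, 3, 7061, 7049, 4670, 7048], [183, 3, 7065, 7049, 4668, 4738], [78, 1, 7062, 5164, 7086], [0, 0], [111, 1, 6422, 4722, 7090], [111, 3, 7092, 6422, 7090], [129, 1, 7091, 4705, 4724, 7090], [145, 2, 7091, 4725, 7090], [147, 1, 7091, 4721, 4726, 7090], [163, 2, 7091, 4727, 7090], [165, 1, 4773, 4713, 4728, 7090], [166, 3, 4773, 2617, 4715, 7090], [181, 2, 7091, 4729, 7090], [183, 1, 7017, 4717, 4730, 7090], [184, 3, 7017, 4659, 4719, 7090], [199, 2, 7091, 4731, 7090], [201, 2, 4739, 2588, 4700, 7090], [217, 2, 7091, 4733, 7090], [235, 2, 7091, 4735, 7090], [253, 2, 7091, 4737, 7090], [271, 2, 6362, 6356, 7090], [272, 1, 6362, 6358, 7090], [202, 4, 7119, 7091, 4702, 4738], [85, 3, 7129, 5165, 7128], [0, 0], [43, 1, 7132], [53, 2, 7134,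 7057, 7089, 7072, 7132], [61, 2, 7134, 4877, 7132], [67, 2, 7134, 5163, 7132], [77, 1, 4890, 4859, 7132], [85, 2, 6627, 4865, 7132], [86, 1, 6627, 4863, 7132], [119, 2, 7133, 4850, 7132], [137, 2, 7133, 4852, 7132], [155, 2, 7133, 4854, 7132], [173, 2, 7133, 4856, 7132], [191, 2, 7133, 4860, 7132], [209, 2, 7133, 4866, 7132], [227, 2, 7133, 4868, 7132], [245, 2, 7133, 4870, 7132], [263, 2, 6627, 4875, 7132], [264, 1, 6627, 4873, 7132], [268, 0, 7166, 6657, 4919], [271, 3, 7166, 6654, 7167], [0, 0], [43, 1, 7172], [85, 2, 5251, 5209, 7172], [86, 1, 5251, 5207, 7172], [119, 2, 7173, 5196, 7172], [137, 2, 7173, 5198, 7172], [155, 2, 7173, 5200, 7172], [173, 2, 7173, 5202, 7172], [191, 2, 7173, 5204, 7172], [209, 2, 7173, 5210, 7172], [227, 2, 7173, 5212, 7172], [237, 4, 5382, 2890, 4962, 3184, 4966, 2812, 4952, 4942, 5195, 5528, 5509, 7172], [245, 2, 7173, 5214, 7172], [41, 1, 7194]]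
def dJ18 : List (List ℕ) := [[201, 3, 7190, 7178, 5614, 7179], [147, 2, 7195, 7184, 7200, 7194], [129, 0, 5790, 7202, 5791, 5798], [202, 3, 6752, 5395, 7202, 6753], [129, 0, 6912, 7206, 6913, 6924], [82, 0, 7178, 5271, 5911], [0, 0], [45, 1, 7212], [63, 2, 5940, 5270, 7212], [121, 2, 7213, 5255, 7212], [139, 2, 7213, 5257, 7212], [157, 2, 7213, 5259, 7212], [165, 2, 7213, 5260, 5614, 7212], [175, 2, 7213, 5261, 7212], [193, 2, 7213, 5263, 7212], [211, 2, 7213, 5265, 7212], [229, 2, 7213, 5267, 7212], [247, 2, 7213, 5269, 7212], [0, 0], [127, 2, 7237, 5279, 7236], [129, 1, 5973, 5277, 5280, 7236], [145, 2, 7237, 5281, 7236], [163, 2, 7237, 5283, 7236], [181, 2, 7237, 5285, 7236], [183, 1, 5295, 5275, 5286, 7236], [184, 3, 5295, 2859, 5272, 7236], [199, 2, 7237, 5287, 7236], [217, 2, 7237, 5289, 7236], [235, 2, 7237, 5291, 7236], [253, 2, 7237, 5293, 7236], [267, 2, 7250, 5319, 6688], [268, 1, 7250, 5321, 6688], [0, 0], [112, 2, 7237, 5279, 7264], [112, 0, 7266, 7237, 7264], [145, 0, 7265, 5280, 7264],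 [163, 0, 7265, 5282, 7264], [181, 0, 7265, 5284, 7264], [183, 3, 5339, 5323, 5272, 7264], [199, 0, 7265, 5286, 7264], [217, 0, 7265, 5288, 7264], [235, 0, 7265, 5290, 7264], [253, 0, 7265, 5292, 7264], [129, 3, 7271, 7265, 5276, 6008], [183, 3, 7279, 7265, 5274, 5322], [0, 0], [257, 1, 6039, 5277, 7290], [267, 1, 5349, 5275, 7290], [268, 2, 5349, 5272, 7290], [269, 1, 7263, 6694, 7290], [270, 2, 7263, 6696, 7290], [271, 1, 7260, 7237, 7290], [287, 2, 7291, 5279, 7290], [301, 2, 7291, 5281, 7290], [313, 2, 7291, 5283, 7290], [323, 2, 7291, 5285, 7290], [331, 2, 7291, 5287, 7290], [337, 2, 7291, 5289, 7290], [341, 2, 7291, 5291, 7290], [343, 2, 7291, 5293, 7290], [272, 3, 7302, 7262, 7237], [0, 0], [39, 1, 7322], [69, 1, 5382, 5335, 7322], [115, 2, 7323, 5326, 7322], [133, 2, 7323, 5330, 7322], [151, 2, 7323, 5332, 7322], [169, 2, 7323, 5336, 7322], [187, 2, 7323, 5338, 7322], [205, 2, 7323, 5340, 7322], [223, 2, 7323, 5342, 7322], [241, 2, 7323, 5344, 7322], [165, 0, 7326, 7202, 7327, 7334], [45, 1,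 7326], [0, 0], [43, 1, 7348], [61, 2, 6080, 5329, 7348], [119, 2, 7349, 5326, 7348], [137, 2, 7349, 5330, 7348], [155, 2, 7349, 5332, 7348], [173, 2, 7349, 5336, 7348], [191, 2, 7349, 5338, 7348], [209, 2, 7349, 5340, 7348], [227, 2, 7349, 5342, 7348], [245, 2, 7349, 5344, 7348], [0, 0], [37, 1, 5790, 7370], [49, 1, 7372, 5788, 3229, 5380, 7370], [59, 1, 7210, 7194, 7370], [61, 1, 7372, 5792, 7370], [65, 1, 7372, 5794, 7370], [113, 2, 7371, 5385, 7370], [129, 2, 7371, 5386, 7203, 7370], [131, 2, 7371, 5387, 7370], [149, 2, 7371, 5389, 7370], [167, 2, 7371, 5391, 7370], [185, 2, 7371, 5393, 7370], [203, 2, 7371, 5395, 7370], [221, 2, 7371, 5397, 7370], [239, 2, 7371, 5399, 7370], [237, 6, 5867, 3384, 5903, 7377, 7375, 7398, 7385, 7374, 7376, 5902, 3385, 5866], [202, 4, 5879, 5891, 7400, 5878, 5934], [8, 0, 6624, 7402, 5120], [18, 0, 5934, 7402, 5932], [18, 0, 6622, 7405, 6620], [18, 0, 5932, 7406], [18, 0, 6620, 7408], [271, 1, 6544, 7400, 6545], [75, 0, 7380, 7376, 5906], [0, 0], [43, 1, 7418], [53,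 2, 5792, 7198, 7174, 5485, 7418], [61, 2, 5902, 5481, 7418], [67, 2, 7174, 5528, 7418], [77, 1, 7174, 5493, 7418], [85, 2, 5583, 5499, 7418], [86, 1, 5583, 5497, 7418], [119, 2, 7419, 5478, 7418], [137, 2, 7419, 5482, 7418], [155, 2, 7419, 5486, 7418], [173, 2, 7419, 5490, 7418], [191, 2, 7419, 5494, 7418], [209, 2, 7419, 5500, 7418], [227, 2, 7419, 5502, 7418], [245, 2, 7419, 5504, 7418], [201, 3, 7444, 7432, 5617, 7433], [82, 0, 7432, 5623, 7179], [84, 0, 7432, 5613, 7179], [90, 0, 7432, 5611, 7179], [93, 1, 7432, 5586, 7177, 7194, 5382, 3230, 4428, 4412, 4220, 3230, 4428, 6911, 6920], [0, 0], [45, 1, 7460], [55, 2, 7214, 5252, 3035, 5582, 7460], [63, 2, 7214, 5622, 7460], [69, 2, 7214, 5612, 7460], [73, 2, 7214, 5624, 7460], [121, 2, 7461, 5595, 7460], [139, 2, 7461, 5597, 7460], [157, 2, 7461, 5599, 7460], [165, 2, 7461, 5600, 5617, 7460], [175, 2, 7461, 5601, 7460], [193, 2, 7461, 5603, 7460], [211, 2, 7461, 5605, 7460], [229, 2, 7461, 5607, 7460], [247, 2, 7461, 5609, 7460], [41, 1, 7470], [59,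 0, 7470, 7216, 5946], [39, 1, 7468], [43, 1, 7464], [0, 0], [127, 2, 7499, 5641, 7498], [129, 1, 7237, 5633, 5642, 7498], [130, 3, 5973, 3497, 5658, 7498], [145, 2, 7499, 5643, 7498], [147, 1, 7237, 5637, 5644, 7498], [148, 3, 7237, 5283, 5662, 7498], [163, 2, 7499, 5645, 7498], [165, 1, 7237, 5631, 5646, 7498], [166, 3, 7237, 5285, 5664, 7498], [181, 2, 7499, 5647, 7498], [183, 1, 5667, 5629, 5648, 7498], [184, 3, 5667, 3157, 5626, 7498], [199, 2, 7499, 5649, 7498], [217, 2, 7499, 5651, 7498], [235, 2, 7499, 5653, 7498], [253, 2, 7499, 5655, 7498], [72, 3, 7522, 5704, 7249], [78, 3, 7522, 5706, 7249], [267, 2, 7522, 5701, 6824], [268, 1, 7522, 5703, 6824], [260, 2, 7263, 6863, 7538], [264, 2, 7263, 6844, 7538], [0, 0], [112, 2, 7499, 5641, 7544], [112, 0, 7546, 7499, 7544], [129, 3, 6015, 6009, 5658, 7544], [145, 0, 7545, 5642, 7544], [147, 3, 7273, 7265, 5662, 7544], [163, 0, 7545, 5644, 7544], [165, 3, 7275, 7265, 5664, 7544], [181, 0, 7545, 5646, 7544], [183, 3, 5727, 5709, 5626, 7544], [199, 0,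 7545, 5648, 7544], [217, 0, 7545, 5650, 7544], [235, 0, 7545, 5652, 7544], [253, 0, 7545, 5654, 7544], [129, 3, 7553, 7545, 5632, 7264], [147, 3, 7557, 7545, 5636, 7264], [165, 3, 7561, 7545, 5630, 7264], [183, 3, 7565, 7545, 5628, 5708], [0, 0], [257, 1, 7291, 5633, 7580], [258, 2, 6039, 5658, 7580], [259, 1, 7291, 5635, 7580], [260, 2, 7291, 5660, 7580], [261, 1, 7291, 5637, 7580], [262, 2, 7291, 5662, 7580], [263, 1, 7291, 5639, 7580], [264, 2, 7291, 5656, 7580], [265, 1, 7291, 5631, 7580]]
def dJ19 : List (List ℕ) := [[266, 2, 7291, 5664, 7580], [267, 1, 5741, 5629, 7580], [268, 2, 5741, 5626, 7580], [269, 1, 7539, 6838, 7580], [270, 2, 7539, 6840, 7580], [271, 1, 7536, 7499, 7580], [287, 2, 7581, 5641, 7580], [301, 2, 7581, 5643, 7580], [313, 2, 7581, 5645, 7580], [323, 2, 7581, 5647, 7580], [331, 2, 7581, 5649, 7580], [337, 2, 7581, 5651, 7580], [341, 2, 7581, 5653, 7580], [343, 2, 7581, 5655, 7580], [255, 24, 7610, 6840, 5636, 6695, 6842, 6840, 5636, 5660, 7498, 7609, 7590, 7298, 7511, 7609,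 7590, 7589, 7610, 6840, 5636, 6695, 6842, 6840, 5636, 5660], [0, 0], [39, 1, 7630], [69, 1, 5788, 5723, 7630], [115, 2, 7631, 5712, 7630], [133, 2, 7631, 5716, 7630], [151, 2, 7631, 5720, 7630], [169, 2, 7631, 5724, 7630], [187, 2, 7631, 5726, 7630], [205, 2, 7631, 5728, 7630], [223, 2, 7631, 5730, 7630], [241, 2, 7631, 5732, 7630], [165, 0, 7634, 7205, 7635, 7642], [45, 1, 7634], [63, 0, 7634, 5790, 7346], [0, 0], [43, 1, 7658], [55, 1, 7350, 5347, 3237, 5723, 7658], [61, 2, 7350, 5715, 7658], [119, 2, 7659, 5712, 7658], [137, 2, 7659, 5716, 7658], [155, 2, 7659, 5720, 7658], [173, 2, 7659, 5724, 7658], [191, 2, 7659, 5726, 7658], [209, 2, 7659, 5728, 7658], [227, 2, 7659, 5730, 7658], [245, 2, 7659, 5732, 7658], [37, 2, 7664, 7352], [45, 1, 7662], [0, 0], [41, 1, 7686], [51, 2, 7688, 5868, 3385, 5866, 7686], [53, 1, 7688, 5897, 4782, 5898, 7686], [59, 2, 7688, 5870, 7686], [73, 1, 7688, 5872, 7686], [75, 1, 7688, 5874, 7686], [93, 2, 7688, 5878, 5120, 5095, 2466, 866, 1445, 3375, 3384, 3376, 3439,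 5877, 7686], [117, 2, 7687, 5881, 7686], [135, 2, 7687, 5883, 7686], [147, 2, 7687, 5884, 7401, 7686], [153, 2, 7687, 5885, 7686], [171, 2, 7687, 5887, 7686], [189, 2, 7687, 5889, 7686], [207, 2, 7687, 5891, 7686], [225, 2, 7687, 5893, 7686], [243, 2, 7687, 5895, 7686], [0, 0], [45, 1, 7720], [55, 2, 7722, 5902, 3387, 5900, 7720], [69, 2, 7104, 5930, 7720], [87, 2, 5939, 5909, 7720], [88, 1, 5939, 5911, 7720], [121, 2, 7721, 5913, 7720], [139, 2, 7721, 5915, 7720], [157, 2, 7721, 5917, 7720], [165, 2, 7721, 5918, 5928, 7720], [175, 2, 7721, 5919, 7720], [193, 2, 7721, 5921, 7720], [211, 2, 7721, 5923, 7720], [229, 2, 7721, 5925, 7720], [247, 2, 7721, 5927, 7720], [84, 0, 7730, 5971, 7128], [0, 0], [47, 1, 7752], [57, 2, 7754, 5940, 3464, 5938, 7752], [71, 2, 7087, 5970, 7752], [75, 2, 7754, 5946, 7752], [77, 2, 7754, 5942, 7752], [123, 2, 7753, 5949, 7752], [141, 2, 7753, 5951, 7752], [159, 2, 7753, 5953, 7752], [177, 2, 7753, 5957, 7752], [183, 2, 7753, 5958, 5955, 7752], [195, 2, 7753, 5959, 7752],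 [213, 2, 7753, 5961, 7752], [231, 2, 7753, 5963, 7752], [249, 2, 7753, 5965, 7752], [67, 0, 7762, 7758, 7089], [0, 0], [43, 1, 7784], [67, 2, 7786, 6037, 7784], [77, 1, 6080, 6021, 7784], [119, 2, 7785, 6012, 7784], [137, 2, 7785, 6014, 7784], [155, 2, 7785, 6016, 7784], [173, 2, 7785, 6018, 7784], [191, 2, 7785, 6022, 7784], [209, 2, 7785, 6024, 7784], [227, 2, 7785, 6026, 7784], [245, 2, 7785, 6028, 7784], [47, 1, 7790], [0, 0], [41, 1, 7810], [53, 1, 7812, 6080, 3559, 6078, 7810], [73, 1, 7812, 6082, 7810], [117, 2, 7811, 6087, 7810], [135, 2, 7811, 6089, 7810], [153, 2, 7811, 6091, 7810], [171, 2, 7811, 6093, 7810], [189, 2, 7811, 6095, 7810], [207, 2, 7811, 6097, 7810], [225, 2, 7811, 6099, 7810], [237, 5, 6128, 6186, 6111, 6188, 3772, 5011, 3534, 3539, 3563, 3559, 6078, 7810], [243, 2, 7811, 6101, 7810], [52, 3, 6148, 7833, 7811, 6085, 7813], [0, 0], [0, 0], [112, 2, 7839, 6087, 7840], [0, 0], [39, 1, 7844], [51, 1, 7846, 6204, 5174, 6207, 7844], [67, 1, 7846, 6231, 7844], [69, 1, 7846, 6210,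 7844], [71, 1, 6444, 6217, 7844], [83, 2, 7836, 6221, 7844], [84, 1, 7836, 6228, 7844], [115, 2, 7845, 6199, 7844], [133, 2, 7845, 6203, 7844], [151, 2, 7845, 6209, 7844], [169, 2, 7845, 6213, 7844], [187, 2, 7845, 6219, 7844], [205, 2, 7845, 6223, 7844], [223, 2, 7845, 6225, 7844], [237, 6, 7845, 6206, 6629, 6631, 6635, 6652, 6654, 6634, 6630, 6628, 6207, 7844], [241, 2, 7845, 6227, 7844], [259, 2, 7783, 7078, 7844], [260, 1, 7783, 7080, 7844], [268, 0, 7880, 7753, 6473], [202, 3, 7859, 7871, 7874, 7858], [147, 1, 7810, 7884, 7811, 6090, 7838], [18, 0, 7842, 7886, 7838, 7886], [17, 0, 7840, 7889], [129, 2, 7683, 6088, 7890, 7682], [130, 4, 7357, 7352, 7890, 7353], [183, 2, 7809, 6094, 7890, 7808], [201, 3, 7006, 6994, 7890, 6995], [0, 0], [39, 1, 7900], [67, 1, 7902, 6397, 7900], [69, 1, 6478, 6371, 7900], [71, 1, 7832, 6375, 7900], [83, 2, 6443, 6381, 7900], [84, 1, 6443, 6379, 7900], [115, 2, 7901, 6364, 7900], [133, 2, 7901, 6366, 7900], [151, 2, 7901, 6368, 7900], [169, 2, 7901, 6372, 7900], [187,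 2, 7901, 6376, 7900], [205, 2, 7901, 6382, 7900], [223, 2, 7901, 6384, 7900], [237, 2, 7786, 6031, 6037, 6010, 6006, 6264, 6355, 6325, 6350, 6346, 6363, 7900], [241, 2, 7901, 6386, 7900], [259, 2, 7751, 7126, 7900], [260, 1, 7751, 7124, 7900], [52, 4, 7789, 7929, 7901, 6390, 7903], [147, 2, 7936, 7796, 7897, 7937], [266, 0, 7934, 7721, 6505], [57, 3, 7906, 6480, 7940, 7908, 7816], [0, 0], [63, 1, 6579, 6474, 7944], [113, 2, 7945, 6453, 7944], [129, 2, 7945, 6454, 6467, 7944], [131, 2, 7945, 6455, 7944], [149, 2, 7945, 6457, 7944], [167, 2, 7945, 6459, 7944], [185, 2, 7945, 6461, 7944], [203, 2, 7945, 6463, 7944], [221, 2, 7945, 6465, 7944], [239, 2, 7945, 6469, 7944], [257, 2, 7493, 6471, 7944], [258, 1, 7493, 6473, 7944], [266, 0, 7968, 7461, 6609], [0, 0], [38, 1, 7945, 7972], [50, 2, 7945, 6443, 3741, 6445, 7972], [60, 2, 7945, 6447, 7972], [62, 2, 7945, 6449, 7972], [64, 2, 6551, 6451, 7972], [113, 0, 7973, 6452, 7972], [131, 0, 7973, 6454, 7972], [149, 0, 7973, 6456, 7972], [167, 0, 7973, 6458,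 7972], [185, 0, 7973, 6460, 7972], [203, 0, 7973, 6462, 7972], [221, 0, 7973, 6464, 7972], [239, 0, 7973, 6468, 7972]]
def dJ20 : List (List ℕ) := [[257, 0, 7216, 6473, 7972], [258, 3, 7216, 6471, 7972], [129, 0, 7973, 6466, 7972, 7987], [260, 2, 8002, 7494, 7967], [262, 2, 8002, 7490, 7967], [264, 2, 8002, 7496, 7967], [266, 2, 8002, 7214, 6573], [0, 0], [61, 1, 6664, 6508, 8014], [81, 2, 6551, 6483, 8014], [82, 1, 6551, 6485, 8014], [113, 2, 8015, 6487, 8014], [129, 2, 8015, 6488, 6511, 8014], [131, 2, 8015, 6489, 8014], [149, 2, 8015, 6491, 8014], [167, 2, 8015, 6493, 8014], [185, 2, 8015, 6495, 8014], [203, 2, 8015, 6497, 8014], [221, 2, 8015, 6499, 8014], [239, 2, 8015, 6501, 8014], [257, 2, 7211, 6503, 8014], [258, 1, 7211, 6505, 8014], [261, 3, 8042, 7194, 6775], [262, 0, 8042, 7199, 6775], [264, 0, 8042, 7173, 6684], [0, 0], [38, 1, 8015, 8050], [50, 2, 8015, 6477, 3894, 6479, 8050], [62, 2, 6784, 6506, 8050], [66, 2, 8015, 6481, 8050], [81, 0, 6579, 6485, 8050], [82, 3, 6579, 6483, 8050],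 [113, 0, 8051, 6486, 8050], [131, 0, 8051, 6488, 8050], [149, 0, 8051, 6490, 8050], [167, 0, 8051, 6492, 8050], [185, 0, 8051, 6494, 8050], [203, 0, 8051, 6496, 8050], [221, 0, 8051, 6498, 8050], [239, 0, 8051, 6500, 8050], [257, 0, 7424, 6505, 8050], [258, 3, 7424, 6503, 8050], [129, 0, 8051, 6510, 8050, 8067], [260, 2, 8082, 7426, 8041], [261, 1, 8082, 7459, 6939], [262, 2, 8082, 7422, 6939], [264, 2, 8082, 7420, 6819], [268, 2, 8082, 7428, 8041], [0, 0], [41, 1, 8096], [51, 2, 8098, 6478, 3897, 6476, 8096], [53, 1, 8098, 6507, 4492, 6508, 8096], [59, 2, 8088, 8051, 8096], [73, 1, 7937, 7906, 8096], [75, 1, 8098, 6480, 8096], [93, 2, 7376, 5910, 5107, 5102, 2642, 968, 1735, 3885, 3896, 3886, 3939, 6483, 8096], [105, 0, 8098, 6484, 5077, 6483, 8096, 8104, 8090, 8062, 6584, 8021, 8047, 6752, 7370], [106, 7, 8044, 8018, 6616, 8061, 8089, 6918, 7373, 8112, 8098, 6484, 5077, 6483, 8096], [117, 2, 8097, 6487, 8096], [135, 2, 8097, 6489, 8096], [147, 2, 8097, 6490, 6511, 8096], [153, 2, 8097, 6491, 8096],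 [171, 2, 8097, 6493, 8096], [189, 2, 8097, 6495, 8096], [207, 2, 8097, 6497, 8096], [225, 2, 8097, 6499, 8096], [243, 2, 8097, 6501, 8096], [255, 24, 7385, 8112, 8098, 6484, 5077, 6483, 8096, 8100, 8121, 8110, 7376, 5910, 5107, 5909, 7416, 7374, 7385, 8112, 8098, 6484, 5077, 6483, 8096, 8100], [255, 24, 8121, 8110, 7376, 5910, 5107, 5909, 7416, 7374, 7385, 8112, 8098, 6484, 5077, 6483, 8096, 8100, 8121, 8110, 7376, 5910, 5107, 5909, 7416, 7374], [57, 0, 8108, 8106, 7790, 6082, 7808], [0, 0], [41, 1, 8140], [51, 2, 8142, 6520, 4492, 6548, 8140], [53, 1, 8142, 6514, 3897, 6512, 8140], [59, 2, 8142, 6518, 8140], [73, 1, 8142, 6516, 8140], [75, 1, 8142, 6522, 8140], [91, 2, 8142, 6526, 5123, 5877, 7686, 7700, 7688, 5878, 5120, 6525, 8140], [117, 2, 8141, 6529, 8140], [135, 2, 8141, 6531, 8140], [147, 2, 8141, 6532, 7414, 8140], [153, 2, 8141, 6533, 8140], [171, 2, 8141, 6535, 8140], [189, 2, 8141, 6537, 8140], [207, 2, 8141, 6539, 8140], [225, 2, 8141, 6541, 8140], [243, 2, 8141, 6543, 8140], [255, 24,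 7707, 7700, 7688, 5878, 5120, 6525, 8140, 8144, 8161, 8154, 8142, 6526, 5123, 5877, 7686, 7690, 7707, 7700, 7688, 5878, 5120, 6525, 8140, 8144], [255, 24, 8161, 8154, 8142, 6526, 5123, 5877, 7686, 7690, 7707, 7700, 7688, 5878, 5120, 6525, 8140, 8144, 8161, 8154, 8142, 6526, 5123, 5877, 7686, 7690], [0, 0], [45, 1, 8178], [55, 2, 8180, 6628, 3992, 6626, 8178], [63, 2, 8180, 6632, 8178], [69, 2, 8180, 6634, 8178], [73, 2, 8180, 6630, 8178], [121, 2, 8179, 6639, 8178], [139, 2, 8179, 6641, 8178], [157, 2, 8179, 6643, 8178], [165, 2, 8179, 6644, 6654, 8178], [175, 2, 8179, 6645, 8178], [193, 2, 8179, 6647, 8178], [211, 2, 8179, 6649, 8178], [229, 2, 8179, 6651, 8178], [247, 2, 8179, 6653, 8178], [0, 0], [111, 1, 7302, 6698, 8208], [111, 3, 8210, 7302, 8208], [129, 1, 6947, 6693, 6700, 8208], [145, 2, 8209, 6701, 8208], [163, 2, 8209, 6703, 8208], [181, 2, 8209, 6705, 8208], [183, 1, 6715, 6691, 6706, 8208], [184, 3, 6715, 4197, 6688, 8208], [199, 2, 8209, 6707, 8208], [201, 2, 7265, 5288, 6695, 8208],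 [217, 2, 8209, 6709, 8208], [235, 2, 8209, 6711, 8208], [253, 2, 8209, 6713, 8208], [271, 2, 7266, 7261, 8208], [272, 1, 7266, 7263, 8208], [202, 4, 8231, 8209, 6696, 7264], [0, 0], [39, 1, 8242], [69, 1, 6750, 6729, 8242], [83, 2, 7323, 6735, 8242], [84, 1, 7323, 6746, 8242], [115, 2, 8243, 6719, 8242], [133, 2, 8243, 6723, 8242], [151, 2, 8243, 6725, 8242], [169, 2, 8243, 6731, 8242], [187, 2, 8243, 6733, 8242], [205, 2, 8243, 6737, 8242], [223, 2, 8243, 6739, 8242], [241, 2, 8243, 6741, 8242], [259, 2, 7323, 6743, 8242], [260, 1, 7323, 6745, 8242], [266, 0, 8270, 7347, 6775], [271, 3, 8270, 7344, 8271], [63, 0, 8246, 8115, 8106], [61, 1, 7287, 7784, 8276], [65, 1, 7352, 7808, 8276], [47, 1, 8280], [71, 2, 8222, 8242, 8280], [77, 0, 8280, 7350, 7277], [85, 3, 8241, 8286, 8248], [44, 1, 8288], [68, 3, 8290, 7323, 7351], [0, 0], [43, 1, 8294], [61, 2, 6986, 6721, 8294], [67, 2, 8286, 8244, 8294], [77, 1, 8291, 8222, 8294], [85, 2, 7349, 6735, 8294], [86, 1, 7349, 6746, 8294], [119, 2, 8295, 6719, 8294],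 [137, 2, 8295, 6723, 8294], [155, 2, 8295, 6725, 8294], [173, 2, 8295, 6731, 8294], [191, 2, 8295, 6733, 8294], [209, 2, 8295, 6737, 8294], [227, 2, 8295, 6739, 8294], [245, 2, 8295, 6741, 8294], [263, 2, 7349, 6743, 8294], [264, 1, 7349, 6745, 8294], [260, 0, 8326, 8292, 8236], [268, 0, 8326, 8281, 8268], [271, 3, 8326, 7895, 8327], [0, 0], [111, 1, 7610, 6846, 8334], [111, 3, 8336, 7610, 8334], [129, 1, 8209, 6831, 6848, 8334], [130, 3, 6947, 4569, 6866, 8334], [145, 2, 8335, 6849, 8334], [147, 1, 8209, 6835, 6850, 8334], [148, 3, 8209, 6703, 6842, 8334], [163, 2, 8335, 6851, 8334], [165, 1, 8209, 6829, 6852, 8334], [166, 3, 8209, 6705, 6865, 8334], [181, 2, 8335, 6853, 8334], [183, 1, 6869, 6827, 6854, 8334], [184, 3, 6869, 4387, 6824, 8334], [199, 2, 8335, 6855, 8334], [201, 2, 7545, 5650, 6839, 8334], [217, 2, 8335, 6857, 8334], [219, 10, 8348, 8228, 7265, 5290, 6695, 6842, 6840, 5636, 6695, 6842, 8334, 8348, 8228, 7574], [219, 14, 8369, 7575, 8229, 8349, 8369, 7575, 7265, 5637, 6841, 6843, 6694,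 5637, 6841, 8334], [253, 2, 8335, 6861, 8334], [271, 2, 7546, 7537, 8334], [272, 1, 7546, 7539, 8334], [56, 5, 8354, 8290, 7347, 5793, 7635], [70, 3, 8354, 8285, 7663], [40, 1, 8380], [68, 2, 7631, 7661, 8380], [0, 0], [39, 1, 8386], [49, 2, 7788, 8276, 8244, 6877, 8386], [69, 1, 6910, 6889, 8386], [71, 1, 8383, 8358, 8386], [83, 2, 7631, 6895, 8386], [84, 1, 7631, 6898, 8386]]
def dJ21 : List (List ℕ) := [[115, 2, 8387, 6873, 8386], [133, 2, 8387, 6879, 8386], [151, 2, 8387, 6885, 8386], [169, 2, 8387, 6891, 8386], [187, 2, 8387, 6893, 8386], [205, 2, 8387, 6897, 8386], [223, 2, 8387, 6901, 8386], [241, 2, 8387, 6903, 8386], [259, 2, 7631, 6905, 8386], [260, 1, 7631, 6907, 8386], [258, 0, 8418, 7657, 8271], [263, 3, 8418, 8385, 8374], [264, 0, 8418, 8378, 8374], [266, 0, 8418, 7655, 6941], [271, 3, 8418, 7652, 8419], [78, 2, 7659, 7578, 8422], [0, 0], [43, 1, 8432], [55, 1, 8296, 6726, 4435, 6889, 8432], [61, 2, 8296, 6877, 8432], [67, 2, 8424, 8388, 8432], [77, 1, 8385, 8358, 8432], [85, 2, 7659,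 6895, 8432], [86, 1, 7659, 6898, 8432], [119, 2, 8433, 6873, 8432], [137, 2, 8433, 6879, 8432], [155, 2, 8433, 6885, 8432], [173, 2, 8433, 6891, 8432], [191, 2, 8433, 6893, 8432], [209, 2, 8433, 6897, 8432], [227, 2, 8433, 6901, 8432], [245, 2, 8433, 6903, 8432], [263, 2, 7659, 6905, 8432], [264, 1, 7659, 6907, 8432], [258, 0, 8466, 7683, 7015], [260, 0, 8466, 8380, 8374], [266, 0, 8466, 7685, 8327], [268, 0, 8466, 8395, 8416], [271, 3, 8466, 7893, 8467], [0, 0], [43, 1, 8478], [61, 2, 8291, 8214, 8478], [67, 2, 8480, 6982, 8478], [77, 1, 6986, 6965, 8478], [85, 2, 7785, 6969, 8478], [86, 1, 7785, 6972, 8478], [107, 15, 7728, 5947, 5943, 5939, 3465, 5104, 2642, 4843, 1851, 1845, 5116, 3745, 5169, 3740, 6445, 6447, 7911, 7928, 7788, 8391, 8423, 7575, 8328, 8298, 6988, 6986, 4590, 4613, 6965, 6958, 8478], [119, 2, 8479, 6951, 8478], [137, 2, 8479, 6953, 8478], [155, 2, 8479, 6957, 8478], [173, 2, 8479, 6961, 8478], [191, 2, 8479, 6967, 8478], [209, 2, 8479, 6971, 8478], [227, 2, 8479, 6975, 8478], [245,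 2, 8479, 6977, 8478], [263, 2, 7785, 6981, 8478], [264, 1, 7785, 6978, 8478], [54, 3, 7725, 8493, 8479, 6955, 8481], [74, 0, 8514, 7721, 7377], [99, 6, 8514, 7728, 5947, 7731, 8493, 8488, 8107, 8110, 7376, 5910, 5107, 5909, 7416], [107, 29, 8485, 8514, 7730, 5946, 5944, 4766, 5165, 4769, 5139, 2727, 2729, 4845, 1737, 3936, 3940, 6474, 6448, 6446, 7913, 7936, 7785, 6032, 6020, 3562, 3558, 6081, 6083, 7353, 8292, 8347, 8384], [147, 2, 8514, 7736, 7739, 8515], [57, 3, 8517, 7380, 8518, 8486, 6988], [0, 0], [41, 1, 8526], [53, 1, 8528, 6986, 4590, 6984, 8526], [73, 1, 8528, 6988, 8526], [75, 1, 8515, 8486, 8526], [93, 4, 7760, 7758, 7056, 4864, 6205, 6220, 6148, 6228, 7847, 7858, 7812, 6993, 8526], [93, 6, 7027, 7067, 7056, 4864, 6205, 6220, 7833, 7857, 7848, 7858, 7812, 6993, 8526], [94, 7, 7027, 7067, 7056, 4864, 6205, 6220, 7837, 7857, 7848, 7858, 7812, 6993, 8526], [95, 4, 8528, 8526, 8527, 6992, 7813, 7859, 7849, 7856, 7811, 6993, 8526, 8536, 7760], [102, 7, 8493, 8488, 7929, 7910, 6447, 7913, 7908,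 7857, 7848, 7858, 7812, 6993, 8526], [117, 2, 8527, 6997, 8526], [135, 2, 8527, 6999, 8526], [147, 2, 8527, 7000, 7898, 8526], [153, 2, 8527, 7001, 8526], [171, 2, 8527, 7003, 8526], [189, 2, 8527, 7005, 8526], [207, 2, 8527, 7007, 8526], [225, 2, 8527, 7009, 8526], [243, 2, 8527, 7011, 8526], [255, 24, 7885, 7857, 7848, 7858, 7812, 6993, 8526, 8538, 7018, 6295, 6282, 4054, 6243, 6252, 6110, 6187, 6129, 6221, 6204, 4865, 7057, 7066, 7026, 8541], [262, 1, 7811, 7015, 8526], [0, 0], [45, 1, 8568], [55, 2, 8570, 7134, 4879, 7132, 8568], [57, 1, 8180, 6636, 4920, 7168, 8568], [63, 2, 8570, 7138, 8568], [69, 2, 8570, 7140, 8568], [73, 2, 8570, 7136, 8568], [87, 2, 8179, 7145, 8568], [88, 1, 8179, 7147, 8568], [121, 2, 8569, 7149, 8568], [139, 2, 8569, 7151, 8568], [157, 2, 8569, 7153, 8568], [165, 2, 8569, 7154, 7171, 8568], [175, 2, 8569, 7155, 8568], [193, 2, 8569, 7157, 8568], [211, 2, 8569, 7159, 8568], [229, 2, 8569, 7161, 8568], [247, 2, 8569, 7163, 8568], [265, 2, 8179, 7165, 8568], [266, 1, 8179,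 7167, 8568], [267, 1, 8604, 8575, 8606], [0, 0], [45, 1, 8610], [63, 2, 7722, 7210, 8610], [73, 2, 7326, 7198, 8610], [87, 2, 7213, 7177, 8610], [88, 1, 7213, 7179, 8610], [121, 2, 8611, 7181, 8610], [139, 2, 8611, 7183, 8610], [157, 2, 8611, 7185, 8610], [165, 2, 8611, 7186, 7200, 8610], [175, 2, 8611, 7187, 8610], [193, 2, 8611, 7189, 8610], [211, 2, 8611, 7191, 8610], [229, 2, 8611, 7193, 8610], [247, 2, 8611, 7197, 8610], [41, 1, 8616], [0, 0], [47, 1, 8642], [123, 2, 8643, 7219, 8642], [141, 2, 8643, 7221, 8642], [159, 2, 8643, 7223, 8642], [177, 2, 8643, 7227, 8642], [183, 2, 8643, 7228, 7225, 8642], [195, 2, 8643, 7229, 8642], [213, 2, 8643, 7231, 8642], [231, 2, 8643, 7233, 8642], [249, 2, 8643, 7235, 8642], [65, 0, 8644, 7216, 7752], [0, 0], [41, 1, 8666], [117, 2, 8667, 7355, 8666], [135, 2, 8667, 7357, 8666], [147, 2, 8667, 7358, 7895, 8666], [153, 2, 8667, 7359, 8666], [171, 2, 8667, 7361, 8666], [189, 2, 8667, 7363, 8666], [207, 2, 8667, 7365, 8666], [225, 2, 8667, 7367, 8666], [243, 2,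 8667, 7369, 8666], [59, 0, 8668, 7352, 7810], [0, 0], [45, 1, 8690], [55, 2, 8612, 7174, 5489, 7418, 8690], [63, 2, 8612, 7452, 8690], [69, 2, 8612, 7454, 8690], [73, 2, 7634, 7458, 8690], [87, 2, 7461, 7431, 8690], [88, 1, 7461, 7433, 8690], [121, 2, 8691, 7435, 8690], [139, 2, 8691, 7437, 8690], [157, 2, 8691, 7439, 8690], [165, 2, 8691, 7440, 7450, 8690], [175, 2, 8691, 7441, 8690], [193, 2, 8691, 7443, 8690], [211, 2, 8691, 7445, 8690], [229, 2, 8691, 7447, 8690], [247, 2, 8691, 7449, 8690], [82, 0, 8704, 7493, 7731], [84, 0, 8704, 7495, 8621], [86, 0, 8704, 7497, 8621], [93, 1, 8704, 7470, 8619, 8616, 7324, 5736, 6898, 6882, 6734, 5736, 6898, 8389, 8398], [0, 0], [47, 1, 8732], [57, 2, 8644, 7214, 5610, 7460, 8732], [65, 2, 7754, 7492, 8732], [71, 2, 8644, 7494, 8732], [75, 2, 8644, 7490, 8732], [77, 2, 8644, 7496, 8732], [123, 2, 8733, 7473, 8732], [141, 2, 8733, 7475, 8732], [159, 2, 8733, 7477, 8732], [177, 2, 8733, 7481, 8732], [183, 2, 8733, 7482, 7479, 8732], [195, 2, 8733, 7483, 8732],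 [213, 2, 8733, 7485, 8732], [231, 2, 8733, 7487, 8732], [249, 2, 8733, 7489, 8732], [43, 1, 8744], [109, 3, 8744, 8644, 8619, 8697, 8698, 8616, 8291, 8222, 6747, 5328, 3563, 3559, 6078, 7808, 8489, 8521, 7632, 5737, 7348, 8282, 8250, 8483, 8484, 8492, 7724, 8545, 8536, 8739, 8740], [39, 1, 8740], [37, 2, 8738, 8664], [63, 3, 8738, 7756, 8664], [0, 0], [41, 1, 8774], [51, 2, 8668, 8284, 8349, 8381, 8774], [53, 1, 8668, 7350, 5719, 7658, 8774], [59, 2, 7812, 7682, 8774], [73, 1, 8668, 7684, 8774], [117, 2, 8775, 7667, 8774], [135, 2, 8775, 7669, 8774], [147, 2, 8775, 7670, 7893, 8774], [153, 2, 8775, 7671, 8774], [171, 2, 8775, 7673, 8774], [189, 2, 8775, 7675, 8774], [207, 2, 8775, 7677, 8774]]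
def dJ22 : List (List ℕ) := [[225, 2, 8775, 7679, 8774], [243, 2, 8775, 7681, 8774], [45, 1, 8784], [37, 2, 8782, 8688], [49, 5, 8782, 7832, 6147, 7837, 8688], [61, 3, 8782, 7814, 8688], [0, 0], [65, 1, 7973, 7882, 8812], [81, 2, 8689, 7857, 8812], [82, 1, 8689, 7859, 8812], [113, 2, 8813, 7861, 8812], [129, 2, 8813, 7862, 7875, 8812], [131, 2, 8813, 7863, 8812], [149, 2, 8813, 7865, 8812], [167, 2, 8813, 7867, 8812], [185, 2, 8813, 7869, 8812], [203, 2, 8813, 7871, 8812], [221, 2, 8813, 7873, 8812], [239, 2, 8813, 7877, 8812], [257, 2, 8665, 7879, 8812], [258, 1, 8665, 7881, 8812], [268, 0, 8840, 8643, 8001], [0, 0], [38, 1, 8813, 8844], [50, 2, 8813, 7845, 6201, 7847, 8844], [60, 2, 8813, 7849, 8844], [62, 2, 8813, 7851, 8844], [64, 2, 8813, 7853, 8844], [66, 2, 7945, 7855, 8844], [81, 0, 8782, 7859, 8844], [82, 3, 8782, 7857, 8844], [113, 0, 8845, 7860, 8844], [131, 0, 8845, 7862, 8844], [149, 0, 8845, 7864, 8844], [167, 0, 8845, 7866, 8844], [185, 0, 8845, 7868, 8844], [203, 0, 8845, 7870, 8844],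 [221, 0, 8845, 7872, 8844], [239, 0, 8845, 7876, 8844], [257, 0, 8738, 7881, 8844], [258, 3, 8738, 7879, 8844], [129, 0, 8845, 7874, 8844, 8865], [260, 2, 8880, 8740, 8839], [262, 2, 8880, 8742, 8839], [264, 2, 8880, 8744, 8839], [266, 2, 8880, 8736, 8839], [268, 2, 8880, 8734, 7967], [0, 0], [59, 1, 8390, 7937, 8894], [63, 1, 8051, 7940, 8894], [65, 1, 8782, 7942, 8894], [81, 2, 7945, 7911, 8894], [82, 1, 7945, 7913, 8894], [105, 7, 8396, 8701, 8702, 7491, 8621, 8614, 7730, 5946, 7729, 8515, 8490, 7937, 8894], [113, 2, 8895, 7915, 8894], [129, 2, 8895, 7916, 7939, 8894], [131, 2, 8895, 7917, 8894], [149, 2, 8895, 7919, 8894], [167, 2, 8895, 7921, 8894], [185, 2, 8895, 7923, 8894], [203, 2, 8895, 7925, 8894], [221, 2, 8895, 7927, 8894], [239, 2, 8895, 7931, 8894], [257, 2, 8725, 7933, 8894], [258, 1, 8725, 7935, 8894], [266, 0, 8928, 8691, 8081], [90, 0, 8904, 8892, 8860], [0, 0], [38, 1, 8895, 8934], [50, 2, 8895, 7901, 6388, 7903, 8934], [60, 2, 8277, 7929, 8934], [62, 2, 8895, 7905, 8934], [64,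 2, 8015, 7907, 8934], [66, 2, 8689, 7909, 8934], [81, 0, 7973, 7913, 8934], [82, 3, 7973, 7911, 8934], [107, 4, 8896, 8388, 6874, 4594, 2633, 2528, 2629, 2534, 4597, 6984, 8526, 8543, 7761, 7763, 7757, 7753, 5971, 4746, 4891, 4921, 4089, 5173, 5171, 4085, 1844, 5116, 3745, 6381, 6391, 7900, 8934], [109, 2, 8896, 8423, 7579, 6895, 6876, 8242, 8941, 8952, 8900, 8861, 8846, 8849, 8887, 8853, 8893, 8903, 8895, 7902, 6391, 6397, 6395, 6221, 6201, 7844, 7848, 7850, 7854, 7911, 8934], [113, 0, 8935, 7914, 8934], [131, 0, 8935, 7916, 8934], [149, 0, 8935, 7918, 8934], [167, 0, 8935, 7920, 8934], [185, 0, 8935, 7922, 8934], [203, 0, 8935, 7924, 8934], [221, 0, 8935, 7926, 8934], [239, 0, 8935, 7930, 8934], [257, 0, 8614, 7935, 8934], [258, 3, 8614, 7933, 8934], [129, 0, 8935, 7938, 8934, 8959], [262, 2, 8974, 8616, 8269], [266, 2, 8974, 8612, 8041], [90, 2, 8950, 8842, 8818], [0, 0], [41, 1, 8984], [75, 1, 8616, 8330, 8984], [101, 4, 8766, 8734, 7491, 8621, 8641, 8251, 8978, 8950, 8815, 8818, 8668, 8305, 8984],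 [102, 7, 8641, 8251, 8978, 8950, 7978, 8905, 8900, 8861, 8887, 8818, 8668, 8305, 8984], [106, 7, 8527, 6992, 7813, 7859, 7849, 7856, 8783, 8861, 8887, 8818, 8668, 8305, 8984], [107, 16, 8743, 8765, 8737, 8733, 7495, 7471, 7497, 7213, 5271, 5104, 2642, 4843, 660, 5082, 1735, 3887, 3897, 6476, 8050, 8093, 6788, 6820, 6782, 6797, 8057, 8091, 6910, 4418, 6729, 8294, 8984], [117, 2, 8985, 8309, 8984], [135, 2, 8985, 8311, 8984], [147, 2, 8985, 8312, 8333, 8984], [153, 2, 8985, 8313, 8984], [171, 2, 8985, 8315, 8984], [189, 2, 8985, 8317, 8984], [207, 2, 8985, 8319, 8984], [225, 2, 8985, 8321, 8984], [243, 2, 8985, 8323, 8984], [261, 2, 8667, 8325, 8984], [262, 1, 8667, 8327, 8984], [0, 0], [41, 1, 9020], [51, 2, 8986, 8300, 7555, 8470, 9020], [53, 1, 8986, 8296, 6883, 8432, 9020], [59, 2, 8528, 8468, 9020], [73, 1, 8986, 8472, 9020], [75, 1, 8700, 8474, 9020], [91, 2, 8742, 8997, 8986, 8306, 8666, 8817, 8851, 8858, 8776, 8445, 9020], [94, 7, 8985, 8304, 8669, 8819, 8886, 8860, 8778, 8817, 8851, 8858, 8776,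 8445, 9020], [95, 8, 8767, 8991, 8985, 8304, 8669, 8817, 8851, 8858, 8776, 8445, 9020, 9022, 9023], [98, 7, 8985, 8304, 8669, 8819, 8886, 8860, 8780, 8817, 8851, 8858, 8776, 8445, 9020], [100, 7, 8985, 8304, 8669, 8819, 8886, 8860, 8784, 8817, 8851, 8858, 8776, 8445, 9020], [102, 7, 8731, 8399, 8897, 8902, 8008, 8949, 8983, 8817, 8851, 8858, 8776, 8445, 9020], [106, 7, 8985, 8304, 8669, 8819, 8886, 8860, 8807, 8817, 8851, 8858, 8776, 8445, 9020], [117, 2, 9021, 8449, 9020], [135, 2, 9021, 8451, 9020], [147, 2, 9021, 8452, 8477, 9020], [153, 2, 9021, 8453, 9020], [171, 2, 9021, 8455, 9020], [189, 2, 9021, 8457, 9020], [207, 2, 9021, 8459, 9020], [225, 2, 9021, 8461, 9020], [243, 2, 9021, 8463, 9020], [261, 2, 8775, 8465, 9020], [262, 1, 8775, 8467, 9020]]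
def dJS : List (List ℕ) := List.flatten [dJ0, dJ1, dJ2, dJ3, dJ4, dJ5, dJ6, dJ7, dJ8, dJ9, dJ10, dJ11, dJ12, dJ13, dJ14, dJ15, dJ16, dJ17, dJ18, dJ19, dJ20, dJ21, dJ22]
def dLive_0 : BT := .node (.node (.node (.node (.node (.node (.node (.leaf 0) (.leaf 227)) (.node (.leaf 138) (.leaf 300))) (.node (.node (.leaf 73) (.leaf 266)) (.node (.leaf 178) (.leaf 334)))) (.node (.node (.node (.leaf 42) (.leaf 248)) (.node (.leaf 159) (.leaf 316))) (.node (.node (.leaf 105) (.leaf 284)) (.leaf 200)))) (.node (.node (.node (.node (.leaf 29) (.leaf 238)) (.node (.leaf 151) (.leaf 308))) (.node (.node (.leaf 86) (.leaf 274)) (.node (.leaf 192) (.leaf 342)))) (.node (.node (.node (.leaf 55) (.leaf 256)) (.node (.leaf 169) (.leaf 326))) (.node (.node (.leaf 114) (.leaf 292)) (.leaf 214))))) (.node (.node (.node (.node (.node (.leaf 19) (.leaf 233)) (.node (.leaf 145) (.leaf 304))) (.node (.node (.leaf 79) (.leaf 270)) (.node (.leaf 188) (.leaf 338)))) (.node (.node (.node (.leaf 47) (.leaf 252)) (.node (.leaf 165)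 (.leaf 322))) (.node (.node (.leaf 109) (.leaf 288)) (.leaf 208)))) (.node (.node (.node (.node (.leaf 37) (.leaf 242)) (.node (.leaf 155) (.leaf 312))) (.node (.node (.leaf 91) (.leaf 278)) (.node (.leaf 196) (.leaf 346)))) (.node (.node (.node (.leaf 63) (.leaf 262)) (.node (.leaf 174) (.leaf 330))) (.node (.node (.leaf 131) (.leaf 296)) (.leaf 219)))))) (.node (.node (.node (.node (.node (.node (.leaf 2) (.leaf 229)) (.node (.leaf 140) (.leaf 302))) (.node (.node (.leaf 76) (.leaf 268)) (.node (.leaf 180) (.leaf 336)))) (.node (.node (.node (.leaf 45) (.leaf 250)) (.node (.leaf 163) (.leaf 320))) (.node (.node (.leaf 107) (.leaf 286)) (.leaf 206)))) (.node (.node (.node (.node (.leaf 35) (.leaf 240)) (.node (.leaf 153) (.leaf 310))) (.node (.node (.leaf 88) (.leaf 276)) (.node (.leaf 194) (.leaf 344)))) (.node (.node (.node (.leaf 58) (.leaf 258)) (.node (.leaf 172) (.leaf 328))) (.node (.node (.leaf 126) (.leaf 294)) (.leaf 216))))) (.node (.node (.node (.node (.node (.leaf 26) (.leaf 236)) (.node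 (.leaf 147) (.leaf 306))) (.node (.node (.leaf 81) (.leaf 272)) (.node (.leaf 190) (.leaf 340)))) (.node (.node (.node (.leaf 53) (.leaf 254)) (.node (.leaf 167) (.leaf 324))) (.node (.node (.leaf 112) (.leaf 290)) (.leaf 211)))) (.node (.node (.node (.node (.leaf 39) (.leaf 244)) (.node (.leaf 157) (.leaf 314))) (.node (.node (.leaf 93) (.leaf 280)) (.node (.leaf 198) (.leaf 348)))) (.node (.node (.node (.leaf 71) (.leaf 264)) (.node (.leaf 176) (.leaf 332))) (.node (.node (.leaf 134) (.leaf 298)) (.leaf 223))))))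
def dLive_1 : BT := .node (.node (.node (.node (.node (.node (.node (.leaf 1) (.leaf 228)) (.node (.leaf 139) (.leaf 301))) (.node (.node (.leaf 74) (.leaf 267)) (.node (.leaf 179) (.leaf 335)))) (.node (.node (.node (.leaf 44) (.leaf 249)) (.node (.leaf 162) (.leaf 317))) (.node (.node (.leaf 106) (.leaf 285)) (.leaf 202)))) (.node (.node (.node (.node (.leaf 31) (.leaf 239)) (.node (.leaf 152) (.leaf 309))) (.node (.node (.leaf 87) (.leaf 275)) (.node (.leaf 193) (.leaf 343)))) (.node (.node (.node (.leaf 56) (.leaf 257)) (.node (.leaf 170) (.leaf 327))) (.node (.node (.leaf 125) (.leaf 293)) (.leaf 215))))) (.node (.node (.node (.node (.node (.leaf 21) (.leaf 235)) (.node (.leaf 146) (.leaf 305))) (.node (.node (.leaf 80) (.leaf 271)) (.node (.leaf 189) (.leaf 339)))) (.node (.node (.node (.leaf 49) (.leaf 253)) (.node (.leaf 166) (.leaf 323))) (.node (.node (.leaf 111) (.leaf 289)) (.leaf 209)))) (.node (.node (.node (.node (.leaf 38) (.leaf 243)) (.node (.leaf 156) (.leaf 313))) (.node (.node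 (.leaf 92) (.leaf 279)) (.node (.leaf 197) (.leaf 347)))) (.node (.node (.node (.leaf 65) (.leaf 263)) (.node (.leaf 175) (.leaf 331))) (.node (.node (.leaf 132) (.leaf 297)) (.leaf 222)))))) (.node (.node (.node (.node (.node (.node (.leaf 15) (.leaf 230)) (.node (.leaf 144) (.leaf 303))) (.node (.node (.leaf 78) (.leaf 269)) (.node (.leaf 187) (.leaf 337)))) (.node (.node (.node (.leaf 46) (.leaf 251)) (.node (.leaf 164) (.leaf 321))) (.node (.node (.leaf 108) (.leaf 287)) (.leaf 207)))) (.node (.node (.node (.node (.leaf 36) (.leaf 241)) (.node (.leaf 154) (.leaf 311))) (.node (.node (.leaf 89) (.leaf 277)) (.node (.leaf 195) (.leaf 345)))) (.node (.node (.node (.leaf 62) (.leaf 259)) (.node (.leaf 173) (.leaf 329))) (.node (.node (.leaf 128) (.leaf 295)) (.leaf 218))))) (.node (.node (.node (.node (.node (.leaf 28) (.leaf 237)) (.node (.leaf 148) (.leaf 307))) (.node (.node (.leaf 83) (.leaf 273)) (.node (.leaf 191) (.leaf 341)))) (.node (.node (.node (.leaf 54) (.leaf 255)) (.node (.leaf 168)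 (.leaf 325))) (.node (.node (.leaf 113) (.leaf 291)) (.leaf 213)))) (.node (.node (.node (.node (.leaf 40) (.leaf 245)) (.node (.leaf 158) (.leaf 315))) (.node (.node (.leaf 94) (.leaf 283)) (.node (.leaf 199) (.leaf 349)))) (.node (.node (.node (.leaf 72) (.leaf 265)) (.node (.leaf 177) (.leaf 333))) (.node (.node (.leaf 137) (.leaf 299)) (.leaf 226))))))
def dLive_2 : BT := .node dLive_0 dLive_1
def dLive : BT := dLive_2
def dPos_0 : BT := .node (.node (.node (.node (.node (.node (.node (.leaf 0) (.leaf 152)) (.leaf 59)) (.node (.node (.leaf 0) (.leaf 210)) (.leaf 104))) (.node (.node (.node (.leaf 0) (.leaf 180)) (.leaf 0)) (.node (.leaf 0) (.leaf 0)))) (.node (.node (.node (.node (.leaf 0) (.leaf 166)) (.leaf 67)) (.node (.node (.leaf 37) (.leaf 226)) (.leaf 116))) (.node (.node (.node (.leaf 0) (.leaf 196)) (.leaf 94)) (.node (.leaf 54) (.leaf 138))))) (.node (.node (.node (.node (.node (.leaf 0) (.leaf 158)) (.leaf 0)) (.node (.node (.leaf 31) (.leaf 218)) (.leaf 112))) (.node (.node (.node (.leaf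 15) (.leaf 188)) (.leaf 87)) (.node (.leaf 0) (.leaf 0)))) (.node (.node (.node (.node (.leaf 0) (.leaf 174)) (.leaf 73)) (.node (.node (.leaf 42) (.leaf 234)) (.leaf 122))) (.node (.node (.node (.leaf 25) (.leaf 204)) (.leaf 0)) (.node (.leaf 0) (.leaf 144)))))) (.node (.node (.node (.node (.node (.node (.leaf 0) (.leaf 0)) (.leaf 61)) (.node (.node (.leaf 0) (.leaf 214)) (.leaf 108))) (.node (.node (.node (.leaf 11) (.leaf 184)) (.leaf 83)) (.node (.leaf 0) (.leaf 129)))) (.node (.node (.node (.node (.leaf 0) (.leaf 170)) (.leaf 71)) (.node (.node (.leaf 0) (.leaf 230)) (.leaf 0))) (.node (.node (.node (.leaf 0) (.leaf 200)) (.leaf 98)) (.node (.leaf 0) (.leaf 142))))) (.node (.node (.node (.node (.node (.leaf 0) (.leaf 162)) (.leaf 66)) (.node (.node (.leaf 34) (.leaf 222)) (.leaf 0))) (.node (.node (.node (.leaf 17) (.leaf 192)) (.leaf 90)) (.node (.leaf 51) (.leaf 134)))) (.node (.node (.node (.node (.leaf 7) (.leaf 176)) (.leaf 77)) (.node (.node (.leaf 45) (.leaf 238)) (.leaf 0))) (.node (.node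 (.node (.leaf 0) (.leaf 208)) (.leaf 100)) (.node (.leaf 0) (.leaf 148))))))
def dPos_1 : BT := .node (.node (.node (.node (.node (.node (.node (.leaf 2) (.leaf 154)) (.leaf 0)) (.node (.node (.leaf 0) (.leaf 212)) (.leaf 106))) (.node (.node (.node (.leaf 0) (.leaf 182)) (.leaf 81)) (.node (.leaf 0) (.leaf 127)))) (.node (.node (.node (.node (.leaf 0) (.leaf 168)) (.leaf 69)) (.node (.node (.leaf 0) (.leaf 228)) (.leaf 0))) (.node (.node (.node (.leaf 0) (.leaf 198)) (.leaf 96)) (.node (.leaf 56) (.leaf 140))))) (.node (.node (.node (.node (.node (.leaf 0) (.leaf 160)) (.leaf 64)) (.node (.node (.leaf 33) (.leaf 220)) (.leaf 113))) (.node (.node (.node (.leaf 16) (.leaf 190)) (.leaf 89)) (.node (.leaf 49) (.leaf 0)))) (.node (.node (.node (.node (.leaf 6) (.leaf 0)) (.leaf 75)) (.node (.node (.leaf 0) (.leaf 236)) (.leaf 123))) (.node (.node (.node (.leaf 26) (.leaf 206)) (.leaf 0)) (.node (.leaf 0) (.leaf 146)))))) (.node (.node (.node (.node (.node (.node (.leaf 0) (.leaf 156)) (.leaf 62)) (.node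 (.node (.leaf 0) (.leaf 216)) (.leaf 110))) (.node (.node (.node (.leaf 13) (.leaf 186)) (.leaf 85)) (.node (.leaf 0) (.leaf 131)))) (.node (.node (.node (.node (.leaf 0) (.leaf 172)) (.leaf 0)) (.node (.node (.leaf 40) (.leaf 232)) (.leaf 120))) (.node (.node (.node (.leaf 23) (.leaf 202)) (.leaf 0)) (.node (.leaf 0) (.leaf 0))))) (.node (.node (.node (.node (.node (.leaf 0) (.leaf 164)) (.leaf 0)) (.node (.node (.leaf 35) (.leaf 224)) (.leaf 114))) (.node (.node (.node (.leaf 19) (.leaf 194)) (.leaf 92)) (.node (.leaf 0) (.leaf 136)))) (.node (.node (.node (.node (.leaf 0) (.leaf 178)) (.leaf 79)) (.node (.leaf 47) (.leaf 125))) (.node (.node (.node (.leaf 27) (.leaf 0)) (.leaf 102)) (.node (.leaf 58) (.leaf 150))))))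
def dPos_2 : BT := .node dPos_0 dPos_1
def dPos_3 : BT := .node (.node (.node (.node (.node (.node (.node (.leaf 1) (.leaf 153)) (.leaf 0)) (.node (.node (.leaf 29) (.leaf 211)) (.leaf 105))) (.node (.node (.node (.leaf 0) (.leaf 181)) (.leaf 0)) (.node (.leaf 0) (.leaf 0)))) (.node (.node (.node (.node (.leaf 0) (.leaf 167)) (.leaf 68)) (.node (.node (.leaf 38) (.leaf 227)) (.leaf 117))) (.node (.node (.node (.leaf 21) (.leaf 197)) (.leaf 95)) (.node (.leaf 55) (.leaf 139))))) (.node (.node (.node (.node (.node (.leaf 0) (.leaf 159)) (.leaf 63)) (.node (.node (.leaf 32) (.leaf 219)) (.leaf 0))) (.node (.node (.node (.leaf 0) (.leaf 189)) (.leaf 88)) (.node (.leaf 48) (.leaf 132)))) (.node (.node (.node (.node (.leaf 0) (.leaf 0)) (.leaf 74)) (.node (.node (.leaf 43) (.leaf 235)) (.leaf 0))) (.node (.node (.node (.leaf 0) (.leaf 205)) (.leaf 0)) (.node (.leaf 0) (.leaf 145)))))) (.node (.node (.node (.node (.node (.node (.leaf 0) (.leaf 0)) (.leaf 0)) (.node (.node (.leaf 0) (.leaf 215)) (.leaf 109)))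 (.node (.node (.node (.leaf 12) (.leaf 185)) (.leaf 84)) (.node (.leaf 0) (.leaf 130)))) (.node (.node (.node (.node (.leaf 5) (.leaf 171)) (.leaf 0)) (.node (.node (.leaf 0) (.leaf 231)) (.leaf 119))) (.node (.node (.node (.leaf 22) (.leaf 201)) (.leaf 0)) (.node (.leaf 0) (.leaf 143))))) (.node (.node (.node (.node (.node (.leaf 0) (.leaf 163)) (.leaf 0)) (.node (.node (.leaf 0) (.leaf 223)) (.leaf 0))) (.node (.node (.node (.leaf 18) (.leaf 193)) (.leaf 91)) (.node (.leaf 52) (.leaf 135)))) (.node (.node (.node (.node (.leaf 8) (.leaf 177)) (.leaf 78)) (.node (.node (.leaf 46) (.leaf 239)) (.leaf 0))) (.node (.node (.node (.leaf 0) (.leaf 209)) (.leaf 101)) (.node (.leaf 57) (.leaf 149))))))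
def dPos_4 : BT := .node (.node (.node (.node (.node (.node (.node (.leaf 0) (.leaf 155)) (.leaf 60)) (.node (.node (.leaf 0) (.leaf 213)) (.leaf 107))) (.node (.node (.node (.leaf 10) (.leaf 183)) (.leaf 82)) (.node (.leaf 0) (.leaf 128)))) (.node (.node (.node (.node (.leaf 4) (.leaf 169)) (.leaf 70)) (.node (.node (.leaf 39) (.leaf 229)) (.leaf 118))) (.node (.node (.node (.leaf 0) (.leaf 199)) (.leaf 97)) (.node (.leaf 0) (.leaf 141))))) (.node (.node (.node (.node (.node (.leaf 0) (.leaf 161)) (.leaf 65)) (.node (.node (.leaf 0) (.leaf 221)) (.leaf 0))) (.node (.node (.node (.leaf 0) (.leaf 191)) (.leaf 0)) (.node (.leaf 50) (.leaf 133)))) (.node (.node (.node (.node (.leaf 0) (.leaf 175)) (.leaf 76)) (.node (.node (.leaf 44) (.leaf 237)) (.leaf 124))) (.node (.node (.node (.leaf 0) (.leaf 207)) (.leaf 99)) (.node (.leaf 0) (.leaf 147)))))) (.node (.node (.node (.node (.node (.node (.leaf 0) (.leaf 157)) (.leaf 0)) (.node (.node (.leaf 30) (.leaf 217)) (.leaf 111))) (.node (.node (.node (.leaf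 14) (.leaf 187)) (.leaf 86)) (.node (.leaf 0) (.leaf 0)))) (.node (.node (.node (.node (.leaf 0) (.leaf 173)) (.leaf 72)) (.node (.node (.leaf 41) (.leaf 233)) (.leaf 121))) (.node (.node (.node (.leaf 24) (.leaf 203)) (.leaf 0)) (.node (.leaf 0) (.leaf 0))))) (.node (.node (.node (.node (.node (.leaf 3) (.leaf 165)) (.leaf 0)) (.node (.node (.leaf 36) (.leaf 225)) (.leaf 115))) (.node (.node (.node (.leaf 20) (.leaf 195)) (.leaf 93)) (.node (.leaf 53) (.leaf 137)))) (.node (.node (.node (.node (.leaf 9) (.leaf 179)) (.leaf 80)) (.node (.leaf 0) (.leaf 126))) (.node (.node (.node (.leaf 28) (.leaf 0)) (.leaf 103)) (.node (.leaf 0) (.leaf 151))))))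
def dPos_5 : BT := .node dPos_3 dPos_4
def dPos_6 : BT := .node dPos_2 dPos_5
def dPos : BT := dPos_6
def dFin_0 : BT := .node (.node (.node (.node (.node (.node (.node (.leaf 0) (.leaf 4324)) (.node (.leaf 2056) (.leaf 6805))) (.node (.node (.leaf 1002) (.leaf 5720)) (.node (.leaf 3351) (.leaf 7873)))) (.node (.node (.node (.leaf 2335) (.leaf 5198)) (.node (.leaf 3115) (.leaf 7339))) (.node (.node (.leaf 5009) (.leaf 6246)) (.node (.leaf 3873) (.leaf 8509))))) (.node (.node (.node (.node (.leaf 359) (.leaf 4672)) (.node (.leaf 2589) (.leaf 7104))) (.node (.node (.leaf 1181) (.leaf 6031)) (.node (.leaf 3556) (.leaf 8583)))) (.node (.node (.node (.leaf 747) (.leaf 5856)) (.node (.leaf 3047) (.leaf 8474))) (.node (.node (.leaf 1803) (.leaf 6552)) (.node (.leaf 4077) (.leaf 8791)))))) (.node (.node (.node (.node (.node (.leaf 179) (.leaf 4496)) (.node (.leaf 4327) (.leaf 6951))) (.node (.node (.leaf 1384) (.leaf 5878)) (.node (.leaf 5107) (.leaf 8029)))) (.node (.node (.node (.leaf 655) (.leaf 7251))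 (.node (.leaf 3247) (.leaf 7475))) (.node (.node (.leaf 3800) (.leaf 6422)) (.node (.leaf 3960) (.leaf 8653))))) (.node (.node (.node (.node (.leaf 481) (.leaf 4795)) (.node (.leaf 2702) (.leaf 7240))) (.node (.node (.leaf 1467) (.leaf 6125)) (.node (.leaf 3727) (.leaf 8346)))) (.node (.node (.node (.leaf 864) (.leaf 5577)) (.node (.leaf 3187) (.leaf 7758))) (.node (.node (.leaf 1901) (.leaf 6685)) (.node (.leaf 4197) (.leaf 8952))))))) (.node (.node (.node (.node (.node (.node (.leaf 1303) (.leaf 4429)) (.node (.leaf 4331) (.leaf 6885))) (.node (.node (.leaf 1171) (.leaf 5797)) (.node (.leaf 3408) (.leaf 7959)))) (.node (.node (.node (.leaf 2319) (.leaf 5614)) (.node (.leaf 4964) (.leaf 7391))) (.node (.node (.leaf 1602) (.leaf 6323)) (.node (.leaf 3910) (.leaf 8599))))) (.node (.node (.node (.node (.leaf 414) (.leaf 4737)) (.node (.leaf 2646) (.leaf 7194))) (.node (.node (.leaf 1247) (.leaf 7682)) (.node (.leaf 3659) (.leaf 8246)))) (.node (.node (.node (.leaf 801) (.leaf 5470)) (.node (.leaf 3127)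 (.leaf 7692))) (.node (.node (.leaf 1849) (.leaf 6634)) (.node (.leaf 4141) (.leaf 8893)))))) (.node (.node (.node (.node (.node (.leaf 264) (.leaf 4590)) (.node (.leaf 2519) (.leaf 7069))) (.node (.node (.leaf 1125) (.leaf 5940)) (.node (.leaf 5299) (.leaf 8117)))) (.node (.node (.node (.leaf 688) (.leaf 5757)) (.node (.leaf 4265) (.leaf 7545))) (.node (.node (.leaf 1749) (.leaf 6480)) (.node (.leaf 6007) (.leaf 8709))))) (.node (.node (.node (.node (.leaf 512) (.leaf 4907)) (.node (.leaf 2791) (.leaf 7284))) (.node (.node (.leaf 1504) (.leaf 6177)) (.node (.leaf 3770) (.leaf 8438)))) (.node (.node (.node (.leaf 920) (.leaf 5649)) (.node (.leaf 3261) (.leaf 8511))) (.node (.node (.leaf 1988) (.leaf 6739)) (.node (.leaf 4253) (.leaf 9024)))))))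
def dFin_1 : BT := .node (.node (.node (.node (.node (.node (.node (.leaf 68) (.leaf 6868)) (.node (.leaf 2088) (.leaf 6853))) (.node (.node (.leaf 1162) (.leaf 5771)) (.node (.leaf 3389) (.leaf 7925)))) (.node (.node (.node (.leaf 1085) (.leaf 5233)) (.node (.leaf 2848) (.leaf 7363))) (.node (.node (.leaf 1597) (.leaf 6303)) (.node (.leaf 3884) (.leaf 8561))))) (.node (.node (.node (.node (.leaf 383) (.leaf 6275)) (.node (.leaf 2619) (.leaf 7134))) (.node (.node (.leaf 1202) (.leaf 6040)) (.node (.leaf 3591) (.leaf 8222)))) (.node (.node (.node (.leaf 772) (.leaf 5428)) (.node (.leaf 3072) (.leaf 7662))) (.node (.node (.leaf 1831) (.leaf 6617)) (.node (.leaf 4105) (.leaf 8818)))))) (.node (.node (.node (.node (.node (.leaf 268) (.leaf 4560)) (.node (.leaf 2480) (.leaf 7898))) (.node (.node (.leaf 1099) (.leaf 5906)) (.node (.leaf 3488) (.leaf 8066)))) (.node (.node (.node (.leaf 673) (.leaf 5347)) (.node (.leaf 4478) (.leaf 7501))) (.node (.node (.leaf 1725) (.leaf 7911)) (.node (.leaf 6207) (.leaf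 8677))))) (.node (.node (.node (.node (.leaf 492) (.leaf 4860)) (.node (.leaf 2743) (.leaf 7261))) (.node (.node (.leaf 3343) (.leaf 6142)) (.node (.leaf 3749) (.leaf 8388)))) (.node (.node (.node (.leaf 902) (.leaf 5605)) (.node (.leaf 3210) (.leaf 8276))) (.node (.node (.leaf 2827) (.leaf 6713)) (.node (.leaf 4217) (.leaf 8986))))))) (.node (.node (.node (.node (.node (.node (.leaf 301) (.leaf 4452)) (.node (.leaf 2188) (.leaf 6925))) (.node (.node (.leaf 2456) (.leaf 5837)) (.node (.leaf 5124) (.leaf 7990)))) (.node (.node (.node (.leaf 1368) (.leaf 6695)) (.node (.leaf 3213) (.leaf 7439))) (.node (.node (.leaf 1672) (.leaf 6364)) (.node (.leaf 6474) (.leaf 8633))))) (.node (.node (.node (.node (.leaf 739) (.leaf 4758)) (.node (.leaf 2685) (.leaf 7494))) (.node (.node (.leaf 1423) (.leaf 7013)) (.node (.leaf 3685) (.leaf 8296)))) (.node (.node (.node (.leaf 2522) (.leaf 5504)) (.node (.leaf 3155) (.leaf 8515))) (.node (.node (.leaf 1870) (.leaf 6664)) (.node (.leaf 4166) (.leaf 8898)))))) (.node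 (.node (.node (.node (.node (.leaf 331) (.leaf 4648)) (.node (.leaf 2545) (.leaf 7087))) (.node (.node (.leaf 1153) (.leaf 6001)) (.node (.leaf 5018) (.leaf 8161)))) (.node (.node (.node (.leaf 719) (.leaf 7198)) (.node (.leaf 3001) (.leaf 7606))) (.node (.node (.leaf 1768) (.leaf 6516)) (.node (.leaf 4044) (.leaf 8747))))) (.node (.node (.node (.node (.leaf 1447) (.leaf 4931)) (.node (.leaf 4937) (.leaf 7317))) (.node (.node (.leaf 1528) (.leaf 6219)) (.node (.leaf 3817) (.leaf 8466)))) (.node (.node (.node (.leaf 4845) (.leaf 5687)) (.node (.leaf 5524) (.leaf 7835))) (.node (.node (.leaf 2147) (.leaf 6767)) (.leaf 4297))))))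
def dFin_2 : BT := .node dFin_0 dFin_1
def dFin_3 : BT := .node (.node (.node (.node (.node (.node (.node (.leaf 170) (.leaf 4348)) (.node (.leaf 2069) (.leaf 6836))) (.node (.node (.leaf 1011) (.leaf 5746)) (.node (.leaf 3347) (.leaf 7908)))) (.node (.node (.node (.leaf 560) (.leaf 5220)) (.node (.leaf 2839) (.leaf 7684))) (.node (.node (.leaf 1565) (.leaf 6282)) (.node (.leaf 3859) (.leaf 8536))))) (.node (.node (.node (.node (.leaf 374) (.leaf 4681)) (.node (.leaf 4715) (.leaf 7115))) (.node (.node (.leaf 3061) (.leaf 6016)) (.node (.leaf 5042) (.leaf 8205)))) (.node (.node (.node (.leaf 785) (.leaf 5406)) (.node (.leaf 3085) (.leaf 7647))) (.node (.node (.leaf 1822) (.leaf 6563)) (.node (.leaf 5968) (.leaf 8803)))))) (.node (.node (.node (.node (.node (.leaf 267) (.leaf 4503)) (.node (.leaf 2462) (.leaf 6979))) (.node (.node (.leaf 2323) (.leaf 5893)) (.node (.leaf 3471) (.leaf 8087)))) (.node (.node (.node (.leaf 668) (.leaf 5313)) (.node (.leaf 2921) (.leaf 7502))) (.node (.node (.leaf 3834)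 (.leaf 6439)) (.node (.leaf 3973) (.leaf 8668))))) (.node (.node (.node (.node (.leaf 476) (.leaf 4879)) (.node (.leaf 2759) (.leaf 7239))) (.node (.node (.leaf 1463) (.leaf 6221)) (.node (.leaf 3744) (.leaf 8351)))) (.node (.node (.node (.leaf 870) (.leaf 5592)) (.node (.leaf 5786) (.leaf 7767))) (.node (.node (.leaf 2360) (.leaf 8208)) (.node (.leaf 4435) (.leaf 8962))))))) (.node (.node (.node (.node (.node (.node (.leaf 156) (.leaf 4431)) (.node (.leaf 2140) (.leaf 6910))) (.node (.node (.leaf 1043) (.leaf 6939)) (.node (.leaf 3427) (.leaf 8011)))) (.node (.node (.node (.leaf 1726) (.leaf 5269)) (.node (.leaf 2879) (.leaf 7422))) (.node (.node (.leaf 1617) (.leaf 6389)) (.node (.leaf 3929) (.leaf 8612))))) (.node (.node (.node (.node (.leaf 1325) (.leaf 7117)) (.node (.leaf 4679) (.leaf 7185))) (.node (.node (.leaf 3004) (.leaf 6087)) (.node (.leaf 3668) (.leaf 8261)))) (.node (.node (.node (.leaf 2446) (.leaf 5475)) (.node (.leaf 3140) (.leaf 7711))) (.node (.node (.leaf 5013) (.leaf 6641)) (.node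 (.leaf 4339) (.leaf 8872)))))) (.node (.node (.node (.node (.node (.leaf 318) (.leaf 4593)) (.node (.leaf 2543) (.leaf 7039))) (.node (.node (.leaf 3136) (.leaf 5959)) (.node (.leaf 3515) (.leaf 8137)))) (.node (.node (.node (.leaf 706) (.leaf 5369)) (.node (.leaf 5424) (.leaf 7570))) (.node (.node (.leaf 1779) (.leaf 6497)) (.node (.leaf 4014) (.leaf 8738))))) (.node (.node (.node (.node (.leaf 525) (.leaf 5437)) (.node (.leaf 2787) (.leaf 7298))) (.node (.node (.leaf 1517) (.leaf 6210)) (.node (.leaf 3802) (.leaf 8449)))) (.node (.node (.node (.leaf 939) (.leaf 5697)) (.node (.leaf 3277) (.leaf 7885))) (.node (.node (.leaf 2003) (.leaf 6944)) (.node (.leaf 4278) (.leaf 9051)))))))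
def dFin_4 : BT := .node (.node (.node (.node (.node (.node (.node (.leaf 163) (.leaf 4393)) (.node (.leaf 2109) (.leaf 6880))) (.node (.node (.leaf 1029) (.leaf 5790)) (.node (.leaf 3378) (.leaf 7946)))) (.node (.node (.node (.leaf 593) (.leaf 5249)) (.node (.leaf 2859) (.leaf 7378))) (.node (.node (.leaf 1584) (.leaf 6351)) (.node (.leaf 3890) (.leaf 8574))))) (.node (.node (.node (.node (.leaf 2404) (.leaf 7090)) (.node (.leaf 5127) (.leaf 7155))) (.node (.node (.leaf 1232) (.leaf 6063)) (.node (.leaf 3717) (.leaf 8231)))) (.node (.node (.node (.leaf 2078) (.leaf 5427)) (.node (.leaf 3108) (.leaf 7675))) (.node (.node (.leaf 3747) (.leaf 6596)) (.node (.leaf 4146) (.leaf 8835)))))) (.node (.node (.node (.node (.node (.leaf 120) (.leaf 4573)) (.node (.leaf 4584) (.leaf 7011))) (.node (.node (.leaf 1112) (.leaf 5923)) (.node (.leaf 3497) (.leaf 8104)))) (.node (.node (.node (.leaf 1875) (.leaf 5338)) (.node (.leaf 2941) (.leaf 7537))) (.node (.node (.leaf 3887) (.leaf 6465)) (.node (.leaf 3991) (.leaf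 8698))))) (.node (.node (.node (.node (.leaf 505) (.leaf 4890)) (.node (.leaf 5218) (.leaf 7265))) (.node (.node (.leaf 1482) (.leaf 6417)) (.node (.leaf 3795) (.leaf 8403)))) (.node (.node (.node (.leaf 915) (.leaf 5630)) (.node (.leaf 3240) (.leaf 7793))) (.node (.node (.leaf 1979) (.leaf 6747)) (.node (.leaf 5184) (.leaf 9005))))))) (.node (.node (.node (.node (.node (.node (.leaf 80) (.leaf 4469)) (.node (.leaf 2201) (.leaf 8343))) (.node (.node (.leaf 1059) (.leaf 5851)) (.node (.leaf 3451) (.leaf 8045)))) (.node (.node (.node (.leaf 927) (.leaf 5291)) (.node (.leaf 2896) (.leaf 7468))) (.node (.node (.leaf 1679) (.leaf 7125)) (.node (.leaf 3951) (.leaf 8764))))) (.node (.node (.node (.node (.leaf 455) (.leaf 4788)) (.node (.leaf 5139) (.leaf 7221))) (.node (.node (.leaf 3400) (.leaf 6129)) (.node (.leaf 3706) (.leaf 8315)))) (.node (.node (.node (.leaf 1340) (.leaf 5558)) (.node (.leaf 3182) (.leaf 7737))) (.node (.node (.leaf 1892) (.leaf 6663)) (.node (.leaf 4182) (.leaf 8919)))))) (.node (.node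 (.node (.node (.node (.leaf 346) (.leaf 4653)) (.node (.leaf 4666) (.leaf 7070))) (.node (.node (.leaf 5148) (.leaf 5985)) (.node (.leaf 3537) (.leaf 8173)))) (.node (.node (.node (.leaf 1958) (.leaf 5389)) (.node (.leaf 5499) (.leaf 7625))) (.node (.node (.leaf 3813) (.leaf 6537)) (.node (.leaf 4061) (.leaf 8881))))) (.node (.node (.node (.node (.leaf 541) (.leaf 5528)) (.node (.leaf 2806) (.leaf 8330))) (.node (.node (.leaf 1545) (.leaf 6353)) (.node (.leaf 3833) (.leaf 8523)))) (.node (.node (.node (.leaf 962) (.leaf 5737)) (.node (.leaf 3301) (.leaf 7858))) (.node (.node (.leaf 2030) (.leaf 6794)) (.leaf 4353))))))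
def dFin_5 : BT := .node dFin_3 dFin_4
def dFin_6 : BT := .node dFin_2 dFin_5
def dFin_7 : BT := .node (.node (.node (.node (.node (.node (.node (.leaf 8) (.leaf 4340)) (.node (.leaf 2061) (.leaf 6817))) (.node (.node (.leaf 2763) (.leaf 5730)) (.node (.leaf 3333) (.leaf 7902)))) (.node (.node (.node (.leaf 575) (.leaf 5210)) (.node (.leaf 2831) (.leaf 7352))) (.node (.node (.leaf 1579) (.leaf 6260)) (.node (.leaf 3847) (.leaf 8528))))) (.node (.node (.node (.node (.leaf 367) (.leaf 4670)) (.node (.leaf 2600) (.leaf 7095))) (.node (.node (.leaf 1391) (.leaf 6969)) (.node (.leaf 3570) (.leaf 8195)))) (.node (.node (.node (.leaf 755) (.leaf 5864)) (.node (.leaf 5461) (.leaf 7639))) (.node (.node (.leaf 2358) (.leaf 6557)) (.node (.leaf 4086) (.leaf 8795)))))) (.node (.node (.node (.node (.node (.leaf 440) (.leaf 4489)) (.node (.leaf 2487) (.leaf 6967))) (.node (.node (.leaf 2825) (.leaf 5885)) (.node (.leaf 5909) (.leaf 8037)))) (.node (.node (.node (.leaf 5083) (.leaf 5301)) (.node (.leaf 3259) (.leaf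 7485))) (.node (.node (.leaf 1704) (.leaf 6431)) (.node (.leaf 7413) (.leaf 8663))))) (.node (.node (.node (.node (.leaf 468) (.leaf 4877)) (.node (.leaf 2716) (.leaf 7517))) (.node (.node (.leaf 1453) (.leaf 6149)) (.node (.leaf 3735) (.leaf 8369)))) (.node (.node (.node (.leaf 858) (.leaf 5590)) (.node (.leaf 3199) (.leaf 7754))) (.node (.node (.leaf 1909) (.leaf 6844)) (.node (.leaf 5320) (.leaf 8976))))))) (.node (.node (.node (.node (.node (.node (.leaf 196) (.leaf 4415)) (.node (.leaf 2150) (.leaf 6901))) (.node (.node (.leaf 1179) (.leaf 5805)) (.node (.leaf 3419) (.leaf 7968)))) (.node (.node (.node (.leaf 614) (.leaf 5261)) (.node (.leaf 2891) (.leaf 7399))) (.node (.node (.leaf 1612) (.leaf 6343)) (.node (.leaf 3921) (.leaf 8614))))) (.node (.node (.node (.node (.leaf 425) (.leaf 4769)) (.node (.leaf 2654) (.leaf 7178))) (.node (.node (.leaf 1255) (.leaf 6082)) (.node (.leaf 3670) (.leaf 8253)))) (.node (.node (.node (.leaf 809) (.leaf 7418)) (.node (.leaf 3135) (.leaf 7707))) (.node (.node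 (.leaf 1861) (.leaf 6636)) (.node (.leaf 5190) (.leaf 8864)))))) (.node (.node (.node (.node (.node (.leaf 1311) (.leaf 4607)) (.node (.leaf 2528) (.leaf 7029))) (.node (.node (.leaf 1138) (.leaf 5949)) (.node (.leaf 3522) (.leaf 8127)))) (.node (.node (.node (.leaf 2407) (.leaf 5360)) (.node (.leaf 2980) (.leaf 7560))) (.node (.node (.leaf 2414) (.leaf 6489)) (.node (.leaf 4035) (.leaf 8719))))) (.node (.node (.node (.node (.leaf 1554) (.leaf 4915)) (.node (.leaf 2779) (.leaf 7593))) (.node (.node (.leaf 1509) (.leaf 6200)) (.node (.leaf 3782) (.leaf 8436)))) (.node (.node (.node (.leaf 931) (.leaf 7580)) (.node (.leaf 3269) (.leaf 7814))) (.node (.node (.leaf 1995) (.leaf 6750)) (.node (.leaf 4261) (.leaf 9032)))))))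
def dFin_8 : BT := .node (.node (.node (.node (.node (.node (.node (.leaf 118) (.leaf 4385)) (.node (.leaf 4400) (.leaf 6861))) (.node (.node (.leaf 1158) (.leaf 5779)) (.node (.leaf 3366) (.leaf 7975)))) (.node (.node (.node (.leaf 588) (.leaf 5241)) (.node (.leaf 2851) (.leaf 8325))) (.node (.node (.leaf 2539) (.leaf 6311)) (.node (.leaf 3878) (.leaf 8578))))) (.node (.node (.node (.node (.leaf 391) (.leaf 4708)) (.node (.leaf 3869) (.leaf 7171))) (.node (.node (.leaf 1214) (.leaf 6050)) (.node (.leaf 3646) (.leaf 8217)))) (.node (.node (.node (.leaf 780) (.leaf 5440)) (.node (.leaf 3096) (.leaf 7667))) (.node (.node (.leaf 1839) (.leaf 8063)) (.node (.leaf 4291) (.leaf 8827)))))) (.node (.node (.node (.node (.node (.leaf 582) (.leaf 6946)) (.node (.leaf 2494) (.leaf 7003))) (.node (.node (.leaf 2972) (.leaf 5915)) (.node (.leaf 3484) (.leaf 8074)))) (.node (.node (.node (.leaf 695) (.leaf 5326)) (.node (.leaf 3304) (.leaf 7525))) (.node (.node (.leaf 1734) (.leaf 6457)) (.node (.leaf 4865) (.leaf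 8685))))) (.node (.node (.node (.node (.leaf 497) (.leaf 4872)) (.node (.leaf 2751) (.leaf 8286))) (.node (.node (.leaf 1474) (.leaf 6156)) (.node (.leaf 3761) (.leaf 8394)))) (.node (.node (.node (.leaf 907) (.leaf 5632)) (.node (.leaf 3222) (.leaf 8138))) (.node (.node (.leaf 1971) (.leaf 6883)) (.node (.leaf 4227) (.leaf 8990))))))) (.node (.node (.node (.node (.node (.node (.leaf 72) (.leaf 4461)) (.node (.leaf 2194) (.leaf 6933))) (.node (.node (.leaf 4967) (.leaf 5843)) (.node (.leaf 7411) (.leaf 7998)))) (.node (.node (.node (.leaf 1694) (.leaf 5283)) (.node (.leaf 4221) (.leaf 7447))) (.node (.node (.leaf 1670) (.leaf 6376)) (.node (.leaf 3943) (.leaf 8975))))) (.node (.node (.node (.node (.leaf 447) (.leaf 5930)) (.node (.leaf 2693) (.leaf 8642))) (.node (.node (.leaf 1431) (.leaf 6190)) (.node (.leaf 6276) (.leaf 8333)))) (.node (.node (.node (.leaf 833) (.leaf 5542)) (.node (.leaf 3163) (.leaf 7730))) (.node (.node (.leaf 1880) (.leaf 6797)) (.node (.leaf 4398) (.leaf 8909)))))) (.node (.node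 (.node (.node (.node (.leaf 339) (.leaf 4719)) (.node (.leaf 2574) (.leaf 7054))) (.node (.node (.leaf 3238) (.leaf 6011)) (.node (.leaf 6078) (.leaf 8165)))) (.node (.node (.node (.leaf 1333) (.leaf 6753)) (.node (.leaf 3026) (.leaf 7617))) (.node (.node (.leaf 1782) (.leaf 6529)) (.node (.leaf 4048) (.leaf 8757))))) (.node (.node (.node (.node (.leaf 867) (.leaf 4941)) (.node (.leaf 2798) (.leaf 7324))) (.node (.node (.leaf 1537) (.leaf 7081)) (.node (.leaf 3825) (.leaf 8480)))) (.node (.node (.node (.leaf 953) (.leaf 5695)) (.node (.leaf 3293) (.leaf 7848))) (.node (.node (.leaf 2018) (.leaf 6782)) (.leaf 4305))))))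
def dFin_9 : BT := .node dFin_7 dFin_8
def dFin_10 : BT := .node (.node (.node (.node (.node (.node (.node (.leaf 211) (.leaf 4364)) (.node (.leaf 3089) (.leaf 8334))) (.node (.node (.leaf 1019) (.leaf 7605)) (.node (.leaf 5866) (.leaf 7917)))) (.node (.node (.node (.leaf 568) (.leaf 5553)) (.node (.leaf 3168) (.leaf 7355))) (.node (.node (.leaf 1575) (.leaf 6292)) (.node (.leaf 3897) (.leaf 8553))))) (.node (.node (.node (.node (.leaf 918) (.leaf 4689)) (.node (.leaf 2611) (.leaf 7126))) (.node (.node (.leaf 2326) (.leaf 6026)) (.node (.leaf 3583) (.leaf 8293)))) (.node (.node (.node (.leaf 789) (.leaf 5414)) (.node (.leaf 3058) (.leaf 7664))) (.node (.node (.leaf 3982) (.leaf 6571)) (.node (.leaf 4097) (.leaf 8851)))))) (.node (.node (.node (.node (.node (.leaf 189) (.leaf 4514)) (.node (.leaf 2472) (.leaf 6986))) (.node (.node (.leaf 1091) (.leaf 5904)) (.node (.leaf 3479) (.leaf 8095)))) (.node (.node (.node (.leaf 663) (.leaf 5715)) (.node (.leaf 2929) (.leaf 7514))) (.node (.node (.leaf 1717)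 (.leaf 6446)) (.node (.leaf 3981) (.leaf 8817))))) (.node (.node (.node (.node (.leaf 1130) (.leaf 4850)) (.node (.leaf 3013) (.leaf 7253))) (.node (.node (.leaf 1487) (.leaf 6134)) (.node (.leaf 6381) (.leaf 8371)))) (.node (.node (.node (.leaf 1367) (.leaf 5597)) (.node (.leaf 3233) (.leaf 7777))) (.node (.node (.leaf 2082) (.leaf 6705)) (.node (.leaf 5001) (.leaf 8970))))))) (.node (.node (.node (.node (.node (.node (.leaf 276) (.leaf 4448)) (.node (.leaf 2156) (.leaf 6916))) (.node (.node (.leaf 1053) (.leaf 5824)) (.node (.leaf 3435) (.leaf 8004)))) (.node (.node (.node (.leaf 627) (.leaf 5662)) (.node (.leaf 2887) (.leaf 7432))) (.node (.node (.leaf 1625) (.leaf 6393)) (.node (.leaf 6550) (.leaf 8623))))) (.node (.node (.node (.node (.leaf 1000) (.leaf 4748)) (.node (.leaf 2678) (.leaf 7193))) (.node (.node (.leaf 1416) (.leaf 6095)) (.node (.leaf 3677) (.leaf 8270)))) (.node (.node (.node (.leaf 816) (.leaf 5490)) (.node (.leaf 5666) (.leaf 7719))) (.node (.node (.leaf 4021) (.leaf 6649)) (.node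 (.leaf 4156) (.leaf 8937)))))) (.node (.node (.node (.node (.node (.leaf 413) (.leaf 4609)) (.node (.leaf 2531) (.leaf 7782))) (.node (.node (.leaf 1145) (.leaf 6471)) (.node (.leaf 3529) (.leaf 8146)))) (.node (.node (.node (.leaf 2409) (.leaf 5377)) (.node (.leaf 2993) (.leaf 7590))) (.node (.node (.leaf 1758) (.leaf 6518)) (.node (.leaf 4024) (.leaf 8736))))) (.node (.node (.node (.node (.leaf 1357) (.leaf 4945)) (.node (.leaf 2813) (.leaf 7309))) (.node (.node (.leaf 2866) (.leaf 6199)) (.node (.leaf 3810) (.leaf 8457)))) (.node (.node (.node (.leaf 2431) (.leaf 5711)) (.node (.leaf 5153) (.leaf 7825))) (.node (.node (.leaf 4238) (.leaf 6759)) (.node (.leaf 4288) (.leaf 9061)))))))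
def dFin_11 : BT := .node (.node (.node (.node (.node (.node (.node (.leaf 227) (.leaf 4410)) (.node (.leaf 2117) (.leaf 6899))) (.node (.node (.leaf 1037) (.leaf 7654)) (.node (.leaf 5537) (.leaf 7949)))) (.node (.node (.node (.leaf 601) (.leaf 5252)) (.node (.leaf 5348) (.leaf 7385))) (.node (.node (.leaf 1592) (.leaf 6334)) (.node (.leaf 3904) (.leaf 8589))))) (.node (.node (.node (.node (.leaf 2392) (.leaf 4729)) (.node (.leaf 2635) (.leaf 7163))) (.node (.node (.leaf 1240) (.leaf 6071)) (.node (.leaf 3651) (.leaf 8420)))) (.node (.node (.node (.leaf 796) (.leaf 5451)) (.node (.leaf 3119) (.leaf 8465))) (.node (.node (.leaf 2715) (.leaf 6604)) (.node (.leaf 4133) (.leaf 8885)))))) (.node (.node (.node (.node (.node (.leaf 656) (.leaf 4581)) (.node (.leaf 2511) (.leaf 7026))) (.node (.node (.leaf 1117) (.leaf 7492)) (.node (.leaf 3505) (.leaf 8106)))) (.node (.node (.node (.leaf 680) (.leaf 6743)) (.node (.leaf 2949) (.leaf 8424))) (.node (.node (.leaf 1739) (.leaf 6478)) (.node (.leaf 4005) (.leaf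 9045))))) (.node (.node (.node (.node (.leaf 1492) (.leaf 5967)) (.node (.leaf 5250) (.leaf 7274))) (.node (.node (.leaf 1494) (.leaf 6169)) (.node (.leaf 6249) (.leaf 8411)))) (.node (.node (.node (.leaf 924) (.leaf 5641)) (.node (.leaf 5761) (.leaf 7801))) (.node (.node (.leaf 2124) (.leaf 6725)) (.node (.leaf 4246) (.leaf 9013))))))) (.node (.node (.node (.node (.node (.node (.leaf 253) (.leaf 6785)) (.node (.leaf 2209) (.leaf 6958))) (.node (.node (.leaf 1070) (.leaf 7686)) (.node (.leaf 3459) (.leaf 8020)))) (.node (.node (.node (.leaf 647) (.leaf 5705)) (.node (.leaf 2904) (.leaf 8732))) (.node (.node (.leaf 1687) (.leaf 6406)) (.node (.leaf 5111) (.leaf 8655))))) (.node (.node (.node (.node (.leaf 485) (.leaf 4781)) (.node (.leaf 4859) (.leaf 7231))) (.node (.node (.leaf 3460) (.leaf 6117)) (.node (.leaf 6316) (.leaf 8323)))) (.node (.node (.node (.leaf 2467) (.leaf 5569)) (.node (.leaf 5037) (.leaf 7747))) (.node (.node (.leaf 1896) (.leaf 6673)) (.node (.leaf 4189) (.leaf 8928)))))) (.node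 (.node (.node (.node (.node (.leaf 350) (.leaf 4661)) (.node (.leaf 2581) (.leaf 7096))) (.node (.node (.leaf 1195) (.leaf 5997)) (.node (.leaf 3548) (.leaf 8188)))) (.node (.node (.node (.leaf 740) (.leaf 5397)) (.node (.leaf 3031) (.leaf 7632))) (.node (.node (.leaf 1795) (.leaf 6546)) (.node (.leaf 4069) (.leaf 8780))))) (.node (.node (.node (.node (.leaf 553) (.leaf 5493)) (.node (.leaf 5225) (.leaf 7331))) (.node (.node (.leaf 3564) (.leaf 6235)) (.node (.leaf 3865) (.leaf 8501)))) (.node (.node (.node (.leaf 1346) (.leaf 6895)) (.node (.leaf 3330) (.leaf 7865))) (.node (.node (.leaf 2054) (.leaf 6781)) (.leaf 4357))))))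
def dFin_12 : BT := .node dFin_10 dFin_11
def dFin_13 : BT := .node dFin_9 dFin_12
def dFin_14 : BT := .node dFin_6 dFin_13
def dFin_15 : BT := .node (.node (.node (.node (.node (.node (.node (.leaf 4) (.leaf 4332)) (.node (.leaf 4311) (.leaf 6811))) (.node (.node (.leaf 1132) (.leaf 5726)) (.node (.leaf 3327) (.leaf 7880)))) (.node (.node (.node (.leaf 5006) (.leaf 5202)) (.node (.leaf 4153) (.leaf 7343))) (.node (.node (.leaf 1566) (.leaf 6256)) (.node (.leaf 3841) (.leaf 8995))))) (.node (.node (.node (.node (.leaf 363) (.leaf 4676)) (.node (.leaf 2593) (.leaf 7129))) (.node (.node (.leaf 1189) (.leaf 6033)) (.node (.leaf 5351) (.leaf 8191)))) (.node (.node (.node (.leaf 751) (.leaf 5860)) (.node (.leaf 4351) (.leaf 7652))) (.node (.node (.leaf 1807) (.leaf 6589)) (.node (.leaf 5172) (.leaf 8789)))))) (.node (.node (.node (.node (.node (.leaf 1327) (.leaf 4517)) (.node (.leaf 2485) (.leaf 6957))) (.node (.node (.leaf 1231) (.leaf 5881)) (.node (.leaf 5938) (.leaf 8033)))) (.node (.node (.node (.leaf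 1890) (.leaf 5325)) (.node (.leaf 2914) (.leaf 7481))) (.node (.node (.leaf 1702) (.leaf 6427)) (.node (.leaf 3964) (.leaf 8659))))) (.node (.node (.node (.node (.leaf 1164) (.leaf 4799)) (.node (.leaf 2708) (.leaf 7511))) (.node (.node (.leaf 1443) (.leaf 6147)) (.node (.leaf 3731) (.leaf 8352)))) (.node (.node (.node (.leaf 854) (.leaf 5581)) (.node (.leaf 3195) (.leaf 7762))) (.node (.node (.leaf 1905) (.leaf 6863)) (.node (.leaf 4201) (.leaf 8983))))))) (.node (.node (.node (.node (.node (.node (.leaf 255) (.leaf 4403)) (.node (.leaf 2163) (.leaf 6893))) (.node (.node (.leaf 2775) (.leaf 5801)) (.node (.leaf 3412) (.leaf 7963)))) (.node (.node (.node (.leaf 1407) (.leaf 5257)) (.node (.leaf 3193) (.leaf 7395))) (.node (.node (.leaf 1608) (.leaf 6333)) (.node (.leaf 3916) (.leaf 8603))))) (.node (.node (.node (.node (.leaf 421) (.leaf 4767)) (.node (.leaf 2650) (.leaf 8610))) (.node (.node (.leaf 1251) (.leaf 7810)) (.node (.leaf 3663) (.leaf 8250)))) (.node (.node (.node (.leaf 805) (.leaf 5531))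 (.node (.leaf 3131) (.leaf 7698))) (.node (.node (.leaf 1857) (.leaf 6628)) (.node (.leaf 4949) (.leaf 8882)))))) (.node (.node (.node (.node (.node (.leaf 192) (.leaf 4594)) (.node (.leaf 4407) (.leaf 7021))) (.node (.node (.leaf 1392) (.leaf 7729)) (.node (.leaf 3518) (.leaf 8123)))) (.node (.node (.node (.leaf 692) (.leaf 7297)) (.node (.leaf 2974) (.leaf 7552))) (.node (.node (.leaf 2659) (.leaf 6511)) (.node (.leaf 4037) (.leaf 8715))))) (.node (.node (.node (.node (.leaf 516) (.leaf 4911)) (.node (.leaf 2771) (.leaf 7292))) (.node (.node (.leaf 2461) (.leaf 6181)) (.node (.leaf 3778) (.leaf 9020)))) (.node (.node (.node (.leaf 928) (.leaf 5653)) (.node (.leaf 3265) (.leaf 7832))) (.node (.node (.leaf 1991) (.leaf 6744)) (.node (.leaf 4257) (.leaf 9026)))))))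
def dFin_16 : BT := .node (.node (.node (.node (.node (.node (.node (.leaf 100) (.leaf 4381)) (.node (.leaf 2096) (.leaf 6857))) (.node (.node (.leaf 1022) (.leaf 5775)) (.node (.leaf 3361) (.leaf 7931)))) (.node (.node (.node (.leaf 1499) (.leaf 5237)) (.node (.leaf 4185) (.leaf 7367))) (.node (.node (.leaf 3547) (.leaf 6307)) (.node (.leaf 3874) (.leaf 8566))))) (.node (.node (.node (.node (.leaf 387) (.leaf 4706)) (.node (.leaf 2623) (.leaf 7142))) (.node (.node (.leaf 1210) (.leaf 6046)) (.node (.leaf 3595) (.leaf 8210)))) (.node (.node (.node (.leaf 776) (.leaf 5434)) (.node (.leaf 3076) (.leaf 8445))) (.node (.node (.leaf 1835) (.leaf 7970)) (.node (.leaf 4145) (.leaf 8821)))))) (.node (.node (.node (.node (.node (.leaf 305) (.leaf 4552)) (.node (.leaf 2496) (.leaf 6999))) (.node (.node (.leaf 2300) (.leaf 5928)) (.node (.leaf 3492) (.leaf 8070)))) (.node (.node (.node (.leaf 1352) (.leaf 6735)) (.node (.leaf 5180) (.leaf 7513))) (.node (.node (.leaf 1730) (.leaf 6453)) (.node (.leaf 3992) (.leaf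 8681))))) (.node (.node (.node (.node (.leaf 1408) (.leaf 4868)) (.node (.leaf 2747) (.leaf 8328))) (.node (.node (.leaf 1468) (.leaf 7043)) (.node (.leaf 3757) (.leaf 8423)))) (.node (.node (.node (.leaf 2434) (.leaf 5609)) (.node (.leaf 3216) (.leaf 7937))) (.node (.node (.leaf 1967) (.leaf 6877)) (.node (.leaf 4223) (.leaf 9043))))))) (.node (.node (.node (.node (.node (.node (.leaf 400) (.leaf 5522)) (.node (.leaf 2190) (.leaf 6929))) (.node (.node (.leaf 2226) (.leaf 5839)) (.node (.leaf 3442) (.leaf 7994)))) (.node (.node (.node (.leaf 640) (.leaf 5279)) (.node (.leaf 5335) (.leaf 7443))) (.node (.node (.leaf 1676) (.leaf 6368)) (.node (.leaf 6483) (.leaf 8637))))) (.node (.node (.node (.node (.leaf 443) (.leaf 4762)) (.node (.leaf 2689) (.leaf 7496))) (.node (.node (.leaf 1427) (.leaf 6187)) (.node (.leaf 3689) (.leaf 8302)))) (.node (.node (.node (.leaf 829) (.leaf 5534)) (.node (.leaf 3159) (.leaf 7722))) (.node (.node (.leaf 1876) (.leaf 6791)) (.node (.leaf 4170) (.leaf 8904)))))) (.node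 (.node (.node (.node (.node (.leaf 335) (.leaf 4640)) (.node (.leaf 5052) (.leaf 7049))) (.node (.node (.leaf 1157) (.leaf 5986)) (.node (.leaf 3563) (.leaf 8159)))) (.node (.node (.node (.leaf 723) (.leaf 7346)) (.node (.leaf 3020) (.leaf 7613))) (.node (.node (.leaf 1772) (.leaf 6526)) (.node (.leaf 6285) (.leaf 8751))))) (.node (.node (.node (.node (.leaf 542) (.leaf 4935)) (.node (.leaf 2792) (.leaf 7321))) (.node (.node (.leaf 2501) (.leaf 6225)) (.node (.leaf 3821) (.leaf 8484)))) (.node (.node (.node (.leaf 977) (.leaf 5691)) (.node (.leaf 3289) (.leaf 8812))) (.node (.node (.leaf 2011) (.leaf 6771)) (.leaf 4301))))))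
def dFin_17 : BT := .node dFin_15 dFin_16
def dFin_18 : BT := .node (.node (.node (.node (.node (.node (.node (.leaf 287) (.leaf 4368)) (.node (.leaf 2073) (.leaf 6826))) (.node (.node (.leaf 1015) (.leaf 5754)) (.node (.leaf 3356) (.leaf 7939)))) (.node (.node (.node (.leaf 564) (.leaf 5545)) (.node (.leaf 2843) (.leaf 8305))) (.node (.node (.leaf 1571) (.leaf 6286)) (.node (.leaf 3895) (.leaf 8547))))) (.node (.node (.node (.node (.leaf 894) (.leaf 4685)) (.node (.leaf 2598) (.leaf 7121))) (.node (.node (.leaf 1219) (.leaf 6022)) (.node (.leaf 3579) (.leaf 8605)))) (.node (.node (.node (.leaf 2086) (.leaf 5410)) (.node (.leaf 3051) (.leaf 7651))) (.node (.node (.leaf 1816) (.leaf 6567)) (.node (.leaf 4093) (.leaf 8847)))))) (.node (.node (.node (.node (.node (.leaf 353) (.leaf 4509)) (.node (.leaf 2468) (.leaf 6990))) (.node (.node (.leaf 1087) (.leaf 6545)) (.node (.leaf 3475) (.leaf 8093)))) (.node (.node (.node (.leaf 679) (.leaf 5317)) (.node (.leaf 2925) (.leaf 7508))) (.node (.node (.leaf 1713)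 (.leaf 7944)) (.node (.leaf 3977) (.leaf 8804))))) (.node (.node (.node (.node (.leaf 1295) (.leaf 4862)) (.node (.leaf 3015) (.leaf 7245))) (.node (.node (.leaf 3057) (.leaf 6130)) (.node (.leaf 3750) (.leaf 8363)))) (.node (.node (.node (.leaf 2262) (.leaf 5617)) (.node (.leaf 3235) (.leaf 7771))) (.node (.node (.leaf 4124) (.leaf 6701)) (.node (.leaf 4421) (.leaf 8966))))))) (.node (.node (.node (.node (.node (.node (.leaf 165) (.leaf 5065)) (.node (.leaf 2148) (.leaf 6914))) (.node (.node (.leaf 1049) (.leaf 5820)) (.node (.leaf 3431) (.leaf 8842)))) (.node (.node (.node (.leaf 623) (.leaf 5276)) (.node (.leaf 2883) (.leaf 8690))) (.node (.node (.leaf 1621) (.leaf 6391)) (.node (.leaf 3933) (.leaf 8620))))) (.node (.node (.node (.node (.leaf 459) (.leaf 4742)) (.node (.leaf 2670) (.leaf 7189))) (.node (.node (.leaf 1420) (.leaf 6091)) (.node (.leaf 3696) (.leaf 8265)))) (.node (.node (.node (.leaf 818) (.leaf 5482)) (.node (.leaf 5626) (.leaf 7715))) (.node (.node (.leaf 2423) (.leaf 6645)) (.node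 (.leaf 4151) (.leaf 8876)))))) (.node (.node (.node (.node (.node (.leaf 320) (.leaf 4601)) (.node (.leaf 2525) (.leaf 7044))) (.node (.node (.leaf 2099) (.leaf 5963)) (.node (.leaf 3521) (.leaf 8144)))) (.node (.node (.node (.leaf 710) (.leaf 5373)) (.node (.leaf 2989) (.leaf 7582))) (.node (.node (.leaf 1753) (.leaf 6501)) (.node (.leaf 4018) (.leaf 8742))))) (.node (.node (.node (.node (.leaf 529) (.leaf 5443)) (.node (.leaf 2811) (.leaf 7305))) (.node (.node (.leaf 1521) (.leaf 6229)) (.node (.leaf 3806) (.leaf 8453)))) (.node (.node (.node (.leaf 943) (.leaf 7523)) (.node (.leaf 3280) (.leaf 7821))) (.node (.node (.leaf 4973) (.leaf 7207)) (.node (.leaf 4284) (.leaf 9057)))))))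
def dFin_19 : BT := .node (.node (.node (.node (.node (.node (.node (.leaf 246) (.leaf 4404)) (.node (.leaf 2113) (.leaf 6886))) (.node (.node (.leaf 1033) (.leaf 7458)) (.node (.leaf 3382) (.leaf 8903)))) (.node (.node (.node (.leaf 597) (.leaf 5612)) (.node (.leaf 2863) (.leaf 7380))) (.node (.node (.leaf 1588) (.leaf 6354)) (.node (.leaf 4801) (.leaf 8593))))) (.node (.node (.node (.node (.leaf 2332) (.leaf 4725)) (.node (.leaf 2665) (.leaf 7159))) (.node (.node (.leaf 3255) (.leaf 6067)) (.node (.leaf 6102) (.leaf 8235)))) (.node (.node (.node (.leaf 792) (.leaf 5439)) (.node (.leaf 5561) (.leaf 7679))) (.node (.node (.leaf 1850) (.leaf 6600)) (.node (.leaf 4129) (.leaf 8840)))))) (.node (.node (.node (.node (.node (.leaf 275) (.leaf 4577)) (.node (.leaf 2507) (.leaf 7022))) (.node (.node (.leaf 3016) (.leaf 5927)) (.node (.leaf 3501) (.leaf 8098)))) (.node (.node (.node (.leaf 2399) (.leaf 5342)) (.node (.leaf 2945) (.leaf 8470))) (.node (.node (.leaf 1729) (.leaf 6472)) (.node (.leaf 4001) (.leaf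 8694))))) (.node (.node (.node (.node (.leaf 509) (.leaf 7168)) (.node (.leaf 5178) (.leaf 7270))) (.node (.node (.leaf 2449) (.leaf 6182)) (.node (.leaf 6189) (.leaf 8407)))) (.node (.node (.node (.leaf 1342) (.leaf 6839)) (.node (.leaf 3248) (.leaf 7797))) (.node (.node (.leaf 1984) (.leaf 6719)) (.node (.leaf 4480) (.leaf 9009))))))) (.node (.node (.node (.node (.node (.node (.leaf 325) (.leaf 4473)) (.node (.leaf 2205) (.leaf 6954))) (.node (.node (.leaf 1066) (.leaf 5870)) (.node (.leaf 3455) (.leaf 8945)))) (.node (.node (.node (.leaf 643) (.leaf 7290)) (.node (.leaf 2900) (.leaf 7464))) (.node (.node (.leaf 1683) (.leaf 6402)) (.node (.leaf 3955) (.leaf 8644))))) (.node (.node (.node (.node (.leaf 1082) (.leaf 4774)) (.node (.leaf 4888) (.leaf 7227))) (.node (.node (.leaf 3436) (.leaf 6109)) (.node (.leaf 3714) (.leaf 8319)))) (.node (.node (.node (.leaf 2017) (.leaf 5565)) (.node (.leaf 5685) (.leaf 7743))) (.node (.node (.leaf 3809) (.leaf 6669)) (.node (.leaf 4186) (.leaf 8923)))))) (.node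 (.node (.node (.node (.node (.leaf 814) (.leaf 4657)) (.node (.leaf 3815) (.leaf 7076))) (.node (.node (.leaf 1182) (.leaf 5993)) (.node (.leaf 3542) (.leaf 8184)))) (.node (.node (.node (.leaf 763) (.leaf 5393)) (.node (.leaf 3019) (.leaf 7629))) (.node (.node (.leaf 3915) (.leaf 6541)) (.node (.leaf 4065) (.leaf 8778))))) (.node (.node (.node (.node (.leaf 549) (.leaf 7172)) (.node (.leaf 2814) (.leaf 7344))) (.node (.node (.leaf 1549) (.leaf 6269)) (.node (.leaf 3863) (.leaf 8497)))) (.node (.node (.node (.leaf 970) (.leaf 5739)) (.node (.leaf 5431) (.leaf 7861))) (.node (.node (.leaf 2034) (.leaf 6814)) (.leaf 4355))))))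
def dFin_20 : BT := .node dFin_18 dFin_19
def dFin_21 : BT := .node dFin_17 dFin_20
def dFin_22 : BT := .node (.node (.node (.node (.node (.node (.node (.leaf 12) (.leaf 4344)) (.node (.leaf 2065) (.leaf 6832))) (.node (.node (.leaf 1007) (.leaf 6905)) (.node (.leaf 3341) (.leaf 7904)))) (.node (.node (.node (.leaf 555) (.leaf 5214)) (.node (.leaf 2835) (.leaf 8666))) (.node (.node (.leaf 1559) (.leaf 6278)) (.node (.leaf 3855) (.leaf 8532))))) (.node (.node (.node (.node (.leaf 1307) (.leaf 4697)) (.node (.leaf 2608) (.leaf 7103))) (.node (.node (.leaf 1217) (.leaf 6012)) (.node (.leaf 3574) (.leaf 8201)))) (.node (.node (.node (.leaf 2325) (.leaf 5520)) (.node (.leaf 3093) (.leaf 7643))) (.node (.node (.leaf 3510) (.leaf 6559)) (.node (.leaf 6656) (.leaf 8799)))))) (.node (.node (.node (.node (.node (.leaf 486) (.leaf 4495)) (.node (.leaf 4505) (.leaf 6975))) (.node (.node (.leaf 1239) (.leaf 5889)) (.node (.leaf 3467) (.leaf 8042)))) (.node (.node (.node (.leaf 4842) (.leaf 5309)) (.node (.leaf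 4998) (.leaf 7489))) (.node (.node (.leaf 1706) (.leaf 6435)) (.node (.leaf 3969) (.leaf 8806))))) (.node (.node (.node (.node (.leaf 472) (.leaf 7057)) (.node (.leaf 2720) (.leaf 7301))) (.node (.node (.leaf 1459) (.leaf 6151)) (.node (.leaf 3740) (.leaf 8339)))) (.node (.node (.node (.leaf 862) (.leaf 5584)) (.node (.leaf 4990) (.leaf 7773))) (.node (.node (.leaf 1913) (.leaf 6690)) (.node (.leaf 6748) (.leaf 8958))))))) (.node (.node (.node (.node (.node (.node (.leaf 198) (.leaf 4423)) (.node (.leaf 2134) (.leaf 6906))) (.node (.node (.leaf 2029) (.leaf 5809)) (.node (.leaf 3423) (.leaf 8007)))) (.node (.node (.node (.leaf 618) (.leaf 5265)) (.node (.leaf 2875) (.leaf 7424))) (.node (.node (.leaf 5029) (.leaf 6347)) (.node (.leaf 3925) (.leaf 8616))))) (.node (.node (.node (.node (.leaf 429) (.leaf 4771)) (.node (.leaf 2672) (.leaf 7181))) (.node (.node (.leaf 1336) (.leaf 6993)) (.node (.leaf 3674) (.leaf 8257)))) (.node (.node (.node (.leaf 813) (.leaf 5513)) (.node (.leaf 3144) (.leaf 7705)))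 (.node (.node (.leaf 2725) (.leaf 6654)) (.node (.leaf 6576) (.leaf 8868)))))) (.node (.node (.node (.node (.node (.leaf 316) (.leaf 4587)) (.node (.leaf 4597) (.leaf 7035))) (.node (.node (.leaf 1405) (.leaf 5953)) (.node (.leaf 5045) (.leaf 8131)))) (.node (.node (.node (.leaf 1605) (.leaf 5365)) (.node (.leaf 2984) (.leaf 7566))) (.node (.node (.leaf 2433) (.leaf 6493)) (.node (.leaf 4009) (.leaf 8723))))) (.node (.node (.node (.node (.leaf 521) (.leaf 4926)) (.node (.leaf 2783) (.leaf 7601))) (.node (.node (.leaf 1513) (.leaf 6204)) (.node (.leaf 3786) (.leaf 8446)))) (.node (.node (.node (.leaf 935) (.leaf 5699)) (.node (.leaf 3273) (.leaf 7942))) (.node (.node (.leaf 1999) (.leaf 6942)) (.node (.leaf 4266) (.leaf 9053)))))))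
def dFin_23 : BT := .node (.node (.node (.node (.node (.node (.node (.leaf 205) (.leaf 4389)) (.node (.leaf 2105) (.leaf 6874))) (.node (.node (.leaf 2868) (.leaf 5783)) (.node (.leaf 3370) (.leaf 7979)))) (.node (.node (.node (.leaf 2293) (.leaf 5245)) (.node (.leaf 2855) (.leaf 7374))) (.node (.node (.leaf 1580) (.leaf 6315)) (.node (.leaf 3882) (.leaf 8572))))) (.node (.node (.node (.node (.leaf 395) (.leaf 4716)) (.node (.leaf 5105) (.leaf 7151))) (.node (.node (.leaf 2236) (.leaf 6058)) (.node (.leaf 3638) (.leaf 8221)))) (.node (.node (.node (.leaf 1370) (.leaf 5465)) (.node (.leaf 3100) (.leaf 7671))) (.node (.node (.leaf 1844) (.leaf 6592)) (.node (.leaf 4292) (.leaf 8831)))))) (.node (.node (.node (.node (.node (.leaf 532) (.leaf 4569)) (.node (.leaf 4550) (.leaf 7007))) (.node (.node (.leaf 1399) (.leaf 5919)) (.node (.leaf 5972) (.leaf 8078)))) (.node (.node (.node (.leaf 1761) (.leaf 5332)) (.node (.leaf 4245) (.leaf 7529))) (.node (.node (.leaf 3753) (.leaf 6461)) (.node (.leaf 3985) (.leaf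 9017))))) (.node (.node (.node (.node (.leaf 501) (.leaf 5161)) (.node (.leaf 2755) (.leaf 7289))) (.node (.node (.leaf 1478) (.leaf 6160)) (.node (.leaf 4765) (.leaf 8429)))) (.node (.node (.node (.leaf 911) (.leaf 5636)) (.node (.leaf 3226) (.leaf 8489))) (.node (.node (.leaf 1975) (.leaf 6726)) (.node (.leaf 4242) (.leaf 8999))))))) (.node (.node (.node (.node (.node (.node (.leaf 76) (.leaf 4465)) (.node (.leaf 4484) (.leaf 6937))) (.node (.node (.leaf 1209) (.leaf 5847)) (.node (.leaf 3447) (.leaf 8053)))) (.node (.node (.node (.leaf 636) (.leaf 5287)) (.node (.leaf 2892) (.leaf 8083))) (.node (.node (.leaf 3698) (.leaf 6384)) (.node (.leaf 3947) (.leaf 8768))))) (.node (.node (.node (.node (.leaf 451) (.leaf 5898)) (.node (.leaf 4041) (.leaf 7225))) (.node (.node (.leaf 1435) (.leaf 6337)) (.node (.leaf 3704) (.leaf 8311)))) (.node (.node (.node (.leaf 837) (.leaf 5550)) (.node (.leaf 3176) (.leaf 7733))) (.node (.node (.leaf 1884) (.leaf 6682)) (.node (.leaf 4376) (.leaf 8915)))))) (.node (.node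 (.node (.node (.node (.leaf 2353) (.leaf 7016)) (.node (.leaf 4638) (.leaf 7060))) (.node (.node (.leaf 3278) (.leaf 5977)) (.node (.leaf 6021) (.leaf 8169)))) (.node (.node (.node (.leaf 759) (.leaf 5385)) (.node (.leaf 3032) (.leaf 7621))) (.node (.node (.leaf 1786) (.leaf 6533)) (.node (.leaf 4054) (.leaf 8761))))) (.node (.node (.node (.node (.leaf 537) (.leaf 4946)) (.node (.leaf 2802) (.leaf 8291))) (.node (.node (.leaf 1541) (.leaf 6271)) (.node (.leaf 3829) (.leaf 8486)))) (.node (.node (.node (.leaf 958) (.leaf 5735)) (.node (.leaf 3297) (.leaf 7852))) (.node (.node (.leaf 2022) (.leaf 6788)) (.leaf 4309))))))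
def dFin_24 : BT := .node dFin_22 dFin_23
def dFin_25 : BT := .node (.node (.node (.node (.node (.node (.node (.leaf 299) (.leaf 6824)) (.node (.leaf 2094) (.leaf 6849))) (.node (.node (.leaf 2818) (.leaf 5766)) (.node (.leaf 5900) (.leaf 7921)))) (.node (.node (.node (.leaf 1381) (.leaf 5226)) (.node (.leaf 3164) (.leaf 7359))) (.node (.node (.leaf 3209) (.leaf 6299)) (.node (.leaf 6371) (.leaf 8557))))) (.node (.node (.node (.node (.leaf 380) (.leaf 4693)) (.node (.leaf 2615) (.leaf 7140))) (.node (.node (.leaf 1196) (.leaf 6981)) (.node (.leaf 3587) (.leaf 8289)))) (.node (.node (.node (.leaf 2305) (.leaf 5418)) (.node (.leaf 3066) (.leaf 8774))) (.node (.node (.leaf 1827) (.leaf 6579)) (.node (.leaf 4101) (.leaf 8855)))))) (.node (.node (.node (.node (.node (.leaf 290) (.leaf 4556)) (.node (.leaf 2476) (.leaf 8524))) (.node (.node (.leaf 1095) (.leaf 5902)) (.node (.leaf 5108) (.leaf 8084)))) (.node (.node (.node (.leaf 667) (.leaf 5719)) (.node (.leaf 2933) (.leaf 7609))) (.node (.node (.leaf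 1721) (.leaf 6450)) (.node (.leaf 3986) (.leaf 8671))))) (.node (.node (.node (.node (.leaf 488) (.leaf 4854)) (.node (.leaf 2760) (.leaf 7257))) (.node (.node (.leaf 1489) (.leaf 6138)) (.node (.leaf 3739) (.leaf 8376)))) (.node (.node (.node (.leaf 898) (.leaf 5601)) (.node (.leaf 3203) (.leaf 7781))) (.node (.node (.leaf 2076) (.leaf 6709)) (.node (.leaf 4213) (.leaf 9047))))))) (.node (.node (.node (.node (.node (.node (.leaf 212) (.leaf 5157)) (.node (.leaf 2450) (.leaf 7208))) (.node (.node (.leaf 1057) (.leaf 5828)) (.node (.leaf 3438) (.leaf 7986)))) (.node (.node (.node (.leaf 631) (.leaf 5664)) (.node (.leaf 2909) (.leaf 7435))) (.node (.node (.leaf 1629) (.leaf 6378)) (.node (.leaf 5077) (.leaf 8627))))) (.node (.node (.node (.node (.leaf 463) (.leaf 4754)) (.node (.leaf 2681) (.leaf 8041))) (.node (.node (.leaf 1410) (.leaf 6099)) (.node (.leaf 3681) (.leaf 8300)))) (.node (.node (.node (.leaf 820) (.leaf 5500)) (.node (.leaf 3151) (.leaf 8724))) (.node (.node (.leaf 1865) (.leaf 6653))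 (.node (.leaf 4162) (.leaf 8896)))))) (.node (.node (.node (.node (.node (.leaf 327) (.leaf 5063)) (.node (.leaf 2537) (.leaf 7089))) (.node (.node (.leaf 1149) (.leaf 5999)) (.node (.leaf 3533) (.leaf 8152)))) (.node (.node (.node (.leaf 715) (.leaf 7370)) (.node (.leaf 2997) (.leaf 7598))) (.node (.node (.leaf 1764) (.leaf 8140)) (.node (.leaf 4028) (.leaf 9039))))) (.node (.node (.node (.node (.leaf 1045) (.leaf 4925)) (.node (.leaf 3065) (.leaf 7313))) (.node (.node (.leaf 1534) (.leaf 6209)) (.node (.leaf 6421) (.leaf 8461)))) (.node (.node (.node (.leaf 5113) (.leaf 5675)) (.node (.leaf 3284) (.leaf 7829))) (.node (.node (.leaf 5143) (.leaf 6763)) (.node (.leaf 6776) (.leaf 9065)))))))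
def dFin_26 : BT := .node (.node (.node (.node (.node (.node (.node (.leaf 175) (.leaf 6889)) (.node (.leaf 2161) (.leaf 6873))) (.node (.node (.leaf 1358) (.leaf 6919)) (.node (.leaf 3404) (.leaf 7955)))) (.node (.node (.node (.leaf 605) (.leaf 5610)) (.node (.leaf 4960) (.leaf 7387))) (.node (.node (.leaf 5055) (.leaf 6363)) (.node (.leaf 3908) (.leaf 8595))))) (.node (.node (.node (.node (.leaf 408) (.leaf 4733)) (.node (.leaf 2640) (.leaf 7452))) (.node (.node (.leaf 2302) (.leaf 6075)) (.node (.leaf 3655) (.leaf 8941)))) (.node (.node (.node (.leaf 2184) (.leaf 5457)) (.node (.leaf 3123) (.leaf 7690))) (.node (.node (.leaf 1843) (.leaf 6608)) (.node (.leaf 4137) (.leaf 8889)))))) (.node (.node (.node (.node (.node (.leaf 259) (.leaf 6721)) (.node (.leaf 2515) (.leaf 7030))) (.node (.node (.leaf 1121) (.leaf 5946)) (.node (.leaf 3509) (.leaf 8110)))) (.node (.node (.node (.leaf 684) (.leaf 5749)) (.node (.leaf 2953) (.leaf 7579))) (.node (.node (.leaf 1745) (.leaf 6507)) (.node (.leaf 4875) (.leaf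 8713))))) (.node (.node (.node (.node (.leaf 514) (.leaf 4903)) (.node (.leaf 3041) (.leaf 7280))) (.node (.node (.leaf 1500) (.leaf 6173)) (.node (.leaf 3765) (.leaf 8415)))) (.node (.node (.node (.leaf 2594) (.leaf 5645)) (.node (.leaf 5034) (.leaf 7805))) (.node (.node (.leaf 4180) (.leaf 6733)) (.node (.leaf 4249) (.leaf 9018))))))) (.node (.node (.node (.node (.node (.node (.leaf 234) (.leaf 4492)) (.node (.leaf 2213) (.leaf 6973))) (.node (.node (.leaf 1074) (.leaf 5872)) (.node (.leaf 5270) (.leaf 8023)))) (.node (.node (.node (.leaf 651) (.leaf 5707)) (.node (.leaf 5056) (.leaf 7479))) (.node (.node (.leaf 1691) (.leaf 6414)) (.node (.leaf 5095) (.leaf 8649))))) (.node (.node (.node (.node (.leaf 1134) (.leaf 4787)) (.node (.leaf 2697) (.leaf 7235))) (.node (.node (.leaf 1454) (.leaf 6121)) (.node (.leaf 3723) (.leaf 8340)))) (.node (.node (.node (.leaf 873) (.leaf 5573)) (.node (.leaf 3175) (.leaf 7933))) (.node (.node (.leaf 2426) (.leaf 6679)) (.node (.leaf 4193) (.leaf 8954)))))) (.node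 (.node (.node (.node (.node (.leaf 2246) (.leaf 4665)) (.node (.leaf 2585) (.leaf 7100))) (.node (.node (.leaf 1173) (.leaf 7551)) (.node (.leaf 3552) (.leaf 8180)))) (.node (.node (.node (.leaf 743) (.leaf 6773)) (.node (.leaf 3043) (.leaf 8385))) (.node (.node (.leaf 1799) (.leaf 6583)) (.node (.leaf 4073) (.leaf 8932))))) (.node (.node (.node (.node (.leaf 2269) (.leaf 5193)) (.node (.leaf 3107) (.leaf 7335))) (.node (.node (.leaf 5005) (.leaf 6240)) (.node (.leaf 3848) (.leaf 8505)))) (.node (.node (.node (.leaf 1004) (.leaf 5712)) (.node (.leaf 3334) (.leaf 7869))) (.node (.node (.leaf 2052) (.leaf 6793)) (.leaf 6807))))))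
def dFin_27 : BT := .node dFin_25 dFin_26
def dFin_28 : BT := .node dFin_24 dFin_27
def dFin_29 : BT := .node dFin_21 dFin_28
def dFin_30 : BT := .node dFin_14 dFin_29
def dFin_31 : BT := .node (.node (.node (.node (.node (.node (.node (.leaf 2) (.leaf 4328)) (.node (.leaf 2058) (.leaf 6809))) (.node (.node (.leaf 1401) (.leaf 5724)) (.node (.leaf 3363) (.leaf 7877)))) (.node (.node (.node (.leaf 1473) (.leaf 5200)) (.node (.leaf 5229) (.leaf 7341))) (.node (.node (.leaf 3525) (.leaf 6250)) (.node (.leaf 3837) (.leaf 8512))))) (.node (.node (.node (.node (.leaf 361) (.leaf 4674)) (.node (.leaf 2591) (.leaf 7110))) (.node (.node (.leaf 1187) (.leaf 7784)) (.node (.leaf 5060) (.leaf 8197)))) (.node (.node (.node (.leaf 749) (.leaf 5858)) (.node (.leaf 3049) (.leaf 8397))) (.node (.node (.leaf 1805) (.leaf 7983)) (.node (.leaf 4088) (.leaf 8787)))))) (.node (.node (.node (.node (.node (.leaf 308) (.leaf 4500)) (.node (.leaf 5092) (.leaf 6953))) (.node (.node (.leaf 2232) (.leaf 7401)) (.node (.leaf 3462)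 (.leaf 8031)))) (.node (.node (.node (.leaf 1355) (.leaf 5359)) (.node (.leaf 3251) (.leaf 7477))) (.node (.node (.leaf 1700) (.leaf 6425)) (.node (.leaf 5090) (.leaf 8657))))) (.node (.node (.node (.node (.leaf 769) (.leaf 4797)) (.node (.leaf 2704) (.leaf 7541))) (.node (.node (.leaf 1441) (.leaf 6185)) (.node (.leaf 3729) (.leaf 8379)))) (.node (.node (.node (.leaf 851) (.leaf 5579)) (.node (.leaf 3189) (.leaf 7760))) (.node (.node (.leaf 1903) (.leaf 6692)) (.node (.leaf 4199) (.leaf 8981))))))) (.node (.node (.node (.node (.node (.node (.leaf 314) (.leaf 5041)) (.node (.leaf 5140) (.leaf 6891))) (.node (.node (.leaf 2936) (.leaf 5799)) (.node (.leaf 3410) (.leaf 7961)))) (.node (.node (.node (.leaf 616) (.leaf 5255)) (.node (.leaf 5307) (.leaf 7393))) (.node (.node (.leaf 1606) (.leaf 6327)) (.node (.leaf 3912) (.leaf 8601))))) (.node (.node (.node (.node (.leaf 419) (.leaf 6359)) (.node (.leaf 2648) (.leaf 7174))) (.node (.node (.leaf 1249) (.leaf 6084)) (.node (.leaf 3661) (.leaf 8280)))) (.node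 (.node (.node (.leaf 803) (.leaf 5507)) (.node (.leaf 3129) (.leaf 7696))) (.node (.node (.leaf 1855) (.leaf 6630)) (.node (.leaf 4143) (.leaf 8858)))))) (.node (.node (.node (.node (.node (.leaf 270) (.leaf 6984)) (.node (.leaf 5021) (.leaf 7018))) (.node (.node (.leaf 1127) (.leaf 7752)) (.node (.leaf 5010) (.leaf 8119)))) (.node (.node (.node (.leaf 690) (.leaf 5352)) (.node (.leaf 2976) (.leaf 7548))) (.node (.node (.leaf 1751) (.leaf 6484)) (.node (.leaf 6243) (.leaf 8711))))) (.node (.node (.node (.node (.leaf 1526) (.leaf 4909)) (.node (.leaf 2767) (.leaf 8237))) (.node (.node (.leaf 3415) (.leaf 6179)) (.node (.leaf 3774) (.leaf 8440)))) (.node (.node (.node (.leaf 2666) (.leaf 5651)) (.node (.leaf 3263) (.leaf 8688))) (.node (.node (.leaf 4206) (.leaf 6741)) (.node (.leaf 4255) (.leaf 9022)))))))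
def dFin_32 : BT := .node (.node (.node (.node (.node (.node (.node (.leaf 242) (.leaf 4379)) (.node (.leaf 4360) (.leaf 6855))) (.node (.node (.leaf 1403) (.leaf 5773)) (.node (.leaf 3374) (.leaf 7927)))) (.node (.node (.node (.leaf 584) (.leaf 5235)) (.node (.leaf 5272) (.leaf 7365))) (.node (.node (.leaf 2630) (.leaf 6305)) (.node (.leaf 3871) (.leaf 8563))))) (.node (.node (.node (.node (.leaf 385) (.leaf 4704)) (.node (.leaf 2621) (.leaf 8568))) (.node (.node (.leaf 1206) (.leaf 6044)) (.node (.leaf 3593) (.leaf 8241)))) (.node (.node (.node (.leaf 774) (.leaf 5458)) (.node (.leaf 3074) (.leaf 8431))) (.node (.node (.leaf 1833) (.leaf 6590)) (.node (.leaf 4917) (.leaf 8823)))))) (.node (.node (.node (.node (.node (.leaf 194) (.leaf 4554)) (.node (.leaf 4204) (.leaf 6997))) (.node (.node (.leaf 1338) (.leaf 5910)) (.node (.leaf 3490) (.leaf 8068)))) (.node (.node (.node (.leaf 675) (.leaf 7277)) (.node (.leaf 2938) (.leaf 7507))) (.node (.node (.leaf 3900) (.leaf 6467)) (.node (.leaf 6626) (.leaf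 8679))))) (.node (.node (.node (.node (.leaf 494) (.leaf 4866)) (.node (.leaf 2745) (.leaf 7287))) (.node (.node (.leaf 1465) (.leaf 6144)) (.node (.leaf 3755) (.leaf 8907)))) (.node (.node (.node (.leaf 2596) (.leaf 5607)) (.node (.leaf 3214) (.leaf 7788))) (.node (.node (.leaf 1965) (.leaf 7262)) (.node (.leaf 4219) (.leaf 9041))))))) (.node (.node (.node (.node (.node (.node (.leaf 1313) (.leaf 4456)) (.node (.leaf 2196) (.leaf 6927))) (.node (.node (.leaf 1199) (.leaf 5835)) (.node (.leaf 3440) (.leaf 7992)))) (.node (.node (.node (.leaf 1780) (.leaf 7236)) (.node (.leaf 3237) (.leaf 7441))) (.node (.node (.leaf 1674) (.leaf 6366)) (.node (.leaf 3940) (.leaf 8635))))) (.node (.node (.node (.node (.leaf 1040) (.leaf 4760)) (.node (.leaf 2687) (.leaf 7490))) (.node (.node (.leaf 1425) (.leaf 6106)) (.node (.leaf 3687) (.leaf 8472)))) (.node (.node (.node (.leaf 827) (.leaf 6819)) (.node (.leaf 3157) (.leaf 7724))) (.node (.node (.leaf 1872) (.leaf 6820)) (.node (.leaf 4168) (.leaf 8900)))))) (.node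 (.node (.node (.node (.node (.leaf 333) (.leaf 4642)) (.node (.leaf 2547) (.leaf 7066))) (.node (.node (.leaf 1155) (.leaf 5982)) (.node (.leaf 5329) (.leaf 8157)))) (.node (.node (.node (.leaf 721) (.leaf 5814)) (.node (.leaf 5532) (.leaf 7610))) (.node (.node (.leaf 1770) (.leaf 6522)) (.node (.leaf 6043) (.leaf 8749))))) (.node (.node (.node (.node (.leaf 5147) (.leaf 4933)) (.node (.leaf 2789) (.leaf 7319))) (.node (.node (.leaf 3482) (.leaf 6223)) (.node (.leaf 3819) (.leaf 8482)))) (.node (.node (.node (.leaf 2707) (.leaf 5689)) (.node (.leaf 3287) (.leaf 8565))) (.node (.node (.leaf 2026) (.leaf 6769)) (.leaf 4299))))))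
def dFin_33 : BT := .node dFin_31 dFin_32
def dFin_34 : BT := .node (.node (.node (.node (.node (.node (.node (.leaf 248) (.leaf 4366)) (.node (.leaf 2071) (.leaf 6828))) (.node (.node (.leaf 1013) (.leaf 5750)) (.node (.leaf 3349) (.leaf 7912)))) (.node (.node (.node (.leaf 562) (.leaf 5222)) (.node (.leaf 2841) (.leaf 8282))) (.node (.node (.leaf 1569) (.leaf 6409)) (.node (.leaf 3866) (.leaf 8551))))) (.node (.node (.node (.node (.leaf 840) (.leaf 4683)) (.node (.leaf 2606) (.leaf 7119))) (.node (.node (.leaf 4987) (.leaf 6018)) (.node (.leaf 5046) (.leaf 8207)))) (.node (.node (.node (.leaf 2050) (.leaf 5408)) (.node (.leaf 5453) (.leaf 7649))) (.node (.node (.leaf 1818) (.leaf 6565)) (.node (.leaf 4091) (.leaf 9067)))))) (.node (.node (.node (.node (.node (.leaf 273) (.leaf 4507)) (.node (.leaf 2464) (.leaf 8468))) (.node (.node (.leaf 2296) (.leaf 5895)) (.node (.leaf 3473) (.leaf 8091)))) (.node (.node (.node (.leaf 969) (.leaf 5315)) (.node (.leaf 2923) (.leaf 7533))) (.node (.node (.leaf 1711)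 (.leaf 6441)) (.node (.leaf 3975) (.leaf 8810))))) (.node (.node (.node (.node (.leaf 478) (.leaf 4881)) (.node (.leaf 2740) (.leaf 7243))) (.node (.node (.leaf 2483) (.leaf 6127)) (.node (.leaf 5168) (.leaf 8357)))) (.node (.node (.node (.leaf 1376) (.leaf 7431)) (.node (.leaf 3231) (.leaf 7769))) (.node (.node (.leaf 1962) (.leaf 6699)) (.node (.leaf 6729) (.leaf 8964))))))) (.node (.node (.node (.node (.node (.node (.leaf 17) (.leaf 4433)) (.node (.leaf 2144) (.leaf 8088))) (.node (.node (.leaf 1047) (.leaf 5818)) (.node (.leaf 3429) (.leaf 8013)))) (.node (.node (.node (.leaf 621) (.leaf 6573)) (.node (.leaf 2881) (.leaf 7420))) (.node (.node (.leaf 1619) (.leaf 7900)) (.node (.leaf 3931) (.leaf 8993))))) (.node (.node (.node (.node (.leaf 2357) (.leaf 4739)) (.node (.leaf 2674) (.leaf 7187))) (.node (.node (.leaf 1412) (.leaf 6089)) (.node (.leaf 3666) (.leaf 8263)))) (.node (.node (.node (.leaf 2118) (.leaf 5478)) (.node (.leaf 3138) (.leaf 7713))) (.node (.node (.leaf 3773) (.leaf 6643)) (.node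 (.leaf 6675) (.leaf 8874)))))) (.node (.node (.node (.node (.node (.leaf 709) (.leaf 4599)) (.node (.leaf 5050) (.leaf 7041))) (.node (.node (.leaf 1142) (.leaf 5961)) (.node (.leaf 3517) (.leaf 8148)))) (.node (.node (.node (.leaf 1899) (.leaf 5371)) (.node (.leaf 2987) (.leaf 8375))) (.node (.node (.leaf 3853) (.leaf 6499)) (.node (.leaf 4016) (.leaf 8740))))) (.node (.node (.node (.node (.leaf 527) (.leaf 5467)) (.node (.leaf 4175) (.leaf 7302))) (.node (.node (.leaf 1519) (.leaf 6214)) (.node (.leaf 3804) (.leaf 8451)))) (.node (.node (.node (.leaf 941) (.leaf 5682)) (.node (.leaf 5816) (.leaf 7819))) (.node (.node (.leaf 2005) (.leaf 6754)) (.node (.leaf 4282) (.leaf 9055)))))))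
def dFin_35 : BT := .node (.node (.node (.node (.node (.node (.node (.leaf 186) (.leaf 5702)) (.node (.leaf 2111) (.leaf 8432))) (.node (.node (.leaf 1031) (.leaf 5788)) (.node (.leaf 3380) (.leaf 8857)))) (.node (.node (.node (.leaf 595) (.leaf 5622)) (.node (.leaf 2861) (.leaf 8518))) (.node (.node (.leaf 1586) (.leaf 6324)) (.node (.leaf 3892) (.leaf 8584))))) (.node (.node (.node (.node (.leaf 402) (.leaf 4723)) (.node (.leaf 4751) (.leaf 7157))) (.node (.node (.leaf 3103) (.leaf 6065)) (.node (.leaf 3695) (.leaf 8233)))) (.node (.node (.node (.leaf 794) (.leaf 5433)) (.node (.leaf 3112) (.leaf 7677))) (.node (.node (.leaf 4084) (.leaf 6598)) (.node (.leaf 6658) (.leaf 8837)))))) (.node (.node (.node (.node (.node (.leaf 634) (.leaf 4575)) (.node (.leaf 2505) (.leaf 7014))) (.node (.node (.leaf 3006) (.leaf 5925)) (.node (.leaf 3499) (.leaf 8100)))) (.node (.node (.node (.leaf 697) (.leaf 5340)) (.node (.leaf 2943) (.leaf 7573))) (.node (.node (.leaf 1755) (.leaf 6469)) (.node (.leaf 3995) (.leaf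 8700))))) (.node (.node (.node (.node (.leaf 507) (.leaf 4892)) (.node (.leaf 2768) (.leaf 7268))) (.node (.node (.leaf 1484) (.leaf 6295)) (.node (.leaf 3791) (.leaf 8405)))) (.node (.node (.node (.leaf 917) (.leaf 5628)) (.node (.leaf 3244) (.leaf 7795))) (.node (.node (.leaf 2817) (.leaf 6716)) (.node (.leaf 5159) (.leaf 9007))))))) (.node (.node (.node (.node (.node (.node (.leaf 82) (.leaf 4471)) (.node (.leaf 2203) (.leaf 6982))) (.node (.node (.leaf 1062) (.leaf 5854)) (.node (.leaf 3453) (.leaf 8016)))) (.node (.node (.node (.leaf 1840) (.leaf 5293)) (.node (.leaf 2898) (.leaf 7470))) (.node (.node (.leaf 1681) (.leaf 6400)) (.node (.leaf 3953) (.leaf 8772))))) (.node (.node (.node (.node (.leaf 1293) (.leaf 4805)) (.node (.leaf 4747) (.leaf 7223))) (.node (.node (.leaf 3023) (.leaf 6105)) (.node (.leaf 3710) (.leaf 8317)))) (.node (.node (.node (.leaf 5030) (.leaf 5562)) (.node (.leaf 4984) (.leaf 7741))) (.node (.node (.leaf 3569) (.leaf 6667)) (.node (.leaf 6688) (.leaf 8921)))))) (.node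 (.node (.node (.node (.node (.leaf 790) (.leaf 4655)) (.node (.leaf 4700) (.leaf 7074))) (.node (.node (.leaf 1176) (.leaf 5991)) (.node (.leaf 3540) (.leaf 8177)))) (.node (.node (.node (.leaf 1980) (.leaf 5391)) (.node (.leaf 3053) (.leaf 7627))) (.node (.node (.leaf 1792) (.leaf 6539)) (.node (.leaf 4063) (.leaf 8782))))) (.node (.node (.node (.node (.leaf 545) (.leaf 5485)) (.node (.leaf 2808) (.leaf 8249))) (.node (.node (.leaf 1547) (.leaf 6267)) (.node (.leaf 3838) (.leaf 8495)))) (.node (.node (.node (.leaf 964) (.leaf 7658)) (.node (.leaf 4475) (.leaf 7875))) (.node (.node (.leaf 2032) (.leaf 6800)) (.leaf 5183))))))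
def dFin_36 : BT := .node dFin_34 dFin_35
def dFin_37 : BT := .node dFin_33 dFin_36
def dFin_38 : BT := .node (.node (.node (.node (.node (.node (.node (.leaf 10) (.leaf 4342)) (.node (.leaf 2063) (.leaf 6830))) (.node (.node (.leaf 2764) (.leaf 5732)) (.node (.leaf 3337) (.leaf 7928)))) (.node (.node (.node (.leaf 2290) (.leaf 5212)) (.node (.leaf 2833) (.leaf 8284))) (.node (.node (.leaf 1557) (.leaf 6272)) (.node (.leaf 3851) (.leaf 8530))))) (.node (.node (.node (.node (.leaf 369) (.leaf 4668)) (.node (.leaf 2602) (.leaf 7099))) (.node (.node (.leaf 2455) (.leaf 6009)) (.node (.leaf 3572) (.leaf 8199)))) (.node (.node (.node (.leaf 1372) (.leaf 5831)) (.node (.leaf 3081) (.leaf 7641))) (.node (.node (.leaf 1820) (.leaf 6555)) (.node (.leaf 4920) (.leaf 8797)))))) (.node (.node (.node (.node (.node (.leaf 102) (.leaf 4491)) (.node (.leaf 2489) (.leaf 6971))) (.node (.node (.leaf 2917) (.leaf 5887)) (.node (.leaf 5618) (.leaf 8039)))) (.node (.node (.node (.leaf 1737) (.leaf 5303)) (.node (.leaf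 4994) (.leaf 7487))) (.node (.node (.leaf 3713) (.leaf 6433)) (.node (.leaf 3967) (.leaf 8839))))) (.node (.node (.node (.node (.leaf 470) (.leaf 5163)) (.node (.leaf 2718) (.leaf 7248))) (.node (.node (.leaf 1457) (.leaf 6232)) (.node (.leaf 6398) (.leaf 8336)))) (.node (.node (.node (.leaf 860) (.leaf 5586)) (.node (.leaf 3201) (.leaf 8542))) (.node (.node (.leaf 1911) (.leaf 6865)) (.node (.leaf 4210) (.leaf 8956))))))) (.node (.node (.node (.node (.node (.node (.leaf 370) (.leaf 4417)) (.node (.leaf 2131) (.leaf 6903))) (.node (.node (.leaf 1185) (.leaf 5807)) (.node (.leaf 3421) (.leaf 7973)))) (.node (.node (.node (.leaf 1668) (.leaf 5263)) (.node (.leaf 2871) (.leaf 8135))) (.node (.node (.leaf 5022) (.leaf 6345)) (.node (.leaf 3923) (.leaf 8726))))) (.node (.node (.node (.node (.leaf 427) (.leaf 5165)) (.node (.leaf 2656) (.leaf 7200))) (.node (.node (.leaf 1257) (.leaf 7808)) (.node (.leaf 3672) (.leaf 8255)))) (.node (.node (.node (.leaf 811) (.leaf 5511)) (.node (.leaf 3142) (.leaf 7703)))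 (.node (.node (.leaf 1863) (.leaf 7145)) (.node (.leaf 4179) (.leaf 8866)))))) (.node (.node (.node (.node (.node (.leaf 702) (.leaf 5049)) (.node (.leaf 2633) (.leaf 7033))) (.node (.node (.leaf 1140) (.leaf 5951)) (.node (.leaf 5989) (.leaf 8129)))) (.node (.node (.node (.leaf 704) (.leaf 5363)) (.node (.leaf 2982) (.leaf 7564))) (.node (.node (.leaf 1777) (.leaf 6491)) (.node (.leaf 4057) (.leaf 8721))))) (.node (.node (.node (.node (.leaf 519) (.leaf 4918)) (.node (.leaf 2781) (.leaf 7597))) (.node (.node (.leaf 1511) (.leaf 7844)) (.node (.leaf 3784) (.leaf 8442)))) (.node (.node (.node (.leaf 933) (.leaf 5670)) (.node (.leaf 3271) (.leaf 7816))) (.node (.node (.leaf 1997) (.leaf 8046)) (.node (.leaf 4263) (.leaf 9034)))))))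
def dFin_39 : BT := .node (.node (.node (.node (.node (.node (.node (.leaf 223) (.leaf 4387)) (.node (.leaf 2103) (.leaf 7538))) (.node (.node (.leaf 1987) (.leaf 5781)) (.node (.leaf 3368) (.leaf 7977)))) (.node (.node (.node (.leaf 590) (.leaf 5243)) (.node (.leaf 2853) (.leaf 7372))) (.node (.node (.leaf 1577) (.leaf 6313)) (.node (.leaf 3880) (.leaf 8580))))) (.node (.node (.node (.node (.leaf 393) (.leaf 4712)) (.node (.leaf 2661) (.leaf 7149))) (.node (.node (.leaf 1382) (.leaf 6054)) (.node (.leaf 3640) (.leaf 8219)))) (.node (.node (.node (.leaf 782) (.leaf 5446)) (.node (.leaf 5541) (.leaf 7669))) (.node (.node (.leaf 4042) (.leaf 6612)) (.node (.leaf 4316) (.leaf 8829)))))) (.node (.node (.node (.node (.node (.leaf 260) (.leaf 4567)) (.node (.leaf 2492) (.leaf 7005))) (.node (.node (.leaf 1106) (.leaf 5917)) (.node (.leaf 4563) (.leaf 8076)))) (.node (.node (.node (.leaf 5002) (.leaf 5330)) (.node (.leaf 3302) (.leaf 7527))) (.node (.node (.leaf 3958) (.leaf 6459)) (.node (.leaf 4011) (.leaf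 8687))))) (.node (.node (.node (.node (.leaf 499) (.leaf 4894)) (.node (.leaf 2753) (.leaf 7559))) (.node (.node (.leaf 1476) (.leaf 6158)) (.node (.leaf 3763) (.leaf 8398)))) (.node (.node (.node (.leaf 909) (.leaf 5634)) (.node (.leaf 3224) (.leaf 7790))) (.node (.node (.leaf 1973) (.leaf 8294)) (.node (.leaf 5066) (.leaf 9003))))))) (.node (.node (.node (.node (.node (.node (.leaf 74) (.leaf 4463)) (.node (.leaf 2186) (.leaf 6935))) (.node (.node (.leaf 1205) (.leaf 5845)) (.node (.leaf 3445) (.leaf 8000)))) (.node (.node (.node (.leaf 638) (.leaf 5285)) (.node (.leaf 2889) (.leaf 7449))) (.node (.node (.leaf 3664) (.leaf 6382)) (.node (.leaf 3945) (.leaf 8770))))) (.node (.node (.node (.node (.leaf 449) (.leaf 4782)) (.node (.leaf 2695) (.leaf 8619))) (.node (.node (.leaf 1433) (.leaf 6114)) (.node (.leaf 3702) (.leaf 8309)))) (.node (.node (.node (.leaf 835) (.leaf 5546)) (.node (.leaf 5740) (.leaf 7739))) (.node (.node (.leaf 1882) (.leaf 6803)) (.node (.leaf 4395) (.leaf 8913)))))) (.node (.node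 (.node (.node (.node (.leaf 1321) (.leaf 4698)) (.node (.leaf 2576) (.leaf 7058))) (.node (.node (.leaf 1168) (.leaf 5975)) (.node (.leaf 3561) (.leaf 8167)))) (.node (.node (.node (.leaf 2367) (.leaf 7203)) (.node (.leaf 5582) (.leaf 7619))) (.node (.node (.leaf 1784) (.leaf 6531)) (.node (.leaf 4050) (.leaf 8759))))) (.node (.node (.node (.node (.leaf 557) (.leaf 4943)) (.node (.leaf 2800) (.leaf 8640))) (.node (.node (.leaf 1539) (.leaf 6263)) (.node (.leaf 3827) (.leaf 8517)))) (.node (.node (.node (.leaf 956) (.leaf 5701)) (.node (.leaf 3295) (.leaf 7850))) (.node (.node (.leaf 2020) (.leaf 6823)) (.leaf 4307))))))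
def dFin_40 : BT := .node dFin_38 dFin_39
def dFin_41 : BT := .node (.node (.node (.node (.node (.node (.node (.leaf 172) (.leaf 4362)) (.node (.leaf 2092) (.leaf 6847))) (.node (.node (.leaf 1395) (.leaf 5762)) (.node (.leaf 3385) (.leaf 7919)))) (.node (.node (.node (.leaf 570) (.leaf 5557)) (.node (.leaf 3166) (.leaf 7357))) (.node (.node (.leaf 5033) (.leaf 7051)) (.node (.leaf 6512) (.leaf 8555))))) (.node (.node (.node (.node (.leaf 376) (.leaf 4691)) (.node (.leaf 2613) (.leaf 7138))) (.node (.node (.leaf 1193) (.leaf 6028)) (.node (.leaf 3585) (.leaf 8349)))) (.node (.node (.node (.leaf 766) (.leaf 5416)) (.node (.leaf 3062) (.leaf 8383))) (.node (.node (.leaf 1825) (.leaf 6574)) (.node (.leaf 4099) (.leaf 8853)))))) (.node (.node (.node (.node (.node (.leaf 257) (.leaf 6866)) (.node (.leaf 2474) (.leaf 6988))) (.node (.node (.leaf 1093) (.leaf 7416)) (.node (.leaf 3481) (.leaf 8060)))) (.node (.node (.node (.leaf 665) (.leaf 7322)) (.node (.leaf 2931) (.leaf 7520))) (.node (.node (.leaf 1719)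 (.leaf 6448)) (.node (.leaf 5131) (.leaf 8675))))) (.node (.node (.node (.node (.leaf 490) (.leaf 4852)) (.node (.leaf 3002) (.leaf 7255))) (.node (.node (.leaf 2375) (.leaf 6136)) (.node (.leaf 3767) (.leaf 8373)))) (.node (.node (.node (.leaf 896) (.leaf 5599)) (.node (.leaf 4425) (.leaf 7779))) (.node (.node (.leaf 2084) (.leaf 6707)) (.node (.leaf 4209) (.leaf 8972))))))) (.node (.node (.node (.node (.node (.node (.leaf 230) (.leaf 5186)) (.node (.leaf 2158) (.leaf 6920))) (.node (.node (.leaf 1055) (.leaf 5826)) (.node (.leaf 5118) (.leaf 7984)))) (.node (.node (.node (.leaf 629) (.leaf 5656)) (.node (.leaf 4970) (.leaf 7450))) (.node (.node (.leaf 1627) (.leaf 6395)) (.node (.leaf 3938) (.leaf 8625))))) (.node (.node (.node (.node (.leaf 1020) (.leaf 4752)) (.node (.leaf 4059) (.leaf 7197))) (.node (.node (.leaf 1418) (.leaf 6097)) (.node (.leaf 3679) (.leaf 8298)))) (.node (.node (.node (.leaf 2490) (.leaf 5494)) (.node (.leaf 3149) (.leaf 8175))) (.node (.node (.leaf 2425) (.leaf 6651)) (.node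 (.leaf 4160) (.leaf 8939)))))) (.node (.node (.node (.node (.node (.leaf 417) (.leaf 4611)) (.node (.leaf 2533) (.leaf 7072))) (.node (.node (.leaf 1147) (.leaf 7505)) (.node (.leaf 3531) (.leaf 8150)))) (.node (.node (.node (.leaf 713) (.leaf 5379)) (.node (.leaf 2995) (.leaf 7594))) (.node (.node (.leaf 1762) (.leaf 6520)) (.node (.leaf 4026) (.leaf 8734))))) (.node (.node (.node (.node (.leaf 1600) (.leaf 5195)) (.node (.leaf 3090) (.leaf 7311))) (.node (.node (.leaf 1532) (.leaf 6203)) (.node (.leaf 6291) (.leaf 8459)))) (.node (.node (.node (.leaf 975) (.leaf 5669)) (.node (.leaf 3282) (.leaf 7827))) (.node (.node (.leaf 4159) (.leaf 6761)) (.node (.leaf 4312) (.leaf 9063)))))))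
def dFin_42 : BT := .node (.node (.node (.node (.node (.node (.node (.leaf 209) (.leaf 4436)) (.node (.leaf 4993) (.leaf 6870))) (.node (.node (.leaf 1039) (.leaf 5794)) (.node (.leaf 3402) (.leaf 7953)))) (.node (.node (.node (.leaf 603) (.leaf 7212)) (.node (.leaf 2872) (.leaf 7383))) (.node (.node (.leaf 1594) (.leaf 6349)) (.node (.leaf 3906) (.leaf 8591))))) (.node (.node (.node (.node (.leaf 406) (.leaf 4731)) (.node (.leaf 2638) (.leaf 7166))) (.node (.node (.leaf 2329) (.leaf 6073)) (.node (.leaf 3653) (.leaf 8244)))) (.node (.node (.node (.leaf 798) (.leaf 5455)) (.node (.leaf 3121) (.leaf 7694))) (.node (.node (.leaf 1867) (.leaf 6606)) (.node (.leaf 4135) (.leaf 8887)))))) (.node (.node (.node (.node (.node (.leaf 191) (.leaf 6004)) (.node (.leaf 2513) (.leaf 7047))) (.node (.node (.leaf 1119) (.leaf 5944)) (.node (.leaf 3507) (.leaf 8108)))) (.node (.node (.node (.leaf 682) (.leaf 5745)) (.node (.leaf 2951) (.leaf 7577))) (.node (.node (.leaf 1741) (.leaf 8096)) (.node (.leaf 4007) (.leaf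 8704))))) (.node (.node (.node (.node (.leaf 1160) (.leaf 4901)) (.node (.leaf 3035) (.leaf 7278))) (.node (.node (.leaf 1496) (.leaf 6171)) (.node (.leaf 6341) (.leaf 8413)))) (.node (.node (.node (.leaf 2520) (.leaf 5643)) (.node (.leaf 3256) (.leaf 7803))) (.node (.node (.leaf 1982) (.leaf 6731)) (.node (.leaf 5527) (.leaf 9015))))))) (.node (.node (.node (.node (.node (.node (.leaf 288) (.leaf 6548)) (.node (.leaf 2211) (.leaf 6962))) (.node (.node (.leaf 1072) (.leaf 5897)) (.node (.leaf 5128) (.leaf 8025)))) (.node (.node (.node (.leaf 649) (.leaf 5679)) (.node (.leaf 2906) (.leaf 8703))) (.node (.node (.leaf 1689) (.leaf 6410)) (.node (.leaf 3962) (.leaf 8647))))) (.node (.node (.node (.node (.leaf 1104) (.leaf 4785)) (.node (.leaf 2712) (.leaf 7233))) (.node (.node (.leaf 1450) (.leaf 6119)) (.node (.leaf 3721) (.leaf 8326)))) (.node (.node (.node (.leaf 5137) (.leaf 5571)) (.node (.leaf 3205) (.leaf 7749))) (.node (.node (.leaf 4053) (.leaf 6677)) (.node (.leaf 4191) (.leaf 8935)))))) (.node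 (.node (.node (.node (.node (.leaf 354) (.leaf 4663)) (.node (.leaf 2583) (.leaf 7750))) (.node (.node (.leaf 1167) (.leaf 6003)) (.node (.leaf 3550) (.leaf 8182)))) (.node (.node (.node (.leaf 2299) (.leaf 5399)) (.node (.leaf 3037) (.leaf 8730))) (.node (.node (.leaf 1797) (.leaf 6581)) (.node (.leaf 4071) (.leaf 8784))))) (.node (.node (.node (.node (.leaf 1386) (.leaf 5206)) (.node (.leaf 2822) (.leaf 7333))) (.node (.node (.leaf 3179) (.leaf 6238)) (.node (.leaf 6331) (.leaf 8503)))) (.node (.node (.node (.leaf 2410) (.leaf 5709)) (.node (.leaf 3355) (.leaf 7867))) (.node (.node (.leaf 4276) (.leaf 6787)) (.leaf 4359))))))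
def dFin_43 : BT := .node dFin_41 dFin_42
def dFin_44 : BT := .node dFin_40 dFin_43
def dFin_45 : BT := .node dFin_37 dFin_44
def dFin_46 : BT := .node (.node (.node (.node (.node (.node (.node (.leaf 6) (.leaf 4336)) (.node (.leaf 3117) (.leaf 6813))) (.node (.node (.leaf 1128) (.leaf 5728)) (.node (.leaf 3329) (.leaf 8894)))) (.node (.node (.node (.leaf 573) (.leaf 5204)) (.node (.leaf 2829) (.leaf 8269))) (.node (.node (.leaf 5025) (.leaf 6258)) (.node (.leaf 3845) (.leaf 8538))))) (.node (.node (.node (.node (.leaf 365) (.leaf 4711)) (.node (.leaf 3799) (.leaf 7092))) (.node (.node (.leaf 1191) (.leaf 6035)) (.node (.leaf 3566) (.leaf 8193)))) (.node (.node (.node (.leaf 753) (.leaf 5862)) (.node (.leaf 3079) (.leaf 7637))) (.node (.node (.leaf 1809) (.leaf 8019)) (.node (.leaf 5170) (.leaf 8793)))))) (.node (.node (.node (.node (.node (.leaf 2369) (.leaf 4486)) (.node (.leaf 5098) (.leaf 6961))) (.node (.node (.leaf 1235) (.leaf 5883)) (.node (.leaf 3464) (.leaf 8035)))) (.node (.node (.node (.leaf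 660) (.leaf 5297)) (.node (.leaf 5355) (.leaf 7483))) (.node (.node (.leaf 1708) (.leaf 6429)) (.node (.leaf 6525) (.leaf 8661))))) (.node (.node (.node (.node (.leaf 466) (.leaf 4802)) (.node (.leaf 2710) (.leaf 7543))) (.node (.node (.leaf 1449) (.leaf 7837)) (.node (.leaf 3733) (.leaf 8358)))) (.node (.node (.node (.leaf 856) (.leaf 5588)) (.node (.leaf 3197) (.leaf 7756))) (.node (.node (.leaf 1907) (.leaf 6842)) (.node (.leaf 4203) (.leaf 8948))))))) (.node (.node (.node (.node (.node (.node (.leaf 344) (.leaf 4409)) (.node (.leaf 2165) (.leaf 6897))) (.node (.node (.leaf 5151) (.leaf 5803)) (.node (.leaf 3416) (.leaf 7965)))) (.node (.node (.node (.leaf 612) (.leaf 5259)) (.node (.leaf 4997) (.leaf 7397))) (.node (.node (.leaf 3577) (.leaf 6339)) (.node (.leaf 3919) (.leaf 8606))))) (.node (.node (.node (.node (.leaf 423) (.leaf 5970)) (.node (.leaf 2652) (.leaf 7456))) (.node (.node (.leaf 1253) (.leaf 6080)) (.node (.leaf 6152) (.leaf 8275)))) (.node (.node (.node (.leaf 807) (.leaf 5509))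 (.node (.leaf 3133) (.leaf 7700))) (.node (.node (.leaf 1859) (.leaf 8178)) (.node (.leaf 4177) (.leaf 8862)))))) (.node (.node (.node (.node (.node (.leaf 307) (.leaf 6965)) (.node (.leaf 2629) (.leaf 7025))) (.node (.node (.leaf 3094) (.leaf 5955)) (.node (.leaf 5014) (.leaf 8125)))) (.node (.node (.node (.leaf 1351) (.leaf 5356)) (.node (.leaf 2978) (.leaf 7556))) (.node (.node (.leaf 1775) (.leaf 6487)) (.node (.leaf 4033) (.leaf 8717))))) (.node (.node (.node (.node (.leaf 823) (.leaf 4913)) (.node (.leaf 2777) (.leaf 7589))) (.node (.node (.leaf 1507) (.leaf 6195)) (.node (.leaf 3780) (.leaf 8434)))) (.node (.node (.node (.leaf 2428) (.leaf 5655)) (.node (.leaf 3267) (.leaf 7812))) (.node (.node (.leaf 1993) (.leaf 8115)) (.node (.leaf 4259) (.leaf 9030)))))))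
def dFin_47 : BT := .node (.node (.node (.node (.node (.node (.node (.leaf 281) (.leaf 4383)) (.node (.leaf 2100) (.leaf 6859))) (.node (.node (.leaf 2846) (.leaf 5777)) (.node (.leaf 3364) (.leaf 7934)))) (.node (.node (.node (.leaf 1611) (.leaf 5239)) (.node (.leaf 5294) (.leaf 7369))) (.node (.node (.leaf 1599) (.leaf 6309)) (.node (.leaf 3876) (.leaf 8576))))) (.node (.node (.node (.node (.leaf 389) (.leaf 4720)) (.node (.leaf 2625) (.leaf 7146))) (.node (.node (.leaf 1212) (.leaf 6048)) (.node (.leaf 3644) (.leaf 8213)))) (.node (.node (.node (.leaf 778) (.leaf 5468)) (.node (.leaf 3086) (.leaf 7893))) (.node (.node (.leaf 1837) (.leaf 6619)) (.node (.leaf 4126) (.leaf 8825)))))) (.node (.node (.node (.node (.node (.leaf 1291) (.leaf 4564)) (.node (.leaf 2498) (.leaf 7001))) (.node (.node (.leaf 1108) (.leaf 5913)) (.node (.leaf 3486) (.leaf 8072)))) (.node (.node (.node (.leaf 2413) (.leaf 5323)) (.node (.leaf 5155) (.leaf 7519))) (.node (.node (.leaf 3936) (.leaf 6455)) (.node (.leaf 3996) (.leaf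 8683))))) (.node (.node (.node (.node (.leaf 1438) (.leaf 4870)) (.node (.leaf 2749) (.leaf 7555))) (.node (.node (.leaf 1470) (.leaf 6154)) (.node (.leaf 3759) (.leaf 8392)))) (.node (.node (.node (.leaf 905) (.leaf 6611)) (.node (.leaf 3220) (.leaf 7786))) (.node (.node (.leaf 1969) (.leaf 8242)) (.node (.leaf 4225) (.leaf 8988))))))) (.node (.node (.node (.node (.node (.node (.leaf 70) (.leaf 4459)) (.node (.leaf 2192) (.leaf 6931))) (.node (.node (.leaf 2797) (.leaf 5841)) (.node (.leaf 5877) (.leaf 7996)))) (.node (.node (.node (.leaf 1552) (.leaf 5281)) (.node (.leaf 3219) (.leaf 7445))) (.node (.node (.leaf 3636) (.leaf 6372)) (.node (.leaf 5621) (.leaf 8639))))) (.node (.node (.node (.node (.leaf 445) (.leaf 4778)) (.node (.leaf 2691) (.leaf 7214))) (.node (.node (.leaf 1429) (.leaf 6110)) (.node (.leaf 3691) (.leaf 8306)))) (.node (.node (.node (.leaf 831) (.leaf 5538)) (.node (.leaf 3161) (.leaf 8545))) (.node (.node (.leaf 1878) (.leaf 8048)) (.node (.leaf 4172) (.leaf 8911)))))) (.node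 (.node (.node (.node (.node (.leaf 337) (.leaf 4644)) (.node (.leaf 2572) (.leaf 7052))) (.node (.node (.leaf 1360) (.leaf 6057)) (.node (.leaf 3559) (.leaf 8163)))) (.node (.node (.node (.leaf 725) (.leaf 5812)) (.node (.leaf 5176) (.leaf 7615))) (.node (.node (.leaf 2418) (.leaf 7414)) (.node (.leaf 4046) (.leaf 8753))))) (.node (.node (.node (.node (.leaf 546) (.leaf 4939)) (.node (.leaf 2794) (.leaf 7656))) (.node (.node (.leaf 3512) (.leaf 6227)) (.node (.leaf 3823) (.leaf 8492)))) (.node (.node (.node (.leaf 966) (.leaf 5693)) (.node (.leaf 3291) (.leaf 7846))) (.node (.node (.leaf 2014) (.leaf 6774)) (.leaf 4303))))))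
def dFin_48 : BT := .node dFin_46 dFin_47
def dFin_49 : BT := .node (.node (.node (.node (.node (.node (.node (.leaf 229) (.leaf 4370)) (.node (.leaf 2075) (.leaf 6840))) (.node (.node (.leaf 1017) (.leaf 5758)) (.node (.leaf 5481) (.leaf 7915)))) (.node (.node (.node (.leaf 566) (.leaf 5549)) (.node (.leaf 2845) (.leaf 7895))) (.node (.node (.leaf 1573) (.leaf 6288)) (.node (.leaf 6476) (.leaf 8549))))) (.node (.node (.node (.node (.leaf 372) (.leaf 4687)) (.node (.leaf 4772) (.leaf 7123))) (.node (.node (.leaf 1221) (.leaf 6024)) (.node (.leaf 3581) (.leaf 8214)))) (.node (.node (.node (.leaf 787) (.leaf 5412)) (.node (.leaf 3054) (.leaf 8417))) (.node (.node (.leaf 2677) (.leaf 6569)) (.node (.leaf 4095) (.leaf 8849)))))) (.node (.node (.node (.node (.node (.leaf 534) (.leaf 4511)) (.node (.leaf 2470) (.leaf 8526))) (.node (.node (.leaf 1089) (.leaf 7210)) (.node (.leaf 3477) (.leaf 8930)))) (.node (.node (.node (.leaf 659) (.leaf 5319)) (.node (.leaf 2927) (.leaf 7535))) (.node (.node (.leaf 1715)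 (.leaf 6444)) (.node (.leaf 3979) (.leaf 8947))))) (.node (.node (.node (.node (.leaf 1226) (.leaf 4847)) (.node (.leaf 3011) (.leaf 7247))) (.node (.node (.leaf 2371) (.leaf 6132)) (.node (.leaf 6217) (.leaf 8367)))) (.node (.node (.node (.leaf 900) (.leaf 5595)) (.node (.leaf 5723) (.leaf 7775))) (.node (.node (.leaf 1960) (.leaf 6703)) (.node (.leaf 4229) (.leaf 8968))))))) (.node (.node (.node (.node (.node (.node (.leaf 251) (.leaf 5403)) (.node (.leaf 2154) (.leaf 8426))) (.node (.node (.leaf 1051) (.leaf 5822)) (.node (.leaf 3433) (.leaf 8951)))) (.node (.node (.node (.leaf 625) (.leaf 5660)) (.node (.leaf 2885) (.leaf 7428))) (.node (.node (.leaf 1623) (.leaf 6397)) (.node (.leaf 3935) (.leaf 8629))))) (.node (.node (.node (.node (.leaf 461) (.leaf 4744)) (.node (.leaf 2668) (.leaf 7191))) (.node (.node (.leaf 1414) (.leaf 6093)) (.node (.leaf 6196) (.leaf 8267)))) (.node (.node (.node (.leaf 1365) (.leaf 5486)) (.node (.leaf 4373) (.leaf 7717))) (.node (.node (.leaf 1889) (.leaf 6647)) (.node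 (.leaf 4154) (.leaf 8878)))))) (.node (.node (.node (.node (.node (.leaf 322) (.leaf 4605)) (.node (.leaf 2527) (.leaf 7083))) (.node (.node (.leaf 3172) (.leaf 5965)) (.node (.leaf 3527) (.leaf 8142)))) (.node (.node (.node (.leaf 2396) (.leaf 5375)) (.node (.leaf 2991) (.leaf 7586))) (.node (.node (.leaf 1756) (.leaf 6504)) (.node (.leaf 4022) (.leaf 8744))))) (.node (.node (.node (.node (.leaf 531) (.leaf 5449)) (.node (.leaf 4950) (.leaf 7307))) (.node (.node (.leaf 2314) (.leaf 6237)) (.node (.leaf 6163) (.leaf 8455)))) (.node (.node (.node (.leaf 1344) (.leaf 5765)) (.node (.leaf 5188) (.leaf 7823))) (.node (.node (.leaf 2137) (.leaf 6757)) (.node (.leaf 4286) (.leaf 9059)))))))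
def dFin_50 : BT := .node (.node (.node (.node (.node (.node (.node (.leaf 285) (.leaf 6908)) (.node (.leaf 2115) (.leaf 8361))) (.node (.node (.leaf 1035) (.leaf 5792)) (.node (.leaf 4513) (.leaf 7951)))) (.node (.node (.node (.leaf 599) (.leaf 5624)) (.node (.leaf 2865) (.leaf 8112))) (.node (.node (.leaf 1590) (.leaf 6328)) (.node (.leaf 3902) (.leaf 8587))))) (.node (.node (.node (.node (.leaf 404) (.leaf 4727)) (.node (.leaf 4793) (.leaf 7161))) (.node (.node (.leaf 1236) (.leaf 6069)) (.node (.leaf 3649) (.leaf 8238)))) (.node (.node (.node (.leaf 1363) (.leaf 5445)) (.node (.leaf 4323) (.leaf 7681))) (.node (.node (.leaf 3999) (.leaf 6602)) (.node (.leaf 4131) (.leaf 8845)))))) (.node (.node (.node (.node (.node (.leaf 379) (.leaf 4579)) (.node (.leaf 2509) (.leaf 8541))) (.node (.node (.leaf 1115) (.leaf 6503)) (.node (.leaf 3503) (.leaf 8102)))) (.node (.node (.node (.leaf 677) (.leaf 5344)) (.node (.leaf 2947) (.leaf 7575))) (.node (.node (.leaf 1733) (.leaf 8014)) (.node (.leaf 4003) (.leaf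 8692))))) (.node (.node (.node (.node (.leaf 1281) (.leaf 4898)) (.node (.leaf 2772) (.leaf 7272))) (.node (.node (.leaf 3099) (.leaf 6167)) (.node (.leaf 3793) (.leaf 8409)))) (.node (.node (.node (.leaf 2437) (.leaf 7498)) (.node (.leaf 3252) (.leaf 7799))) (.node (.node (.leaf 2120) (.leaf 6723)) (.node (.leaf 4482) (.leaf 9011))))))) (.node (.node (.node (.node (.node (.node (.leaf 180) (.leaf 4476)) (.node (.leaf 2207) (.leaf 8478))) (.node (.node (.leaf 1068) (.leaf 5868)) (.node (.leaf 3457) (.leaf 8059)))) (.node (.node (.node (.leaf 645) (.leaf 5673)) (.node (.leaf 2902) (.leaf 7462))) (.node (.node (.leaf 1685) (.leaf 6404)) (.node (.leaf 3957) (.leaf 8997))))) (.node (.node (.node (.node (.leaf 457) (.leaf 4777)) (.node (.leaf 2729) (.leaf 7229))) (.node (.node (.leaf 1444) (.leaf 6113)) (.node (.leaf 3700) (.leaf 8321)))) (.node (.node (.node (.leaf 3394) (.leaf 5567)) (.node (.leaf 3190) (.leaf 7745))) (.node (.node (.leaf 1894) (.leaf 6671)) (.node (.leaf 6714) (.leaf 8925)))))) (.node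 (.node (.node (.node (.node (.leaf 348) (.leaf 4659)) (.node (.leaf 2579) (.leaf 7078))) (.node (.node (.leaf 2153) (.leaf 5995)) (.node (.leaf 3544) (.leaf 8186)))) (.node (.node (.node (.leaf 765) (.leaf 5395)) (.node (.leaf 3025) (.leaf 8520))) (.node (.node (.leaf 2637) (.leaf 6543)) (.node (.leaf 4067) (.leaf 8776))))) (.node (.node (.node (.node (.leaf 551) (.leaf 5489)) (.node (.leaf 2820) (.leaf 7329))) (.node (.node (.leaf 1551) (.leaf 6252)) (.node (.leaf 3842) (.leaf 8499)))) (.node (.node (.node (.leaf 972) (.leaf 7563)) (.node (.leaf 3353) (.leaf 7863))) (.node (.node (.leaf 2453) (.leaf 6778)) (.leaf 6587))))))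
def dFin_51 : BT := .node dFin_49 dFin_50
def dFin_52 : BT := .node dFin_48 dFin_51
def dFin_53 : BT := .node (.node (.node (.node (.node (.node (.node (.leaf 14) (.leaf 4346)) (.node (.leaf 2067) (.leaf 6834))) (.node (.node (.leaf 1009) (.leaf 5742)) (.node (.leaf 3345) (.leaf 7906)))) (.node (.node (.node (.leaf 558) (.leaf 6687)) (.node (.leaf 2837) (.leaf 7350))) (.node (.node (.leaf 1563) (.leaf 6280)) (.node (.leaf 3857) (.leaf 8534))))) (.node (.node (.node (.node (.leaf 2295) (.leaf 6297)) (.node (.leaf 2604) (.leaf 7109))) (.node (.node (.leaf 2229) (.leaf 6014)) (.node (.leaf 6053) (.leaf 8203)))) (.node (.node (.node (.leaf 757) (.leaf 5404)) (.node (.leaf 3083) (.leaf 7645))) (.node (.node (.leaf 3692) (.leaf 6561)) (.node (.leaf 4897) (.leaf 8801)))))) (.node (.node (.node (.node (.node (.leaf 510) (.leaf 4499)) (.node (.leaf 2459) (.leaf 6977))) (.node (.node (.leaf 1243) (.leaf 5891)) (.node (.leaf 3469) (.leaf 8051)))) (.node (.node (.node (.leaf 1853) (.leaf 5311)) (.node (.leaf 2919)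 (.leaf 7967))) (.node (.node (.leaf 1698) (.leaf 6437)) (.node (.leaf 3971) (.leaf 8808))))) (.node (.node (.node (.node (.leaf 474) (.leaf 7132)) (.node (.leaf 2722) (.leaf 7267))) (.node (.node (.leaf 1461) (.leaf 6375)) (.node (.leaf 6442) (.leaf 8345)))) (.node (.node (.node (.leaf 868) (.leaf 7460)) (.node (.leaf 3229) (.leaf 7765))) (.node (.node (.leaf 1915) (.leaf 6696)) (.node (.leaf 4413) (.leaf 8960))))))) (.node (.node (.node (.node (.node (.node (.leaf 200) (.leaf 4427)) (.node (.leaf 2138) (.leaf 6912))) (.node (.node (.leaf 1061) (.leaf 5811)) (.node (.leaf 3425) (.leaf 8009)))) (.node (.node (.node (.leaf 1696) (.leaf 5267)) (.node (.leaf 2877) (.leaf 7426))) (.node (.node (.leaf 1615) (.leaf 6356)) (.node (.leaf 3927) (.leaf 8728))))) (.node (.node (.node (.node (.leaf 431) (.leaf 7063)) (.node (.leaf 4582) (.leaf 7183))) (.node (.node (.leaf 2306) (.leaf 7890)) (.node (.leaf 3709) (.leaf 8259)))) (.node (.node (.node (.leaf 1374) (.leaf 5496)) (.node (.leaf 3146) (.leaf 7709))) (.node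 (.node (.leaf 1887) (.leaf 6639)) (.node (.leaf 4335) (.leaf 8870)))))) (.node (.node (.node (.node (.node (.leaf 587) (.leaf 4589)) (.node (.leaf 2534) (.leaf 7037))) (.node (.node (.leaf 1136) (.leaf 5957)) (.node (.leaf 3539) (.leaf 8133)))) (.node (.node (.node (.leaf 1789) (.leaf 5367)) (.node (.leaf 3009) (.leaf 7568))) (.node (.node (.leaf 3777) (.leaf 6495)) (.node (.leaf 4012) (.leaf 8927))))) (.node (.node (.node (.node (.leaf 523) (.leaf 4953)) (.node (.leaf 2785) (.leaf 7294))) (.node (.node (.leaf 1515) (.leaf 6231)) (.node (.leaf 3796) (.leaf 8477)))) (.node (.node (.node (.leaf 937) (.leaf 5676)) (.node (.leaf 3275) (.leaf 7857))) (.node (.node (.leaf 2001) (.leaf 8272)) (.node (.leaf 4280) (.leaf 9049)))))))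
def dFin_54 : BT := .node (.node (.node (.node (.node (.node (.node (.leaf 159) (.leaf 4391)) (.node (.leaf 2107) (.leaf 8386))) (.node (.node (.leaf 1027) (.leaf 5785)) (.node (.leaf 3372) (.leaf 7981)))) (.node (.node (.node (.leaf 2280) (.leaf 5247)) (.node (.leaf 2857) (.leaf 7376))) (.node (.node (.leaf 1582) (.leaf 6320)) (.node (.leaf 3888) (.leaf 8570))))) (.node (.node (.node (.node (.leaf 1323) (.leaf 4702)) (.node (.leaf 2663) (.leaf 7153))) (.node (.node (.leaf 1228) (.leaf 6061)) (.node (.leaf 3642) (.leaf 8227)))) (.node (.node (.node (.leaf 2331) (.leaf 5477)) (.node (.leaf 3104) (.leaf 7673))) (.node (.node (.leaf 5117) (.leaf 6594)) (.node (.leaf 4318) (.leaf 8833)))))) (.node (.node (.node (.node (.node (.leaf 610) (.leaf 4571)) (.node (.leaf 2502) (.leaf 7009))) (.node (.node (.leaf 1110) (.leaf 5921)) (.node (.leaf 3495) (.leaf 8080)))) (.node (.node (.node (.leaf 2395) (.leaf 5336)) (.node (.leaf 5519) (.leaf 7531))) (.node (.node (.leaf 1742) (.leaf 6463)) (.node (.leaf 3989)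 (.leaf 8696))))) (.node (.node (.node (.node (.leaf 503) (.leaf 5167)) (.node (.leaf 2757) (.leaf 8229))) (.node (.node (.leaf 1480) (.leaf 6164)) (.node (.leaf 3789) (.leaf 8401)))) (.node (.node (.node (.leaf 913) (.leaf 5638)) (.node (.leaf 5058) (.leaf 7897))) (.node (.node (.leaf 1977) (.leaf 8225)) (.node (.leaf 4240) (.leaf 9001))))))) (.node (.node (.node (.node (.node (.node (.leaf 78) (.leaf 4467)) (.node (.leaf 2199) (.leaf 6940))) (.node (.node (.leaf 2320) (.leaf 5849)) (.node (.leaf 3449) (.leaf 8055)))) (.node (.node (.node (.leaf 1814) (.leaf 5289)) (.node (.leaf 2894) (.leaf 7466))) (.node (.node (.leaf 3736) (.leaf 6386)) (.node (.leaf 3949) (.leaf 8766))))) (.node (.node (.node (.node (.leaf 453) (.leaf 7107)) (.node (.leaf 2727) (.leaf 7219))) (.node (.node (.leaf 1437) (.leaf 6255)) (.node (.leaf 3718) (.leaf 8313)))) (.node (.node (.node (.leaf 839) (.leaf 5554)) (.node (.leaf 4963) (.leaf 7735))) (.node (.node (.leaf 2420) (.leaf 6660)) (.node (.leaf 4397) (.leaf 8917)))))) (.node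 (.node (.node (.node (.node (.leaf 736) (.leaf 4651)) (.node (.leaf 2570) (.leaf 7064))) (.node (.node (.leaf 3029) (.leaf 5981)) (.node (.leaf 4603) (.leaf 8171)))) (.node (.node (.node (.leaf 761) (.leaf 5387)) (.node (.leaf 3038) (.leaf 7623))) (.node (.node (.leaf 1790) (.leaf 6535)) (.node (.leaf 4849) (.leaf 8763))))) (.node (.node (.node (.node (.leaf 539) (.leaf 5217)) (.node (.leaf 2804) (.leaf 7326))) (.node (.node (.leaf 1543) (.leaf 6265)) (.node (.leaf 3831) (.leaf 8490)))) (.node (.node (.node (.leaf 960) (.leaf 7630)) (.node (.leaf 3299) (.leaf 7854))) (.node (.node (.leaf 2024) (.leaf 8057)) (.leaf 5473))))))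
def dFin_55 : BT := .node dFin_53 dFin_54
def dFin_56 : BT := .node (.node (.node (.node (.node (.node (.node (.leaf 1317) (.leaf 4374)) (.node (.leaf 2090) (.leaf 6851))) (.node (.node (.leaf 1024) (.leaf 5769)) (.node (.leaf 3387) (.leaf 7923)))) (.node (.node (.node (.leaf 2251) (.leaf 5230)) (.node (.leaf 3170) (.leaf 7361))) (.node (.node (.leaf 2626) (.leaf 6301)) (.node (.leaf 3899) (.leaf 8559))))) (.node (.node (.node (.node (.leaf 2402) (.leaf 4695)) (.node (.leaf 2617) (.leaf 7136))) (.node (.node (.leaf 1200) (.leaf 7585)) (.node (.leaf 3589) (.leaf 8355)))) (.node (.node (.node (.leaf 770) (.leaf 5853)) (.node (.leaf 3070) (.leaf 7660))) (.node (.node (.leaf 1829) (.leaf 6615)) (.node (.leaf 4103) (.leaf 8814)))))) (.node (.node (.node (.node (.node (.leaf 262) (.leaf 4558)) (.node (.leaf 2478) (.leaf 6994))) (.node (.node (.leaf 1097) (.leaf 7720)) (.node (.leaf 5658) (.leaf 8064)))) (.node (.node (.node (.leaf 671) (.leaf 7348)) (.node (.leaf 2935) (.leaf 7547))) (.node (.node (.leaf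 1723) (.leaf 7882)) (.node (.leaf 5174) (.leaf 8673))))) (.node (.node (.node (.node (.leaf 1279) (.leaf 4856)) (.node (.leaf 4922) (.leaf 7259))) (.node (.node (.leaf 1491) (.leaf 6140)) (.node (.leaf 3743) (.leaf 8390)))) (.node (.node (.node (.leaf 2568) (.leaf 5603)) (.node (.leaf 3206) (.leaf 7879))) (.node (.node (.leaf 4149) (.leaf 6711)) (.node (.leaf 4215) (.leaf 9037))))))) (.node (.node (.node (.node (.node (.node (.leaf 167) (.leaf 4450)) (.node (.leaf 4314) (.leaf 6923))) (.node (.node (.leaf 1389) (.leaf 5832)) (.node (.leaf 5120) (.leaf 7988)))) (.node (.node (.node (.leaf 633) (.leaf 5274)) (.node (.leaf 5380) (.leaf 7437))) (.node (.node (.leaf 2316) (.leaf 6361)) (.node (.leaf 5101) (.leaf 8631))))) (.node (.node (.node (.node (.leaf 465) (.leaf 4756)) (.node (.leaf 2683) (.leaf 7216))) (.node (.node (.leaf 3324) (.leaf 6101)) (.node (.leaf 3683) (.leaf 8984)))) (.node (.node (.node (.leaf 824) (.leaf 5502)) (.node (.leaf 3153) (.leaf 7726))) (.node (.node (.leaf 1868) (.leaf 7165))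 (.node (.leaf 4164) (.leaf 8943)))))) (.node (.node (.node (.node (.node (.leaf 329) (.leaf 4646)) (.node (.leaf 2541) (.leaf 7085))) (.node (.node (.leaf 1151) (.leaf 5978)) (.node (.leaf 3535) (.leaf 8154)))) (.node (.node (.node (.leaf 717) (.leaf 5382)) (.node (.leaf 2999) (.leaf 7602))) (.node (.node (.leaf 1766) (.leaf 6514)) (.node (.leaf 4038) (.leaf 8755))))) (.node (.node (.node (.node (.leaf 3397) (.leaf 4929)) (.node (.leaf 3069) (.leaf 7315))) (.node (.node (.leaf 1530) (.leaf 6213)) (.node (.leaf 4741) (.leaf 8463)))) (.node (.node (.node (.leaf 2643) (.leaf 5681)) (.node (.leaf 4455) (.leaf 7831))) (.node (.node (.leaf 2143) (.leaf 6765)) (.node (.leaf 4295) (.leaf 9068)))))))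
def dFin_57 : BT := .node (.node (.node (.node (.node (.node (.node (.leaf 302) (.leaf 4418)) (.node (.leaf 4446) (.leaf 6879))) (.node (.node (.leaf 2910) (.leaf 7204)) (.node (.leaf 3406) (.leaf 7957)))) (.node (.node (.node (.leaf 1335) (.leaf 7177)) (.node (.leaf 3185) (.leaf 7389))) (.node (.node (.leaf 3243) (.leaf 6319)) (.node (.leaf 6413) (.leaf 8597))))) (.node (.node (.node (.node (.leaf 410) (.leaf 4735)) (.node (.leaf 2644) (.leaf 7454))) (.node (.node (.leaf 1245) (.leaf 6077)) (.node (.leaf 3657) (.leaf 8278)))) (.node (.node (.node (.leaf 2445) (.leaf 5463)) (.node (.leaf 3125) (.leaf 7688))) (.node (.node (.leaf 1847) (.leaf 6632)) (.node (.leaf 4139) (.leaf 8891)))))) (.node (.node (.node (.node (.node (.leaf 292) (.leaf 4613)) (.node (.leaf 2517) (.leaf 7113))) (.node (.node (.leaf 1123) (.leaf 5942)) (.node (.leaf 6038) (.leaf 8121)))) (.node (.node (.node (.leaf 686) (.leaf 5753)) (.node (.leaf 2955) (.leaf 8365))) (.node (.node (.leaf 1747) (.leaf 7940)) (.node (.leaf 4031) (.leaf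 8707))))) (.node (.node (.node (.node (.leaf 1397) (.leaf 4905)) (.node (.leaf 5209) (.leaf 7282))) (.node (.node (.leaf 1502) (.leaf 6175)) (.node (.leaf 3768) (.leaf 8418)))) (.node (.node (.node (.leaf 922) (.leaf 5647)) (.node (.leaf 5038) (.leaf 7807))) (.node (.node (.leaf 2122) (.leaf 6737)) (.node (.leaf 4251) (.leaf 9028))))))) (.node (.node (.node (.node (.node (.node (.leaf 216) (.leaf 6508)) (.node (.leaf 3359) (.leaf 6948))) (.node (.node (.leaf 1076) (.leaf 5874)) (.node (.leaf 5102) (.leaf 8027)))) (.node (.node (.node (.leaf 653) (.leaf 5304)) (.node (.leaf 2912) (.leaf 7473))) (.node (.node (.leaf 1693) (.leaf 6418)) (.node (.leaf 5123) (.leaf 8651))))) (.node (.node (.node (.node (.leaf 483) (.leaf 4791)) (.node (.leaf 2700) (.leaf 8003))) (.node (.node (.leaf 3377) (.leaf 6123)) (.node (.leaf 3725) (.leaf 8381)))) (.node (.node (.node (.leaf 875) (.leaf 5575)) (.node (.leaf 3181) (.leaf 8664))) (.node (.node (.leaf 2699) (.leaf 6681)) (.node (.leaf 4195) (.leaf 8979)))))) (.node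 (.node (.node (.node (.node (.leaf 357) (.leaf 6192)) (.node (.leaf 2587) (.leaf 7131))) (.node (.node (.leaf 1175) (.leaf 6037)) (.node (.leaf 3554) (.leaf 8608)))) (.node (.node (.node (.leaf 745) (.leaf 5401)) (.node (.leaf 3045) (.leaf 7634))) (.node (.node (.leaf 1801) (.leaf 6585)) (.node (.leaf 4075) (.leaf 8861))))) (.node (.node (.node (.node (.leaf 1065) (.leaf 5196)) (.node (.leaf 3111) (.leaf 7337))) (.node (.node (.leaf 1560) (.leaf 6244)) (.node (.leaf 3861) (.leaf 8507)))) (.node (.node (.node (.leaf 2738) (.leaf 5716)) (.node (.leaf 3338) (.leaf 7871))) (.node (.node (.leaf 2080) (.leaf 6799)) (.leaf 4321))))))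
def dFin_58 : BT := .node dFin_56 dFin_57
def dFin_59 : BT := .node dFin_55 dFin_58
def dFin_60 : BT := .node dFin_52 dFin_59
def dFin_61 : BT := .node dFin_45 dFin_60
def dFin_62 : BT := .node dFin_30 dFin_61
def dFin_63 : BT := .node (.node (.node (.node (.node (.node (.node (.leaf 1) (.leaf 4325)) (.node (.leaf 2085) (.leaf 6804))) (.node (.node (.leaf 1001) (.leaf 5721)) (.node (.leaf 3342) (.leaf 7872)))) (.node (.node (.node (.leaf 2333) (.leaf 5199)) (.node (.leaf 3113) (.leaf 7338))) (.node (.node (.leaf 5007) (.leaf 6247)) (.node (.leaf 3835) (.leaf 8508))))) (.node (.node (.node (.node (.leaf 358) (.leaf 4673)) (.node (.leaf 2588) (.leaf 7106))) (.node (.node (.leaf 1180) (.leaf 6030)) (.node (.leaf 3557) (.leaf 8585)))) (.node (.node (.node (.leaf 746) (.leaf 5821)) (.node (.leaf 3046) (.leaf 8443))) (.node (.node (.leaf 1802) (.leaf 6577)) (.node (.leaf 4043) (.leaf 8790)))))) (.node (.node (.node (.node (.node (.leaf 178) (.leaf 4497)) (.node (.leaf 4176) (.leaf 6950))) (.node (.node (.leaf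 1385) (.leaf 5876)) (.node (.leaf 5106) (.leaf 8028)))) (.node (.node (.node (.leaf 654) (.leaf 7249)) (.node (.leaf 3245) (.leaf 7474))) (.node (.node (.leaf 3832) (.leaf 7093)) (.node (.leaf 3959) (.leaf 8652))))) (.node (.node (.node (.node (.leaf 464) (.leaf 4794)) (.node (.leaf 2703) (.leaf 7503))) (.node (.node (.leaf 1439) (.leaf 6124)) (.node (.leaf 3726) (.leaf 8348)))) (.node (.node (.node (.leaf 866) (.leaf 5576)) (.node (.leaf 3186) (.leaf 7783))) (.node (.node (.leaf 1900) (.leaf 6686)) (.node (.leaf 4196) (.leaf 8942))))))) (.node (.node (.node (.node (.node (.node (.leaf 1302) (.leaf 4424)) (.node (.leaf 4354) (.leaf 6884))) (.node (.node (.leaf 1044) (.leaf 5796)) (.node (.leaf 3409) (.leaf 7958)))) (.node (.node (.node (.leaf 583) (.leaf 5615)) (.node (.leaf 4966) (.leaf 7390))) (.node (.node (.leaf 1604) (.leaf 6322)) (.node (.leaf 3911) (.leaf 8598))))) (.node (.node (.node (.node (.leaf 416) (.leaf 4736)) (.node (.leaf 2647) (.leaf 7199))) (.node (.node (.leaf 1246) (.leaf 7353))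 (.node (.leaf 3658) (.leaf 8273)))) (.node (.node (.node (.leaf 800) (.leaf 5472)) (.node (.leaf 3126) (.leaf 7693))) (.node (.node (.leaf 1848) (.leaf 6635)) (.node (.leaf 4140) (.leaf 8856)))))) (.node (.node (.node (.node (.node (.leaf 265) (.leaf 4591)) (.node (.leaf 2518) (.leaf 7067))) (.node (.node (.leaf 1124) (.leaf 5939)) (.node (.leaf 5671) (.leaf 8116)))) (.node (.node (.node (.leaf 689) (.leaf 5755)) (.node (.leaf 4267) (.leaf 7546))) (.node (.node (.leaf 1748) (.leaf 6481)) (.node (.leaf 5998) (.leaf 8708))))) (.node (.node (.node (.node (.leaf 511) (.leaf 4906)) (.node (.leaf 2765) (.leaf 7285))) (.node (.node (.leaf 1505) (.leaf 6176)) (.node (.leaf 3771) (.leaf 8469)))) (.node (.node (.node (.leaf 919) (.leaf 5648)) (.node (.leaf 3260) (.leaf 8513))) (.node (.node (.leaf 1986) (.leaf 6738)) (.node (.leaf 4252) (.leaf 9036)))))))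
def dFin_64 : BT := .node (.node (.node (.node (.node (.node (.node (.leaf 2368) (.leaf 5767)) (.node (.leaf 2087) (.leaf 6852))) (.node (.node (.leaf 1141) (.leaf 5770)) (.node (.leaf 3388) (.leaf 7924)))) (.node (.node (.node (.leaf 1229) (.leaf 5232)) (.node (.leaf 2847) (.leaf 7362))) (.node (.node (.leaf 1596) (.leaf 6302)) (.node (.leaf 3886) (.leaf 8560))))) (.node (.node (.node (.node (.leaf 382) (.leaf 6273)) (.node (.leaf 2618) (.leaf 7133))) (.node (.node (.leaf 1203) (.leaf 6042)) (.node (.leaf 3590) (.leaf 8224)))) (.node (.node (.node (.leaf 773) (.leaf 5430)) (.node (.leaf 3073) (.leaf 7685))) (.node (.node (.leaf 1830) (.leaf 6584)) (.node (.leaf 4104) (.leaf 8816)))))) (.node (.node (.node (.node (.node (.leaf 269) (.leaf 4561)) (.node (.leaf 2482) (.leaf 7899))) (.node (.node (.leaf 1098) (.leaf 5907)) (.node (.leaf 3511) (.leaf 8067)))) (.node (.node (.node (.leaf 672) (.leaf 5334)) (.node (.leaf 5400) (.leaf 7500))) (.node (.node (.leaf 1724) (.leaf 7913)) (.node (.leaf 6205) (.leaf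 8676))))) (.node (.node (.node (.node (.leaf 493) (.leaf 4861)) (.node (.leaf 2742) (.leaf 7263))) (.node (.node (.leaf 3350) (.leaf 6143)) (.node (.leaf 3748) (.leaf 8387)))) (.node (.node (.node (.leaf 903) (.leaf 5604)) (.node (.leaf 3211) (.leaf 8391))) (.node (.node (.leaf 4150) (.leaf 6712)) (.node (.leaf 4216) (.leaf 8985))))))) (.node (.node (.node (.node (.node (.node (.leaf 300) (.leaf 4483)) (.node (.leaf 2189) (.leaf 6924))) (.node (.node (.leaf 2452) (.leaf 5836)) (.node (.leaf 5126) (.leaf 7991)))) (.node (.node (.node (.leaf 1369) (.leaf 6697)) (.node (.leaf 3230) (.leaf 7438))) (.node (.node (.leaf 1673) (.leaf 6365)) (.node (.leaf 6451) (.leaf 8632))))) (.node (.node (.node (.node (.leaf 741) (.leaf 4759)) (.node (.leaf 2684) (.leaf 7469))) (.node (.node (.leaf 1422) (.leaf 7015)) (.node (.leaf 3684) (.leaf 8295)))) (.node (.node (.node (.leaf 5028) (.leaf 5505)) (.node (.leaf 3154) (.leaf 8493))) (.node (.node (.leaf 1871) (.leaf 6783)) (.node (.leaf 4167) (.leaf 8931)))))) (.node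 (.node (.node (.node (.node (.leaf 330) (.leaf 4649)) (.node (.leaf 2544) (.leaf 7062))) (.node (.node (.leaf 1152) (.leaf 6000)) (.node (.leaf 5020) (.leaf 8160)))) (.node (.node (.node (.leaf 718) (.leaf 7195)) (.node (.leaf 3000) (.leaf 7608))) (.node (.node (.leaf 1769) (.leaf 6517)) (.node (.leaf 4045) (.leaf 8746))))) (.node (.node (.node (.node (.leaf 1445) (.leaf 4930)) (.node (.leaf 4944) (.leaf 7316))) (.node (.node (.leaf 1527) (.leaf 6218)) (.node (.leaf 3816) (.leaf 8464)))) (.node (.node (.node (.leaf 4843) (.leaf 5686)) (.node (.leaf 5525) (.leaf 7834))) (.node (.node (.leaf 2164) (.leaf 6766)) (.leaf 4296))))))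
def dFin_65 : BT := .node dFin_63 dFin_64
def dFin_66 : BT := .node (.node (.node (.node (.node (.node (.node (.leaf 171) (.leaf 4350)) (.node (.leaf 2068) (.leaf 6845))) (.node (.node (.leaf 1010) (.leaf 5748)) (.node (.leaf 3346) (.leaf 7943)))) (.node (.node (.node (.leaf 561) (.leaf 5535)) (.node (.leaf 2838) (.leaf 7663))) (.node (.node (.leaf 1564) (.leaf 6284)) (.node (.leaf 3858) (.leaf 8543))))) (.node (.node (.node (.node (.leaf 375) (.leaf 4680)) (.node (.leaf 4713) (.leaf 7114))) (.node (.node (.leaf 3080) (.leaf 6017)) (.node (.leaf 5044) (.leaf 8204)))) (.node (.node (.node (.leaf 760) (.leaf 5407)) (.node (.leaf 3068) (.leaf 7646))) (.node (.node (.leaf 1823) (.leaf 6562)) (.node (.leaf 5969) (.leaf 8802)))))) (.node (.node (.node (.node (.node (.leaf 266) (.leaf 4502)) (.node (.leaf 2463) (.leaf 6980))) (.node (.node (.leaf 2321) (.leaf 5892)) (.node (.leaf 3470) (.leaf 8054)))) (.node (.node (.node (.leaf 669) (.leaf 5312)) (.node (.leaf 2920) (.leaf 7504))) (.node (.node (.leaf 3870)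 (.leaf 6438)) (.node (.leaf 3972) (.leaf 8667))))) (.node (.node (.node (.node (.leaf 477) (.leaf 4878)) (.node (.leaf 2977) (.leaf 7238))) (.node (.node (.leaf 1462) (.leaf 6228)) (.node (.leaf 3746) (.leaf 8350)))) (.node (.node (.node (.leaf 871) (.leaf 5611)) (.node (.leaf 5789) (.leaf 7766))) (.node (.node (.leaf 1891) (.leaf 7303)) (.node (.leaf 4437) (.leaf 8963))))))) (.node (.node (.node (.node (.node (.node (.leaf 158) (.leaf 4430)) (.node (.leaf 2141) (.leaf 6909))) (.node (.node (.leaf 1042) (.leaf 6941)) (.node (.leaf 3426) (.leaf 7980)))) (.node (.node (.node (.leaf 1752) (.leaf 5268)) (.node (.leaf 2878) (.leaf 7459))) (.node (.node (.leaf 1616) (.leaf 6388)) (.node (.leaf 3928) (.leaf 8611))))) (.node (.node (.node (.node (.leaf 1324) (.leaf 7128)) (.node (.leaf 4677) (.leaf 7184))) (.node (.node (.leaf 2758) (.leaf 6086)) (.node (.leaf 3669) (.leaf 8260)))) (.node (.node (.node (.leaf 2448) (.leaf 5476)) (.node (.leaf 3171) (.leaf 7710))) (.node (.node (.leaf 5011) (.leaf 6640)) (.node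 (.leaf 4358) (.leaf 8873)))))) (.node (.node (.node (.node (.node (.leaf 319) (.leaf 4592)) (.node (.leaf 2538) (.leaf 7038))) (.node (.node (.leaf 3139) (.leaf 5958)) (.node (.leaf 3514) (.leaf 8134)))) (.node (.node (.node (.leaf 708) (.leaf 5368)) (.node (.leaf 5474) (.leaf 7571))) (.node (.node (.leaf 1778) (.leaf 6496)) (.node (.leaf 4015) (.leaf 8771))))) (.node (.node (.node (.node (.leaf 524) (.leaf 5435)) (.node (.leaf 2786) (.leaf 7300))) (.node (.node (.leaf 1516) (.leaf 6211)) (.node (.leaf 3803) (.leaf 8448)))) (.node (.node (.node (.leaf 938) (.leaf 5706)) (.node (.leaf 3239) (.leaf 7884))) (.node (.node (.leaf 2002) (.leaf 6917)) (.node (.leaf 4277) (.leaf 9050)))))))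
def dFin_67 : BT := .node (.node (.node (.node (.node (.node (.node (.leaf 15) (.leaf 4392)) (.node (.leaf 2108) (.leaf 6882))) (.node (.node (.leaf 1028) (.leaf 7373)) (.node (.leaf 3379) (.leaf 7971)))) (.node (.node (.node (.leaf 592) (.leaf 5219)) (.node (.leaf 2858) (.leaf 7379))) (.node (.node (.leaf 1585) (.leaf 6350)) (.node (.leaf 3891) (.leaf 8609))))) (.node (.node (.node (.node (.leaf 2406) (.leaf 6423)) (.node (.leaf 5125) (.leaf 7154))) (.node (.node (.leaf 1234) (.leaf 6062)) (.node (.leaf 3715) (.leaf 8230)))) (.node (.node (.node (.leaf 1963) (.leaf 5426)) (.node (.leaf 3110) (.leaf 7674))) (.node (.node (.leaf 3745) (.leaf 6597)) (.node (.leaf 4148) (.leaf 8834)))))) (.node (.node (.node (.node (.node (.leaf 119) (.leaf 4572)) (.node (.leaf 5047) (.leaf 7010))) (.node (.node (.leaf 1129) (.leaf 5922)) (.node (.leaf 3496) (.leaf 8114)))) (.node (.node (.node (.leaf 1888) (.leaf 5339)) (.node (.leaf 2940) (.leaf 7539))) (.node (.node (.leaf 3885) (.leaf 6464)) (.node (.leaf 3990) (.leaf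 8727))))) (.node (.node (.node (.node (.leaf 504) (.leaf 4889)) (.node (.leaf 5248) (.leaf 7266))) (.node (.node (.leaf 1483) (.leaf 6415)) (.node (.leaf 3794) (.leaf 8402)))) (.node (.node (.node (.leaf 914) (.leaf 5665)) (.node (.leaf 3242) (.leaf 7792))) (.node (.node (.leaf 1978) (.leaf 6734)) (.node (.leaf 5187) (.leaf 9004))))))) (.node (.node (.node (.node (.node (.node (.leaf 81) (.leaf 4468)) (.node (.leaf 2200) (.leaf 8215))) (.node (.node (.leaf 1060) (.leaf 5850)) (.node (.leaf 3450) (.leaf 8047)))) (.node (.node (.node (.leaf 929) (.leaf 5290)) (.node (.leaf 2897) (.leaf 7495))) (.node (.node (.leaf 1678) (.leaf 7127)) (.node (.leaf 3950) (.leaf 8745))))) (.node (.node (.node (.node (.leaf 454) (.leaf 4789)) (.node (.leaf 5138) (.leaf 7220))) (.node (.node (.leaf 3434) (.leaf 6103)) (.node (.leaf 3708) (.leaf 8314)))) (.node (.node (.node (.leaf 1341) (.leaf 5560)) (.node (.leaf 3184) (.leaf 7736))) (.node (.node (.leaf 1893) (.leaf 6662)) (.node (.leaf 4181) (.leaf 8918)))))) (.node (.node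 (.node (.node (.node (.leaf 345) (.leaf 4652)) (.node (.leaf 4669) (.leaf 7071))) (.node (.node (.leaf 5150) (.leaf 5984)) (.node (.leaf 3538) (.leaf 8172)))) (.node (.node (.node (.leaf 1961) (.leaf 5388)) (.node (.leaf 5497) (.leaf 7624))) (.node (.node (.leaf 3811) (.leaf 6536)) (.node (.leaf 4060) (.leaf 8879))))) (.node (.node (.node (.node (.leaf 540) (.leaf 5530)) (.node (.leaf 2807) (.leaf 8303))) (.node (.node (.leaf 1544) (.leaf 6355)) (.node (.leaf 3801) (.leaf 8522)))) (.node (.node (.node (.leaf 963) (.leaf 5718)) (.node (.leaf 3300) (.leaf 7856))) (.node (.node (.leaf 2031) (.leaf 6796)) (.leaf 4326))))))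
def dFin_68 : BT := .node dFin_66 dFin_67
def dFin_69 : BT := .node dFin_65 dFin_68
def dFin_70 : BT := .node (.node (.node (.node (.node (.node (.node (.leaf 9) (.leaf 4341)) (.node (.leaf 2060) (.leaf 6818))) (.node (.node (.leaf 2761) (.leaf 5731)) (.node (.leaf 3332) (.leaf 7901)))) (.node (.node (.node (.leaf 574) (.leaf 5211)) (.node (.leaf 2830) (.leaf 7665))) (.node (.node (.leaf 1555) (.leaf 6261)) (.node (.leaf 3846) (.leaf 8527))))) (.node (.node (.node (.node (.leaf 366) (.leaf 4671)) (.node (.leaf 2601) (.leaf 7094))) (.node (.node (.leaf 1390) (.leaf 6972)) (.node (.leaf 3571) (.leaf 8194)))) (.node (.node (.node (.leaf 754) (.leaf 5829)) (.node (.leaf 5459) (.leaf 7638))) (.node (.node (.leaf 1781) (.leaf 6556)) (.node (.leaf 4085) (.leaf 8794)))))) (.node (.node (.node (.node (.node (.leaf 456) (.leaf 4488)) (.node (.leaf 2486) (.leaf 6966))) (.node (.node (.leaf 2823) (.leaf 5884)) (.node (.leaf 5911) (.leaf 8036)))) (.node (.node (.node (.leaf 5082) (.leaf 5300)) (.node (.leaf 3257)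 (.leaf 7484))) (.node (.node (.leaf 1705) (.leaf 6430)) (.node (.leaf 7412) (.leaf 8662))))) (.node (.node (.node (.node (.leaf 469) (.leaf 4876)) (.node (.leaf 2717) (.leaf 7515))) (.node (.node (.leaf 1452) (.leaf 6148)) (.node (.leaf 3734) (.leaf 8364)))) (.node (.node (.node (.leaf 859) (.leaf 5613)) (.node (.leaf 3198) (.leaf 7753))) (.node (.node (.leaf 1908) (.leaf 6837)) (.node (.leaf 5318) (.leaf 8977))))))) (.node (.node (.node (.node (.node (.node (.leaf 197) (.leaf 4414)) (.node (.leaf 2152) (.leaf 6900))) (.node (.node (.leaf 1177) (.leaf 5804)) (.node (.leaf 3418) (.leaf 7966)))) (.node (.node (.node (.leaf 615) (.leaf 5260)) (.node (.leaf 2869) (.leaf 7398))) (.node (.node (.leaf 1613) (.leaf 6342)) (.node (.leaf 3920) (.leaf 8697))))) (.node (.node (.node (.node (.leaf 424) (.leaf 4746)) (.node (.leaf 2655) (.leaf 7176))) (.node (.node (.leaf 1254) (.leaf 6083)) (.node (.leaf 3671) (.leaf 8252)))) (.node (.node (.node (.leaf 808) (.leaf 7421)) (.node (.leaf 3095) (.leaf 7706))) (.node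 (.node (.leaf 1860) (.leaf 6657)) (.node (.leaf 5182) (.leaf 8865)))))) (.node (.node (.node (.node (.node (.leaf 1310) (.leaf 4602)) (.node (.leaf 2529) (.leaf 7028))) (.node (.node (.leaf 1161) (.leaf 5948)) (.node (.leaf 3524) (.leaf 8126)))) (.node (.node (.node (.leaf 2405) (.leaf 6717)) (.node (.leaf 3010) (.leaf 7561))) (.node (.node (.leaf 2415) (.leaf 6488)) (.node (.leaf 4020) (.leaf 8718))))) (.node (.node (.node (.node (.leaf 1576) (.leaf 4914)) (.node (.leaf 2778) (.leaf 7591))) (.node (.node (.leaf 1508) (.leaf 6201)) (.node (.leaf 3783) (.leaf 8473)))) (.node (.node (.node (.leaf 930) (.leaf 7628)) (.node (.leaf 3268) (.leaf 7815))) (.node (.node (.leaf 1994) (.leaf 6749)) (.node (.leaf 4260) (.leaf 9044)))))))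
def dFin_71 : BT := .node (.node (.node (.node (.node (.node (.node (.leaf 121) (.leaf 4384)) (.node (.leaf 5039) (.leaf 6860))) (.node (.node (.leaf 1143) (.leaf 5778)) (.node (.leaf 3367) (.leaf 7945)))) (.node (.node (.node (.leaf 589) (.leaf 5240)) (.node (.leaf 2850) (.leaf 8327))) (.node (.node (.leaf 2542) (.leaf 6310)) (.node (.leaf 3879) (.leaf 8579))))) (.node (.node (.node (.node (.leaf 390) (.leaf 4710)) (.node (.leaf 3867) (.leaf 7170))) (.node (.node (.leaf 1215) (.leaf 6052)) (.node (.leaf 3647) (.leaf 8216)))) (.node (.node (.node (.leaf 781) (.leaf 5442)) (.node (.leaf 3098) (.leaf 7666))) (.node (.node (.leaf 1838) (.leaf 8061)) (.node (.leaf 4283) (.leaf 8826)))))) (.node (.node (.node (.node (.node (.leaf 2318) (.leaf 6059)) (.node (.leaf 2495) (.leaf 7002))) (.node (.node (.leaf 2975) (.leaf 5914)) (.node (.leaf 3483) (.leaf 8075)))) (.node (.node (.node (.leaf 694) (.leaf 5327)) (.node (.leaf 3283) (.leaf 7524))) (.node (.node (.leaf 1736) (.leaf 6456)) (.node (.leaf 4863) (.leaf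 8684))))) (.node (.node (.node (.node (.leaf 496) (.leaf 4874)) (.node (.leaf 2750) (.leaf 8279))) (.node (.node (.leaf 1475) (.leaf 6157)) (.node (.leaf 3760) (.leaf 8430)))) (.node (.node (.node (.leaf 906) (.leaf 5659)) (.node (.leaf 3223) (.leaf 8107))) (.node (.node (.leaf 1970) (.leaf 6881)) (.node (.leaf 4226) (.leaf 8996))))))) (.node (.node (.node (.node (.node (.node (.leaf 73) (.leaf 4460)) (.node (.leaf 2195) (.leaf 6932))) (.node (.node (.leaf 4965) (.leaf 5842)) (.node (.leaf 7410) (.leaf 7999)))) (.node (.node (.node (.leaf 1677) (.leaf 5282)) (.node (.leaf 4228) (.leaf 7446))) (.node (.node (.leaf 1669) (.leaf 6377)) (.node (.leaf 3942) (.leaf 8973))))) (.node (.node (.node (.node (.leaf 446) (.leaf 5905)) (.node (.leaf 2692) (.leaf 8645))) (.node (.node (.leaf 1430) (.leaf 6188)) (.node (.leaf 6314) (.leaf 8332)))) (.node (.node (.node (.leaf 832) (.leaf 5544)) (.node (.leaf 3162) (.leaf 7728))) (.node (.node (.leaf 1881) (.leaf 6795)) (.node (.leaf 4205) (.leaf 8908)))))) (.node (.node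 (.node (.node (.node (.leaf 338) (.leaf 4717)) (.node (.leaf 2575) (.leaf 7055))) (.node (.node (.leaf 3276) (.leaf 5973)) (.node (.leaf 6081) (.leaf 8164)))) (.node (.node (.node (.leaf 1332) (.leaf 6755)) (.node (.leaf 3028) (.leaf 7616))) (.node (.node (.leaf 1783) (.leaf 6528)) (.node (.leaf 4049) (.leaf 8756))))) (.node (.node (.node (.node (.leaf 865) (.leaf 4940)) (.node (.leaf 2799) (.leaf 7323))) (.node (.node (.leaf 1536) (.leaf 7079)) (.node (.leaf 3824) (.leaf 8479)))) (.node (.node (.node (.leaf 2408) (.leaf 5694)) (.node (.leaf 3292) (.leaf 7849))) (.node (.node (.leaf 2019) (.leaf 6784)) (.leaf 4304))))))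
def dFin_72 : BT := .node dFin_70 dFin_71
def dFin_73 : BT := .node (.node (.node (.node (.node (.node (.node (.leaf 210) (.leaf 4396)) (.node (.leaf 3087) (.leaf 7611))) (.node (.node (.leaf 1018) (.leaf 7603)) (.node (.leaf 5869) (.leaf 7916)))) (.node (.node (.node (.leaf 569) (.leaf 5551)) (.node (.leaf 2867) (.leaf 7354))) (.node (.node (.leaf 1574) (.leaf 6294)) (.node (.leaf 3896) (.leaf 8552))))) (.node (.node (.node (.node (.leaf 921) (.leaf 4688)) (.node (.leaf 2610) (.leaf 7124))) (.node (.node (.leaf 2328) (.leaf 6027)) (.node (.leaf 3582) (.leaf 8285)))) (.node (.node (.node (.leaf 764) (.leaf 5415)) (.node (.leaf 3059) (.leaf 7683))) (.node (.node (.leaf 4008) (.leaf 6570)) (.node (.leaf 4096) (.leaf 8886)))))) (.node (.node (.node (.node (.node (.leaf 188) (.leaf 4512)) (.node (.leaf 2473) (.leaf 6985))) (.node (.node (.leaf 1090) (.leaf 5931)) (.node (.leaf 3478) (.leaf 8058)))) (.node (.node (.node (.leaf 662) (.leaf 5328)) (.node (.leaf 2928) (.leaf 7516))) (.node (.node (.leaf 1716)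 (.leaf 6447)) (.node (.leaf 3980) (.leaf 8819))))) (.node (.node (.node (.node (.leaf 1005) (.leaf 4851)) (.node (.leaf 2983) (.leaf 7252))) (.node (.node (.leaf 1472) (.leaf 6135)) (.node (.leaf 6379) (.leaf 8370)))) (.node (.node (.node (.leaf 1366) (.leaf 5596)) (.node (.leaf 3218) (.leaf 7776))) (.node (.node (.leaf 2081) (.leaf 6704)) (.node (.leaf 4207) (.leaf 8971))))))) (.node (.node (.node (.node (.node (.node (.leaf 277) (.leaf 4447)) (.node (.leaf 2157) (.leaf 6945))) (.node (.node (.leaf 1052) (.leaf 5861)) (.node (.leaf 3401) (.leaf 8005)))) (.node (.node (.node (.leaf 626) (.leaf 5637)) (.node (.leaf 2886) (.leaf 7430))) (.node (.node (.leaf 1624) (.leaf 6370)) (.node (.leaf 6578) (.leaf 8622))))) (.node (.node (.node (.node (.leaf 1003) (.leaf 4749)) (.node (.leaf 2676) (.leaf 7192))) (.node (.node (.leaf 1417) (.leaf 6094)) (.node (.leaf 3676) (.leaf 8268)))) (.node (.node (.node (.leaf 815) (.leaf 5491)) (.node (.leaf 5708) (.leaf 7718))) (.node (.node (.leaf 4034) (.leaf 6648)) (.node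 (.leaf 4157) (.leaf 8895)))))) (.node (.node (.node (.node (.node (.leaf 411) (.leaf 4608)) (.node (.leaf 2530) (.leaf 7759))) (.node (.node (.leaf 1144) (.leaf 6473)) (.node (.leaf 3528) (.leaf 8147)))) (.node (.node (.node (.leaf 2403) (.leaf 5376)) (.node (.leaf 2992) (.leaf 7592))) (.node (.node (.leaf 1759) (.leaf 6519)) (.node (.leaf 4025) (.leaf 8773))))) (.node (.node (.node (.node (.leaf 1356) (.leaf 4936)) (.node (.leaf 2796) (.leaf 7308))) (.node (.node (.leaf 3143) (.leaf 6198)) (.node (.leaf 3812) (.leaf 8456)))) (.node (.node (.node (.leaf 2421) (.leaf 5667)) (.node (.leaf 5154) (.leaf 7824))) (.node (.node (.leaf 4241) (.leaf 6758)) (.node (.leaf 4319) (.leaf 9060)))))))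
def dFin_74 : BT := .node (.node (.node (.node (.node (.node (.node (.leaf 226) (.leaf 4412)) (.node (.leaf 2116) (.leaf 6894))) (.node (.node (.leaf 1036) (.leaf 7635)) (.node (.leaf 5221) (.leaf 7948)))) (.node (.node (.node (.leaf 600) (.leaf 5251)) (.node (.leaf 5378) (.leaf 7384))) (.node (.node (.leaf 1593) (.leaf 6336)) (.node (.leaf 3905) (.leaf 8588))))) (.node (.node (.node (.node (.leaf 2394) (.leaf 4728)) (.node (.leaf 2636) (.leaf 7162))) (.node (.node (.leaf 1242) (.leaf 6070)) (.node (.leaf 3650) (.leaf 8277)))) (.node (.node (.node (.leaf 797) (.leaf 5450)) (.node (.leaf 3118) (.leaf 8467))) (.node (.node (.leaf 2713) (.leaf 6605)) (.node (.leaf 4132) (.leaf 8848)))))) (.node (.node (.node (.node (.node (.leaf 676) (.leaf 4580)) (.node (.leaf 2510) (.leaf 7027))) (.node (.node (.leaf 1116) (.leaf 7217)) (.node (.leaf 3504) (.leaf 8139)))) (.node (.node (.node (.leaf 681) (.leaf 6745)) (.node (.leaf 2948) (.leaf 8422))) (.node (.node (.leaf 1738) (.leaf 6477)) (.node (.leaf 4004) (.leaf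 9033))))) (.node (.node (.node (.node (.leaf 2315) (.leaf 5966)) (.node (.leaf 5253) (.leaf 7275))) (.node (.node (.leaf 1495) (.leaf 6168)) (.node (.leaf 6268) (.leaf 8410)))) (.node (.node (.node (.leaf 925) (.leaf 5640)) (.node (.leaf 5759) (.leaf 7800))) (.node (.node (.leaf 2091) (.leaf 6724)) (.node (.leaf 4244) (.leaf 9012))))))) (.node (.node (.node (.node (.node (.node (.leaf 252) (.leaf 6665)) (.node (.leaf 2208) (.leaf 6959))) (.node (.node (.leaf 1071) (.leaf 7689)) (.node (.leaf 3458) (.leaf 8018)))) (.node (.node (.node (.leaf 646) (.leaf 5698)) (.node (.leaf 2905) (.leaf 8735))) (.node (.node (.leaf 1686) (.leaf 6408)) (.node (.leaf 5109) (.leaf 8654))))) (.node (.node (.node (.node (.leaf 460) (.leaf 4780)) (.node (.leaf 4880) (.leaf 7230))) (.node (.node (.leaf 3463) (.leaf 6116)) (.node (.leaf 6360) (.leaf 8322)))) (.node (.node (.node (.leaf 2484) (.leaf 5568)) (.node (.leaf 5035) (.leaf 7746))) (.node (.node (.leaf 1898) (.leaf 6672)) (.node (.leaf 4188) (.leaf 8926)))))) (.node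 (.node (.node (.node (.node (.leaf 351) (.leaf 4660)) (.node (.leaf 2580) (.leaf 7097))) (.node (.node (.leaf 1165) (.leaf 5996)) (.node (.leaf 3549) (.leaf 8189)))) (.node (.node (.node (.leaf 738) (.leaf 5396)) (.node (.leaf 3030) (.leaf 7631))) (.node (.node (.leaf 1794) (.leaf 6544)) (.node (.leaf 4068) (.leaf 8811))))) (.node (.node (.node (.node (.leaf 552) (.leaf 5512)) (.node (.leaf 5223) (.leaf 7330))) (.node (.node (.leaf 3594) (.leaf 6236)) (.node (.leaf 3864) (.leaf 8500)))) (.node (.node (.node (.leaf 1347) (.leaf 6898)) (.node (.leaf 3331) (.leaf 7864))) (.node (.node (.leaf 2079) (.leaf 6780)) (.leaf 4334))))))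
def dFin_75 : BT := .node dFin_73 dFin_74
def dFin_76 : BT := .node dFin_72 dFin_75
def dFin_77 : BT := .node dFin_69 dFin_76
def dFin_78 : BT := .node (.node (.node (.node (.node (.node (.node (.leaf 5) (.leaf 4333)) (.node (.leaf 4313) (.leaf 6810))) (.node (.node (.leaf 1111) (.leaf 5727)) (.node (.leaf 3326) (.leaf 7878)))) (.node (.node (.node (.leaf 5008) (.leaf 5203)) (.node (.leaf 2826) (.leaf 7342))) (.node (.node (.leaf 1567) (.leaf 6257)) (.node (.leaf 3840) (.leaf 9029))))) (.node (.node (.node (.node (.leaf 362) (.leaf 4678)) (.node (.leaf 2592) (.leaf 7116))) (.node (.node (.leaf 1188) (.leaf 6032)) (.node (.leaf 5743) (.leaf 8190)))) (.node (.node (.node (.leaf 750) (.leaf 5825)) (.node (.leaf 4349) (.leaf 7653))) (.node (.node (.leaf 1806) (.leaf 6618)) (.node (.leaf 5173) (.leaf 8788)))))) (.node (.node (.node (.node (.node (.leaf 1326) (.leaf 4504)) (.node (.leaf 2466) (.leaf 6956))) (.node (.node (.leaf 1084) (.leaf 5880)) (.node (.leaf 5941) (.leaf 8032)))) (.node (.node (.node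 (.leaf 2361) (.leaf 5295)) (.node (.leaf 2916) (.leaf 7480))) (.node (.node (.leaf 1703) (.leaf 6426)) (.node (.leaf 3965) (.leaf 8658))))) (.node (.node (.node (.node (.leaf 1192) (.leaf 4798)) (.node (.leaf 2709) (.leaf 7509))) (.node (.node (.leaf 1442) (.leaf 6146)) (.node (.leaf 3730) (.leaf 8354)))) (.node (.node (.node (.leaf 855) (.leaf 5533)) (.node (.leaf 3194) (.leaf 7763))) (.node (.node (.leaf 1904) (.leaf 6833)) (.node (.leaf 4200) (.leaf 8946))))))) (.node (.node (.node (.node (.node (.node (.leaf 254) (.leaf 4402)) (.node (.leaf 2142) (.leaf 6892))) (.node (.node (.leaf 2773) (.leaf 5800)) (.node (.leaf 3414) (.leaf 7962)))) (.node (.node (.node (.leaf 1406) (.leaf 5256)) (.node (.leaf 3191) (.leaf 7394))) (.node (.node (.leaf 1610) (.leaf 6332)) (.node (.leaf 4775) (.leaf 8602))))) (.node (.node (.node (.node (.leaf 420) (.leaf 4766)) (.node (.leaf 2651) (.leaf 8613))) (.node (.node (.leaf 1250) (.leaf 7813)) (.node (.leaf 3662) (.leaf 8248)))) (.node (.node (.node (.leaf 804) (.leaf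 5529)) (.node (.leaf 3130) (.leaf 7699))) (.node (.node (.leaf 1856) (.leaf 6627)) (.node (.leaf 4947) (.leaf 8883)))))) (.node (.node (.node (.node (.node (.leaf 193) (.leaf 4596)) (.node (.leaf 4211) (.leaf 7020))) (.node (.node (.leaf 1393) (.leaf 7731)) (.node (.leaf 3519) (.leaf 8122)))) (.node (.node (.node (.leaf 693) (.leaf 7295)) (.node (.leaf 2973) (.leaf 7553))) (.node (.node (.leaf 2657) (.leaf 6510)) (.node (.leaf 4036) (.leaf 8714))))) (.node (.node (.node (.node (.leaf 517) (.leaf 4910)) (.node (.leaf 2770) (.leaf 7583))) (.node (.node (.leaf 2444) (.leaf 6180)) (.node (.leaf 3779) (.leaf 9023)))) (.node (.node (.node (.leaf 926) (.leaf 5652)) (.node (.leaf 3264) (.leaf 7836))) (.node (.node (.leaf 1990) (.leaf 6742)) (.node (.leaf 4256) (.leaf 9040)))))))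
def dFin_79 : BT := .node (.node (.node (.node (.node (.node (.node (.leaf 103) (.leaf 4380)) (.node (.leaf 2123) (.leaf 6856))) (.node (.node (.leaf 1021) (.leaf 5774)) (.node (.leaf 3362) (.leaf 7930)))) (.node (.node (.node (.leaf 1497) (.leaf 5236)) (.node (.leaf 4187) (.leaf 7366))) (.node (.node (.leaf 3560) (.leaf 6306)) (.node (.leaf 3875) (.leaf 8564))))) (.node (.node (.node (.node (.leaf 386) (.leaf 4707)) (.node (.leaf 2622) (.leaf 7169))) (.node (.node (.leaf 1211) (.leaf 6047)) (.node (.leaf 3565) (.leaf 8209)))) (.node (.node (.node (.leaf 777) (.leaf 5436)) (.node (.leaf 3077) (.leaf 8447))) (.node (.node (.leaf 1834) (.leaf 7947)) (.node (.leaf 4281) (.leaf 8820)))))) (.node (.node (.node (.node (.node (.leaf 304) (.leaf 4551)) (.node (.leaf 2521) (.leaf 6998))) (.node (.node (.leaf 1083) (.leaf 5929)) (.node (.leaf 3493) (.leaf 8071)))) (.node (.node (.node (.leaf 1353) (.leaf 6746)) (.node (.leaf 5189) (.leaf 7512))) (.node (.node (.leaf 1731) (.leaf 6452)) (.node (.leaf 3993) (.leaf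 8680))))) (.node (.node (.node (.node (.leaf 1411) (.leaf 4869)) (.node (.leaf 2746) (.leaf 8301))) (.node (.node (.leaf 1469) (.leaf 7045)) (.node (.leaf 3756) (.leaf 8425)))) (.node (.node (.node (.leaf 2634) (.leaf 5608)) (.node (.leaf 3217) (.leaf 7929))) (.node (.node (.leaf 1966) (.leaf 6720)) (.node (.leaf 4222) (.leaf 9031))))))) (.node (.node (.node (.node (.node (.node (.leaf 2356) (.leaf 5523)) (.node (.leaf 2191) (.leaf 6928))) (.node (.node (.leaf 2228) (.leaf 5838)) (.node (.leaf 3443) (.leaf 7995)))) (.node (.node (.node (.leaf 641) (.leaf 5278)) (.node (.leaf 5346) (.leaf 7442))) (.node (.node (.leaf 1695) (.leaf 6369)) (.node (.leaf 6485) (.leaf 8636))))) (.node (.node (.node (.node (.leaf 442) (.leaf 4764)) (.node (.leaf 2688) (.leaf 7465))) (.node (.node (.leaf 1426) (.leaf 6186)) (.node (.leaf 3688) (.leaf 8331)))) (.node (.node (.node (.leaf 828) (.leaf 5536)) (.node (.leaf 3158) (.leaf 7721))) (.node (.node (.leaf 1877) (.leaf 6789)) (.node (.leaf 4171) (.leaf 8902)))))) (.node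 (.node (.node (.node (.node (.leaf 334) (.leaf 4639)) (.node (.leaf 5054) (.leaf 7050))) (.node (.node (.leaf 1156) (.leaf 5988)) (.node (.leaf 3562) (.leaf 8158)))) (.node (.node (.node (.leaf 722) (.leaf 7327)) (.node (.leaf 3022) (.leaf 7612))) (.node (.node (.leaf 1773) (.leaf 6524)) (.node (.leaf 6283) (.leaf 8750))))) (.node (.node (.node (.node (.leaf 543) (.leaf 4934)) (.node (.leaf 2793) (.leaf 7291))) (.node (.node (.leaf 2503) (.leaf 6224)) (.node (.leaf 3820) (.leaf 8485)))) (.node (.node (.node (.leaf 976) (.leaf 5690)) (.node (.leaf 3288) (.leaf 8844))) (.node (.node (.leaf 2297) (.leaf 6770)) (.leaf 4300))))))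
def dFin_80 : BT := .node dFin_78 dFin_79
def dFin_81 : BT := .node (.node (.node (.node (.node (.node (.node (.leaf 286) (.leaf 4394)) (.node (.leaf 2072) (.leaf 6825))) (.node (.node (.leaf 1014) (.leaf 5756)) (.node (.leaf 3358) (.leaf 7938)))) (.node (.node (.node (.leaf 565) (.leaf 5543)) (.node (.leaf 2842) (.leaf 8307))) (.node (.node (.leaf 1570) (.leaf 6287)) (.node (.leaf 3894) (.leaf 8546))))) (.node (.node (.node (.node (.leaf 897) (.leaf 4684)) (.node (.leaf 2597) (.leaf 7120))) (.node (.node (.leaf 1204) (.leaf 6023)) (.node (.leaf 3578) (.leaf 8607)))) (.node (.node (.node (.leaf 2089) (.leaf 5411)) (.node (.leaf 3052) (.leaf 7650))) (.node (.node (.leaf 1815) (.leaf 6566)) (.node (.leaf 4092) (.leaf 8813)))))) (.node (.node (.node (.node (.node (.leaf 355) (.leaf 4508)) (.node (.leaf 2469) (.leaf 6991))) (.node (.node (.leaf 1086) (.leaf 6547)) (.node (.leaf 3474) (.leaf 8056)))) (.node (.node (.node (.leaf 657) (.leaf 5316)) (.node (.leaf 2924) (.leaf 7510))) (.node (.node (.leaf 1712)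 (.leaf 7972)) (.node (.leaf 3976) (.leaf 8785))))) (.node (.node (.node (.node (.leaf 1294) (.leaf 4864)) (.node (.leaf 2979) (.leaf 7244))) (.node (.node (.leaf 2810) (.leaf 6131)) (.node (.leaf 3752) (.leaf 8362)))) (.node (.node (.node (.leaf 2268) (.leaf 5616)) (.node (.leaf 3236) (.leaf 7770))) (.node (.node (.leaf 4127) (.leaf 6700)) (.node (.leaf 4419) (.leaf 8967))))))) (.node (.node (.node (.node (.node (.node (.leaf 164) (.leaf 5059)) (.node (.leaf 2149) (.leaf 6943))) (.node (.node (.leaf 1048) (.leaf 5857)) (.node (.leaf 3430) (.leaf 8815)))) (.node (.node (.node (.leaf 622) (.leaf 5633)) (.node (.leaf 2882) (.leaf 8693))) (.node (.node (.leaf 1620) (.leaf 6390)) (.node (.leaf 3932) (.leaf 8618))))) (.node (.node (.node (.node (.leaf 441) (.leaf 4743)) (.node (.leaf 2671) (.leaf 7188))) (.node (.node (.leaf 1421) (.leaf 6090)) (.node (.leaf 3694) (.leaf 8264)))) (.node (.node (.node (.leaf 841) (.leaf 5483)) (.node (.leaf 5629) (.leaf 7714))) (.node (.node (.leaf 2422) (.leaf 6644)) (.node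 (.leaf 4152) (.leaf 8877)))))) (.node (.node (.node (.node (.node (.leaf 321) (.leaf 4600)) (.node (.leaf 2524) (.leaf 7042))) (.node (.node (.leaf 2101) (.leaf 5962)) (.node (.leaf 3520) (.leaf 8145)))) (.node (.node (.node (.leaf 711) (.leaf 5372)) (.node (.leaf 2988) (.leaf 7584))) (.node (.node (.leaf 1754) (.leaf 6500)) (.node (.leaf 4019) (.leaf 8767))))) (.node (.node (.node (.node (.leaf 528) (.leaf 5441)) (.node (.leaf 3078) (.leaf 7304))) (.node (.node (.leaf 1520) (.leaf 6220)) (.node (.leaf 3808) (.leaf 8452)))) (.node (.node (.node (.leaf 942) (.leaf 7521)) (.node (.leaf 3279) (.leaf 7820))) (.node (.node (.leaf 4971) (.leaf 7206)) (.node (.leaf 4317) (.leaf 9056)))))))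
def dFin_82 : BT := .node (.node (.node (.node (.node (.node (.node (.leaf 247) (.leaf 4406)) (.node (.leaf 2112) (.leaf 6888))) (.node (.node (.leaf 1032) (.leaf 7423)) (.node (.leaf 3383) (.leaf 8905)))) (.node (.node (.node (.leaf 596) (.leaf 5591)) (.node (.leaf 2862) (.leaf 7381))) (.node (.node (.leaf 1589) (.leaf 6352)) (.node (.leaf 4803) (.leaf 8592))))) (.node (.node (.node (.node (.leaf 2334) (.leaf 4724)) (.node (.leaf 2664) (.leaf 7158))) (.node (.node (.leaf 3253) (.leaf 6066)) (.node (.leaf 6126) (.leaf 8234)))) (.node (.node (.node (.leaf 791) (.leaf 5438)) (.node (.leaf 5559) (.leaf 7678))) (.node (.node (.leaf 1852) (.leaf 6601)) (.node (.leaf 4128) (.leaf 8838)))))) (.node (.node (.node (.node (.node (.leaf 274) (.leaf 4576)) (.node (.leaf 2506) (.leaf 7023))) (.node (.node (.leaf 3050) (.leaf 5926)) (.node (.leaf 3500) (.leaf 8097)))) (.node (.node (.node (.leaf 2397) (.leaf 5343)) (.node (.leaf 2944) (.leaf 8441))) (.node (.node (.leaf 1728) (.leaf 6470)) (.node (.leaf 4000) (.leaf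 8729))))) (.node (.node (.node (.node (.leaf 508) (.leaf 7143)) (.node (.leaf 5177) (.leaf 7271))) (.node (.node (.leaf 2447) (.leaf 7019)) (.node (.leaf 6191) (.leaf 8406)))) (.node (.node (.node (.leaf 1343) (.leaf 6841)) (.node (.leaf 3250) (.leaf 7796))) (.node (.node (.leaf 2093) (.leaf 6718)) (.node (.leaf 4451) (.leaf 9008))))))) (.node (.node (.node (.node (.node (.node (.leaf 415) (.leaf 4472)) (.node (.leaf 2204) (.leaf 6955))) (.node (.node (.leaf 1067) (.leaf 5871)) (.node (.leaf 3454) (.leaf 8980)))) (.node (.node (.node (.leaf 642) (.leaf 7320)) (.node (.leaf 2901) (.leaf 7497))) (.node (.node (.leaf 1682) (.leaf 6403)) (.node (.leaf 3954) (.leaf 8643))))) (.node (.node (.node (.node (.leaf 2301) (.leaf 4773)) (.node (.leaf 4891) (.leaf 7226))) (.node (.node (.leaf 3439) (.leaf 6108)) (.node (.leaf 3716) (.leaf 8318)))) (.node (.node (.node (.leaf 2160) (.leaf 5564)) (.node (.leaf 5683) (.leaf 7742))) (.node (.node (.leaf 3807) (.leaf 6668)) (.node (.leaf 4184) (.leaf 8922)))))) (.node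 (.node (.node (.node (.node (.leaf 817) (.leaf 4656)) (.node (.leaf 4738) (.leaf 7077))) (.node (.node (.leaf 1184) (.leaf 5992)) (.node (.leaf 3543) (.leaf 8185)))) (.node (.node (.node (.leaf 786) (.leaf 5392)) (.node (.leaf 3018) (.leaf 7581))) (.node (.node (.leaf 3913) (.leaf 6540)) (.node (.leaf 4064) (.leaf 8809))))) (.node (.node (.node (.node (.leaf 548) (.leaf 7175)) (.node (.leaf 2816) (.leaf 7345))) (.node (.node (.leaf 1548) (.leaf 6248)) (.node (.leaf 3862) (.leaf 8496)))) (.node (.node (.node (.leaf 971) (.leaf 5722)) (.node (.leaf 4927) (.leaf 7860))) (.node (.node (.leaf 2035) (.leaf 6806)) (.leaf 4330))))))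
def dFin_83 : BT := .node dFin_81 dFin_82
def dFin_84 : BT := .node dFin_80 dFin_83
def dFin_85 : BT := .node (.node (.node (.node (.node (.node (.node (.leaf 13) (.leaf 4345)) (.node (.leaf 2064) (.leaf 6862))) (.node (.node (.leaf 1006) (.leaf 6907)) (.node (.leaf 3340) (.leaf 7905)))) (.node (.node (.node (.leaf 556) (.leaf 5215)) (.node (.leaf 2834) (.leaf 8669))) (.node (.node (.leaf 1558) (.leaf 6279)) (.node (.leaf 3854) (.leaf 8533))))) (.node (.node (.node (.node (.leaf 1306) (.leaf 4699)) (.node (.leaf 2609) (.leaf 7102))) (.node (.node (.leaf 1198) (.leaf 6013)) (.node (.leaf 3576) (.leaf 8200)))) (.node (.node (.node (.leaf 2233) (.leaf 5521)) (.node (.leaf 3091) (.leaf 7642))) (.node (.node (.leaf 3489) (.leaf 6558)) (.node (.leaf 6637) (.leaf 8798)))))) (.node (.node (.node (.node (.node (.leaf 489) (.leaf 4494)) (.node (.leaf 4516) (.leaf 6974))) (.node (.node (.leaf 1237) (.leaf 5888)) (.node (.leaf 3466) (.leaf 8040)))) (.node (.node (.node (.leaf 4844) (.leaf 5308)) (.node (.leaf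 5000) (.leaf 7488))) (.node (.node (.leaf 1707) (.leaf 6434)) (.node (.leaf 3968) (.leaf 8689))))) (.node (.node (.node (.node (.leaf 473) (.leaf 7073)) (.node (.leaf 2721) (.leaf 7299))) (.node (.node (.leaf 1458) (.leaf 6150)) (.node (.leaf 3741) (.leaf 8338)))) (.node (.node (.node (.leaf 863) (.leaf 5583)) (.node (.leaf 4992) (.leaf 7772))) (.node (.node (.leaf 1912) (.leaf 6689)) (.node (.leaf 6751) (.leaf 8959))))))) (.node (.node (.node (.node (.node (.node (.leaf 199) (.leaf 4422)) (.node (.leaf 2135) (.leaf 6904))) (.node (.node (.leaf 2027) (.leaf 5808)) (.node (.leaf 3422) (.leaf 7976)))) (.node (.node (.node (.leaf 619) (.leaf 5264)) (.node (.leaf 2874) (.leaf 7453))) (.node (.node (.leaf 5051) (.leaf 6346)) (.node (.leaf 3924) (.leaf 8641))))) (.node (.node (.node (.node (.leaf 428) (.leaf 4750)) (.node (.leaf 2673) (.leaf 7180))) (.node (.node (.leaf 1337) (.leaf 6995)) (.node (.leaf 3693) (.leaf 8256)))) (.node (.node (.node (.leaf 812) (.leaf 5492)) (.node (.leaf 3167) (.leaf 7704)))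 (.node (.node (.leaf 2723) (.leaf 6655)) (.node (.leaf 6553) (.leaf 8869)))))) (.node (.node (.node (.node (.node (.leaf 317) (.leaf 4586)) (.node (.leaf 4595) (.leaf 7034))) (.node (.node (.leaf 1402) (.leaf 5952)) (.node (.leaf 5043) (.leaf 8130)))) (.node (.node (.node (.leaf 1603) (.leaf 5364)) (.node (.leaf 3003) (.leaf 7567))) (.node (.node (.leaf 2432) (.leaf 6492)) (.node (.leaf 4010) (.leaf 8722))))) (.node (.node (.node (.node (.leaf 520) (.leaf 5429)) (.node (.leaf 2782) (.leaf 7599))) (.node (.node (.leaf 1512) (.leaf 6206)) (.node (.leaf 3787) (.leaf 8444)))) (.node (.node (.node (.leaf 934) (.leaf 5704)) (.node (.leaf 3272) (.leaf 7909))) (.node (.node (.leaf 1998) (.leaf 6915)) (.node (.leaf 4264) (.leaf 9052)))))))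
def dFin_86 : BT := .node (.node (.node (.node (.node (.node (.node (.leaf 204) (.leaf 4388)) (.node (.leaf 2104) (.leaf 6876))) (.node (.node (.leaf 2888) (.leaf 5782)) (.node (.leaf 3371) (.leaf 8008)))) (.node (.node (.node (.leaf 2291) (.leaf 5244)) (.node (.leaf 2854) (.leaf 7375))) (.node (.node (.leaf 1581) (.leaf 6277)) (.node (.leaf 3883) (.leaf 8573))))) (.node (.node (.node (.node (.leaf 394) (.leaf 4718)) (.node (.leaf 5103) (.leaf 7150))) (.node (.node (.leaf 2330) (.leaf 6949)) (.node (.leaf 3637) (.leaf 8220)))) (.node (.node (.node (.leaf 1371) (.leaf 5452)) (.node (.leaf 3102) (.leaf 7670))) (.node (.node (.leaf 1845) (.leaf 6593)) (.node (.leaf 4287) (.leaf 8830)))))) (.node (.node (.node (.node (.node (.leaf 515) (.leaf 4568)) (.node (.leaf 4553) (.leaf 7006))) (.node (.node (.leaf 1400) (.leaf 5918)) (.node (.leaf 6008) (.leaf 8079)))) (.node (.node (.node (.leaf 1776) (.leaf 5333)) (.node (.leaf 4247) (.leaf 7528))) (.node (.node (.leaf 3751) (.leaf 6460)) (.node (.leaf 3984) (.leaf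 9019))))) (.node (.node (.node (.node (.leaf 500) (.leaf 5160)) (.node (.leaf 2754) (.leaf 7276))) (.node (.node (.leaf 1479) (.leaf 6162)) (.node (.leaf 4763) (.leaf 8428)))) (.node (.node (.node (.leaf 910) (.leaf 5663)) (.node (.leaf 3227) (.leaf 8491))) (.node (.node (.leaf 1974) (.leaf 6728)) (.node (.leaf 5819) (.leaf 8998))))))) (.node (.node (.node (.node (.node (.node (.leaf 77) (.leaf 4464)) (.node (.leaf 3417) (.leaf 6936))) (.node (.node (.leaf 1220) (.leaf 5846)) (.node (.leaf 3446) (.leaf 8015)))) (.node (.node (.node (.leaf 635) (.leaf 5286)) (.node (.leaf 2893) (.leaf 8081))) (.node (.node (.leaf 3701) (.leaf 6385)) (.node (.leaf 3946) (.leaf 8741))))) (.node (.node (.node (.node (.leaf 450) (.leaf 5896)) (.node (.leaf 4039) (.leaf 7224))) (.node (.node (.leaf 1434) (.leaf 6335)) (.node (.leaf 3705) (.leaf 8310)))) (.node (.node (.node (.leaf 836) (.leaf 5552)) (.node (.leaf 3178) (.leaf 7732))) (.node (.node (.leaf 1885) (.leaf 6674)) (.node (.leaf 4371) (.leaf 8914)))))) (.node (.node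 (.node (.node (.node (.leaf 315) (.leaf 6183)) (.node (.leaf 4641) (.leaf 7061))) (.node (.node (.leaf 3281) (.leaf 5976)) (.node (.leaf 6034) (.leaf 8168)))) (.node (.node (.node (.leaf 737) (.leaf 5384)) (.node (.leaf 3034) (.leaf 7620))) (.node (.node (.leaf 1788) (.leaf 6532)) (.node (.leaf 4056) (.leaf 8760))))) (.node (.node (.node (.node (.leaf 536) (.leaf 4948)) (.node (.leaf 2803) (.leaf 8288))) (.node (.node (.leaf 1540) (.leaf 6270)) (.node (.leaf 3828) (.leaf 8525)))) (.node (.node (.node (.leaf 959) (.leaf 5714)) (.node (.leaf 3296) (.leaf 7853))) (.node (.node (.leaf 2023) (.leaf 6790)) (.leaf 4308))))))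
def dFin_87 : BT := .node dFin_85 dFin_86
def dFin_88 : BT := .node (.node (.node (.node (.node (.node (.node (.leaf 298) (.leaf 6827)) (.node (.leaf 2121) (.leaf 6848))) (.node (.node (.leaf 2844) (.leaf 6871)) (.node (.leaf 5903) (.leaf 7920)))) (.node (.node (.node (.leaf 1380) (.leaf 5228)) (.node (.leaf 3147) (.leaf 7358))) (.node (.node (.leaf 2908) (.leaf 6298)) (.node (.leaf 6392) (.leaf 8556))))) (.node (.node (.node (.node (.leaf 378) (.leaf 4692)) (.node (.leaf 2614) (.leaf 7141))) (.node (.node (.leaf 1197) (.leaf 6978)) (.node (.leaf 3586) (.leaf 8290)))) (.node (.node (.node (.leaf 2130) (.leaf 5419)) (.node (.leaf 3067) (.leaf 8777))) (.node (.node (.leaf 1826) (.leaf 6580)) (.node (.leaf 4100) (.leaf 8890)))))) (.node (.node (.node (.node (.node (.leaf 291) (.leaf 4583)) (.node (.leaf 2477) (.leaf 8487))) (.node (.node (.leaf 1094) (.leaf 5901)) (.node (.leaf 5110) (.leaf 8085)))) (.node (.node (.node (.leaf 666) (.leaf 5736)) (.node (.leaf 2932) (.leaf 7607))) (.node (.node (.leaf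 1720) (.leaf 6475)) (.node (.leaf 3987) (.leaf 8670))))) (.node (.node (.node (.node (.leaf 487) (.leaf 4855)) (.node (.leaf 2762) (.leaf 7256))) (.node (.node (.leaf 1488) (.leaf 6139)) (.node (.leaf 3738) (.leaf 8374)))) (.node (.node (.node (.leaf 899) (.leaf 5600)) (.node (.leaf 3204) (.leaf 7780))) (.node (.node (.leaf 2059) (.leaf 6708)) (.node (.leaf 4212) (.leaf 8994))))))) (.node (.node (.node (.node (.node (.node (.leaf 213) (.leaf 5158)) (.node (.leaf 2454) (.leaf 7209))) (.node (.node (.leaf 1056) (.leaf 5865)) (.node (.leaf 3437) (.leaf 7987)))) (.node (.node (.node (.leaf 630) (.leaf 5631)) (.node (.leaf 3228) (.leaf 7434))) (.node (.node (.leaf 1628) (.leaf 6380)) (.node (.leaf 5076) (.leaf 8626))))) (.node (.node (.node (.node (.leaf 482) (.leaf 4755)) (.node (.leaf 2680) (.leaf 8043))) (.node (.node (.leaf 1409) (.leaf 6098)) (.node (.leaf 3680) (.leaf 8329)))) (.node (.node (.node (.leaf 821) (.leaf 5501)) (.node (.leaf 3150) (.leaf 8615))) (.node (.node (.leaf 1866) (.leaf 6652))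 (.node (.leaf 4163) (.leaf 8906)))))) (.node (.node (.node (.node (.node (.leaf 326) (.leaf 5061)) (.node (.leaf 2536) (.leaf 7088))) (.node (.node (.leaf 1148) (.leaf 6006)) (.node (.leaf 3532) (.leaf 8153)))) (.node (.node (.node (.leaf 714) (.leaf 5791)) (.node (.leaf 2996) (.leaf 7600))) (.node (.node (.leaf 1765) (.leaf 8143)) (.node (.leaf 4029) (.leaf 9035))))) (.node (.node (.node (.node (.leaf 1169) (.leaf 4924)) (.node (.leaf 3082) (.leaf 7312))) (.node (.node (.leaf 1535) (.leaf 6208)) (.node (.leaf 6419) (.leaf 8460)))) (.node (.node (.node (.leaf 5112) (.leaf 5674)) (.node (.leaf 3303) (.leaf 7828))) (.node (.node (.leaf 5141) (.leaf 6762)) (.node (.leaf 5563) (.leaf 9064)))))))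
def dFin_89 : BT := .node (.node (.node (.node (.node (.node (.node (.leaf 174) (.leaf 6887)) (.node (.leaf 2136) (.leaf 6872))) (.node (.node (.leaf 1359) (.leaf 6921)) (.node (.leaf 3405) (.leaf 7954)))) (.node (.node (.node (.leaf 604) (.leaf 5593)) (.node (.leaf 4962) (.leaf 7386))) (.node (.node (.leaf 5053) (.leaf 6317)) (.node (.leaf 3909) (.leaf 8594))))) (.node (.node (.node (.node (.leaf 409) (.leaf 4732)) (.node (.leaf 2641) (.leaf 7211))) (.node (.node (.leaf 2304) (.leaf 6074)) (.node (.leaf 3654) (.leaf 8978)))) (.node (.node (.node (.leaf 2187) (.leaf 5456)) (.node (.leaf 3122) (.leaf 7691))) (.node (.node (.leaf 1842) (.leaf 6610)) (.node (.leaf 4136) (.leaf 8852)))))) (.node (.node (.node (.node (.node (.leaf 258) (.leaf 6875)) (.node (.leaf 2514) (.leaf 7031))) (.node (.node (.leaf 1120) (.leaf 5947)) (.node (.leaf 3508) (.leaf 8113)))) (.node (.node (.node (.leaf 685) (.leaf 5747)) (.node (.leaf 2952) (.leaf 7562))) (.node (.node (.leaf 1744) (.leaf 6509)) (.node (.leaf 4873) (.leaf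 8712))))) (.node (.node (.node (.node (.leaf 533) (.leaf 4902)) (.node (.leaf 3039) (.leaf 7281))) (.node (.node (.leaf 1501) (.leaf 6172)) (.node (.leaf 3766) (.leaf 8414)))) (.node (.node (.node (.leaf 2577) (.leaf 5644)) (.node (.leaf 5036) (.leaf 7804))) (.node (.node (.leaf 4183) (.leaf 6732)) (.node (.leaf 4248) (.leaf 9016))))))) (.node (.node (.node (.node (.node (.node (.leaf 235) (.leaf 4493)) (.node (.leaf 2212) (.leaf 6968))) (.node (.node (.leaf 1075) (.leaf 5873)) (.node (.leaf 5589) (.leaf 8022)))) (.node (.node (.node (.leaf 650) (.leaf 5696)) (.node (.leaf 5067) (.leaf 7478))) (.node (.node (.leaf 1690) (.leaf 6416)) (.node (.leaf 5093) (.leaf 8648))))) (.node (.node (.node (.node (.leaf 1137) (.leaf 4786)) (.node (.leaf 2698) (.leaf 7234))) (.node (.node (.leaf 1455) (.leaf 6120)) (.node (.leaf 3722) (.leaf 8342)))) (.node (.node (.node (.leaf 872) (.leaf 5572)) (.node (.leaf 3174) (.leaf 7935))) (.node (.node (.leaf 2424) (.leaf 6678)) (.node (.leaf 4192) (.leaf 8938)))))) (.node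 (.node (.node (.node (.node (.leaf 850) (.leaf 4664)) (.node (.leaf 2584) (.leaf 7101))) (.node (.node (.leaf 1172) (.leaf 7286)) (.node (.leaf 3553) (.leaf 8179)))) (.node (.node (.node (.leaf 742) (.leaf 6775)) (.node (.leaf 3042) (.leaf 8378))) (.node (.node (.leaf 1798) (.leaf 6614)) (.node (.leaf 4072) (.leaf 8901))))) (.node (.node (.node (.node (.leaf 2263) (.leaf 5194)) (.node (.leaf 3105) (.leaf 7334))) (.node (.node (.leaf 5003) (.leaf 6241)) (.node (.leaf 3849) (.leaf 8504)))) (.node (.node (.node (.leaf 1109) (.leaf 5713)) (.node (.leaf 3335) (.leaf 7868))) (.node (.node (.leaf 2051) (.leaf 6792)) (.leaf 6815))))))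
def dFin_90 : BT := .node dFin_88 dFin_89
def dFin_91 : BT := .node dFin_87 dFin_90
def dFin_92 : BT := .node dFin_84 dFin_91
def dFin_93 : BT := .node dFin_77 dFin_92
def dFin_94 : BT := .node (.node (.node (.node (.node (.node (.node (.leaf 3) (.leaf 4329)) (.node (.leaf 2077) (.leaf 6808))) (.node (.node (.leaf 1398) (.leaf 5725)) (.node (.leaf 3325) (.leaf 7876)))) (.node (.node (.node (.leaf 1486) (.leaf 5201)) (.node (.leaf 5227) (.leaf 7340))) (.node (.node (.leaf 3523) (.leaf 6251)) (.node (.leaf 3836) (.leaf 8510))))) (.node (.node (.node (.node (.leaf 360) (.leaf 4675)) (.node (.leaf 2590) (.leaf 7112))) (.node (.node (.leaf 1186) (.leaf 7787)) (.node (.leaf 5062) (.leaf 8196)))) (.node (.node (.node (.leaf 748) (.leaf 5823)) (.node (.leaf 3048) (.leaf 8399))) (.node (.node (.leaf 1804) (.leaf 8012)) (.node (.leaf 4089) (.leaf 8786)))))) (.node (.node (.node (.node (.node (.leaf 309) (.leaf 4501)) (.node (.leaf 5094) (.leaf 6952))) (.node (.node (.leaf 2324) (.leaf 7400)) (.node (.leaf 3461)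 (.leaf 8030)))) (.node (.node (.node (.leaf 1354) (.leaf 5357)) (.node (.leaf 3249) (.leaf 7476))) (.node (.node (.leaf 1701) (.leaf 6424)) (.node (.leaf 5091) (.leaf 8656))))) (.node (.node (.node (.node (.leaf 767) (.leaf 4796)) (.node (.leaf 2705) (.leaf 7532))) (.node (.node (.leaf 1440) (.leaf 6193)) (.node (.leaf 3728) (.leaf 8384)))) (.node (.node (.node (.leaf 2281) (.leaf 5578)) (.node (.leaf 3188) (.leaf 7761))) (.node (.node (.leaf 1902) (.leaf 6831)) (.node (.leaf 4198) (.leaf 8944))))))) (.node (.node (.node (.node (.node (.node (.leaf 2352) (.leaf 4401)) (.node (.leaf 5142) (.leaf 6890))) (.node (.node (.leaf 2939) (.leaf 5798)) (.node (.leaf 3411) (.leaf 7960)))) (.node (.node (.node (.leaf 617) (.leaf 5254)) (.node (.leaf 5305) (.leaf 7392))) (.node (.node (.leaf 1607) (.leaf 6326)) (.node (.leaf 3914) (.leaf 8600))))) (.node (.node (.node (.node (.leaf 418) (.leaf 6357)) (.node (.leaf 2649) (.leaf 7173))) (.node (.node (.leaf 1248) (.leaf 6085)) (.node (.leaf 3660) (.leaf 8283))))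 (.node (.node (.node (.leaf 802) (.leaf 5480)) (.node (.leaf 3128) (.leaf 7697))) (.node (.node (.leaf 1854) (.leaf 6631)) (.node (.leaf 4142) (.leaf 8860)))))) (.node (.node (.node (.node (.node (.leaf 271) (.leaf 6987)) (.node (.leaf 5019) (.leaf 7017))) (.node (.node (.leaf 1126) (.leaf 7755)) (.node (.leaf 5012) (.leaf 8118)))) (.node (.node (.node (.leaf 691) (.leaf 5354)) (.node (.leaf 3005) (.leaf 7549))) (.node (.node (.leaf 1750) (.leaf 6482)) (.node (.leaf 6264) (.leaf 8710))))) (.node (.node (.node (.node (.leaf 1529) (.leaf 4908)) (.node (.leaf 2766) (.leaf 8239))) (.node (.node (.leaf 3413) (.leaf 6178)) (.node (.leaf 3775) (.leaf 8471)))) (.node (.node (.node (.leaf 2669) (.leaf 5650)) (.node (.leaf 3262) (.leaf 8783))) (.node (.node (.leaf 4999) (.leaf 6740)) (.node (.leaf 4254) (.leaf 9021)))))))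
def dFin_95 : BT := .node (.node (.node (.node (.node (.node (.node (.leaf 243) (.leaf 4378)) (.node (.leaf 4363) (.leaf 6854))) (.node (.node (.leaf 1404) (.leaf 5772)) (.node (.leaf 3376) (.leaf 7926)))) (.node (.node (.node (.leaf 586) (.leaf 5234)) (.node (.leaf 5275) (.leaf 7364))) (.node (.node (.leaf 2631) (.leaf 6304)) (.node (.leaf 3872) (.leaf 8562))))) (.node (.node (.node (.node (.leaf 384) (.leaf 4705)) (.node (.leaf 2620) (.leaf 8571))) (.node (.node (.leaf 1207) (.leaf 6045)) (.node (.leaf 3592) (.leaf 8228)))) (.node (.node (.node (.leaf 775) (.leaf 5460)) (.node (.leaf 3075) (.leaf 8395))) (.node (.node (.leaf 1832) (.leaf 6586)) (.node (.leaf 4919) (.leaf 8822)))))) (.node (.node (.node (.node (.node (.leaf 195) (.leaf 4555)) (.node (.leaf 4367) (.leaf 6996))) (.node (.node (.leaf 1339) (.leaf 5908)) (.node (.leaf 3491) (.leaf 8069)))) (.node (.node (.node (.leaf 674) (.leaf 7288)) (.node (.leaf 2937) (.leaf 7506))) (.node (.node (.leaf 3934) (.leaf 6466)) (.node (.leaf 6629) (.leaf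 8678))))) (.node (.node (.node (.node (.leaf 495) (.leaf 4867)) (.node (.leaf 2744) (.leaf 7572))) (.node (.node (.leaf 1466) (.leaf 6145)) (.node (.leaf 3754) (.leaf 8897)))) (.node (.node (.node (.leaf 2599) (.leaf 5606)) (.node (.leaf 3215) (.leaf 7789))) (.node (.node (.leaf 1964) (.leaf 7260)) (.node (.leaf 4218) (.leaf 9027))))))) (.node (.node (.node (.node (.node (.node (.leaf 1312) (.leaf 4454)) (.node (.leaf 2197) (.leaf 6926))) (.node (.node (.leaf 1064) (.leaf 5834)) (.node (.leaf 3441) (.leaf 7993)))) (.node (.node (.node (.leaf 2359) (.leaf 7264)) (.node (.leaf 3234) (.leaf 7440))) (.node (.node (.leaf 1675) (.leaf 6367)) (.node (.leaf 3941) (.leaf 8634))))) (.node (.node (.node (.node (.leaf 1058) (.leaf 4761)) (.node (.leaf 2686) (.leaf 7471))) (.node (.node (.leaf 1424) (.leaf 6107)) (.node (.leaf 3686) (.leaf 8437)))) (.node (.node (.node (.leaf 826) (.leaf 6816)) (.node (.leaf 3156) (.leaf 7725))) (.node (.node (.leaf 1873) (.leaf 6822)) (.node (.leaf 4169) (.leaf 8933)))))) (.node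 (.node (.node (.node (.node (.leaf 332) (.leaf 4643)) (.node (.leaf 2546) (.leaf 7068))) (.node (.node (.leaf 1154) (.leaf 5983)) (.node (.leaf 5734) (.leaf 8156)))) (.node (.node (.node (.leaf 720) (.leaf 5793)) (.node (.leaf 5580) (.leaf 8337))) (.node (.node (.leaf 1771) (.leaf 6523)) (.node (.leaf 6041) (.leaf 8748))))) (.node (.node (.node (.node (.leaf 5146) (.leaf 4932)) (.node (.leaf 2790) (.leaf 7318))) (.node (.node (.leaf 3485) (.leaf 6222)) (.node (.leaf 3818) (.leaf 8521)))) (.node (.node (.node (.leaf 2728) (.leaf 5688)) (.node (.leaf 3286) (.leaf 8567))) (.node (.node (.leaf 2028) (.leaf 6768)) (.leaf 4298))))))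
def dFin_96 : BT := .node dFin_94 dFin_95
def dFin_97 : BT := .node (.node (.node (.node (.node (.node (.node (.leaf 249) (.leaf 4399)) (.node (.leaf 2070) (.leaf 6864))) (.node (.node (.leaf 1012) (.leaf 5752)) (.node (.leaf 3348) (.leaf 7910)))) (.node (.node (.node (.leaf 563) (.leaf 5224)) (.node (.leaf 2840) (.leaf 8281))) (.node (.node (.leaf 1568) (.leaf 6407)) (.node (.leaf 3868) (.leaf 8550))))) (.node (.node (.node (.node (.leaf 819) (.leaf 4682)) (.node (.leaf 2607) (.leaf 7118))) (.node (.node (.leaf 4985) (.leaf 6019)) (.node (.leaf 5048) (.leaf 8206)))) (.node (.node (.node (.leaf 2053) (.leaf 5409)) (.node (.leaf 5464) (.leaf 7648))) (.node (.node (.leaf 1819) (.leaf 6564)) (.node (.leaf 4090) (.leaf 9069)))))) (.node (.node (.node (.node (.node (.leaf 272) (.leaf 4506)) (.node (.leaf 2465) (.leaf 8299))) (.node (.node (.leaf 2298) (.leaf 5894)) (.node (.leaf 3472) (.leaf 8089)))) (.node (.node (.node (.leaf 967) (.leaf 5314)) (.node (.leaf 2922) (.leaf 7540))) (.node (.node (.leaf 1710)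 (.leaf 6399)) (.node (.leaf 3974) (.leaf 8781))))) (.node (.node (.node (.node (.leaf 479) (.leaf 4858)) (.node (.leaf 2739) (.leaf 7242))) (.node (.node (.leaf 2481) (.leaf 6128)) (.node (.leaf 5169) (.leaf 8356)))) (.node (.node (.node (.leaf 1377) (.leaf 7433)) (.node (.leaf 3212) (.leaf 7768))) (.node (.node (.leaf 2055) (.leaf 6698)) (.node (.leaf 6727) (.leaf 8965))))))) (.node (.node (.node (.node (.node (.node (.leaf 162) (.leaf 4432)) (.node (.leaf 2145) (.leaf 8090))) (.node (.node (.leaf 1046) (.leaf 5817)) (.node (.leaf 3428) (.leaf 7982)))) (.node (.node (.node (.leaf 620) (.leaf 6575)) (.node (.leaf 2880) (.leaf 7419))) (.node (.node (.leaf 1618) (.leaf 7903)) (.node (.leaf 3930) (.leaf 8989))))) (.node (.node (.node (.node (.leaf 401) (.leaf 4740)) (.node (.leaf 2675) (.leaf 7186))) (.node (.node (.leaf 1413) (.leaf 6088)) (.node (.leaf 3665) (.leaf 8262)))) (.node (.node (.node (.leaf 1985) (.leaf 5479)) (.node (.leaf 3137) (.leaf 7712))) (.node (.node (.leaf 3790) (.leaf 6642)) (.node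 (.leaf 6683) (.leaf 8875)))))) (.node (.node (.node (.node (.node (.leaf 707) (.leaf 4598)) (.node (.leaf 2523) (.leaf 7040))) (.node (.node (.leaf 1159) (.leaf 5960)) (.node (.leaf 3516) (.leaf 8149)))) (.node (.node (.node (.leaf 1897) (.leaf 5370)) (.node (.leaf 2986) (.leaf 8377))) (.node (.node (.leaf 3860) (.leaf 6498)) (.node (.leaf 4017) (.leaf 8769))))) (.node (.node (.node (.node (.leaf 526) (.leaf 5469)) (.node (.leaf 4173) (.leaf 8211))) (.node (.node (.leaf 1518) (.leaf 6216)) (.node (.leaf 3805) (.leaf 8450)))) (.node (.node (.node (.leaf 940) (.leaf 5684)) (.node (.leaf 4243) (.leaf 7818))) (.node (.node (.leaf 2004) (.leaf 6752)) (.node (.leaf 4290) (.leaf 9054)))))))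
def dFin_98 : BT := .node (.node (.node (.node (.node (.node (.node (.leaf 187) (.leaf 5700)) (.node (.leaf 2110) (.leaf 8435))) (.node (.node (.leaf 1030) (.leaf 5787)) (.node (.leaf 3381) (.leaf 8892)))) (.node (.node (.node (.leaf 594) (.leaf 5271)) (.node (.leaf 2860) (.leaf 8516))) (.node (.node (.leaf 1587) (.leaf 6325)) (.node (.leaf 3893) (.leaf 8582))))) (.node (.node (.node (.node (.leaf 403) (.leaf 4722)) (.node (.leaf 4770) (.leaf 7156))) (.node (.node (.leaf 3101) (.leaf 6064)) (.node (.leaf 3697) (.leaf 8232)))) (.node (.node (.node (.leaf 795) (.leaf 5432)) (.node (.leaf 3114) (.leaf 7676))) (.node (.node (.leaf 4087) (.leaf 6599)) (.node (.leaf 5231) (.leaf 8836)))))) (.node (.node (.node (.node (.node (.leaf 637) (.leaf 4574)) (.node (.leaf 2504) (.leaf 7012))) (.node (.node (.leaf 3008) (.leaf 5924)) (.node (.leaf 3498) (.leaf 8101)))) (.node (.node (.node (.leaf 696) (.leaf 5341)) (.node (.leaf 2942) (.leaf 7550))) (.node (.node (.leaf 1727) (.leaf 6468)) (.node (.leaf 3994) (.leaf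 8731))))) (.node (.node (.node (.node (.leaf 506) (.leaf 4921)) (.node (.leaf 3021) (.leaf 7269))) (.node (.node (.leaf 1485) (.leaf 6293)) (.node (.leaf 3772) (.leaf 8404)))) (.node (.node (.node (.leaf 916) (.leaf 5627)) (.node (.leaf 3246) (.leaf 7794))) (.node (.node (.leaf 2815) (.leaf 6715)) (.node (.leaf 5156) (.leaf 9006))))))) (.node (.node (.node (.node (.node (.node (.leaf 83) (.leaf 4470)) (.node (.leaf 2202) (.leaf 6983))) (.node (.node (.leaf 1063) (.leaf 5852)) (.node (.leaf 3452) (.leaf 8049)))) (.node (.node (.node (.leaf 1864) (.leaf 5292)) (.node (.leaf 2899) (.leaf 7491))) (.node (.node (.leaf 1680) (.leaf 6401)) (.node (.leaf 3952) (.leaf 8737))))) (.node (.node (.node (.node (.leaf 1292) (.leaf 4792)) (.node (.leaf 4768) (.leaf 7222))) (.node (.node (.leaf 2769) (.leaf 6104)) (.node (.leaf 3712) (.leaf 8316)))) (.node (.node (.node (.leaf 5032) (.leaf 6779)) (.node (.leaf 4986) (.leaf 7740))) (.node (.node (.leaf 3567) (.leaf 6666)) (.node (.leaf 6691) (.leaf 8920)))))) (.node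 (.node (.node (.node (.node (.leaf 793) (.leaf 4654)) (.node (.leaf 4703) (.leaf 7075))) (.node (.node (.leaf 1178) (.leaf 5990)) (.node (.leaf 3541) (.leaf 8174)))) (.node (.node (.node (.leaf 1983) (.leaf 5390)) (.node (.leaf 3017) (.leaf 7626))) (.node (.node (.leaf 1793) (.leaf 6538)) (.node (.leaf 4062) (.leaf 8807))))) (.node (.node (.node (.node (.leaf 544) (.leaf 5508)) (.node (.leaf 2809) (.leaf 8251))) (.node (.node (.leaf 1546) (.leaf 6266)) (.node (.leaf 3839) (.leaf 8494)))) (.node (.node (.node (.leaf 965) (.leaf 7661)) (.node (.leaf 4477) (.leaf 7874))) (.node (.node (.leaf 2033) (.leaf 6802)) (.leaf 5191))))))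
def dFin_99 : BT := .node dFin_97 dFin_98
def dFin_100 : BT := .node dFin_96 dFin_99
def dFin_101 : BT := .node (.node (.node (.node (.node (.node (.node (.leaf 11) (.leaf 4343)) (.node (.leaf 2062) (.leaf 6867))) (.node (.node (.leaf 2788) (.leaf 5733)) (.node (.leaf 3336) (.leaf 7936)))) (.node (.node (.node (.leaf 2292) (.leaf 5213)) (.node (.leaf 2832) (.leaf 8292))) (.node (.node (.leaf 1556) (.leaf 6274)) (.node (.leaf 3850) (.leaf 8531))))) (.node (.node (.node (.node (.leaf 368) (.leaf 4667)) (.node (.leaf 2603) (.leaf 7098))) (.node (.node (.leaf 2451) (.leaf 6010)) (.node (.leaf 3573) (.leaf 8198)))) (.node (.node (.node (.leaf 1373) (.leaf 5833)) (.node (.leaf 3060) (.leaf 7640))) (.node (.node (.leaf 1821) (.leaf 6554)) (.node (.leaf 4893) (.leaf 8796)))))) (.node (.node (.node (.node (.node (.leaf 101) (.leaf 4490)) (.node (.leaf 2488) (.leaf 6970))) (.node (.node (.leaf 2915) (.leaf 5886)) (.node (.leaf 5619) (.leaf 8038)))) (.node (.node (.node (.leaf 1735) (.leaf 5302)) (.node (.leaf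 4996) (.leaf 7486))) (.node (.node (.leaf 3711) (.leaf 6432)) (.node (.leaf 3966) (.leaf 8841))))) (.node (.node (.node (.node (.leaf 471) (.leaf 5162)) (.node (.leaf 2719) (.leaf 7250))) (.node (.node (.leaf 1456) (.leaf 6233)) (.node (.leaf 6440) (.leaf 8335)))) (.node (.node (.node (.leaf 861) (.leaf 5625)) (.node (.leaf 3200) (.leaf 8537))) (.node (.node (.leaf 1910) (.leaf 6829)) (.node (.leaf 4405) (.leaf 8957))))))) (.node (.node (.node (.node (.node (.node (.leaf 373) (.leaf 4416)) (.node (.leaf 2303) (.leaf 6902))) (.node (.node (.leaf 1183) (.leaf 5806)) (.node (.leaf 3420) (.leaf 7974)))) (.node (.node (.node (.leaf 1671) (.leaf 5262)) (.node (.leaf 2870) (.leaf 8136))) (.node (.node (.leaf 5024) (.leaf 6344)) (.node (.leaf 3922) (.leaf 8699))))) (.node (.node (.node (.node (.leaf 426) (.leaf 5164)) (.node (.leaf 2658) (.leaf 7201))) (.node (.node (.leaf 1256) (.leaf 7791)) (.node (.leaf 3673) (.leaf 8254)))) (.node (.node (.node (.leaf 810) (.leaf 5488)) (.node (.leaf 3169) (.leaf 7702)))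 (.node (.node (.leaf 1862) (.leaf 7147)) (.node (.leaf 4158) (.leaf 8867)))))) (.node (.node (.node (.node (.node (.leaf 2366) (.leaf 4585)) (.node (.leaf 2632) (.leaf 7032))) (.node (.node (.leaf 1163) (.leaf 5950)) (.node (.leaf 5987) (.leaf 8128)))) (.node (.node (.node (.leaf 705) (.leaf 5362)) (.node (.leaf 3012) (.leaf 7565))) (.node (.node (.leaf 1760) (.leaf 6490)) (.node (.leaf 4055) (.leaf 8720))))) (.node (.node (.node (.node (.leaf 518) (.leaf 4916)) (.node (.leaf 2780) (.leaf 7595))) (.node (.node (.leaf 1510) (.leaf 7847)) (.node (.leaf 3785) (.leaf 8475)))) (.node (.node (.node (.leaf 932) (.leaf 5672)) (.node (.leaf 3270) (.leaf 7817))) (.node (.node (.leaf 1996) (.leaf 8044)) (.node (.leaf 4262) (.leaf 9038)))))))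
def dFin_102 : BT := .node (.node (.node (.node (.node (.node (.node (.leaf 222) (.leaf 4386)) (.node (.leaf 2102) (.leaf 7536))) (.node (.node (.leaf 1989) (.leaf 5780)) (.node (.leaf 3369) (.leaf 8006)))) (.node (.node (.node (.leaf 591) (.leaf 5242)) (.node (.leaf 2852) (.leaf 7371))) (.node (.node (.leaf 1578) (.leaf 6312)) (.node (.leaf 3881) (.leaf 8581))))) (.node (.node (.node (.node (.leaf 392) (.leaf 4714)) (.node (.leaf 2660) (.leaf 7148))) (.node (.node (.leaf 1383) (.leaf 6056)) (.node (.leaf 3641) (.leaf 8218)))) (.node (.node (.node (.leaf 783) (.leaf 5448)) (.node (.leaf 5539) (.leaf 7668))) (.node (.node (.leaf 4076) (.leaf 6613)) (.node (.leaf 4285) (.leaf 8828)))))) (.node (.node (.node (.node (.node (.leaf 261) (.leaf 4566)) (.node (.leaf 2491) (.leaf 7004))) (.node (.node (.leaf 1105) (.leaf 5916)) (.node (.leaf 4565) (.leaf 8077)))) (.node (.node (.node (.leaf 5004) (.leaf 5331)) (.node (.leaf 3285) (.leaf 7526))) (.node (.node (.leaf 3961) (.leaf 6458)) (.node (.leaf 3983) (.leaf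 8686))))) (.node (.node (.node (.node (.leaf 498) (.leaf 4895)) (.node (.leaf 2752) (.leaf 7576))) (.node (.node (.leaf 1477) (.leaf 6159)) (.node (.leaf 3762) (.leaf 8396)))) (.node (.node (.node (.leaf 908) (.leaf 5661)) (.node (.leaf 3225) (.leaf 7809))) (.node (.node (.leaf 1972) (.leaf 8297)) (.node (.leaf 5057) (.leaf 9002))))))) (.node (.node (.node (.node (.node (.node (.leaf 75) (.leaf 4462)) (.node (.leaf 2185) (.leaf 6934))) (.node (.node (.leaf 1218) (.leaf 5844)) (.node (.leaf 3444) (.leaf 8002)))) (.node (.node (.node (.leaf 639) (.leaf 5284)) (.node (.leaf 2890) (.leaf 7448))) (.node (.node (.leaf 3667) (.leaf 6383)) (.node (.leaf 3944) (.leaf 8665))))) (.node (.node (.node (.node (.leaf 448) (.leaf 4783)) (.node (.leaf 2694) (.leaf 8621))) (.node (.node (.leaf 1432) (.leaf 6115)) (.node (.leaf 3703) (.leaf 8308)))) (.node (.node (.node (.leaf 834) (.leaf 5548)) (.node (.leaf 5784) (.leaf 7738))) (.node (.node (.leaf 1883) (.leaf 6801)) (.node (.leaf 4369) (.leaf 8912)))))) (.node (.node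 (.node (.node (.node (.leaf 1320) (.leaf 4696)) (.node (.leaf 2595) (.leaf 7059))) (.node (.node (.leaf 1170) (.leaf 5974)) (.node (.leaf 3546) (.leaf 8166)))) (.node (.node (.node (.leaf 703) (.leaf 7202)) (.node (.leaf 5585) (.leaf 7618))) (.node (.node (.leaf 1785) (.leaf 6530)) (.node (.leaf 4052) (.leaf 8758))))) (.node (.node (.node (.node (.leaf 535) (.leaf 4942)) (.node (.leaf 2801) (.leaf 8617))) (.node (.node (.leaf 1538) (.leaf 6262)) (.node (.leaf 3826) (.leaf 8519)))) (.node (.node (.node (.leaf 957) (.leaf 5703)) (.node (.leaf 3294) (.leaf 7851))) (.node (.node (.leaf 2021) (.leaf 6821)) (.leaf 4306))))))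
def dFin_103 : BT := .node dFin_101 dFin_102
def dFin_104 : BT := .node (.node (.node (.node (.node (.node (.node (.leaf 173) (.leaf 4361)) (.node (.leaf 2119) (.leaf 6846))) (.node (.node (.leaf 1394) (.leaf 5764)) (.node (.leaf 3384) (.leaf 7918)))) (.node (.node (.node (.leaf 571) (.leaf 5555)) (.node (.leaf 3145) (.leaf 7356))) (.node (.node (.leaf 5031) (.leaf 6296)) (.node (.leaf 6515) (.leaf 8554))))) (.node (.node (.node (.node (.leaf 377) (.leaf 4690)) (.node (.leaf 2612) (.leaf 7139))) (.node (.node (.leaf 1194) (.leaf 6029)) (.node (.leaf 3584) (.leaf 8347)))) (.node (.node (.node (.leaf 768) (.leaf 5417)) (.node (.leaf 3063) (.leaf 8380))) (.node (.node (.leaf 1824) (.leaf 6572)) (.node (.leaf 4098) (.leaf 8888)))))) (.node (.node (.node (.node (.node (.leaf 256) (.leaf 6693)) (.node (.leaf 2475) (.leaf 6989))) (.node (.node (.leaf 1092) (.leaf 7377)) (.node (.leaf 3480) (.leaf 8062)))) (.node (.node (.node (.leaf 664) (.leaf 7325)) (.node (.leaf 2930) (.leaf 7522))) (.node (.node (.leaf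 1718) (.leaf 6449)) (.node (.leaf 5129) (.leaf 8674))))) (.node (.node (.node (.node (.leaf 491) (.leaf 4853)) (.node (.leaf 2985) (.leaf 7254))) (.node (.node (.leaf 2374) (.leaf 6137)) (.node (.leaf 3737) (.leaf 8372)))) (.node (.node (.node (.leaf 895) (.leaf 5598)) (.node (.leaf 4428) (.leaf 7778))) (.node (.node (.leaf 2057) (.leaf 6706)) (.node (.leaf 4208) (.leaf 8974))))))) (.node (.node (.node (.node (.node (.node (.leaf 231) (.leaf 5185)) (.node (.leaf 2159) (.leaf 6918))) (.node (.node (.leaf 1054) (.leaf 5863)) (.node (.leaf 5119) (.leaf 7985)))) (.node (.node (.node (.leaf 628) (.leaf 5639)) (.node (.leaf 4972) (.leaf 7451))) (.node (.node (.leaf 1626) (.leaf 6374)) (.node (.leaf 3937) (.leaf 8624))))) (.node (.node (.node (.node (.leaf 1023) (.leaf 4753)) (.node (.leaf 4846) (.leaf 7196))) (.node (.node (.leaf 1419) (.leaf 6096)) (.node (.leaf 3678) (.leaf 8439)))) (.node (.node (.node (.leaf 2493) (.leaf 5495)) (.node (.leaf 3148) (.leaf 8176))) (.node (.node (.leaf 2427) (.leaf 6650))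 (.node (.leaf 4161) (.leaf 8955)))))) (.node (.node (.node (.node (.node (.leaf 324) (.leaf 4610)) (.node (.leaf 2532) (.leaf 7056))) (.node (.node (.leaf 1146) (.leaf 7241)) (.node (.leaf 3530) (.leaf 8151)))) (.node (.node (.node (.leaf 712) (.leaf 5349)) (.node (.leaf 2994) (.leaf 7596))) (.node (.node (.leaf 1763) (.leaf 6549)) (.node (.leaf 4027) (.leaf 8733))))) (.node (.node (.node (.node (.leaf 2317) (.leaf 4923)) (.node (.leaf 3092) (.leaf 7310))) (.node (.node (.leaf 1553) (.leaf 6202)) (.node (.leaf 6289) (.leaf 8458)))) (.node (.node (.node (.leaf 974) (.leaf 5668)) (.node (.leaf 3305) (.leaf 7826))) (.node (.node (.leaf 4178) (.leaf 6760)) (.node (.leaf 4310) (.leaf 9062)))))))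
def dFin_105 : BT := .node (.node (.node (.node (.node (.node (.node (.leaf 208) (.leaf 4434)) (.node (.leaf 4991) (.leaf 6869))) (.node (.node (.leaf 1038) (.leaf 5813)) (.node (.leaf 3403) (.leaf 7952)))) (.node (.node (.node (.leaf 602) (.leaf 7215)) (.node (.leaf 3177) (.leaf 7382))) (.node (.node (.leaf 1595) (.leaf 6340)) (.node (.leaf 3907) (.leaf 8590))))) (.node (.node (.node (.node (.leaf 407) (.leaf 4730)) (.node (.leaf 2639) (.leaf 7164))) (.node (.node (.leaf 2327) (.leaf 6072)) (.node (.leaf 3652) (.leaf 8243)))) (.node (.node (.node (.leaf 799) (.leaf 5454)) (.node (.leaf 3120) (.leaf 7695))) (.node (.node (.leaf 1841) (.leaf 6607)) (.node (.leaf 4134) (.leaf 8850)))))) (.node (.node (.node (.node (.node (.leaf 190) (.leaf 6002)) (.node (.leaf 2512) (.leaf 7046))) (.node (.node (.leaf 1118) (.leaf 5971)) (.node (.leaf 3506) (.leaf 8109)))) (.node (.node (.node (.leaf 683) (.leaf 5350)) (.node (.leaf 2950) (.leaf 7558))) (.node (.node (.leaf 1740) (.leaf 8099)) (.node (.leaf 4006) (.leaf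 8702))))) (.node (.node (.node (.node (.leaf 1025) (.leaf 4900)) (.node (.leaf 3033) (.leaf 7279))) (.node (.node (.leaf 1498) (.leaf 6170)) (.node (.leaf 6348) (.leaf 8412)))) (.node (.node (.node (.leaf 2497) (.leaf 5642)) (.node (.leaf 3258) (.leaf 7802))) (.node (.node (.leaf 1981) (.leaf 6730)) (.node (.leaf 5526) (.leaf 9014))))))) (.node (.node (.node (.node (.node (.node (.leaf 289) (.leaf 6521)) (.node (.leaf 2210) (.leaf 6964))) (.node (.node (.leaf 1073) (.leaf 5899)) (.node (.leaf 5130) (.leaf 8024)))) (.node (.node (.node (.leaf 648) (.leaf 5677)) (.node (.leaf 2907) (.leaf 8705))) (.node (.node (.leaf 1688) (.leaf 6412)) (.node (.leaf 3963) (.leaf 8646))))) (.node (.node (.node (.node (.leaf 1107) (.leaf 4784)) (.node (.leaf 2714) (.leaf 7232))) (.node (.node (.leaf 1451) (.leaf 6118)) (.node (.leaf 3720) (.leaf 8324)))) (.node (.node (.node (.leaf 5136) (.leaf 5570)) (.node (.leaf 3173) (.leaf 7748))) (.node (.node (.leaf 4051) (.leaf 6676)) (.node (.leaf 4190) (.leaf 8936)))))) (.node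 (.node (.node (.node (.node (.leaf 352) (.leaf 4662)) (.node (.leaf 2582) (.leaf 7727))) (.node (.node (.leaf 1166) (.leaf 6005)) (.node (.leaf 3551) (.leaf 8183)))) (.node (.node (.node (.leaf 2010) (.leaf 5398)) (.node (.leaf 3036) (.leaf 8701))) (.node (.node (.leaf 1796) (.leaf 6551)) (.node (.leaf 4070) (.leaf 8805))))) (.node (.node (.node (.node (.leaf 1387) (.leaf 5208)) (.node (.leaf 2824) (.leaf 7332))) (.node (.node (.leaf 2873) (.leaf 6239)) (.node (.leaf 6329) (.leaf 8502)))) (.node (.node (.node (.leaf 2412) (.leaf 5710)) (.node (.leaf 3354) (.leaf 7866))) (.node (.node (.leaf 4279) (.leaf 6786)) (.leaf 4338))))))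
def dFin_106 : BT := .node dFin_104 dFin_105
def dFin_107 : BT := .node dFin_103 dFin_106
def dFin_108 : BT := .node dFin_100 dFin_107
def dFin_109 : BT := .node (.node (.node (.node (.node (.node (.node (.leaf 7) (.leaf 4337)) (.node (.leaf 4320) (.leaf 6812))) (.node (.node (.leaf 1113) (.leaf 5729)) (.node (.leaf 3328) (.leaf 8934)))) (.node (.node (.node (.leaf 572) (.leaf 5205)) (.node (.leaf 2828) (.leaf 8271))) (.node (.node (.leaf 5023) (.leaf 6259)) (.node (.leaf 3844) (.leaf 8540))))) (.node (.node (.node (.node (.leaf 364) (.leaf 4709)) (.node (.leaf 3797) (.leaf 7091))) (.node (.node (.leaf 1190) (.leaf 6020)) (.node (.leaf 3568) (.leaf 8192)))) (.node (.node (.node (.leaf 752) (.leaf 5827)) (.node (.leaf 3056) (.leaf 7636))) (.node (.node (.leaf 1808) (.leaf 8021)) (.node (.leaf 5171) (.leaf 8792)))))) (.node (.node (.node (.node (.node (.leaf 69) (.leaf 4485)) (.node (.leaf 5100) (.leaf 6960))) (.node (.node (.leaf 1233) (.leaf 5882)) (.node (.leaf 3465) (.leaf 8034)))) (.node (.node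 (.node (.leaf 661) (.leaf 5296)) (.node (.leaf 5353) (.leaf 7482))) (.node (.node (.leaf 1709) (.leaf 6428)) (.node (.leaf 6527) (.leaf 8660))))) (.node (.node (.node (.node (.leaf 467) (.leaf 4800)) (.node (.leaf 2711) (.leaf 7534))) (.node (.node (.leaf 1448) (.leaf 7833)) (.node (.leaf 3732) (.leaf 8360)))) (.node (.node (.node (.leaf 857) (.leaf 5623)) (.node (.leaf 3196) (.leaf 7757))) (.node (.node (.leaf 1906) (.leaf 6835)) (.node (.leaf 4202) (.leaf 8950))))))) (.node (.node (.node (.node (.node (.node (.leaf 347) (.leaf 4408)) (.node (.leaf 2146) (.leaf 6896))) (.node (.node (.leaf 5149) (.leaf 5802)) (.node (.leaf 4487) (.leaf 7964)))) (.node (.node (.node (.leaf 611) (.leaf 5258)) (.node (.leaf 4995) (.leaf 7396))) (.node (.node (.leaf 3575) (.leaf 6338)) (.node (.leaf 3918) (.leaf 8604))))) (.node (.node (.node (.node (.leaf 422) (.leaf 5945)) (.node (.leaf 2653) (.leaf 7429))) (.node (.node (.leaf 1252) (.leaf 6079)) (.node (.leaf 6194) (.leaf 8274)))) (.node (.node (.node (.leaf 806)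 (.leaf 5484)) (.node (.leaf 3132) (.leaf 7701))) (.node (.node (.leaf 1858) (.leaf 8181)) (.node (.leaf 4352) (.leaf 8863)))))) (.node (.node (.node (.node (.node (.leaf 306) (.leaf 6963)) (.node (.leaf 2628) (.leaf 7024))) (.node (.node (.leaf 3134) (.leaf 5954)) (.node (.leaf 5015) (.leaf 8124)))) (.node (.node (.node (.leaf 1350) (.leaf 5358)) (.node (.leaf 3014) (.leaf 7557))) (.node (.node (.leaf 1774) (.leaf 6486)) (.node (.leaf 4032) (.leaf 8716))))) (.node (.node (.node (.node (.leaf 825) (.leaf 4912)) (.node (.leaf 2776) (.leaf 7587))) (.node (.node (.leaf 1506) (.leaf 6153)) (.node (.leaf 3781) (.leaf 8433)))) (.node (.node (.node (.leaf 2696) (.leaf 5654)) (.node (.leaf 3266) (.leaf 7811))) (.node (.node (.leaf 1992) (.leaf 6913)) (.node (.leaf 4258) (.leaf 9042)))))))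
def dFin_110 : BT := .node (.node (.node (.node (.node (.node (.node (.leaf 280) (.leaf 4382)) (.node (.leaf 2098) (.leaf 6858))) (.node (.node (.leaf 2849) (.leaf 5776)) (.node (.leaf 3365) (.leaf 7932)))) (.node (.node (.node (.leaf 1609) (.leaf 5238)) (.node (.leaf 5322) (.leaf 7368))) (.node (.node (.leaf 1598) (.leaf 6308)) (.node (.leaf 3877) (.leaf 8577))))) (.node (.node (.node (.node (.leaf 388) (.leaf 4721)) (.node (.leaf 2624) (.leaf 7144))) (.node (.node (.leaf 1213) (.leaf 6049)) (.node (.leaf 3645) (.leaf 8212)))) (.node (.node (.node (.leaf 779) (.leaf 5466)) (.node (.leaf 3088) (.leaf 7892))) (.node (.node (.leaf 1836) (.leaf 6588)) (.node (.leaf 4125) (.leaf 8824)))))) (.node (.node (.node (.node (.node (.leaf 1290) (.leaf 4562)) (.node (.leaf 2499) (.leaf 7000))) (.node (.node (.leaf 1131) (.leaf 5912)) (.node (.leaf 3487) (.leaf 8073)))) (.node (.node (.node (.leaf 2411) (.leaf 5324)) (.node (.leaf 5152) (.leaf 7518))) (.node (.node (.leaf 3939) (.leaf 6454)) (.node (.leaf 3998)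 (.leaf 8682))))) (.node (.node (.node (.node (.leaf 1464) (.leaf 4871)) (.node (.leaf 2748) (.leaf 7574))) (.node (.node (.leaf 1471) (.leaf 6155)) (.node (.leaf 3758) (.leaf 8427)))) (.node (.node (.node (.leaf 904) (.leaf 6609)) (.node (.leaf 3221) (.leaf 7785))) (.node (.node (.leaf 1968) (.leaf 8245)) (.node (.leaf 4224) (.leaf 8992))))))) (.node (.node (.node (.node (.node (.node (.leaf 71) (.leaf 4458)) (.node (.leaf 2193) (.leaf 6930))) (.node (.node (.leaf 2812) (.leaf 5840)) (.node (.leaf 5879) (.leaf 7997)))) (.node (.node (.node (.leaf 1533) (.leaf 5280)) (.node (.leaf 3232) (.leaf 7444))) (.node (.node (.leaf 3639) (.leaf 6373)) (.node (.leaf 5620) (.leaf 8638))))) (.node (.node (.node (.node (.leaf 444) (.leaf 4779)) (.node (.leaf 2690) (.leaf 7213))) (.node (.node (.leaf 1428) (.leaf 6111)) (.node (.leaf 3690) (.leaf 8304)))) (.node (.node (.node (.leaf 830) (.leaf 5540)) (.node (.leaf 3160) (.leaf 8535))) (.node (.node (.leaf 1879) (.leaf 8017)) (.node (.leaf 4174) (.leaf 8910))))))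 (.node (.node (.node (.node (.node (.leaf 336) (.leaf 4645)) (.node (.leaf 2573) (.leaf 7053))) (.node (.node (.leaf 1361) (.leaf 6055)) (.node (.leaf 3558) (.leaf 8162)))) (.node (.node (.node (.leaf 724) (.leaf 5795)) (.node (.leaf 5179) (.leaf 7614))) (.node (.node (.leaf 2436) (.leaf 7415)) (.node (.leaf 4047) (.leaf 8752))))) (.node (.node (.node (.node (.leaf 547) (.leaf 4938)) (.node (.leaf 2795) (.leaf 8483))) (.node (.node (.leaf 3536) (.leaf 6226)) (.node (.leaf 3822) (.leaf 8514)))) (.node (.node (.node (.leaf 968) (.leaf 5692)) (.node (.leaf 3290) (.leaf 7845))) (.node (.node (.leaf 2015) (.leaf 6772)) (.leaf 4302))))))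
def dFin_111 : BT := .node dFin_109 dFin_110
def dFin_112 : BT := .node (.node (.node (.node (.node (.node (.node (.leaf 228) (.leaf 4377)) (.node (.leaf 2074) (.leaf 6838))) (.node (.node (.leaf 1016) (.leaf 5760)) (.node (.leaf 5216) (.leaf 7914)))) (.node (.node (.node (.leaf 567) (.leaf 5547)) (.node (.leaf 2819) (.leaf 7894))) (.node (.node (.leaf 1572) (.leaf 6290)) (.node (.leaf 6479) (.leaf 8548))))) (.node (.node (.node (.node (.leaf 371) (.leaf 4686)) (.node (.leaf 3917) (.leaf 7122))) (.node (.node (.leaf 1208) (.leaf 6025)) (.node (.leaf 3580) (.leaf 8341)))) (.node (.node (.node (.leaf 762) (.leaf 5413)) (.node (.leaf 3055) (.leaf 8419))) (.node (.node (.leaf 2679) (.leaf 6568)) (.node (.leaf 4094) (.leaf 8884)))))) (.node (.node (.node (.node (.node (.leaf 554) (.leaf 4510)) (.node (.leaf 2471) (.leaf 8529))) (.node (.node (.leaf 1088) (.leaf 7425)) (.node (.leaf 3476) (.leaf 8899)))) (.node (.node (.node (.leaf 658) (.leaf 5321)) (.node (.leaf 2926) (.leaf 7542))) (.node (.node (.leaf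 1714) (.leaf 6443)) (.node (.leaf 3978) (.leaf 8982))))) (.node (.node (.node (.node (.leaf 2307) (.leaf 4848)) (.node (.leaf 2981) (.leaf 7246))) (.node (.node (.leaf 2370) (.leaf 6133)) (.node (.leaf 6215) (.leaf 8366)))) (.node (.node (.node (.leaf 901) (.leaf 5594)) (.node (.leaf 5738) (.leaf 7774))) (.node (.node (.leaf 1959) (.leaf 6702)) (.node (.leaf 4220) (.leaf 8969))))))) (.node (.node (.node (.node (.node (.node (.leaf 250) (.leaf 4479)) (.node (.leaf 2155) (.leaf 8393))) (.node (.node (.leaf 1050) (.leaf 5859)) (.node (.leaf 3432) (.leaf 8949)))) (.node (.node (.node (.leaf 624) (.leaf 5635)) (.node (.leaf 2884) (.leaf 7457))) (.node (.node (.leaf 1622) (.leaf 6396)) (.node (.leaf 3901) (.leaf 8628))))) (.node (.node (.node (.node (.leaf 484) (.leaf 4745)) (.node (.leaf 2667) (.leaf 7190))) (.node (.node (.leaf 1415) (.leaf 6092)) (.node (.leaf 6234) (.leaf 8266)))) (.node (.node (.node (.leaf 1364) (.leaf 5487)) (.node (.leaf 4375) (.leaf 7716))) (.node (.node (.leaf 1874) (.leaf 6646))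 (.node (.leaf 4155) (.leaf 8880)))))) (.node (.node (.node (.node (.node (.leaf 323) (.leaf 4604)) (.node (.leaf 2526) (.leaf 7082))) (.node (.node (.leaf 3202) (.leaf 5964)) (.node (.leaf 3526) (.leaf 8141)))) (.node (.node (.node (.leaf 2398) (.leaf 5374)) (.node (.leaf 2990) (.leaf 7588))) (.node (.node (.leaf 1757) (.leaf 6502)) (.node (.leaf 4023) (.leaf 8765))))) (.node (.node (.node (.node (.leaf 530) (.leaf 5447)) (.node (.leaf 4952) (.leaf 7306))) (.node (.node (.leaf 1493) (.leaf 6197)) (.node (.leaf 6161) (.leaf 8454)))) (.node (.node (.node (.leaf 1345) (.leaf 5763)) (.node (.leaf 5181) (.leaf 7822))) (.node (.node (.leaf 2016) (.leaf 6756)) (.node (.leaf 4293) (.leaf 9058)))))))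
def dFin_113 : BT := .node (.node (.node (.node (.node (.node (.node (.leaf 284) (.leaf 6911)) (.node (.leaf 2114) (.leaf 8359))) (.node (.node (.leaf 1034) (.leaf 5815)) (.node (.leaf 4515) (.leaf 7950)))) (.node (.node (.node (.leaf 598) (.leaf 5587)) (.node (.leaf 2864) (.leaf 8111))) (.node (.node (.leaf 1591) (.leaf 6330)) (.node (.leaf 3903) (.leaf 8586))))) (.node (.node (.node (.node (.leaf 405) (.leaf 4726)) (.node (.leaf 4804) (.leaf 7160))) (.node (.node (.leaf 1238) (.leaf 6068)) (.node (.leaf 3648) (.leaf 8236)))) (.node (.node (.node (.leaf 1362) (.leaf 5444)) (.node (.leaf 3116) (.leaf 7680))) (.node (.node (.leaf 3997) (.leaf 6603)) (.node (.leaf 4130) (.leaf 8846)))))) (.node (.node (.node (.node (.node (.leaf 381) (.leaf 4578)) (.node (.leaf 2508) (.leaf 8539))) (.node (.node (.leaf 1114) (.leaf 6505)) (.node (.leaf 3502) (.leaf 8103)))) (.node (.node (.node (.leaf 678) (.leaf 5345)) (.node (.leaf 2946) (.leaf 7554))) (.node (.node (.leaf 1732) (.leaf 8050)) (.node (.leaf 4002) (.leaf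 8691))))) (.node (.node (.node (.node (.leaf 1280) (.leaf 4896)) (.node (.leaf 2774) (.leaf 7273))) (.node (.node (.leaf 2821) (.leaf 6166)) (.node (.leaf 3776) (.leaf 8408)))) (.node (.node (.node (.leaf 2419) (.leaf 7544)) (.node (.leaf 3254) (.leaf 7798))) (.node (.node (.leaf 2095) (.leaf 6722)) (.node (.leaf 4453) (.leaf 9010))))))) (.node (.node (.node (.node (.node (.node (.leaf 181) (.leaf 4474)) (.node (.leaf 2206) (.leaf 8481))) (.node (.node (.leaf 1069) (.leaf 5867)) (.node (.leaf 3456) (.leaf 8094)))) (.node (.node (.node (.leaf 644) (.leaf 5298)) (.node (.leaf 2903) (.leaf 7461))) (.node (.node (.leaf 1684) (.leaf 6405)) (.node (.leaf 3956) (.leaf 8991))))) (.node (.node (.node (.node (.leaf 458) (.leaf 4776)) (.node (.leaf 2706) (.leaf 7228))) (.node (.node (.leaf 1446) (.leaf 6112)) (.node (.leaf 3699) (.leaf 8320)))) (.node (.node (.node (.leaf 3396) (.leaf 5566)) (.node (.leaf 3192) (.leaf 7744))) (.node (.node (.leaf 1895) (.leaf 6670)) (.node (.leaf 5361) (.leaf 8924)))))) (.node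 (.node (.node (.node (.node (.leaf 349) (.leaf 4658)) (.node (.leaf 2578) (.leaf 7080))) (.node (.node (.leaf 2151) (.leaf 5994)) (.node (.leaf 3545) (.leaf 8187)))) (.node (.node (.node (.leaf 788) (.leaf 5394)) (.node (.leaf 3024) (.leaf 7657))) (.node (.node (.leaf 2435) (.leaf 6542)) (.node (.leaf 4066) (.leaf 8775))))) (.node (.node (.node (.node (.leaf 550) (.leaf 5510)) (.node (.leaf 3097) (.leaf 7328))) (.node (.node (.leaf 1550) (.leaf 6254)) (.node (.leaf 3843) (.leaf 8498)))) (.node (.node (.node (.leaf 973) (.leaf 7578)) (.node (.leaf 3352) (.leaf 7862))) (.node (.node (.leaf 2457) (.leaf 6777)) (.leaf 6591))))))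
def dFin_114 : BT := .node dFin_112 dFin_113
def dFin_115 : BT := .node dFin_111 dFin_114
def dFin_116 : BT := .node (.node (.node (.node (.node (.node (.node (.leaf 16) (.leaf 4347)) (.node (.leaf 2066) (.leaf 6843))) (.node (.node (.leaf 1008) (.leaf 5744)) (.node (.leaf 3344) (.leaf 7941)))) (.node (.node (.node (.leaf 559) (.leaf 6684)) (.node (.leaf 2836) (.leaf 7349))) (.node (.node (.leaf 1562) (.leaf 6281)) (.node (.leaf 3856) (.leaf 8544))))) (.node (.node (.node (.node (.leaf 2250) (.leaf 7048)) (.node (.leaf 2605) (.leaf 7108))) (.node (.node (.leaf 2227) (.leaf 6015)) (.node (.leaf 6051) (.leaf 8202)))) (.node (.node (.node (.leaf 758) (.leaf 5405)) (.node (.leaf 3064) (.leaf 7644))) (.node (.node (.leaf 3675) (.leaf 6560)) (.node (.leaf 4899) (.leaf 8800)))))) (.node (.node (.node (.node (.node (.leaf 513) (.leaf 4498)) (.node (.leaf 2460) (.leaf 6976))) (.node (.node (.leaf 1241) (.leaf 5890)) (.node (.leaf 3468) (.leaf 8052)))) (.node (.node (.node (.leaf 1851) (.leaf 5310)) (.node (.leaf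 2918) (.leaf 7969))) (.node (.node (.leaf 1697) (.leaf 6436)) (.node (.leaf 3970) (.leaf 8779))))) (.node (.node (.node (.node (.leaf 475) (.leaf 7135)) (.node (.leaf 2724) (.leaf 7237))) (.node (.node (.leaf 1460) (.leaf 6394)) (.node (.leaf 6445) (.leaf 8344)))) (.node (.node (.node (.leaf 869) (.leaf 7463)) (.node (.leaf 3208) (.leaf 7764))) (.node (.node (.leaf 1914) (.leaf 6694)) (.node (.leaf 4411) (.leaf 8961))))))) (.node (.node (.node (.node (.node (.node (.leaf 201) (.leaf 4426)) (.node (.leaf 2139) (.leaf 8105))) (.node (.node (.leaf 1041) (.leaf 5810)) (.node (.leaf 3424) (.leaf 7978)))) (.node (.node (.node (.leaf 1699) (.leaf 5266)) (.node (.leaf 2876) (.leaf 7455))) (.node (.node (.leaf 1614) (.leaf 6358)) (.node (.leaf 3926) (.leaf 8695))))) (.node (.node (.node (.node (.leaf 430) (.leaf 7086)) (.node (.leaf 4557) (.leaf 7182))) (.node (.node (.leaf 1227) (.leaf 7891)) (.node (.leaf 3707) (.leaf 8258)))) (.node (.node (.node (.leaf 1375) (.leaf 5498)) (.node (.leaf 3165) (.leaf 7708)))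 (.node (.node (.leaf 1886) (.leaf 6638)) (.node (.leaf 4356) (.leaf 8871)))))) (.node (.node (.node (.node (.node (.leaf 585) (.leaf 4588)) (.node (.leaf 2535) (.leaf 7036))) (.node (.node (.leaf 1135) (.leaf 5956)) (.node (.leaf 3513) (.leaf 8132)))) (.node (.node (.node (.leaf 1787) (.leaf 5366)) (.node (.leaf 3007) (.leaf 7569))) (.node (.node (.leaf 3792) (.leaf 6494)) (.node (.leaf 4013) (.leaf 8929))))) (.node (.node (.node (.node (.leaf 522) (.leaf 4951)) (.node (.leaf 2784) (.leaf 7296))) (.node (.node (.leaf 1514) (.leaf 6230)) (.node (.leaf 3798) (.leaf 8476)))) (.node (.node (.node (.leaf 936) (.leaf 5678)) (.node (.leaf 3274) (.leaf 7859))) (.node (.node (.leaf 2000) (.leaf 8247)) (.node (.leaf 4315) (.leaf 9048)))))))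
def dFin_117 : BT := .node (.node (.node (.node (.node (.node (.node (.leaf 157) (.leaf 4390)) (.node (.leaf 2106) (.leaf 8389))) (.node (.node (.leaf 1026) (.leaf 5741)) (.node (.leaf 3373) (.leaf 8010)))) (.node (.node (.node (.leaf 2247) (.leaf 5246)) (.node (.leaf 2856) (.leaf 7417))) (.node (.node (.leaf 1583) (.leaf 6321)) (.node (.leaf 3889) (.leaf 8569))))) (.node (.node (.node (.node (.leaf 1322) (.leaf 4701)) (.node (.leaf 2642) (.leaf 7152))) (.node (.node (.leaf 1230) (.leaf 6060)) (.node (.leaf 3643) (.leaf 8226)))) (.node (.node (.node (.leaf 2237) (.leaf 5425)) (.node (.leaf 3106) (.leaf 7672))) (.node (.node (.leaf 5116) (.leaf 6595)) (.node (.leaf 4289) (.leaf 8832)))))) (.node (.node (.node (.node (.node (.leaf 613) (.leaf 4570)) (.node (.leaf 2500) (.leaf 7008))) (.node (.node (.leaf 1133) (.leaf 5920)) (.node (.leaf 3494) (.leaf 8082)))) (.node (.node (.node (.leaf 2393) (.leaf 5337)) (.node (.leaf 5518) (.leaf 7530))) (.node (.node (.leaf 1743) (.leaf 6462)) (.node (.leaf 3988)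 (.leaf 8725))))) (.node (.node (.node (.node (.leaf 502) (.leaf 5166)) (.node (.leaf 2756) (.leaf 8240))) (.node (.node (.leaf 1481) (.leaf 6165)) (.node (.leaf 3788) (.leaf 8400)))) (.node (.node (.node (.leaf 912) (.leaf 5657)) (.node (.leaf 5064) (.leaf 7896))) (.node (.node (.leaf 1976) (.leaf 8223)) (.node (.leaf 4239) (.leaf 9000))))))) (.node (.node (.node (.node (.node (.node (.leaf 79) (.leaf 4466)) (.node (.leaf 2198) (.leaf 6938))) (.node (.node (.leaf 2322) (.leaf 5848)) (.node (.leaf 3448) (.leaf 8086)))) (.node (.node (.node (.leaf 1817) (.leaf 5288)) (.node (.leaf 2895) (.leaf 7493))) (.node (.node (.leaf 3764) (.leaf 6387)) (.node (.leaf 3948) (.leaf 8743))))) (.node (.node (.node (.node (.leaf 452) (.leaf 7105)) (.node (.leaf 2726) (.leaf 7218))) (.node (.node (.leaf 1436) (.leaf 6253)) (.node (.leaf 3719) (.leaf 8312)))) (.node (.node (.node (.leaf 838) (.leaf 5556)) (.node (.leaf 4961) (.leaf 7734))) (.node (.node (.leaf 2430) (.leaf 6659)) (.node (.leaf 4365) (.leaf 8916)))))) (.node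 (.node (.node (.node (.node (.leaf 756) (.leaf 4650)) (.node (.leaf 2569) (.leaf 7065))) (.node (.node (.leaf 3027) (.leaf 5980)) (.node (.leaf 4606) (.leaf 8170)))) (.node (.node (.node (.leaf 784) (.leaf 5386)) (.node (.leaf 3040) (.leaf 7622))) (.node (.node (.leaf 1791) (.leaf 6534)) (.node (.leaf 4058) (.leaf 8762))))) (.node (.node (.node (.node (.leaf 538) (.leaf 5506)) (.node (.leaf 2805) (.leaf 7347))) (.node (.node (.leaf 1542) (.leaf 6242)) (.node (.leaf 3830) (.leaf 8488)))) (.node (.node (.node (.leaf 961) (.leaf 7633)) (.node (.leaf 3298) (.leaf 7883))) (.node (.node (.leaf 2025) (.leaf 8092)) (.leaf 5471))))))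
def dFin_118 : BT := .node dFin_116 dFin_117
def dFin_119 : BT := .node (.node (.node (.node (.node (.node (.node (.leaf 1316) (.leaf 4372)) (.node (.leaf 2125) (.leaf 6850))) (.node (.node (.leaf 1139) (.leaf 5768)) (.node (.leaf 3386) (.leaf 7922)))) (.node (.node (.node (.leaf 2294) (.leaf 6661)) (.node (.leaf 3141) (.leaf 7360))) (.node (.node (.leaf 2627) (.leaf 6300)) (.node (.leaf 3898) (.leaf 8558))))) (.node (.node (.node (.node (.leaf 952) (.leaf 4694)) (.node (.leaf 2616) (.leaf 7137))) (.node (.node (.leaf 1201) (.leaf 7293)) (.node (.leaf 3588) (.leaf 8353)))) (.node (.node (.node (.leaf 771) (.leaf 5855)) (.node (.leaf 3071) (.leaf 7659))) (.node (.node (.leaf 1828) (.leaf 6582)) (.node (.leaf 4102) (.leaf 8843)))))) (.node (.node (.node (.node (.node (.leaf 263) (.leaf 4559)) (.node (.leaf 2479) (.leaf 6992))) (.node (.node (.leaf 1096) (.leaf 7723)) (.node (.leaf 5277) (.leaf 8065)))) (.node (.node (.node (.leaf 670) (.leaf 7351)) (.node (.leaf 2911) (.leaf 7499))) (.node (.node (.leaf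 1722) (.leaf 7855)) (.node (.leaf 5175) (.leaf 8672))))) (.node (.node (.node (.node (.leaf 1278) (.leaf 4857)) (.node (.leaf 5192) (.leaf 7258))) (.node (.node (.leaf 1490) (.leaf 6141)) (.node (.leaf 3742) (.leaf 8421)))) (.node (.node (.node (.leaf 2571) (.leaf 5602)) (.node (.leaf 3207) (.leaf 7881))) (.node (.node (.leaf 4147) (.leaf 6710)) (.node (.leaf 4214) (.leaf 9025))))))) (.node (.node (.node (.node (.node (.node (.leaf 166) (.leaf 4481)) (.node (.leaf 4144) (.leaf 6922))) (.node (.node (.leaf 1388) (.leaf 5830)) (.node (.leaf 5122) (.leaf 7989)))) (.node (.node (.node (.leaf 632) (.leaf 5273)) (.node (.leaf 5383) (.leaf 7436))) (.node (.node (.leaf 1601) (.leaf 6362)) (.node (.leaf 5099) (.leaf 8630))))) (.node (.node (.node (.node (.leaf 480) (.leaf 4757)) (.node (.leaf 2682) (.leaf 7467))) (.node (.node (.leaf 3360) (.leaf 6100)) (.node (.leaf 3682) (.leaf 8987)))) (.node (.node (.node (.leaf 822) (.leaf 5503)) (.node (.leaf 3152) (.leaf 7751))) (.node (.node (.leaf 1869) (.leaf 7167))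 (.node (.leaf 4165) (.leaf 8953)))))) (.node (.node (.node (.node (.node (.leaf 328) (.leaf 4647)) (.node (.leaf 2540) (.leaf 7084))) (.node (.node (.leaf 1150) (.leaf 5979)) (.node (.leaf 3534) (.leaf 8155)))) (.node (.node (.node (.leaf 716) (.leaf 5381)) (.node (.leaf 2998) (.leaf 7604))) (.node (.node (.leaf 1767) (.leaf 6513)) (.node (.leaf 4040) (.leaf 8754))))) (.node (.node (.node (.node (.leaf 3395) (.leaf 4928)) (.node (.leaf 3084) (.leaf 7314))) (.node (.node (.leaf 1531) (.leaf 6212)) (.node (.leaf 3814) (.leaf 8462)))) (.node (.node (.node (.leaf 2662) (.leaf 5680)) (.node (.leaf 4457) (.leaf 7830))) (.node (.node (.leaf 2162) (.leaf 6764)) (.node (.leaf 4294) (.leaf 9066)))))))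
def dFin_120 : BT := .node (.node (.node (.node (.node (.node (.node (.leaf 303) (.leaf 4420)) (.node (.leaf 4449) (.leaf 6878))) (.node (.node (.leaf 2934) (.leaf 7205)) (.node (.leaf 3407) (.leaf 7956)))) (.node (.node (.node (.leaf 1334) (.leaf 7179)) (.node (.leaf 3183) (.leaf 7388))) (.node (.node (.leaf 2913) (.leaf 6318)) (.node (.leaf 6411) (.leaf 8596))))) (.node (.node (.node (.node (.leaf 412) (.leaf 4734)) (.node (.leaf 2645) (.leaf 7427))) (.node (.node (.leaf 1244) (.leaf 6039)) (.node (.leaf 3656) (.leaf 8287)))) (.node (.node (.node (.leaf 2458) (.leaf 5462)) (.node (.leaf 3124) (.leaf 7687))) (.node (.node (.leaf 1846) (.leaf 6633)) (.node (.leaf 4138) (.leaf 8854)))))) (.node (.node (.node (.node (.node (.leaf 293) (.leaf 4612)) (.node (.leaf 2516) (.leaf 7111))) (.node (.node (.leaf 1122) (.leaf 5943)) (.node (.leaf 6076) (.leaf 8120)))) (.node (.node (.node (.leaf 687) (.leaf 5751)) (.node (.leaf 2954) (.leaf 8368))) (.node (.node (.leaf 1746) (.leaf 7907)) (.node (.leaf 4030) (.leaf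 8706))))) (.node (.node (.node (.node (.leaf 1396) (.leaf 4904)) (.node (.leaf 5207) (.leaf 7283))) (.node (.node (.leaf 1503) (.leaf 6174)) (.node (.leaf 3769) (.leaf 8416)))) (.node (.node (.node (.leaf 923) (.leaf 5646)) (.node (.leaf 5040) (.leaf 7806))) (.node (.node (.leaf 2097) (.leaf 6736)) (.node (.leaf 4250) (.leaf 9046))))))) (.node (.node (.node (.node (.node (.node (.leaf 217) (.leaf 6506)) (.node (.leaf 3357) (.leaf 6947))) (.node (.node (.leaf 1077) (.leaf 5875)) (.node (.leaf 5104) (.leaf 8026)))) (.node (.node (.node (.leaf 652) (.leaf 5306)) (.node (.leaf 3241) (.leaf 7472))) (.node (.node (.leaf 1692) (.leaf 6420)) (.node (.leaf 5121) (.leaf 8650))))) (.node (.node (.node (.node (.leaf 462) (.leaf 4790)) (.node (.leaf 2701) (.leaf 8001))) (.node (.node (.leaf 3375) (.leaf 6122)) (.node (.leaf 3724) (.leaf 8382)))) (.node (.node (.node (.leaf 874) (.leaf 5574)) (.node (.leaf 3180) (.leaf 8739))) (.node (.node (.leaf 2429) (.leaf 6680)) (.node (.leaf 4194) (.leaf 8940)))))) (.node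 (.node (.node (.node (.node (.leaf 356) (.leaf 6184)) (.node (.leaf 2586) (.leaf 7130))) (.node (.node (.leaf 1174) (.leaf 6036)) (.node (.leaf 3555) (.leaf 8575)))) (.node (.node (.node (.leaf 744) (.leaf 5402)) (.node (.leaf 3044) (.leaf 7655))) (.node (.node (.leaf 1800) (.leaf 6616)) (.node (.leaf 4074) (.leaf 8859))))) (.node (.node (.node (.node (.leaf 1216) (.leaf 5197)) (.node (.leaf 3109) (.leaf 7336))) (.node (.node (.leaf 1561) (.leaf 6245)) (.node (.leaf 3852) (.leaf 8506)))) (.node (.node (.node (.leaf 2741) (.leaf 5717)) (.node (.leaf 3339) (.leaf 7870))) (.node (.node (.leaf 2083) (.leaf 6798)) (.leaf 4322))))))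
def dFin_121 : BT := .node dFin_119 dFin_120
def dFin_122 : BT := .node dFin_118 dFin_121
def dFin_123 : BT := .node dFin_115 dFin_122
def dFin_124 : BT := .node dFin_108 dFin_123
def dFin_125 : BT := .node dFin_93 dFin_124
def dFin_126 : BT := .node dFin_62 dFin_125
def dFin : BT := dFin_126
theorem chk_all : chkAll dD dJS 0 = true := by decide +kernel
theorem chk_fin : chkFin dD 240 dJS.length dLive dPos dFin = true := by decide +kernel
end Cfsg.Agent.Lib.Helper66.O8Up
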