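import Cfsg.Agent.Lib.Helper66.O8H
import Cfsg.Agent.Lib.Helper66.O8Up
import Cfsg.Agent.Lib.Helper66.O8Pres

/-! # The Schur multiplier of `Ω8+(2)` has order at most 4; a presentation bound -/

set_option autoImplicit false
set_option maxRecDepth 100000

namespace Cfsg.Agent.Lib.Helper66.O8U

open scoped commutatorElement
open Cfsg Cfsg.Agent.Lib.Helper66 Cfsg.Agent.Lib.Helper66.TCE Cfsg.Agent.Lib.Helper66.O8G

abbrev PO := POmega (ZMod 2) (quadFormPlus 4 (ZMod 2))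

instance : Finite PO := Nat.finite_of_card_ne_zero (by rw [card_PO]; norm_num)

theorem exists_hom_Sp {Δ : Type} [Group Δ] [Finite Δ] (d : ℕ → Δ) (h : ∀ w ∈ SR, ev d w = 1) :
    ∃ ψ : PSp 3 (ZMod 2) →* Δ, ∀ i < 7, d i ∈ ψ.range := by
  obtain ⟨ψ, hψ⟩ := exists_hom_of_PB 7 Sp6G.gb d Sp6G.closure_gb (Sp6G.SR ++ Sp6G.EX)
    Cfsg.Agent.S2093.RG_lt Cfsg.Agent.S2093.RG_one h Sp6U.PB
  exact ⟨ψ, fun i hi => ⟨_, hψ i hi⟩⟩

theorem pres_rels : ∀ w ∈ O8Pres.dRels, cls 7 (SR ++ EX) [] [] w = true := by decide +kernel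

/-- **Presentation bound** for `Ω8+(2)`. -/
theorem PB (Δ : Type) [Group Δ] [Finite Δ] (d : ℕ → Δ)
    (hgen : Subgroup.closure {x | ∃ i < 8, x = d i} = ⊤) (hR : ∀ w ∈ SR ++ EX, ev d w = 1) :
    Nat.card Δ ≤ Nat.card PO := by
  obtain ⟨ψ, hψ⟩ := exists_hom_Sp d (fun w hw => hR w (List.mem_append_left _ hw))
  obtain ⟨g, hg⟩ : ∃ g : ℕ → Δ, g = fun i => if i < 8 then d i else 1 := ⟨_, rfl⟩
  have hgd : ∀ i < 8, g i = d i := fun i hi => by rw [hg]; simp [hi]
  have hg1 : ∀ i, 8 ≤ i → g i = 1 := fun i hi => by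
    rw [hg]; simp [show ¬ i < 8 by omega]
  have hev : ∀ w ∈ SR ++ EX, ev g w = 1 := by
    intro w hw
    rw [← hR w hw]
    apply ev_congr
    intro a ha
    apply hgd
    have h12 : a < 16 := by
      rcases List.mem_append.mp hw with h | h
      · exact lt_of_chk (List.all_eq_true.mp SR_chk w h) a ha
      · exact lt_of_chk (List.all_eq_true.mp EX_chk w h) a ha
    omega
  have h := card_le (g := g) (S := ψ.range) (D := O8Pres.dD) (hg1 8 le_rfl)
    (by
      have : {x | ∃ i < O8Pres.dD.k, x = g i} = {x | ∃ i < 8, x = d i} := by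
        ext x
        constructor
        · rintro ⟨i, hi, rfl⟩; exact ⟨i, hi, hgd i hi⟩
        · rintro ⟨i, hi, rfl⟩; exact ⟨i, hi, (hgd i hi).symm⟩
      rw [this, hgen])
    (fun w hw => good_of_cls ψ.range g 7 (SR ++ EX) [] []
      (fun i hi => by rw [hg1 i hi]; exact one_mem _)
      (fun w hw x => by rw [hev w hw]; simp [one_mem])
      (fun j hj => absurd hj (by simp)) rfl w (pres_rels w hw))
    (by
      intro a ha
      apply L_mem
      have ha' : a ∈ [0, 2, 4, 6, 8, 10, 12] := ha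
      have h5 : a / 2 < 7 := by
        simp only [List.mem_cons, List.not_mem_nil, or_false] at ha'
        rcases ha' with rfl | rfl | rfl | rfl | rfl | rfl | rfl <;> norm_num
      rw [hgd _ (by omega)]
      exact hψ _ h5)
    O8Pres.dJS O8Pres.chk_all 120 O8Pres.dLive O8Pres.dPos O8Pres.dFin O8Pres.chk_fin
  have h2 : Nat.card ψ.range ≤ 1451520 := by
    rw [← Sp6G.card_PSp]
    exact Nat.card_le_card_of_surjective ψ.rangeRestrict ψ.rangeRestrict_surjective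
  rw [card_PO]
  calc Nat.card Δ ≤ 120 * Nat.card ψ.range := h
    _ ≤ 120 * 1451520 := Nat.mul_le_mul_left _ h2
    _ = 174182400 := by norm_num

theorem up_rels : ∀ w ∈ O8Up.dRels, cls 7 SR EX [27, 16] w = true := by decide +kernel

theorem commutator_PSp : commutator (PSp 3 (ZMod 2)) = ⊤ := by
  have h := Cfsg.Agent.Lib.Helper5.sp_commutator_eq_top (F := ZMod 2) (m := 3) (Or.inl le_rfl)
  have h2 := congrArg (Subgroup.map (QuotientGroup.mk'
    (Subgroup.center (Matrix.symplecticGroup (Fin 3) (ZMod 2))))) h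
  rw [commutator_def, Subgroup.map_commutator,
    Subgroup.map_top_of_surjective _ (QuotientGroup.mk'_surjective _)] at h2
  rw [commutator_def]
  exact h2

theorem card_ker_le (Γ : Type) [Group Γ] [Finite Γ] (π : Γ →* PO)
    (hπ : Cfsg.IsStemExtension π) : Nat.card π.ker ≤ 4 := by
  have hSRg : ∀ w ∈ SR, ev gb w = 1 := fun w hw => ev_gb_of_chk (List.all_eq_true.mp SR_chk w hw)
  obtain ⟨ψ, hψ⟩ := exists_hom_Sp gb hSRg
  obtain ⟨H₁, hcard, hlift⟩ := link ψ π hπ.1 hπ.2.1 commutator_PSp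
  have hy : ∀ i, ∃ γ : Γ, π γ = gb i ∧ (i < 7 → γ ∈ H₁) := by
    intro i
    by_cases hi : i < 7
    · obtain ⟨a, ha⟩ := hψ i hi
      obtain ⟨γ, hγ, hγa⟩ := hlift a
      exact ⟨γ, hγa.trans ha, fun _ => hγ⟩
    · obtain ⟨γ, hγ⟩ := hπ.1 (gb i)
      exact ⟨γ, hγ, fun h => absurd h hi⟩
  choose g₁ hg₁π hg₁H using hy
  have hker : ∀ (g' : ℕ → Γ), (∀ i, π (g' i) = gb i) → ∀ w, chkW w = true →
      ev g' w ∈ π.ker := by
    intro g' hg' w hw
    rw [MonoidHom.mem_ker, ev_map]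
    have : (fun i => π (g' i)) = gb := funext hg'
    rw [this]
    exact ev_gb_of_chk hw
  have hE0 : chkW [12, 14, 13, 14] = true := by decide +kernel
  have hE5 : chkW [14, 14, 14] = true := by decide +kernel
  obtain ⟨c, hc⟩ : ∃ c, c = ev g₁ [12, 14, 13, 14] * (ev g₁ [14, 14, 14])⁻¹ := ⟨_, rfl⟩
  have hck : c ∈ π.ker := by
    rw [hc]; exact mul_mem (hker g₁ hg₁π _ hE0) (inv_mem (hker g₁ hg₁π _ hE5))
  have hcc : c ∈ Subgroup.center Γ := hπ.2.1 hck
  obtain ⟨g₂, hg₂⟩ : ∃ g₂, g₂ = Function.update g₁ 7 (g₁ 7 * c) := ⟨_, rfl⟩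
  have hg₂π : ∀ i, π (g₂ i) = gb i := by
    intro i
    rw [hg₂]
    by_cases hi : i = 7
    · subst hi
      rw [Function.update_self, map_mul, hg₁π, MonoidHom.mem_ker.mp hck, mul_one]
    · rw [Function.update_of_ne hi, hg₁π]
  have hg₂H : ∀ i < 7, g₂ i ∈ H₁ := by
    intro i hi
    rw [hg₂, Function.update_of_ne (by omega)]
    exact hg₁H i hi
  have hnorm : (ev g₂ [12, 14, 13, 14])⁻¹ * ev g₂ [14, 14, 14] = 1 := by
    rw [hg₂, ev_scale g₁ 7 hcc, ev_scale g₁ 7 hcc]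
    have e1 : es 7 [12, 14, 13, 14] = 2 := by decide
    have e2 : es 7 [14, 14, 14] = 3 := by decide
    rw [e1, e2]
    have hz0 := hπ.2.1 (hker g₁ hg₁π _ hE0)
    have hz5 := hπ.2.1 (hker g₁ hg₁π _ hE5)
    obtain ⟨a, ha⟩ : ∃ a, a = ev g₁ [12, 14, 13, 14] := ⟨_, rfl⟩
    obtain ⟨b, hb⟩ : ∃ b, b = ev g₁ [14, 14, 14] := ⟨_, rfl⟩
    rw [← ha, ← hb] at hc
    rw [← ha] at hz0
    rw [← hb] at hz5
    rw [← ha, ← hb]
    have hba : b * a = a * b := Subgroup.mem_center_iff.mp hz0 b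
    have hc2 : ∀ x, c ^ (2 : ℤ) * x = x * c ^ (2 : ℤ) := fun x =>
      (Subgroup.mem_center_iff.mp (zpow_mem hcc 2) x).symm
    calc (a * c ^ (2 : ℤ))⁻¹ * (b * c ^ (3 : ℤ))
        = (c ^ (2 : ℤ))⁻¹ * (c ^ (2 : ℤ) * (a⁻¹ * b * c)) := by rw [hc2 (a⁻¹ * b * c)]; group
      _ = a⁻¹ * b * c := by group
      _ = a⁻¹ * (b * a) * b⁻¹ := by rw [hc]; group
      _ = 1 := by rw [hba]; group
  obtain ⟨g, hg⟩ : ∃ g : ℕ → Γ, g = fun i => if i < 8 then g₂ i else ev g₂ (EX.getD (i - 8) []) :=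
    ⟨_, rfl⟩
  have hg6 : ∀ i < 8, g i = g₂ i := fun i hi => by rw [hg]; simp [hi]
  have hgz : ∀ i, 8 ≤ i → g i = ev g₂ (EX.getD (i - 8) []) := fun i hi => by
    rw [hg]; simp [show ¬ i < 8 by omega]
  have hev : ∀ w, chkW w = true → ev g w = ev g₂ w := by
    intro w hw
    apply ev_congr
    intro a ha
    have := lt_of_chk hw a ha
    exact hg6 _ (by omega)
  have hcen : ∀ i, 7 + 1 ≤ i → g i ∈ Subgroup.center Γ := by
    intro i hi
    rw [hgz i hi]
    by_cases hj : i - 8 < EX.length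
    · rw [List.getD_eq_getElem _ _ hj]
      exact hπ.2.1 (hker g₂ hg₂π _ (List.all_eq_true.mp EX_chk _ (List.getElem_mem hj)))
    · rw [List.getD_eq_default _ _ (by omega)]
      simp [one_mem]
  have hdef : ∀ j (hj : j < EX.length), g (7 + 1 + j) = ev g EX[j] := by
    intro j hj
    rw [hgz _ (by omega), hev _ (List.all_eq_true.mp EX_chk _ (List.getElem_mem hj)),
      show 7 + 1 + j - 8 = j by omega, List.getD_eq_getElem _ _ hj]
  have hsr : ∀ w ∈ SR, ∀ x : Γ, x * ev g w * x⁻¹ ∈ H₁ := by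
    intro w hw x
    have hw' := List.all_eq_true.mp SR_chk w hw
    have h1 : ev g w ∈ Subgroup.center Γ := by
      rw [hev w hw']; exact hπ.2.1 (hker g₂ hg₂π _ hw')
    have h2 : x * ev g w * x⁻¹ = ev g w := by
      rw [Subgroup.mem_center_iff.mp h1 x]; simp
    rw [h2]
    apply ev_mem
    intro a ha
    have h10 : ∀ w ∈ SR, ∀ a ∈ w, a < 14 := by decide
    have := h10 w hw a ha
    rw [hg6 _ (by omega)]
    exact hg₂H _ (by omega)
  have hnw : ev g [27, 16] = 1 := by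
    have e1 : L g 27 = (g 13)⁻¹ := by unfold L; norm_num
    have e2 : L g 16 = g 8 := by unfold L; norm_num
    rw [ev_cons, ev_cons, ev_nil, e1, e2, hgz 13 (by norm_num), hgz 8 le_rfl, mul_one]
    exact hnorm
  have hgen : Subgroup.closure {x | ∃ i < O8Up.dD.k, x = g i} = ⊤ := by
    apply Cfsg.Agent.Lib.Helper66.IsStemExtension.closure_eq_top hπ
    rw [eq_top_iff, ← closure_gb]
    apply Subgroup.closure_mono
    rintro _ ⟨i, hi, rfl⟩
    exact ⟨g i, ⟨i, by change i < 17; omega, rfl⟩, by rw [hg6 i hi, hg₂π]⟩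
  have h := card_le (g := g) (S := H₁) (D := O8Up.dD)
    (by
      change g 17 = 1
      rw [hgz 17 (by norm_num)]
      rfl)
    hgen
    (fun w hw => good_of_cls H₁ g 7 SR EX [27, 16] hcen hsr hdef hnw w (up_rels w hw))
    (by
      intro a ha
      apply L_mem
      have ha' : a ∈ [0, 2, 4, 6, 8, 10, 12] := ha
      have h5 : a / 2 < 7 := by
        simp only [List.mem_cons, List.not_mem_nil, or_false] at ha'
        rcases ha' with rfl | rfl | rfl | rfl | rfl | rfl | rfl <;> norm_num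
      rw [hg6 _ (by omega)]
      exact hg₂H _ h5)
    O8Up.dJS O8Up.chk_all 240 O8Up.dLive O8Up.dPos O8Up.dFin O8Up.chk_fin
  have hH : Nat.card H₁ ≤ 2 * 1451520 := by
    rw [Sp6G.card_PSp] at hcard
    exact hcard.trans (Nat.mul_le_mul_right _ Cfsg.Agent.S2093.card_schurM_le)
  have h3 : Nat.card Γ = Nat.card PO * Nat.card π.ker := by
    rw [Subgroup.card_eq_card_quotient_mul_card_subgroup π.ker,
      Nat.card_congr (QuotientGroup.quotientKerEquivOfSurjective π hπ.1).toEquiv]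
  rw [card_PO] at h3
  have h4 : Nat.card Γ ≤ 240 * (2 * 1451520) := h.trans (Nat.mul_le_mul_left _ hH)
  rw [h3] at h4
  omega

end Cfsg.Agent.Lib.Helper66.O8U
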