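import Mathlib
import Cfsg.Agent.S0038
import Cfsg.Agent.S0666
import Cfsg.Agent.S3997
import Cfsg.Agent.Lib.Helper56.FrobComplement
import Cfsg.Agent.Lib.Helper68.Frobenius
import Cfsg.Agent.Lib.Helper66.FrobBasic

/-!
Tools for 2-Frobenius groups.
-/

set_option autoImplicit false
set_option linter.unusedSectionVars false
open scoped Pointwise

namespace Cfsg.Agent.Lib.Helper66

theorem FrobData.fpf' {X : Type*} [Group X] {C N : Subgroup X} (D : FrobData C N) {y x : X}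
    (hy : y ∉ N) (hx : x ∈ N) (hcomm : Commute x y) : x = 1 := by
  obtain ⟨g, c, hc, rfl⟩ := D.cover hy
  have hc1 : c ≠ 1 := by
    rintro rfl
    apply hy
    simp
  have h1 : g⁻¹ * x * g ∈ N := by
    have := D.normal.conj_mem x hx g⁻¹
    simpa using this
  have h2 : Commute (g⁻¹ * x * g) c := by
    have h3 := hcomm.eq
    change g⁻¹ * x * g * c = c * (g⁻¹ * x * g)
    calc g⁻¹ * x * g * c = g⁻¹ * (x * (g * c * g⁻¹)) * g := by group
      _ = g⁻¹ * ((g * c * g⁻¹) * x) * g := by rw [h3]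
      _ = c * (g⁻¹ * x * g) := by group
  have h3 := D.fpf hc hc1 h1 h2
  have h4 : x = g * (g⁻¹ * x * g) * g⁻¹ := by group
  rw [h4, h3]; group

theorem commute_of_nilpotent {Y : Type*} [Group Y] [Finite Y] [Group.IsNilpotent Y] {p q : ℕ}
    (hp : p.Prime) (hq : q.Prime) (hpq : p ≠ q) {x y : Y} (hx : orderOf x = p)
    (hy : orderOf y = q) : Commute x y := by
  have := Fact.mk hp
  have := Fact.mk hq
  let P : Sylow p Y := default
  let Q : Sylow q Y := default
  have hP : (P : Subgroup Y).Normal := inferInstance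
  have hQ : (Q : Subgroup Y).Normal := inferInstance
  have hxP : x ∈ (P : Subgroup Y) := by
    have h1 := Cfsg.Agent.S3997.sylow_eq_of_normal p P hP
    have h2 : x ∈ ((P : Subgroup Y) : Set Y) := by rw [h1]; exact ⟨1, by rw [hx, pow_one]⟩
    exact h2
  have hyQ : y ∈ (Q : Subgroup Y) := by
    have h1 := Cfsg.Agent.S3997.sylow_eq_of_normal q Q hQ
    have h2 : y ∈ ((Q : Subgroup Y) : Set Y) := by rw [h1]; exact ⟨1, by rw [hy, pow_one]⟩
    exact h2
  exact Subgroup.commute_of_normal_of_disjoint _ _ hP hQ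
    (IsPGroup.disjoint_of_ne p q hpq _ _ P.isPGroup' Q.isPGroup') x y hxP hyQ

theorem exists_orderOf_mul_of_nilpotent {G : Type*} [Group G] [Finite G] (S : Subgroup G)
    [Group.IsNilpotent S] {p q : ℕ} (hp : p.Prime) (hq : q.Prime) (hpq : p ≠ q)
    (hpS : p ∣ Nat.card S) (hqS : q ∣ Nat.card S) : ∃ g : G, orderOf g = p * q := by
  have := Fact.mk hp
  have := Fact.mk hq
  obtain ⟨x, hx⟩ := exists_prime_orderOf_dvd_card' (G := S) p hpS
  obtain ⟨y, hy⟩ := exists_prime_orderOf_dvd_card' (G := S) q hqS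
  have hc := commute_of_nilpotent hp hq hpq hx hy
  have h1 := hc.orderOf_mul_eq_mul_orderOf_of_coprime
    (by rw [hx, hy]; exact (Nat.coprime_primes hp hq).mpr hpq)
  refine ⟨((x * y : S) : G), ?_⟩
  rw [Subgroup.orderOf_coe, h1, hx, hy]

theorem FC.unique_of_nilpotent {Y : Type*} [Group Y] [Finite Y] (h : FC Y) [Group.IsNilpotent Y]
    {p : ℕ} (hp : p.Prime) {x y : Y} (hx : orderOf x = p) (hy : orderOf y = p) :
    y ∈ Subgroup.zpowers x := by
  have := Fact.mk hp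
  let P : Sylow p Y := default
  have hP : (P : Subgroup Y).Normal := inferInstance
  have h1 := Cfsg.Agent.S3997.sylow_eq_of_normal p P hP
  have hxP : x ∈ (P : Subgroup Y) := by
    have h2 : x ∈ ((P : Subgroup Y) : Set Y) := by rw [h1]; exact ⟨1, by rw [hx, pow_one]⟩
    exact h2
  have hyP : y ∈ (P : Subgroup Y) := by
    have h2 : y ∈ ((P : Subgroup Y) : Set Y) := by rw [h1]; exact ⟨1, by rw [hy, pow_one]⟩
    exact h2
  exact h.mem_of_pgroup (P : Subgroup Y) P.isPGroup' hxP hyP hx hy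

/-- a nilpotent normal subgroup of order divisible by `p` contains a nontrivial abelian `p`-subgroup
normal in the whole group. -/
theorem exists_abelian_normal_p {G : Type*} [Group G] [Finite G] (H : Subgroup G) [H.Normal]
    [Group.IsNilpotent H] {p : ℕ} [hp : Fact p.Prime] (hpH : p ∣ Nat.card H) :
    ∃ V : Subgroup G, V ≤ H ∧ V.Normal ∧ IsMulCommutative V ∧ V ≠ ⊥ ∧ IsPGroup p V := by
  let P₀ : Sylow p H := default
  have hn : (P₀ : Subgroup H).Normal := inferInstance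
  have hch : (P₀ : Subgroup H).Characteristic := Sylow.characteristic_of_normal P₀ hn
  set P : Subgroup G := (P₀ : Subgroup H).map H.subtype with hPdef
  have hPn : P.Normal := Cfsg.Agent.Lib.Lead.normal_map_subtype_of_characteristic H (P₀ : Subgroup H)
  have hPp : IsPGroup p P := P₀.isPGroup'.map _
  have hPH : P ≤ H := Subgroup.map_subtype_le _
  have hP0 : P ≠ ⊥ := by
    intro h
    rw [hPdef, Subgroup.map_eq_bot_iff_of_injective _ H.subtype_injective] at h
    have h1 := P₀.card_eq_multiplicity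
    rw [h] at h1
    simp only [Subgroup.card_bot] at h1
    have := Nat.one_lt_pow (hp.out.factorization_pos_of_dvd Nat.card_pos.ne' hpH).ne' hp.out.one_lt
    omega
  set V := (Subgroup.center P).map P.subtype with hV
  have hVn : V.Normal := Cfsg.Agent.Lib.Lead.normal_map_subtype_of_characteristic P (Subgroup.center _)
  have hVP : V ≤ P := Subgroup.map_subtype_le _
  have hVc : IsMulCommutative V := by
    refine ⟨⟨fun a b => Subtype.ext ?_⟩⟩
    obtain ⟨z, hz, hza⟩ := a.2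
    have := Subgroup.mem_center_iff.mp hz ⟨b, hVP b.2⟩
    have h2 := congrArg Subtype.val this
    simp only [Subgroup.coe_mul] at h2
    change (a : G) * b = b * a
    rw [← hza]
    exact h2.symm
  have hV0 : V ≠ ⊥ := by
    have : Nontrivial P := (Subgroup.nontrivial_iff_ne_bot _).mpr hP0
    have hnt := hPp.center_nontrivial
    intro h
    rw [hV, Subgroup.map_eq_bot_iff_of_injective _ (Subgroup.subtype_injective _)] at h
    exact (Subgroup.nontrivial_iff_ne_bot _).mp hnt h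
  exact ⟨V, hVP.trans hPH, hVn, hVc, hV0, hPp.to_le hVP⟩

theorem mem_normalizer_of_conj_mem {G : Type*} [Group G] [Finite G] (C : Subgroup G) (g : G)
    (h : ∀ x ∈ C, g * x * g⁻¹ ∈ C) : g ∈ Subgroup.normalizer (C : Set G) := by
  let f : C → C := fun x => ⟨g * x * g⁻¹, h x x.2⟩
  have hf : Function.Injective f := by
    intro a b hab
    have h1 : g * a * g⁻¹ = g * b * g⁻¹ := congrArg Subtype.val hab
    exact Subtype.ext (mul_left_cancel (mul_right_cancel h1))
  have hs := Finite.injective_iff_surjective.mp hf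
  rw [Subgroup.mem_normalizer_iff]
  intro x
  refine ⟨h x, fun hx => ?_⟩
  obtain ⟨a, ha⟩ := hs ⟨_, hx⟩
  have h1 : g * a * g⁻¹ = g * x * g⁻¹ := congrArg Subtype.val ha
  have h2 : (a : G) = x := mul_left_cancel (mul_right_cancel h1)
  rw [← h2]
  exact a.2

/-- internal description of a 2-Frobenius group. -/
structure TF {G : Type*} [Group G] (H K C D : Subgroup G) : Prop where
  hHK : H ≤ K
  hCK : C ≤ K
  infHC : H ⊓ C = ⊥
  K_eq : ∀ x ∈ K, ∃ h ∈ H, ∃ c ∈ C, x = h * c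
  DN : D ≤ Subgroup.normalizer (C : Set G)
  infDK : D ⊓ K = ⊥
  G_eq : ∀ g : G, ∃ k ∈ K, ∃ d ∈ D, g = k * d
  fix1 : ∀ x ∈ K, x ∉ H → ∀ h ∈ H, Commute h x → h = 1
  fix2 : ∀ y : G, y ∉ K → ∀ x ∈ K, Commute x y → x ∈ H
  C_ne : C ≠ ⊥
  D_ne : D ≠ ⊥
  nilH : Group.IsNilpotent H
  nilC : Group.IsNilpotent C
  uniq : ∀ p : ℕ, p.Prime → ∀ x ∈ C, ∀ y ∈ C, orderOf x = p → orderOf y = p →
    y ∈ Subgroup.zpowers x
  fixV : ∀ V : Subgroup G, V ≤ H → V.Normal → IsMulCommutative V → V ≠ ⊥ →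
    V ⊓ Subgroup.centralizer (D : Set G) ≠ ⊥
  cardC : Nat.card C = Nat.card (K ⧸ H.subgroupOf K)
  copHC : (Nat.card H).Coprime (Nat.card C)
  copCK : (Nat.card C).Coprime K.index

theorem exists_TF {G : Type*} [Group G] [Finite G] (H K : Subgroup G) [H.Normal] [K.Normal]
    (hlt : H < K)
    (hK : ∃ C : Subgroup ↥K, Cfsg.IsFrobeniusComplement C ∧
      Cfsg.frobeniusKernel C = (H.subgroupOf K : Set ↥K))
    (hGH : ∃ C : Subgroup (G ⧸ H), Cfsg.IsFrobeniusComplement C ∧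
      Cfsg.frobeniusKernel C = (K.map (QuotientGroup.mk' H) : Set (G ⧸ H))) :
    ∃ C D : Subgroup G, TF H K C D := by
  have hHK : H ≤ K := hlt.le
  obtain ⟨C₁, hC₁, hker₁⟩ := hK
  obtain ⟨C₂, hC₂, hker₂⟩ := hGH
  obtain ⟨N₁, D₁⟩ := exists_frobData C₁ hC₁
  have hN₁ : N₁ = H.subgroupOf K := SetLike.coe_injective (D₁.set_eq.trans hker₁)
  rw [hN₁] at D₁
  obtain ⟨N₂, D₂⟩ := exists_frobData C₂ hC₂
  have hN₂ : N₂ = K.map (QuotientGroup.mk' H) := SetLike.coe_injective (D₂.set_eq.trans hker₂)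
  rw [hN₂] at D₂
  clear hN₁ hN₂ N₁ N₂
  have fix1 : ∀ x ∈ K, x ∉ H → ∀ h ∈ H, Commute h x → h = 1 := by
    intro x hx hxH h hh hc
    have := D₁.fpf' (y := ⟨x, hx⟩) (x := ⟨h, hHK hh⟩) (fun h1 => hxH h1) hh (Subtype.ext hc.eq)
    exact congrArg Subtype.val this
  have fix2 : ∀ y : G, y ∉ K → ∀ x ∈ K, Commute x y → x ∈ H := by
    intro y hy x hx hc
    have h1 : QuotientGroup.mk' H y ∉ K.map (QuotientGroup.mk' H) := by
      rintro ⟨k, hk, hky⟩
      apply hy
      have h2 : k⁻¹ * y ∈ H := QuotientGroup.eq.mp hky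
      have h3 : y = k * (k⁻¹ * y) := by group
      rw [h3]
      exact mul_mem hk (hHK h2)
    have h2 := D₂.fpf' (y := QuotientGroup.mk' H y) (x := QuotientGroup.mk' H x) h1 ⟨x, hx, rfl⟩
      (hc.map (QuotientGroup.mk' H))
    exact (QuotientGroup.eq_one_iff x).mp h2
  set C : Subgroup G := C₁.map K.subtype with hCdef
  have hCK : C ≤ K := Subgroup.map_subtype_le _
  have infHC : H ⊓ C = ⊥ := by
    rw [eq_bot_iff]
    rintro x ⟨hxH, c, hc, rfl⟩
    have h1 : c ∈ H.subgroupOf K ⊓ C₁ := ⟨hxH, hc⟩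
    rw [D₁.inf_eq_bot, Subgroup.mem_bot] at h1
    rw [h1]; simp
  have K_eq : ∀ x ∈ K, ∃ h ∈ H, ∃ c ∈ C, x = h * c := by
    intro x hx
    obtain ⟨⟨n, c⟩, hnc⟩ := D₁.isCompl.2 ⟨x, hx⟩
    refine ⟨n, n.2, c, ⟨c, c.2, rfl⟩, ?_⟩
    exact (congrArg Subtype.val hnc).symm
  have C_ne : C ≠ ⊥ := by
    intro h
    rw [hCdef, Subgroup.map_eq_bot_iff_of_injective _ K.subtype_injective] at h
    exact D₁.compl.1 h
  obtain ⟨c₀, hc₀C, hc₀1⟩ : ∃ c : G, c ∈ C ∧ c ≠ 1 := by
    obtain ⟨r, hr⟩ := Subgroup.ne_bot_iff_exists_ne_one.mp C_ne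
    exact ⟨r.1, r.2, fun h => hr (Subtype.ext h)⟩
  have hCH : ∀ c ∈ C, c ≠ 1 → c ∉ H := by
    intro c hc hc1 hcH
    have : c ∈ H ⊓ C := ⟨hcH, hc⟩
    rw [infHC, Subgroup.mem_bot] at this
    exact hc1 this
  -- Frattini
  have frat : ∀ g : G, ∃ k ∈ K, k * g ∈ Subgroup.normalizer (C : Set G) := by
    intro g
    let φ : MulAut K := MulAut.conjNormal g
    have h1 := Cfsg.Agent.Lib.Helper56.isFrobeniusComplement_map φ hC₁
    obtain ⟨k, hk⟩ := Cfsg.Agent.S0038.result C₁ (C₁.map φ.toMonoidHom) hC₁ h1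
    refine ⟨k, k.2, ?_⟩
    apply mem_normalizer_of_conj_mem
    rintro _ ⟨c, hc, rfl⟩
    have h2 : MulAut.conj k • (φ c) ∈ MulAut.conj k • (C₁.map φ.toMonoidHom) :=
      Subgroup.smul_mem_pointwise_smul _ _ _ ⟨c, hc, rfl⟩
    rw [hk] at h2
    refine ⟨_, h2, ?_⟩
    simp only [MulAut.smul_def, MulAut.conj_apply, Subgroup.subtype_apply, Subgroup.coe_mul,
      InvMemClass.coe_inv, φ, MulAut.conjNormal_apply]
    group
  set F := Subgroup.normalizer (C : Set G) with hF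
  have hCF : C ≤ F := Subgroup.le_normalizer
  have infFH : ∀ h ∈ H, h ∈ F → h = 1 := by
    intro h hh hhF
    apply fix1 c₀ (hCK hc₀C) (hCH c₀ hc₀C hc₀1) h hh
    have h1 : h * c₀ * h⁻¹ ∈ C := (Subgroup.mem_normalizer_iff.mp hhF c₀).mp hc₀C
    have h2 : h * c₀ * h⁻¹ * c₀⁻¹ ∈ H ⊓ C := by
      refine ⟨?_, C.mul_mem h1 (C.inv_mem hc₀C)⟩
      have h3 : c₀ * h⁻¹ * c₀⁻¹ ∈ H := ‹H.Normal›.conj_mem _ (inv_mem hh) c₀
      have h4 : h * c₀ * h⁻¹ * c₀⁻¹ = h * (c₀ * h⁻¹ * c₀⁻¹) := by group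
      rw [h4]
      exact mul_mem hh h3
    rw [infHC, Subgroup.mem_bot] at h2
    have h3 : h * c₀ = c₀ * h := by
      have := mul_inv_eq_one.mp h2
      exact mul_inv_eq_iff_eq_mul.mp this
    exact h3
  have infKF : K ⊓ F = C := by
    apply le_antisymm
    · rintro x ⟨hxK, hxF⟩
      obtain ⟨h, hh, c, hc, rfl⟩ := K_eq x hxK
      have h1 : h ∈ F := by
        have : h = h * c * c⁻¹ := by group
        rw [this]
        exact mul_mem hxF (inv_mem (hCF hc))
      rw [infFH h hh h1, one_mul]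
      exact hc
    · exact le_inf hCK hCF
  -- cardinalities
  have cardC₁ : Nat.card C = Nat.card C₁ := Subgroup.card_map_of_injective K.subtype_injective
  have cardC : Nat.card C = Nat.card (K ⧸ H.subgroupOf K) := by
    rw [cardC₁]
    exact D₁.isCompl.symm.index_eq_card.symm
  have cardH : Nat.card (H.subgroupOf K) = Nat.card H :=
    Nat.card_congr (Subgroup.subgroupOfEquivOfLe hHK).toEquiv
  have copHC : (Nat.card H).Coprime (Nat.card C) := by
    rw [cardC₁, ← cardH]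
    exact D₁.coprime
  have idxN₂ : (K.map (QuotientGroup.mk' H)).index = K.index := by
    rw [Subgroup.index_map, QuotientGroup.ker_mk', sup_eq_left.mpr hHK,
      MonoidHom.range_eq_top.mpr (QuotientGroup.mk'_surjective H)]
    simp
  have cardC₂ : Nat.card C₂ = K.index := by
    rw [← idxN₂]
    exact D₂.isCompl.symm.index_eq_card.symm
  have cardN₂ : Nat.card (K.map (QuotientGroup.mk' H)) = Nat.card C := by
    have e1 := (H.subgroupOf K).card_mul_index
    have e3 := K.card_mul_index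
    have e4 := H.card_mul_index
    have e5 := (K.map (QuotientGroup.mk' H)).card_mul_index
    have e7 : (H.subgroupOf K).index = Nat.card C := cardC.symm
    have e8 : Nat.card (G ⧸ H) = H.index := rfl
    rw [cardH, e7] at e1
    rw [idxN₂, e8] at e5
    rw [← e1, ← e4, ← e5, mul_assoc] at e3
    have e9 := Nat.eq_of_mul_eq_mul_left Nat.card_pos e3
    exact (Nat.eq_of_mul_eq_mul_right (Nat.pos_of_ne_zero Subgroup.index_ne_zero_of_finite) e9).symm
  have copCK : (Nat.card C).Coprime K.index := by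
    rw [← cardN₂, ← cardC₂]
    exact D₂.coprime
  have hKtop : K ≠ ⊤ := by
    intro h
    have h1 : Nat.card C₂ = 1 := by rw [cardC₂, h]; simp
    exact D₂.compl.1 (Subgroup.card_eq_one.mp h1)
  -- the complement D
  set C' := C.subgroupOf F with hC'
  have hC'n : C'.Normal := Subgroup.normal_in_normalizer
  have cardC' : Nat.card C' = Nat.card C := Nat.card_congr (Subgroup.subgroupOfEquivOfLe hCF).toEquiv
  have idxC' : C'.index ∣ K.index := by
    have h1 : C'.index = C.relIndex F := rfl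
    rw [h1, ← infKF, Subgroup.inf_relIndex_right]
    exact Subgroup.relIndex_dvd_index_of_normal K F
  obtain ⟨D', hD'⟩ := Subgroup.exists_right_complement'_of_coprime (N := C')
    (by rw [cardC']; exact Nat.Coprime.coprime_dvd_right idxC' copCK)
  set D : Subgroup G := D'.map F.subtype with hDdef
  have DN : D ≤ F := Subgroup.map_subtype_le _
  have infDK : D ⊓ K = ⊥ := by
    rw [eq_bot_iff]
    rintro x ⟨⟨d, hd, rfl⟩, hxK⟩
    have h1 : (d : G) ∈ K ⊓ F := ⟨hxK, d.2⟩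
    rw [infKF] at h1
    have h2 : d ∈ C' ⊓ D' := ⟨h1, hd⟩
    rw [hD'.disjoint.eq_bot, Subgroup.mem_bot] at h2
    rw [h2]; simp
  have G_eq : ∀ g : G, ∃ k ∈ K, ∃ d ∈ D, g = k * d := by
    intro g
    obtain ⟨k, hk, hkg⟩ := frat g
    obtain ⟨⟨c, d⟩, hcd⟩ := hD'.2 ⟨k * g, hkg⟩
    have h1 : ((c : F) : G) * ((d : F) : G) = k * g := congrArg Subtype.val hcd
    refine ⟨k⁻¹ * ((c : F) : G), mul_mem (inv_mem hk) (hCK c.2), ((d : F) : G), ⟨d, d.2, rfl⟩, ?_⟩
    rw [mul_assoc, h1]; group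
  have D_ne : D ≠ ⊥ := by
    intro h
    apply hKtop
    rw [eq_top_iff]
    intro g _
    obtain ⟨k, hk, d, hd, rfl⟩ := G_eq g
    rw [h, Subgroup.mem_bot] at hd
    rw [hd, mul_one]
    exact hk
  have hDK : ∀ d ∈ D, d ≠ 1 → d ∉ K := by
    intro d hd hd1 hdK
    have : d ∈ D ⊓ K := ⟨hd, hdK⟩
    rw [infDK, Subgroup.mem_bot] at this
    exact hd1 this
  have hFD := Cfsg.Agent.Lib.Helper68.isFrobeniusComplement_of_fpf C' D'
    (by
      intro h
      have : Nat.card C = 1 := by rw [← cardC', h]; simp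
      exact C_ne (Subgroup.card_eq_one.mp this))
    (by
      intro h
      apply D_ne
      rw [hDdef, h]; simp)
    hD'.sup_eq_top hD'.disjoint.eq_bot
    (by
      intro h hh hh1 n hn hnh
      have h1 : ((h : F) : G) ∉ K := hDK _ ⟨h, hh, rfl⟩ (fun h2 => hh1 (Subtype.ext h2))
      have h2 : Commute (n : G) (h : G) := by
        have h3 : (n : G) * h * (n : G)⁻¹ = h := congrArg Subtype.val hnh
        exact mul_inv_eq_iff_eq_mul.mp h3
      have h3 := fix2 _ h1 _ (hCK hn) h2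
      have h4 : (n : G) ∈ H ⊓ C := ⟨h3, hn⟩
      rw [infHC, Subgroup.mem_bot] at h4
      exact Subtype.ext h4)
  obtain ⟨N₃, D₃⟩ := exists_frobData D' hFD.1
  have hN₃ : N₃ = C' := SetLike.coe_injective (D₃.set_eq.trans hFD.2)
  rw [hN₃] at D₃
  have nilC' : Group.IsNilpotent C' := D₃.nilp
  have nilC : Group.IsNilpotent C := Group.nilpotent_of_mulEquiv (Subgroup.subgroupOfEquivOfLe hCF)
  have nilC₁ : Group.IsNilpotent C₁ :=
    Group.nilpotent_of_mulEquiv (C₁.equivMapOfInjective K.subtype K.subtype_injective).symm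
  have nilH : Group.IsNilpotent H := by
    have := D₁.nilp
    exact Group.nilpotent_of_mulEquiv (Subgroup.subgroupOfEquivOfLe hHK)
  have uniq : ∀ p : ℕ, p.Prime → ∀ x ∈ C, ∀ y ∈ C, orderOf x = p → orderOf y = p →
      y ∈ Subgroup.zpowers x := by
    rintro p hp _ ⟨x, hx, rfl⟩ _ ⟨y, hy, rfl⟩ hxo hyo
    have h1 := D₁.fc.unique_of_nilpotent hp (x := ⟨x, hx⟩) (y := ⟨y, hy⟩)
      (by rw [Subgroup.orderOf_mk, ← hxo]; exact (Subgroup.orderOf_coe x).symm)
      (by rw [Subgroup.orderOf_mk, ← hyo]; exact (Subgroup.orderOf_coe y).symm)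
    obtain ⟨k, hk⟩ := Subgroup.mem_zpowers_iff.mp h1
    rw [Subgroup.mem_zpowers_iff]
    refine ⟨k, ?_⟩
    have h2 := congrArg (fun u : C₁ => ((u : K) : G)) hk
    simpa using h2
  have fixV : ∀ V : Subgroup G, V ≤ H → V.Normal → IsMulCommutative V → V ≠ ⊥ →
      V ⊓ Subgroup.centralizer (D : Set G) ≠ ⊥ := by
    intro V hVH hVn hVc hV0
    apply Cfsg.Agent.S0666.result V F hVc hV0 _ D' hFD.1
    · rw [hFD.2]
      have h1 : Nat.card ((C' : Set F)) = Nat.card C' := rfl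
      rw [h1, cardC']
      exact Nat.Coprime.coprime_dvd_left (Subgroup.card_dvd_of_le hVH) copHC
    · rw [hFD.2, eq_bot_iff]
      rintro v ⟨hvV, hvc⟩
      rw [Subgroup.mem_bot]
      apply fix1 c₀ (hCK hc₀C) (hCH c₀ hc₀C hc₀1) v (hVH hvV)
      have := Subgroup.mem_centralizer_iff.mp hvc c₀ ⟨⟨c₀, hCF hc₀C⟩, hc₀C, rfl⟩
      exact this.symm
    · rw [Subgroup.normalizer_eq_top_iff.mpr hVn]; exact le_top
  exact ⟨C, D, ⟨hHK, hCK, infHC, K_eq, DN, infDK, G_eq, fix1, fix2, C_ne, D_ne, nilH, nilC, uniq,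
    fixV, cardC, copHC, copCK⟩⟩

theorem mem_of_coprime_index {X : Type*} [Group X] [Finite X] (N : Subgroup X) [N.Normal] (x : X)
    (h : (orderOf x).Coprime N.index) : x ∈ N := by
  have h1 : orderOf (QuotientGroup.mk' N x) ∣ orderOf x := orderOf_map_dvd _ x
  have h2 : orderOf (QuotientGroup.mk' N x) ∣ N.index := orderOf_dvd_natCard _
  have h3 := Nat.dvd_gcd h1 h2
  rw [h] at h3
  have h4 := orderOf_eq_one_iff.mp (Nat.dvd_one.mp h3)
  exact (QuotientGroup.eq_one_iff x).mp h4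

namespace TF

variable {G : Type*} [Group G] [Finite G] {H K C D : Subgroup G}

theorem fpfD (T : TF H K C D) {d c : G} (hd : d ∈ D) (hd1 : d ≠ 1) (hc : c ∈ C)
    (hcomm : Commute c d) : c = 1 := by
  have h1 : d ∉ K := by
    intro hdK
    have : d ∈ D ⊓ K := ⟨hd, hdK⟩
    rw [T.infDK, Subgroup.mem_bot] at this
    exact hd1 this
  have h2 := T.fix2 d h1 c (T.hCK hc) hcomm
  have h3 : c ∈ H ⊓ C := ⟨h2, hc⟩
  rw [T.infHC, Subgroup.mem_bot] at h3
  exact h3

theorem conj_mem (T : TF H K C D) {d c : G} (hd : d ∈ D) (hc : c ∈ C) : d * c * d⁻¹ ∈ C :=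
  (Subgroup.mem_normalizer_iff.mp (T.DN hd) c).mp hc

theorem exists_D (T : TF H K C D) : ∃ d ∈ D, d ≠ 1 := by
  obtain ⟨r, hr⟩ := Subgroup.ne_bot_iff_exists_ne_one.mp T.D_ne
  exact ⟨r.1, r.2, fun h => hr (Subtype.ext h)⟩

theorem orderOf_conj (d c : G) : orderOf (d * c * d⁻¹) = orderOf c := by
  have := (MulAut.conj d).orderOf_eq c
  simpa using this

theorem odd (T : TF H K C D) : Odd (Nat.card C) := by
  by_contra hcon
  rw [Nat.not_odd_iff_even] at hcon
  have : Fact (Nat.Prime 2) := ⟨Nat.prime_two⟩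
  obtain ⟨z, hz⟩ := exists_prime_orderOf_dvd_card' (G := C) 2 (even_iff_two_dvd.mp hcon)
  have hz' : orderOf (z : G) = 2 := by rw [Subgroup.orderOf_coe, hz]
  obtain ⟨d, hd, hd1⟩ := T.exists_D
  have h1 := T.uniq 2 Nat.prime_two z z.2 _ (T.conj_mem hd z.2) hz' (by rw [orderOf_conj, hz'])
  obtain ⟨k, hk⟩ := mem_powers_iff_mem_zpowers.mpr h1
  have hk' : (z : G) ^ k = d * z * d⁻¹ := hk
  have h2 : d * z * d⁻¹ = z := by
    rw [← hk', ← pow_mod_orderOf, hz']
    rcases Nat.mod_two_eq_zero_or_one k with h | h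
    · exfalso
      rw [← pow_mod_orderOf, hz', h, pow_zero] at hk'
      have h3 : orderOf (d * z * d⁻¹) = 2 := by rw [orderOf_conj, hz']
      rw [← hk', orderOf_one] at h3
      omega
    · rw [h, pow_one]
  have h3 : Commute (z : G) d := (mul_inv_eq_iff_eq_mul.mp h2).symm
  have h4 := T.fpfD hd hd1 z.2 h3
  rw [h4, orderOf_one] at hz'
  omega

theorem exists_z (T : TF H K C D) : ∃ p : ℕ, p.Prime ∧ ∃ z ∈ C, orderOf z = p ∧
    ∀ d ∈ D, ∃ k : ℕ, d * z * d⁻¹ = z ^ k := by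
  have h1 : Nat.card C ≠ 1 := fun h => T.C_ne (Subgroup.card_eq_one.mp h)
  obtain ⟨p, hp, hpd⟩ := Nat.exists_prime_and_dvd h1
  have := Fact.mk hp
  obtain ⟨z, hz⟩ := exists_prime_orderOf_dvd_card' (G := C) p hpd
  have hz' : orderOf (z : G) = p := by rw [Subgroup.orderOf_coe, hz]
  refine ⟨p, hp, z, z.2, hz', ?_⟩
  intro d hd
  have h1 := T.uniq p hp z z.2 _ (T.conj_mem hd z.2) hz' (by rw [orderOf_conj, hz'])
  obtain ⟨k, hk⟩ := mem_powers_iff_mem_zpowers.mpr h1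
  exact ⟨k, hk.symm⟩

theorem D_comm (T : TF H K C D) : IsMulCommutative D := by
  obtain ⟨p, hp, z, hzC, hz, hconj⟩ := T.exists_z
  have hz1 : z ≠ 1 := by
    rintro rfl
    rw [orderOf_one] at hz
    exact hp.one_lt.ne hz
  refine ⟨⟨fun a b => Subtype.ext ?_⟩⟩
  obtain ⟨k₁, h1⟩ := hconj a a.2
  obtain ⟨k₂, h2⟩ := hconj b b.2
  change (a : G) * b = b * a
  by_contra hne
  have hw : ((b : G) * a)⁻¹ * ((a : G) * b) ∈ D :=
    mul_mem (inv_mem (mul_mem b.2 a.2)) (mul_mem a.2 b.2)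
  have hw1 : ((b : G) * a)⁻¹ * ((a : G) * b) ≠ 1 := by
    intro h
    exact hne (inv_mul_eq_one.mp h).symm
  apply hz1
  apply T.fpfD hw hw1 hzC
  have e1 : ((a : G) * b) * z * ((a : G) * b)⁻¹ = z ^ (k₁ * k₂) := by
    calc ((a : G) * b) * z * ((a : G) * b)⁻¹ = a * (b * z * (b : G)⁻¹) * (a : G)⁻¹ := by group
      _ = a * z ^ k₂ * (a : G)⁻¹ := by rw [h2]
      _ = (a * z * (a : G)⁻¹) ^ k₂ := by rw [conj_pow]
      _ = z ^ (k₁ * k₂) := by rw [h1, ← pow_mul]
  have e2 : ((b : G) * a) * z * ((b : G) * a)⁻¹ = z ^ (k₁ * k₂) := by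
    calc ((b : G) * a) * z * ((b : G) * a)⁻¹ = b * (a * z * (a : G)⁻¹) * (b : G)⁻¹ := by group
      _ = b * z ^ k₁ * (b : G)⁻¹ := by rw [h1]
      _ = (b * z * (b : G)⁻¹) ^ k₁ := by rw [conj_pow]
      _ = z ^ (k₁ * k₂) := by rw [h2, ← pow_mul, mul_comm]
  have e3 : ((a : G) * b) * z = z ^ (k₁ * k₂) * ((a : G) * b) := mul_inv_eq_iff_eq_mul.mp e1
  have e4 : ((b : G) * a) * z = z ^ (k₁ * k₂) * ((b : G) * a) := mul_inv_eq_iff_eq_mul.mp e2
  change z * (((b : G) * a)⁻¹ * ((a : G) * b)) = ((b : G) * a)⁻¹ * ((a : G) * b) * z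
  have e5 : z * ((b : G) * a)⁻¹ = ((b : G) * a)⁻¹ * z ^ (k₁ * k₂) := by
    rw [eq_inv_mul_iff_mul_eq, ← mul_assoc, e4, mul_assoc, mul_inv_cancel, mul_one]
  rw [← mul_assoc, e5, mul_assoc, mul_assoc, e3]

theorem D_cyclic (T : TF H K C D) : IsCyclic D := by
  obtain ⟨p, hp, z, hzC, hz, hconj⟩ := T.exists_z
  have hz1 : z ≠ 1 := by
    rintro rfl
    rw [orderOf_one] at hz
    exact hp.one_lt.ne hz
  apply Cfsg.Agent.S0041.result D (Subgroup.zpowers z)
  · intro h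
    exact hz1 (Subgroup.zpowers_eq_bot.mp h)
  · intro d hd
    apply mem_normalizer_of_conj_mem
    intro x hx
    obtain ⟨k, rfl⟩ := Subgroup.mem_zpowers_iff.mp hx
    obtain ⟨j, hj⟩ := hconj d hd
    rw [← conj_zpow, hj]
    exact zpow_mem (pow_mem (Subgroup.mem_zpowers z) _) _
  · intro a ha ha1
    rw [eq_bot_iff]
    rintro x ⟨hx, hxa⟩
    rw [Subgroup.mem_bot]
    apply T.fpfD ha ha1 ((Subgroup.zpowers_le.mpr hzC) hx)
    exact Subgroup.mem_centralizer_singleton_iff.mp hxa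
  · left
    exact T.D_comm

theorem surj (T : TF H K C D) [K.Normal] :
    Function.Surjective ((QuotientGroup.mk' K).comp D.subtype) := by
  intro y
  obtain ⟨g, rfl⟩ := QuotientGroup.mk'_surjective K y
  obtain ⟨k, hk, d, hd, rfl⟩ := T.G_eq g
  refine ⟨⟨d, hd⟩, ?_⟩
  simp only [MonoidHom.coe_comp, Function.comp_apply, Subgroup.subtype_apply, map_mul]
  have h1 : QuotientGroup.mk' K k = 1 := (QuotientGroup.eq_one_iff k).mpr hk
  rw [h1, one_mul]

theorem quot_cyclic (T : TF H K C D) [K.Normal] : IsCyclic (G ⧸ K) := by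
  have := T.D_cyclic
  exact isCyclic_of_surjective _ T.surj

theorem cardD (T : TF H K C D) [K.Normal] : Nat.card D = K.index := by
  apply Nat.card_congr
  refine Equiv.ofBijective _ ⟨?_, T.surj⟩
  rw [← MonoidHom.ker_eq_bot_iff, eq_bot_iff]
  intro d hd
  have h1 : (d : G) ∈ K := (QuotientGroup.eq_one_iff _).mp hd
  have h2 : (d : G) ∈ D ⊓ K := ⟨d.2, h1⟩
  rw [T.infDK, Subgroup.mem_bot] at h2
  exact Subtype.ext h2

end TF

end Cfsg.Agent.Lib.Helper66
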